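import Groth.Statements.S4801
-- import your own Groth.Agent.* helpers here
import Groth.Agent.Lib.FlatH4.GenFreeMain
import Mathlib.RingTheory.Flat.Equalizer
import Mathlib.RingTheory.Localization.BaseChange

set_option autoImplicit false
universe u
open TensorProduct
open Cons9

namespace Groth.Agent.S4801

open TensorProduct

variable {R B : Type u} [CommRing R] [IsDomain R] [CommRing B] [Algebra R B]

/-- If a submodule has a flat quotient after inverting `f`, it stays a submodule on fibres off `f`. -/
theorem injective_lTensor_subtype {H : Type u} [AddCommGroup H] [Module R H] (I : Submodule R H) (f : R)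
    (hC : ∀ (R' : Type u) [CommRing R'] [Algebra R R'], IsUnit (algebraMap R R' f) → Module.Free R' (R' ⊗[R] (H ⧸ I)))
    (κ : Type u) [Field κ] [Algebra R κ] (hf : algebraMap R κ f ≠ 0) :
    Function.Injective (I.subtype.lTensor κ) := by
  let R' := Localization.Away f
  haveI : Module.Free R' (R' ⊗[R] (H ⧸ I)) := hC R' (IsLocalization.Away.algebraMap_isUnit f)
  haveI : Module.Flat R R' := IsLocalization.flat R' (Submonoid.powers f)
  haveI : Module.Flat R (R' ⊗[R] (H ⧸ I)) := Module.Flat.trans R R' _
  let ρ : R' →ₐ[R] κ := IsLocalization.liftAlgHom (M := Submonoid.powers f) (S := R') (f := Algebra.ofId R κ)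
    (by rintro ⟨_, n, rfl⟩; rw [map_pow]; exact (Ne.isUnit hf).pow n)
  let a := I.subtype.lTensor R'
  have ha : Function.Injective a := Module.Flat.lTensor_preserves_injective_linearMap _ I.injective_subtype
  have hexact : Function.Exact a (I.mkQ.lTensor R') :=
    lTensor_exact R' (LinearMap.exact_subtype_mkQ I) I.mkQ_surjective
  have hinj : Function.Injective (a.lTensor κ) := by
    exact LinearMap.lTensor_injective_of_exact_of_flat _ (LinearMap.lTensor_surjective R' I.mkQ_surjective) a ha hexact κ
  let j : I →ₗ[R] R' ⊗[R] I := TensorProduct.mk R R' I 1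
  let r : κ ⊗[R] (R' ⊗[R] I) →ₗ[R] κ ⊗[R] I :=
    LinearMap.rTensor I ((LinearMap.mul' R κ).comp (ρ.toLinearMap.lTensor κ)) ∘ₗ
      (TensorProduct.assoc R κ R' I).symm.toLinearMap
  have hr : r ∘ₗ j.lTensor κ = LinearMap.id := TensorProduct.ext' fun c x => by simp [r, j]
  have hcomm : ((TensorProduct.mk R R' H 1).lTensor κ) ∘ₗ I.subtype.lTensor κ = a.lTensor κ ∘ₗ j.lTensor κ :=
    TensorProduct.ext' fun c x => by simp [a, j]
  intro x y hxy
  have h1 : a.lTensor κ (j.lTensor κ x) = a.lTensor κ (j.lTensor κ y) := by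
    rw [← LinearMap.comp_apply, ← hcomm, ← LinearMap.comp_apply (g := j.lTensor κ), ← hcomm,
      LinearMap.comp_apply, LinearMap.comp_apply, hxy]
  have h2 := congrArg r (hinj h1)
  rwa [← LinearMap.comp_apply, ← LinearMap.comp_apply, hr] at h2

/-- A map with kernel killed by `c` is injective on fibres off `c`. -/
theorem injective_lTensor_of_smul {Q I : Type u} [AddCommGroup Q] [Module R Q] [AddCommGroup I] [Module R I]
    (g : Q →ₗ[R] I) (hg : Function.Surjective g) (c : R) (hc : ∀ n ∈ LinearMap.ker g, c • n = 0)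
    (κ : Type u) [Field κ] [Algebra R κ] (hcκ : algebraMap R κ c ≠ 0) : Function.Injective (g.lTensor κ) := by
  have hex := lTensor_exact κ (LinearMap.exact_subtype_ker_map g) hg
  rw [← LinearMap.ker_eq_bot, LinearMap.exact_iff.1 hex, LinearMap.range_eq_bot]
  refine TensorProduct.ext' fun a n => ?_
  have : a = c • (a * (algebraMap R κ c)⁻¹) := by
    rw [Algebra.smul_def, mul_comm a, mul_inv_cancel_left₀ hcκ]
  rw [LinearMap.lTensor_tmul, this, TensorProduct.smul_tmul, Submodule.subtype_apply,
    hc n.1 n.2, TensorProduct.tmul_zero, LinearMap.zero_apply]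


/-- Let R be an integral domain with fraction field K, B an R-algebra of finite presentation, F, G, H
three B-modules of finite presentation and u : F → G, v : G → H homomorphisms of B-modules such that
the generic fibre sequence K ⊗_R F → K ⊗_R G → K ⊗_R H is exact. Then there is a nonzero f ∈ R such
that, for every prime ideal p of R with f ∉ p, the fibre sequence κ(p) ⊗_R F → κ(p) ⊗_R G → κ(p) ⊗_R
H is exact. Affine form: S = Spec R, X = Spec B with B a finitely presented R-algebra, the modules
finitely presented B-modules, and the fibre of a module M at a prime p taken as κ(p) ⊗_R M; the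
published statement, for a morphism of finite presentation and quasi-coherent modules of finite
presentation, is local on S and on X and reduces to this one. -/
theorem result {R B : Type u} [CommRing R] [IsDomain R]
    [CommRing B] [Algebra R B] [Algebra.FinitePresentation R B]
    {F G H : Type u} [AddCommGroup F] [Module B F] [Module R F] [IsScalarTower R B F] [Module.FinitePresentation B F]
    [AddCommGroup G] [Module B G] [Module R G] [IsScalarTower R B G] [Module.FinitePresentation B G]
    [AddCommGroup H] [Module B H] [Module R H] [IsScalarTower R B H] [Module.FinitePresentation B H]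
    (u : F →ₗ[B] G) (v : G →ₗ[B] H)
    (hgen : Function.Exact ((u.restrictScalars R).baseChange (FractionRing R)) ((v.restrictScalars R).baseChange (FractionRing R))) :
    ∃ f : R, f ≠ 0 ∧ ∀ p : PrimeSpectrum R, f ∉ p.asIdeal →
      Function.Exact ((u.restrictScalars R).baseChange p.asIdeal.ResidueField) ((v.restrictScalars R).baseChange p.asIdeal.ResidueField) := by
  classical
  let K := FractionRing R
  haveI : Algebra.FiniteType R B := inferInstance
  let uR := u.restrictScalars R
  let vR := v.restrictScalars R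
  -- pulling elements of the kernel back from the generic fibre
  have hgen' : ∀ d, v d = 0 → ∃ r : R, r ≠ 0 ∧ r • d ∈ LinearMap.range u := by
    intro d hd
    have h0 : (LinearMap.baseChange K vR) ((1 : K) ⊗ₜ[R] d) = 0 := by
      simp [vR, hd]
    obtain ⟨y, hy⟩ := (hgen _).1 h0
    obtain ⟨⟨x, s⟩, hxs⟩ := IsLocalizedModule.surj (nonZeroDivisors R) (TensorProduct.mk R K F 1) y
    have h1 : TensorProduct.mk R K G 1 (u x) = TensorProduct.mk R K G 1 ((s : R) • d) := by
      have h2 := congrArg (LinearMap.baseChange K uR) hxs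
      rw [LinearMap.map_smul_of_tower, hy] at h2
      simpa [uR, Submonoid.smul_def] using h2.symm
    obtain ⟨t, ht⟩ := (IsLocalizedModule.eq_iff_exists (nonZeroDivisors R) (TensorProduct.mk R K G 1)).1 h1
    refine ⟨(t : R) * s, mul_ne_zero (nonZeroDivisors.coe_ne_zero t) (nonZeroDivisors.coe_ne_zero s), ?_⟩
    rw [mul_smul, show (t : R) • (s : R) • d = (t : R) • u x from ht.symm]
    exact ⟨(t : R) • x, LinearMap.map_smul_of_tower u (t : R) x⟩
  -- the composite is killed
  have hvu : ∀ x, ∃ r : R, r ≠ 0 ∧ r • v (u x) = 0 := by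
    intro x
    have h1 : TensorProduct.mk R K H 1 (v (u x)) = TensorProduct.mk R K H 1 0 := by
      rw [map_zero]
      simpa [uR, vR] using (hgen (LinearMap.baseChange K uR ((1 : K) ⊗ₜ[R] x))).2 ⟨_, rfl⟩
    obtain ⟨t, ht⟩ := (IsLocalizedModule.eq_iff_exists (nonZeroDivisors R) (TensorProduct.mk R K H 1)).1 h1
    exact ⟨t, nonZeroDivisors.coe_ne_zero t, by simpa [Submonoid.smul_def] using ht⟩
  obtain ⟨sF, hsF⟩ := Module.Finite.fg_top (R := B) (M := F)
  choose rF hrF hrF' using hvu
  let I := LinearMap.range v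
  let g : G →ₗ[B] I := v.rangeRestrict
  obtain ⟨fC, hfC, hfreeC, -⟩ := FlatH4.exists_free_and_fg_relations (R := R) (S := B) (M := H ⧸ I)
  obtain ⟨fI, hfI, -, m, π, W, hπ, ⟨tW, htW⟩, hWle, hW⟩ := FlatH4.exists_free_and_fg_relations (R := R) (S := B) (M := I)
  choose w hw using fun i => v.surjective_rangeRestrict (π (Pi.single i 1))
  let πt : (Fin m → B) →ₗ[B] G := Fintype.linearCombination B w
  have hπt : ∀ ℓ, g (πt ℓ) = π ℓ := fun ℓ => by
    conv_rhs => rw [pi_eq_sum_univ' ℓ]
    simp only [πt, Fintype.linearCombination_apply, map_sum, map_smul, g, hw]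
  obtain ⟨n, q, hq⟩ := Module.Finite.exists_fin (R := B) (M := G)
  choose ℓ hℓ using fun i => hπ (g (q i))
  let D : Finset G := (Finset.univ.image fun i => q i - πt (ℓ i)) ∪ tW.image πt
  have hD : ∀ d ∈ D, v d = 0 := by
    intro d hd
    rcases Finset.mem_union.1 hd with hd | hd
    · obtain ⟨i, -, rfl⟩ := Finset.mem_image.1 hd
      have : g (q i - πt (ℓ i)) = 0 := by rw [map_sub, hπt, hℓ, sub_self]
      exact congrArg Subtype.val this
    · obtain ⟨l, hl, rfl⟩ := Finset.mem_image.1 hd
      have : g (πt l) = 0 := by rw [hπt]; exact hWle (htW ▸ Submodule.subset_span hl)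
      exact congrArg Subtype.val this
  choose rD hrD hrD' using fun d : D => hgen' d.1 (hD d.1 d.2)
  let r₁ := ∏ d : D, rD d
  let r₂ := ∏ x ∈ sF, rF x
  refine ⟨fC * fI * r₁ * r₂, mul_ne_zero (mul_ne_zero (mul_ne_zero hfC hfI)
    (Finset.prod_ne_zero_iff.2 fun d _ => hrD d)) (Finset.prod_ne_zero_iff.2 fun x _ => hrF x), fun p hp => ?_⟩
  let κ := p.asIdeal.ResidueField
  have hne : algebraMap R κ (fC * fI * r₁ * r₂) ≠ 0 := by
    rwa [Ne, ← RingHom.mem_ker, Ideal.ker_algebraMap_residueField]
  simp only [map_mul, mul_ne_zero_iff] at hne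
  obtain ⟨⟨⟨hκC, hκI⟩, hκ1⟩, hκ2⟩ := hne
  show Function.Exact (uR.lTensor κ) (vR.lTensor κ)
  have hI : Function.Injective ((I.restrictScalars R).subtype.lTensor κ) := by
    refine injective_lTensor_subtype (I.restrictScalars R) fC (fun R' _ _ hu => ?_) κ hκC
    haveI := hfreeC R' hu
    exact Module.Free.of_equiv (((Submodule.Quotient.restrictScalarsEquiv R I).symm).baseChange R R' _ _)
  let gR : G →ₗ[R] ↥(I.restrictScalars R) := vR.codRestrict _ fun x => LinearMap.mem_range_self v x
  have hgR : Function.Surjective gR := fun ⟨_, x, rfl⟩ => ⟨x, rfl⟩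
  have hzero : vR.lTensor κ ∘ₗ uR.lTensor κ = 0 := by
    refine TensorProduct.ext' fun a x => ?_
    have hx : r₂ • v (u x) = 0 := by
      have hζ : (algebraMap R B r₂) • (v ∘ₗ u) = 0 := LinearMap.ext_on hsF fun y hy => by
        show algebraMap R B r₂ • v (u y) = 0
        rw [algebraMap_smul, show r₂ = (∏ z ∈ sF.erase y, rF z) * rF y from (Finset.prod_erase_mul _ _ hy).symm,
          mul_smul, hrF', smul_zero]
      have := DFunLike.congr_fun hζ x
      rwa [LinearMap.smul_apply, LinearMap.comp_apply, algebraMap_smul, LinearMap.zero_apply] at this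
    have : a = r₂ • (a * (algebraMap R κ r₂)⁻¹) := by rw [Algebra.smul_def, mul_comm a, mul_inv_cancel_left₀ hκ2]
    simp only [LinearMap.comp_apply, LinearMap.lTensor_tmul, LinearMap.zero_apply]
    rw [this, TensorProduct.smul_tmul]
    exact (congrArg _ hx).trans (TensorProduct.tmul_zero _ _)
  intro y
  refine ⟨fun hy => ?_, fun ⟨x, hx⟩ => hx ▸ DFunLike.congr_fun hzero x⟩
  have hy' : gR.lTensor κ y = 0 := hI (by
    rw [map_zero, ← LinearMap.comp_apply, ← LinearMap.lTensor_comp]; exact hy)
  obtain ⟨z, rfl⟩ := (lTensor_exact κ (LinearMap.exact_subtype_ker_map gR) hgR _).1 hy'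
  induction z with
  | zero => exact ⟨0, by simp⟩
  | add z z' hz hz' =>
    obtain ⟨x, hx⟩ := hz (by rw [← LinearMap.comp_apply, ← LinearMap.lTensor_comp,
      show vR.comp (LinearMap.ker gR).subtype = 0 from LinearMap.ext fun n => congrArg Subtype.val n.2]; simp)
      (by rw [← LinearMap.comp_apply, ← LinearMap.lTensor_comp,
        show gR.comp (LinearMap.ker gR).subtype = 0 from LinearMap.ext fun n => n.2]; simp)
    obtain ⟨x', hx'⟩ := hz' (by rw [← LinearMap.comp_apply, ← LinearMap.lTensor_comp,
      show vR.comp (LinearMap.ker gR).subtype = 0 from LinearMap.ext fun n => congrArg Subtype.val n.2]; simp)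
      (by rw [← LinearMap.comp_apply, ← LinearMap.lTensor_comp,
        show gR.comp (LinearMap.ker gR).subtype = 0 from LinearMap.ext fun n => n.2]; simp)
    exact ⟨x + x', by rw [map_add, hx, hx', map_add]⟩
  | tmul a nn =>
    obtain ⟨nn, hnn⟩ := nn
    have hvn : g nn = 0 := Subtype.ext (congrArg Subtype.val (show gR nn = 0 from hnn))
    obtain ⟨b, hb⟩ := (Submodule.mem_span_range_iff_exists_fun B).1 (hq ▸ Submodule.mem_top : nn ∈ Submodule.span B (Set.range q))
    let l := ∑ i, b i • ℓ i
    have hl : π l = 0 := by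
      rw [← hvn, ← hb]
      simp [l, map_sum, map_smul, hℓ]
    obtain ⟨k, hk⟩ := hW l hl
    have hmem : (r₁ * fI ^ k) • nn ∈ LinearMap.range u := by
      have hspan : fI ^ k • nn ∈ Submodule.span B (D : Set G) := by
        have e : nn = (∑ i, b i • (q i - πt (ℓ i))) + πt l := by
          simp only [l, map_sum, map_smul, smul_sub, Finset.sum_sub_distrib, hb, sub_add_cancel]
        rw [e, smul_add]
        refine add_mem ?_ ?_
        · refine Submodule.smul_of_tower_mem _ _ (Submodule.sum_mem _ fun i _ => Submodule.smul_mem _ _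
            (Submodule.subset_span (Finset.mem_union_left _ (Finset.mem_image.2 ⟨i, Finset.mem_univ _, rfl⟩))))
        · rw [← LinearMap.map_smul_of_tower]
          have : πt (fI ^ k • l) ∈ Submodule.map πt W := ⟨_, hk, rfl⟩
          rw [← htW, Submodule.map_span] at this
          refine Submodule.span_mono ?_ this
          rintro _ ⟨l', hl', rfl⟩
          exact Finset.mem_union_right _ (Finset.mem_image.2 ⟨l', hl', rfl⟩)
      have hle : Submodule.span B (D : Set G) ≤ Submodule.comap (LinearMap.lsmul B G (algebraMap R B r₁)) (LinearMap.range u) := by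
        rw [Submodule.span_le]
        intro d hd
        show algebraMap R B r₁ • d ∈ LinearMap.range u
        rw [algebraMap_smul, show r₁ = (∏ z ∈ Finset.univ.erase (⟨d, hd⟩ : D), rD z) * rD ⟨d, hd⟩ from
          (Finset.prod_erase_mul _ _ (Finset.mem_univ _)).symm, mul_smul]
        exact Submodule.smul_of_tower_mem _ _ (hrD' ⟨d, hd⟩)
      have h3 := hle hspan
      rw [Submodule.mem_comap, LinearMap.lsmul_apply, algebraMap_smul, smul_smul] at h3
      exact h3
    obtain ⟨x, hx⟩ := hmem
    refine ⟨(a * (algebraMap R κ (r₁ * fI ^ k))⁻¹) ⊗ₜ x, ?_⟩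
    have hne' : algebraMap R κ (r₁ * fI ^ k) ≠ 0 := by
      rw [map_mul, map_pow]; exact mul_ne_zero hκ1 (pow_ne_zero _ hκI)
    have : a = (r₁ * fI ^ k) • (a * (algebraMap R κ (r₁ * fI ^ k))⁻¹) := by
      rw [Algebra.smul_def, mul_comm a, mul_inv_cancel_left₀ hne']
    conv_rhs => rw [LinearMap.lTensor_tmul, this, TensorProduct.smul_tmul]
    simp [uR, hx]

end Groth.Agent.S4801
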