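import Groth.Statements.S4802
import Groth.Agent.Lib.AmpleFib.ProjCons
import Groth.Agent.S9186

set_option autoImplicit false
open CategoryTheory AlgebraicGeometry
universe u
open Cons9

namespace Groth.Agent.S4802

open CategoryTheory.Limits in
/-- Let g : Y ⟶ S and f : X ⟶ Y be such that X and Y are of finite presentation over S (locally of
finite presentation, quasi-compact and quasi-separated). For each point s of S let f_s be the
induced morphism from the fibre of f ≫ g over s to the fibre of g over s. Then the set of s for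
which f_s is an affine morphism is ind-constructible in S. -/
theorem result {X Y S : Scheme.{u}} (f : X ⟶ Y) (g : Y ⟶ S)
    [LocallyOfFinitePresentation g] [QuasiCompact g] [QuasiSeparated g]
    [LocallyOfFinitePresentation (f ≫ g)] [QuasiCompact (f ≫ g)] [QuasiSeparated (f ≫ g)] :
    ProCons.IsIndConstructible {s : S |
      IsAffineHom (pullback.lift (pullback.fst (f ≫ g) (S.fromSpecResidueField s) ≫ f) (pullback.snd (f ≫ g) (S.fromSpecResidueField s))
          ((Category.assoc _ _ _).trans pullback.condition) :
        pullback (f ≫ g) (S.fromSpecResidueField s) ⟶ pullback g (S.fromSpecResidueField s))} := by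
  haveI : QuasiCompact f := QuasiCompact.of_comp f g
  haveI : QuasiSeparated f := QuasiSeparated.of_comp f g
  haveI : LocallyOfFiniteType f := locallyOfFiniteType_of_comp f g
  have hPr : ∀ {A B A' B' : Scheme.{u}} {a : A ⟶ B} {a' : A' ⟶ B'} {w : A' ⟶ A} {v : B' ⟶ B},
      IsPullback w a' a v → IsAffineHom a → IsAffineHom a' := fun h ha =>
    MorphismProperty.of_isPullback (P := @IsAffineHom) h ha
  refine ConsH13.isIndConstructible_of_affine _ fun A σ hσ p hp => ?_
  obtain ⟨C, hC, hpC, hCE⟩ := AmpleFib.exists_constructible_prop f g (fun a => IsAffineHom a) hPr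
    (by
      intro I _ _ D c i₀ hc _ _ _ X₀ Y₀ f₀ g₀ _ _ _ _ _ X Y f g qY qX hY hX hlim
      haveI := hlim
      haveI : CompactSpace Y₀ := QuasiCompact.compactSpace_of_compactSpace g₀
      haveI : QuasiSeparatedSpace Y₀ := quasiSeparatedSpace_of_quasiSeparated g₀
      haveI : CompactSpace X₀ := QuasiCompact.compactSpace_of_compactSpace f₀
      haveI : QuasiSeparatedSpace X₀ := quasiSeparatedSpace_of_quasiSeparated f₀
      exact Groth.Agent.S9186.result D c hc i₀ f₀ g₀ f g qY qX hY hX)
    A σ p (AmpleFib.prop_pt f g (fun a => IsAffineHom a) hPr _ _ (𝟙 _) (Category.id_comp _)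
      (IsPullback.of_hasPullback _ _) (AmpleFib.fibre_isPullback f g _ (S.fromSpecResidueField (σ p)))
      (IsPullback.of_hasPullback _ _) (IsPullback.of_hasPullback _ _) hp)
  exact ⟨C, hC, hpC, fun q hq => AmpleFib.prop_pt f g (fun a => IsAffineHom a) hPr _ _ (𝟙 _) (Category.id_comp _)
      (IsPullback.of_hasPullback _ _) (IsPullback.of_hasPullback _ _)
      (IsPullback.of_hasPullback _ _) (AmpleFib.fibre_isPullback f g _ (S.fromSpecResidueField (σ q))) (hCE q hq)⟩

end Groth.Agent.S4802
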