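import Groth.Statements.S4845
import Groth.Agent.Lib.AmpleFib.IndCons

set_option autoImplicit false
open CategoryTheory AlgebraicGeometry
universe u
open Cons9

namespace Groth.Agent.S4845

open CategoryTheory.Limits in
/-- Let g : Y ⟶ S and f : X ⟶ Y be such that X and Y are of finite presentation over S (locally of
finite presentation, quasi-compact and quasi-separated), and let L be an invertible O_X-module. For
each point s of S let f_s : X_s ⟶ Y_s be the morphism induced on the fibres over s and L_s the
pullback of L to X_s. Then the set of s for which L_s is ample relative to f_s is ind-constructible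
in S. This is the case of relative ampleness (the very ample case is not stated here). -/
theorem result {X Y S : Scheme.{u}} (f : X ⟶ Y) (g : Y ⟶ S)
    [LocallyOfFinitePresentation g] [QuasiCompact g] [QuasiSeparated g]
    [LocallyOfFinitePresentation (f ≫ g)] [QuasiCompact (f ≫ g)] [QuasiSeparated (f ≫ g)]
    (L : X.Modules) (hL : PicF.IsInvertible L) :
    ProCons.IsIndConstructible {s : S |
      RelAmple.IsRelAmple
        (pullback.lift (pullback.fst (f ≫ g) (S.fromSpecResidueField s) ≫ f) (pullback.snd (f ≫ g) (S.fromSpecResidueField s))
          ((Category.assoc _ _ _).trans pullback.condition) :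
        pullback (f ≫ g) (S.fromSpecResidueField s) ⟶ pullback g (S.fromSpecResidueField s))
        ((Scheme.Modules.pullback (pullback.fst (f ≫ g) (S.fromSpecResidueField s))).obj L)} := by
  haveI : QuasiCompact f := QuasiCompact.of_comp f g
  refine ConsH13.isIndConstructible_of_affine _ fun A σ _ p hp => ?_
  obtain ⟨C, hC, hpC, hCE⟩ := AmpleFib.exists_constructible_ampAt f g hL A σ p ((AmpleFib.ampAt_fibre f g hL _).2 hp)
  exact ⟨C, hC, hpC, fun q hq => (AmpleFib.ampAt_fibre f g hL _).1 (hCE q hq)⟩

end Groth.Agent.S4845
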