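import Groth.Statements.S4803
import Groth.Agent.S4845
import Groth.Agent.Lib.RelAmple18.Ops
import Groth.Agent.Lib.Twist.Pullback
import Groth.Agent.Lib.QAGen11.Basic

set_option autoImplicit false
open CategoryTheory AlgebraicGeometry
universe u
open Cons9

namespace Groth.Agent.S4803

open CategoryTheory.Limits in
/-- Let g : Y ⟶ S and f : X ⟶ Y be such that X and Y are of finite presentation over S (locally of
finite presentation, quasi-compact and quasi-separated). For each point s of S let f_s be the
induced morphism from the fibre of f ≫ g over s to the fibre of g over s. Then the set of s for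
which f_s is a quasi-affine morphism is ind-constructible in S. -/
theorem result {X Y S : Scheme.{u}} (f : X ⟶ Y) (g : Y ⟶ S)
    [LocallyOfFinitePresentation g] [QuasiCompact g] [QuasiSeparated g]
    [LocallyOfFinitePresentation (f ≫ g)] [QuasiCompact (f ≫ g)] [QuasiSeparated (f ≫ g)] :
    ProCons.IsIndConstructible {s : S |
      MoreMor.IsQuasiAffineHom (pullback.lift (pullback.fst (f ≫ g) (S.fromSpecResidueField s) ≫ f) (pullback.snd (f ≫ g) (S.fromSpecResidueField s))
          ((Category.assoc _ _ _).trans pullback.condition) :
        pullback (f ≫ g) (S.fromSpecResidueField s) ⟶ pullback g (S.fromSpecResidueField s))} := by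
  have key : ∀ {A B : Scheme.{u}} (a : A ⟶ B),
      MoreMor.IsQuasiAffineHom a ↔ RelAmple.IsRelAmple a (Coh.structureModule A) := fun {A B} a => by
    have h1 : ∀ W : A.Opens, (W : Scheme.{u}).IsQuasiAffine ↔ CohB1.IsAmple ((Coh.structureModule A).restrict W.ι) :=
      fun W => by
        rw [RA.isQuasiAffine_iff_isAmple, RA.isAmple_restrict_iff_pullback]
        exact (RA.isAmple_iso_iff (Twist.pullbackUnitIso W.ι)).symm
    exact and_congr_right fun _ => ⟨fun h V => (h1 _).1 (h V.1 V.2), fun h V hV => (h1 _).2 (h ⟨V, hV⟩)⟩
  convert Groth.Agent.S4845.result f g (Coh.structureModule X) (QAGen11.isInvertible_unit X) using 1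
  refine Set.ext fun s => (key _).trans ⟨AmpleFib.isRelAmple_iso_congr (Twist.pullbackUnitIso _).symm,
    AmpleFib.isRelAmple_iso_congr (Twist.pullbackUnitIso _)⟩

end Groth.Agent.S4803
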