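import Groth.Statements.S4804
import Groth.Agent.Lib.LimH13.Descend

set_option autoImplicit false
universe u
open CategoryTheory AlgebraicGeometry
open Lim8

namespace Groth.Agent.S4804

/-- Let S = lim S_i be a cofiltered limit of schemes with affine transition maps, let f₀ : X₀ ⟶ Y₀ be a
morphism of schemes over a stage S_{i₀}, with Y₀ quasi-compact and f₀ of finite type and
quasi-separated, and let f : X ⟶ Y be the base change of f₀ along S ⟶ S_{i₀} (base changes are
expressed by pullback squares). Then f is separated if and only if, for some index j over i₀, the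
base change f_j : X_j ⟶ Y_j of f₀ along S_j ⟶ S_{i₀} is separated. -/
theorem result {I : Type u} [SmallCategory I] [IsCofiltered I]
    (D : I ⥤ Scheme.{u}) (c : Limits.Cone D) (hc : Limits.IsLimit c)
    [∀ (i j : I) (f : i ⟶ j), IsAffineHom (D.map f)] (i₀ : I)
    {X₀ Y₀ : Scheme.{u}} (f₀ : X₀ ⟶ Y₀) (g₀ : Y₀ ⟶ D.obj i₀) [CompactSpace Y₀]
    [LocallyOfFiniteType f₀] [QuasiCompact f₀] [QuasiSeparated f₀]
    {X Y : Scheme.{u}} (f : X ⟶ Y) (g : Y ⟶ c.pt) (qY : Y ⟶ Y₀) (qX : X ⟶ X₀)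
    (hY : IsPullback qY g g₀ (c.π.app i₀)) (hX : IsPullback qX f f₀ qY) :
    IsSeparated f ↔
      ∃ (j : I) (φ : j ⟶ i₀) (Xj Yj : Scheme.{u}) (fj : Xj ⟶ Yj) (gj : Yj ⟶ D.obj j) (pY : Yj ⟶ Y₀)
        (pX : Xj ⟶ X₀), IsPullback pY gj g₀ (D.map φ) ∧ IsPullback pX fj f₀ pY ∧ IsSeparated fj := by
  constructor
  · intro hf
    exact Descend.exists_stage (@IsSeparated) (@IsSeparated) hc f₀ g₀ f g qY qX hY hX hf
      fun E t e _ q P p r he hq hP hr => Descend.exists_of_affine_base @IsSeparated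
        (@QuasiCompact ⊓ @QuasiSeparated) @IsSeparated (f := f₀) he hq hP hr
        ⟨inferInstance, inferInstance⟩ fun S' X' _ D' t' _ f' c' q' P' p' g' hf' hc' hq' hP' hg' => by
          have := hf'.1
          have := hf'.2
          have : IsSeparated g' := hg'
          exact LimH13.exists_isSeparated hc' hq' hP'
  · rintro ⟨j, φ, Xj, Yj, fj, gj, pY, pX, hYj, hXj, hfj⟩
    have h1 : qY ≫ g₀ = (g ≫ c.π.app j) ≫ D.map φ := by rw [Category.assoc, c.w, hY.w]
    have h2 : qX ≫ f₀ = (f ≫ hYj.lift qY (g ≫ c.π.app j) h1) ≫ pY := by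
      rw [Category.assoc, hYj.lift_fst, hX.w]
    have hsq : IsPullback (hXj.lift qX (f ≫ hYj.lift qY (g ≫ c.π.app j) h1) h2) f fj
        (hYj.lift qY (g ≫ c.π.app j) h1) := by
      refine IsPullback.of_right ?_ (hXj.lift_snd _ _ h2) hXj
      rw [hXj.lift_fst, hYj.lift_fst]
      exact hX
    exact MorphismProperty.of_isPullback hsq hfj

end Groth.Agent.S4804
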