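import Groth.Statements.S4806
import Mathlib


set_option autoImplicit false
universe u
open CategoryTheory AlgebraicGeometry
open Lim8

namespace Groth.Agent.S4806

set_option backward.isDefEq.respectTransparency false
set_option backward.isDefEq.respectTransparency.types false
set_option linter.style.haveILetI false


/-- Let f : X ⟶ Y be a proper morphism of finite presentation. Then f is a closed immersion if and only
if, for every point y of Y, the scheme-theoretic fibre of f at y is empty or its structure morphism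
to Spec κ(y) is an isomorphism. -/
theorem result {X Y : Scheme.{u}} (f : X ⟶ Y) [IsProper f]
    [LocallyOfFinitePresentation f] :
    IsClosedImmersion f ↔ ∀ y : Y, IsEmpty (f.fiber y) ∨ IsIso (f.fiberToSpecResidueField y) := by

  classical
  constructor
  · intro h y
    by_cases he : IsEmpty (f.fiber y)
    · exact Or.inl he
    · refine Or.inr ?_
      haveI : IsClosedImmersion (f.fiberToSpecResidueField y) :=
        MorphismProperty.pullback_snd _ _ h
      rw [not_isEmpty_iff] at he
      haveI : Surjective (f.fiberToSpecResidueField y) :=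
        ⟨fun z => ⟨he.some, Subsingleton.elim _ _⟩⟩
      exact isIso_of_isClosedImmersion_of_surjective _
  intro h
  haveI hcl : ∀ y, IsClosedImmersion (f.fiberToSpecResidueField y) := fun y => by
    rcases h y with he | he
    · haveI := he; infer_instance
    · haveI := he; infer_instance
  have hinj : Function.Injective f := by
    intro a b hab
    obtain ⟨a', ha'⟩ : a ∈ Set.range (f.fiberι (f a)) := by rw [f.range_fiberι]; rfl
    obtain ⟨b', hb'⟩ : b ∈ Set.range (f.fiberι (f a)) := by rw [f.range_fiberι]; exact hab.symm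
    rw [← ha', ← hb', (f.fiberToSpecResidueField (f a)).isClosedEmbedding.injective
      (Subsingleton.elim (f.fiberToSpecResidueField (f a) a') (f.fiberToSpecResidueField (f a) b'))]
  haveI : LocallyQuasiFinite f := LocallyQuasiFinite.of_injective hinj
  haveI : IsFinite f := IsFinite.of_isProper_of_locallyQuasiFinite f
  have hK : ∀ (K : Type _) [Field K] (t : Spec (CommRingCat.of K) ⟶ Y),
      IsClosedImmersion (Limits.pullback.snd f t) := by
    intro K _ t
    rw [← Y.descResidueField_stalkClosedPointTo_fromSpecResidueField K t]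
    set y := t (IsLocalRing.closedPoint K)
    set s := Spec.map (Y.descResidueField (Scheme.stalkClosedPointTo t))
    have hp := IsPullback.of_hasPullback (f.fiberToSpecResidueField y) s
    have hp' := hp.paste_horiz (IsPullback.of_hasPullback f (Y.fromSpecResidueField y))
    have h2 : IsClosedImmersion (Limits.pullback.snd (f.fiberToSpecResidueField y) s) :=
      MorphismProperty.pullback_snd _ _ (hcl y)
    rw [← hp'.isoPullback_inv_snd]
    infer_instance
  rw [isClosedImmersion_iff_isAffineHom]
  refine ⟨inferInstance, fun U hU => ?_⟩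
  have hV : IsAffineOpen (f ⁻¹ᵁ U) := hU.preimage f
  let φ := f.app U
  letI : Algebra Γ(Y, U) Γ(X, f ⁻¹ᵁ U) := φ.hom.toAlgebra
  haveI : Module.Finite Γ(Y, U) Γ(X, f ⁻¹ᵁ U) := IsFinite.finite_app f U hU
  let Q := Γ(X, f ⁻¹ᵁ U) ⧸ LinearMap.range (Algebra.linearMap Γ(Y, U) Γ(X, f ⁻¹ᵁ U))
  suffices hQ : Subsingleton Q by
    intro b
    obtain ⟨a, ha⟩ : b ∈ LinearMap.range (Algebra.linearMap Γ(Y, U) Γ(X, f ⁻¹ᵁ U)) :=
      (Submodule.Quotient.mk_eq_zero _).mp (Subsingleton.elim (Submodule.Quotient.mk b : Q) 0)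
    exact ⟨a, ha⟩
  rw [← _root_.Module.support_eq_empty_iff (R := Γ(Y, U)), Set.eq_empty_iff_forall_notMem]
  intro p hnt
  rw [Module.mem_support_iff_nontrivial_residueField_tensorProduct] at hnt
  let κ := p.asIdeal.ResidueField
  let t : Spec (CommRingCat.of κ) ⟶ Y :=
    Spec.map (CommRingCat.ofHom (algebraMap Γ(Y, U) κ)) ≫ hU.fromSpec
  have hsq : IsPullback hV.fromSpec (Spec.map φ) f hU.fromSpec := by
    refine (isPullback_morphismRestrict f U).flip.of_iso hV.isoSpec (Iso.refl _) hU.isoSpec (Iso.refl _) ?_ ?_ ?_ ?_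
    · rw [Iso.refl_hom, Category.comp_id, IsAffineOpen.isoSpec_hom, hV.toSpecΓ_fromSpec]
    · rw [IsAffineOpen.isoSpec_hom, IsAffineOpen.isoSpec_hom]
      exact (Scheme.Opens.toSpecΓ_naturality f U).symm
    · simp
    · rw [Iso.refl_hom, Category.comp_id, IsAffineOpen.isoSpec_hom, hU.toSpecΓ_fromSpec]
  have hp := IsPullback.of_hasPullback (Spec.map φ) (Spec.map (CommRingCat.ofHom (algebraMap Γ(Y, U) κ)))
  have hp' := hp.flip.paste_vert hsq.flip
  haveI h1 : IsClosedImmersion (Limits.pullback.snd f t) := hK κ t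
  haveI h2 : IsClosedImmersion (Limits.pullback.snd (Spec.map φ) (Spec.map (CommRingCat.ofHom (algebraMap Γ(Y, U) κ)))) := by
    rw [← hp'.flip.isoPullback_hom_snd]
    infer_instance
  have h3 : IsClosedImmersion (Spec.map (CommRingCat.ofHom
      (Algebra.TensorProduct.includeRight (R := Γ(Y, U)) (A := Γ(X, f ⁻¹ᵁ U)) (B := κ)).toRingHom)) := by
    have := pullbackSpecIso_inv_snd Γ(Y, U) Γ(X, f ⁻¹ᵁ U) κ
    have h7 : IsClosedImmersion ((pullbackSpecIso Γ(Y, U) Γ(X, f ⁻¹ᵁ U) κ).inv ≫
        Limits.pullback.snd (Spec.map φ) (Spec.map (CommRingCat.ofHom (algebraMap Γ(Y, U) κ)))) :=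
      inferInstance
    exact this ▸ h7
  have hsurj : Function.Surjective
      (Algebra.TensorProduct.includeRight (R := Γ(Y, U)) (A := Γ(X, f ⁻¹ᵁ U)) (B := κ)) := by
    have h4 := (IsClosedImmersion.hasAffineProperty.iff_of_isAffine.mp h3).2
    intro z
    obtain ⟨c, hc⟩ := h4 ((Scheme.ΓSpecIso _).inv z)
    refine ⟨(Scheme.ΓSpecIso _).hom c, ?_⟩
    have h5 := ConcreteCategory.congr_hom (Scheme.ΓSpecIso_naturality (CommRingCat.ofHom
      (Algebra.TensorProduct.includeRight (R := Γ(Y, U)) (A := Γ(X, f ⁻¹ᵁ U)) (B := κ)).toRingHom)) c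
    simp only [CategoryTheory.comp_apply] at h5
    rw [hc, Iso.inv_hom_id_apply] at h5
    exact h5.symm
  have hker : ∀ z : TensorProduct Γ(Y, U) κ Q, z = 0 := by
    intro z
    induction z using TensorProduct.induction_on with
    | zero => rfl
    | add x y hx hy => rw [hx, hy, add_zero]
    | tmul x q =>
      obtain ⟨b, rfl⟩ := Submodule.Quotient.mk_surjective _ q
      obtain ⟨c, hc⟩ := hsurj (TensorProduct.tmul Γ(Y, U) b x)
      let m : TensorProduct Γ(Y, U) Γ(X, f ⁻¹ᵁ U) κ →ₗ[Γ(Y, U)] TensorProduct Γ(Y, U) κ Q :=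
        (LinearMap.lTensor κ (Submodule.mkQ _)).comp (TensorProduct.comm Γ(Y, U) Γ(X, f ⁻¹ᵁ U) κ).toLinearMap
      have h6 := congrArg m hc
      have hone : ((LinearMap.range (Algebra.linearMap Γ(Y, U) Γ(X, f ⁻¹ᵁ U))).mkQ 1 : Q) = 0 :=
        (Submodule.Quotient.mk_eq_zero _).mpr ⟨1, by simp⟩
      simp only [m, Algebra.TensorProduct.includeRight_apply, LinearMap.comp_apply, LinearEquiv.coe_coe,
        TensorProduct.comm_tmul, LinearMap.lTensor_tmul, hone,
        TensorProduct.tmul_zero] at h6
      exact h6.symm.trans ((congrArg (TensorProduct.tmul Γ(Y, U) c) hone).trans (TensorProduct.tmul_zero _ _))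
  exact not_subsingleton_iff_nontrivial.mpr hnt (subsingleton_of_forall_eq 0 hker)

end Groth.Agent.S4806
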