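import Groth.Statements.S4807
import Mathlib
import Groth.Agent.Lib.QCGen12.Finite

set_option autoImplicit false
universe u
open CategoryTheory AlgebraicGeometry
open Lim8

namespace Groth.Agent.S4807

/-- Let Y be a quasi-compact quasi-separated scheme and f : X ⟶ Y a separated morphism of finite type.
Let X' be the relative normalization of Y in X, the spectrum of the integral closure of O_Y in
f_*O_X, with its canonical morphism g : X ⟶ X'. Then f admits a factorization X ⟶ Y' ⟶ Y into an
immersion followed by a finite morphism if and only if g is an immersion. -/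
theorem result {X Y : Scheme.{u}} (f : X ⟶ Y)
    [CompactSpace Y] [QuasiSeparatedSpace Y] [IsSeparated f] [LocallyOfFiniteType f] [QuasiCompact f] :
    (∃ (Y' : Scheme.{u}) (f' : X ⟶ Y') (u : Y' ⟶ Y), IsImmersion f' ∧ IsFinite u ∧ f' ≫ u = f) ↔
      IsImmersion f.toNormalization := by
  constructor
  · rintro ⟨Y', f', u, hf', hu, h⟩
    haveI : IsImmersion (f.toNormalization ≫ f.normalizationDesc f' u h.symm) := by
      rw [f.toNormalization_normalizationDesc]; exact hf'
    exact IsImmersion.of_comp f.toNormalization (f.normalizationDesc f' u h.symm)
  · intro himm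
    haveI : CompactSpace X := QuasiCompact.compactSpace_of_compactSpace f
    haveI : IsIso f.toNormalization.imageι :=
      (Scheme.isIso_subschemeι_iff_eq_bot _).2 f.ker_toNormalization
    haveI : IsOpenImmersion f.toNormalization := by
      rw [← f.toNormalization.toImage_imageι]; infer_instance
    let P : f.normalization.Opens := f.toNormalization.opensRange
    have hP : IsCompact (P : Set f.normalization) := isCompact_range f.toNormalization.continuous
    let e : X ≅ P.toScheme := f.toNormalization.isoOpensRange
    have hf : e.hom ≫ P.ι ≫ f.fromNormalization = f := by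
      rw [← Category.assoc, Scheme.Hom.isoOpensRange_hom_ι, Scheme.Hom.toNormalization_fromNormalization]
    haveI : LocallyOfFiniteType (P.ι ≫ f.fromNormalization) := by
      rw [show P.ι ≫ f.fromNormalization = e.inv ≫ f from (Iso.eq_inv_comp e).2 hf]
      infer_instance
    obtain ⟨T, j, ρ, hj, hρ, hjρ⟩ := Groth.Agent.QCGen12.exists_finite_factor f.fromNormalization P hP
    exact ⟨T, e.hom ≫ j, ρ, inferInstance, hρ, by rw [Category.assoc, hjρ, hf]⟩

end Groth.Agent.S4807
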