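import Groth.Statements.S4809
import Groth.Agent.Lib.LimH13.Birat

set_option autoImplicit false
universe u
open CategoryTheory AlgebraicGeometry
open Lim8

namespace Groth.Agent.S4809

/-- Let Y be an integral normal scheme (every local ring integrally closed), X an integral scheme, and f
: X ⟶ Y a locally quasi-finite morphism (locally of finite type with discrete fibres) which is
birational: f maps the generic point of X to that of Y and its stalk map at the generic point of X,
the induced homomorphism of function fields, is an isomorphism. Then f is a local isomorphism, and f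
is an open immersion as soon as it is separated. -/
theorem result {X Y : Scheme.{u}} [IsIntegral X] [IsIntegral Y]
    (hN : ∀ y : Y, IsIntegrallyClosed (Y.presheaf.stalk y)) (f : X ⟶ Y) [LocallyQuasiFinite f]
    [LocallyOfFiniteType f] (hgen : f (genericPoint X) = genericPoint Y)
    (hbir : IsIso (f.stalkMap (genericPoint X))) :
    IsLocalIso f ∧ (IsSeparated f → IsOpenImmersion f) := by
  have hloc : IsLocalIso f :=
    ⟨fun x => LimH13.exists_nhd_isOpenImmersion_of_birational hN f hgen hbir x⟩
  refine ⟨hloc, fun hs => ?_⟩
  haveI := hloc
  haveI := hs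
  refine LimH13.isOpenImmersion_of_isLocalIso f fun x hx => ?_
  obtain ⟨U, hxU, hU⟩ := IsLocalIso.exists_isOpenImmersion (f := f) x
  have hη : genericPoint X ∈ U := ((genericPoint_spec X).mem_open_set_iff U.2).mpr ⟨x, trivial, hxU⟩
  have h : (U.ι ≫ f) ⟨x, hxU⟩ = (U.ι ≫ f) ⟨genericPoint X, hη⟩ := hx.trans hgen.symm
  exact congrArg Subtype.val ((U.ι ≫ f).isOpenEmbedding.injective h)

end Groth.Agent.S4809
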