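import Groth.Statements.S4812
import Groth.Agent.Lib.ModLimH13.Hom1

set_option autoImplicit false
universe u
open CategoryTheory AlgebraicGeometry
open Lim8

namespace Groth.Agent.S4812

/-- Let S = lim S_i be a cofiltered limit of schemes with affine transition maps and S_{i₀} a
quasi-compact stage; let f₀ : F₀ ⟶ G₀ and g₀ : G₀ ⟶ H₀ be homomorphisms of quasi-coherent O-modules
on S_{i₀}, with F₀ and G₀ of finite type and H₀ of finite presentation. Then the pulled-back
sequence F ⟶ G ⟶ H ⟶ 0 on S is exact (the composite is zero, the sequence is exact at G, and G ⟶ H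
is an epimorphism) if and only if, for some index j over i₀, the pulled-back sequence F_j ⟶ G_j ⟶
H_j ⟶ 0 on S_j is exact. -/
theorem result {I : Type u} [SmallCategory I] [IsCofiltered I]
    (D : I ⥤ Scheme.{u}) (c : Limits.Cone D) (hc : Limits.IsLimit c)
    [∀ (i j : I) (f : i ⟶ j), IsAffineHom (D.map f)] (i₀ : I) [CompactSpace (D.obj i₀)]
    {F₀ G₀ H₀ : (D.obj i₀).Modules} [Coh.IsQCoh F₀] [Coh.IsQCoh G₀] [Coh.IsQCoh H₀]
    (hF₀ : CohB1.IsFT F₀) (hG₀ : CohB1.IsFT G₀) (hH₀ : CohB1.IsFP H₀) (f₀ : F₀ ⟶ G₀) (g₀ : G₀ ⟶ H₀) :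
    (∃ w : (Scheme.Modules.pullback (c.π.app i₀)).map f₀ ≫ (Scheme.Modules.pullback (c.π.app i₀)).map g₀ = 0,
        (ShortComplex.mk _ _ w).Exact ∧ Epi ((Scheme.Modules.pullback (c.π.app i₀)).map g₀)) ↔
      ∃ (j : I) (φ : j ⟶ i₀) (w : (Scheme.Modules.pullback (D.map φ)).map f₀ ≫ (Scheme.Modules.pullback (D.map φ)).map g₀ = 0),
        (ShortComplex.mk _ _ w).Exact ∧ Epi ((Scheme.Modules.pullback (D.map φ)).map g₀) := by
  constructor
  · rintro ⟨w, hex, hepi⟩
    obtain ⟨j, φ, h0⟩ := ModLimH13.exists_map_eq hc hF₀ (f₀ ≫ g₀) 0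
      (by rw [Functor.map_comp, w, Functor.map_zero])
    rw [Functor.map_comp, Functor.map_zero] at h0
    haveI : CompactSpace (D.obj j) := QuasiCompact.compactSpace_of_compactSpace (D.map φ)
    let f₁ := (Scheme.Modules.pullback (D.map φ)).map f₀
    let g₁ := (Scheme.Modules.pullback (D.map φ)).map g₀
    have qF := M1.isQCoh_pullback (D.map φ) (M := F₀) ‹_›
    have qG := M1.isQCoh_pullback (D.map φ) (M := G₀) ‹_›
    have qH := M1.isQCoh_pullback (D.map φ) (M := H₀) ‹_›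
    haveI : Coh.IsQCoh ((Scheme.Modules.pullback (D.map φ)).obj H₀) := qH
    haveI : Coh.IsQCoh (Limits.cokernel f₁) := M1.isQCoh_cokernel qF qG f₁
    have z : (Scheme.Modules.pullback (c.π.app j)).map f₁ ≫
        (Scheme.Modules.pullback (c.π.app j)).map g₁ = 0 := by
      rw [← Functor.map_comp, h0, Functor.map_zero]
    have hi : IsIso ((Scheme.Modules.pullback (c.π.app j)).map (Limits.cokernel.desc f₁ g₁ h0)) :=
      (ModLimH13.exact_epi_iff _ f₁ g₁ h0 z).1
        ⟨(ModLimH13.exact_map_comp_iff _ _ (c.w φ) f₀ g₀ z w).2 hex,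
          (ModLimH13.epi_map_comp_iff _ _ (c.w φ) g₀).2 hepi⟩
    obtain ⟨k, α, hk⟩ := (ModLimH13.isIso_map_iff hc
      (M1.isFT_of_epi (Limits.cokernel.π f₁) (M1.isFT_pullback _ hG₀))
      (M1.isFP_pullback _ hH₀) (Limits.cokernel.desc f₁ g₁ h0)).1 hi
    have z' : (Scheme.Modules.pullback (D.map α)).map f₁ ≫
        (Scheme.Modules.pullback (D.map α)).map g₁ = 0 := by
      rw [← Functor.map_comp, h0, Functor.map_zero]
    obtain ⟨hex', hepi'⟩ := (ModLimH13.exact_epi_iff _ f₁ g₁ h0 z').2 hk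
    have w' : (Scheme.Modules.pullback (D.map (α ≫ φ))).map f₀ ≫
        (Scheme.Modules.pullback (D.map (α ≫ φ))).map g₀ = 0 := by
      rw [← Functor.map_comp, ModLimH13.map_pullback_eq_of_comp (D.map α) (D.map φ)
        (D.map_comp α φ).symm (f₀ ≫ g₀) 0 (by rw [Functor.map_comp, h0, Functor.map_zero]),
        Functor.map_zero]
    exact ⟨k, α ≫ φ, w', (ModLimH13.exact_map_comp_iff _ _ (D.map_comp α φ).symm f₀ g₀ z' w').1 hex',
      (ModLimH13.epi_map_comp_iff _ _ (D.map_comp α φ).symm g₀).1 hepi'⟩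
  · rintro ⟨j, φ, w, hex, hepi⟩
    have h0 := ModLimH13.map_pullback_eq_of_comp (c.π.app j) (D.map φ) (c.w φ) (f₀ ≫ g₀) 0
      (by rw [Functor.map_comp, w, Functor.map_zero])
    rw [Functor.map_comp, Functor.map_zero] at h0
    have z : (Scheme.Modules.pullback (c.π.app j)).map ((Scheme.Modules.pullback (D.map φ)).map f₀) ≫
        (Scheme.Modules.pullback (c.π.app j)).map ((Scheme.Modules.pullback (D.map φ)).map g₀) = 0 := by
      rw [← Functor.map_comp, w, Functor.map_zero]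
    have hex2 : (ShortComplex.mk _ _ z).Exact := ShortComplex.Exact.map_of_epi_of_preservesCokernel
      hex (Scheme.Modules.pullback (c.π.app j)) hepi inferInstance
    exact ⟨h0, (ModLimH13.exact_map_comp_iff _ _ (c.w φ) f₀ g₀ z h0).1 hex2,
      (ModLimH13.epi_map_comp_iff _ _ (c.w φ) g₀).1 inferInstance⟩

end Groth.Agent.S4812
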