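import Groth.Statements.S4815
import Groth.Agent.Lib.LimH13.DescendFP
import Groth.Agent.S9193

set_option autoImplicit false
universe u
open CategoryTheory AlgebraicGeometry
open Lim8

namespace Groth.Agent.S4815

set_option backward.isDefEq.respectTransparency false
set_option backward.isDefEq.respectTransparency.types false
set_option linter.style.haveILetI false

/-- Let S = lim S_i be a cofiltered limit of schemes with affine transition maps and S_{i₀} a
quasi-compact quasi-separated stage. Then every subscheme of finite presentation of S, that is every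
immersion ι : Z ⟶ S which is locally of finite presentation and quasi-compact, is the base change
along S ⟶ S_j of an immersion of finite presentation Z_j ⟶ S_j, for some index j over i₀ (the base
change is expressed by a pullback square). -/
theorem result {I : Type u} [SmallCategory I] [IsCofiltered I]
    (D : I ⥤ Scheme.{u}) (c : Limits.Cone D) (hc : Limits.IsLimit c)
    [∀ (i j : I) (f : i ⟶ j), IsAffineHom (D.map f)] (i₀ : I)
    [CompactSpace (D.obj i₀)] [QuasiSeparatedSpace (D.obj i₀)]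
    {Z : Scheme.{u}} (ι : Z ⟶ c.pt) [IsImmersion ι] [LocallyOfFinitePresentation ι] [QuasiCompact ι] :
    ∃ (j : I) (_ : j ⟶ i₀) (Zj : Scheme.{u}) (ιj : Zj ⟶ D.obj j) (q : Z ⟶ Zj),
      IsImmersion ιj ∧ LocallyOfFinitePresentation ιj ∧ QuasiCompact ιj ∧ IsPullback q ι ιj (c.π.app j) := by
  haveI : IsAffineHom (c.π.app i₀) := isAffineHom_π_app D c hc i₀
  haveI : CompactSpace c.pt := QuasiCompact.compactSpace_of_compactSpace (c.π.app i₀)
  haveI : QuasiSeparatedSpace c.pt := quasiSeparatedSpace_of_quasiSeparated (c.π.app i₀)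
  haveI : CompactSpace Z := QuasiCompact.compactSpace_of_compactSpace ι
  haveI : QuasiSeparatedSpace Z := quasiSeparatedSpace_of_quasiSeparated ι
  let F := Over.forget i₀
  let E : Over i₀ ⥤ Scheme.{u} := F ⋙ D
  let c' : Limits.Cone E := c.whisker F
  have hc' : Limits.IsLimit c' := (Functor.Initial.isLimitWhiskerEquiv F c).symm hc
  haveI : ∀ (k l : Over i₀) (a : k ⟶ l), IsAffineHom (E.map a) := fun k l a =>
    inferInstanceAs (IsAffineHom (D.map a.left))
  haveI : ∀ k, CompactSpace (E.obj k) := fun k => QuasiCompact.compactSpace_of_compactSpace (D.map k.hom)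
  haveI : ∀ k, QuasiSeparatedSpace (E.obj k) := fun k => quasiSeparatedSpace_of_quasiSeparated (D.map k.hom)
  haveI : LocallyOfFinitePresentation (ι : Z ⟶ c'.pt) := ‹LocallyOfFinitePresentation ι›
  obtain ⟨k, P, p, q, hp, hPc, hPq, hP⟩ := Groth.Agent.LimH13.hasModel_of_finitePresentation hc' (ι : Z ⟶ c'.pt)
  haveI := hp
  haveI := hPc
  haveI := hPq
  haveI : IsImmersion (ι : Z ⟶ c'.pt) := ‹IsImmersion ι›
  haveI : IsIso (𝟙 c'.pt) := ⟨⟨𝟙 _, Category.id_comp _, Category.id_comp _⟩⟩
  haveI : IsIso (𝟙 (E.obj k)) := ⟨⟨𝟙 _, Category.id_comp _, Category.id_comp _⟩⟩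
  obtain ⟨l, φ, Xi, Yi, fi, gi, pY, pX, hY', hX', hfi⟩ :=
    Groth.Agent.S9193.result E c' hc' k p (𝟙 (E.obj k)) (ι : Z ⟶ c'.pt) (𝟙 c'.pt) (c'.π.app k) q
      (IsPullback.of_vert_isIso ⟨(Category.comp_id _).trans (Category.id_comp _).symm⟩) hP
  haveI := hfi
  haveI : IsIso gi := hY'.isIso_snd_of_isIso
  let g₁ : c'.pt ⟶ Yi := c'.π.app l ≫ inv gi
  have hg₁ : g₁ ≫ pY = c'.π.app k := by
    have h := hY'.w
    rw [Category.comp_id] at h
    rw [h]
    simp [g₁]
  have hw : q ≫ p = (ι ≫ g₁) ≫ pY := by rw [Category.assoc, hg₁]; exact hP.w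
  have hk : IsPullback (hX'.lift q (ι ≫ g₁) hw) (ι : Z ⟶ c'.pt) fi g₁ := by
    refine IsPullback.of_right ?_ (hX'.lift_snd _ _ hw) hX'
    rw [hX'.lift_fst, hg₁]
    exact hP
  have hk₁ : IsPullback (hX'.lift q (ι ≫ g₁) hw) (ι : Z ⟶ c'.pt) (fi ≫ gi) (c'.π.app l) :=
    hk.of_iso (Iso.refl _) (Iso.refl _) (Iso.refl _) (asIso gi) (by simp) (by simp) (by simp) (by simp [g₁])
  haveI : LocallyOfFinitePresentation fi := MorphismProperty.of_isPullback hX' hp
  haveI : QuasiCompact p := quasiCompact_of_compactSpace p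
  haveI : QuasiCompact fi := MorphismProperty.of_isPullback hX' inferInstance
  exact ⟨l.left, l.hom, Xi, fi ≫ gi, hX'.lift q (ι ≫ g₁) hw, inferInstance, inferInstance, inferInstance, hk₁⟩

end Groth.Agent.S4815
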