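import Groth.Statements.S4817
import Groth.Agent.Lib.LimH13.Descend

set_option autoImplicit false
universe u
open CategoryTheory AlgebraicGeometry
open Lim8

namespace Groth.Agent.S4817

open CategoryTheory.Limits in
/-- Let S = lim S_i be a cofiltered limit of schemes with affine transition maps and S_{i₀} a
quasi-compact stage; let ι₀ : Z₀ ⟶ S_{i₀} be a subscheme of finite presentation (an immersion which
is locally of finite presentation and quasi-compact). Then the base change Z₀ ×_{S_{i₀}} S ⟶ S of ι₀
is an open immersion if and only if, for some index j over i₀, the base change Z₀ ×_{S_{i₀}} S_j ⟶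
S_j is an open immersion. This is the case of open subschemes. -/
theorem result {I : Type u} [SmallCategory I] [IsCofiltered I]
    (D : I ⥤ Scheme.{u}) (c : Limits.Cone D) (hc : Limits.IsLimit c)
    [∀ (i j : I) (f : i ⟶ j), IsAffineHom (D.map f)] (i₀ : I) [CompactSpace (D.obj i₀)]
    {Z₀ : Scheme.{u}} (ι₀ : Z₀ ⟶ D.obj i₀) [IsImmersion ι₀] [LocallyOfFinitePresentation ι₀] [QuasiCompact ι₀] :
    IsOpenImmersion (pullback.snd ι₀ (c.π.app i₀)) ↔
      ∃ (j : I) (φ : j ⟶ i₀), IsOpenImmersion (pullback.snd ι₀ (D.map φ)) := by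
  haveI : QuasiSeparated ι₀ := inferInstance
  let F := Over.forget i₀
  let c' : Limits.Cone (F ⋙ D) := c.whisker F
  have hc' : Limits.IsLimit c' := (Functor.Initial.isLimitWhiskerEquiv F c).symm hc
  have hq : ∀ k, c'.π.app k ≫ (Descend.overT D i₀).app k = c.π.app i₀ := fun k => c.w k.hom
  have hP := IsPullback.of_hasPullback ι₀ (c.π.app i₀)
  constructor
  · intro hf
    obtain ⟨k, hk⟩ := Descend.exists_of_affine_base @IsOpenImmersion
      (@QuasiCompact ⊓ @QuasiSeparated ⊓ @LocallyOfFinitePresentation) @IsOpenImmersion hc' hq hP hf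
      ⟨⟨inferInstance, inferInstance⟩, inferInstance⟩
      fun S' X' _ D' t' _ f' c'' q' P' p' g' hf' hc'' hq' hP' hg' => by
        have := hf'.1.1
        have := hf'.1.2
        have := hf'.2
        have : IsOpenImmersion g' := hg'
        exact Descend.exists_isOpenImmersion (f := f') hc'' hq' hP'
    exact ⟨k.left, k.hom, hk⟩
  · rintro ⟨j, φ, hj⟩
    exact MorphismProperty.of_isPullback
      (Descend.pbCone_isPullback (F ⋙ D) (Descend.overT D i₀) ι₀ c' hq hP (Over.mk φ)) hj

end Groth.Agent.S4817
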