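import Groth.Statements.S4821
import Mathlib.RingTheory.MvPolynomial.Localization
-- import your own Groth.Agent.* helpers here

set_option autoImplicit false
set_option backward.isDefEq.respectTransparency.types false
universe u
open Cons9

namespace Groth.Agent.S4821

/-- Let A be an integral domain with fraction field K, and (P_i) a finite family of polynomials in
A[T_1, …, T_m], generating an ideal 𝔞; for a point s of Spec A write 𝔞_s for the ideal of κ(s)[T_1,
…, T_m] generated by the images of the P_i. If the zero locus of 𝔞_η in affine m-space over K = κ(η)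
is empty, that is if 𝔞_η is the unit ideal, then there is an open neighbourhood D(f) (f ≠ 0) of the
generic point such that 𝔞_s is the unit ideal (its zero locus is empty) for every s in D(f). -/
theorem result {A : Type u} [CommRing A] [IsDomain A] {m : ℕ}
    (P : Finset (MvPolynomial (Fin m) A))
    (hη : Ideal.span ((MvPolynomial.map (algebraMap A (FractionRing A))) '' (P : Set (MvPolynomial (Fin m) A))) = ⊤) :
    ∃ f : A, f ≠ 0 ∧ ∀ p : PrimeSpectrum A, f ∉ p.asIdeal →
      Ideal.span ((MvPolynomial.map (algebraMap A p.asIdeal.ResidueField)) '' (P : Set (MvPolynomial (Fin m) A))) = ⊤ := by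
  classical
  let K := FractionRing A
  have h1 : (1 : MvPolynomial (Fin m) K) ∈
      Ideal.map (MvPolynomial.map (algebraMap A K)) (Ideal.span (P : Set (MvPolynomial (Fin m) A))) := by
    rw [Ideal.map_span, hη]; trivial
  letI : Algebra (MvPolynomial (Fin m) A) (MvPolynomial (Fin m) K) := MvPolynomial.algebraMvPolynomial
  have hmap : algebraMap (MvPolynomial (Fin m) A) (MvPolynomial (Fin m) K) = MvPolynomial.map (algebraMap A K) := rfl
  rw [← hmap] at h1
  haveI : IsLocalization ((nonZeroDivisors A).map (MvPolynomial.C (σ := Fin m))) (MvPolynomial (Fin m) K) := inferInstance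
  obtain ⟨⟨⟨a, ha⟩, ⟨c, hc⟩⟩, hx⟩ := (IsLocalization.mem_map_algebraMap_iff
    ((nonZeroDivisors A).map (MvPolynomial.C (σ := Fin m))) (MvPolynomial (Fin m) K)).1 h1
  obtain ⟨d, hd, rfl⟩ := hc
  rw [one_mul, hmap] at hx
  have hxa : (MvPolynomial.C d : MvPolynomial (Fin m) A) = a :=
    MvPolynomial.map_injective (algebraMap A K) (IsFractionRing.injective A K) hx
  refine ⟨d, nonZeroDivisors.ne_zero hd, fun p hp => ?_⟩
  rw [← Ideal.map_span]
  have h2 := Ideal.mem_map_of_mem (MvPolynomial.map (algebraMap A p.asIdeal.ResidueField)) (hxa ▸ ha)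
  refine Ideal.eq_top_of_isUnit_mem _ h2 ?_
  rw [MvPolynomial.map_C]
  exact (isUnit_iff_ne_zero.2 (fun e => hp (Ideal.algebraMap_residueField_eq_zero.1 e))).map MvPolynomial.C

end Groth.Agent.S4821
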