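import Groth.Statements.S4823
import Groth.Agent.Lib.FieldExt12.Model
import Groth.Agent.S4790
-- import your own Groth.Agent.* helpers here

set_option autoImplicit false
set_option backward.isDefEq.respectTransparency false
open CategoryTheory AlgebraicGeometry
universe u
open Cons9 Groth.Agent

namespace Groth.Agent.S4823

open CategoryTheory.Limits in
/-- Let k be a field, Ω an algebraically closed extension field of k, X a scheme of finite type over k
and F, G two coherent O_X-modules (quasi-coherent of finite presentation). If the pullbacks of F and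
G to X ⊗_k Ω are isomorphic, then there is a finite extension k' of k such that the pullbacks of F
and G to X ⊗_k k' are already isomorphic (base changes are the chosen fibre products with Spec of
the extension, and the modules are pulled back along the first projection). -/
theorem result {k : Type u} [Field k] {X : Scheme.{u}}
    (p : X ⟶ Spec (CommRingCat.of k)) [LocallyOfFiniteType p] [QuasiCompact p]
    (F G : X.Modules) [Coh.IsQCoh F] [Coh.IsQCoh G] (hF : CohB1.IsFP F) (hG : CohB1.IsFP G)
    (Ω : Type u) [Field Ω] [Algebra k Ω] [IsAlgClosed Ω]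
    (e : (Scheme.Modules.pullback (pullback.fst p (Spec.map (CommRingCat.ofHom (algebraMap k Ω))))).obj F ≅
      (Scheme.Modules.pullback (pullback.fst p (Spec.map (CommRingCat.ofHom (algebraMap k Ω))))).obj G) :
    ∃ (k' : Type u) (_ : Field k') (_ : Algebra k k') (_ : Module.Finite k k'),
      Nonempty ((Scheme.Modules.pullback (pullback.fst p (Spec.map (CommRingCat.ofHom (algebraMap k k'))))).obj F ≅
        (Scheme.Modules.pullback (pullback.fst p (Spec.map (CommRingCat.ofHom (algebraMap k k'))))).obj G) := by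
  classical
  haveI : IsLocallyNoetherian X := LocallyOfFiniteType.isLocallyNoetherian p
  haveI : CompactSpace X := QuasiCompact.compactSpace_of_compactSpace p
  haveI : QuasiSeparatedSpace X := inferInstance
  let D := Descend.pbDiagram (FieldExt12.sys k Ω) (FieldExt12.str k Ω) p
  let c := Descend.pbCone (FieldExt12.sys k Ω) (FieldExt12.str k Ω) p (FieldExt12.cone k Ω) (FieldExt12.cone_str k Ω)
    (IsPullback.of_hasPullback p (Spec.map (CommRingCat.ofHom (algebraMap k Ω))))
  let hc : IsLimit c := Descend.pbIsLimit _ _ _ _ _ _ (FieldExt12.isLimitCone k Ω)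
  let i₀ : (FieldExt12.Idx k Ω)ᵒᵖ := Opposite.op (Classical.arbitrary _)
  haveI : ∀ i j (f : i ⟶ j), IsAffineHom (D.map f) := fun i j f => inferInstance
  haveI : CompactSpace ↥(D.obj i₀) := Descend.pb_compactSpace _ _ _ i₀
  haveI : QuasiSeparatedSpace ↥(D.obj i₀) := Descend.pb_quasiSeparatedSpace _ _ _ i₀
  let π : ∀ i, D.obj i ⟶ X := fun i => pullback.fst p ((FieldExt12.str k Ω).app i)
  haveI : Coh.IsQCoh ((Scheme.Modules.pullback (π i₀)).obj F) := M1.isQCoh_pullback _ ‹Coh.IsQCoh F›
  haveI : Coh.IsQCoh ((Scheme.Modules.pullback (π i₀)).obj G) := M1.isQCoh_pullback _ ‹Coh.IsQCoh G›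
  have w₀ : c.π.app i₀ ≫ π i₀ = pullback.fst p (Spec.map (CommRingCat.ofHom (algebraMap k Ω))) :=
    Descend.pbCone_fst _ _ _ _ _ _ i₀
  obtain ⟨j, φ, ⟨ej⟩⟩ := (S4790.result D c hc i₀ _ _ (M1.isFP_pullback _ hF) (M1.isFP_pullback _ hG)).1
    ⟨(ModLimH13.cmp (c.π.app i₀) (π i₀) w₀).app F ≪≫ e ≪≫ ((ModLimH13.cmp (c.π.app i₀) (π i₀) w₀).app G).symm⟩
  have wj : D.map φ ≫ π i₀ = π j := Descend.pbMap_fst _ _ _ φ
  let ej' : (Scheme.Modules.pullback (π j)).obj F ≅ (Scheme.Modules.pullback (π j)).obj G :=
    ((ModLimH13.cmp (D.map φ) (π i₀) wj).app F).symm ≪≫ ej ≪≫ (ModLimH13.cmp (D.map φ) (π i₀) wj).app G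
  haveI : Algebra.FiniteType k j.unop.1 := (Subalgebra.fg_iff_finiteType _).1 j.unop.2
  obtain ⟨k', _, _, hfin, ⟨ψ⟩⟩ := FieldExt12.exists_finite_point (k := k) j.unop.1
  let g : pullback p (Spec.map (CommRingCat.ofHom (algebraMap k k'))) ⟶ D.obj j :=
    pullback.lift (pullback.fst _ _) (pullback.snd _ _ ≫ Spec.map (CommRingCat.ofHom ψ.toRingHom)) (by
      rw [Category.assoc]
      refine pullback.condition.trans (congrArg (pullback.snd p _ ≫ ·) ?_)
      show _ = Spec.map _ ≫ Spec.map _
      rw [← Spec.map_comp, ← CommRingCat.ofHom_comp]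
      exact congrArg (fun f => Spec.map (CommRingCat.ofHom f)) (RingHom.ext fun x => (ψ.commutes x).symm))
  have wg : g ≫ π j = pullback.fst p (Spec.map (CommRingCat.ofHom (algebraMap k k'))) := pullback.lift_fst _ _ _
  exact ⟨k', _, _, hfin, ⟨((ModLimH13.cmp g (π j) wg).app F).symm ≪≫ (Scheme.Modules.pullback g).mapIso ej' ≪≫
    (ModLimH13.cmp g (π j) wg).app G⟩⟩

end Groth.Agent.S4823
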