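import Mathlib.AlgebraicGeometry.Noetherian
import Mathlib.AlgebraicGeometry.Morphisms.Immersion
import Mathlib.AlgebraicGeometry.Morphisms.Finite
import Mathlib.AlgebraicGeometry.Morphisms.FiniteType
import Mathlib.AlgebraicGeometry.Stalk
import Mathlib.AlgebraicGeometry.Pullbacks
import Groth.Agent.S1477
import Mathlib.AlgebraicGeometry.Morphisms.QuasiFinite
import Mathlib.AlgebraicGeometry.Morphisms.Immersion
-- import your own Groth.Agent.* helpers here

namespace Lim8
end Lim8

set_option autoImplicit false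
open CategoryTheory AlgebraicGeometry
universe u
open Lim8

namespace Groth.Agent.S4825

open CategoryTheory.Limits in
/-- Specializations of the diagonal that lift to the base change `s` lie on the diagonal. -/
theorem diag_mem {X Y S : Scheme.{u}} (f : X ⟶ Y) (s : S ⟶ Y) [IsSeparated (pullback.snd f s)]
    [IsPreimmersion s] {x : X} {p : ↥(pullback f f)} (hp : pullback.diagonal f x ⤳ p)
    (hx : x ∈ Set.range (pullback.fst f s)) (hp' : p ∈ Set.range (pullback.fst (pullback.fst f f ≫ f) s)) :
    ∃ x', pullback.diagonal f x' = p := by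
  obtain ⟨x₀, hx₀⟩ := hx
  obtain ⟨p', hp'⟩ := hp'
  have wδ : (pullback.fst f s ≫ pullback.diagonal f) ≫ pullback.fst f f ≫ f = pullback.snd f s ≫ s := by
    rw [Category.assoc, pullback.diagonal_fst_assoc, pullback.condition]
  obtain ⟨δ, hδ1, hδ2⟩ : ∃ δ : pullback f s ⟶ pullback (pullback.fst f f ≫ f) s,
      δ ≫ pullback.fst _ _ = pullback.fst f s ≫ pullback.diagonal f ∧ δ ≫ pullback.snd _ _ = pullback.snd f s :=
    ⟨pullback.lift _ _ wδ, pullback.lift_fst _ _ _, pullback.lift_snd _ _ _⟩
  obtain ⟨a, ha1, ha2⟩ : ∃ a : pullback (pullback.fst f f ≫ f) s ⟶ pullback f s,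
      a ≫ pullback.fst f s = pullback.fst _ _ ≫ pullback.fst f f ∧ a ≫ pullback.snd f s = pullback.snd _ _ :=
    ⟨pullback.lift _ _ (by rw [Category.assoc]; exact pullback.condition), pullback.lift_fst _ _ _,
      pullback.lift_snd _ _ _⟩
  obtain ⟨b, hb1, hb2⟩ : ∃ b : pullback (pullback.fst f f ≫ f) s ⟶ pullback f s,
      b ≫ pullback.fst f s = pullback.fst _ _ ≫ pullback.snd f f ∧ b ≫ pullback.snd f s = pullback.snd _ _ :=
    ⟨pullback.lift _ _ (by rw [Category.assoc, ← pullback.condition]; exact pullback.condition),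
      pullback.lift_fst _ _ _, pullback.lift_snd _ _ _⟩
  obtain ⟨θ, hθ1, hθ2⟩ : ∃ θ : pullback (pullback.fst f f ≫ f) s ⟶ pullback (pullback.snd f s) (pullback.snd f s),
      θ ≫ pullback.fst _ _ = a ∧ θ ≫ pullback.snd _ _ = b :=
    ⟨pullback.lift a b (by rw [ha2, hb2]), pullback.lift_fst _ _ _, pullback.lift_snd _ _ _⟩
  obtain ⟨π, hπ1, hπ2⟩ : ∃ π : pullback (pullback.snd f s) (pullback.snd f s) ⟶ pullback f f,
      π ≫ pullback.fst f f = pullback.fst _ _ ≫ pullback.fst f s ∧
        π ≫ pullback.snd f f = pullback.snd _ _ ≫ pullback.fst f s :=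
    ⟨pullback.lift _ _ (by simp only [Category.assoc, pullback.condition]; simp only [← Category.assoc, pullback.condition]),
      pullback.lift_fst _ _ _, pullback.lift_snd _ _ _⟩
  have hθπ : θ ≫ π = pullback.fst _ _ := by
    apply pullback.hom_ext
    · rw [Category.assoc, hπ1, reassoc_of% hθ1, ha1]
    · rw [Category.assoc, hπ2, reassoc_of% hθ2, hb1]
  have hδθ : δ ≫ θ = pullback.diagonal (pullback.snd f s) := by
    apply pullback.hom_ext
    · rw [Category.assoc, hθ1, pullback.diagonal_fst]
      apply pullback.hom_ext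
      · rw [Category.assoc, ha1, reassoc_of% hδ1, pullback.diagonal_fst, Category.comp_id, Category.id_comp]
      · rw [Category.assoc, ha2, hδ2, Category.id_comp]
    · rw [Category.assoc, hθ2, pullback.diagonal_snd]
      apply pullback.hom_ext
      · rw [Category.assoc, hb1, reassoc_of% hδ1, pullback.diagonal_snd, Category.comp_id, Category.id_comp]
      · rw [Category.assoc, hb2, hδ2, Category.id_comp]
  have hΔπ : pullback.diagonal (pullback.snd f s) ≫ π = pullback.fst f s ≫ pullback.diagonal f := by
    apply pullback.hom_ext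
    · rw [Category.assoc, hπ1, pullback.diagonal_fst_assoc, Category.assoc, pullback.diagonal_fst, Category.comp_id]
    · rw [Category.assoc, hπ2, pullback.diagonal_snd_assoc, Category.assoc, pullback.diagonal_snd, Category.comp_id]
  have h0 : pullback.fst (pullback.fst f f ≫ f) s (δ x₀) = pullback.diagonal f x := by
    rw [← Scheme.Hom.comp_apply, hδ1, Scheme.Hom.comp_apply, hx₀]
  have h1 : δ x₀ ⤳ p' := (pullback.fst (pullback.fst f f ≫ f) s).isEmbedding.isInducing.specializes_iff.1
    (by rw [h0, hp']; exact hp)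
  have h2 : θ p' ∈ Set.range (pullback.diagonal (pullback.snd f s)) :=
    (h1.map θ.continuous).mem_closed (pullback.diagonal (pullback.snd f s)).isClosedEmbedding.isClosed_range
      ⟨x₀, by rw [← hδθ, Scheme.Hom.comp_apply]⟩
  obtain ⟨x'', hx''⟩ := h2
  refine ⟨pullback.fst f s x'', ?_⟩
  rw [← Scheme.Hom.comp_apply, ← hΔπ, Scheme.Hom.comp_apply, hx'', ← Scheme.Hom.comp_apply, hθπ, hp']

open CategoryTheory.Limits in
/-- Let Y be a Noetherian scheme and f : X ⟶ Y a morphism of finite type. Then f admits a factorization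
into an immersion followed by a finite morphism if and only if, for every point y of Y, the base
change X ×_Y Spec O_{Y,y} ⟶ Spec O_{Y,y} of f to the local scheme of Y at y admits such a
factorization. (Pointwise criterion for pseudo-finite morphisms.) -/
theorem result {X Y : Scheme.{u}} (f : X ⟶ Y) [IsNoetherian Y]
    [LocallyOfFiniteType f] [QuasiCompact f] :
    (∃ (Y' : Scheme.{u}) (f' : X ⟶ Y') (u : Y' ⟶ Y), IsImmersion f' ∧ IsFinite u ∧ f' ≫ u = f) ↔
      ∀ y : Y, ∃ (Z : Scheme.{u}) (g : pullback f (Y.fromSpecStalk y) ⟶ Z) (u : Z ⟶ Spec (Y.presheaf.stalk y)),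
        IsImmersion g ∧ IsFinite u ∧ g ≫ u = pullback.snd f (Y.fromSpecStalk y) := by
  constructor
  · rintro ⟨Y', f', u, hf', hu, rfl⟩ y
    exact ⟨pullback u (Y.fromSpecStalk y),
      (pullbackRightPullbackFstIso u (Y.fromSpecStalk y) f').inv ≫ pullback.snd f' (pullback.fst u (Y.fromSpecStalk y)),
      pullback.snd u (Y.fromSpecStalk y), inferInstance, inferInstance, by simp⟩
  intro h
  haveI : IsLocallyNoetherian X := LocallyOfFiniteType.isLocallyNoetherian f
  haveI : CompactSpace X := QuasiCompact.compactSpace_of_compactSpace f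
  haveI : IsNoetherian X := ⟨⟩
  have hs : ∀ y : Y, IsSeparated (pullback.snd f (Y.fromSpecStalk y)) ∧
      LocallyQuasiFinite (pullback.snd f (Y.fromSpecStalk y)) := by
    intro y
    obtain ⟨Z, g, u, hg, hu, hgu⟩ := h y
    rw [← hgu]
    exact ⟨inferInstance, inferInstance⟩
  haveI : LocallyQuasiFinite f := by
    refine LocallyQuasiFinite.of_finite_preimage_singleton f fun y => ?_
    haveI := (hs y).2
    obtain ⟨c, hc⟩ : ∃ c, (Y.fromSpecStalk y) c = y := ⟨_, Scheme.fromSpecStalk_closedPoint⟩
    refine (((pullback.snd f (Y.fromSpecStalk y)).finite_preimage_singleton c).image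
      (pullback.fst f (Y.fromSpecStalk y))).subset fun x hx => ?_
    obtain ⟨z, hz1, hz2⟩ := Scheme.Pullback.exists_preimage_pullback x c (hx.trans hc.symm)
    exact ⟨z, hz2, hz1⟩
  haveI : IsSeparated f := by
    have hsp : SpecializingMap (pullback.diagonal f) := by
      intro x p hp
      let π₀ := pullback.fst f f ≫ f
      let y := π₀ p
      let s := Y.fromSpecStalk y
      haveI := (hs y).1
      let r := pullback.fst π₀ s
      have hq : π₀ (pullback.diagonal f x) = f x := by
        simp only [π₀, ← Scheme.Hom.comp_apply, pullback.diagonal_fst_assoc]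
      have hfx : f x ⤳ y := hq ▸ hp.map π₀.continuous
      have hp' : p ∈ Set.range r := by
        rw [Scheme.Pullback.range_fst, Set.mem_preimage, Scheme.range_fromSpecStalk]
        exact specializes_rfl
      have hx : x ∈ Set.range (pullback.fst f s) := by
        rw [Scheme.Pullback.range_fst, Set.mem_preimage, Scheme.range_fromSpecStalk]
        exact hfx
      obtain ⟨x', hx'⟩ := diag_mem f s hp hx hp'
      exact ⟨x', (pullback.diagonal f).isEmbedding.isInducing.specializes_iff.1 (by rw [hx']; exact hp), hx'⟩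
    exact ⟨IsClosedImmersion.of_isPreimmersion _
      (((isClosedMap_iff_specializingMap (pullback.diagonal f)).2 hsp).isClosed_range)⟩
  haveI : LocallyOfFinitePresentation f := inferInstance
  obtain ⟨T, j, π, hj, -, hπ, -, e⟩ := Groth.Agent.S1477.result f
  exact ⟨T, j, π, inferInstance, hπ, e⟩

end Groth.Agent.S4825
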