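import Groth.Statements.S4827
import Groth.Agent.S3455

set_option autoImplicit false
open CategoryTheory AlgebraicGeometry
universe u
open Cons9

namespace Groth.Agent.S4827

/-- Let f : X ⟶ S be a morphism of finite presentation (locally of finite presentation, quasi-compact
and quasi-separated). Then the set of points s of S whose fibre X_s is geometrically normal over
κ(s), i.e. such that for every extension field K of κ(s) all local rings of X_s ⊗_{κ(s)} K are
integrally closed domains, is locally constructible in S. This is the case of geometric normality. -/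
theorem result {X S : Scheme.{u}} (f : X ⟶ S)
    [LocallyOfFinitePresentation f] [QuasiCompact f] [QuasiSeparated f] :
    Topology.IsLocallyConstructible {s : S |
      ∀ (K : Type u) [Field K] [Algebra (IsLocalRing.ResidueField (S.presheaf.stalk s)) K]
        (x' : ↥(FBase.bc (f.fiberToSpecResidueField s) K)),
        IsDomain ((FBase.bc (f.fiberToSpecResidueField s) K).presheaf.stalk x') ∧
          IsIntegrallyClosed ((FBase.bc (f.fiberToSpecResidueField s) K).presheaf.stalk x')} := by
  have hE := Groth.Agent.S3455.result f
  have hc : Topology.IsLocallyConstructible ({x : X |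
      ∀ (K : Type u) [Field K] [Algebra (IsLocalRing.ResidueField (S.presheaf.stalk (f.base x))) K]
        (x' : ↥(FBase.bc (f.fiberToSpecResidueField (f.base x)) K)),
        (FBase.bcπ (f.fiberToSpecResidueField (f.base x)) K).base x' = f.asFiber x →
          (IsDomain ((FBase.bc (f.fiberToSpecResidueField (f.base x)) K).presheaf.stalk x') ∧ IsIntegrallyClosed ((FBase.bc (f.fiberToSpecResidueField (f.base x)) K).presheaf.stalk x'))}ᶜ) := fun x => by
    obtain ⟨V, hV, hVo, h⟩ := hE x
    exact ⟨V, hV, hVo, by rw [Set.preimage_compl]; exact h.compl⟩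
  have h2 : Topology.IsLocallyConstructible ((f '' _)ᶜ) := fun s => by
    obtain ⟨V, hV, hVo, h⟩ := (Scheme.Hom.isLocallyConstructible_image f hc) s
    exact ⟨V, hV, hVo, by rw [Set.preimage_compl]; exact h.compl⟩
  convert h2 using 1
  ext s
  simp only [Set.mem_compl_iff, Set.mem_image, Set.mem_ofPred_eq, not_exists, not_and]
  constructor
  · rintro hs x hx rfl
    exact hx fun K _ _ x' _ => hs K x'
  · intro hs K _ _ x'
    have key : ∀ (x : X) (s : S), f x = s → ∀ (K : Type u) [Field K] [Algebra (IsLocalRing.ResidueField (S.presheaf.stalk s)) K]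
        (x' : ↥(FBase.bc (f.fiberToSpecResidueField s) K)),
        f.fiberι s ((FBase.bcπ (f.fiberToSpecResidueField s) K).base x') = x → (∀ x₀, f x₀ = s →
          ∀ (K : Type u) [Field K] [Algebra (IsLocalRing.ResidueField (S.presheaf.stalk (f.base x₀))) K]
            (x'' : ↥(FBase.bc (f.fiberToSpecResidueField (f.base x₀)) K)),
            (FBase.bcπ (f.fiberToSpecResidueField (f.base x₀)) K).base x'' = f.asFiber x₀ →
              (IsDomain ((FBase.bc (f.fiberToSpecResidueField (f.base x₀)) K).presheaf.stalk x'') ∧ IsIntegrallyClosed ((FBase.bc (f.fiberToSpecResidueField (f.base x₀)) K).presheaf.stalk x''))) →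
        (IsDomain ((FBase.bc (f.fiberToSpecResidueField s) K).presheaf.stalk x') ∧ IsIntegrallyClosed ((FBase.bc (f.fiberToSpecResidueField s) K).presheaf.stalk x')) := by
      intro x s h K _ _ x' hx' hall
      subst h
      exact hall x rfl K x' ((f.fiberι (f x)).isEmbedding.injective (hx'.trans (f.fiberι_asFiber x).symm))
    refine key _ s ?_ K x' rfl fun x₀ h₀ => not_not.1 fun hn => hs x₀ hn h₀
    have := Set.mem_range_self (f := f.fiberι s) ((FBase.bcπ (f.fiberToSpecResidueField s) K).base x')
    rw [Scheme.Hom.range_fiberι] at this
    exact this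

end Groth.Agent.S4827
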