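import Groth.Statements.S4832
import Groth.Agent.Lib.Cons12.Torsion
-- import your own Groth.Agent.* helpers here

set_option autoImplicit false
set_option backward.isDefEq.respectTransparency false
open CategoryTheory AlgebraicGeometry
universe u
open Cons9

namespace Groth.Agent.S4832

/-- Let S be a locally Noetherian scheme, f : X ⟶ S a morphism of finite type and F a coherent
O_X-module; suppose that every fibre X_s is locally integral (all its local rings are integral
domains). For s in S let F_s be the pullback of F to the fibre X_s. Then the set of s such that F_s
is torsion-free over O_{X_s} (each stalk of F_s has zero torsion submodule over the local ring of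
X_s, an integral domain) is locally constructible in S. -/
theorem result {X S : Scheme.{u}} (f : X ⟶ S) [IsLocallyNoetherian S]
    [LocallyOfFiniteType f] [QuasiCompact f] (F : X.Modules) [Coh.IsQCoh F] (hF : CohB1.IsFP F)
    (hint : ∀ (s : S) (x : ↥(f.fiber s)), IsDomain ((f.fiber s).presheaf.stalk x)) :
    Topology.IsLocallyConstructible {s : S | ∀ x : ↥(f.fiber s),
      Submodule.torsion ((f.fiber s).presheaf.stalk x) (((Scheme.Modules.pullback (f.fiberι s)).obj F).presheaf.stalk x) = ⊥} := by
  haveI : LocallyOfFinitePresentation f := inferInstance
  refine (congrArg Topology.IsLocallyConstructible (Set.ext fun s => ?_)).mp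
    (Groth.Agent.Cons12.isLocallyConstructible_image_level_empty f _
      (Groth.Agent.Cons12.isLocallyConstructible_tfBad f F hF))
  simp only [Set.mem_setOf_eq]
  exact (Groth.Agent.Cons12.fiber_torsion_bot_iff f F hF s (hint s)).symm

end Groth.Agent.S4832
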