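import Groth.Statements.S4833
import Groth.Agent.S4863
import Groth.Agent.Lib.FlatH4.GenFlatScheme
import Groth.Agent.Lib.FlatH4.PullFlat
import Groth.Agent.Lib.AmpleFib.ProjCons
import Groth.Agent.Lib.Cons12.Dims
import Groth.Agent.Lib.ZConn5.ProperAt
-- import your own Groth.Agent.* helpers here

set_option autoImplicit false
set_option backward.isDefEq.respectTransparency false
open CategoryTheory AlgebraicGeometry
universe u
open Cons9

namespace Groth.Agent.S4833

open CategoryTheory.Limits in
/-- Let S be an integral Noetherian scheme with generic point η, let g : X ⟶ Y be an S-morphism between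
schemes of finite type over S (structure morphisms h : Y ⟶ S and g ≫ h), and let F be a coherent
O_X-module. For s in S write g_s : X_s ⟶ Y_s for the morphism induced on the fibres over s and F_s
for the pullback of F to X_s. If F_η is not flat relative to g_η (not flat over O_{Y_η, g_η(x)} at
some point x of X_η), then there is an open neighbourhood U of η such that for every s in U the
module F_s is not flat relative to g_s. -/
theorem result {X Y S : Scheme.{u}} [IsIntegral S] [IsNoetherian S]
    (g : X ⟶ Y) (h : Y ⟶ S) [LocallyOfFiniteType h] [QuasiCompact h]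
    [LocallyOfFiniteType (g ≫ h)] [QuasiCompact (g ≫ h)]
    (F : X.Modules) [Coh.IsQCoh F] (hF : CohB1.IsFP F)
    (hη : ¬ FlatMod.IsFlatOver
      (pullback.lift (pullback.fst (g ≫ h) (S.fromSpecResidueField (genericPoint S)) ≫ g)
          (pullback.snd (g ≫ h) (S.fromSpecResidueField (genericPoint S)))
          ((Category.assoc _ _ _).trans pullback.condition) :
        pullback (g ≫ h) (S.fromSpecResidueField (genericPoint S)) ⟶ pullback h (S.fromSpecResidueField (genericPoint S)))
      ((Scheme.Modules.pullback (pullback.fst (g ≫ h) (S.fromSpecResidueField (genericPoint S)))).obj F)) :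
    ∃ U : S.Opens, genericPoint S ∈ U ∧ ∀ s ∈ U, ¬ FlatMod.IsFlatOver
      (pullback.lift (pullback.fst (g ≫ h) (S.fromSpecResidueField s) ≫ g) (pullback.snd (g ≫ h) (S.fromSpecResidueField s))
          ((Category.assoc _ _ _).trans pullback.condition) :
        pullback (g ≫ h) (S.fromSpecResidueField s) ⟶ pullback h (S.fromSpecResidueField s))
      ((Scheme.Modules.pullback (pullback.fst (g ≫ h) (S.fromSpecResidueField s))).obj F) := by
  haveI : IsLocallyNoetherian Y := LocallyOfFiniteType.isLocallyNoetherian h
  haveI : IsLocallyNoetherian X := LocallyOfFiniteType.isLocallyNoetherian (g ≫ h)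
  haveI : LocallyOfFiniteType g := locallyOfFiniteType_of_comp g h
  haveI : LocallyOfFinitePresentation g := inferInstance
  haveI : LocallyOfFinitePresentation (g ≫ h) := inferInstance
  obtain ⟨U₀, hne, hflat⟩ := Groth.Agent.FlatH4.exists_open_isFlatOverAt (g ≫ h) F
    fun W hW => Groth.Agent.M1.finite_sections (M := F) ‹_› (Groth.Agent.M1.isFP_isFT hF) hW
  have hWo : IsOpen {x : X | FlatMod.IsFlatOverAt g F x} := Groth.Agent.S4863.result g F hF
  have hWc : Topology.IsLocallyConstructible {x : X | FlatMod.IsFlatOverAt g F x} := by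
    have h1 := Groth.Agent.AnPtsTop.isLocallyConstructible_compl (Groth.Agent.ZConn5.isLocallyConstructible_of_isClosed hWo.isClosed_compl)
    rwa [compl_compl] at h1
  have hE := Groth.Agent.FibreTop.isLocallyConstructible_forall_fibre (g ≫ h) hWc
  have key : ∀ s ∈ U₀, (FlatMod.IsFlatOver
      (pullback.lift (pullback.fst (g ≫ h) (S.fromSpecResidueField s) ≫ g) (pullback.snd (g ≫ h) (S.fromSpecResidueField s))
          ((Category.assoc _ _ _).trans pullback.condition) :
        pullback (g ≫ h) (S.fromSpecResidueField s) ⟶ pullback h (S.fromSpecResidueField s))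
      ((Scheme.Modules.pullback (pullback.fst (g ≫ h) (S.fromSpecResidueField s))).obj F) ↔
      ∀ x, (g ≫ h) x = s → FlatMod.IsFlatOverAt g F x) := by
    intro s hs
    set σ := S.fromSpecResidueField s
    set gs : pullback (g ≫ h) σ ⟶ pullback h σ :=
      pullback.lift (pullback.fst (g ≫ h) σ ≫ g) (pullback.snd (g ≫ h) σ) ((Category.assoc _ _ _).trans pullback.condition)
    have hrange : ∀ z, (g ≫ h) (pullback.fst (g ≫ h) σ z) = s := fun z =>
      ((g ≫ h).range_fiberι s).le ⟨z, rfl⟩
    constructor
    · intro hfl x hx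
      obtain ⟨z, rfl⟩ : x ∈ Set.range ((g ≫ h).fiberι s) := ((g ≫ h).range_fiberι s).ge hx
      have hsq : IsPullback (pullback.fst (g ≫ h) σ) (gs ≫ pullback.snd h σ) (g ≫ h) σ := by
        rw [show gs ≫ pullback.snd h σ = pullback.snd (g ≫ h) σ from pullback.lift_snd _ _ _]
        exact IsPullback.of_hasPullback _ _
      refine Groth.Agent.FlatH4.isFlatOverAt_of_baseChange g h (IsPullback.of_hasPullback h σ) hsq
        (pullback.lift_fst _ _ _).symm F hF z (hflat _ ?_) (hfl z)
      rw [hrange z]
      exact hs
    · intro hall z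
      exact Groth.Agent.FlatH4.isFlatOverAt_baseChange (Groth.Agent.AmpleFib.fibre_isPullback g h _ σ) F z
        (hall _ (hrange z))
  have hη₀ : genericPoint S ∈ U₀ :=
    ((genericPoint_spec S).mem_open_set_iff U₀.2).2 (by simpa using hne)
  obtain ⟨U, hU, hsub⟩ := Groth.Agent.Cons12.exists_nhd_generic
    (Groth.Agent.AnPtsTop.isLocallyConstructible_compl hE) fun hmem => hη ((key _ hη₀).2 hmem)
  exact ⟨U ⊓ U₀, ⟨hU, hη₀⟩, fun s hs hfl => hsub hs.1 ((key s hs.2).1 hfl)⟩

end Groth.Agent.S4833
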