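import Groth.Statements.S4837
import Groth.Agent.Lib.RelSpecB.Basic
import Groth.Agent.Lib.EGA2.AffAlgLib
import Groth.Agent.Lib.FEtEq25.RelAffine

set_option autoImplicit false
set_option linter.style.haveILetI false
set_option backward.isDefEq.respectTransparency false
open CategoryTheory AlgebraicGeometry
universe u
open Lim8

namespace Groth.Agent.S4837

/-- Let f : X ⟶ Y be a quasi-compact quasi-separated morphism, C a quasi-coherent O_Y-algebra with
relative spectrum Z = Spec(C) over Y, g : X ⟶ Z a Y-morphism which is an immersion, and φ : C ⟶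
f_*O_X the homomorphism of O_Y-algebras corresponding to g (the canonical identification of C with
the direct image of O_Z followed by the map induced by g). Then the scheme-theoretic image of g is
the whole of Z, i.e. the kernel ideal of g vanishes, if and only if φ is injective; and when this
holds g is an open immersion. -/
theorem result {X Y : Scheme.{u}} (f : X ⟶ Y)
    [QuasiCompact f] [QuasiSeparated f] (C : RelSpec.QCAlg Y) (g : X ⟶ C.spec) (w : g ≫ C.π = f)
    [IsImmersion g] (φ : C ⟶ RelSpec.QCAlg.directImage f)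
    (hφ : C.gammaMap ≫ φ.hom = AffAlg.algHom C.π f g w) :
    (g.ker = ⊥ ↔ ∀ U : Y.Opens, Function.Injective (φ.hom.app (Opposite.op U)).hom) ∧
      (g.ker = ⊥ → IsOpenImmersion g) := by
  haveI : QuasiCompact (g ≫ C.π) := w ▸ inferInstance
  haveI : QuasiCompact g := QuasiCompact.of_comp g C.π
  have hdom : g.ker = ⊥ → IsOpenImmersion g := fun h => by
    haveI : IsSchemeTheoreticallyDominant g := ⟨h⟩
    haveI : IsSchemeTheoreticallyDominant g.liftCoborder := by
      have H : IsPullback (𝟙 X) g.liftCoborder g g.coborderRange.ι := by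
        refine ⟨⟨by rw [Category.id_comp, Scheme.Hom.liftCoborder_ι]⟩, ⟨Limits.PullbackCone.IsLimit.mk _ (fun s => s.fst)
          (fun s => Category.comp_id _) (fun s => ?_) (fun s m h1 _ => (Category.comp_id m).symm.trans h1)⟩⟩
        rw [← cancel_mono g.coborderRange.ι, Category.assoc, Scheme.Hom.liftCoborder_ι, s.condition]
      exact IsSchemeTheoreticallyDominant.of_isPullback H
    haveI : IsIso g.liftCoborder.ker.subschemeι :=
      (Scheme.isIso_subschemeι_iff_eq_bot _).2 (g.liftCoborder.ker_eq_bot)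
    haveI : IsIso g.liftCoborder := by
      rw [← Scheme.Hom.toImage_imageι g.liftCoborder]
      infer_instance
    rw [← Scheme.Hom.liftCoborder_ι g]
    infer_instance
  haveI := Groth.Agent.RelSpecB.isIso_gammaMap C
  have key : ∀ U : Y.Opens, Function.Injective (φ.hom.app (Opposite.op U)).hom ↔
      Function.Injective (g.app (C.π ⁻¹ᵁ U)) := by
    intro U
    have h := congrArg (fun a => a.app (Opposite.op U)) hφ
    simp only [NatTrans.comp_app, Groth.Agent.EGA2.algHom_app] at h
    have h' : ∀ (V : X.Opens) (e : V ≤ g ⁻¹ᵁ (C.π ⁻¹ᵁ U)), V = g ⁻¹ᵁ (C.π ⁻¹ᵁ U) →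
        (Function.Injective (g.appLE (C.π ⁻¹ᵁ U) V e) ↔ Function.Injective (g.app (C.π ⁻¹ᵁ U))) := by
      rintro V e rfl
      rw [Scheme.Hom.appLE_eq_app]
    have heq : f ⁻¹ᵁ U = g ⁻¹ᵁ (C.π ⁻¹ᵁ U) := by
      conv_lhs => rw [← w]
      rfl
    refine Iff.trans ?_ (h' (f ⁻¹ᵁ U) heq.le heq)
    rw [← h]
    exact (Function.Injective.of_comp_iff' _
      (ConcreteCategory.bijective_of_isIso (C.gammaMap.app (Opposite.op U)))).symm
  refine ⟨⟨fun h U => (key U).2 ?_, fun h => ?_⟩, hdom⟩
  · haveI : IsSchemeTheoreticallyDominant g := ⟨h⟩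
    exact g.app_injective _
  · refine Scheme.IdealSheafData.ext_of_iSup_eq_top
      (fun U : Y.affineOpens => ⟨C.π ⁻¹ᵁ U, U.2.preimage C.π⟩) ?_ fun U => ?_
    · rw [← Scheme.Hom.preimage_iSup, iSup_affineOpens_eq_top, Scheme.Hom.preimage_top]
    · rw [Scheme.Hom.ker_apply, Scheme.IdealSheafData.ideal_bot, Pi.bot_apply, ← RingHom.injective_iff_ker_eq_bot]
      exact (key U).1 (h U)

end Groth.Agent.S4837
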