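import Groth.Statements.S4841
import Groth.Agent.Lib.LimComp13.Main

set_option autoImplicit false
universe u
open CategoryTheory AlgebraicGeometry
open Lim8

namespace Groth.Agent.S4841

/-- Let S = lim S_i be a cofiltered limit of schemes whose transition maps are affine and topological
embeddings (homeomorphisms onto subspaces), some stage S_{i₀} having Noetherian underlying space,
and assume that the underlying space of S is Noetherian. Then there is an index i over i₀ such that,
for every j over i, the map sending an irreducible component Y of S to the closure of its image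
under S ⟶ S_j is a bijection from the set of irreducible components of S onto the set of irreducible
components of S_j. -/
theorem result {I : Type u} [SmallCategory I] [IsCofiltered I]
    (D : I ⥤ Scheme.{u}) (c : Limits.Cone D) (hc : Limits.IsLimit c)
    [∀ (i j : I) (f : i ⟶ j), IsAffineHom (D.map f)] (i₀ : I)
    [TopologicalSpace.NoetherianSpace (D.obj i₀)] [TopologicalSpace.NoetherianSpace c.pt]
    (he : ∀ (i j : I) (φ : i ⟶ j), Topology.IsEmbedding ⇑(D.map φ)) :
    ∃ (i : I) (_ : i ⟶ i₀), ∀ (j : I) (_ : j ⟶ i),
      Set.BijOn (fun Y : Set c.pt => closure (⇑(c.π.app j) '' (Y : Set c.pt) : Set (D.obj j)))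
        (irreducibleComponents c.pt) (irreducibleComponents (D.obj j)) := by
  obtain ⟨i, ⟨e⟩, hi⟩ := LimComp13.exists_isDominant D i₀ he
  haveI : QuasiCompact (D.map e) := inferInstance
  haveI : CompactSpace (D.obj i) := QuasiCompact.compactSpace_of_compactSpace (D.map e)
  obtain ⟨i', a, h⟩ := (LimComp13.main D c hc i hi).1
  exact ⟨i', a ≫ e, h⟩

end Groth.Agent.S4841
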