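import Groth.Statements.S4843
import Groth.Agent.Lib.AmpleFib.ProjCons
import Groth.Agent.S4418
import Groth.Agent.S12416

set_option autoImplicit false
open CategoryTheory AlgebraicGeometry
universe u
open Cons9

namespace Groth.Agent.S4843

open CategoryTheory.Limits in
/-- Let g : Y ⟶ S and f : X ⟶ Y be such that X and Y are of finite presentation over S (locally of
finite presentation, quasi-compact and quasi-separated). For each point s of S let f_s : X_s ⟶ Y_s
be the morphism induced on the fibres over s. Then the set of s for which f_s is projective (X_s is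
isomorphic over Y_s to the homogeneous spectrum of a quasi-coherent graded O_{Y_s}-algebra generated
by its degree-one part, which is of finite type) is ind-constructible in S. -/
theorem result {X Y S : Scheme.{u}} (f : X ⟶ Y) (g : Y ⟶ S)
    [LocallyOfFinitePresentation g] [QuasiCompact g] [QuasiSeparated g]
    [LocallyOfFinitePresentation (f ≫ g)] [QuasiCompact (f ≫ g)] [QuasiSeparated (f ≫ g)] :
    ProCons.IsIndConstructible {s : S |
      RelProj.IsProjective
        (pullback.lift (pullback.fst (f ≫ g) (S.fromSpecResidueField s) ≫ f) (pullback.snd (f ≫ g) (S.fromSpecResidueField s))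
          ((Category.assoc _ _ _).trans pullback.condition) :
        pullback (f ≫ g) (S.fromSpecResidueField s) ⟶ pullback g (S.fromSpecResidueField s))} := by
  haveI : QuasiCompact f := QuasiCompact.of_comp f g
  haveI : QuasiSeparated f := QuasiSeparated.of_comp f g
  haveI : LocallyOfFiniteType f := locallyOfFiniteType_of_comp f g
  have key : ∀ s : S, RelProj.IsProjective
        (pullback.lift (pullback.fst (f ≫ g) (S.fromSpecResidueField s) ≫ f) (pullback.snd (f ≫ g) (S.fromSpecResidueField s))
          ((Category.assoc _ _ _).trans pullback.condition) :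
        pullback (f ≫ g) (S.fromSpecResidueField s) ⟶ pullback g (S.fromSpecResidueField s)) ↔
      AmpleFib.QPProp True (pullback.snd f (pullback.fst g (S.fromSpecResidueField s))) := fun s => by
    have h := AmpleFib.fibre_isPullback f g _ (S.fromSpecResidueField s)
    constructor
    · intro hs
      obtain ⟨⟨-, -, hL⟩, hpr⟩ := Groth.Agent.S4418.result _ hs
      exact AmpleFib.prop_pt f g (fun a => AmpleFib.QPProp True a) (fun h ha => ha.of_isPullback h) _ _ (𝟙 _)
        (Category.id_comp _) (IsPullback.of_hasPullback _ _) h (IsPullback.of_hasPullback _ _)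
        (IsPullback.of_hasPullback _ _) ⟨hL, fun _ => hpr⟩
    · intro hs
      obtain ⟨hL, hpr⟩ := AmpleFib.prop_pt f g (fun a => AmpleFib.QPProp True a) (fun h ha => ha.of_isPullback h) _ _ (𝟙 _)
          (Category.id_comp _) (IsPullback.of_hasPullback _ _) (IsPullback.of_hasPullback _ _)
          (IsPullback.of_hasPullback _ _) h hs
      haveI := hpr trivial
      haveI : QuasiCompact (pullback.snd g (S.fromSpecResidueField s)) := MorphismProperty.pullback_snd _ _ inferInstance
      haveI : QuasiSeparated (pullback.snd g (S.fromSpecResidueField s)) := MorphismProperty.pullback_snd _ _ inferInstance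
      haveI : CompactSpace ↥(pullback g (S.fromSpecResidueField s) : Scheme.{u}) :=
        QuasiCompact.compactSpace_of_compactSpace (pullback.snd g (S.fromSpecResidueField s))
      haveI : QuasiSeparatedSpace ↥(pullback g (S.fromSpecResidueField s) : Scheme.{u}) :=
        quasiSeparatedSpace_of_quasiSeparated (pullback.snd g (S.fromSpecResidueField s))
      exact Groth.Agent.S12416.result _ ⟨inferInstance, inferInstance, hL⟩
  refine ConsH13.isIndConstructible_of_affine _ fun A σ hσ p hp => ?_
  obtain ⟨C, hC, hpC, hCE⟩ := AmpleFib.exists_constructible_qp f g True A σ p ((key _).1 hp)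
  exact ⟨C, hC, hpC, fun q hq => (key _).2 (hCE q hq)⟩

end Groth.Agent.S4843
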