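import Groth.Statements.S4844
import Groth.Agent.Lib.AmpleFib.ProjCons

set_option autoImplicit false
open CategoryTheory AlgebraicGeometry
universe u
open Cons9

namespace Groth.Agent.S4844

open CategoryTheory.Limits in
/-- Let g : Y ⟶ S and f : X ⟶ Y be such that X and Y are of finite presentation over S (locally of
finite presentation, quasi-compact and quasi-separated). For each point s of S let f_s : X_s ⟶ Y_s
be the morphism induced on the fibres over s. Then the set of s for which f_s is quasi-projective
(of finite type, with an invertible O_{X_s}-module ample relative to f_s) is ind-constructible in S. -/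
theorem result {X Y S : Scheme.{u}} (f : X ⟶ Y) (g : Y ⟶ S)
    [LocallyOfFinitePresentation g] [QuasiCompact g] [QuasiSeparated g]
    [LocallyOfFinitePresentation (f ≫ g)] [QuasiCompact (f ≫ g)] [QuasiSeparated (f ≫ g)] :
    ProCons.IsIndConstructible {s : S |
      RelProj.IsQuasiProjective
        (pullback.lift (pullback.fst (f ≫ g) (S.fromSpecResidueField s) ≫ f) (pullback.snd (f ≫ g) (S.fromSpecResidueField s))
          ((Category.assoc _ _ _).trans pullback.condition) :
        pullback (f ≫ g) (S.fromSpecResidueField s) ⟶ pullback g (S.fromSpecResidueField s))} := by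
  haveI : QuasiCompact f := QuasiCompact.of_comp f g
  haveI : QuasiSeparated f := QuasiSeparated.of_comp f g
  haveI : LocallyOfFiniteType f := locallyOfFiniteType_of_comp f g
  have key : ∀ s : S, RelProj.IsQuasiProjective
        (pullback.lift (pullback.fst (f ≫ g) (S.fromSpecResidueField s) ≫ f) (pullback.snd (f ≫ g) (S.fromSpecResidueField s))
          ((Category.assoc _ _ _).trans pullback.condition) :
        pullback (f ≫ g) (S.fromSpecResidueField s) ⟶ pullback g (S.fromSpecResidueField s)) ↔
      AmpleFib.QPProp False (pullback.snd f (pullback.fst g (S.fromSpecResidueField s))) := fun s => by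
    have h := AmpleFib.fibre_isPullback f g _ (S.fromSpecResidueField s)
    constructor
    · rintro ⟨-, -, hL⟩
      exact ⟨(AmpleFib.prop_pt f g (fun a => AmpleFib.HasAmple a) (fun h ha => ha.of_isPullback h) _ _ (𝟙 _)
        (Category.id_comp _) (IsPullback.of_hasPullback _ _) h (IsPullback.of_hasPullback _ _)
        (IsPullback.of_hasPullback _ _) hL), False.elim⟩
    · intro hs
      exact ⟨MorphismProperty.of_isPullback (P := @LocallyOfFiniteType) h inferInstance,
        MorphismProperty.of_isPullback (P := @QuasiCompact) h inferInstance,
        AmpleFib.prop_pt f g (fun a => AmpleFib.HasAmple a) (fun h ha => ha.of_isPullback h) _ _ (𝟙 _)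
          (Category.id_comp _) (IsPullback.of_hasPullback _ _) (IsPullback.of_hasPullback _ _)
          (IsPullback.of_hasPullback _ _) h hs.1⟩
  refine ConsH13.isIndConstructible_of_affine _ fun A σ hσ p hp => ?_
  obtain ⟨C, hC, hpC, hCE⟩ := AmpleFib.exists_constructible_qp f g False A σ p ((key _).1 hp)
  exact ⟨C, hC, hpC, fun q hq => (key _).2 (hCE q hq)⟩

end Groth.Agent.S4844
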