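import Groth.Statements.S4850
import Groth.Agent.Lib.SchDom.FlatInj
import Groth.Agent.Lib.FlatH4.ModFlatAt
import Groth.Agent.Lib.FlatH4.FlatLocal
import Groth.Agent.Lib.ModM1.Exact
import Groth.Agent.Lib.FlatSyz.Kernel
import Groth.Prelude.Def_Algz2
import Groth.Agent.S4863

set_option autoImplicit false
universe u
open EGA43

namespace Groth.Agent.S4850

open Groth.Agent TensorProduct

/-- Membership in `p M` for the extension of an ideal through a module over an algebra. -/
theorem mem_map_smul_top_iff {A S M : Type u} [CommRing A] [CommRing S] [Algebra A S] [AddCommGroup M]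
    [Module A M] [Module S M] [IsScalarTower A S M] (p : Ideal A) (x : M) :
    x ∈ p.map (algebraMap A S) • (⊤ : Submodule S M) ↔ x ∈ p • (⊤ : Submodule A M) := by
  constructor
  · intro hx
    refine Submodule.smul_induction_on hx (fun c hc v _ => ?_) fun _ _ => add_mem
    refine Submodule.span_induction (p := fun c _ => c • v ∈ p • (⊤ : Submodule A M)) ?_ ?_ ?_ ?_ hc
    · rintro _ ⟨a, ha, rfl⟩
      rw [algebraMap_smul]
      exact Submodule.smul_mem_smul ha trivial
    · simp
    · intro c d _ _ hc hd; rw [add_smul]; exact add_mem hc hd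
    · intro q c _ hc
      rw [smul_eq_mul, mul_smul]
      exact (Submodule.map_smul'' p (⊤ : Submodule A M)
        ((LinearMap.lsmul S M q).restrictScalars A)).trans_le
        (Submodule.smul_mono le_rfl le_top) (Submodule.mem_map_of_mem hc)
  · intro hx
    refine Submodule.smul_induction_on hx (fun a ha v _ => ?_) fun _ _ => add_mem
    rw [← algebraMap_smul S a v]
    exact Submodule.smul_mem_smul (Ideal.mem_map_of_mem _ ha) trivial

/-- Membership in `p M_r`, on representatives. -/
theorem exists_smul_mem_of_localized {A B M M' : Type u} [CommRing A] [CommRing B] [Algebra A B]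
    [AddCommGroup M] [Module A M] [Module B M] [IsScalarTower A B M] [AddCommGroup M'] [Module A M']
    [Module B M'] [IsScalarTower A B M'] (p : Ideal A) (r : Ideal B) [r.IsPrime] (g : M →ₗ[B] M')
    [IsLocalizedModule r.primeCompl g] (z : M) (hz : g z ∈ p • (⊤ : Submodule A M')) :
    ∃ t' ∉ r, t' • z ∈ p • (⊤ : Submodule A M) := by
  have main : ∀ n ∈ p • (⊤ : Submodule A M'), ∃ t ∉ r, ∃ w ∈ p • (⊤ : Submodule A M), t • n = g w := by
    intro n hn
    refine Submodule.smul_induction_on hn (fun a ha v _ => ?_) ?_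
    · obtain ⟨⟨w, c⟩, hw⟩ := IsLocalizedModule.surj r.primeCompl g v
      refine ⟨c, c.2, a • w, Submodule.smul_mem_smul ha trivial, ?_⟩
      rw [LinearMap.map_smul_of_tower, ← (show (c : B) • v = g w from hw), smul_comm]
    · rintro n₁ n₂ ⟨t₁, ht₁, w₁, hw₁, e₁⟩ ⟨t₂, ht₂, w₂, hw₂, e₂⟩
      refine ⟨t₁ * t₂, fun hm => (Ideal.IsPrime.mem_or_mem ‹r.IsPrime› hm).elim ht₁ ht₂,
        t₂ • w₁ + t₁ • w₂, add_mem ?_ ?_, ?_⟩
      · exact (Submodule.map_smul'' p (⊤ : Submodule A M) ((LinearMap.lsmul B M t₂).restrictScalars A)).trans_le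
          (Submodule.smul_mono le_rfl le_top) (Submodule.mem_map_of_mem hw₁)
      · exact (Submodule.map_smul'' p (⊤ : Submodule A M) ((LinearMap.lsmul B M t₁).restrictScalars A)).trans_le
          (Submodule.smul_mono le_rfl le_top) (Submodule.mem_map_of_mem hw₂)
      · rw [smul_add, map_add, map_smul, map_smul, ← e₁, ← e₂, smul_smul, smul_smul, mul_comm t₂]
  obtain ⟨t, ht, w, hw, e⟩ := main _ hz
  obtain ⟨d, hd⟩ := (IsLocalizedModule.eq_iff_exists r.primeCompl g).1 (show g (t • z) = g w by rw [map_smul, e])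
  refine ⟨(d : B) * t, fun hm => (Ideal.IsPrime.mem_or_mem ‹r.IsPrime› hm).elim d.2 ht, ?_⟩
  rw [mul_smul]
  show d • t • z ∈ _
  rw [hd]
  exact (Submodule.map_smul'' p (⊤ : Submodule A M) ((LinearMap.lsmul B M (d : B)).restrictScalars A)).trans_le
    (Submodule.smul_mono le_rfl le_top) (Submodule.mem_map_of_mem hw)

open AlgebraicGeometry CategoryTheory Limits in
/-- Equivalence of a: and b)): let f : X ⟶ Y be locally of finite presentation, F and F' quasi-coherent
O_X-modules of finite presentation, u : F' ⟶ F a homomorphism and x a point with y = f x, such that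
F is f-flat at x. Then the stalk map u_x is injective and Coker u is f-flat at x, if and only if u_x
induces an injective map F'_x / m_y F'_x → F_x / m_y F_x. The second condition is written out: an
element of F'_x whose image under u_x lies in m_y F_x already lies in m_y F'_x. (The vanishing of
the stalk (Ker u)_x is expressed as injectivity of u_x.) -/
theorem result {X Y : Scheme.{u}} (f : X ⟶ Y)
    [LocallyOfFinitePresentation f] (F F' : X.Modules) [Coh.IsQCoh F] [Coh.IsQCoh F']
    (hF : CohB1.IsFP F) (hF' : CohB1.IsFP F') (u : F' ⟶ F) (x : X) (hflat : FlatMod.IsFlatOverAt f F x) :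
    letI J : Ideal ↑(X.presheaf.stalk x) :=
      Ideal.map (f.stalkMap x).hom (IsLocalRing.maximalIdeal ↑(Y.presheaf.stalk (f x)))
    letI ux := (TopCat.Presheaf.stalkFunctor Ab x).map (Scheme.Modules.Hom.mapPresheaf u)
    (Function.Injective ux ∧ FlatMod.IsFlatOverAt f (cokernel u) x) ↔
      ∀ m : ↑(F'.presheaf.stalk x),
        ux m ∈ (J • (⊤ : Submodule ↑(X.presheaf.stalk x) ↑(F.presheaf.stalk x))) →
          m ∈ (J • (⊤ : Submodule ↑(X.presheaf.stalk x) ↑(F'.presheaf.stalk x))) := by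
  obtain ⟨V, hV, hyV, -⟩ := exists_isAffineOpen_mem_and_subset (X := Y) (x := f x) (U := ⊤) trivial
  obtain ⟨W, hW, hxW, hle⟩ := exists_isAffineOpen_mem_and_subset (X := X) (x := x)
    (U := f ⁻¹ᵁ V ⊓ ⟨_, Groth.Agent.S4863.result f F hF⟩) ⟨hyV, hflat⟩
  have hWV : W ≤ f ⁻¹ᵁ V := hle.trans inf_le_left
  letI : Algebra Γ(Y, V) Γ(X, W) := (f.appLE V W hWV).hom.toAlgebra
  haveI : Algebra.FinitePresentation Γ(Y, V) Γ(X, W) := f.finitePresentation_appLE hV hW hWV
  letI := FlatH4.secModuleOver f F V W hWV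
  haveI : IsScalarTower Γ(Y, V) Γ(X, W) Γ(F, W) := IsScalarTower.of_algebraMap_smul fun _ _ => rfl
  letI := FlatH4.secModuleOver f F' V W hWV
  haveI : IsScalarTower Γ(Y, V) Γ(X, W) Γ(F', W) := IsScalarTower.of_algebraMap_smul fun _ _ => rfl
  haveI : Module.FinitePresentation Γ(X, W) Γ(F, W) := M1.finitePresentation_sections hF hW
  haveI : Module.FinitePresentation Γ(X, W) Γ(F', W) := M1.finitePresentation_sections hF' hW
  haveI : Module.Flat Γ(Y, V) Γ(F, W) :=
    FlatH4.flat_of_localized_maximal_algebra (S := Γ(X, W)) fun q hq => by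
      obtain ⟨⟨z, hz⟩, hzq⟩ := hW.isoSpec.hom.surjective ⟨q, hq.isPrime⟩
      have h1 : hW.primeIdealOf ⟨z, hz⟩ = ⟨q, hq.isPrime⟩ := hzq
      have h2 := (FlatH4.isFlatOverAt_iff f F V hV W hW hWV hz).1 ((hle hz).2)
      convert h2 using 3 <;> rw [h1]
  let C := cokernel u
  let π : F ⟶ C := cokernel.π u
  let ux := Algz.stalkMapₗ u x
  let πx := Algz.stalkMapₗ π x
  let φ : Γ(F', W) →ₗ[Γ(X, W)] Γ(F, W) :=
    { toFun := u.app W
      map_add' := fun a b => map_add _ a b
      map_smul' := fun c a => Scheme.Modules.Hom.app_smul _ c a }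
  let r := (hW.primeIdealOf ⟨x, hxW⟩).asIdeal
  let p := r.comap (algebraMap Γ(Y, V) Γ(X, W))
  letI : Algebra Γ(X, W) (X.presheaf.stalk x) := X.presheaf.algebra_section_stalk ⟨x, hxW⟩
  letI : Algebra Γ(Y, V) (Y.presheaf.stalk (f x)) := Y.presheaf.algebra_section_stalk ⟨f x, hWV hxW⟩
  haveI : IsLocalization.AtPrime (Y.presheaf.stalk (f x)) (hV.primeIdealOf ⟨f x, hWV hxW⟩).asIdeal :=
    hV.isLocalization_stalk ⟨f x, hWV hxW⟩
  letI : Algebra Γ(Y, V) (X.presheaf.stalk x) :=
    ((algebraMap Γ(X, W) (X.presheaf.stalk x)).comp (algebraMap Γ(Y, V) Γ(X, W))).toAlgebra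
  haveI : IsScalarTower Γ(Y, V) Γ(X, W) (X.presheaf.stalk x) := IsScalarTower.of_algebraMap_eq fun _ => rfl
  have hgerm : ∀ a : Γ(Y, V), X.presheaf.germ W x hxW (f.appLE V W hWV a) =
      f.stalkMap x (Y.presheaf.germ V (f x) (hWV hxW) a) := fun a => by
    rw [Scheme.Hom.germ_stalkMap_apply]
    exact X.presheaf.germ_res_apply (homOfLE hWV) x hxW _
  letI := M1.stalkModule F hxW
  letI := M1.stalkModule F' hxW
  letI := M1.stalkModule C hxW
  letI : Module Γ(Y, V) (F.presheaf.stalk x : Type u) := Module.compHom _ (algebraMap Γ(Y, V) Γ(X, W))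
  letI : Module Γ(Y, V) (F'.presheaf.stalk x : Type u) := Module.compHom _ (algebraMap Γ(Y, V) Γ(X, W))
  letI : Module Γ(Y, V) (C.presheaf.stalk x : Type u) := Module.compHom _ (algebraMap Γ(Y, V) Γ(X, W))
  haveI : IsScalarTower Γ(Y, V) Γ(X, W) (F.presheaf.stalk x : Type u) :=
    IsScalarTower.of_algebraMap_smul fun _ _ => rfl
  haveI : IsScalarTower Γ(Y, V) Γ(X, W) (F'.presheaf.stalk x : Type u) :=
    IsScalarTower.of_algebraMap_smul fun _ _ => rfl
  haveI : IsScalarTower Γ(Y, V) Γ(X, W) (C.presheaf.stalk x : Type u) :=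
    IsScalarTower.of_algebraMap_smul fun _ _ => rfl
  haveI : IsScalarTower Γ(Y, V) (X.presheaf.stalk x) (F.presheaf.stalk x : Type u) :=
    IsScalarTower.of_algebraMap_smul fun _ _ => rfl
  haveI : IsScalarTower Γ(Y, V) (X.presheaf.stalk x) (F'.presheaf.stalk x : Type u) :=
    IsScalarTower.of_algebraMap_smul fun _ _ => rfl
  haveI : IsScalarTower Γ(Y, V) (X.presheaf.stalk x) (C.presheaf.stalk x : Type u) :=
    IsScalarTower.of_algebraMap_smul fun _ _ => rfl
  haveI := M1.isLocalizedModule_germ F hW hxW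
  haveI := M1.isLocalizedModule_germ F' hW hxW
  let uB : (F'.presheaf.stalk x : Type u) →ₗ[Γ(X, W)] (F.presheaf.stalk x : Type u) :=
    { toFun := ux, map_add' := map_add ux, map_smul' := fun c a => ux.map_smul _ a }
  let πB : (F.presheaf.stalk x : Type u) →ₗ[Γ(X, W)] (C.presheaf.stalk x : Type u) :=
    { toFun := πx, map_add' := map_add πx, map_smul' := fun c a => πx.map_smul _ a }
  have hnat : ∀ z, uB (M1.germₗ F' hxW z) = M1.germₗ F hxW (φ z) := fun z => M1.germ_naturality u W x hxW z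
  -- the cokernel on stalks
  let Sc : ShortComplex X.Modules := ShortComplex.mk u π (cokernel.condition u)
  have hexact : Function.Exact uB πB := by
    intro v
    constructor
    · intro hv
      obtain ⟨a, ha⟩ := (M1.exact_iff_stalk_eq_zero Sc).1 (ShortComplex.exact_cokernel u) x v hv
      exact ⟨a, ha⟩
    · rintro ⟨a, rfl⟩
      show (M1.stalkAb x).map Sc.g ((M1.stalkAb x).map Sc.f a) = 0
      rw [← ConcreteCategory.comp_apply, ← Functor.map_comp, Sc.zero, Functor.map_zero]; rfl
  have hπ : Function.Surjective πB := (M1.epi_iff_stalk Sc.g).1 (inferInstanceAs (Epi (cokernel.π u))) x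
  have hp : p = (hV.primeIdealOf ⟨f x, hWV hxW⟩).asIdeal :=
    congrArg PrimeSpectrum.asIdeal (IsAffineOpen.comap_primeIdealOf_appLE V hV W hW hWV hxW)
  have hJ : Ideal.map (f.stalkMap x).hom (IsLocalRing.maximalIdeal (Y.presheaf.stalk (f x))) =
      p.map (algebraMap Γ(Y, V) (X.presheaf.stalk x)) := by
    rw [hp, ← IsLocalization.AtPrime.map_eq_maximalIdeal (hV.primeIdealOf ⟨f x, hWV hxW⟩).asIdeal
      (Y.presheaf.stalk (f x)), Ideal.map_map]
    exact congrArg (Ideal.map · (hV.primeIdealOf ⟨f x, hWV hxW⟩).asIdeal)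
      (RingHom.ext fun a => (hgerm a).symm)
  have hflatC : FlatMod.IsFlatOverAt f C x ↔ Module.Flat Γ(Y, V) (C.presheaf.stalk x : Type u) := by
    letI := FlatMod.moduleStalkOver f C x
    haveI : IsScalarTower Γ(Y, V) (Y.presheaf.stalk (f x)) (C.presheaf.stalk x : Type u) :=
      IsScalarTower.of_algebraMap_smul fun a v => by
        show f.stalkMap x (Y.presheaf.germ V (f x) (hWV hxW) a) • v = X.presheaf.germ W x hxW (f.appLE V W hWV a) • v
        rw [hgerm]
    exact Module.flat_iff_of_isLocalization (Y.presheaf.stalk (f x))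
      (hV.primeIdealOf ⟨f x, hWV hxW⟩).asIdeal.primeCompl (C.presheaf.stalk x : Type u)
  show Function.Injective uB ∧ FlatMod.IsFlatOverAt f C x ↔
    ∀ m, uB m ∈ Ideal.map (f.stalkMap x).hom (IsLocalRing.maximalIdeal (Y.presheaf.stalk (f x))) •
      (⊤ : Submodule (X.presheaf.stalk x) (F.presheaf.stalk x : Type u)) →
      m ∈ Ideal.map (f.stalkMap x).hom (IsLocalRing.maximalIdeal (Y.presheaf.stalk (f x))) •
      (⊤ : Submodule (X.presheaf.stalk x) (F'.presheaf.stalk x : Type u))
  simp only [hJ, mem_map_smul_top_iff, hflatC]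
  constructor
  · rintro ⟨hinj, hC⟩ m hm
    haveI := hC
    have h1 := FlatSyz.lTensor_subtype_injective_of_flat_quotient (R := Γ(Y, V)) (uB.restrictScalars _) hinj
      (πB.restrictScalars _) hexact hπ (Γ(Y, V) ⧸ p)
    apply (FlatH4.one_tmul_eq_zero_iff p m).1
    apply h1
    rw [map_zero, LinearMap.lTensor_tmul]
    exact (FlatH4.one_tmul_eq_zero_iff p _).2 hm
  · intro h
    have hmem : ∀ {G G' : Type u} [AddCommGroup G] [Module Γ(Y, V) G] [AddCommGroup G'] [Module Γ(Y, V) G']
        (g : G →ₗ[Γ(Y, V)] G') (z : G), z ∈ p • (⊤ : Submodule Γ(Y, V) G) →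
        g z ∈ p • (⊤ : Submodule Γ(Y, V) G') := fun g z hz =>
      (Submodule.map_smul'' p ⊤ g).trans_le (Submodule.smul_mono le_rfl le_top) (Submodule.mem_map_of_mem hz)
    obtain ⟨hI, hF₁⟩ := SchDom.injective_flat_coker_of_fibre (A := Γ(Y, V)) r φ fun z t ht hz => by
      have h1 : uB (M1.germₗ F' hxW (t • z)) ∈ p • (⊤ : Submodule Γ(Y, V) (F.presheaf.stalk x : Type u)) := by
        rw [hnat, map_smul φ]
        exact hmem ((M1.germₗ F hxW).restrictScalars Γ(Y, V)) _ hz
      obtain ⟨t', ht', hz'⟩ := exists_smul_mem_of_localized p r (M1.germₗ F' hxW) (t • z) (h _ h1)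
      exact ⟨t' * t, fun hm => (Ideal.IsPrime.mem_or_mem inferInstance hm).elim ht' ht, by rwa [mul_smul]⟩
    constructor
    · rw [injective_iff_map_eq_zero]
      intro m hm
      obtain ⟨⟨z, c⟩, hz⟩ := IsLocalizedModule.surj r.primeCompl (M1.germₗ F' hxW) m
      have hz0 : M1.germₗ F hxW (φ z) = 0 := by
        rw [← hnat, ← show (c : Γ(X, W)) • m = M1.germₗ F' hxW z from hz, map_smul, hm, smul_zero]
      obtain ⟨d, hd⟩ := (IsLocalizedModule.eq_zero_iff r.primeCompl _).1 hz0
      obtain ⟨t', ht', hzt⟩ := hI z d d.2 hd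
      have h2 : M1.germₗ F' hxW z = 0 :=
        (IsLocalizedModule.eq_zero_iff r.primeCompl _).2 ⟨⟨t', ht'⟩, hzt⟩
      rw [← show (c : Γ(X, W)) • m = M1.germₗ F' hxW z from hz] at h2
      exact ((Module.End.isUnit_iff _).1 (IsLocalizedModule.map_units (M1.germₗ F' hxW) c)).1
        (h2.trans (map_zero _).symm)
    · let g : (Γ(F, W) ⧸ LinearMap.range φ) →ₗ[Γ(X, W)] (C.presheaf.stalk x : Type u) :=
        (LinearMap.range φ).liftQ (πB.comp (M1.germₗ F hxW)) (by
          rintro _ ⟨z, rfl⟩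
          rw [LinearMap.mem_ker, LinearMap.comp_apply, ← hnat]
          exact (hexact _).2 ⟨_, rfl⟩)
      haveI : IsLocalizedModule r.primeCompl g := by
        constructor
        · intro c
          rw [Module.End.isUnit_iff]
          obtain ⟨v, hv⟩ := (M1.isUnit_germ_iff hW hxW c.1).mpr c.2
          refine Function.bijective_iff_has_inverse.mpr ⟨fun a => (↑v⁻¹ : X.presheaf.stalk x) • a,
            fun a => ?_, fun a => ?_⟩
          · change (↑v⁻¹ : X.presheaf.stalk x) • (X.presheaf.germ W x hxW c.1 • a) = a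
            rw [← hv, ← mul_smul, Units.inv_mul, one_smul]
          · change X.presheaf.germ W x hxW c.1 • ((↑v⁻¹ : X.presheaf.stalk x) • a) = a
            rw [← hv, ← mul_smul, Units.mul_inv, one_smul]
        · intro a
          obtain ⟨v, rfl⟩ := hπ a
          obtain ⟨⟨z, c⟩, hz⟩ := IsLocalizedModule.surj r.primeCompl (M1.germₗ F hxW) v
          refine ⟨⟨Submodule.Quotient.mk z, c⟩, ?_⟩
          show (c : Γ(X, W)) • πB v = πB (M1.germₗ F hxW z)
          rw [← map_smul, show (c : Γ(X, W)) • v = M1.germₗ F hxW z from hz]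
        · intro a b hab
          obtain ⟨a, rfl⟩ := Submodule.Quotient.mk_surjective _ a
          obtain ⟨b, rfl⟩ := Submodule.Quotient.mk_surjective _ b
          have h0 : πB (M1.germₗ F hxW (a - b)) = 0 := by
            rw [map_sub, map_sub, sub_eq_zero]; exact hab
          obtain ⟨m, hm⟩ := (hexact _).1 h0
          obtain ⟨⟨z, c⟩, hz⟩ := IsLocalizedModule.surj r.primeCompl (M1.germₗ F' hxW) m
          have h1 : M1.germₗ F hxW ((c : Γ(X, W)) • (a - b)) = M1.germₗ F hxW (φ z) := by
            rw [map_smul, ← hm, ← hnat, ← map_smul, show (c : Γ(X, W)) • m = M1.germₗ F' hxW z from hz]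
          obtain ⟨d, hd⟩ := (IsLocalizedModule.eq_iff_exists r.primeCompl _).1 h1
          refine ⟨d * c, ?_⟩
          simp only [Submonoid.smul_def, Submonoid.coe_mul]
          rw [← Submodule.Quotient.mk_smul, ← Submodule.Quotient.mk_smul, Submodule.Quotient.eq, ← smul_sub,
            mul_smul]
          exact ⟨(d : Γ(X, W)) • z, by rw [map_smul]; exact hd.symm⟩
      exact Module.Flat.of_linearEquiv
        ((IsLocalizedModule.iso r.primeCompl g).symm.restrictScalars Γ(Y, V))

end Groth.Agent.S4850
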