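import Groth.Statements.S4851
import Groth.Agent.Lib.SchDom.ModCoker
import Groth.Agent.Lib.FlatH4.FlatLocal
import Groth.Agent.Lib.FlatH4.FlatLocusFP
import Groth.Agent.Lib.FlatSyz.Kernel
import Groth.Agent.Lib.ModM1.Coh

set_option autoImplicit false
universe u
open EGA43

namespace Groth.Agent.S4851

open Groth.Agent AlgebraicGeometry CategoryTheory Limits

/-- Let f : X ⟶ Y be locally of finite presentation, F and F' quasi-coherent O_X-modules of finite
presentation and u : F' ⟶ F a homomorphism. Then the set of points x of X at which the stalk map u_x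
is injective and Coker u is f-flat at x is open in X. (No flatness hypothesis on F is made; the form
of this openness statement in which F is moreover assumed f-flat is a special case.) -/
theorem result {X Y : Scheme.{u}} (f : X ⟶ Y)
    [LocallyOfFinitePresentation f] (F F' : X.Modules) [Coh.IsQCoh F] [Coh.IsQCoh F']
    (hF : CohB1.IsFP F) (hF' : CohB1.IsFP F') (u : F' ⟶ F) :
    IsOpen {x : X | Function.Injective ((TopCat.Presheaf.stalkFunctor Ab x).map (Scheme.Modules.Hom.mapPresheaf u)) ∧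
      FlatMod.IsFlatOverAt f (cokernel u) x} := by
  refine isOpen_iff_forall_mem_open.mpr fun x hx => ?_
  obtain ⟨V, hV, hyV, -⟩ := exists_isAffineOpen_mem_and_subset (X := Y) (x := f x) (U := ⊤) trivial
  -- openness of the flat locus of the cokernel
  obtain ⟨O, hxO, hOV, hO⟩ : ∃ O : X.Opens, x ∈ O ∧ O ≤ f ⁻¹ᵁ V ∧
      ∀ z ∈ O, FlatMod.IsFlatOverAt f (cokernel u) z := by
    obtain ⟨W, hW, hxW, hWV'⟩ := exists_isAffineOpen_mem_and_subset (X := X) (x := x) (U := f ⁻¹ᵁ V) hyV
    have hWV : W ≤ f ⁻¹ᵁ V := hWV'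
    letI : Algebra Γ(Y, V) Γ(X, W) := (f.appLE V W hWV).hom.toAlgebra
    haveI : Algebra.FinitePresentation Γ(Y, V) Γ(X, W) := f.finitePresentation_appLE hV hW hWV
    letI := FlatH4.secModuleOver f F V W hWV
    haveI : IsScalarTower Γ(Y, V) Γ(X, W) Γ(F, W) := IsScalarTower.of_algebraMap_smul fun _ _ => rfl
    haveI : Module.FinitePresentation Γ(X, W) Γ(F, W) := M1.finitePresentation_sections hF hW
    haveI : Module.FinitePresentation Γ(X, W) Γ(F', W) := M1.finitePresentation_sections hF' hW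
    let φ : Γ(F', W) →ₗ[Γ(X, W)] Γ(F, W) :=
      { toFun := u.app W
        map_add' := fun a b => map_add _ a b
        map_smul' := fun c a => Scheme.Modules.Hom.app_smul _ c a }
    haveI : Module.FinitePresentation Γ(X, W) (Γ(F, W) ⧸ LinearMap.range φ) :=
      Module.finitePresentation_of_surjective (LinearMap.range φ).mkQ (Submodule.mkQ_surjective _)
        (by rw [Submodule.ker_mkQ, LinearMap.range_eq_map]
            exact (Module.Finite.fg_top (R := Γ(X, W)) (M := Γ(F', W))).map φ)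
    have hopen := FlatH4.isOpen_flat_localized (R := Γ(Y, V)) (S := Γ(X, W))
      (M := Γ(F, W) ⧸ LinearMap.range φ)
    have hc : Continuous fun y : W => hW.primeIdealOf y := hW.isoSpec.hom.continuous
    refine ⟨⟨_, W.2.isOpenEmbedding_subtypeVal.isOpenMap _ (hopen.preimage hc)⟩,
      ⟨⟨x, hxW⟩, (SchDom.coker_stalk_iff f u hV hW hWV φ (fun _ => rfl) hxW).1.1 hx.2, rfl⟩, ?_, ?_⟩
    · rintro _ ⟨⟨z, hz⟩, -, rfl⟩
      exact hWV hz
    · rintro _ ⟨⟨z, hz⟩, hzf, rfl⟩
      exact (SchDom.coker_stalk_iff f u hV hW hWV φ (fun _ => rfl) hz).1.2 hzf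
  obtain ⟨W, hW, hxW, hWO'⟩ := exists_isAffineOpen_mem_and_subset (X := X) (x := x) (U := O) hxO
  have hWO : W ≤ O := hWO'
  have hWV : W ≤ f ⁻¹ᵁ V := hWO.trans hOV
  letI : Algebra Γ(Y, V) Γ(X, W) := (f.appLE V W hWV).hom.toAlgebra
  haveI : Algebra.FinitePresentation Γ(Y, V) Γ(X, W) := f.finitePresentation_appLE hV hW hWV
  letI := FlatH4.secModuleOver f F V W hWV
  haveI : IsScalarTower Γ(Y, V) Γ(X, W) Γ(F, W) := IsScalarTower.of_algebraMap_smul fun _ _ => rfl
  haveI : Module.FinitePresentation Γ(X, W) Γ(F, W) := M1.finitePresentation_sections hF hW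
  haveI : Module.FinitePresentation Γ(X, W) Γ(F', W) := M1.finitePresentation_sections hF' hW
  let φ : Γ(F', W) →ₗ[Γ(X, W)] Γ(F, W) :=
    { toFun := u.app W
      map_add' := fun a b => map_add _ a b
      map_smul' := fun c a => Scheme.Modules.Hom.app_smul _ c a }
  let π := (LinearMap.range φ).mkQ
  haveI : Module.FinitePresentation Γ(X, W) (Γ(F, W) ⧸ LinearMap.range φ) :=
    Module.finitePresentation_of_surjective π (Submodule.mkQ_surjective _)
      (by rw [Submodule.ker_mkQ, LinearMap.range_eq_map]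
          exact (Module.Finite.fg_top (R := Γ(X, W)) (M := Γ(F', W))).map φ)
  haveI : Module.Flat Γ(Y, V) (Γ(F, W) ⧸ LinearMap.range φ) :=
    FlatH4.flat_of_localized_maximal_algebra (S := Γ(X, W)) fun q hq => by
      obtain ⟨⟨z, hz⟩, hzq⟩ := hW.isoSpec.hom.surjective ⟨q, hq.isPrime⟩
      have h1 : hW.primeIdealOf ⟨z, hz⟩ = ⟨q, hq.isPrime⟩ := hzq
      have h2 := (SchDom.coker_stalk_iff f u hV hW hWV φ (fun _ => rfl) hz).1.1 (hO z (hWO hz))
      obtain rfl : (hW.primeIdealOf ⟨z, hz⟩).asIdeal = q := congrArg PrimeSpectrum.asIdeal h1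
      exact h2
  haveI : Module.FinitePresentation Γ(X, W) (LinearMap.range φ) := by
    haveI := FlatSyz.finitePresentation_ker (A := Γ(Y, V)) π (Submodule.mkQ_surjective _)
    exact Module.FinitePresentation.of_equiv (LinearEquiv.ofEq _ _ (Submodule.ker_mkQ _))
  have hfg : (LinearMap.ker φ).FG := by
    rw [← LinearMap.ker_rangeRestrict]
    exact Module.FinitePresentation.fg_ker φ.rangeRestrict φ.surjective_rangeRestrict
  obtain ⟨k, gen, hgen⟩ := Submodule.fg_iff_exists_fin_generating_family.1 hfg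
  choose d hd hdk using fun i => (SchDom.coker_stalk_iff f u hV hW hWV φ (fun _ => rfl) hxW).2.1 hx.1 (gen i) 1
    (fun h1 => (hW.primeIdealOf ⟨x, hxW⟩).isPrime.ne_top ((Ideal.eq_top_iff_one _).2 h1))
    (by rw [one_smul]; exact LinearMap.mem_ker.1 (hgen.le (Submodule.subset_span ⟨i, rfl⟩)))
  let D := ∏ i, d i
  refine ⟨X.basicOpen D, fun z hz => ?_, (X.basicOpen D).2, ?_⟩
  · have hzW : z ∈ W := X.basicOpen_le _ hz
    refine ⟨(SchDom.coker_stalk_iff f u hV hW hWV φ (fun _ => rfl) hzW).2.2 fun y t ht hy => ?_,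
      hO z (hWO hzW)⟩
    refine ⟨D * t, fun hm => ((hW.primeIdealOf ⟨z, hzW⟩).isPrime.mem_or_mem hm).elim
      ((M1.isUnit_germ_iff hW hzW D).1 ((X.mem_basicOpen D z hzW).1 hz)) ht, ?_⟩
    rw [mul_smul]
    have hker : t • y ∈ LinearMap.ker φ := by rw [LinearMap.mem_ker, map_smul]; exact hy
    rw [← hgen] at hker
    generalize t • y = v at hker ⊢
    induction hker using Submodule.span_induction with
    | mem v hv =>
      obtain ⟨i, rfl⟩ := hv
      rw [show D = (∏ j ∈ Finset.univ.erase i, d j) * d i from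
        (Finset.prod_erase_mul _ _ (Finset.mem_univ i)).symm, mul_smul, hdk i, smul_zero]
    | zero => exact smul_zero _
    | add a b _ _ ha hb => rw [smul_add, ha, hb, add_zero]
    | smul c a _ ha => rw [smul_comm, ha, smul_zero]
  · rw [SetLike.mem_coe, X.mem_basicOpen D x hxW, M1.isUnit_germ_iff hW hxW]
    intro hm
    obtain ⟨i, -, hi⟩ := (Ideal.IsPrime.prod_mem_iff).1 hm
    exact hd i hi

end Groth.Agent.S4851
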