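import Groth.Statements.S4852
import Groth.Agent.Lib.FlatSyz.NilpFree
import Mathlib.RingTheory.Flat.Localization
import Mathlib.RingTheory.TensorProduct.Maps

set_option autoImplicit false
universe u
open TensorProduct
open EGA43

namespace Groth.Agent.S4852

/-- Let A be a semi-local ring (finitely many maximal ideals) whose Jacobson radical is nilpotent, for
instance an Artinian ring, and let (u_i : A → B_i) be a family of ring homomorphisms whose kernels
have zero intersection. Then an A-module M is flat if and only if, for every i, the B_i-module B_i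
⊗_A M is flat. -/
theorem result {A : Type u} [CommRing A]
    [Finite (MaximalSpectrum A)] (hnil : IsNilpotent (Ring.jacobson A))
    {ι : Type u} (B : ι → Type u) [∀ i, CommRing (B i)] [∀ i, Algebra A (B i)]
    (hB : ∀ a : A, (∀ i, algebraMap A (B i) a = 0) → a = 0)
    (M : Type u) [AddCommGroup M] [Module A M] :
    Module.Flat A M ↔ ∀ i, Module.Flat (B i) (B i ⊗[A] M) := by
  refine ⟨fun _ i => inferInstance, fun h => Module.flat_of_localized_maximal M fun m hm => ?_⟩
  classical
  haveI := Fintype.ofFinite (MaximalSpectrum A)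
  -- elements separating the maximal ideals
  have hne : ∀ n n' : MaximalSpectrum A, n ≠ n' → ∃ x, x ∈ n'.asIdeal ∧ x ∉ n.asIdeal := by
    intro n n' hne
    refine SetLike.not_le_iff_exists.1 fun hle => hne ?_
    exact MaximalSpectrum.ext (n'.isMaximal.eq_of_le n.isMaximal.ne_top hle).symm
  choose! x hx using hne
  let c : MaximalSpectrum A → A := fun n => ∏ n' ∈ Finset.univ.erase n, x n n'
  have hc : ∀ n, c n ∉ n.asIdeal ∧ ∀ n', n' ≠ n → c n ∈ n'.asIdeal := fun n => by
    haveI := n.isMaximal.isPrime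
    refine ⟨fun hmem => ?_, fun n' hn' => ?_⟩
    · obtain ⟨n', hn', hx'⟩ := (Ideal.IsPrime.prod_mem_iff).1 hmem
      exact (hx n n' (Finset.mem_erase.1 hn').1.symm).2 hx'
    · exact Ideal.mem_of_dvd _ (Finset.dvd_prod_of_mem _ (Finset.mem_erase.2 ⟨hn', Finset.mem_univ _⟩))
        (hx n n' hn'.symm).1
  let m₀ : MaximalSpectrum A := ⟨m, hm⟩
  obtain ⟨d₁, hd₁m, hd₁⟩ : ∃ d, d ∈ m ∧ ∀ n, n ≠ m₀ → d ∉ n.asIdeal := by
    refine ⟨∑ n ∈ Finset.univ.erase m₀, c n, Ideal.sum_mem _ fun n hn =>
      (hc n).2 m₀ (Finset.mem_erase.1 hn).1.symm, fun n hn hmem => (hc n).1 ?_⟩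
    rw [← Finset.add_sum_erase _ _ (Finset.mem_erase.2 ⟨hn, Finset.mem_univ n⟩)] at hmem
    exact (Ideal.add_mem_iff_left _ (Ideal.sum_mem _ fun n' hn' =>
      (hc n').2 n (Finset.mem_erase.1 hn').1.symm)).1 hmem
  obtain ⟨N, hN⟩ := hnil
  have hjac : ∀ a : A, (∀ n : MaximalSpectrum A, a ∈ n.asIdeal) → a ^ N = 0 := fun a ha => by
    have hmem : a ∈ Ring.jacobson A := by
      rw [Ring.jacobson_eq_sInf_isMaximal, Submodule.mem_sInf]
      exact fun I hI => ha ⟨I, hI⟩
    rw [← Ideal.mem_bot, ← Ideal.zero_eq_bot, ← hN]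
    exact Ideal.pow_mem_pow hmem N
  have hcd : c m₀ ^ (N + 1) * d₁ ^ (N + 1) = 0 := by
    rw [← mul_pow, pow_succ, hjac _ fun n => ?_, zero_mul]
    by_cases hn : n = m₀
    · subst hn; exact Ideal.mul_mem_left _ _ hd₁m
    · exact Ideal.mul_mem_right _ _ ((hc m₀).2 n hn)
  let L := Localization.AtPrime m
  have hnilL : IsNilpotent (IsLocalRing.maximalIdeal L) := by
    refine ⟨N, ?_⟩
    have hle : IsLocalRing.maximalIdeal L ≤ (Ring.jacobson A).map (algebraMap A L) := by
      intro z hz
      obtain ⟨a, s, rfl⟩ := IsLocalization.exists_mk'_eq m.primeCompl z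
      have ha : a ∈ m := (IsLocalization.AtPrime.mk'_mem_maximal_iff L m a s).1 hz
      have hu : IsUnit (algebraMap A L (c m₀)) :=
        IsLocalization.map_units L (⟨c m₀, (hc m₀).1⟩ : m.primeCompl)
      have hmem : c m₀ * a ∈ Ring.jacobson A := by
        rw [Ring.jacobson_eq_sInf_isMaximal, Submodule.mem_sInf]
        intro I hI
        by_cases hI' : (⟨I, hI⟩ : MaximalSpectrum A) = m₀
        · have : I = m := congrArg MaximalSpectrum.asIdeal hI'
          subst this; exact Ideal.mul_mem_left _ _ ha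
        · exact Ideal.mul_mem_right _ _ ((hc m₀).2 _ hI')
      have h1 := Ideal.mem_map_of_mem (algebraMap A L) hmem
      rw [map_mul, Ideal.unit_mul_mem_iff_mem _ hu] at h1
      rw [IsLocalization.mk'_eq_mul_mk'_one]
      exact Ideal.mul_mem_right _ _ h1
    rw [Ideal.zero_eq_bot, eq_bot_iff]
    refine (Ideal.pow_right_mono hle N).trans ?_
    rw [← Ideal.map_pow, hN, Ideal.zero_eq_bot, Ideal.map_bot]
  letI : Field (L ⧸ IsLocalRing.maximalIdeal L) := Ideal.Quotient.field _
  let B' : ι → Type u := fun i => L ⊗[A] B i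
  haveI hflat' : ∀ i, Module.Flat (B' i) (B' i ⊗[L] (L ⊗[A] M)) := fun i => by
    letI : Algebra (B i) (B' i) := Algebra.TensorProduct.rightAlgebra
    haveI := h i
    let e₁ := TensorProduct.AlgebraTensorModule.cancelBaseChange A L (B' i) (B' i) M
    let e₂ := TensorProduct.AlgebraTensorModule.cancelBaseChange A (B i) (B' i) (B' i) M
    exact Module.Flat.of_linearEquiv (e₁.trans e₂.symm)
  have hfree : Module.Free L (L ⊗[A] M) :=
    Groth.Agent.FlatSyz.free_of_flat_family (IsLocalRing.maximalIdeal L) hnilL inferInstance B'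
      (fun z hz => by
        obtain ⟨a, s, rfl⟩ := IsLocalization.exists_mk'_eq m.primeCompl z
        rw [IsLocalization.mk'_eq_zero_iff]
        refine ⟨⟨c m₀ ^ (N + 1), fun hmem => (hc m₀).1 (Ideal.IsPrime.mem_of_pow_mem inferInstance _ hmem)⟩, hB _ fun i => ?_⟩
        have h0 : algebraMap A L a ⊗ₜ[A] (1 : B i) = 0 := by
          have := congrArg (fun y => algebraMap L (B' i) (algebraMap A L (s : A)) * y) (hz i)
          simp only [← map_mul, IsLocalization.mk'_spec', mul_zero] at this
          exact this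
        haveI : IsLocalizedModule m.primeCompl (TensorProduct.mk A L (B i) 1) :=
          (isLocalizedModule_iff_isBaseChange m.primeCompl L _).2 (TensorProduct.isBaseChange A (B i) L)
        have h1 : (TensorProduct.mk A L (B i) 1) (algebraMap A (B i) a) = 0 := by
          rw [← h0, TensorProduct.mk_apply, Algebra.algebraMap_eq_smul_one, Algebra.algebraMap_eq_smul_one,
            TensorProduct.tmul_smul, TensorProduct.smul_tmul']
        obtain ⟨⟨t, ht⟩, htz⟩ := (IsLocalizedModule.eq_zero_iff m.primeCompl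
          (TensorProduct.mk A L (B i) 1)).1 h1
        have hu : IsUnit (t * c m₀ ^ (N + 1) + d₁ ^ (N + 1)) := by
          by_contra hnu
          obtain ⟨n, hn, hmem⟩ := exists_max_ideal_of_mem_nonunits hnu
          by_cases hn' : (⟨n, hn⟩ : MaximalSpectrum A) = m₀
          · have : n = m := congrArg MaximalSpectrum.asIdeal hn'
            subst this
            have := (Ideal.add_mem_iff_left _ (Ideal.pow_mem_of_mem _ hd₁m _ N.succ_pos)).1 hmem
            rcases Ideal.IsPrime.mem_or_mem inferInstance this with h' | h'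
            · exact ht h'
            · exact (hc m₀).1 (Ideal.IsPrime.mem_of_pow_mem inferInstance _ h')
          · have := (Ideal.add_mem_iff_right _ (Ideal.mul_mem_left _ t
              (Ideal.pow_mem_of_mem _ ((hc m₀).2 _ hn') _ N.succ_pos))).1 hmem
            exact hd₁ _ hn' (hn.isPrime.mem_of_pow_mem _ this)
        have key : algebraMap A (B i) (c m₀ ^ (N + 1) * a) *
            algebraMap A (B i) (t * c m₀ ^ (N + 1) + d₁ ^ (N + 1)) = 0 := by
          have ht' : algebraMap A (B i) t * algebraMap A (B i) a = 0 := by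
            rw [← Algebra.smul_def]; exact htz
          rw [← map_mul, show c m₀ ^ (N + 1) * a * (t * c m₀ ^ (N + 1) + d₁ ^ (N + 1)) =
            c m₀ ^ (N + 1) * c m₀ ^ (N + 1) * (t * a) + a * (c m₀ ^ (N + 1) * d₁ ^ (N + 1)) by ring,
            hcd, mul_zero, add_zero, map_mul, map_mul _ t, ht', mul_zero]
        exact (hu.map (algebraMap A (B i))).mul_left_eq_zero.1 key)
      hflat'
  haveI : Module.Flat A L := IsLocalization.flat L m.primeCompl
  haveI : Module.Flat A (L ⊗[A] M) := Module.Flat.trans A L _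
  exact Module.Flat.of_linearEquiv
    ((IsLocalizedModule.isBaseChange m.primeCompl L (LocalizedModule.mkLinearMap m.primeCompl M)).equiv.symm.restrictScalars A)

end Groth.Agent.S4852
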