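import Groth.Statements.S4854
import Groth.Agent.Lib.FlatProper5.Main
import Groth.Agent.Lib.SchBasic.Basic

set_option autoImplicit false
universe u
open CategoryTheory AlgebraicGeometry
open EGA43

set_option backward.isDefEq.respectTransparency false
set_option linter.style.haveILetI false
set_option maxHeartbeats 1600000

namespace Groth.Agent.S4854

open CategoryTheory.Limits in
/-- Let f : X ⟶ Y be locally of finite presentation, F a quasi-coherent O_X-module of finite
presentation, x a point of X with y = f x, and g : Y' ⟶ Y a proper morphism of finite presentation.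
Assume (i) the map O_{Y,y} → (g_* O_{Y'})_y is injective, i.e. a section of O_Y on a neighbourhood
of y whose pullback to Y' vanishes is zero on some neighbourhood of y, and (ii) the pullback F' of F
to X' = X ×_Y Y' is flat over Y' at every point of X' above x. Then F is f-flat at x. -/
theorem result {X Y Y' : Scheme.{u}} (f : X ⟶ Y)
    [LocallyOfFinitePresentation f] (F : X.Modules) [Coh.IsQCoh F] (hF : CohB1.IsFP F) (x : X)
    (g : Y' ⟶ Y) [IsProper g] [LocallyOfFinitePresentation g]
    (hinj : ∀ (V : Y.Opens) (s : Γ(Y, V)), f x ∈ V → g.app V s = 0 →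
      ∃ W : Y.Opens, f x ∈ W ∧ ∃ hWV : W ≤ V, Y.presheaf.map (homOfLE hWV).op s = 0)
    (hflat : ∀ x' : ↥(pullback f g), pullback.fst f g x' = x →
      FlatMod.IsFlatOverAt (pullback.snd f g) ((Scheme.Modules.pullback (pullback.fst f g)).obj F) x') :
    FlatMod.IsFlatOverAt f F x := by
  obtain ⟨V, hV, hyV, -⟩ :=
    exists_isAffineOpen_mem_and_subset (X := Y) (x := f x) (U := ⊤) trivial
  obtain ⟨U, hU, hxU, hUV⟩ :=
    exists_isAffineOpen_mem_and_subset (X := X) (x := x) (U := f ⁻¹ᵁ V) hyV
  let φ : Spec Γ(Y, V) ⟶ Y := hV.fromSpec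
  haveI hφ : IsOpenImmersion φ := inferInstanceAs (IsOpenImmersion hV.fromSpec)
  have hr : Set.range (U.ι ≫ f) ⊆ Set.range φ := by
    rintro _ ⟨u, rfl⟩
    rw [show Set.range φ = (V : Set Y) from hV.range_fromSpec]
    exact hUV u.2
  let f' : (U : Scheme.{u}) ⟶ Spec Γ(Y, V) := IsOpenImmersion.lift φ (U.ι ≫ f) hr
  have hf' : f' ≫ φ = U.ι ≫ f := IsOpenImmersion.lift_fac _ _ _
  haveI : LocallyOfFinitePresentation f' := by
    haveI : LocallyOfFinitePresentation (f' ≫ φ) := by rw [hf']; infer_instance
    exact SchBasic.locallyOfFinitePresentation_of_comp f' φ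
  haveI : IsAffine (U : Scheme.{u}) := hU
  let F' := (Scheme.Modules.pullback U.ι).obj F
  haveI : Coh.IsQCoh F' := M1.isQCoh_pullback _ ‹_›
  let x₀ : (U : Scheme.{u}) := ⟨x, hxU⟩
  have hx₀ : U.ι x₀ = x := rfl
  let g' := pullback.snd g φ
  haveI : IsProper g' := MorphismProperty.pullback_snd (P := @IsProper) _ _ ‹IsProper g›
  haveI : LocallyOfFinitePresentation g' := MorphismProperty.pullback_snd _ _ ‹LocallyOfFinitePresentation g›
  have key : FlatMod.IsFlatOverAt f' F' x₀ := by
    refine FlatProper5.isFlatOverAt_of_affine f' F' (M1.isFP_pullback _ hF) x₀ g' ?_ ?_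
    · intro s hs
      let s' : Γ(Y, V) := (Scheme.ΓSpecIso Γ(Y, V)).hom s
      have e1 : φ.appLE V ⊤ hV.fromSpec_preimage_self.ge s' = s := by
        show (hV.fromSpec.app V ≫ (Spec Γ(Y, V)).presheaf.map _)
          ((Scheme.ΓSpecIso Γ(Y, V)).hom s) = s
        rw [hV.fromSpec_app_self, Category.assoc, ← Functor.map_comp, ← ConcreteCategory.comp_apply,
          Iso.hom_inv_id_assoc]
        erw [CategoryTheory.Functor.map_id]
        rfl
      have hle : (⊤ : (pullback g φ).Opens) ≤ pullback.fst g φ ⁻¹ᵁ g ⁻¹ᵁ V := fun z _ => by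
        show g (pullback.fst g φ z) ∈ V
        rw [← Scheme.Hom.comp_apply, pullback.condition, Scheme.Hom.comp_apply]
        have hm : φ (pullback.snd g φ z) ∈ Set.range φ := ⟨_, rfl⟩
        rwa [show Set.range φ = (V : Set Y) from hV.range_fromSpec] at hm
      have hrange : g ⁻¹ᵁ V ≤ (pullback.fst g φ).opensRange := by
        rw [Scheme.Hom.opensRange_pullbackFst, hV.opensRange_fromSpec]
      haveI : IsIso ((pullback.fst g φ).app (g ⁻¹ᵁ V)) := Scheme.Hom.isIso_app _ _ hrange
      have h2 : (pullback.fst g φ).appLE (g ⁻¹ᵁ V) ⊤ hle (g.app V s') = 0 := by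
        have e3 : g.app V ≫ (pullback.fst g φ).appLE (g ⁻¹ᵁ V) ⊤ hle =
            φ.appLE V ⊤ hV.fromSpec_preimage_self.ge ≫ g'.appTop := by
          rw [Scheme.Hom.app_eq_appLE, Scheme.Hom.appTop, Scheme.Hom.app_eq_appLE, Scheme.Hom.appLE_comp_appLE,
            Scheme.Hom.appLE_comp_appLE]
          simp only [g', pullback.condition]
          rfl
        rw [← ConcreteCategory.comp_apply, e3, ConcreteCategory.comp_apply, e1]
        exact hs
      have h3 : g.app V s' = 0 := by
        haveI : IsIso ((pullback g φ).presheaf.map (homOfLE hle).op) := by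
          have e : pullback.fst g φ ⁻¹ᵁ g ⁻¹ᵁ V = ⊤ := top_le_iff.1 hle
          rw [show (homOfLE hle).op = (eqToHom e.symm).op from rfl]
          infer_instance
        haveI : IsIso ((pullback.fst g φ).appLE (g ⁻¹ᵁ V) ⊤ hle) := by
          rw [Scheme.Hom.appLE]; infer_instance
        exact (ConcreteCategory.bijective_of_isIso ((pullback.fst g φ).appLE (g ⁻¹ᵁ V) ⊤ hle)).1
          (h2.trans (map_zero _).symm)
      obtain ⟨W, hyW, hWV, hW⟩ := hinj V s' hyV h3
      have hy : φ (f' x₀) = f x := by rw [← Scheme.Hom.comp_apply, hf']; rfl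
      have h4 : Y.presheaf.germ V (φ (f' x₀)) (hy ▸ hyV) s' = 0 := by
        rw [← Y.presheaf.germ_res_apply (homOfLE hWV) (φ (f' x₀)) (hy ▸ hyW), hW, map_zero]
      have h5 := congrArg (φ.stalkMap (f' x₀)) h4
      rw [map_zero, Scheme.Hom.germ_stalkMap_apply] at h5
      rw [← e1, ← h5, Scheme.Hom.appLE, ConcreteCategory.comp_apply]
      exact (Spec Γ(Y, V)).presheaf.germ_res_apply _ _ _ _
    · intro w hw
      let k : pullback g φ ⟶ Y := g' ≫ φ
      let m : pullback f' g' ⟶ pullback f k :=
        pullback.map f' g' f k U.ι (𝟙 _) φ hf' (Category.id_comp _).symm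
      haveI : IsOpenImmersion m := inferInstanceAs (IsOpenImmersion (pullback.map _ _ _ _ _ _ _ _ _))
      haveI := M1.isQCoh_pullback (pullback.fst f k) (M := F) ‹_›
      have hm1 : pullback.fst f k (m w) = x := by
        rw [← Scheme.Hom.comp_apply, pullback.lift_fst, Scheme.Hom.comp_apply, hw]
        rfl
      have h1 := FlatProper5.isFlatOverAt_pullback_of_eq f F g (pullback.fst g φ) k pullback.condition x hflat (m w) hm1
      have h2 := (FlatH4.isFlatOverAt_pullback_comp_iff m (pullback.snd f k) _ w (Flat.stalkMap m w)).2 h1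
      rw [show m ≫ pullback.snd f k = pullback.snd f' g' from (pullback.lift_snd _ _ _).trans (Category.comp_id _)] at h2
      refine SchDom.isFlatOverAt_of_iso _ ?_ w h2
      exact (Scheme.Modules.pullbackComp m (pullback.fst f k)).app F ≪≫
        (Scheme.Modules.pullbackCongr (pullback.lift_fst _ _ _)).app F ≪≫
        ((Scheme.Modules.pullbackComp (pullback.fst f' g') U.ι).app F).symm
  have h := FlatH4.isFlatOverAt_comp f' φ F' x₀ (Flat.stalkMap φ _) key
  rw [hf'] at h
  exact (FlatH4.isFlatOverAt_pullback_comp_iff U.ι f F x₀ (Flat.stalkMap U.ι _)).1 h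

end Groth.Agent.S4854
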