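import Groth.Statements.S4855
import Groth.Agent.S4854
import Groth.Agent.Lib.RelPCS8.FlatTerms
import Groth.Agent.Lib.Twist.Pullback
import Groth.Agent.Lib.TensorMod.Invertible
import Groth.Agent.Lib.ModM1.LocFree

set_option autoImplicit false
universe u
open CategoryTheory AlgebraicGeometry
open EGA43

set_option backward.isDefEq.respectTransparency false
set_option linter.style.haveILetI false

namespace Groth.Agent.S4855

open CategoryTheory.Limits in
/-- Let f : X ⟶ Y be a proper morphism of finite presentation such that the map O_Y → f_* O_X is
injective (on sections over every open subset of Y). Then f is flat if and only if the first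
projection X ×_Y X ⟶ X is flat. -/
theorem result {X Y : Scheme.{u}} (f : X ⟶ Y)
    [IsProper f] [LocallyOfFinitePresentation f] (hinj : ∀ V : Y.Opens, Function.Injective (f.app V)) :
    Flat f ↔ Flat (pullback.fst f f) := by
  constructor
  · intro h
    exact MorphismProperty.pullback_fst (P := @Flat) f f h
  · intro h
    haveI : Coh.IsQCoh (Coh.structureModule X) := M1.isQCoh_structureModule X
    have hFP : CohB1.IsFP (Coh.structureModule X) :=
      M1.isFP_of_isIso ((M1.freeModFrIso X 1).symm ≪≫ M2.freeModOneIso X) (M1.isFP_fr X _)
    rw [RelPCS8.flat_iff_isFlatOver_structureModule]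
    intro x
    refine Groth.Agent.S4854.result f (Coh.structureModule X) hFP x f ?_ ?_
    · intro V s hx hs
      refine ⟨V, hx, le_rfl, ?_⟩
      rw [hinj V (hs.trans (map_zero _).symm), map_zero]
    · intro x' _
      have h' : Flat (pullback.snd f f) := by
        rw [← pullbackSymmetry_hom_comp_fst]; infer_instance
      exact SchDom.isFlatOverAt_of_iso _ (Twist.pullbackUnitIso (pullback.fst f f)).symm _
        (RelPCS8.flat_iff_isFlatOver_structureModule.1 h' x')

end Groth.Agent.S4855
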