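import Groth.Statements.S4856
import Groth.Agent.Lib.FlatDesc5.Artin
import Groth.Agent.Lib.FlatH4.PullFlat
import Groth.Agent.Lib.ModM1.Coh
import Mathlib.AlgebraicGeometry.Morphisms.FiniteType
-- import your own Groth.Agent.* helpers here

set_option autoImplicit false
universe u
open CategoryTheory AlgebraicGeometry
open EGA43

set_option backward.isDefEq.respectTransparency.types false
set_option maxHeartbeats 800000
open TensorProduct IsLocalRing

namespace Groth.Agent.S4856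

open CategoryTheory.Limits in
/-- Let A be an Artinian local ring, f : X ⟶ Spec A locally of finite type, F a coherent O_X-module and
x a point of X. Let (u_i : A → A_i) be a family of ring homomorphisms into local rings such that an
element of A killed by every u_i is zero. If, for every i, the pullback of F to X_i = X ×_{Spec A}
Spec A_i is flat over Spec A_i at every point of X_i whose images are x in X and the closed point in
Spec A_i, then F is f-flat at x. -/
theorem result {A : Type u} [CommRing A]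
    [IsArtinianRing A] [IsLocalRing A] {X : Scheme.{u}} (f : X ⟶ Spec (CommRingCat.of A))
    [LocallyOfFiniteType f] (F : X.Modules) (hF : Coh.IsCoh F) (x : X)
    {ι : Type u} (A' : ι → Type u) [∀ i, CommRing (A' i)] [∀ i, IsLocalRing (A' i)] (u : ∀ i, A →+* A' i)
    (hu : ∀ a : A, (∀ i, u i a = 0) → a = 0)
    (hflat : ∀ (i : ι) (x' : ↥(pullback f (Spec.map (CommRingCat.ofHom (u i))))),
      pullback.fst f (Spec.map (CommRingCat.ofHom (u i))) x' = x →
      pullback.snd f (Spec.map (CommRingCat.ofHom (u i))) x' = IsLocalRing.closedPoint (A' i) →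
      FlatMod.IsFlatOverAt (pullback.snd f (Spec.map (CommRingCat.ofHom (u i))))
        ((Scheme.Modules.pullback (pullback.fst f (Spec.map (CommRingCat.ofHom (u i))))).obj F) x') :
    FlatMod.IsFlatOverAt f F x := by
  haveI : Coh.IsQCoh F := hF.1
  let S := Spec (CommRingCat.of A)
  let S' : ι → Scheme.{u} := fun i => Spec (CommRingCat.of (A' i))
  let g : ∀ i, S' i ⟶ S := fun i => Spec.map (CommRingCat.ofHom (u i))
  let P : ι → Scheme.{u} := fun i => pullback f (g i)
  haveI : IsArtinianRing Γ(S, ⊤) :=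
    (Scheme.ΓSpecIso (CommRingCat.of A)).commRingCatIsoToRingEquiv.symm.surjective.isArtinianRing
  haveI : IsLocalRing Γ(S, ⊤) := (Scheme.ΓSpecIso (CommRingCat.of A)).commRingCatIsoToRingEquiv.symm.isLocalRing
  haveI : ∀ i, IsLocalRing Γ(S' i, ⊤) := fun i =>
    (Scheme.ΓSpecIso (CommRingCat.of (A' i))).commRingCatIsoToRingEquiv.symm.isLocalRing
  obtain ⟨U, hU, hxU, -⟩ := exists_isAffineOpen_mem_and_subset (X := X) (x := x) (U := ⊤) trivial
  have hUV : U ≤ f ⁻¹ᵁ ⊤ := fun _ _ => trivial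
  have hTV : ∀ i, (⊤ : (S' i).Opens) ≤ g i ⁻¹ᵁ ⊤ := fun _ _ _ => trivial
  have H : ∀ i, IsPullback (pullback.fst f (g i)) (pullback.snd f (g i)) f (g i) :=
    fun i => IsPullback.of_hasPullback f (g i)
  let W : ∀ i, (P i).Opens := fun i => pullback.fst f (g i) ⁻¹ᵁ U ⊓ pullback.snd f (g i) ⁻¹ᵁ ⊤
  have hW : ∀ i, IsAffineOpen (W i) := fun i =>
    FlatH4.isAffineOpen_of_isPullback (H i) (hTV i) hUV rfl (isAffineOpen_top _) (isAffineOpen_top _) hU
  have eX : ∀ i, W i ≤ pullback.fst f (g i) ⁻¹ᵁ U := fun _ => inf_le_left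
  have eT : ∀ i, W i ≤ pullback.snd f (g i) ⁻¹ᵁ ⊤ := fun _ => inf_le_right
  letI : ∀ i, Algebra Γ(S, ⊤) Γ(S' i, ⊤) := fun i => ((g i).appLE ⊤ ⊤ (hTV i)).hom.toAlgebra
  letI : Algebra Γ(S, ⊤) Γ(X, U) := (f.appLE ⊤ U hUV).hom.toAlgebra
  letI : ∀ i, Algebra Γ(X, U) Γ(P i, W i) := fun i => ((pullback.fst f (g i)).appLE U (W i) (eX i)).hom.toAlgebra
  letI : ∀ i, Algebra Γ(S' i, ⊤) Γ(P i, W i) := fun i =>
    ((pullback.snd f (g i)).appLE ⊤ (W i) (eT i)).hom.toAlgebra
  letI : ∀ i, Algebra Γ(S, ⊤) Γ(P i, W i) := fun i =>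
    ((algebraMap Γ(X, U) Γ(P i, W i)).comp (algebraMap Γ(S, ⊤) Γ(X, U))).toAlgebra
  haveI : ∀ i, IsScalarTower Γ(S, ⊤) Γ(X, U) Γ(P i, W i) := fun i => IsScalarTower.of_algebraMap_eq fun _ => rfl
  haveI : ∀ i, IsScalarTower Γ(S, ⊤) Γ(S' i, ⊤) Γ(P i, W i) := fun i => IsScalarTower.of_algebraMap_eq fun r => by
    show (f.appLE ⊤ U hUV ≫ (pullback.fst f (g i)).appLE U (W i) (eX i)) r =
      ((g i).appLE ⊤ ⊤ (hTV i) ≫ (pullback.snd f (g i)).appLE ⊤ (W i) (eT i)) r
    rw [Scheme.Hom.appLE_comp_appLE, Scheme.Hom.appLE_comp_appLE]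
    simp only [(H i).w]
  haveI : ∀ i, Algebra.IsPushout Γ(S, ⊤) Γ(S' i, ⊤) Γ(X, U) Γ(P i, W i) := fun i =>
    FlatH4.algebra_isPushout_sections (H i) (hTV i) hUV (UY := W i) rfl (isAffineOpen_top _) (isAffineOpen_top _) hU
      rfl rfl rfl rfl
  haveI : Algebra.FiniteType Γ(S, ⊤) Γ(X, U) :=
    HasRingHomProperty.appLE (P := @LocallyOfFiniteType) f inferInstance ⟨⊤, isAffineOpen_top _⟩ ⟨U, hU⟩ hUV
  haveI : IsNoetherianRing Γ(X, U) := Algebra.FiniteType.isNoetherianRing Γ(S, ⊤) Γ(X, U)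
  haveI : Module.Finite Γ(X, U) Γ(F, U) := M1.finite_sections hF.1 hF.2 hU
  letI := FlatH4.secModuleOver f F ⊤ U hUV
  haveI : IsScalarTower Γ(S, ⊤) Γ(X, U) Γ(F, U) := IsScalarTower.of_algebraMap_smul fun _ _ => rfl
  rw [FlatH4.isFlatOverAt_iff f F ⊤ (isAffineOpen_top _) U hU hUV hxU]
  refine FlatDesc5.flat_localized_of_family (hU.primeIdealOf ⟨x, hxU⟩).asIdeal (fun i => Γ(S' i, ⊤))
    (fun i => Γ(P i, W i)) (fun a ha => ?_) fun i Q _ hQ hQm => ?_
  · obtain ⟨a, rfl⟩ := (Scheme.ΓSpecIso (CommRingCat.of A)).commRingCatIsoToRingEquiv.symm.surjective a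
    rw [hu a fun i => ?_, map_zero]
    apply (ConcreteCategory.bijective_of_isIso (Scheme.ΓSpecIso (CommRingCat.of (A' i))).inv).1
    rw [map_zero, ← ha i]
    show ((CommRingCat.ofHom (u i)) ≫ (Scheme.ΓSpecIso (CommRingCat.of (A' i))).inv) a =
      ((Scheme.ΓSpecIso (CommRingCat.of A)).inv ≫ (g i).appLE ⊤ ⊤ (hTV i)) a
    rw [Scheme.ΓSpecIso_inv_naturality]
    simp [Scheme.Hom.appLE, Scheme.Hom.appTop, g]
  · obtain ⟨⟨x', hx'⟩, hxQ⟩ := (hW i).isoSpec.hom.surjective ⟨Q, inferInstance⟩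
    have hxQ' : (hW i).primeIdealOf ⟨x', hx'⟩ = ⟨Q, inferInstance⟩ := hxQ
    have hover : pullback.fst f (g i) x' = x := by
      have h1 := IsAffineOpen.comap_primeIdealOf_appLE U hU (W i) (hW i) (eX i) hx'
      rw [hxQ'] at h1
      have h2 : hU.primeIdealOf ⟨pullback.fst f (g i) x', eX i hx'⟩ = hU.primeIdealOf ⟨x, hxU⟩ :=
        h1.symm.trans (PrimeSpectrum.ext hQ)
      have h3 := congrArg (fun z => hU.fromSpec z) h2
      simpa only [hU.fromSpec_primeIdealOf] using h3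
    have hclosed : pullback.snd f (g i) x' = closedPoint (A' i) := by
      let z : S' i := pullback.snd f (g i) x'
      have h1 := IsAffineOpen.comap_primeIdealOf_appLE ⊤ (isAffineOpen_top (S' i)) (W i) (hW i) (eT i) hx'
      rw [hxQ'] at h1
      have h2 : ((isAffineOpen_top (S' i)).primeIdealOf ⟨z, trivial⟩).asIdeal = maximalIdeal Γ(S' i, ⊤) :=
        (congrArg PrimeSpectrum.asIdeal h1).symm.trans hQm
      have h3 : IsClosed ({(isAffineOpen_top (S' i)).primeIdealOf ⟨z, trivial⟩} :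
          Set (PrimeSpectrum Γ(S' i, ⊤))) := by
        rw [PrimeSpectrum.isClosed_singleton_iff_isMaximal, h2]
        exact maximalIdeal.isMaximal _
      have h4 := h3.preimage (isAffineOpen_top (S' i)).isoSpec.hom.continuous
      have h5 : IsClosed ({z} : Set (S' i)) := by
        have h6 := (IsClosed.isClosedMap_subtype_val (s := ((⊤ : (S' i).Opens) : Set (S' i))) isClosed_univ) _ h4
        convert h6 using 1
        ext w
        constructor
        · rintro rfl
          exact ⟨⟨z, trivial⟩, rfl, rfl⟩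
        · rintro ⟨⟨v, hv⟩, hv', rfl⟩
          exact congrArg Subtype.val ((isAffineOpen_top (S' i)).isoSpec.hom.homeomorph.injective hv')
      exact PrimeSpectrum.ext (eq_maximalIdeal ((PrimeSpectrum.isClosed_singleton_iff_isMaximal z).1 h5))
    have h4 := (FlatH4.isFlatOverAt_pullback_iff (pullback.fst f (g i)) F hU (hW i) (eX i) (pullback.snd f (g i)) ⊤
      (isAffineOpen_top _) (eT i) hx').1 (hflat i x' hover hclosed)
    have key : ∀ (a b : PrimeSpectrum Γ(P i, W i)), a = b →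
        Module.Flat Γ(S' i, ⊤) (LocalizedModule a.asIdeal.primeCompl (Γ(P i, W i) ⊗[Γ(X, U)] Γ(F, U))) →
        Module.Flat Γ(S' i, ⊤) (LocalizedModule b.asIdeal.primeCompl (Γ(P i, W i) ⊗[Γ(X, U)] Γ(F, U))) := by
      rintro a _ rfl h'; exact h'
    exact key _ _ hxQ' h4

end Groth.Agent.S4856
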