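import Groth.Statements.S4857
import Groth.Agent.S4856
import Groth.Agent.Lib.FlatDesc5.Basic
import Groth.Agent.Lib.SchDom.FlatStage
import Groth.Agent.Lib.FlatH4.LocCrit
import Groth.Agent.Lib.ModM1.Pull
-- import your own Groth.Agent.* helpers here

set_option autoImplicit false
universe u
open CategoryTheory AlgebraicGeometry
open EGA43

set_option backward.isDefEq.respectTransparency.types false

namespace Groth.Agent.S4857

open TensorProduct IsLocalRing

/-- Flatness after base change along a further ring map. -/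
theorem flat_tensor_of_algHom {R S Q : Type u} [CommRing R] [CommRing S] [CommRing Q] [Algebra R S]
    [Algebra R Q] (φ : S →ₐ[R] Q) (N : Type u) [AddCommGroup N] [Module R N]
    [Module.Flat S (S ⊗[R] N)] : Module.Flat Q (Q ⊗[R] N) := by
  letI : Algebra S Q := φ.toRingHom.toAlgebra
  haveI : IsScalarTower R S Q := IsScalarTower.of_algebraMap_eq fun r => (φ.commutes r).symm
  exact Module.Flat.of_linearEquiv (AlgebraTensorModule.cancelBaseChange R S Q Q N).symm

/-- A finite intersection of pullbacks of powers of maximal ideals along local maps has Artinian quotient. -/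
theorem isArtinianRing_quotient {O : Type u} [CommRing O] [IsLocalRing O] [IsNoetherianRing O]
    {J : Ideal O} {K : ℕ} (hK : maximalIdeal O ^ K ≤ J) : IsArtinianRing (O ⧸ J) := by
  haveI : Ring.KrullDimLE 0 (O ⧸ J) := Ring.krullDimLE_zero_iff.mpr fun P hP => by
    haveI : (P.comap (Ideal.Quotient.mk J)).IsPrime := Ideal.IsPrime.comap _
    have h1 : maximalIdeal O ≤ P.comap (Ideal.Quotient.mk J) :=
      Ideal.IsPrime.le_of_pow_le (n := K) (hK.trans fun x hx => by
        show Ideal.Quotient.mk J x ∈ P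
        rw [Ideal.Quotient.eq_zero_iff_mem.2 hx]
        exact zero_mem _)
    have h2 := (maximalIdeal.isMaximal O).eq_of_le (Ideal.IsPrime.ne_top inferInstance) h1
    rw [← Ideal.map_comap_of_surjective _ Ideal.Quotient.mk_surjective P]
    refine (Ideal.map_eq_top_or_isMaximal_of_surjective _ Ideal.Quotient.mk_surjective ?_).resolve_left ?_
    · rw [← h2]; exact maximalIdeal.isMaximal O
    · rw [Ideal.map_comap_of_surjective _ Ideal.Quotient.mk_surjective P]; exact hP.ne_top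
  exact isArtinianRing_iff_isNoetherianRing_krullDimLE_zero.mpr ⟨inferInstance, inferInstance⟩

open CategoryTheory.Limits in
/-- Flatness over a finite intersection of the ideals of the family. -/
theorem isFlatOverAt_quotient {X Y : Scheme.{u}} [IsLocallyNoetherian Y]
    (f : X ⟶ Y) [LocallyOfFiniteType f] (F : X.Modules) (hF : Coh.IsCoh F) (x : X)
    {ι : Type u} (A : ι → Type u) [∀ i, CommRing (A i)] [∀ i, IsLocalRing (A i)]
    (φ : ∀ i, (Y.presheaf.stalk (f x) : Type u) →+* A i) [∀ i, IsLocalHom (φ i)]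
    (hflat : ∀ (i : ι) (x' : ↥(pullback f (Spec.map (CommRingCat.ofHom (φ i)) ≫ Y.fromSpecStalk (f x)))),
      pullback.fst f (Spec.map (CommRingCat.ofHom (φ i)) ≫ Y.fromSpecStalk (f x)) x' = x →
      pullback.snd f (Spec.map (CommRingCat.ofHom (φ i)) ≫ Y.fromSpecStalk (f x)) x' = closedPoint (A i) →
      FlatMod.IsFlatOverAt (pullback.snd f (Spec.map (CommRingCat.ofHom (φ i)) ≫ Y.fromSpecStalk (f x)))
        ((Scheme.Modules.pullback
          (pullback.fst f (Spec.map (CommRingCat.ofHom (φ i)) ≫ Y.fromSpecStalk (f x)))).obj F) x')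
    (s : Finset (ι × ℕ)) (hs : ∀ p ∈ s, 0 < p.2) (J : Ideal ↑(Y.presheaf.stalk (f x)))
    [IsArtinianRing (↑(Y.presheaf.stalk (f x)) ⧸ J)] [IsLocalRing (↑(Y.presheaf.stalk (f x)) ⧸ J)]
    (hJ : J = ⨅ p ∈ s, Ideal.comap (φ p.1) (maximalIdeal (A p.1) ^ p.2))
    (x'' : ↥(pullback f (Spec.map (CommRingCat.ofHom (Ideal.Quotient.mk J)) ≫ Y.fromSpecStalk (f x))))
    (hx'' : pullback.fst f (Spec.map (CommRingCat.ofHom (Ideal.Quotient.mk J)) ≫ Y.fromSpecStalk (f x)) x'' = x) :
    FlatMod.IsFlatOverAt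
      (pullback.snd f (Spec.map (CommRingCat.ofHom (Ideal.Quotient.mk J)) ≫ Y.fromSpecStalk (f x)))
      ((Scheme.Modules.pullback
        (pullback.fst f (Spec.map (CommRingCat.ofHom (Ideal.Quotient.mk J)) ≫ Y.fromSpecStalk (f x)))).obj F) x'' := by
  let g0 := Spec.map (CommRingCat.ofHom (Ideal.Quotient.mk J)) ≫ Y.fromSpecStalk (f x)
  let g : ∀ i, Spec (CommRingCat.of (A i)) ⟶ Y :=
    fun i => Spec.map (CommRingCat.ofHom (φ i)) ≫ Y.fromSpecStalk (f x)
  let B : {p // p ∈ s} → Type u := fun p => A p.1.1 ⧸ maximalIdeal (A p.1.1) ^ p.1.2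
  haveI : ∀ p : {p // p ∈ s}, Nontrivial (B p) := fun p => Ideal.Quotient.nontrivial_iff.2 fun h =>
    (maximalIdeal.isMaximal (A p.1.1)).ne_top (eq_top_iff.2 (h ▸ Ideal.pow_le_self (hs p.1 p.2).ne'))
  haveI : ∀ p, IsLocalRing (B p) := fun p => IsLocalRing.of_surjective' _ Ideal.Quotient.mk_surjective
  have hle : ∀ p : {p // p ∈ s}, J ≤ Ideal.comap (φ p.1.1) (maximalIdeal (A p.1.1) ^ p.1.2) :=
    fun p => hJ.le.trans (iInf₂_le p.1 p.2)
  let v : ∀ p, (↑(Y.presheaf.stalk (f x)) ⧸ J) →+* B p := fun p =>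
    Ideal.quotientMap (maximalIdeal (A p.1.1) ^ p.1.2) (φ p.1.1) (hle p)
  refine Groth.Agent.S4856.result (pullback.snd f g0) _ (M1.isCoh_pullback _ hF) x'' B v ?_ ?_
  · intro a ha
    obtain ⟨a, rfl⟩ := Ideal.Quotient.mk_surjective a
    rw [Ideal.Quotient.eq_zero_iff_mem, hJ, Ideal.mem_iInf]
    intro p
    rw [Ideal.mem_iInf]
    intro hp
    exact Ideal.mem_comap.2 (Ideal.Quotient.eq_zero_iff_mem.1 (show Ideal.Quotient.mk (maximalIdeal (A p.1) ^ p.2) (φ p.1 a) = 0 from ha ⟨p, hp⟩))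
  intro p x' hx' hx'c
  let w := Spec.map (CommRingCat.ofHom (v p))
  let hy := Spec.map (CommRingCat.ofHom (Ideal.Quotient.mk (maximalIdeal (A p.1.1) ^ p.1.2)))
  have hfac : hy ≫ g p.1.1 = w ≫ g0 := by
    simp only [hy, g, w, g0, ← Category.assoc, ← Spec.map_comp]
    rfl
  let fst' := pullback.fst (pullback.snd f g0) w
  let snd' := pullback.snd (pullback.snd f g0) w
  let m : pullback (pullback.snd f g0) w ⟶ pullback f (g p.1.1) :=
    pullback.lift (fst' ≫ pullback.fst f g0) (snd' ≫ hy) (by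
      rw [Category.assoc, pullback.condition, ← Category.assoc, pullback.condition, Category.assoc,
        Category.assoc, hfac])
  have hm : m ≫ pullback.fst f (g p.1.1) = fst' ≫ pullback.fst f g0 := pullback.lift_fst _ _ _
  have hm2 : m ≫ pullback.snd f (g p.1.1) = snd' ≫ hy := pullback.lift_snd _ _ _
  have H' : IsPullback m snd' (pullback.snd f (g p.1.1)) hy := by
    refine IsPullback.of_right ?_ hm2 (IsPullback.of_hasPullback f (g p.1.1))
    rw [hm, hfac]
    exact (IsPullback.of_hasPullback (pullback.snd f g0) w).paste_horiz (IsPullback.of_hasPullback f g0)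
  have h0 := hflat p.1.1 (m x') (by
      rw [← Scheme.Hom.comp_apply, hm, Scheme.Hom.comp_apply, hx', hx''])
    (by
      rw [← Scheme.Hom.comp_apply, hm2, Scheme.Hom.comp_apply]
      show hy (snd' x') = _
      rw [show snd' x' = closedPoint (B p) from hx'c]
      haveI : IsLocalHom (Ideal.Quotient.mk (maximalIdeal (A p.1.1) ^ p.1.2)) :=
        IsLocalHom.of_surjective _ Ideal.Quotient.mk_surjective
      exact IsLocalRing.comap_closedPoint (Ideal.Quotient.mk (maximalIdeal (A p.1.1) ^ p.1.2)))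
  haveI : Coh.IsQCoh F := hF.1
  haveI : Coh.IsQCoh ((Scheme.Modules.pullback (pullback.fst f (g p.1.1))).obj F) := M1.isQCoh_pullback _ hF.1
  have h1 := FlatH4.isFlatOverAt_baseChange H' _ x' h0
  have h2 := SchDom.isFlatOverAt_of_iso _ ((Scheme.Modules.pullbackComp m (pullback.fst f (g p.1.1))).app F) x' h1
  have key : ∀ (ψ : pullback (pullback.snd f g0) w ⟶ X) (_ : ψ = fst' ≫ pullback.fst f g0),
      FlatMod.IsFlatOverAt snd' ((Scheme.Modules.pullback ψ).obj F) x' →
      FlatMod.IsFlatOverAt snd' ((Scheme.Modules.pullback fst').obj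
        ((Scheme.Modules.pullback (pullback.fst f g0)).obj F)) x' := by
    rintro _ rfl h
    exact SchDom.isFlatOverAt_of_iso _ ((Scheme.Modules.pullbackComp fst' (pullback.fst f g0)).app F).symm x' h
  exact key _ hm h2

open CategoryTheory.Limits in
/-- Let Y be a locally Noetherian scheme, f : X ⟶ Y locally of finite type, F a coherent O_X-module and
x a point of X with y = f x. Let (φ_i : O_{Y,y} → A_i) be a family of local homomorphisms into local
rings such that, for every N, some finite intersection of the ideals φ_i⁻¹(m_{A_i}^n) is contained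
in m_y^N. Let Y_i = Spec A_i ⟶ Y be the induced Y-schemes and X_i = X ×_Y Y_i. If for every i the
pullback of F to X_i is flat over Y_i at every point of X_i lying over x and over the closed point
of Y_i, then F is f-flat at x. -/
theorem result {X Y : Scheme.{u}} [IsLocallyNoetherian Y]
    (f : X ⟶ Y) [LocallyOfFiniteType f] (F : X.Modules) (hF : Coh.IsCoh F) (x : X)
    {ι : Type u} (A : ι → Type u) [∀ i, CommRing (A i)] [∀ i, IsLocalRing (A i)]
    (φ : ∀ i, (Y.presheaf.stalk (f x) : Type u) →+* A i) [∀ i, IsLocalHom (φ i)]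
    (htop : ∀ N : ℕ, ∃ s : Finset (ι × ℕ),
      ⨅ p ∈ s, Ideal.comap (φ p.1) (IsLocalRing.maximalIdeal (A p.1) ^ p.2) ≤
        IsLocalRing.maximalIdeal ↑(Y.presheaf.stalk (f x)) ^ N) :
    letI g : ∀ i, Spec (CommRingCat.of (A i)) ⟶ Y :=
      fun i => Spec.map (CommRingCat.ofHom (φ i)) ≫ Y.fromSpecStalk (f x)
    (∀ (i : ι) (x' : ↥(pullback f (g i))), pullback.fst f (g i) x' = x →
      pullback.snd f (g i) x' = IsLocalRing.closedPoint (A i) →
      FlatMod.IsFlatOverAt (pullback.snd f (g i)) ((Scheme.Modules.pullback (pullback.fst f (g i))).obj F) x') →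
    FlatMod.IsFlatOverAt f F x := by
  intro hflat
  haveI : Coh.IsQCoh F := hF.1
  obtain ⟨V, hV, hyV, -⟩ := exists_isAffineOpen_mem_and_subset (X := Y) (x := f x) (U := ⊤) trivial
  obtain ⟨U, hU, hxU, hUV⟩ := exists_isAffineOpen_mem_and_subset (X := X) (x := x) (U := f ⁻¹ᵁ V) hyV
  haveI : IsLocallyNoetherian X := LocallyOfFiniteType.isLocallyNoetherian f
  haveI : IsNoetherianRing Γ(Y, V) := IsLocallyNoetherian.component_noetherian ⟨V, hV⟩
  haveI : IsNoetherianRing Γ(X, U) := IsLocallyNoetherian.component_noetherian ⟨U, hU⟩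
  haveI : Module.Finite Γ(X, U) Γ(F, U) := M1.finite_sections hF.1 hF.2 hU
  letI : Algebra Γ(Y, V) Γ(X, U) := (f.appLE V U hUV).hom.toAlgebra
  letI := FlatH4.secModuleOver f F V U hUV
  haveI : IsScalarTower Γ(Y, V) Γ(X, U) Γ(F, U) := IsScalarTower.of_algebraMap_smul fun _ _ => rfl
  rw [FlatH4.isFlatOverAt_iff f F V hV U hU hUV hxU]
  let O : Type u := Y.presheaf.stalk (f x)
  let q := (hU.primeIdealOf ⟨x, hxU⟩).asIdeal
  let p := (hV.primeIdealOf ⟨f x, hyV⟩).asIdeal
  letI : Algebra Γ(Y, V) O := (Y.presheaf.germ V (f x) hyV).hom.toAlgebra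
  haveI : IsLocalization.AtPrime O p := hV.isLocalization_stalk ⟨f x, hyV⟩
  haveI : IsNoetherianRing O := IsLocalization.isNoetherianRing p.primeCompl O inferInstance
  have hqp : q.comap (algebraMap Γ(Y, V) Γ(X, U)) = p :=
    congrArg PrimeSpectrum.asIdeal (IsAffineOpen.comap_primeIdealOf_appLE V hV U hU hUV hxU)
  let Tq := Localization.AtPrime q
  let N := LocalizedModule q.primeCompl Γ(F, U)
  have hunit : ∀ r : p.primeCompl, IsUnit ((algebraMap Γ(X, U) Tq).comp (algebraMap Γ(Y, V) Γ(X, U)) r) :=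
    fun r => IsLocalization.map_units Tq (M := q.primeCompl)
      ⟨algebraMap Γ(Y, V) Γ(X, U) r, fun h => r.2 (hqp.le h)⟩
  let ρ : O →+* Tq := IsLocalization.lift (M := p.primeCompl) hunit
  letI : Algebra O Tq := ρ.toAlgebra
  letI : Module O N := Module.compHom N ρ
  haveI : IsScalarTower O Tq N := IsScalarTower.of_algebraMap_smul fun _ _ => rfl
  haveI : IsScalarTower Γ(Y, V) O N := IsScalarTower.of_algebraMap_smul fun r z => by
    show ρ (algebraMap Γ(Y, V) O r) • z = r • z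
    rw [IsLocalization.lift_eq, RingHom.comp_apply, algebraMap_smul, algebraMap_smul]
  haveI : Module.Finite Tq N := inferInstance
  haveI : Module.Flat Γ(Y, V) O := IsLocalization.flat O p.primeCompl
  suffices Module.Flat O N from Module.Flat.trans Γ(Y, V) O N
  haveI : IsLocalHom ρ := by
    constructor
    intro a ha
    obtain ⟨r, t, rfl⟩ := IsLocalization.exists_mk'_eq p.primeCompl a
    rw [IsLocalization.AtPrime.isUnit_mk'_iff O p]
    intro h
    have h1 : IsUnit (algebraMap Γ(X, U) Tq (algebraMap Γ(Y, V) Γ(X, U) r)) := by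
      have h2 := IsLocalization.mk'_spec O r t
      apply_fun ρ at h2
      rw [map_mul, IsLocalization.lift_eq, IsLocalization.lift_eq] at h2
      rw [← RingHom.comp_apply, ← h2]
      exact ha.mul (hunit t)
    exact (IsLocalization.AtPrime.isUnit_to_map_iff Tq q _).1 h1 (hqp.ge h)
  refine FlatH4.flat_of_forall_flat_quotient_pow (R := O) (S := Tq) (maximalIdeal O) ?_ fun n hn => ?_
  · rw [jacobson_eq_maximalIdeal ⊥ bot_ne_top]
    exact IsLocalRing.map_maximalIdeal_le ρ
  obtain ⟨s₀, hs₀⟩ := htop n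
  let s := s₀.filter fun p => 0 < p.2
  have hs : ∀ p ∈ s, 0 < p.2 := fun p hp => (Finset.mem_filter.1 hp).2
  let J : Ideal O := ⨅ p ∈ s, Ideal.comap (φ p.1) (maximalIdeal (A p.1) ^ p.2)
  have hJn : J ≤ maximalIdeal O ^ n := by
    refine le_trans ?_ hs₀
    refine le_iInf₂ fun p hp => ?_
    rcases Nat.eq_zero_or_pos p.2 with h0 | h0
    · rw [h0, pow_zero, Ideal.one_eq_top, Ideal.comap_top]
      exact le_top
    · exact iInf₂_le p (Finset.mem_filter.2 ⟨hp, h0⟩)
  have hK : maximalIdeal O ^ (s.sup Prod.snd) ≤ J := le_iInf₂ fun p hp => by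
    refine (Ideal.pow_le_pow_right (Finset.le_sup (f := Prod.snd) hp)).trans ?_
    rw [← Ideal.map_le_iff_le_comap, Ideal.map_pow]
    exact Ideal.pow_right_mono (IsLocalRing.map_maximalIdeal_le (φ p.1)) _
  haveI : Nontrivial (O ⧸ J) := Ideal.Quotient.nontrivial_iff.2 fun h =>
    (maximalIdeal.isMaximal O).ne_top (eq_top_iff.2 (h ▸ hJn.trans (Ideal.pow_le_self hn.ne')))
  haveI : IsLocalRing (O ⧸ J) := IsLocalRing.of_surjective' _ Ideal.Quotient.mk_surjective
  haveI : IsArtinianRing (O ⧸ J) := isArtinianRing_quotient hK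
  let g0 := Spec.map (CommRingCat.ofHom (Ideal.Quotient.mk J)) ≫ Y.fromSpecStalk (f x)
  let S' := Spec (CommRingCat.of (O ⧸ J))
  let P := pullback f g0
  have hJflat := isFlatOverAt_quotient f F hF x A φ hflat s hs J rfl
  have hTV : (⊤ : S'.Opens) ≤ g0 ⁻¹ᵁ V := by
    intro z _
    have hz : Y.fromSpecStalk (f x) (Spec.map (CommRingCat.ofHom (Ideal.Quotient.mk J)) z) ∈
        Set.range (Y.fromSpecStalk (f x)) := ⟨_, rfl⟩
    rw [Scheme.range_fromSpecStalk] at hz
    exact hz.mem_open V.2 hyV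
  have H : IsPullback (pullback.fst f g0) (pullback.snd f g0) f g0 := IsPullback.of_hasPullback f g0
  let W : P.Opens := pullback.fst f g0 ⁻¹ᵁ U ⊓ pullback.snd f g0 ⁻¹ᵁ ⊤
  have hW : IsAffineOpen W :=
    FlatH4.isAffineOpen_of_isPullback H hTV hUV rfl hV (isAffineOpen_top _) hU
  have eX : W ≤ pullback.fst f g0 ⁻¹ᵁ U := inf_le_left
  have eT : W ≤ pullback.snd f g0 ⁻¹ᵁ ⊤ := inf_le_right
  letI : Algebra Γ(Y, V) Γ(S', ⊤) := (g0.appLE V ⊤ hTV).hom.toAlgebra
  letI : Algebra Γ(X, U) Γ(P, W) := ((pullback.fst f g0).appLE U W eX).hom.toAlgebra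
  letI : Algebra Γ(S', ⊤) Γ(P, W) := ((pullback.snd f g0).appLE ⊤ W eT).hom.toAlgebra
  letI : Algebra Γ(Y, V) Γ(P, W) :=
    ((algebraMap Γ(X, U) Γ(P, W)).comp (algebraMap Γ(Y, V) Γ(X, U))).toAlgebra
  haveI : IsScalarTower Γ(Y, V) Γ(X, U) Γ(P, W) := IsScalarTower.of_algebraMap_eq fun _ => rfl
  haveI : IsScalarTower Γ(Y, V) Γ(S', ⊤) Γ(P, W) := IsScalarTower.of_algebraMap_eq fun r => by
    show (f.appLE V U hUV ≫ (pullback.fst f g0).appLE U W eX) r =
      (g0.appLE V ⊤ hTV ≫ (pullback.snd f g0).appLE ⊤ W eT) r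
    rw [Scheme.Hom.appLE_comp_appLE, Scheme.Hom.appLE_comp_appLE]
    simp only [H.w]
  haveI : Algebra.IsPushout Γ(Y, V) Γ(S', ⊤) Γ(X, U) Γ(P, W) :=
    FlatH4.algebra_isPushout_sections H hTV hUV (UY := W) rfl hV (isAffineOpen_top _) hU rfl rfl rfl rfl
  haveI : Algebra.IsPushout Γ(Y, V) Γ(X, U) Γ(S', ⊤) Γ(P, W) := Algebra.IsPushout.symm inferInstance
  let e := Scheme.ΓSpecIso (CommRingCat.of (O ⧸ J))
  letI : Algebra O Γ(S', ⊤) := (e.inv.hom.comp (Ideal.Quotient.mk J)).toAlgebra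
  haveI : IsScalarTower Γ(Y, V) O Γ(S', ⊤) := IsScalarTower.of_algebraMap_eq fun r => by
    show g0.appLE V ⊤ hTV r =
      (Y.presheaf.germ V (f x) hyV ≫ CommRingCat.ofHom (Ideal.Quotient.mk J) ≫ e.inv) r
    congr 2
    simp only [g0, Scheme.Hom.appLE, Scheme.Hom.comp_app, Scheme.fromSpecStalk_app hyV, Category.assoc]
    rw [Scheme.ΓSpecIso_inv_naturality]
    simp [Scheme.Hom.appTop]
    rfl
  have hsurj : Function.Surjective (algebraMap O Γ(S', ⊤)) :=
    e.commRingCatIsoToRingEquiv.symm.surjective.comp Ideal.Quotient.mk_surjective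
  haveI : Algebra.IsIntegral O Γ(S', ⊤) := ⟨fun z => by
    obtain ⟨z, rfl⟩ := hsurj z
    exact isIntegral_algebraMap⟩
  haveI : Module.Flat Γ(S', ⊤) (Γ(S', ⊤) ⊗[O] N) := by
    refine FlatDesc5.flat_tensor_of_over Γ(Y, V) Γ(S', ⊤) Γ(X, U) Γ(P, W) p O q hqp fun Q _ hQ => ?_
    obtain ⟨⟨x', hx'⟩, hxQ⟩ := hW.isoSpec.hom.surjective ⟨Q, inferInstance⟩
    have hxQ' : hW.primeIdealOf ⟨x', hx'⟩ = ⟨Q, inferInstance⟩ := hxQ
    have hover : pullback.fst f g0 x' = x := by
      have h1 := IsAffineOpen.comap_primeIdealOf_appLE U hU W hW eX hx'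
      rw [hxQ'] at h1
      have h2 : hU.primeIdealOf ⟨pullback.fst f g0 x', eX hx'⟩ = hU.primeIdealOf ⟨x, hxU⟩ :=
        h1.symm.trans (PrimeSpectrum.ext hQ)
      have h3 := congrArg (fun z => hU.fromSpec z) h2
      simpa only [hU.fromSpec_primeIdealOf] using h3
    have h4 := (FlatH4.isFlatOverAt_pullback_iff (pullback.fst f g0) F hU hW eX (pullback.snd f g0) ⊤
      (isAffineOpen_top _) eT hx').1 (hJflat x' hover)
    have key : ∀ (a b : PrimeSpectrum Γ(P, W)), a = b →
        Module.Flat Γ(S', ⊤) (LocalizedModule a.asIdeal.primeCompl (Γ(P, W) ⊗[Γ(X, U)] Γ(F, U))) →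
        Module.Flat Γ(S', ⊤) (LocalizedModule b.asIdeal.primeCompl (Γ(P, W) ⊗[Γ(X, U)] Γ(F, U))) := by
      rintro a _ rfl h'; exact h'
    exact key _ _ hxQ' h4
  exact flat_tensor_of_algHom (R := O) (S := Γ(S', ⊤)) (Q := O ⧸ maximalIdeal O ^ n)
    { toRingHom := (Ideal.Quotient.factor hJn).comp e.hom.hom
      commutes' := fun r => by
        show Ideal.Quotient.factor hJn ((e.inv ≫ e.hom) (Ideal.Quotient.mk J r)) = _
        rw [e.inv_hom_id]
        rfl } N

end Groth.Agent.S4857
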