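import Groth.Statements.S4858
import Groth.Agent.Lib.EGA43Top.QuasiHomeo

set_option autoImplicit false
universe u
open EGA43

namespace Groth.Agent.S4858

/-- Conditions a), a′), c), c′) (very dense subsets): for a subset X₀ of a topological space X the
following are equivalent: every nonempty locally closed subset of X meets X₀; every closed subset Z
of X equals the closure of Z ∩ X₀; the map U ↦ U ∩ X₀ is injective on open subsets of X; the map F ↦
F ∩ X₀ is injective on closed subsets of X. -/
theorem result {X : Type u} [TopologicalSpace X] (X₀ : Set X) :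
    [∀ Z : Set X, IsLocallyClosed Z → Z.Nonempty → (Z ∩ X₀).Nonempty,
      ∀ Z : Set X, IsClosed Z → closure (Z ∩ X₀) = Z,
      ∀ U V : Set X, IsOpen U → IsOpen V → U ∩ X₀ = V ∩ X₀ → U = V,
      ∀ F F' : Set X, IsClosed F → IsClosed F' → F ∩ X₀ = F' ∩ X₀ → F = F'].TFAE := by
  exact Groth.Agent.EGA43Top.veryDense_tfae X₀

end Groth.Agent.S4858
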