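import Groth.Statements.S4859
import Groth.Agent.Lib.EGA43Top.QuasiHomeo

set_option autoImplicit false
universe u
open EGA43

namespace Groth.Agent.S4859

/-- Conditions a), a′), b) (quasi-homeomorphisms): for a continuous map f : X₀ → X the following are
equivalent: taking preimages is a bijection from the open subsets of X onto the open subsets of X₀;
taking preimages is a bijection from the closed subsets of X onto the closed subsets of X₀; the
topology of X₀ is induced from X through f and the image f(X₀) is very dense in X, in the sense that
two open subsets of X with the same trace on f(X₀) coincide. -/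
theorem result {X₀ X : Type u} [TopologicalSpace X₀] [TopologicalSpace X]
    (f : X₀ → X) (hf : Continuous f) :
    [Function.Bijective (fun U : TopologicalSpace.Opens X =>
        (⟨f ⁻¹' (U : Set X), U.isOpen.preimage hf⟩ : TopologicalSpace.Opens X₀)),
      Function.Bijective (fun F : TopologicalSpace.Closeds X =>
        (⟨f ⁻¹' (F : Set X), F.isClosed.preimage hf⟩ : TopologicalSpace.Closeds X₀)),
      Topology.IsInducing f ∧
        ∀ U V : Set X, IsOpen U → IsOpen V → U ∩ Set.range f = V ∩ Set.range f → U = V].TFAE := by
  have hb := Groth.Agent.EGA43Top.isQH_iff_bijective hf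
  tfae_have 1 → 3 := by
    intro h
    refine ⟨(hb.2 h).isInducing, ?_⟩
    have t : Groth.Agent.EGA43Top.IsVeryDense (Set.range f) ↔
        ∀ U V : Set X, IsOpen U → IsOpen V → U ∩ Set.range f = V ∩ Set.range f → U = V :=
      (Groth.Agent.EGA43Top.veryDense_tfae (Set.range f)).out 0 2
    exact t.1 (hb.2 h).isVeryDense_range
  tfae_have 3 → 1 := fun h => hb.1 (Groth.Agent.EGA43Top.IsQH.of_isInducing h.1 h.2)
  tfae_have 1 ↔ 2 := by
    have e : (fun F : TopologicalSpace.Closeds X =>
        (⟨f ⁻¹' (F : Set X), F.isClosed.preimage hf⟩ : TopologicalSpace.Closeds X₀)) =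
        TopologicalSpace.Opens.compl ∘ (fun U : TopologicalSpace.Opens X =>
        (⟨f ⁻¹' (U : Set X), U.isOpen.preimage hf⟩ : TopologicalSpace.Opens X₀)) ∘
        TopologicalSpace.Closeds.compl := by
      funext F
      exact TopologicalSpace.Closeds.ext (by simp)
    rw [e]
    have b1 : Function.Bijective (TopologicalSpace.Closeds.compl (α := X)) :=
      TopologicalSpace.Closeds.compl_bijective
    have b2 : Function.Bijective (TopologicalSpace.Opens.compl (α := X₀)) :=
      TopologicalSpace.Opens.compl_bijective
    rw [Function.Bijective.of_comp_iff' b2, Function.Bijective.of_comp_iff _ b1]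
  tfae_finish

end Groth.Agent.S4859
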