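import Groth.Statements.S4860
import Groth.Agent.Lib.EGA43Top.GoldmanRing

set_option autoImplicit false
universe u
open EGA43

namespace Groth.Agent.S4860

/-- For an integral domain B the following are equivalent: a) the localization B_f is a field for some
nonzero f; b) the fraction field of B is a finitely generated B-algebra; c) there is a field
containing B (an injective algebra map from B) which is a finitely generated B-algebra; d) the
generic point of Spec B is open. -/
theorem result (B : Type u) [CommRing B] [IsDomain B] :
    [∃ f : B, f ≠ 0 ∧ IsField (Localization.Away f),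
      Algebra.FiniteType B (FractionRing B),
      ∃ (K : Type u) (_ : Field K) (_ : Algebra B K), Function.Injective (algebraMap B K) ∧ Algebra.FiniteType B K,
      IsOpen ({⟨⊥, Ideal.bot_prime⟩} : Set (PrimeSpectrum B))].TFAE := by
  tfae_have 1 ↔ 4 := Groth.Agent.EGA43Top.exists_isField_away_iff_isOpen
  tfae_have 1 → 2 := by
    rintro ⟨f, hf, hF⟩
    let := hF.toField
    have hinj : Function.Injective (algebraMap B (Localization.Away f)) :=
      IsLocalization.injective _ (powers_le_nonZeroDivisors_of_noZeroDivisors hf)
    have : IsScalarTower B B (Localization.Away f) := IsScalarTower.left B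
    have : FaithfulSMul B (Localization.Away f) := (faithfulSMul_iff_algebraMap_injective _ _).2 hinj
    have : IsFractionRing B (Localization.Away f) := by
      refine IsFractionRing.of_field B (Localization.Away f) fun z => ?_
      obtain ⟨⟨a, b⟩, e⟩ := IsLocalization.surj (Submonoid.powers f) z
      refine ⟨a, b, ?_⟩
      have hb : algebraMap B (Localization.Away f) b ≠ 0 :=
        (IsLocalization.map_units (Localization.Away f) b).ne_zero
      rw [eq_div_iff hb]
      exact e
    have hft : Algebra.FiniteType B (Localization.Away f) :=
      IsLocalization.finiteType_of_monoid_fg (Submonoid.powers f) _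
    exact hft.equiv (FractionRing.algEquiv B (Localization.Away f)).symm
  tfae_have 2 → 3 := fun h => ⟨FractionRing B, inferInstance, inferInstance, IsFractionRing.injective B _, h⟩
  tfae_have 3 → 1 := by
    rintro ⟨K, _, _, hinj, hft⟩
    have : FaithfulSMul B K := (faithfulSMul_iff_algebraMap_injective _ _).2 hinj
    let := FractionRing.liftAlgebra B K
    have : IsScalarTower B (FractionRing B) K := FractionRing.isScalarTower_liftAlgebra B K
    have : Algebra.FiniteType (FractionRing B) K := hft.of_restrictScalars_finiteType B _ _
    have : Module.Finite (FractionRing B) K := finite_of_finite_type_of_isJacobsonRing _ _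
    have hal : Algebra.IsAlgebraic B K :=
      (IsFractionRing.comap_isAlgebraic_iff (A := B) (K := FractionRing B) (C := K)).2 inferInstance
    obtain ⟨s, hs⟩ := hft.out
    obtain ⟨b, hb, hint⟩ := hal.exists_integral_multiples B s
    refine ⟨b, hb, ?_⟩
    have hb0 : algebraMap B K b ≠ 0 := fun h => hb (hinj (by rw [h, map_zero]))
    have hbu : IsUnit (algebraMap B K b) := hb0.isUnit
    let := (IsLocalization.Away.lift b hbu : Localization.Away b →+* K).toAlgebra
    have : IsScalarTower B (Localization.Away b) K :=
      IsScalarTower.of_algebraMap_eq fun x => (IsLocalization.Away.lift_eq b hbu x).symm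
    have : IsDomain (Localization.Away b) :=
      IsLocalization.isDomain_localization (powers_le_nonZeroDivisors_of_noZeroDivisors hb)
    have hle : Algebra.adjoin B (s : Set K) ≤
        (integralClosure (Localization.Away b) K).restrictScalars B := by
      refine Algebra.adjoin_le fun x hx => ?_
      have h1 : IsIntegral (Localization.Away b) (b • x) := (hint x hx).tower_top
      have h2 : x = (IsLocalization.Away.invSelf (S := Localization.Away b) b) • (b • x) := by
        rw [← algebraMap_smul (Localization.Away b) b x, smul_smul, mul_comm,
          IsLocalization.Away.mul_invSelf, one_smul]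
      rw [h2]
      exact h1.smul _
    rw [hs] at hle
    have : Algebra.IsIntegral (Localization.Away b) K := ⟨fun x => hle trivial⟩
    refine isField_of_isIntegral_of_isField (S := K) ?_ (Field.toIsField K)
    rw [injective_iff_map_eq_zero]
    intro z hz
    obtain ⟨⟨a, d⟩, e⟩ := IsLocalization.surj (Submonoid.powers b) z
    have : algebraMap B K a = 0 := by
      rw [IsScalarTower.algebraMap_apply B (Localization.Away b) K, ← e, map_mul, hz, zero_mul]
    rw [hinj (this.trans (map_zero _).symm), map_zero] at e
    exact (IsUnit.mul_left_eq_zero (IsLocalization.map_units _ d)).1 e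
  tfae_finish

end Groth.Agent.S4860
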