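import Groth.Statements.S4864
import Groth.Agent.S4863
import Groth.Agent.Lib.H12.Specialization

set_option autoImplicit false
set_option backward.isDefEq.respectTransparency false
universe u
open EGA43

namespace Groth.Agent.S4864

open AlgebraicGeometry CategoryTheory Limits in
/-- Let f : X ⟶ Y and g : Y ⟶ Z be morphisms of finite presentation and F a quasi-coherent O_X-module of
finite presentation. Then the set U of points y of Y such that, for every generization y' of y, F is
(f ≫ g)-flat at every point of X above y', is open in Y. -/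
theorem result {X Y Z : Scheme.{u}} (f : X ⟶ Y) (g : Y ⟶ Z)
    [LocallyOfFinitePresentation f] [QuasiCompact f] [QuasiSeparated f]
    [LocallyOfFinitePresentation g] [QuasiCompact g] [QuasiSeparated g]
    (F : X.Modules) [Coh.IsQCoh F] (hF : CohB1.IsFP F) :
    IsOpen {y : Y | ∀ y' : Y, y' ⤳ y → ∀ x : X, f x = y' → FlatMod.IsFlatOverAt (f ≫ g) F x} := by
  let W : TopologicalSpace.Closeds X :=
    ⟨{x : X | FlatMod.IsFlatOverAt (f ≫ g) F x}ᶜ, (S4863.result (f ≫ g) F hF).isClosed_compl⟩
  let ι := (Scheme.IdealSheafData.vanishingIdeal W).subschemeι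
  have hr : Set.range ι.base = (W : Set X) := by
    rw [Scheme.IdealSheafData.range_subschemeι, Scheme.IdealSheafData.coe_support_vanishingIdeal]
  suffices h : {y : Y | ∀ y' : Y, y' ⤳ y → ∀ x : X, f x = y' → FlatMod.IsFlatOverAt (f ≫ g) F x} =
      (closure (Set.range (ι ≫ f).base))ᶜ by
    rw [h]; exact isClosed_closure.isOpen_compl
  ext y
  constructor
  · intro hy hmem
    obtain ⟨t, ht⟩ := H12.exists_specializes_of_mem_closure_range (ι ≫ f) y hmem
    exact (hr ▸ (⟨t, rfl⟩ : ι.base t ∈ Set.range ι.base) : ι.base t ∈ (W : Set X)) (hy _ ht (ι.base t) rfl)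
  · intro hy y' hy' x hx
    by_contra hx'
    obtain ⟨t, rfl⟩ : x ∈ Set.range ι.base := hr.symm ▸ hx'
    exact hy (hy'.mem_closed isClosed_closure (subset_closure ⟨t, hx⟩))

end Groth.Agent.S4864
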