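import Groth.Statements.S4865
import Groth.Agent.Lib.FlatH4.FlatLocusFP
import Groth.Agent.Lib.FlatH4.FlatAt
import Groth.Agent.Lib.FlatH4.FlatLocal
import Mathlib.RingTheory.Ideal.MinimalPrime.Localization

set_option autoImplicit false
universe u
open EGA43

namespace Groth.Agent.S4865

/-- Let A be a commutative ring, B a finitely presented A-algebra, C a finitely presented B-algebra and
M a finitely presented C-module. Then the set of prime ideals q of B such that the localized module
M_q (M regarded as a B-module) is flat over A is open in Spec B. -/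
theorem result {A B C : Type u} [CommRing A] [CommRing B] [CommRing C]
    [Algebra A B] [Algebra B C] [Algebra A C] [IsScalarTower A B C]
    [Algebra.FinitePresentation A B] [Algebra.FinitePresentation B C]
    (M : Type u) [AddCommGroup M] [Module C M] [Module B M] [Module A M]
    [IsScalarTower B C M] [IsScalarTower A C M] [IsScalarTower A B M] [Module.FinitePresentation C M] :
    IsOpen {q : PrimeSpectrum B | Module.Flat A (LocalizedModule q.asIdeal.primeCompl M)} := by
  classical
  haveI : Algebra.FinitePresentation A C := Algebra.FinitePresentation.trans A B C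
  obtain ⟨s, hs⟩ := (PrimeSpectrum.isOpen_iff _).1
    (Groth.Agent.FlatH4.isOpen_flat_localized (R := A) (S := C) (M := M))
  -- the bad primes of `C` are `V(I)`
  let I : Ideal C := Ideal.span s
  have hgood : ∀ r : PrimeSpectrum C,
      Module.Flat A (LocalizedModule r.asIdeal.primeCompl M) ↔ ¬ I ≤ r.asIdeal := fun r => by
    rw [Ideal.span_le]
    have h := congrArg (fun t : Set (PrimeSpectrum C) => r ∈ t) hs
    simp only [Set.mem_compl_iff, Set.mem_ofPred_eq, PrimeSpectrum.mem_zeroLocus] at h
    exact ⟨fun hf hc => (iff_of_eq h).2 hc hf, fun hf => by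
      by_contra hc; exact hf ((iff_of_eq h).1 hc)⟩
  have key : ∀ q : PrimeSpectrum B, Module.Flat A (LocalizedModule q.asIdeal.primeCompl M) ↔
      ¬ I.comap (algebraMap B C) ≤ q.asIdeal := by
    intro q
    constructor
    · intro hflat hle
      obtain ⟨p, ⟨hp, hpq⟩⟩ := Ideal.exists_minimalPrimes_le hle
      obtain ⟨r, hr, hIr, hrp⟩ := Ideal.exists_comap_eq_of_mem_minimalPrimes (algebraMap B C) p hp
      refine (hgood ⟨r, hr⟩).1 ?_ hIr
      refine Module.Flat.iff_lTensor_injective'.2 fun J => Groth.Agent.FlatH4.lTensor_localized_injective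
        r.primeCompl (LocalizedModule.mkLinearMap r.primeCompl M) _ fun x hx => ?_
      obtain ⟨t, ht, htx⟩ := Groth.Agent.FlatH4.exists_smul_eq_zero_of_flat_localized
        (R := A) (S := B) (M := M) q.asIdeal J.subtype J.injective_subtype x hx
      refine ⟨algebraMap B C t, fun htr => ht (hpq ?_), by rw [algebraMap_smul]; exact htx⟩
      rw [← hrp]; exact htr
    · intro hle
      refine Module.Flat.iff_lTensor_injective'.2 fun J => Groth.Agent.FlatH4.lTensor_localized_injective
        q.asIdeal.primeCompl (LocalizedModule.mkLinearMap q.asIdeal.primeCompl M) _ fun x hx => ?_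
      let ann : Ideal C := LinearMap.ker (LinearMap.toSpanSingleton C _ x)
      by_contra hno
      push Not at hno
      have hdisj : Disjoint (ann : Set C) (Algebra.algebraMapSubmonoid C q.asIdeal.primeCompl : Set C) := by
        rw [Set.disjoint_left]
        rintro _ hc ⟨t, ht, rfl⟩
        exact hno t ht (by rw [← algebraMap_smul C]; exact hc)
      obtain ⟨r, hr, har, hrd⟩ := Ideal.exists_le_prime_disjoint ann _ hdisj
      have hflat : Module.Flat A (LocalizedModule r.primeCompl M) := (hgood ⟨r, hr⟩).2 fun hIr => by
        refine hle fun t ht => ?_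
        by_contra htq
        exact Set.disjoint_left.1 hrd (hIr ht) ⟨t, htq, rfl⟩
      obtain ⟨c, hc, hcx⟩ := Groth.Agent.FlatH4.exists_smul_eq_zero_of_flat_localized
        (R := A) (S := C) (M := M) r J.subtype J.injective_subtype x hx
      exact hc (har hcx)
  rw [show {q : PrimeSpectrum B | Module.Flat A (LocalizedModule q.asIdeal.primeCompl M)} =
    (PrimeSpectrum.zeroLocus (I.comap (algebraMap B C) : Set B))ᶜ from Set.ext fun q => key q]
  exact (PrimeSpectrum.isClosed_zeroLocus _).isOpen_compl

end Groth.Agent.S4865
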