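import Groth.Statements.S4866
import Groth.Agent.Lib.FibRegOpen5.Alg
import Groth.Agent.Lib.FibDepth5.Data
import Groth.Agent.Lib.ModM1.Coh
import Groth.Agent.Lib.ModM1.Stalk

set_option autoImplicit false
universe u
open EGA43

set_option backward.isDefEq.respectTransparency.types false

namespace Groth.Agent.S4866

open AlgebraicGeometry CategoryTheory Limits in
/-- Let Y be a locally Noetherian scheme, f : X ⟶ Y locally of finite type, F a coherent f-flat
O_X-module and g₁, …, gₙ sections of O_X over X. Then the set of points x of X, with y = f x, such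
that the germs (gᵢ)_x form a weakly regular sequence on the fibre module F_x / m_y F_x (each gᵢ is a
non-zero-divisor on the quotient by the preceding ones; the quotient by all of them may be zero) is
open in X. -/
theorem result {X Y : Scheme.{u}} [IsLocallyNoetherian Y] (f : X ⟶ Y)
    [LocallyOfFiniteType f] (F : X.Modules) (hF : Coh.IsCoh F) (hflat : FlatMod.IsFlatOver f F)
    (n : ℕ) (g : Fin n → Γ(X, ⊤)) :
    IsOpen {x : X |
      RingTheory.Sequence.IsWeaklyRegular
        (↑(F.presheaf.stalk x) ⧸ (Ideal.map (f.stalkMap x).hom (IsLocalRing.maximalIdeal ↑(Y.presheaf.stalk (f x))) •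
          (⊤ : Submodule ↑(X.presheaf.stalk x) ↑(F.presheaf.stalk x))))
        (List.ofFn fun i => (X.presheaf.germ ⊤ x trivial) (g i))} := by
  haveI hq := hF.1
  rw [isOpen_iff_mem_nhds]
  intro x hx
  obtain ⟨V, hV, hxV, -⟩ := exists_isAffineOpen_mem_and_subset (X := Y) (x := f x) (U := ⊤) trivial
  obtain ⟨U, hU, hxU, e⟩ := exists_isAffineOpen_mem_and_subset (X := X) (x := x) (U := f ⁻¹ᵁ V) hxV
  haveI : IsNoetherianRing Γ(Y, V) := IsLocallyNoetherian.component_noetherian ⟨V, hV⟩
  letI := (f.appLE V U e).hom.toAlgebra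
  letI := Groth.Agent.FlatH4.secModuleOver f F V U e
  haveI : IsScalarTower Γ(Y, V) Γ(X, U) Γ(F, U) := IsScalarTower.of_algebraMap_smul fun _ _ => rfl
  haveI : Algebra.FiniteType Γ(Y, V) Γ(X, U) := f.finiteType_appLE hV hU e
  haveI : Module.Finite Γ(X, U) Γ(F, U) := Groth.Agent.M1.finite_sections hq hF.2 hU
  haveI : Module.Flat Γ(Y, V) Γ(F, U) := Groth.Agent.FibDepth5.flat_sections f F hflat hV hU e
  let g' : List Γ(X, U) := List.ofFn fun i => X.presheaf.map (homOfLE (le_top : U ≤ ⊤)).op (g i)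
  let O := {q : PrimeSpectrum Γ(X, U) | Groth.Agent.FibRegOpen5.FR Γ(Y, V) Γ(F, U) g' q.asIdeal}
  have hO : IsOpen O := Groth.Agent.FibRegOpen5.isOpen_FR g'
  -- the translation at a point of the chart
  have key : ∀ (z : X) (hz : z ∈ U), RingTheory.Sequence.IsWeaklyRegular
        (↑(F.presheaf.stalk z) ⧸ (Ideal.map (f.stalkMap z).hom (IsLocalRing.maximalIdeal ↑(Y.presheaf.stalk (f z))) •
          (⊤ : Submodule ↑(X.presheaf.stalk z) ↑(F.presheaf.stalk z))))
        (List.ofFn fun i => (X.presheaf.germ ⊤ z trivial) (g i)) ↔ hU.primeIdealOf ⟨z, hz⟩ ∈ O := by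
    intro z hz
    letI := Groth.Agent.M1.stalkModule F hz
    letI : Algebra Γ(X, U) (X.presheaf.stalk z) := X.presheaf.algebra_section_stalk ⟨z, hz⟩
    haveI : IsScalarTower Γ(X, U) (X.presheaf.stalk z) (F.presheaf.stalk z) :=
      IsScalarTower.of_algebraMap_smul fun _ _ => rfl
    haveI := Groth.Agent.M1.isLocalizedModule_germ F hU hz
    letI : Algebra Γ(Y, V) (Y.presheaf.stalk (f z)) := Y.presheaf.algebra_section_stalk ⟨f z, e hz⟩
    haveI : IsLocalization.AtPrime (Y.presheaf.stalk (f z)) (hV.primeIdealOf ⟨f z, e hz⟩).asIdeal :=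
      hV.isLocalization_stalk ⟨f z, e hz⟩
    have hcomap : (hU.primeIdealOf ⟨z, hz⟩).asIdeal.comap (algebraMap Γ(Y, V) Γ(X, U)) =
        (hV.primeIdealOf ⟨f z, e hz⟩).asIdeal :=
      congr($(IsAffineOpen.comap_primeIdealOf_appLE V hV U hU (f := f) (x := z) e hz).1)
    have hmax : Ideal.map (f.stalkMap z).hom (IsLocalRing.maximalIdeal (Y.presheaf.stalk (f z))) =
        (((hU.primeIdealOf ⟨z, hz⟩).asIdeal.comap (algebraMap Γ(Y, V) Γ(X, U))).map
          (algebraMap Γ(Y, V) Γ(X, U))).map (algebraMap Γ(X, U) (X.presheaf.stalk z)) := by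
      rw [hcomap, ← IsLocalization.AtPrime.map_eq_maximalIdeal (hV.primeIdealOf ⟨f z, e hz⟩).asIdeal
        (Y.presheaf.stalk (f z)), Ideal.map_map, Ideal.map_map]
      congr 1
      ext r
      show f.stalkMap z (Y.presheaf.germ V (f z) (e hz) r) = X.presheaf.germ U z hz (f.appLE V U e r)
      rw [Scheme.Hom.germ_stalkMap_apply]
      exact (X.presheaf.germ_res_apply (homOfLE e) z hz _).symm
    have hlist : (List.ofFn fun i => (X.presheaf.germ ⊤ z trivial) (g i)) =
        g'.map (algebraMap Γ(X, U) (X.presheaf.stalk z)) := by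
      rw [List.map_ofFn]
      congr 1
      funext i
      exact (X.presheaf.germ_res_apply (homOfLE le_top) z hz _).symm
    rw [hmax, hlist]
    refine (Groth.Agent.FibRegOpen5.isWeaklyRegular_quotient_iff (X.presheaf.stalk z) _ g').trans ?_
    refine forall_congr' fun i => forall_congr' fun hi => ?_
    exact Groth.Agent.FibRegOpen5.cancel_iff _ (Groth.Agent.M1.germₗ F hz) _ _
  rw [mem_nhds_iff]
  refine ⟨Subtype.val '' ((fun z : U => hU.primeIdealOf z) ⁻¹' O), ?_, ?_, ?_⟩
  · rintro _ ⟨⟨z, hz⟩, hzO, rfl⟩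
    exact (key z hz).2 hzO
  · exact U.2.isOpenMap_subtype_val _ (hO.preimage (by
      haveI : IsAffine U := hU
      exact hU.isoSpec.hom.continuous))
  · exact ⟨⟨x, hxU⟩, (key x hxU).1 hx, rfl⟩

end Groth.Agent.S4866
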