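import Groth.Statements.S4869
import Groth.Agent.Lib.GrFlat.Model

set_option autoImplicit false
universe u
open TensorProduct
open EGA43

namespace Groth.Agent.S4869

/-- Let A₀ be a commutative ring, (A_i) a directed system of A₀-algebras with colimit A, B₀ a finitely
presented A₀-algebra, J₀ a finitely generated ideal of B₀ and M₀ a finitely presented B₀-module; put
M = A ⊗_{A₀} M₀ and J = J₀B, and likewise M_i, J_i over each A_i. Then the associated graded module
gr_J(M) = ⊕_k J^k M / J^{k+1} M is flat over A if and only if, for some index i, gr_{J_i}(M_i) is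
flat over A_i. Flatness of the graded module is expressed through the equivalent condition that
every truncation M / J^k M (k ≥ 0) is flat (the pieces J^k M / J^{k+1} M are the kernels of the
surjections M / J^{k+1} M → M / J^k M), and J^k M is realised as the image of A ⊗_{A₀} J₀^k M₀ in A
⊗_{A₀} M₀. (The published statement also asserts that the canonical maps from gr_{J_i}(M_i) ⊗_{A_i}
A to gr_J(M) are then bijective; this row states only the equivalence.) -/
theorem result {A₀ : Type u} [CommRing A₀]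
    {ι : Type u} [Preorder ι] (G : ι → Type u) [∀ i, CommRing (G i)] [∀ i, Algebra A₀ (G i)]
    (g : ∀ i j, i ≤ j → G i →ₐ[A₀] G j)
    (A : Type u) [CommRing A] [Algebra A₀ A] [∀ i, Algebra (G i) A] [∀ i, IsScalarTower A₀ (G i) A]
    (hcolim : FlatCA.IsDirectedColimitRing G (fun i j h => (g i j h).toRingHom) A)
    {B₀ : Type u} [CommRing B₀] [Algebra A₀ B₀] [Algebra.FinitePresentation A₀ B₀]
    (J₀ : Ideal B₀) (hJ₀ : J₀.FG)
    (M₀ : Type u) [AddCommGroup M₀] [Module B₀ M₀] [Module A₀ M₀] [IsScalarTower A₀ B₀ M₀]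
    [Module.FinitePresentation B₀ M₀] :
    (∀ k : ℕ, Module.Flat A ((A ⊗[A₀] M₀) ⧸
        LinearMap.range (((J₀ ^ k • (⊤ : Submodule B₀ M₀)).restrictScalars A₀).subtype.baseChange A))) ↔
      ∃ i : ι, ∀ k : ℕ, Module.Flat (G i) ((G i ⊗[A₀] M₀) ⧸
        LinearMap.range (((J₀ ^ k • (⊤ : Submodule B₀ M₀)).restrictScalars A₀).subtype.baseChange (G i))) := by
  classical
  constructor
  · intro hflat
    obtain ⟨R, _, _, _, _, S, N, _, _, _, _, _, _, J₁, ψ, ι₁, hR, hS, hN, h, hmap, -, -⟩ :=
      Groth.Agent.GrFlat.exists_model A₀ B₀ M₀ J₀ hJ₀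
    subst hmap
    let q := fun k => Groth.Agent.GrFlat.qtEquiv (J := J₁) h k
    letI : Algebra R A := ((algebraMap A₀ A).comp (algebraMap R A₀)).toAlgebra
    haveI : IsScalarTower R A₀ A := IsScalarTower.of_algebraMap_eq fun _ => rfl
    letI : ∀ i, Algebra R (G i) := fun i => ((algebraMap A₀ (G i)).comp (algebraMap R A₀)).toAlgebra
    haveI : ∀ i, IsScalarTower R A₀ (G i) := fun i => IsScalarTower.of_algebraMap_eq fun _ => rfl
    haveI : ∀ i, IsScalarTower R (G i) A := fun i => IsScalarTower.of_algebraMap_eq fun r => by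
      show algebraMap A₀ A (algebraMap R A₀ r) = algebraMap (G i) A (algebraMap A₀ (G i) (algebraMap R A₀ r))
      rw [← IsScalarTower.algebraMap_apply A₀ (G i) A]
    let eS : ∀ (C : Type u) [CommRing C] [Algebra A₀ C] [Algebra R C] [IsScalarTower R A₀ C] (k : ℕ),
        ((C ⊗[A₀] M₀) ⧸ LinearMap.range
          ((((J₁.map ψ) ^ k • (⊤ : Submodule B₀ M₀)).restrictScalars A₀).subtype.baseChange C)) ≃ₗ[C]
          C ⊗[R] Groth.Agent.GrFlat.Qt J₁ N k :=
      fun C _ _ _ _ k => (Groth.Agent.GrFlat.tensorQtEquiv A₀ (J₁.map ψ) C k).trans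
        ((TensorProduct.AlgebraTensorModule.congr (LinearEquiv.refl C C) (q k).symm).trans
          (Groth.Agent.GrFlat.towerEquiv R A₀ C _))
    haveI : ∀ k, Module.Flat A (A ⊗[R] Groth.Agent.GrFlat.Qt J₁ N k) := fun k => by
      haveI := hflat k
      exact Module.Flat.of_linearEquiv (eS A k).symm
    obtain ⟨B, hB, hBflat⟩ := Groth.Agent.GrFlat.exists_subalgebra_flat_qt (R := R) J₁ N A
    haveI : Algebra.FiniteType R B := B.fg_iff_finiteType.1 hB
    haveI : Algebra.FinitePresentation R B := Algebra.FinitePresentation.of_finiteType.1 inferInstance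
    obtain ⟨k, φ, hφ, hkerφ⟩ := Algebra.FinitePresentation.out (R := R) (A := B)
    obtain ⟨hdir, hne, hid, hcomp, hcompat, hsurj, hzero⟩ := hcolim
    haveI := hdir
    haveI := hne
    choose iy xy hxy using fun y : Fin k => hsurj (φ (MvPolynomial.X y) : A)
    obtain ⟨i, hi⟩ := Finite.exists_le iy
    let ψi : MvPolynomial (Fin k) R →ₐ[R] G i := MvPolynomial.aeval fun y => g (iy y) i (hi y) (xy y)
    have hψi : ∀ p, algebraMap (G i) A (ψi p) = (φ p : A) := by
      have hext : (IsScalarTower.toAlgHom R (G i) A).comp ψi = B.val.comp φ := by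
        refine MvPolynomial.algHom_ext fun y => ?_
        simp only [ψi, AlgHom.comp_apply, MvPolynomial.aeval_X]
        exact (RingHom.congr_fun (hcompat (iy y) i (hi y)) (xy y)).trans (hxy y)
      exact fun p => AlgHom.congr_fun hext p
    obtain ⟨rel, hrel⟩ := hkerφ
    have hk : ∀ r : rel, ∃ j, ∃ h : i ≤ j, g i j h (ψi r) = 0 := fun r => hzero i (ψi r) (by
      have hr : φ r = 0 := hrel.le (Ideal.subset_span r.2)
      rw [hψi, hr]; rfl)
    choose jr hij hjr using hk
    obtain ⟨j₀, hj₀⟩ := Finite.exists_le jr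
    obtain ⟨j, hij₀, hjj₀⟩ := directed_of (· ≤ ·) i j₀
    let ψj : MvPolynomial (Fin k) R →ₐ[R] G j := ((g i j hij₀).restrictScalars R).comp ψi
    have hker : RingHom.ker φ.toRingHom ≤ RingHom.ker ψj.toRingHom := by
      rw [show RingHom.ker φ.toRingHom = Ideal.span (rel : Set _) from hrel.symm, Ideal.span_le]
      intro r hr
      show g i j hij₀ (ψi r) = 0
      have h1 : g (jr ⟨r, hr⟩) j ((hj₀ _).trans hjj₀) (g i (jr ⟨r, hr⟩) (hij _) (ψi r)) =
          g i j hij₀ (ψi r) :=
        RingHom.congr_fun (hcomp i (jr ⟨r, hr⟩) j (hij _) ((hj₀ _).trans hjj₀)) (ψi r)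
      rw [← h1, hjr ⟨r, hr⟩, map_zero]
    let χ : B →ₐ[R] G j :=
      { RingHom.liftOfSurjective φ.toRingHom hφ ⟨ψj.toRingHom, hker⟩ with
        commutes' := fun r => by
          show RingHom.liftOfSurjective φ.toRingHom hφ ⟨ψj.toRingHom, hker⟩ (algebraMap R B r) = _
          rw [← φ.commutes r]
          exact (RingHom.liftOfRightInverse_comp_apply _ _ _ _ _).trans (ψj.commutes r) }
    letI : Algebra B (G j) := χ.toRingHom.toAlgebra
    haveI : IsScalarTower R B (G j) := IsScalarTower.of_algebraMap_eq fun r => (χ.commutes r).symm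
    refine ⟨j, fun m => ?_⟩
    haveI := hBflat m
    haveI := Groth.Agent.GrFlat.flat_baseChange_of_flat R B (G j) (Groth.Agent.GrFlat.Qt J₁ N m)
    exact Module.Flat.of_linearEquiv (eS (G j) m)
  · rintro ⟨i, hi⟩ k
    haveI := hi k
    haveI : Module.Flat (G i) (G i ⊗[A₀] Groth.Agent.GrFlat.Qt J₀ M₀ k) :=
      Module.Flat.of_linearEquiv (Groth.Agent.GrFlat.tensorQtEquiv A₀ J₀ (G i) k).symm
    haveI := Groth.Agent.GrFlat.flat_baseChange_of_flat A₀ (G i) A (Groth.Agent.GrFlat.Qt J₀ M₀ k)
    exact Module.Flat.of_linearEquiv (Groth.Agent.GrFlat.tensorQtEquiv A₀ J₀ A k)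


end Groth.Agent.S4869
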