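import Groth.Statements.S4872
import Mathlib.AlgebraicGeometry.AffineSpace
import Mathlib.AlgebraicGeometry.Morphisms.ClosedImmersion
import Mathlib.AlgebraicGeometry.Morphisms.Separated
-- import your own Groth.Agent.* helpers here

set_option autoImplicit false
universe u
open CategoryTheory AlgebraicGeometry
open EGA43

namespace Groth.Agent.S4872

open CategoryTheory.Limits

set_option backward.isDefEq.respectTransparency.types false

theorem app_eq_zero_of_restrict {X Z : Scheme.{u}} (f : Z ⟶ X) (U : X.Opens)
    (W : (U : Scheme.{u}).Opens) (s : Γ(X, U.ι ''ᵁ W)) (h : (f ∣_ U).app W s = 0) :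
    f.app (U.ι ''ᵁ W) s = 0 := by
  rw [morphismRestrict_app] at h
  replace h : (Z.presheaf.map (eqToHom (image_morphismRestrict_preimage f U W)).op).hom
      ((f.app (U.ι ''ᵁ W)).hom s) = 0 := h
  exact (map_eq_zero_iff _ (ConcreteCategory.bijective_of_isIso
    (Z.presheaf.map (eqToHom (image_morphismRestrict_preimage f U W)).op)).1).mp h

theorem restrict_eq_zero_of_app {X Z : Scheme.{u}} (f : Z ⟶ X) (U : X.Opens)
    (W : (U : Scheme.{u}).Opens) (s : Γ(X, U.ι ''ᵁ W)) (h : f.app (U.ι ''ᵁ W) s = 0) :
    (f ∣_ U).app W s = 0 := by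
  rw [morphismRestrict_app]
  show (Z.presheaf.map (eqToHom (image_morphismRestrict_preimage f U W)).op).hom
      ((f.app (U.ι ''ᵁ W)).hom s) = 0
  rw [show (f.app (U.ι ''ᵁ W)).hom s = 0 from h, map_zero]


/-- Conditions b), c), d) (schematically dominant families): let p : X ⟶ S be a morphism and (f_i : Z_i
⟶ X) a family of morphisms. The following are equivalent: b) for every open V of X, a section of O_X
over V whose images in all the Γ(f_i⁻¹(V), O_{Z_i}) are zero is zero; c) for every open U of X, a
closed immersion j : Y ⟶ U through which each restriction f_i⁻¹(U) ⟶ U factors is an isomorphism; d)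
for every separated S-scheme X', every open U of X and every pair of S-morphisms u, v : U ⟶ X'
having the same composite with each f_i⁻¹(U) ⟶ U, one has u = v. -/
theorem result {X S : Scheme.{u}} (p : X ⟶ S) {ι : Type u} (Z : ι → Scheme.{u})
    (f : ∀ i, Z i ⟶ X) :
    [(∀ (V : (X).Opens) (t : Γ(X, V)), (∀ i, (f i).app V t = 0) → t = 0),
      ∀ (U : X.Opens) (Y : Scheme.{u}) (j : Y ⟶ (U : Scheme.{u})), IsClosedImmersion j →
        (∀ i, ∃ g : ((f i) ⁻¹ᵁ U : Scheme.{u}) ⟶ Y, g ≫ j = (f i) ∣_ U) → IsIso j,
      ∀ (X' : Scheme.{u}) (q : X' ⟶ S), IsSeparated q → ∀ (U : X.Opens) (u v : (U : Scheme.{u}) ⟶ X'),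
        u ≫ q = U.ι ≫ p → v ≫ q = U.ι ≫ p → (∀ i, ((f i) ∣_ U) ≫ u = ((f i) ∣_ U) ≫ v) → u = v].TFAE := by
  tfae_have 1 → 2 := by
    intro hb U Y j hj hfac
    rw [IsClosedImmersion.isIso_iff_ker_eq_bot]
    refine Scheme.IdealSheafData.ext (funext fun W => ?_)
    rw [Scheme.Hom.ker_apply, Scheme.IdealSheafData.ideal_bot, Pi.bot_apply, eq_bot_iff]
    intro s hs
    rw [RingHom.mem_ker] at hs
    refine hb (U.ι ''ᵁ W.1) s fun i => ?_
    obtain ⟨g, hg⟩ := hfac i
    apply app_eq_zero_of_restrict
    have h : (g ≫ j).app W.1 s = 0 := by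
      rw [Scheme.Hom.comp_app]
      show (g.app (j ⁻¹ᵁ W.1)).hom ((j.app W.1).hom s) = 0
      rw [hs, map_zero]
    exact hg ▸ h
  tfae_have 2 → 3 := by
    intro hc X' q hq U a b ha hb hab
    let w : (U : Scheme.{u}) ⟶ pullback q q := pullback.lift a b (ha.trans hb.symm)
    let e := pullback.fst w (pullback.diagonal q)
    have : IsIso e := by
      refine hc U _ e (MorphismProperty.pullback_fst _ _ inferInstance) fun i => ?_
      refine ⟨pullback.lift ((f i) ∣_ U) (((f i) ∣_ U) ≫ a) ?_, pullback.lift_fst _ _ _⟩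
      apply pullback.hom_ext
      · simp only [w, Category.assoc, pullback.diagonal_fst, Category.comp_id]
        erw [pullback.lift_fst]
      · simp only [w, Category.assoc, pullback.diagonal_snd, Category.comp_id]
        erw [pullback.lift_snd]
        rw [hab i]
    have h : e ≫ w = pullback.snd w (pullback.diagonal q) ≫ pullback.diagonal q :=
      pullback.condition
    have h1 := congrArg (· ≫ pullback.fst q q) h
    have h2 := congrArg (· ≫ pullback.snd q q) h
    simp only [w, Category.assoc, pullback.lift_fst, pullback.lift_snd, pullback.diagonal_fst,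
      pullback.diagonal_snd, Category.comp_id] at h1 h2
    exact (cancel_epi e).mp (h1.trans h2.symm)
  tfae_have 3 → 1 := by
    intro hd V t ht
    have h : AffineSpace.homOfVector (n := PUnit.{u+1}) (V.ι ≫ p) (fun _ => V.topIso.inv t) =
        AffineSpace.homOfVector (V.ι ≫ p) (fun _ => 0) := by
      refine hd 𝔸(PUnit.{u+1}; S) (𝔸(PUnit.{u+1}; S) ↘ S) inferInstance V _ _ ?_ ?_ fun i => ?_
      · simp
      · simp
      · rw [AffineSpace.comp_homOfVector, AffineSpace.comp_homOfVector]
        congr 1
        funext k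
        simp only [Function.comp_apply, map_zero]
        refine restrict_eq_zero_of_app (f i) V ⊤ _ ?_
        have h0 := ht i
        revert h0
        have key : ∀ (W : X.Opens) (e : W = V),
            (f i).app V t = 0 → (f i).app W (X.presheaf.map (eqToHom e).op t) = 0 := by
          rintro W rfl h0
          simpa using h0
        exact key _ (Scheme.Opens.ι_image_top V)
    have h1 := congrArg (fun m => m.appTop (AffineSpace.coord S (PUnit.unit.{u+1}))) h
    simp only [AffineSpace.homOfVector_appTop_coord] at h1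
    exact (map_eq_zero_iff _ (ConcreteCategory.bijective_of_isIso V.topIso.inv).1).mp h1
  tfae_finish

end Groth.Agent.S4872
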