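import Groth.Statements.S4873


set_option autoImplicit false
universe u
open CategoryTheory AlgebraicGeometry
open EGA43

namespace Groth.Agent.S4873

/-- Let (f_i : Z_i ⟶ X) be a family of morphisms. If the family is schematically dominant, i.e. a
section of O_X over an open V whose pullback to every f_i⁻¹(V) vanishes is zero, then the union of
the images f_i(Z_i) is dense in X. Conversely, if X is reduced and this union is dense, the family
is schematically dominant. -/
theorem result {X : Scheme.{u}} {ι : Type u} (Z : ι → Scheme.{u})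
    (f : ∀ i, Z i ⟶ X) :
    ((∀ (V : (X).Opens) (t : Γ(X, V)), (∀ i, (f i).app V t = 0) → t = 0) → Dense (⋃ i, Set.range (f i))) ∧
    (IsReduced X → Dense (⋃ i, Set.range (f i)) → (∀ (V : (X).Opens) (t : Γ(X, V)), (∀ i, (f i).app V t = 0) → t = 0)) := by
  constructor
  · intro h
    rw [dense_iff_inter_open]
    intro U hU hne
    by_contra hc
    obtain ⟨x, hx⟩ := hne
    have h0 : ∀ i, (f i) ⁻¹ᵁ (⟨U, hU⟩ : X.Opens) = ⊥ := fun i => by
      ext z
      simp only [TopologicalSpace.Opens.coe_bot, Set.mem_empty_iff_false, iff_false]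
      exact fun hz => hc ⟨f i z, hz, Set.mem_iUnion.2 ⟨i, z, rfl⟩⟩
    have h1 : (1 : Γ(X, ⟨U, hU⟩)) = 0 := h ⟨U, hU⟩ 1 fun i => by
      have : Subsingleton Γ(Z i, (f i) ⁻¹ᵁ (⟨U, hU⟩ : X.Opens)) := by rw [h0 i]; infer_instance
      exact Subsingleton.elim _ _
    have h2 := congrArg (X.presheaf.germ (⟨U, hU⟩ : X.Opens) x hx) h1
    rw [map_one, map_zero] at h2
    exact one_ne_zero h2
  · intro _ hd V t ht
    rw [← basicOpen_eq_bot_iff, ← TopologicalSpace.Opens.coe_eq_empty]
    by_contra hc
    obtain ⟨x, hx, hx'⟩ := hd.inter_open_nonempty _ (X.basicOpen t).2 (Set.nonempty_iff_ne_empty.2 hc)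
    obtain ⟨i, z, rfl⟩ := Set.mem_iUnion.1 hx'
    have : z ∈ (f i) ⁻¹ᵁ X.basicOpen t := hx
    rw [Scheme.preimage_basicOpen, ht i, Scheme.basicOpen_zero] at this
    exact this

end Groth.Agent.S4873
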