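import Groth.Statements.S4874
import Groth.Agent.Lib.SchDom.Basic
import Mathlib.RingTheory.Flat.FaithfullyFlat.Algebra

set_option autoImplicit false
universe u
open CategoryTheory AlgebraicGeometry
open EGA43

namespace Groth.Agent.S4874

/-- Let (f_i : Z_i ⟶ X) be a family of morphisms, g : X' ⟶ X a faithfully flat morphism and f'_i : Z_i
×_X X' ⟶ X' the base changes. If the family (f'_i) is schematically dominant, then so is the family
(f_i). (Schematically dominant: a section of the structure sheaf over an open whose pullback along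
every member of the family vanishes is zero.) -/
theorem result {X X' : Scheme.{u}} {ι : Type u} (Z : ι → Scheme.{u})
    (f : ∀ i, Z i ⟶ X) (g : X' ⟶ X) [Flat g] [Surjective g]
    (h : (∀ (V : (X').Opens) (t : Γ(X', V)), (∀ i, (Limits.pullback.snd (f i) g).app V t = 0) → t = 0)) :
    (∀ (V : (X).Opens) (t : Γ(X, V)), (∀ i, (f i).app V t = 0) → t = 0) := by
  intro V t ht
  have h0 : g.app V t = 0 := by
    refine h _ _ fun i => ?_
    have hv : ∀ (v : Limits.pullback (f i) g ⟶ X), v = Limits.pullback.fst (f i) g ≫ f i →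
        ∀ (e : (Limits.pullback.snd (f i) g ≫ g) ⁻¹ᵁ V ≤ v ⁻¹ᵁ V), v.appLE V _ e t = 0 := by
      rintro _ rfl e
      exact Groth.Agent.SchDom.appLE_comp_eq_zero _ _ _ t (ht i)
    have h2 : (Limits.pullback.snd (f i) g ≫ g).app V t = 0 := by
      rw [Scheme.Hom.app_eq_appLE]
      exact hv _ Limits.pullback.condition.symm _
    exact h2
  refine TopCat.Presheaf.section_ext X.sheaf V t 0 fun x hx => ?_
  obtain ⟨x', rfl⟩ := g.surjective x
  have hinj : Function.Injective (g.stalkMap x').hom := by
    algebraize [(g.stalkMap x').hom]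
    have : Module.FaithfullyFlat (X.presheaf.stalk (g x')) (X'.presheaf.stalk x') :=
      @Module.FaithfullyFlat.of_flat_of_isLocalHom _ _ _ _ _ _ _
        (Flat.stalkMap g x') (g.toLRSHom.prop x')
    exact ‹RingHom.FaithfullyFlat _›.injective
  apply hinj
  show (g.stalkMap x') (X.presheaf.germ V (g x') hx t) = (g.stalkMap x') (X.presheaf.germ V (g x') hx 0)
  rw [Scheme.Hom.germ_stalkMap_apply, h0, map_zero, map_zero, map_zero]

end Groth.Agent.S4874
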