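import Groth.Statements.S4876
import Groth.Agent.Lib.SchDom.ChartDom
import Mathlib.AlgebraicGeometry.Noetherian
import Mathlib.AlgebraicGeometry.Fiber

set_option autoImplicit false
universe u
open CategoryTheory AlgebraicGeometry
open EGA43

namespace Groth.Agent.S4876

/-- Let p : X ⟶ S be a morphism with X locally Noetherian and (f_i : Z_i ⟶ X) a family of morphisms with
every Z_i flat over S. Then the family (f_i) is universally schematically dominant relative to S,
i.e. for every base change S' ⟶ S the family Z_i ×_S S' ⟶ X ×_S S' is schematically dominant, if and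
only if for every point s of S the family of fibres (Z_i)_s ⟶ X_s is schematically dominant.
(Schematically dominant: a section of the structure sheaf over an open whose pullback along every
member vanishes is zero.) -/
theorem result {X S : Scheme.{u}} [IsLocallyNoetherian X]
    (p : X ⟶ S) {ι : Type u} (Z : ι → Scheme.{u}) (f : ∀ i, Z i ⟶ X) [∀ i, Flat (f i ≫ p)] :
    (∀ (S' : Scheme.{u}) (g : S' ⟶ S),
      (∀ (V : (Limits.pullback p g).Opens) (t : Γ(Limits.pullback p g, V)), (∀ i, (Limits.pullback.map (f i ≫ p) g p g (f i) (𝟙 S') (𝟙 S) (Category.comp_id _) ((Category.comp_id _).trans (Category.id_comp _).symm)).app V t = 0) → t = 0)) ↔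
    ∀ s : S, (∀ (V : (p.fiber s).Opens) (t : Γ(p.fiber s, V)), (∀ i, (MoreMor.fiberMap (f i) p s).app V t = 0) → t = 0) := by
  have hfib : ∀ (s : S) (i : ι), MoreMor.fiberMap (f i) p s =
      Groth.Agent.SchDom.Chart.mapB (p := p) (g := S.fromSpecResidueField s) (f i) := by
    intro s i
    apply Limits.pullback.hom_ext
    · exact (Limits.pullback.lift_fst _ _ _).trans (Limits.pullback.lift_fst _ _ _).symm
    · refine (Limits.pullback.lift_snd _ _ _).trans ?_
      exact ((Limits.pullback.lift_snd _ _ _).trans (Category.comp_id _)).symm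
  constructor
  · intro h s V t ht
    refine h _ (S.fromSpecResidueField s) V t fun i => ?_
    have := ht i
    rw [hfib] at this
    exact this
  · intro h S' g V t ht
    refine Groth.Agent.SchDom.eq_zero_of_locally t fun x hx => ?_
    obtain ⟨R, hR, hxR, -⟩ := exists_isAffineOpen_mem_and_subset (X := S)
      (x := p (Limits.pullback.fst p g x)) (U := ⊤) trivial
    obtain ⟨U, hU, hxU, hUR⟩ := exists_isAffineOpen_mem_and_subset (X := X)
      (x := Limits.pullback.fst p g x) (U := p ⁻¹ᵁ R) hxR
    have hsnd : g (Limits.pullback.snd p g x) = p (Limits.pullback.fst p g x) := by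
      rw [← Scheme.Hom.comp_apply, ← Scheme.Hom.comp_apply, Limits.pullback.condition]
    obtain ⟨W, hW, hxW, hWR⟩ := exists_isAffineOpen_mem_and_subset (X := S')
      (x := Limits.pullback.snd p g x) (U := g ⁻¹ᵁ R)
      (show g (Limits.pullback.snd p g x) ∈ R by rw [hsnd]; exact hxR)
    let A := Γ(S, R)
    let B := Γ(X, U)
    let A' := Γ(S', W)
    letI : Algebra A B := (p.appLE R U hUR).hom.toAlgebra
    letI : Algebra A A' := (g.appLE R W hWR).hom.toAlgebra
    haveI : IsNoetherianRing B := IsLocallyNoetherian.component_noetherian ⟨U, hU⟩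
    let c : Groth.Agent.SchDom.Chart p g A B A' :=
      { uA := hR.fromSpec, uB := hU.fromSpec, uA' := hW.fromSpec
        openA := inferInstance, openB := inferInstance, openA' := inferInstance
        wB := hR.SpecMap_appLE_fromSpec p hU hUR
        wA' := hR.SpecMap_appLE_fromSpec g hW hWR }
    let J := Σ i, {Q : (Z i).Opens // IsAffineOpen Q ∧ ∀ z ∈ Q, f i z ∈ Set.range c.uB}
    choose φ hφ using fun j : J => c.exists_piece (f j.1) j.2.2.1 j.2.2.2
    letI algB : ∀ j : J, Algebra B Γ(Z j.1, j.2.1) := fun j => (φ j).hom.toAlgebra
    letI algA : ∀ j : J, Algebra A Γ(Z j.1, j.2.1) := fun j => ((φ j).hom.comp (algebraMap A B)).toAlgebra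
    haveI : ∀ j : J, IsScalarTower A B Γ(Z j.1, j.2.1) := fun j =>
      IsScalarTower.of_algebraMap_eq fun _ => rfl
    haveI : ∀ j : J, Module.Flat A Γ(Z j.1, j.2.1) := fun j => c.flat_piece (f j.1) j.2.2.1 (φ j) (hφ j)
    have hsep : Groth.Agent.SchDom.FibSep (A := A) (B := B) (fun j : J => Γ(Z j.1, j.2.1)) := by
      intro q _ h₀ m₀ hm₀
      let s : S := hR.fromSpec ⟨q, inferInstance⟩
      let K := S.residueField s
      have hrange : Set.range (S.fromSpecResidueField s) ⊆ Set.range hR.fromSpec := by
        rw [Scheme.range_fromSpecResidueField]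
        exact Set.singleton_subset_iff.2 ⟨_, rfl⟩
      let ψ : A ⟶ K := Spec.preimage (IsOpenImmersion.lift hR.fromSpec (S.fromSpecResidueField s) hrange)
      letI : Algebra A K := ψ.hom.toAlgebra
      let cs : Groth.Agent.SchDom.Chart p (S.fromSpecResidueField s) A B K :=
        { uA := hR.fromSpec, uB := hU.fromSpec, uA' := 𝟙 _
          openA := inferInstance, openB := inferInstance, openA' := inferInstance
          wB := hR.SpecMap_appLE_fromSpec p hU hUR
          wA' := by
            show Spec.map ψ ≫ hR.fromSpec = _
            rw [Category.id_comp, Spec.map_preimage, IsOpenImmersion.lift_fac] }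
      have hker : RingHom.ker (algebraMap A K) = q := by
        have h1 : Spec.map ψ (IsLocalRing.closedPoint K) = (⟨q, inferInstance⟩ : PrimeSpectrum A) := by
          apply hR.fromSpec.isOpenEmbedding.injective
          show hR.fromSpec (Spec.map ψ _) = s
          rw [← Scheme.Hom.comp_apply, Spec.map_preimage, IsOpenImmersion.lift_fac]
          exact Scheme.fromSpecResidueField_apply s _
        have h2 := congrArg PrimeSpectrum.asIdeal h1
        refine Eq.trans ?_ h2
        ext a
        exact Iff.intro (fun ha => by
            show ψ a ∈ IsLocalRing.maximalIdeal K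
            rw [show ψ a = 0 from ha]; exact zero_mem _)
          (fun ha => by
            have ha' : ψ a ∈ IsLocalRing.maximalIdeal K := ha
            rw [IsLocalRing.maximalIdeal_eq_bot, Ideal.mem_bot] at ha'
            exact ha')
      let kK : q.ResidueField →ₐ[A] K := Ideal.ResidueField.liftₐ q (Algebra.ofId A K) hker.ge
        fun a ha => IsUnit.mk0 _ fun h0 => ha (hker.le h0)
      letI : Algebra q.ResidueField K := kK.toRingHom.toAlgebra
      haveI : IsScalarTower A q.ResidueField K := IsScalarTower.of_algebraMap_eq fun a => (kK.commutes a).symm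
      let incl : TensorProduct A q.ResidueField B →ₐ[A] TensorProduct A B K :=
        (Algebra.TensorProduct.comm A K B).toAlgHom.comp (Algebra.TensorProduct.map kK (AlgHom.id A B))
      have hinj : Function.Injective incl := by
        refine (Algebra.TensorProduct.comm A K B).injective.comp ?_
        have key : ∀ z, Algebra.TensorProduct.map kK (AlgHom.id A B) z =
            Algebra.TensorProduct.cancelBaseChange A q.ResidueField q.ResidueField K B
              ((1 : K) ⊗ₜ[q.ResidueField] z) := by
          intro z
          induction z using TensorProduct.induction_on with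
          | zero => simp
          | add a b ha hb => simp only [map_add, TensorProduct.tmul_add, ha, hb]
          | tmul a b => simp [Algebra.smul_def]; rfl
        intro a b hab
        replace hab : Algebra.TensorProduct.map kK (AlgHom.id A B) a =
            Algebra.TensorProduct.map kK (AlgHom.id A B) b := hab
        rw [key, key] at hab
        exact Algebra.TensorProduct.includeRight_injective (R := q.ResidueField) (A := K)
          (algebraMap q.ResidueField K).injective
          ((Algebra.TensorProduct.cancelBaseChange A q.ResidueField q.ResidueField K B).injective hab)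
      obtain ⟨l, hl⟩ := cs.sep_of_dom (f := f) (by
        intro V' t' ht'
        refine h s V' t' fun i => ?_
        rw [hfib]
        exact ht' i) (incl h₀) (incl m₀) fun i Q hQ hQU φ' hφ' => by
        obtain ⟨l, hl⟩ := hm₀ ⟨i, Q, hQ, hQU⟩
        have he : φ' = φ ⟨i, Q, hQ, hQU⟩ := by
          have h1 : Spec.map φ' ≫ hU.fromSpec = Spec.map (φ ⟨i, Q, hQ, hQU⟩) ≫ hU.fromSpec :=
            hφ'.symm.trans (hφ ⟨i, Q, hQ, hQU⟩)
          exact Spec.map_injective ((cancel_mono hU.fromSpec).1 h1)
        subst he
        letI : Algebra B Γ(Z i, Q) := algB ⟨i, Q, hQ, hQU⟩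
        letI : Algebra A Γ(Z i, Q) := algA ⟨i, Q, hQ, hQU⟩
        haveI : IsScalarTower A B Γ(Z i, Q) := IsScalarTower.of_algebraMap_eq fun _ => rfl
        refine ⟨l, ?_⟩
        have key : ∀ z, Groth.Agent.SchDom.Chart.mapAlg A B Γ(Z i, Q) K (incl z) =
            Algebra.TensorProduct.comm A K Γ(Z i, Q)
              (Algebra.TensorProduct.map kK (AlgHom.id A Γ(Z i, Q))
                (Groth.Agent.SchDom.toMemberAlg (fun j : J => Γ(Z j.1, j.2.1)) q.ResidueField
                  ⟨i, Q, hQ, hQU⟩ z)) := by
          intro z
          induction z using TensorProduct.induction_on with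
          | zero => simp
          | add a b ha hb => simp only [map_add, ha, hb]
          | tmul a b => simp [incl]
        rw [← map_pow, ← map_mul, key, hl, map_zero, map_zero]
      exact ⟨l, hinj (by rw [map_mul, map_pow, hl, map_zero])⟩
    refine c.exists_nhd_eq_zero (f := f) (idx := fun j : J => j.1) (fun j : J => Γ(Z j.1, j.2.1))
      (fun j => j.2.2.1.fromSpec) hφ (fun h₀ m₀ hm₀ => ?_) t ht x hx ?_
    · let σ := Algebra.TensorProduct.comm A B A'
      obtain ⟨l, hl⟩ := hsep.exists_pow_mul_eq_zero A' (σ h₀) (σ m₀) fun j => by
        obtain ⟨l, hl⟩ := hm₀ j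
        refine ⟨l, ?_⟩
        have key : ∀ z, Groth.Agent.SchDom.toMemberAlg (fun j : J => Γ(Z j.1, j.2.1)) A' j (σ z) =
            Algebra.TensorProduct.comm A Γ(Z j.1, j.2.1) A'
              (Groth.Agent.SchDom.Chart.mapAlg A B Γ(Z j.1, j.2.1) A' z) := by
          intro z
          induction z using TensorProduct.induction_on with
          | zero => simp
          | add a b ha hb => simp only [map_add, ha, hb]
          | tmul a b => simp [σ]
        rw [← map_pow, ← map_mul, key, hl, map_zero]
      exact ⟨l, σ.injective (by rw [map_mul, map_pow, hl, map_zero])⟩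
    · rw [c.range_j]
      exact ⟨hU.range_fromSpec.symm.subset hxU, hW.range_fromSpec.symm.subset hxW⟩

end Groth.Agent.S4876
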