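import Groth.Statements.S4877
import Groth.Agent.Lib.SchDom.Basic
import Mathlib.RingTheory.Localization.Away.AdjoinRoot
import Mathlib.AlgebraicGeometry.PullbackCarrier
import Mathlib.RingTheory.Adjoin.FG

set_option autoImplicit false
universe u
open CategoryTheory AlgebraicGeometry
open EGA43

namespace Groth.Agent.S4877

open TensorProduct in
/-- The algebraic core. -/
theorem core {k A B : Type u} [Field k] [CommRing A] [Algebra k A] [CommRing B] [Algebra k B]
    {J : Type u} (C : J → Type u) [∀ j, CommRing (C j)] [∀ j, Algebra A (C j)] [∀ j, Algebra k (C j)]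
    [∀ j, IsScalarTower k A (C j)]
    (hsep : ∀ a n : A, (∀ j, ∃ l : ℕ, algebraMap A (C j) (a ^ l * n) = 0) → ∃ l : ℕ, a ^ l * n = 0)
    (h m : A ⊗[k] B) (hC : ∀ j, ∃ l : ℕ,
      (Algebra.TensorProduct.map (IsScalarTower.toAlgHom k A (C j)) (AlgHom.id k B)) (h ^ l * m) = 0) :
    ∃ l : ℕ, h ^ l * m = 0 := by
  classical
  obtain ⟨Th, hTh⟩ := TensorProduct.exists_finset (R := k) h
  obtain ⟨Tm, hTm⟩ := TensorProduct.exists_finset (R := k) m
  let G : Finset B := Th.image Prod.snd ∪ Tm.image Prod.snd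
  let B₀ : Subalgebra k B := Algebra.adjoin k (G : Set B)
  haveI : Algebra.FiniteType k B₀ := B₀.fg_iff_finiteType.1 (Subalgebra.fg_adjoin_finset G)
  haveI : Algebra.FinitePresentation k B₀ := Algebra.FinitePresentation.of_finiteType.1 inferInstance
  let ι₀ : A ⊗[k] B₀ →ₐ[k] A ⊗[k] B := Algebra.TensorProduct.map (AlgHom.id k A) B₀.val
  have hlift : ∀ (T : Finset (A × B)), T.image Prod.snd ⊆ G →
      ∃ z, ι₀ z = ∑ i ∈ T, i.1 ⊗ₜ[k] i.2 := by
    intro T hT
    refine ⟨∑ i ∈ T.attach, i.1.1 ⊗ₜ[k] (⟨i.1.2, Algebra.subset_adjoin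
      (hT (Finset.mem_image_of_mem _ i.2))⟩ : B₀), ?_⟩
    rw [map_sum, ← Finset.sum_attach T (fun i => i.1 ⊗ₜ[k] i.2)]
    exact Finset.sum_congr rfl fun i _ => by simp [ι₀]
  obtain ⟨h₀, hh₀⟩ := hlift Th Finset.subset_union_left
  obtain ⟨m₀, hm₀⟩ := hlift Tm Finset.subset_union_right
  rw [← hTh] at hh₀
  rw [← hTm] at hm₀
  let L := Localization.Away h₀
  haveI : Algebra.FinitePresentation (A ⊗[k] B₀) L := IsLocalization.Away.finitePresentation h₀
  haveI : Algebra.FinitePresentation A L := Algebra.FinitePresentation.trans A (A ⊗[k] B₀) L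
  haveI : Module.Flat (A ⊗[k] B₀) L := IsLocalization.flat L (Submonoid.powers h₀)
  haveI : Module.Flat A L := Module.Flat.trans A (A ⊗[k] B₀) L
  have hzero : algebraMap (A ⊗[k] B₀) L m₀ = 0 := by
    refine Groth.Agent.SchDom.eq_zero_of_flat_fp C hsep _ fun j => ?_
    obtain ⟨l, hl⟩ := hC j
    let χ : C j ⊗[k] B₀ →ₐ[k] C j ⊗[A] L :=
      Algebra.TensorProduct.lift (IsScalarTower.toAlgHom k (C j) (C j ⊗[A] L))
        (((Algebra.TensorProduct.includeRight : L →ₐ[A] C j ⊗[A] L).restrictScalars k).comp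
          ((IsScalarTower.toAlgHom k (A ⊗[k] B₀) L).comp Algebra.TensorProduct.includeRight))
        fun _ _ => mul_comm (G := C j ⊗[A] L) _ _
    let πC : A ⊗[k] B₀ →ₐ[k] C j ⊗[k] B₀ :=
      Algebra.TensorProduct.map (IsScalarTower.toAlgHom k A (C j)) (AlgHom.id k B₀)
    have hinj : Function.Injective (Algebra.TensorProduct.map (AlgHom.id k (C j)) B₀.val) :=
      Module.Flat.lTensor_preserves_injective_linearMap B₀.val.toLinearMap Subtype.val_injective
    have hnat : ∀ z, Algebra.TensorProduct.map (AlgHom.id k (C j)) B₀.val (πC z) =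
        Algebra.TensorProduct.map (IsScalarTower.toAlgHom k A (C j)) (AlgHom.id k B) (ι₀ z) := by
      intro z
      induction z using TensorProduct.induction_on with
      | zero => simp
      | add a b ha hb => simp only [map_add, ha, hb]
      | tmul a b => simp [πC, ι₀]
    have h1 : πC (h₀ ^ l * m₀) = 0 := hinj (by
      rw [hnat, map_zero, map_mul, map_pow, hh₀, hm₀]; exact hl)
    have hχ : ∀ z, χ (πC z) = (1 : C j) ⊗ₜ[A] algebraMap (A ⊗[k] B₀) L z := by
      intro z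
      induction z using TensorProduct.induction_on with
      | zero => simp
      | add a b ha hb => simp only [map_add, tmul_add, ha, hb]
      | tmul a b =>
        have e1 : χ (πC (a ⊗ₜ[k] b)) = (algebraMap A (C j) a ⊗ₜ[A] (1 : L)) *
            ((1 : C j) ⊗ₜ[A] algebraMap (A ⊗[k] B₀) L ((1 : A) ⊗ₜ[k] b)) := by
          simp [πC, χ, Algebra.TensorProduct.algebraMap_apply]
        rw [e1, Algebra.TensorProduct.tmul_mul_tmul, mul_one, one_mul, Algebra.algebraMap_eq_smul_one,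
          TensorProduct.smul_tmul, Algebra.smul_def, IsScalarTower.algebraMap_apply A (A ⊗[k] B₀) L,
          ← map_mul]
        simp [Algebra.TensorProduct.algebraMap_apply, Algebra.TensorProduct.tmul_mul_tmul]
    have h2 : (1 : C j) ⊗ₜ[A] algebraMap (A ⊗[k] B₀) L (h₀ ^ l * m₀) = 0 := by rw [← hχ, h1, map_zero]
    obtain ⟨v, hv⟩ := (IsLocalization.Away.algebraMap_isUnit (S := L) h₀).pow l
    have h3 : algebraMap (A ⊗[k] B₀) L m₀ = (↑v⁻¹ : L) * algebraMap (A ⊗[k] B₀) L (h₀ ^ l * m₀) := by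
      rw [map_mul, map_pow, ← hv, Units.inv_mul_cancel_left]
    rw [h3, ← one_mul (1 : C j), ← Algebra.TensorProduct.tmul_mul_tmul, h2, mul_zero]
  obtain ⟨⟨_, r, rfl⟩, hr⟩ := (IsLocalization.map_eq_zero_iff (Submonoid.powers h₀) L m₀).1 hzero
  exact ⟨r, by rw [← hh₀, ← hm₀, ← map_pow, ← map_mul]; exact (congrArg ι₀ hr).trans (map_zero _)⟩


open CategoryTheory Limits in
/-- Vanishing of the pulled back global section. -/
theorem apply_eq_zero {P Q : Scheme.{u}} {L C : CommRingCat.{u}} (jh : Spec L ⟶ P) (r : L ⟶ C)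
    {V : P.Opens} (t : Γ(P, V)) (htop : (⊤ : (Spec L).Opens) ≤ jh ⁻¹ᵁ V) {w : Spec C ⟶ Q} {m : Q ⟶ P}
    (hv : Spec.map r ≫ jh = w ≫ m) (hm : m.app V t = 0) :
    r ((Scheme.ΓSpecIso L).hom (jh.appLE V ⊤ htop t)) = 0 := by
  have key : ∀ (v : Spec C ⟶ P) (_ : v = w ≫ m) (e : ⊤ ≤ v ⁻¹ᵁ V), v.appLE V ⊤ e t = 0 := by
    rintro _ rfl e
    exact Groth.Agent.SchDom.appLE_comp_eq_zero _ _ _ t hm
  have e : (⊤ : (Spec C).Opens) ≤ (Spec.map r ≫ jh) ⁻¹ᵁ V := fun z _ => htop (x := Spec.map r z) trivial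
  have hvan := key _ hv e
  rw [← Scheme.Hom.appLE_comp_appLE (Spec.map r) jh V ⊤ ⊤ htop le_top, CommRingCat.comp_apply] at hvan
  apply (ConcreteCategory.bijective_of_isIso (Scheme.ΓSpecIso C).inv).1
  rw [← CommRingCat.comp_apply r, Scheme.ΓSpecIso_inv_naturality, CommRingCat.comp_apply,
    Iso.hom_inv_id_apply, map_zero]
  simpa [Scheme.Hom.appLE, Scheme.Hom.appTop] using hvan

open CategoryTheory Limits in
/-- Factorization of a map of spectra through the base changed family. -/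
theorem eq_lift_map {X S' K Z : Scheme.{u}} {p : X ⟶ K} {q : S' ⟶ K} {f : Z ⟶ X}
    {A B T L C : CommRingCat.{u}} (j : Spec T ⟶ pullback p q) (l : T ⟶ L) (r : L ⟶ C)
    {iA : A ⟶ T} {iB : B ⟶ T} {uA : Spec A ⟶ X} {uB : Spec B ⟶ S'}
    (hfst : j ≫ pullback.fst p q = Spec.map iA ≫ uA) (hsnd : j ≫ pullback.snd p q = Spec.map iB ≫ uB)
    {cA : A ⟶ C} {cB : B ⟶ C} (hl : cA = iA ≫ l ≫ r) (hr : cB = iB ≫ l ≫ r)
    {a : Spec C ⟶ Z} (ha : a ≫ f = Spec.map cA ≫ uA) {hc : a ≫ f ≫ p = (Spec.map cB ≫ uB) ≫ q} :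
    Spec.map r ≫ Spec.map l ≫ j =
      pullback.lift (f := f ≫ p) (g := q) a (Spec.map cB ≫ uB) hc ≫ pullback.map (f ≫ p) q p q f (𝟙 S')
        (𝟙 K) (Category.comp_id _) ((Category.comp_id _).trans (Category.id_comp _).symm) := by
  apply pullback.hom_ext
  · rw [Category.assoc, Category.assoc, hfst, Category.assoc, pullback.lift_fst, pullback.lift_fst_assoc,
      ha, hl, Spec.map_comp, Spec.map_comp, Category.assoc, Category.assoc]
  · rw [Category.assoc, Category.assoc, hsnd, Category.assoc, pullback.lift_snd, Category.comp_id,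
      pullback.lift_snd, hr, Spec.map_comp, Spec.map_comp, Category.assoc, Category.assoc]

/-- Let k be a field, X a k-scheme, (f_i : Z_i ⟶ X) a schematically dominant family of morphisms and S'
an arbitrary k-scheme. Then the family of base changes Z_i ×_k S' ⟶ X ×_k S' is schematically
dominant. (Schematically dominant: a section of the structure sheaf over an open whose pullback
along every member vanishes is zero.) -/
theorem result {k : Type u} [Field k] {X S' : Scheme.{u}}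
    (p : X ⟶ Spec (CommRingCat.of k)) (q : S' ⟶ Spec (CommRingCat.of k))
    {ι : Type u} (Z : ι → Scheme.{u}) (f : ∀ i, Z i ⟶ X)
    (h : (∀ (V : (X).Opens) (t : Γ(X, V)), (∀ i, (f i).app V t = 0) → t = 0)) :
    (∀ (V : (Limits.pullback p q).Opens) (t : Γ(Limits.pullback p q, V)), (∀ i, (Limits.pullback.map (f i ≫ p) q p q (f i) (𝟙 S') (𝟙 _) (Category.comp_id _) ((Category.comp_id _).trans (Category.id_comp _).symm)).app V t = 0) → t = 0) := by
  intro V t ht
  refine Groth.Agent.SchDom.eq_zero_of_locally t fun x hx => ?_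
  classical
  obtain ⟨U, hU, hxU, -⟩ := exists_isAffineOpen_mem_and_subset (X := X)
    (x := Limits.pullback.fst p q x) (U := ⊤) trivial
  obtain ⟨W, hW, hxW, -⟩ := exists_isAffineOpen_mem_and_subset (X := S')
    (x := Limits.pullback.snd p q x) (U := ⊤) trivial
  let αA : CommRingCat.of k ⟶ Γ(X, U) := Spec.preimage (hU.fromSpec ≫ p)
  let αB : CommRingCat.of k ⟶ Γ(S', W) := Spec.preimage (hW.fromSpec ≫ q)
  letI : Algebra k Γ(X, U) := αA.hom.toAlgebra
  letI : Algebra k Γ(S', W) := αB.hom.toAlgebra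
  let T := TensorProduct k Γ(X, U) Γ(S', W)
  let jm : Limits.pullback (Spec.map (CommRingCat.ofHom (algebraMap k Γ(X, U))))
      (Spec.map (CommRingCat.ofHom (algebraMap k Γ(S', W)))) ⟶ Limits.pullback p q :=
    Limits.pullback.map _ _ p q hU.fromSpec hW.fromSpec (𝟙 _)
      ((Category.comp_id _).trans (Spec.map_preimage _)) ((Category.comp_id _).trans (Spec.map_preimage _))
  let j : Spec (CommRingCat.of T) ⟶ Limits.pullback p q :=
    (pullbackSpecIso k Γ(X, U) Γ(S', W)).inv ≫ jm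
  obtain ⟨y, hy⟩ : x ∈ Set.range j := by
    have hz0 : x ∈ Set.range jm := by
      rw [Scheme.Pullback.range_map, hU.range_fromSpec, hW.range_fromSpec]
      exact ⟨hxU, hxW⟩
    obtain ⟨z, hz⟩ := hz0
    refine ⟨(pullbackSpecIso k Γ(X, U) Γ(S', W)).hom z, ?_⟩
    show jm ((pullbackSpecIso k Γ(X, U) Γ(S', W)).inv ((pullbackSpecIso k Γ(X, U) Γ(S', W)).hom z)) = x
    rw [← Scheme.Hom.comp_apply (pullbackSpecIso k Γ(X, U) Γ(S', W)).hom, Iso.hom_inv_id]
    exact hz
  obtain ⟨_, ⟨_, ⟨h, rfl⟩, rfl⟩, hyh, hhV⟩ :=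
    PrimeSpectrum.isBasis_basic_opens.exists_subset_of_mem_open
      (show y ∈ j ⁻¹' (V : Set _) by show j y ∈ V; rw [hy]; exact hx) (V.2.preimage j.continuous)
  let L := Localization.Away h
  let jh : Spec (CommRingCat.of L) ⟶ Limits.pullback p q :=
    Spec.map (CommRingCat.ofHom (algebraMap T L)) ≫ j
  have hrange : ∀ z, jh z ∈ V := fun z => by
    have : Spec.map (CommRingCat.ofHom (algebraMap T L)) z ∈
        Set.range (PrimeSpectrum.comap (algebraMap T L)) := ⟨z, rfl⟩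
    rw [PrimeSpectrum.localization_away_comap_range L h] at this
    exact hhV this
  have hxjh : x ∈ jh.opensRange := by
    have : y ∈ Set.range (PrimeSpectrum.comap (algebraMap T L)) := by
      rw [PrimeSpectrum.localization_away_comap_range L h]; exact hyh
    obtain ⟨z, hz⟩ := this
    exact ⟨z, by rw [← hy, ← hz]; rfl⟩
  have hle : jh.opensRange ≤ V := by rintro _ ⟨z, rfl⟩; exact hrange z
  have hpre : jh ⁻¹ᵁ jh.opensRange = ⊤ := top_le_iff.1 fun z _ => ⟨z, rfl⟩
  refine ⟨jh.opensRange, hle, hxjh, ?_⟩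
  have htop : (⊤ : (Spec (CommRingCat.of L)).Opens) ≤ jh ⁻¹ᵁ V := fun z _ => hrange z
  -- it suffices that the pullback to `Spec L` vanishes
  suffices hzero : jh.appLE V ⊤ htop t = 0 by
    haveI := jh.isIso_app jh.opensRange le_rfl
    have hinj : Function.Injective (jh.appLE jh.opensRange ⊤ hpre.ge) := by
      have : IsIso (jh.appLE jh.opensRange ⊤ hpre.ge) := by
        rw [Scheme.Hom.appLE,
          show (homOfLE hpre.ge : (⊤ : (Spec (CommRingCat.of L)).Opens) ⟶ _) = eqToHom hpre.symm from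
            Subsingleton.elim _ _]
        infer_instance
      exact (ConcreteCategory.bijective_of_isIso _).1
    apply hinj
    rw [map_zero, ← CommRingCat.comp_apply, Scheme.Hom.map_appLE]
    exact hzero
  let s : L := (Scheme.ΓSpecIso (CommRingCat.of L)).hom (jh.appLE V ⊤ htop t)
  suffices hs : s = 0 by
    apply (ConcreteCategory.bijective_of_isIso (Scheme.ΓSpecIso (CommRingCat.of L)).hom).1
    rw [map_zero]; exact hs
  obtain ⟨⟨m, ⟨_, n, rfl⟩⟩, hsm⟩ := IsLocalization.surj (Submonoid.powers h) s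
  have hu : IsUnit (algebraMap T L h) := IsLocalization.Away.algebraMap_isUnit h
  suffices hm : ∃ l : ℕ, h ^ l * m = 0 by
    obtain ⟨l, hl⟩ := hm
    have h1 : algebraMap T L m = 0 := by
      refine (hu.pow l).mul_right_eq_zero.1 ?_
      rw [← map_pow, ← map_mul, hl, map_zero]
    rw [h1, map_pow] at hsm
    exact (hu.pow n).mul_left_eq_zero.1 hsm
  let J := Σ i, {Q : (Z i).Opens // IsAffineOpen Q ∧ Q ≤ (f i) ⁻¹ᵁ U}
  letI algA : ∀ jj : J, Algebra Γ(X, U) Γ(Z jj.1, jj.2.1) := fun jj =>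
    ((f jj.1).appLE U jj.2.1 jj.2.2.2).hom.toAlgebra
  letI algk : ∀ jj : J, Algebra k Γ(Z jj.1, jj.2.1) := fun jj =>
    (((f jj.1).appLE U jj.2.1 jj.2.2.2).hom.comp αA.hom).toAlgebra
  haveI : ∀ jj : J, IsScalarTower k Γ(X, U) Γ(Z jj.1, jj.2.1) := fun jj =>
    IsScalarTower.of_algebraMap_eq fun _ => rfl
  refine core (fun jj : J => Γ(Z jj.1, jj.2.1))
    (fun a b hb => Groth.Agent.SchDom.Dom.sep (f := f) ‹∀ (V : X.Opens) (t : Γ(X, V)), (∀ i, (f i).app V t = 0) → t = 0› hU a b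
      fun i Q e hQ => hb ⟨i, Q, hQ, e⟩) h m fun jj => ?_
  let π := Algebra.TensorProduct.map (IsScalarTower.toAlgHom k Γ(X, U) Γ(Z jj.1, jj.2.1))
    (AlgHom.id k Γ(S', W))
  let TC := TensorProduct k Γ(Z jj.1, jj.2.1) Γ(S', W)
  let LC := Localization.Away (π h)
  let ρ : L →+* LC := IsLocalization.Away.lift h
    (g := (algebraMap TC LC).comp π.toRingHom) (IsLocalization.Away.algebraMap_isUnit (π h))
  let cC : Γ(Z jj.1, jj.2.1) ⟶ CommRingCat.of LC :=
    CommRingCat.ofHom ((algebraMap TC LC).comp (Algebra.TensorProduct.includeLeftRingHom))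
  let cB : Γ(S', W) ⟶ CommRingCat.of LC :=
    CommRingCat.ofHom ((algebraMap TC LC).comp (Algebra.TensorProduct.includeRight.toRingHom))
  let a : Spec (CommRingCat.of LC) ⟶ Z jj.1 := Spec.map cC ≫ jj.2.2.1.fromSpec
  let b : Spec (CommRingCat.of LC) ⟶ S' := Spec.map cB ≫ hW.fromSpec
  have hρl : (f jj.1).appLE U jj.2.1 jj.2.2.2 ≫ cC =
      CommRingCat.ofHom Algebra.TensorProduct.includeLeftRingHom ≫
        CommRingCat.ofHom (algebraMap T L) ≫ CommRingCat.ofHom ρ := by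
    refine CommRingCat.hom_ext (RingHom.ext fun z => ?_)
    show algebraMap TC LC ((algebraMap Γ(X, U) Γ(Z jj.1, jj.2.1) z) ⊗ₜ[k] 1) = ρ (algebraMap T L (z ⊗ₜ[k] 1))
    rw [IsLocalization.Away.lift_eq]
    show _ = algebraMap TC LC (Algebra.TensorProduct.map _ _ (_ ⊗ₜ[k] _))
    rw [Algebra.TensorProduct.map_tmul, map_one]
    rfl
  have hρr : cB = CommRingCat.ofHom Algebra.TensorProduct.includeRight.toRingHom ≫
      CommRingCat.ofHom (algebraMap T L) ≫ CommRingCat.ofHom ρ := by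
    refine CommRingCat.hom_ext (RingHom.ext fun z => ?_)
    show algebraMap TC LC (1 ⊗ₜ[k] z) = ρ (algebraMap T L (1 ⊗ₜ[k] z))
    rw [IsLocalization.Away.lift_eq]
    show _ = algebraMap TC LC (Algebra.TensorProduct.map _ _ (_ ⊗ₜ[k] _))
    rw [Algebra.TensorProduct.map_tmul, map_one]
    rfl
  have haU : a ≫ f jj.1 = Spec.map ((f jj.1).appLE U jj.2.1 jj.2.2.2 ≫ cC) ≫ hU.fromSpec := by
    show (Spec.map cC ≫ jj.2.2.1.fromSpec) ≫ f jj.1 = _
    rw [Category.assoc, ← hU.SpecMap_appLE_fromSpec (f jj.1) jj.2.2.1 jj.2.2.2, ← Category.assoc,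
      ← Spec.map_comp]
  have hαA : hU.fromSpec ≫ p = Spec.map αA := (Spec.map_preimage _).symm
  have hαB : hW.fromSpec ≫ q = Spec.map αB := (Spec.map_preimage _).symm
  have hring : αA ≫ ((f jj.1).appLE U jj.2.1 jj.2.2.2 ≫ cC) = αB ≫ cB := by
    refine CommRingCat.hom_ext (RingHom.ext fun z => ?_)
    show algebraMap TC LC ((algebraMap k Γ(Z jj.1, jj.2.1) z) ⊗ₜ[k] 1) =
      algebraMap TC LC (1 ⊗ₜ[k] (algebraMap k Γ(S', W) z))
    refine congrArg (algebraMap TC LC) ?_
    rw [Algebra.algebraMap_eq_smul_one, Algebra.algebraMap_eq_smul_one, TensorProduct.smul_tmul]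
  have hcond : a ≫ f jj.1 ≫ p = b ≫ q := by
    have e1 : b ≫ q = Spec.map cB ≫ hW.fromSpec ≫ q := Category.assoc _ _ _
    calc a ≫ f jj.1 ≫ p = (a ≫ f jj.1) ≫ p := (Category.assoc _ _ _).symm
      _ = (Spec.map ((f jj.1).appLE U jj.2.1 jj.2.2.2 ≫ cC) ≫ hU.fromSpec) ≫ p :=
        congrArg (· ≫ p) haU
      _ = Spec.map ((f jj.1).appLE U jj.2.1 jj.2.2.2 ≫ cC) ≫ hU.fromSpec ≫ p := Category.assoc _ _ _
      _ = Spec.map ((f jj.1).appLE U jj.2.1 jj.2.2.2 ≫ cC) ≫ Spec.map αA := congrArg (_ ≫ ·) hαA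
      _ = Spec.map (αA ≫ (f jj.1).appLE U jj.2.1 jj.2.2.2 ≫ cC) := (Spec.map_comp _ _).symm
      _ = Spec.map (αB ≫ cB) := congrArg Spec.map hring
      _ = Spec.map cB ≫ Spec.map αB := Spec.map_comp _ _
      _ = Spec.map cB ≫ hW.fromSpec ≫ q := congrArg (_ ≫ ·) hαB.symm
      _ = b ≫ q := e1.symm
  let jC := Limits.pullback.lift (f := f jj.1 ≫ p) (g := q) a b hcond
  have hfst : j ≫ Limits.pullback.fst p q =
      Spec.map (CommRingCat.ofHom Algebra.TensorProduct.includeLeftRingHom) ≫ hU.fromSpec := by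
    simp only [j, jm, Category.assoc, Limits.pullback.lift_fst]
    rw [pullbackSpecIso_inv_fst_assoc]
  have hsnd : j ≫ Limits.pullback.snd p q =
      Spec.map (CommRingCat.ofHom Algebra.TensorProduct.includeRight.toRingHom) ≫ hW.fromSpec := by
    simp only [j, jm, Category.assoc, Limits.pullback.lift_snd]
    rw [pullbackSpecIso_inv_snd_assoc]; rfl
  have hfac : Spec.map (CommRingCat.ofHom ρ) ≫ jh = jC ≫ Limits.pullback.map (f jj.1 ≫ p) q p q (f jj.1) (𝟙 S')
      (𝟙 _) (Category.comp_id _) ((Category.comp_id _).trans (Category.id_comp _).symm) := by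
    exact eq_lift_map _ _ _ hfst hsnd hρl hρr haU
  have hs' : ρ s = 0 :=
    apply_eq_zero jh (CommRingCat.ofHom ρ) t htop hfac (ht jj.1)
  have hm0 : algebraMap TC LC (π m) = 0 := by
    have h2 := congrArg ρ hsm
    rw [map_mul, hs', zero_mul, IsLocalization.Away.lift_eq] at h2
    exact h2.symm
  obtain ⟨⟨_, l, rfl⟩, hl⟩ := (IsLocalization.map_eq_zero_iff (Submonoid.powers (π h)) LC (π m)).1 hm0
  exact ⟨l, by rw [map_mul, map_pow]; exact hl⟩

end Groth.Agent.S4877
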