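import Groth.Statements.S4878
import Mathlib.LinearAlgebra.DirectSum.Finsupp

set_option autoImplicit false
universe u
open TensorProduct
open EGA43

namespace Groth.Agent.S4878

/-- Let A be a commutative ring, (u_i : M → M_i) a family of A-linear maps whose kernels have zero
intersection, and N a projective A-module. Then the kernels of the maps u_i ⊗ 1 : M ⊗_A N → M_i ⊗_A
N have zero intersection. -/
theorem result {A : Type u} [CommRing A]
    {M : Type u} [AddCommGroup M] [Module A M] {ι : Type u} (M' : ι → Type u)
    [∀ i, AddCommGroup (M' i)] [∀ i, Module A (M' i)] (u : ∀ i, M →ₗ[A] M' i)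
    (hu : ⨅ i, LinearMap.ker (u i) = ⊥)
    (N : Type u) [AddCommGroup N] [Module A N] [Module.Projective A N] :
    ⨅ i, LinearMap.ker ((u i).rTensor N) = ⊥ := by
  classical
  obtain ⟨s, hs⟩ := Module.projective_def.1 (inferInstance : Module.Projective A N)
  rw [eq_bot_iff]
  intro x hx
  have h0 : ∀ i, (u i).rTensor N x = 0 := fun i => LinearMap.mem_ker.1 ((Submodule.mem_iInf _).1 hx i)
  let φ : M ⊗[A] N →ₗ[A] (N →₀ M) := (TensorProduct.finsuppScalarRight A A M N).toLinearMap ∘ₗ s.lTensor M
  have hinj : Function.Injective φ := by
    refine (TensorProduct.finsuppScalarRight A A M N).injective.comp ?_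
    have h1 : (Finsupp.linearCombination A id).lTensor M ∘ₗ s.lTensor M = LinearMap.id := by
      rw [← LinearMap.lTensor_comp]
      rw [show Finsupp.linearCombination A id ∘ₗ s = LinearMap.id from LinearMap.ext hs, LinearMap.lTensor_id]
    exact Function.LeftInverse.injective (g := (Finsupp.linearCombination A id).lTensor M)
      fun z => LinearMap.congr_fun h1 z
  have hφ : φ x = 0 := by
    ext n
    have key : φ x n ∈ (⊥ : Submodule A M) := by
      rw [← hu, Submodule.mem_iInf]
      intro i
      rw [LinearMap.mem_ker]
      have hcomm : (u i).comp ((Finsupp.lapply n).comp φ) =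
          (Finsupp.lapply n).comp (((TensorProduct.finsuppScalarRight A A (M' i) N).toLinearMap ∘ₗ
            s.lTensor (M' i)).comp ((u i).rTensor N)) := by
        apply TensorProduct.ext'
        intro m y
        simp [φ]
      have := LinearMap.congr_fun hcomm x
      simp only [LinearMap.comp_apply] at this
      rw [h0 i, map_zero, map_zero, map_zero] at this
      exact this
    exact (Submodule.mem_bot A).1 key
  exact (Submodule.mem_bot A).2 (hinj (hφ.trans (map_zero φ).symm))

end Groth.Agent.S4878
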