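import Groth.Statements.S4879
import Groth.Agent.Lib.SchDom.FlatNZD
import Groth.Agent.Lib.SchDom.FibrePoint
import Groth.Agent.Lib.SchDom.ModPiece
import Groth.Agent.Lib.FlatH4.FlatLocal
import Groth.Agent.Lib.ModM1.Coh
import Mathlib.AlgebraicGeometry.Fiber

set_option autoImplicit false
universe u
open CategoryTheory AlgebraicGeometry
open EGA43

namespace Groth.Agent.S4879

open Groth.Agent

open CategoryTheory.Limits in
/-- Let f : X ⟶ S be locally of finite presentation, F a quasi-coherent f-flat O_X-module of finite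
presentation, U an open subset of X and u : F → j_*j^*F the canonical map (j : U → X), i.e. the
restriction maps Γ(V, F) → Γ(V ∩ U, F). Then u is universally injective relative to S (the analogous
maps for the pullback of F to X ×_S S' and the preimage of U are injective for every S' ⟶ S) if and
only if u_s is injective for every point s of S (the analogous maps for the pullback of F to the
fibre X_s and U_s = U ∩ X_s). -/
theorem result {X S : Scheme.{u}} (f : X ⟶ S)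
    [LocallyOfFinitePresentation f] (F : X.Modules) [Coh.IsQCoh F] (hF : CohB1.IsFP F)
    (hflat : FlatMod.IsFlatOver f F) (U : X.Opens) :
    (∀ (S' : Scheme.{u}) (g : S' ⟶ S) (V : (↑(pullback f g) : Scheme.{u}).Opens),
      Function.Injective (((Scheme.Modules.pullback (pullback.fst f g)).obj F).presheaf.map
        (homOfLE (inf_le_left : V ⊓ (pullback.fst f g) ⁻¹ᵁ U ≤ V)).op)) ↔
    ∀ (s : S) (V : (↑(f.fiber s) : Scheme.{u}).Opens),
      Function.Injective (((Scheme.Modules.pullback (f.fiberι s)).obj F).presheaf.map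
        (homOfLE (inf_le_left : V ⊓ (f.fiberι s) ⁻¹ᵁ U ≤ V)).op) := by
  constructor
  · intro h s
    exact h _ (S.fromSpecResidueField s)
  intro hd S' g V
  let gX := pullback.fst f g
  let F' := (Scheme.Modules.pullback gX).obj F
  rw [injective_iff_map_eq_zero]
  intro t ht
  refine M1.section_ext t 0 fun x hx => ?_
  rw [map_zero]
  have ht0 : ∀ (y : (↑(pullback f g) : Scheme.{u})) (hy : y ∈ V), gX y ∈ U →
      F'.presheaf.germ V y hy t = 0 := fun y hy hyU => by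
    rw [← M1.germ_mres F' (inf_le_left : V ⊓ gX ⁻¹ᵁ U ≤ V) (x := y) (show y ∈ V ⊓ gX ⁻¹ᵁ U from ⟨hy, hyU⟩) t]
    exact (congrArg (F'.presheaf.germ _ y (show y ∈ V ⊓ gX ⁻¹ᵁ U from ⟨hy, hyU⟩)) ht).trans (map_zero _)
  -- affine charts
  obtain ⟨R, hR, hxR, -⟩ := exists_isAffineOpen_mem_and_subset (X := S)
    (x := f (gX x)) (U := ⊤) trivial
  obtain ⟨U₁, hU₁, hxU, hUR'⟩ := exists_isAffineOpen_mem_and_subset (X := X)
    (x := gX x) (U := f ⁻¹ᵁ R) hxR
  have hUR : U₁ ≤ f ⁻¹ᵁ R := hUR'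
  have hsnd : g (pullback.snd f g x) = f (gX x) := by
    rw [← Scheme.Hom.comp_apply, ← Scheme.Hom.comp_apply, pullback.condition]
  obtain ⟨W, hW, hxW, hWR'⟩ := exists_isAffineOpen_mem_and_subset (X := S')
    (x := pullback.snd f g x) (U := g ⁻¹ᵁ R)
    (show g (pullback.snd f g x) ∈ R by rw [hsnd]; exact hxR)
  have hWR : W ≤ g ⁻¹ᵁ R := hWR'
  let H := IsPullback.of_hasPullback f g
  let W₁ : (↑(pullback f g) : Scheme.{u}).Opens := gX ⁻¹ᵁ U₁ ⊓ pullback.snd f g ⁻¹ᵁ W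
  have hW₁ : IsAffineOpen W₁ := FlatH4.isAffineOpen_of_isPullback H hWR hUR rfl hR hW hU₁
  have e : W₁ ≤ gX ⁻¹ᵁ U₁ := inf_le_left
  letI : Algebra Γ(S, R) Γ(X, U₁) := (f.appLE R U₁ hUR).hom.toAlgebra
  letI : Algebra Γ(S, R) Γ(S', W) := (g.appLE R W hWR).hom.toAlgebra
  letI : Algebra Γ(X, U₁) Γ(pullback f g, W₁) := (gX.appLE U₁ W₁ e).hom.toAlgebra
  letI : Algebra Γ(S', W) Γ(pullback f g, W₁) := ((pullback.snd f g).appLE W W₁ inf_le_right).hom.toAlgebra
  letI : Algebra Γ(S, R) Γ(pullback f g, W₁) :=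
    ((algebraMap Γ(X, U₁) Γ(pullback f g, W₁)).comp (algebraMap Γ(S, R) Γ(X, U₁))).toAlgebra
  haveI : IsScalarTower Γ(S, R) Γ(X, U₁) Γ(pullback f g, W₁) := IsScalarTower.of_algebraMap_eq fun _ => rfl
  haveI : IsScalarTower Γ(S, R) Γ(S', W) Γ(pullback f g, W₁) := IsScalarTower.of_algebraMap_eq' (by
    show (gX.appLE U₁ W₁ e).hom.comp (f.appLE R U₁ hUR).hom =
      ((pullback.snd f g).appLE W W₁ inf_le_right).hom.comp (g.appLE R W hWR).hom
    rw [← CommRingCat.hom_comp, ← CommRingCat.hom_comp, Scheme.Hom.appLE_comp_appLE,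
      Scheme.Hom.appLE_comp_appLE]
    simp only [gX, pullback.condition])
  haveI : Algebra.IsPushout Γ(S, R) Γ(S', W) Γ(X, U₁) Γ(pullback f g, W₁) :=
    FlatH4.algebra_isPushout_sections H hWR hUR rfl hR hW hU₁ rfl rfl rfl rfl
  haveI : Algebra.FinitePresentation Γ(S, R) Γ(X, U₁) := f.finitePresentation_appLE hR hU₁ hUR
  letI := FlatH4.secModuleOver f F R U₁ hUR
  haveI : IsScalarTower Γ(S, R) Γ(X, U₁) Γ(F, U₁) := IsScalarTower.of_algebraMap_smul fun _ _ => rfl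
  haveI : Module.FinitePresentation Γ(X, U₁) Γ(F, U₁) := M1.finitePresentation_sections hF hU₁
  haveI : Module.Flat Γ(S, R) Γ(F, U₁) :=
    FlatH4.flat_of_localized_maximal_algebra (S := Γ(X, U₁)) fun q hq => by
      obtain ⟨⟨y, hy⟩, hyq⟩ := hU₁.isoSpec.hom.surjective ⟨q, hq.isPrime⟩
      have h1 : hU₁.primeIdealOf ⟨y, hy⟩ = ⟨q, hq.isPrime⟩ := hyq
      have h2 := (FlatH4.isFlatOverAt_iff f F R hR U₁ hU₁ hUR hy).1 (hflat y)
      convert h2 using 3 <;> rw [h1]
  let J := SchDom.openIdeal U₁ U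
  -- density of the fibres
  have hdense : SchDom.FibDense Γ(S, R) Γ(F, U₁) J := by
    intro q _ x₀ hx₀
    obtain ⟨ψ, hψ, hker⟩ := SchDom.exists_fibre_point hR.fromSpec q
    let s : S := hR.fromSpec ⟨q, inferInstance⟩
    let K := S.residueField s
    let ks := S.fromSpecResidueField s
    let gs := pullback.fst f ks
    let Fs := (Scheme.Modules.pullback gs).obj F
    have hsR : ∀ z, ks z ∈ R := fun z => by
      rw [show ks z = s from Scheme.fromSpecResidueField_apply s z]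
      exact hR.range_fromSpec.subset ⟨_, rfl⟩
    have hKR : (⊤ : (Spec K).Opens) ≤ ks ⁻¹ᵁ R := fun z _ => hsR z
    let Hs := IsPullback.of_hasPullback f ks
    let Ws : (↑(pullback f ks) : Scheme.{u}).Opens := gs ⁻¹ᵁ U₁ ⊓ pullback.snd f ks ⁻¹ᵁ ⊤
    have hWs : IsAffineOpen Ws :=
      FlatH4.isAffineOpen_of_isPullback Hs hKR hUR rfl hR (isAffineOpen_top _) hU₁
    have es : Ws ≤ gs ⁻¹ᵁ U₁ := inf_le_left
    letI : Algebra Γ(S, R) Γ(Spec K, ⊤) := (ks.appLE R ⊤ hKR).hom.toAlgebra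
    letI : Algebra Γ(X, U₁) Γ(pullback f ks, Ws) := (gs.appLE U₁ Ws es).hom.toAlgebra
    letI : Algebra Γ(Spec K, ⊤) Γ(pullback f ks, Ws) :=
      ((pullback.snd f ks).appLE ⊤ Ws inf_le_right).hom.toAlgebra
    letI : Algebra Γ(S, R) Γ(pullback f ks, Ws) :=
      ((algebraMap Γ(X, U₁) Γ(pullback f ks, Ws)).comp (algebraMap Γ(S, R) Γ(X, U₁))).toAlgebra
    haveI : IsScalarTower Γ(S, R) Γ(X, U₁) Γ(pullback f ks, Ws) := IsScalarTower.of_algebraMap_eq fun _ => rfl
    haveI : IsScalarTower Γ(S, R) Γ(Spec K, ⊤) Γ(pullback f ks, Ws) := IsScalarTower.of_algebraMap_eq' (by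
      show (gs.appLE U₁ Ws es).hom.comp (f.appLE R U₁ hUR).hom =
        ((pullback.snd f ks).appLE ⊤ Ws inf_le_right).hom.comp (ks.appLE R ⊤ hKR).hom
      rw [← CommRingCat.hom_comp, ← CommRingCat.hom_comp, Scheme.Hom.appLE_comp_appLE,
        Scheme.Hom.appLE_comp_appLE]
      simp only [gs, pullback.condition])
    haveI : Algebra.IsPushout Γ(S, R) Γ(Spec K, ⊤) Γ(X, U₁) Γ(pullback f ks, Ws) :=
      FlatH4.algebra_isPushout_sections Hs hKR hUR rfl hR (isAffineOpen_top _) hU₁ rfl rfl rfl rfl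
    -- the residue field
    let σ := Scheme.ΓSpecIso K
    letI : Field Γ(Spec K, ⊤) := (σ.commRingCatIsoToRingEquiv.toMulEquiv.isField (Field.toIsField K)).toField
    have hker' : RingHom.ker (algebraMap Γ(S, R) Γ(Spec K, ⊤)) = q := by
      have h1 : ks.appLE R ⊤ hKR = ψ ≫ σ.inv := by
        have h2 : ∀ (v : Spec K ⟶ S) (_ : v = Spec.map ψ ≫ hR.fromSpec) (e' : ⊤ ≤ v ⁻¹ᵁ R) (a : Γ(S, R)),
            v.appLE R ⊤ e' a = σ.inv (ψ a) := by
          rintro _ rfl e' a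
          rw [← Scheme.Hom.appLE_comp_appLE (Spec.map ψ) hR.fromSpec R ⊤ ⊤
              (by rw [hR.fromSpec_preimage_self]) (by simp), CommRingCat.comp_apply, ← CommRingCat.comp_apply ψ,
            Scheme.ΓSpecIso_inv_naturality]
          simp [Scheme.Hom.appLE, hR.fromSpec_app_self, Scheme.Hom.appTop, ← Functor.map_comp]
        exact CommRingCat.hom_ext (RingHom.ext fun a => h2 ks hψ.symm hKR a)
      show RingHom.ker (ks.appLE R ⊤ hKR).hom = q
      rw [h1]
      refine Eq.trans ?_ hker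
      ext a
      show σ.inv (ψ a) = 0 ↔ ψ a = 0
      exact map_eq_zero_iff _ (ConcreteCategory.bijective_of_isIso σ.inv).1
    let kK : q.ResidueField →ₐ[Γ(S, R)] Γ(Spec K, ⊤) :=
      Ideal.ResidueField.liftₐ q (Algebra.ofId Γ(S, R) Γ(Spec K, ⊤)) hker'.ge
        fun a ha => IsUnit.mk0 _ fun h0 => ha (hker'.le h0)
    let eK := Algebra.IsPushout.cancelBaseChange Γ(S, R) Γ(Spec K, ⊤) Γ(X, U₁) Γ(pullback f ks, Ws) Γ(F, U₁)
    let z := eK.symm (kK.toLinearMap.rTensor Γ(F, U₁) x₀)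
    suffices hz : z = 0 by
      apply SchDom.rTensor_fieldExt_injective kK Γ(F, U₁)
      rw [map_zero]
      exact (map_eq_zero_iff _ eK.symm.injective).1 hz
    obtain ⟨L, hL⟩ := SchDom.exists_pullLin gs F hU₁ hWs es
    have hzJ : ∀ b ∈ J, ∃ l : ℕ, algebraMap Γ(X, U₁) Γ(pullback f ks, Ws) (b ^ l) • z = 0 := by
      intro b hb
      obtain ⟨l, hl⟩ := hx₀ b hb
      refine ⟨l, ?_⟩
      have hkey : ∀ v : TensorProduct Γ(S, R) Γ(Spec K, ⊤) Γ(F, U₁),
          algebraMap Γ(X, U₁) Γ(pullback f ks, Ws) (b ^ l) • eK.symm v =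
            eK.symm ((Algebra.lsmul Γ(S, R) Γ(S, R) Γ(F, U₁) (b ^ l)).lTensor Γ(Spec K, ⊤) v) := by
        intro v
        induction v using TensorProduct.induction_on with
        | zero => simp
        | add v w hv hw => simp only [map_add, smul_add, hv, hw]
        | tmul a m =>
          rw [LinearMap.lTensor_tmul, Algebra.IsPushout.cancelBaseChange_symm_tmul,
            Algebra.IsPushout.cancelBaseChange_symm_tmul, TensorProduct.smul_tmul', smul_eq_mul]
          show _ = algebraMap Γ(Spec K, ⊤) Γ(pullback f ks, Ws) a ⊗ₜ[Γ(X, U₁)] ((b ^ l) • m)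
          rw [← TensorProduct.smul_tmul, Algebra.smul_def]
      rw [hkey, ← LinearMap.comp_apply, LinearMap.lTensor_comp_rTensor, ← LinearMap.rTensor_comp_lTensor,
        LinearMap.comp_apply, hl, map_zero, map_zero]
    have hres : M1.mres Fs (inf_le_left : Ws ⊓ gs ⁻¹ᵁ U ≤ Ws) (L z) = 0 := by
      refine M1.section_ext _ 0 fun y hy => ?_
      rw [map_zero, M1.germ_mres]
      obtain ⟨b, hb, hyb⟩ := SchDom.exists_openIdeal hU₁ (es hy.1) (show gs y ∈ U from hy.2)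
      obtain ⟨l, hl⟩ := hzJ b hb
      have hu : IsUnit ((↑(pullback f ks) : Scheme.{u}).presheaf.germ Ws y hy.1
          (algebraMap Γ(X, U₁) Γ(pullback f ks, Ws) (b ^ l))) := by
        rw [map_pow, map_pow]
        refine IsUnit.pow _ ?_
        rw [← Scheme.mem_basicOpen]
        show y ∈ (↑(pullback f ks) : Scheme.{u}).basicOpen (gs.appLE U₁ Ws es b)
        rw [Scheme.Hom.appLE, CommRingCat.comp_apply, Scheme.basicOpen_res, ← Scheme.preimage_basicOpen]
        exact ⟨hy.1, hyb⟩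
      have h1 := SchDom.germ_lin_smul gs F L hy.1 (algebraMap Γ(X, U₁) Γ(pullback f ks, Ws) (b ^ l)) z
      rw [hl, map_zero, map_zero] at h1
      exact hu.smul_eq_zero.1 h1.symm
    have hLz : L z = 0 := hd s Ws (hres.trans (map_zero _).symm)
    exact SchDom.eq_zero_of_germ gs F hWs L hL z fun y hy => by rw [hLz, map_zero]
  -- the germ at `x`
  have hx₁ : x ∈ W₁ := ⟨hxU, hxW⟩
  obtain ⟨L, hL⟩ := SchDom.exists_pullLin gX F hU₁ hW₁ e
  letI := M1.stalkModule F' hx₁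
  haveI := hL x hx₁
  obtain ⟨⟨z, c⟩, hz⟩ := IsLocalizedModule.surj (hW₁.primeIdealOf ⟨x, hx₁⟩).asIdeal.primeCompl
    ((M1.germₗ F' hx₁).comp L) (F'.presheaf.germ V x hx t)
  have hxV : x ∈ W₁ ⊓ V := ⟨hx₁, hx⟩
  let t₁ := M1.ores (inf_le_left : W₁ ⊓ V ≤ W₁) (c : Γ(pullback f g, W₁)) •
    M1.mres F' (inf_le_right : W₁ ⊓ V ≤ V) t
  let z₁ := M1.mres F' (inf_le_left : W₁ ⊓ V ≤ W₁) (L z)
  have hg : F'.presheaf.germ _ x hxV t₁ = F'.presheaf.germ _ x hxV z₁ := by
    simp only [t₁, z₁, M1.germ_smul, M1.germ_mres]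
    exact (congrArg (· • _) (TopCat.Presheaf.germ_res_apply _ _ _ _ _)).trans hz
  obtain ⟨V₂, hxV₂, i₁, i₂, he⟩ := F'.presheaf.germ_eq x hxV hxV t₁ z₁ hg
  obtain ⟨h, hhV, hxh⟩ := hW₁.exists_basicOpen_le ⟨x, hxV₂⟩ hx₁
  have hgerm : ∀ (y : (↑(pullback f g) : Scheme.{u})) (hy : y ∈ W₁), gX y ∈ U →
      y ∈ (↑(pullback f g) : Scheme.{u}).basicOpen h → F'.presheaf.germ W₁ y hy (L z) = 0 := by
    intro y hy hyU hyh
    have hyV : y ∈ W₁ ⊓ V := i₁.le (hhV hyh)
    have h1 := congrArg (F'.presheaf.germ V₂ y (hhV hyh)) he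
    rw [TopCat.Presheaf.germ_res_apply, TopCat.Presheaf.germ_res_apply] at h1
    simp only [t₁, z₁, M1.germ_smul, M1.germ_mres, ht0 y hyV.2 hyU, smul_zero] at h1
    exact h1.symm
  obtain ⟨l, hl⟩ := hdense.exists_pow_smul_eq_zero (A' := Γ(S', W)) h z fun b hb =>
    SchDom.exists_pow_smul_eq_zero_of_germ gX F hU₁ hW₁ e L rfl hL h z hgerm hb
  have h0 := SchDom.germ_lin_smul gX F L hx₁ (h ^ l) z
  rw [hl, map_zero, map_zero, map_pow] at h0
  have h1 := (((↑(pullback f g) : Scheme.{u}).mem_basicOpen h x hx₁).1 hxh).pow l |>.smul_eq_zero.1 h0.symm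
  have h2 : (↑(pullback f g) : Scheme.{u}).presheaf.germ W₁ x hx₁ (c : Γ(pullback f g, W₁)) •
      (F'.presheaf.germ V x hx t : F'.presheaf.stalk x) = 0 := hz.trans h1
  exact ((M1.isUnit_germ_iff hW₁ hx₁ c.1).2 c.2).smul_eq_zero.1 h2

end Groth.Agent.S4879
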