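import Groth.Statements.S4880
import Groth.Agent.Lib.EGA43Top.Goldman

set_option autoImplicit false
universe u
open CategoryTheory AlgebraicGeometry
open EGA43

namespace Groth.Agent.S4880

/-- For a Noetherian irreducible scheme X the following are equivalent: a) the generic point of X is an
isolated point; b) the underlying set of X is finite; c) X has dimension at most 1 and finitely many
closed points. -/
theorem result (X : Scheme.{u}) [IsNoetherian X]
    [IrreducibleSpace X] :
    [IsOpen ({genericPoint X} : Set X),
      Finite X,
      topologicalKrullDim X ≤ 1 ∧ {x : X | IsClosed ({x} : Set X)}.Finite].TFAE := by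
  exact Groth.Agent.EGA43Top.genericPoint_tfae

end Groth.Agent.S4880
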