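import Groth.Statements.S4881
import Groth.Agent.Lib.JacobsonDim4

set_option autoImplicit false
universe u
open CategoryTheory AlgebraicGeometry
open EGA43

set_option backward.isDefEq.respectTransparency.types false

namespace Groth.Agent.S4881

/-- Let X be a locally Noetherian scheme which is Jacobson, whose local rings are universally catenary,
and whose irreducible components X' are equidimensional in the sense that for every closed point x
of X' the dimension of X' equals the dimension of the set of generizations of x in X'. Then for
every dense open subset U of X, dim U = dim X. -/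
theorem result (X : Scheme.{u}) [IsLocallyNoetherian X] [JacobsonSpace X]
    (h2 : ∀ x : X, CAlg.IsUniversallyCatenary (X.presheaf.stalk x))
    (h3 : ∀ X' ∈ irreducibleComponents (X : Type u), ∀ x ∈ X', IsClosed ({x} : Set X) →
      topologicalKrullDim (↥X' : Type u) = topologicalKrullDim ↥{t : X | t ∈ X' ∧ t ⤳ x})
    (U : Set X) (hU : IsOpen U) (hd : Dense U) :
    topologicalKrullDim ↥U = topologicalKrullDim X := by
  refine le_antisymm (Topology.IsEmbedding.subtypeVal.isInducing.topologicalKrullDim_le) ?_
  rw [VarDim.scheme_dim_eq_iSup_height]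
  refine iSup_le fun a => ?_
  obtain ⟨t, hta, htmax⟩ := EquidimAt4.exists_max_specializes a
  obtain ⟨n, hn, hO, -⟩ := JacobsonDim4.exists_subscheme_dim h2 h3 (𝟙 X) t
  have htU : t ∈ U := by
    obtain ⟨V, htV, hV⟩ := FibSub4.exists_opens_max_specializes t
    obtain ⟨b, hbV, hbU⟩ := hd.inter_open_nonempty V V.2 ⟨t, htV⟩
    obtain ⟨s, hsb, hsmax⟩ := EquidimAt4.exists_max_specializes b
    rw [← htmax s (hV s (hsb.mem_open V.2 hbV) hsmax)]
    exact hsb.mem_open hU hbU
  calc _ ≤ (Order.height t : WithBot ℕ∞) := WithBot.coe_le_coe.mpr (Order.height_mono hta)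
    _ = topologicalKrullDim ↥(U ∩ closure {t}) := by
      rw [← VarDim.topologicalKrullDim_closure_singleton, hn, hO U hU htU]
    _ ≤ _ := (Topology.IsEmbedding.inclusion Set.inter_subset_left).isInducing.topologicalKrullDim_le

end Groth.Agent.S4881
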