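import Groth.Statements.S4882
import Groth.Agent.Lib.EGA43Top.QuasiHomeo

set_option autoImplicit false
universe u
open EGA43

namespace Groth.Agent.S4882

/-- Let X be a Jacobson space and Z a locally quasi-constructible subset of X, i.e. every point of X has
an open neighbourhood U such that U ∩ Z is a finite union of locally closed subsets of X. Then the
subspace Z is a Jacobson space, and a point of Z is closed in Z if and only if it is closed in X. -/
theorem result {X : Type u} [TopologicalSpace X] [JacobsonSpace X]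
    (Z : Set X)
    (hZ : ∀ x : X, ∃ U : Set X, IsOpen U ∧ x ∈ U ∧
      ∃ T : Set (Set X), T.Finite ∧ (∀ t ∈ T, IsLocallyClosed t) ∧ U ∩ Z = ⋃₀ T) :
    JacobsonSpace ↥Z ∧ ∀ z : ↥Z, IsClosed ({z} : Set ↥Z) ↔ IsClosed ({(z : X)} : Set X) := by
  have key : ∀ z : ↥Z, IsClosed ({z} : Set ↥Z) → IsClosed ({(z : X)} : Set X) := by
    intro z hz
    obtain ⟨W, hW, hzW, h1, -⟩ := Groth.Agent.EGA43Top.IsLQC.exists_lc_piece (Z := Z) hZ (z : X)
    refine isClosed_singleton_of_isLocallyClosed_singleton ?_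
    have : ({(z : X)} : Set X) = W ∩ closure {(z : X)} := by
      refine Set.Subset.antisymm ?_ fun w hw => ?_
      · rintro _ rfl; exact ⟨hzW, subset_closure rfl⟩
      · have hwZ : w ∈ Z := h1 z.2 hw.1
        have hc : (⟨w, hwZ⟩ : ↥Z) ∈ closure ({z} : Set ↥Z) := by
          rw [closure_subtype, Set.image_singleton]; exact hw.2
        rw [hz.closure_eq, Set.mem_singleton_iff] at hc
        exact congrArg Subtype.val hc
    rw [this]
    exact hW.inter isClosed_closure.isLocallyClosed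
  have key2 : ∀ z : ↥Z, IsClosed ({(z : X)} : Set X) → IsClosed ({z} : Set ↥Z) := by
    intro z hz
    convert hz.preimage continuous_subtype_val using 1
    ext w
    simp [Subtype.ext_iff]
  refine ⟨jacobsonSpace_iff_locallyClosed.2 ?_, fun z => ⟨key z, key2 z⟩⟩
  rintro S ⟨z, hz⟩ ⟨U, F, hU, hF, rfl⟩
  obtain ⟨U', hU', rfl⟩ := isOpen_induced_iff.1 hU
  obtain ⟨F', hF', rfl⟩ := isClosed_induced_iff.1 hF
  obtain ⟨W, hW, hzW, h1, -⟩ := Groth.Agent.EGA43Top.IsLQC.exists_lc_piece (Z := Z) hZ (z : X)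
  obtain ⟨w, ⟨hw, hw'⟩, hwc⟩ := nonempty_inter_closedPoints (Z := W ∩ (U' ∩ F'))
    ⟨z, hzW, hz⟩ (hW.inter (hU'.isLocallyClosed.inter hF'.isLocallyClosed))
  exact ⟨⟨w, h1 z.2 hw⟩, hw', key2 ⟨w, h1 z.2 hw⟩ hwc⟩

end Groth.Agent.S4882
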