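import Groth.Statements.S4885
import Mathlib

set_option autoImplicit false
universe u
open EGA43

namespace Groth.Agent.S4885

section
variable {A P Q : Type u} [CommRing A] [CommRing P] [CommRing Q] [Algebra A P] [Algebra A Q]
  {ι : Type u} [Preorder ι] (J : ι → Ideal P) (hmono : ∀ s t, s ≤ t → J s ≤ J t)
  (φ : P →ₐ[A] Q) (hJ : ∀ s, ∀ x ∈ J s, φ x = 0)

theorem colim_aux (hdir : IsDirected ι (· ≤ ·)) (hne : Nonempty ι) (hφ : Function.Surjective φ)
    (hker : ∀ s x, φ x = 0 → ∃ t, s ≤ t ∧ x ∈ J t) :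
    @FlatCA.IsDirectedColimitRing ι _ (fun s => P ⧸ J s) _
      (fun s t h => (Ideal.Quotient.factorₐ A (hmono s t h)).toRingHom) Q _
      (fun s => (Ideal.Quotient.liftₐ (J s) φ (hJ s)).toRingHom.toAlgebra) := by
  refine ⟨hdir, hne, fun s => ?_, fun _ _ _ _ _ => ?_, fun _ _ _ => ?_, fun a => ?_, fun s x hx => ?_⟩
  · exact Ideal.Quotient.ringHom_ext (RingHom.ext fun _ => rfl)
  · exact Ideal.Quotient.ringHom_ext (RingHom.ext fun _ => rfl)
  · exact Ideal.Quotient.ringHom_ext (RingHom.ext fun _ => rfl)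
  · obtain ⟨p, hp⟩ := hφ a
    obtain ⟨s⟩ := hne
    exact ⟨s, Ideal.Quotient.mk _ p, hp⟩
  · obtain ⟨p, rfl⟩ := Ideal.Quotient.mk_surjective x
    obtain ⟨t, hst, ht⟩ := hker s p hx
    exact ⟨t, hst, Ideal.Quotient.eq_zero_iff_mem.2 ht⟩

theorem exists_colim (hdir : IsDirected ι (· ≤ ·)) (hne : Nonempty ι) (hφ : Function.Surjective φ)
    (hmono' : ∀ s t, s ≤ t → J s ≤ J t) (hJ' : ∀ s, ∀ x ∈ J s, φ x = 0)
    (hker : ∀ s x, φ x = 0 → ∃ t, s ≤ t ∧ x ∈ J t)
    (hfin : ∀ s, Module.Finite A (P ⧸ J s) ∧ Algebra.FinitePresentation A (P ⧸ J s)) :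
    ∃ (ι : Type u) (_ : Preorder ι) (G : ι → Type u) (_ : ∀ i, CommRing (G i)) (_ : ∀ i, Algebra A (G i))
      (g : ∀ i j, i ≤ j → G i →ₐ[A] G j) (_ : ∀ i, Algebra (G i) Q) (_ : ∀ i, IsScalarTower A (G i) Q),
      FlatCA.IsDirectedColimitRing G (fun i j h => (g i j h).toRingHom) Q ∧
        ∀ i, Module.Finite A (G i) ∧ Algebra.FinitePresentation A (G i) :=
  ⟨ι, inferInstance, fun s => P ⧸ J s, inferInstance, inferInstance,
    fun s t h => Ideal.Quotient.factorₐ A (hmono' s t h),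
    fun s => (Ideal.Quotient.liftₐ (J s) φ (hJ' s)).toRingHom.toAlgebra,
    fun s => @IsScalarTower.of_algebraMap_eq' _ _ _ _ _ _ _
      ((Ideal.Quotient.liftₐ (J s) φ (hJ' s)).toRingHom.toAlgebra) _ (Ideal.Quotient.liftₐ (J s) φ (hJ' s)).comp_algebraMap.symm,
    colim_aux J hmono' φ hJ' hdir hne hφ hker, hfin⟩

end

/-- Every finite algebra A' over a commutative ring A is a directed colimit (filtered inductive limit)
of A-algebras which are finite and of finite presentation over A. -/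
theorem result (A A' : Type u) [CommRing A] [CommRing A']
    [Algebra A A'] [Module.Finite A A'] :
    ∃ (ι : Type u) (_ : Preorder ι) (G : ι → Type u) (_ : ∀ i, CommRing (G i)) (_ : ∀ i, Algebra A (G i))
      (g : ∀ i j, i ≤ j → G i →ₐ[A] G j) (_ : ∀ i, Algebra (G i) A') (_ : ∀ i, IsScalarTower A (G i) A'),
      FlatCA.IsDirectedColimitRing G (fun i j h => (g i j h).toRingHom) A' ∧
        ∀ i, Module.Finite A (G i) ∧ Algebra.FinitePresentation A (G i) := by
  classical
  obtain ⟨S, hS⟩ := (Module.finite_def.1 ‹Module.Finite A A'› : (⊤ : Submodule A A').FG)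
  let e := S.equivFin
  let n := S.card
  let v : Fin n → A' := fun i => (e.symm i).1
  let φ : MvPolynomial (Fin n) A →ₐ[A] A' := MvPolynomial.aeval v
  have hφ : Function.Surjective φ := fun a => by
    have ha : a ∈ Submodule.span A (S : Set A') := by rw [hS]; trivial
    induction ha using Submodule.span_induction with
    | mem x hx => exact ⟨MvPolynomial.X (e ⟨x, hx⟩), by simp [φ, v]⟩
    | zero => exact ⟨0, map_zero _⟩
    | add x y _ _ hx hy => obtain ⟨p, rfl⟩ := hx; obtain ⟨q, rfl⟩ := hy; exact ⟨p + q, map_add _ _ _⟩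
    | smul r x _ hx => obtain ⟨p, rfl⟩ := hx; exact ⟨r • p, map_smul _ _ _⟩
  have hv : ∀ i, IsIntegral A (v i) := fun i => IsIntegral.of_finite A (v i)
  choose P hPm hP0 using hv
  let R : Fin n → MvPolynomial (Fin n) A := fun i => Polynomial.aeval (MvPolynomial.X i) (P i)
  have hR : ∀ i, φ (R i) = 0 := fun i => by
    rw [show φ (R i) = Polynomial.aeval (φ (MvPolynomial.X i)) (P i) from (Polynomial.aeval_algHom_apply φ _ _).symm]
    simpa [φ] using (show Polynomial.aeval (v i) (P i) = 0 from hP0 i)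
  let J : Finset (RingHom.ker φ) → Ideal (MvPolynomial (Fin n) A) := fun s =>
    Ideal.span (Set.range R) ⊔ Ideal.span ((fun x : RingHom.ker φ => x.1) '' ↑s)
  have hJ : ∀ s, ∀ x ∈ J s, φ x = 0 := fun s x hx => by
    have hle : J s ≤ RingHom.ker φ := sup_le
      (Ideal.span_le.2 (by rintro _ ⟨i, rfl⟩; exact hR i))
      (Ideal.span_le.2 (by rintro _ ⟨y, -, rfl⟩; exact y.2))
    exact hle hx
  have hmono : ∀ s t, s ≤ t → J s ≤ J t := fun s t h =>
    sup_le_sup_left (Ideal.span_mono (Set.image_mono (Finset.coe_subset.2 h))) _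
  refine exists_colim J φ ⟨fun s t => ⟨s ∪ t, Finset.subset_union_left, Finset.subset_union_right⟩⟩ ⟨∅⟩ hφ hmono hJ
    (fun s p hp => ⟨insert ⟨p, hp⟩ s, Finset.subset_insert _ _,
      Ideal.mem_sup_right (Ideal.subset_span ⟨⟨p, hp⟩, Finset.mem_insert_self _ _, rfl⟩)⟩) fun s => ?_
  have hfg : (J s).FG := Submodule.FG.sup ⟨Finset.univ.image R, by rw [Finset.coe_image, Finset.coe_univ, Set.image_univ]⟩
    ⟨s.image (fun x => x.1), by rw [Finset.coe_image]⟩
  haveI : Algebra.FinitePresentation A (MvPolynomial (Fin n) A ⧸ J s) := Algebra.FinitePresentation.quotient hfg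
  refine ⟨?_, inferInstance⟩
  haveI : Algebra.IsIntegral A (MvPolynomial (Fin n) A ⧸ J s) := ⟨fun x => by
    obtain ⟨p, rfl⟩ := Ideal.Quotient.mk_surjective x
    induction p using MvPolynomial.induction_on with
    | C a => exact isIntegral_algebraMap (x := a)
    | add p q hp hq => rw [map_add]; exact hp.add hq
    | mul_X p i hp =>
      rw [map_mul]
      refine hp.mul ⟨P i, hPm i, ?_⟩
      show Polynomial.aeval (Ideal.Quotient.mkₐ A (J s) (MvPolynomial.X i)) (P i) = 0
      rw [Polynomial.aeval_algHom_apply, Ideal.Quotient.mkₐ_eq_mk]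
      exact Ideal.Quotient.eq_zero_iff_mem.2 (Ideal.mem_sup_left (Ideal.subset_span ⟨i, rfl⟩))⟩
  exact Algebra.IsIntegral.finite

end Groth.Agent.S4885
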