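import Groth.Statements.S4886
-- import your own Groth.Agent.* helpers here
import Groth.Agent.Lib.MultType.Dense

set_option autoImplicit false
universe u
open CategoryTheory AlgebraicGeometry
open EGA43

namespace Groth.Agent.S4886


open AlgebraicGeometry CategoryTheory

set_option backward.isDefEq.respectTransparency false

theorem finiteType_sections {Y : Scheme.{u}}
    [LocallyOfFiniteType (Limits.IsTerminal.from specULiftZIsTerminal Y)] {U : Y.Opens} (hU : IsAffineOpen U) :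
    Algebra.FiniteType ℤ Γ(Y, U) := by
  have h : ((Limits.IsTerminal.from specULiftZIsTerminal Y).appLE ⊤ U le_top).hom.FiniteType :=
    HasRingHomProperty.appLE @LocallyOfFiniteType _ inferInstance ⟨⊤, isAffineOpen_top _⟩ ⟨U, hU⟩ le_top
  let Φ : ℤ →+* Γ(Spec (CommRingCat.of (ULift.{u} ℤ)), ⊤) :=
    (Scheme.ΓSpecIso (CommRingCat.of (ULift.{u} ℤ))).inv.hom.comp (ULift.ringEquiv.{0, u} (R := ℤ)).symm.toRingHom
  have hΦ : Function.Surjective Φ :=
    (Scheme.ΓSpecIso (CommRingCat.of (ULift.{u} ℤ))).symm.commRingCatIsoToRingEquiv.surjective.comp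
      (ULift.ringEquiv.{0, u} (R := ℤ)).symm.surjective
  have h2 := h.comp (RingHom.FiniteType.of_surjective Φ hΦ)
  rw [Subsingleton.elim (RingHom.comp _ Φ) (algebraMap ℤ Γ(Y, U))] at h2
  exact RingHom.finiteType_algebraMap.1 h2

theorem evaluation_eq_zero_iff {Y : Scheme.{u}} {U : Y.Opens} (hU : IsAffineOpen U) {y : Y} (hy : y ∈ U)
    (a : Γ(Y, U)) : Y.evaluation U y hy a = 0 ↔ a ∈ (hU.primeIdealOf ⟨y, hy⟩).asIdeal := by
  rw [Y.evaluation_eq_zero_iff_notMem_basicOpen]
  have h : hU.fromSpec ⁻¹ᵁ Y.basicOpen a = PrimeSpectrum.basicOpen a := hU.fromSpec_preimage_basicOpen a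
  have h' : y ∈ Y.basicOpen a ↔ hU.primeIdealOf ⟨y, hy⟩ ∈ PrimeSpectrum.basicOpen a := by
    rw [← h]
    show _ ↔ hU.fromSpec (hU.primeIdealOf ⟨y, hy⟩) ∈ Y.basicOpen a
    rw [hU.fromSpec_primeIdealOf]
  rw [h', PrimeSpectrum.mem_basicOpen, not_not]

theorem finite_of_isClosed {Y : Scheme.{u}}
    [LocallyOfFiniteType (Limits.IsTerminal.from specULiftZIsTerminal Y)] {y : Y} (hy : IsClosed ({y} : Set Y)) :
    Finite ↑(Y.residueField y) := by
  obtain ⟨U, hU, hyU, -⟩ := exists_isAffineOpen_mem_and_subset (U := ⊤) (x := y) trivial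
  haveI hm : (hU.primeIdealOf ⟨y, hyU⟩).asIdeal.IsMaximal := hU.primeIdealOf_isMaximal_of_isClosed _ hy
  haveI := finiteType_sections hU
  haveI := Groth.Agent.MultTypeLib.finite_quot_of_finiteType_int (hU.primeIdealOf ⟨y, hyU⟩).asIdeal
  let φ := Ideal.Quotient.lift (hU.primeIdealOf ⟨y, hyU⟩).asIdeal (Y.evaluation U y hyU).hom
    fun a ha => (evaluation_eq_zero_iff hU hyU a).2 ha
  refine Finite.of_surjective φ fun r => ?_
  obtain ⟨t, rfl⟩ := Y.residue_surjective y r
  letI := TopCat.Presheaf.algebra_section_stalk Y.presheaf (⟨y, hyU⟩ : U)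
  haveI := hU.isLocalization_stalk ⟨y, hyU⟩
  obtain ⟨⟨a, s⟩, h⟩ := IsLocalization.surj (hU.primeIdealOf ⟨y, hyU⟩).asIdeal.primeCompl t
  obtain ⟨b, i, hi, hb⟩ := hm.exists_inv s.2
  refine ⟨Ideal.Quotient.mk _ (a * b), ?_⟩
  show Y.evaluation U y hyU (a * b) = _
  have h0 : Y.evaluation U y hyU (b * (s : Γ(Y, U)) + i) = 1 := by rw [hb, map_one]
  rw [map_add, (evaluation_eq_zero_iff hU hyU i).2 hi, add_zero, map_mul] at h0
  have h1 : Y.residue y t * Y.evaluation U y hyU (s : Γ(Y, U)) = Y.evaluation U y hyU a := by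
    exact (map_mul (Y.residue y).hom _ _).symm.trans (congrArg (Y.residue y) h)
  rw [map_mul, ← h1, mul_assoc, mul_comm (Y.evaluation U y hyU (s : Γ(Y, U))), h0, mul_one]

theorem isClosed_of_finite {Y : Scheme.{u}} {y : Y} (hy : Finite ↑(Y.residueField y)) :
    IsClosed ({y} : Set Y) := by
  refine closure_subset_iff_isClosed.1 fun z hz => ?_
  obtain ⟨U, hU, hzU, -⟩ := exists_isAffineOpen_mem_and_subset (U := ⊤) (x := z) trivial
  obtain ⟨y', hyU', hy'⟩ := mem_closure_iff.1 hz U U.2 hzU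
  have hyU : y ∈ U := (Set.mem_singleton_iff.1 hy') ▸ hyU'
  have hker : RingHom.ker (Y.evaluation U y hyU).hom = (hU.primeIdealOf ⟨y, hyU⟩).asIdeal :=
    Ideal.ext fun a => RingHom.mem_ker.trans (evaluation_eq_zero_iff hU hyU a)
  have hm : (hU.primeIdealOf ⟨y, hyU⟩).asIdeal.IsMaximal := by
    rw [← hker]
    haveI : Finite (Γ(Y, U) ⧸ RingHom.ker (Y.evaluation U y hyU).hom) :=
      Finite.of_injective _ (RingHom.kerLift_injective (Y.evaluation U y hyU).hom)
    haveI : (RingHom.ker (Y.evaluation U y hyU).hom).IsPrime := RingHom.ker_isPrime _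
    exact Ideal.Quotient.maximal_of_isField _ (Finite.isField_of_domain _)
  have hspec : hU.primeIdealOf ⟨y, hyU⟩ ⤳ hU.primeIdealOf ⟨z, hzU⟩ := by
    refine (hU.fromSpec.isOpenEmbedding.isInducing.specializes_iff).1 ?_
    rw [hU.fromSpec_primeIdealOf, hU.fromSpec_primeIdealOf]
    exact specializes_iff_mem_closure.2 hz
  have h1 : hU.primeIdealOf ⟨y, hyU⟩ = hU.primeIdealOf ⟨z, hzU⟩ :=
    PrimeSpectrum.ext (hm.eq_of_le (hU.primeIdealOf ⟨z, hzU⟩).2.ne_top
      ((PrimeSpectrum.le_iff_specializes _ _).2 hspec))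
  have h2 := congrArg hU.fromSpec h1
  rw [hU.fromSpec_primeIdealOf, hU.fromSpec_primeIdealOf] at h2
  exact h2.symm

theorem finite_ringHom {A F : Type*} [CommRing A] [Algebra.FiniteType ℤ A] [CommRing F] [Finite F] :
    Finite (A →+* F) := by
  obtain ⟨s, hs⟩ := (inferInstance : Algebra.FiniteType ℤ A).out
  refine Finite.of_injective (fun φ => fun a : s => φ a.1) fun φ ψ h => ?_
  have h' : φ.toIntAlgHom = ψ.toIntAlgHom :=
    AlgHom.ext_of_adjoin_eq_top hs fun a ha => congrFun h ⟨a, ha⟩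
  exact RingHom.ext fun a => DFunLike.congr_fun h' a

/-- Let Y be a scheme of finite type over ℤ. (i) A point y of Y is closed if and only if the residue
field k(y) is finite. (ii) For every prime number p and every integer d ≥ 1, the set of points y of
Y such that k(y) is an extension of 𝔽_p of degree dividing d, i.e. admits a ring homomorphism into
the field with p^d elements, is finite. -/
theorem result (Y : Scheme.{u}) [CompactSpace Y]
    [LocallyOfFiniteType (Limits.IsTerminal.from specULiftZIsTerminal Y)] :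
    (∀ y : Y, IsClosed ({y} : Set Y) ↔ Finite ↑(Y.residueField y)) ∧
    ∀ (p d : ℕ) [Fact p.Prime], 0 < d →
      {y : Y | Nonempty (↑(Y.residueField y) →+* GaloisField p d)}.Finite := by
  refine ⟨fun y => ⟨finite_of_isClosed, isClosed_of_finite⟩, fun p d _ hd => ?_⟩
  classical
  have h1 : ∀ y : Y, ∃ U : Y.Opens, IsAffineOpen U ∧ y ∈ U := fun y => by
    obtain ⟨U, hU, hyU, -⟩ := exists_isAffineOpen_mem_and_subset (U := ⊤) (x := y) trivial
    exact ⟨U, hU, hyU⟩
  choose U hU hyU using h1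
  obtain ⟨t, ht⟩ := isCompact_univ.elim_finite_subcover (fun y => (U y : Set Y)) (fun y => (U y).2)
    fun y _ => Set.mem_iUnion.2 ⟨y, hyU y⟩
  refine Set.Finite.subset (Set.Finite.biUnion t.finite_toSet (t := fun z =>
    {y : Y | Nonempty (↑(Y.residueField y) →+* GaloisField p d) ∧ y ∈ U z}) fun z _ => ?_) fun y hy => by
      obtain ⟨z, hz, hyz⟩ := Set.mem_iUnion₂.1 (ht (Set.mem_univ y))
      exact Set.mem_iUnion₂.2 ⟨z, hz, hy, hyz⟩
  haveI := finiteType_sections (hU z)
  haveI : Fintype (GaloisField p d) := Fintype.ofFinite _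
  haveI := finite_ringHom (A := Γ(Y, U z)) (F := GaloisField p d)
  refine Set.finite_coe_iff.1 (Finite.of_injective (fun y : {y : Y | Nonempty (↑(Y.residueField y) →+* GaloisField p d) ∧ y ∈ U z} =>
    y.2.1.some.comp (Y.evaluation (U z) y.1 y.2.2).hom) fun y y' h => Subtype.ext ?_)
  have h2 : (hU z).primeIdealOf ⟨y.1, y.2.2⟩ = (hU z).primeIdealOf ⟨y'.1, y'.2.2⟩ := by
    refine PrimeSpectrum.ext (Ideal.ext fun a => ?_)
    have := DFunLike.congr_fun h a
    rw [← evaluation_eq_zero_iff (hU z) y.2.2, ← evaluation_eq_zero_iff (hU z) y'.2.2,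
      ← map_eq_zero_iff _ y.2.1.some.injective, ← map_eq_zero_iff _ y'.2.1.some.injective]
    simp only [RingHom.comp_apply] at this
    rw [this]
  have h3 := congrArg (hU z).fromSpec h2
  rwa [(hU z).fromSpec_primeIdealOf, (hU z).fromSpec_primeIdealOf] at h3

end Groth.Agent.S4886
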