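import Groth.Statements.S4891
import Groth.Agent.Lib.FlatH4.LocCrit
import Mathlib.RingTheory.Flat.FaithfullyFlat.Basic
-- import your own Groth.Agent.* helpers here

set_option autoImplicit false
universe u
open TensorProduct
open EGA43

open TensorProduct

namespace Groth.Agent.S4891

/-- Let A be a commutative ring, J a nilpotent ideal of A, B a commutative A-algebra and M a B-module.
If M is flat over A, M/JM is flat over B/JB, B/JB is flat over A/J and mM ≠ M for every maximal
ideal m of B containing JB, then B is flat over A. (Under the first two hypotheses M is also flat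
over B; that implication is stated elsewhere and not repeated here.) -/
theorem result {A B : Type u} [CommRing A] [CommRing B] [Algebra A B]
    (J : Ideal A) (hJ : IsNilpotent J) (M : Type u) [AddCommGroup M] [Module B M] [Module A M] [IsScalarTower A B M]
    (hc1 : Module.Flat A M)
    (hc2 : Module.Flat (B ⧸ J.map (algebraMap A B)) ((B ⧸ J.map (algebraMap A B)) ⊗[B] M))
    (hd1 : Module.Flat (A ⧸ J) ((A ⧸ J) ⊗[A] B))
    (hd2 : ∀ m : Ideal B, m.IsMaximal → J.map (algebraMap A B) ≤ m → (m • (⊤ : Submodule B M)) ≠ ⊤) :
    Module.Flat A B := by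
  let a : Ideal B := J.map (algebraMap A B)
  have ha : IsNilpotent a := by
    obtain ⟨n, hn⟩ := hJ
    exact ⟨n, by rw [← Ideal.map_pow, hn]; exact Ideal.map_bot⟩
  -- the first Tor vanishes
  let mu : J →+ M →+ M ⊗[B] a := AddMonoidHom.mk' (fun j => AddMonoidHom.mk'
      (fun m => m ⊗ₜ[B] ⟨algebraMap A B j, Ideal.mem_map_of_mem _ j.2⟩) fun m m' => add_tmul _ _ _)
    fun j j' => by
      ext m
      show m ⊗ₜ[B] (⟨algebraMap A B (j + j' : J).1, _⟩ : a) = _
      rw [show (⟨algebraMap A B (j + j' : J).1, Ideal.mem_map_of_mem _ (j + j').2⟩ : a) =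
        ⟨algebraMap A B j, Ideal.mem_map_of_mem _ j.2⟩ + ⟨algebraMap A B j', Ideal.mem_map_of_mem _ j'.2⟩ from
          Subtype.ext (map_add _ _ _), tmul_add]
      rfl
  let Φ : J ⊗[A] M →+ M ⊗[B] a := TensorProduct.liftAddHom mu fun c j m => by
    show m ⊗ₜ[B] (⟨algebraMap A B (c • j : J).1, _⟩ : a) = (c • m) ⊗ₜ[B] (⟨algebraMap A B j.1, Ideal.mem_map_of_mem _ j.2⟩ : a)
    rw [← algebraMap_smul B c m, TensorProduct.smul_tmul]
    congr 1
    exact Subtype.ext (by simp [Algebra.smul_def])
  have hΦ : Function.Surjective Φ := by
    intro z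
    induction z using TensorProduct.induction_on with
    | zero => exact ⟨0, map_zero _⟩
    | add x y hx hy =>
      obtain ⟨x, rfl⟩ := hx
      obtain ⟨y, rfl⟩ := hy
      exact ⟨x + y, map_add _ _ _⟩
    | tmul m w =>
      obtain ⟨w, hw⟩ := w
      revert m
      induction hw using Submodule.span_induction with
      | mem v hv =>
        obtain ⟨j, hj, rfl⟩ := hv
        exact fun m => ⟨(⟨j, hj⟩ : J) ⊗ₜ[A] m, rfl⟩
      | zero =>
        exact fun m => ⟨0, by rw [map_zero, show (⟨0, _⟩ : a) = 0 from rfl, tmul_zero]⟩
      | add v w hv hw h1 h2 =>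
        intro m
        obtain ⟨x, hx⟩ := h1 m
        obtain ⟨y, hy⟩ := h2 m
        exact ⟨x + y, by rw [map_add, hx, hy, ← tmul_add]; rfl⟩
      | smul b v hv h =>
        intro m
        obtain ⟨x, hx⟩ := h (b • m)
        exact ⟨x, by rw [hx, TensorProduct.smul_tmul]; rfl⟩
  have h1 : Function.Injective (LinearMap.lTensor M a.subtype) := by
    rw [injective_iff_map_eq_zero]
    intro z hz
    obtain ⟨y, rfl⟩ := hΦ z
    have hy : ∀ y, TensorProduct.rid B M (a.subtype.lTensor M (Φ y)) =
        TensorProduct.lid A M (J.subtype.rTensor M y) := by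
      intro y
      induction y using TensorProduct.induction_on with
      | zero => simp
      | add x y hx hy => simp only [map_add, hx, hy]
      | tmul j m => simp [Φ, mu]
    have h0 : y = 0 := by
      apply Module.Flat.rTensor_preserves_injective_linearMap (M := M) J.subtype J.injective_subtype
      apply (TensorProduct.lid A M).injective
      rw [map_zero, map_zero, ← hy, hz, map_zero]
    rw [h0, map_zero]
  haveI : Module.Flat B M := FlatH4.flat_of_isNilpotent a ha h1 hc2
  haveI : Module.FaithfullyFlat B M := ⟨fun m hm => hd2 m hm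
    (ha.elim fun n hn => hm.isPrime.le_of_pow_le (n := n) (by rw [hn]; exact bot_le))⟩
  rw [Module.Flat.iff_lTensor_preserves_injective_linearMap]
  intro N N' _ _ _ _ g hg
  refine (Module.FaithfullyFlat.lTensor_injective_iff_injective B M
    (TensorProduct.AlgebraTensorModule.lTensor B B g)).1 ?_
  have hnat : ∀ x, TensorProduct.AlgebraTensorModule.cancelBaseChange A B B M N'
      ((TensorProduct.AlgebraTensorModule.lTensor B B g).lTensor M x) =
        g.lTensor M (TensorProduct.AlgebraTensorModule.cancelBaseChange A B B M N x) := by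
    intro x
    induction x using TensorProduct.induction_on with
    | zero => simp
    | add x y hx hy => simp only [map_add, hx, hy]
    | tmul m w =>
      induction w using TensorProduct.induction_on with
      | zero => simp
      | add x y hx hy => simp only [tmul_add, map_add, hx, hy]
      | tmul b n => simp
  intro x y hxy
  apply (TensorProduct.AlgebraTensorModule.cancelBaseChange A B B M N).injective
  apply Module.Flat.lTensor_preserves_injective_linearMap (M := M) g hg
  rw [← hnat, ← hnat, hxy]

end Groth.Agent.S4891
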