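import Groth.Statements.S4892
import Groth.Agent.Lib.GrFlat.Locus
import Mathlib.RingTheory.FiniteStability
import Mathlib.RingTheory.Spectrum.Prime.RingHom

set_option autoImplicit false
universe u
open TensorProduct
open EGA43

namespace Groth.Agent.S4892

open Groth.Agent.GrFlat Groth.Agent.FlatH4

/-- Localizing at `q` and at its image in `B ⧸ J` agree on modules tensored with `B ⧸ J`. -/
theorem flat_tensor_localized_iff {B : Type u} [CommRing B] (J : Ideal B) (X : Type u) [AddCommGroup X]
    [Module B X] (q : Ideal B) [q.IsPrime] (q' : Ideal (B ⧸ J)) [q'.IsPrime]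
    (hq : q'.comap (Ideal.Quotient.mk J) = q) :
    Module.Flat (B ⧸ J) ((B ⧸ J) ⊗[B] LocalizedModule q.primeCompl X) ↔
      Module.Flat (B ⧸ J) (LocalizedModule q'.primeCompl ((B ⧸ J) ⊗[B] X)) := by
  let g := LocalizedModule.mkLinearMap q.primeCompl X
  let g0 : (B ⧸ J) ⊗[B] X →ₗ[B ⧸ J] (B ⧸ J) ⊗[B] LocalizedModule q.primeCompl X := g.baseChange (B ⧸ J)
  haveI h1 : IsLocalizedModule q.primeCompl (g.rTensor (B ⧸ J)) :=
    IsLocalizedModule.rTensor (R := B) (A := B) (N := B ⧸ J) q.primeCompl g
  have h2 : g0.restrictScalars B = (TensorProduct.comm B _ _).toLinearMap ∘ₗ g.rTensor (B ⧸ J) ∘ₗ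
      (TensorProduct.comm B _ _).toLinearMap := by
    ext c x
    simp [g0]
  haveI h3 : IsLocalizedModule q.primeCompl (g0.restrictScalars B) := by
    rw [h2]
    haveI := IsLocalizedModule.of_linearEquiv_right q.primeCompl (g.rTensor (B ⧸ J))
      (TensorProduct.comm B (B ⧸ J) X)
    exact IsLocalizedModule.of_linearEquiv q.primeCompl
      (g.rTensor (B ⧸ J) ∘ₗ (TensorProduct.comm B (B ⧸ J) X).toLinearMap) (TensorProduct.comm B _ _)
  have h4 : Algebra.algebraMapSubmonoid (B ⧸ J) q.primeCompl = q'.primeCompl := by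
    ext y
    constructor
    · rintro ⟨b, hb, rfl⟩ hy
      exact hb (hq.le hy)
    · intro hy
      obtain ⟨b, rfl⟩ := Ideal.Quotient.mk_surjective y
      exact ⟨b, fun h => hy (hq.ge h), rfl⟩
  haveI h5 := IsLocalizedModule.of_restrictScalars q.primeCompl g0
  rw [h4] at h5
  exact Module.Flat.equiv_iff (IsLocalizedModule.iso q'.primeCompl g0).symm


/-- Affine form: let A be a commutative ring, B a finitely presented A-algebra, J a finitely generated
ideal of B and M a finitely presented B-module; assume that every graded piece J^k / J^{k+1} of B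
and every graded piece J^k M / J^{k+1} M of M is flat over A. Then the set W of primes q ⊇ J of B at
which M is normally flat along V(J) — every localisation (J^k M / J^{k+1} M)_q is flat over B/J — is
open in V(J); equivalently the set of primes q such that J ⊆ q implies this condition is open in
Spec B. Flatness over B/J of the localised piece N_q (a module killed by J) is expressed as flatness
of (B/J) ⊗_B N_q. -/
theorem result {A B : Type u} [CommRing A] [CommRing B] [Algebra A B]
    [Algebra.FinitePresentation A B] (J : Ideal B) (hJ : J.FG)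
    (M : Type u) [AddCommGroup M] [Module B M] [Module A M] [IsScalarTower A B M] [Module.FinitePresentation B M]
    (hgrB : ∀ k : ℕ, Module.Flat A (↥(J ^ k) ⧸ Submodule.comap (J ^ k).subtype (J ^ (k + 1))))
    (hgrM : ∀ k : ℕ, Module.Flat A
      (↥(J ^ k • (⊤ : Submodule B M)) ⧸ Submodule.comap (J ^ k • (⊤ : Submodule B M)).subtype (J ^ (k + 1) • ⊤))) :
    IsOpen {q : PrimeSpectrum B | J ≤ q.asIdeal → ∀ k : ℕ,
      Module.Flat (B ⧸ J) ((B ⧸ J) ⊗[B] LocalizedModule q.asIdeal.primeCompl
        (↥(J ^ k • (⊤ : Submodule B M)) ⧸ Submodule.comap (J ^ k • (⊤ : Submodule B M)).subtype (J ^ (k + 1) • ⊤)))} := by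
  classical
  haveI : ∀ k, Module.Flat A (Qt J M k) := by
    intro k
    induction k with
    | zero =>
      haveI := subsingleton_qt_zero J M
      infer_instance
    | succ k ih =>
      haveI := hgrM k
      exact flat_middle ((grIncl J M k).restrictScalars A)
        (grIncl_injective J M k) ((qtTr J M k).restrictScalars A)
        (fun z => exact_grIncl_qtTr J M k z) (qtTr_surjective J M k)
  obtain ⟨R, _, _, _, _, T, N, _, _, _, _, _, _, J₁, θ, ι, hR, hT, hN, h, hmap, hspan, hflat, hθ⟩ :=
    exists_flat_model A B M J hJ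
  subst hmap
  haveI : IsNoetherianRing T := Algebra.FiniteType.isNoetherianRing R T
  haveI : Algebra.FinitePresentation A (B ⧸ J₁.map θ) := Algebra.FinitePresentation.quotient hJ
  letI : Algebra T (B ⧸ J₁.map θ) := ((Ideal.Quotient.mk (J₁.map θ)).comp θ).toAlgebra
  haveI : IsNoetherianRing (reesAlgebra J₁) := inferInstance
  haveI : Algebra.FinitePresentation T (reesAlgebra J₁) := Algebra.FinitePresentation.of_finiteType.1 inferInstance
  haveI := grT_finite (J := J₁) (N := N)
  haveI : Module.FinitePresentation (reesAlgebra J₁) (GrT J₁ N) :=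
    Module.finitePresentation_of_finite _ _
  let R₀ := B ⧸ J₁.map θ
  let C := R₀ ⊗[T] (reesAlgebra J₁)
  letI : Algebra (reesAlgebra J₁) C := Algebra.TensorProduct.rightAlgebra
  let G := C ⊗[reesAlgebra J₁] GrT J₁ N
  haveI : Module.FinitePresentation C G := inferInstance
  have hopen := isOpen_flat_localized_base (A := R₀) (C := C) (G := G)
  let eG : G ≃ₗ[R₀] R₀ ⊗[T] GrT J₁ N :=
    Algebra.IsPushout.cancelBaseChange T R₀ (reesAlgebra J₁) C (GrT J₁ N)
  let eS : R₀ ⊗[T] GrT J₁ N ≃ₗ[R₀] DirectSum ℕ (fun k => R₀ ⊗[T] Gr J₁ N k) :=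
    (TensorProduct.AlgebraTensorModule.congr (LinearEquiv.refl R₀ R₀)
      (LinearEquiv.ofBijective _ (sectSum_bijective (R := T) J₁ N)).symm).trans
      (TensorProduct.directSumRight T R₀ R₀ fun k => Gr J₁ N k)
  have hΦ : ∀ k, Nonempty (R₀ ⊗[T] Gr J₁ N k ≃ₗ[R₀] R₀ ⊗[B] Gr (J₁.map θ) M k) := by
    intro k
    let φ : Gr J₁ N k →ₗ[T] R₀ ⊗[B] Gr (J₁.map θ) M k :=
      { toFun := fun g => (1 : R₀) ⊗ₜ[B] grMap h J₁ k g
        map_add' := fun a b => by rw [map_add, tmul_add]
        map_smul' := fun t g => by
          rw [RingHom.id_apply, grMap_smul, ← TensorProduct.smul_tmul, TensorProduct.smul_tmul']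
          congr 1 }
    let Φ := φ.liftBaseChange R₀
    let γ : A ⊗[R] Gr J₁ N k →+ R₀ ⊗[T] Gr J₁ N k := TensorProduct.liftAddHom
      (AddMonoidHom.mk' (fun a : A => AddMonoidHom.mk'
        (fun g : Gr J₁ N k => (algebraMap A R₀ a) ⊗ₜ[T] g) fun _ _ => tmul_add _ _ _)
        fun a b => by ext g; simp [add_tmul])
      (fun r a g => by
        show (algebraMap A R₀ (r • a)) ⊗ₜ[T] g = (algebraMap A R₀ a) ⊗ₜ[T] (r • g)
        rw [← algebraMap_smul T r g, ← TensorProduct.smul_tmul]
        congr 1
        rw [Algebra.smul_def, Algebra.smul_def, map_mul]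
        congr 1
        show Ideal.Quotient.mk (J₁.map θ) (algebraMap A B (algebraMap R A r)) =
          Ideal.Quotient.mk (J₁.map θ) (θ (algebraMap R T r))
        rw [hθ r])
    have hγ : Function.Surjective γ := by
      have key : ∀ (b : B) (g : Gr J₁ N k), (Ideal.Quotient.mk (J₁.map θ) b : R₀) ⊗ₜ[T] g ∈ Set.range γ := by
        intro b
        have hb : b ∈ Submodule.span A (Set.range θ) := hspan ▸ trivial
        induction hb using Submodule.span_induction with
        | mem y hy =>
          obtain ⟨t, rfl⟩ := hy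
          intro g
          refine ⟨(1 : A) ⊗ₜ (t • g), ?_⟩
          show (algebraMap A R₀ 1) ⊗ₜ[T] (t • g) = _
          rw [map_one, ← TensorProduct.smul_tmul]
          congr 1
          rw [Algebra.smul_def, mul_one]
          rfl
        | zero => intro g; exact ⟨0, by simp⟩
        | add x y _ _ hx hy =>
          intro g
          obtain ⟨u, hu⟩ := hx g
          obtain ⟨v, hv⟩ := hy g
          exact ⟨u + v, by rw [map_add, hu, hv, map_add, add_tmul]⟩
        | smul a x _ hx =>
          intro g
          obtain ⟨u, hu⟩ := hx g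
          refine ⟨a • u, ?_⟩
          have : ∀ u, γ (a • u) = (algebraMap A R₀ a) • γ u := by
            intro u
            induction u using TensorProduct.induction_on with
            | zero => simp
            | add x y hx hy => rw [smul_add, map_add, hx, hy, map_add, smul_add]
            | tmul c g =>
              show algebraMap A R₀ (a * c) ⊗ₜ[T] g = algebraMap A R₀ a • (algebraMap A R₀ c ⊗ₜ[T] g)
              rw [TensorProduct.smul_tmul', smul_eq_mul, map_mul]
          rw [this, hu, TensorProduct.smul_tmul', smul_eq_mul]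
          congr 1
          rw [Algebra.smul_def, map_mul]
          rfl
      intro y
      induction y using TensorProduct.induction_on with
      | zero => exact ⟨0, map_zero γ⟩
      | add x y hx hy =>
        obtain ⟨u, rfl⟩ := hx
        obtain ⟨v, rfl⟩ := hy
        exact ⟨u + v, map_add γ u v⟩
      | tmul c g =>
        obtain ⟨b, rfl⟩ := Ideal.Quotient.mk_surjective c
        exact key b g
    refine ⟨LinearEquiv.ofBijective Φ ⟨?_, ?_⟩⟩
    · rw [injective_iff_map_eq_zero]
      intro y hy
      obtain ⟨z, rfl⟩ := hγ y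
      suffices hz : z = 0 by rw [hz, map_zero]
      refine grMap_liftBaseChange_injective h k z ?_
      -- `G → R₀ ⊗ G` has a retraction
      have htor : Module.IsTorsionBySet B (Gr (J₁.map θ) M k) (J₁.map θ : Set B) := fun x r => by
        obtain ⟨v, rfl⟩ := Submodule.Quotient.mk_surjective _ x
        rw [← Submodule.Quotient.mk_smul]
        refine (Submodule.Quotient.mk_eq_zero _).2 ?_
        rw [Submodule.mem_comap]
        show (r : B) • (v : M) ∈ _
        rw [pow_succ', mul_smul]
        exact Submodule.smul_mem_smul r.2 v.2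
      letI : Module R₀ (Gr (J₁.map θ) M k) := htor.module
      haveI : IsScalarTower B R₀ (Gr (J₁.map θ) M k) := htor.isScalarTower (S := B)
      let ρ := (LinearMap.id : Gr (J₁.map θ) M k →ₗ[B] Gr (J₁.map θ) M k).liftBaseChange R₀
      have h0 := congrArg ρ hy
      rw [map_zero] at h0
      rw [← h0]
      clear hy h0
      induction z using TensorProduct.induction_on with
      | zero => simp
      | add x y hx hy => simp only [map_add, hx, hy]
      | tmul a g =>
        have hΦγ : Φ (γ (a ⊗ₜ[R] g)) = algebraMap A R₀ a • ((1 : R₀) ⊗ₜ[B] grMap h J₁ k g) := by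
          simp [Φ, φ, γ]
        rw [hΦγ]
        simp only [TensorProduct.liftAddHom_tmul, AddMonoidHom.mk'_apply]
        rw [map_smul, LinearMap.liftBaseChange_tmul, one_smul, LinearMap.id_apply,
          IsScalarTower.algebraMap_apply A B R₀, algebraMap_smul, algebraMap_smul]
    · intro y
      induction y using TensorProduct.induction_on with
      | zero => exact ⟨0, map_zero Φ⟩
      | add x y hx hy =>
        obtain ⟨u, rfl⟩ := hx
        obtain ⟨v, rfl⟩ := hy
        exact ⟨u + v, map_add Φ u v⟩
      | tmul c g =>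
        have hg : g ∈ Submodule.span A (Set.range (grMap h J₁ k)) := (span_range_grMap h k).ge trivial
        induction hg using Submodule.span_induction generalizing c with
        | mem w hw =>
          obtain ⟨w, rfl⟩ := hw
          refine ⟨c ⊗ₜ[T] w, ?_⟩
          simp [Φ, φ, TensorProduct.smul_tmul']
        | zero => exact ⟨0, by simp⟩
        | add u v _ _ hu hv =>
          obtain ⟨p, hp⟩ := hu c
          obtain ⟨r, hr⟩ := hv c
          exact ⟨p + r, by rw [map_add, hp, hr, tmul_add]⟩
        | smul a u _ hu =>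
          obtain ⟨p, hp⟩ := hu (algebraMap A R₀ a * c)
          refine ⟨p, hp.trans ?_⟩
          rw [← algebraMap_smul B a u, ← TensorProduct.smul_tmul, Algebra.smul_def,
            ← IsScalarTower.algebraMap_apply A B R₀]
  let eT : G ≃ₗ[R₀] DirectSum ℕ (fun k => R₀ ⊗[B] Gr (J₁.map θ) M k) :=
    (eG.trans eS).trans (DFinsupp.mapRange.linearEquiv fun k => (hΦ k).some)
  have hloc : ∀ q' : PrimeSpectrum R₀, Module.Flat R₀ (LocalizedModule q'.asIdeal.primeCompl G) ↔
      ∀ k, Module.Flat R₀ (LocalizedModule q'.asIdeal.primeCompl (R₀ ⊗[B] Gr (J₁.map θ) M k)) := fun q' => by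
    rw [← flat_localized_directSum_iff]
    exact Module.Flat.equiv_iff ((IsLocalizedModule.mapEquiv q'.asIdeal.primeCompl
      (LocalizedModule.mkLinearMap _ G) (LocalizedModule.mkLinearMap _ _) (Localization q'.asIdeal.primeCompl) eT).restrictScalars R₀)
  have hcl := (PrimeSpectrum.isClosedEmbedding_comap_of_surjective _ (Ideal.Quotient.mk (J₁.map θ))
    Ideal.Quotient.mk_surjective).isClosedMap _ hopen.isClosed_compl
  rw [← isClosed_compl_iff]
  convert hcl using 1
  ext q
  rw [Set.mem_compl_iff, Set.mem_ofPred_eq, Set.mem_image]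
  constructor
  · intro hq
    push Not at hq
    obtain ⟨hle, k, hk⟩ := hq
    have hqr : q ∈ Set.range (PrimeSpectrum.comap (Ideal.Quotient.mk (J₁.map θ))) := by
      rw [range_comap_of_surjective _ _ Ideal.Quotient.mk_surjective, Ideal.mk_ker]
      exact hle
    obtain ⟨q', rfl⟩ := hqr
    refine ⟨q', fun hfl => hk ?_, rfl⟩
    exact (flat_tensor_localized_iff _ _ _ q'.asIdeal rfl).2 ((hloc q').1 hfl k)
  · rintro ⟨q', hq', rfl⟩ hall
    apply hq'
    refine (hloc q').2 fun k => (flat_tensor_localized_iff _ _ _ q'.asIdeal rfl).1 (hall ?_ k)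
    exact fun b hb => by
      show Ideal.Quotient.mk (J₁.map θ) b ∈ q'.asIdeal
      rw [Ideal.Quotient.eq_zero_iff_mem.2 hb]; exact zero_mem _

end Groth.Agent.S4892
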