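import Groth.Statements.S4893
import Groth.Agent.Lib.EGA43Top.QuasiHomeo

set_option autoImplicit false
universe u
open EGA43

namespace Groth.Agent.S4893

/-- Let f : X → Y be a quasi-homeomorphism (continuous, with U ↦ f⁻¹(U) a bijection from the open
subsets of Y onto the open subsets of X) and Y' a locally quasi-constructible subset of Y. Then the
restriction f⁻¹(Y') → Y' of f is a quasi-homeomorphism. -/
theorem result {X Y : Type u} [TopologicalSpace X]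
    [TopologicalSpace Y] (f : X → Y) (hf : Continuous f)
    (hq : ((∀ U₁ U₂ : Set Y, IsOpen U₁ → IsOpen U₂ → (f) ⁻¹' U₁ = (f) ⁻¹' U₂ → U₁ = U₂) ∧ (∀ V : Set X, IsOpen V → ∃ U : Set Y, IsOpen U ∧ (f) ⁻¹' U = V)))
    (Y' : Set Y) (hY' : (∀ y : Y, ∃ U : Set Y, IsOpen U ∧ y ∈ U ∧ ∃ T : Set (Set Y), T.Finite ∧ (∀ t ∈ T, IsLocallyClosed t) ∧ U ∩ Y' = ⋃₀ T)) :
    ((∀ U₁ U₂ : Set ↥Y', IsOpen U₁ → IsOpen U₂ → (Y'.restrictPreimage f) ⁻¹' U₁ = (Y'.restrictPreimage f) ⁻¹' U₂ → U₁ = U₂) ∧ (∀ V : Set ↥(f ⁻¹' Y'), IsOpen V → ∃ U : Set ↥Y', IsOpen U ∧ (Y'.restrictPreimage f) ⁻¹' U = V)) := by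
  have h := (⟨hf, hq.1, hq.2⟩ : Groth.Agent.EGA43Top.IsQH f).restrictPreimage (Y' := Y') hY'
  exact ⟨h.inj, h.surj⟩

end Groth.Agent.S4893
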