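import Groth.Statements.S4894
-- import your own Groth.Agent.* helpers here

set_option autoImplicit false
universe u
open EGA43

namespace Groth.Agent.S4894

/-- Let f : X → Y be continuous and (W_i) an open covering of Y such that every restriction f⁻¹(W_i) →
W_i is a quasi-homeomorphism (taking preimages is a bijection on open subsets). Then f is a
quasi-homeomorphism. -/
theorem result {X Y : Type u} [TopologicalSpace X]
    [TopologicalSpace Y] (f : X → Y) (hf : Continuous f) {ι : Type u} (W : ι → Set Y)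
    (hWo : ∀ i, IsOpen (W i)) (hWc : ⋃ i, W i = Set.univ)
    (h : ∀ i, ((∀ U₁ U₂ : Set ↥(W i), IsOpen U₁ → IsOpen U₂ → ((W i).restrictPreimage f) ⁻¹' U₁ = ((W i).restrictPreimage f) ⁻¹' U₂ → U₁ = U₂) ∧ (∀ V : Set ↥(f ⁻¹' W i), IsOpen V → ∃ U : Set ↥(W i), IsOpen U ∧ ((W i).restrictPreimage f) ⁻¹' U = V))) :
    ((∀ U₁ U₂ : Set Y, IsOpen U₁ → IsOpen U₂ → (f) ⁻¹' U₁ = (f) ⁻¹' U₂ → U₁ = U₂) ∧ (∀ V : Set X, IsOpen V → ∃ U : Set Y, IsOpen U ∧ (f) ⁻¹' U = V)) := by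
  constructor
  · intro U₁ U₂ hU₁ hU₂ e
    ext y
    obtain ⟨i, hi⟩ := Set.mem_iUnion.1 (hWc.superset (Set.mem_univ y))
    have := (h i).1 (Subtype.val ⁻¹' U₁) (Subtype.val ⁻¹' U₂) (hU₁.preimage continuous_subtype_val)
      (hU₂.preimage continuous_subtype_val) (Set.ext fun z => Set.ext_iff.1 e z.1)
    exact Set.ext_iff.1 this ⟨y, hi⟩
  · intro V hV
    choose U hU hUV using fun i => (h i).2 (Subtype.val ⁻¹' V) (hV.preimage continuous_subtype_val)
    refine ⟨⋃ i, Subtype.val '' U i, isOpen_iUnion fun i => (hWo i).isOpenMap_subtype_val _ (hU i), ?_⟩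
    ext x
    simp only [Set.mem_preimage, Set.mem_iUnion, Set.mem_image]
    constructor
    · rintro ⟨i, z, hz, hzx⟩
      have hx : f x ∈ W i := hzx ▸ z.2
      have : z = ⟨f x, hx⟩ := Subtype.ext hzx
      exact (Set.ext_iff.1 (hUV i) ⟨x, hx⟩).1 (this ▸ hz :)
    · intro hx
      obtain ⟨i, hi⟩ := Set.mem_iUnion.1 (hWc.superset (Set.mem_univ (f x)))
      exact ⟨i, ⟨f x, hi⟩, (Set.ext_iff.1 (hUV i) ⟨x, hi⟩).2 hx, rfl⟩

end Groth.Agent.S4894
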