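import Groth.Statements.S4895
import Groth.Agent.Lib.RectDepth5.Chart
-- import your own Groth.Agent.* helpers here

set_option autoImplicit false
universe u
open CategoryTheory AlgebraicGeometry
open EGA43

namespace Groth.Agent.S4895

/-- Let S be a locally Noetherian scheme which is Jacobson and regular and whose irreducible components
are equidimensional (for every irreducible component S' and every closed point s of S', dim S'
equals the dimension of the space of generizations of s in S'); let g : X ⟶ S be locally of finite
type and F a coherent O_X-module. Then the rectified depth prof*_x(F) = prof(F_x) + dim cl{x} is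
lower semicontinuous on X: for every integer n, the set of points x of X with prof(F_x) + dim cl{x}
≥ n is open. -/
theorem result {X S : Scheme.{u}} [IsLocallyNoetherian S] [JacobsonSpace S]
    (hreg : ∀ s : S, IsRegularLocalRing ↑(S.presheaf.stalk s))
    (h3 : ∀ S' ∈ irreducibleComponents (S : Type u), ∀ s ∈ S', IsClosed ({s} : Set S) →
      topologicalKrullDim (↥S' : Type u) = topologicalKrullDim ↥{t : S | t ∈ S' ∧ t ⤳ s})
    (g : X ⟶ S) [LocallyOfFiniteType g] (F : X.Modules) (hF : Coh.IsCoh F) (n : ℕ) :
    IsOpen {x : X | (n : WithBot ℕ∞) ≤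
      ((LocCoh.depth ↑(X.presheaf.stalk x) ↑(F.presheaf.stalk x) : ℕ∞) : WithBot ℕ∞) +
        topologicalKrullDim ↥(closure ({x} : Set X))} := by
  haveI : IsLocallyNoetherian X := LocallyOfFiniteType.isLocallyNoetherian g
  rw [isOpen_iff_forall_mem_open]
  intro x hx
  obtain ⟨W, hW, hxW, hWf⟩ := Groth.Agent.RectDepth5.exists_nhd_scheme hreg h3 g F hF x
  exact ⟨W, fun z hz => le_trans hx (hWf z hz).1, hW, hxW⟩

end Groth.Agent.S4895
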