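import Groth.Statements.S4896
import Groth.Agent.Lib.RectDepth5.Chart
-- import your own Groth.Agent.* helpers here

set_option autoImplicit false
universe u
open CategoryTheory AlgebraicGeometry
open EGA43

namespace Groth.Agent.S4896

/-- Let S be locally Noetherian, Jacobson and regular with equidimensional irreducible components, g : X
⟶ S locally of finite type and F a coherent O_X-module. For every point x of X the rectified depth
prof*_x(F) = prof(F_x) + dim cl{x} is the unique n (a natural number or ∞) such that, for some open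
neighbourhood U of x, prof(F_{x'}) = n for every point x' of U ∩ cl{x} which is closed in U. -/
theorem result {X S : Scheme.{u}} [IsLocallyNoetherian S] [JacobsonSpace S]
    (hreg : ∀ s : S, IsRegularLocalRing ↑(S.presheaf.stalk s))
    (h3 : ∀ S' ∈ irreducibleComponents (S : Type u), ∀ s ∈ S', IsClosed ({s} : Set S) →
      topologicalKrullDim (↥S' : Type u) = topologicalKrullDim ↥{t : S | t ∈ S' ∧ t ⤳ s})
    (g : X ⟶ S) [LocallyOfFiniteType g] (F : X.Modules) (hF : Coh.IsCoh F) (x : X) :
    letI pstar : WithBot ℕ∞ :=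
      ((LocCoh.depth ↑(X.presheaf.stalk x) ↑(F.presheaf.stalk x) : ℕ∞) : WithBot ℕ∞) +
        topologicalKrullDim ↥(closure ({x} : Set X))
    ∀ n : ℕ∞,
      (∃ U : X.Opens, x ∈ U ∧ ∀ x' : ↥U, (x' : X) ∈ closure ({x} : Set X) → IsClosed ({x'} : Set ↥U) →
        LocCoh.depth ↑(X.presheaf.stalk (x' : X)) ↑(F.presheaf.stalk (x' : X)) = n) ↔
      ((n : WithBot ℕ∞) = pstar) := by
  intro n
  haveI : IsLocallyNoetherian X := LocallyOfFiniteType.isLocallyNoetherian g
  haveI : JacobsonSpace X := LocallyOfFiniteType.jacobsonSpace g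
  obtain ⟨W, hW, hxW, hWf⟩ := Groth.Agent.RectDepth5.exists_nhd_scheme hreg h3 g F hF x
  -- a point closed in an open subset is closed
  have hclosed : ∀ (U : X.Opens) (x' : ↥U), IsClosed ({x'} : Set ↥U) → IsClosed ({(x' : X)} : Set X) :=
    fun U x' h => by
      have hlc : IsLocallyClosed ({(x' : X)} : Set X) := by
        have := h.isLocallyClosed.image U.2.isOpenEmbedding_subtypeVal.isInducing
          (U.2.isOpenEmbedding_subtypeVal.isOpen_range.isLocallyClosed)
        rwa [Set.image_singleton] at this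
      exact isClosed_singleton_of_isLocallyClosed_singleton hlc
  have hval : ∀ z ∈ W, x ⤳ z → IsClosed ({z} : Set X) →
      ((LocCoh.depth ↑(X.presheaf.stalk z) ↑(F.presheaf.stalk z) : ℕ∞) : WithBot ℕ∞) =
        Groth.Agent.RectDepth5.F' F x := fun z hz hxz hzc => by
    haveI : Nonempty ↥(closure ({z} : Set X)) := ⟨⟨z, subset_closure rfl⟩⟩
    haveI : Subsingleton ↥(closure ({z} : Set X)) := by
      rw [hzc.closure_eq]
      infer_instance
    have h0 : topologicalKrullDim ↥(closure ({z} : Set X)) = 0 := by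
      haveI : Subsingleton (TopologicalSpace.IrreducibleCloseds ↥(closure ({z} : Set X))) :=
        ⟨fun a b => TopologicalSpace.IrreducibleCloseds.ext (Set.ext fun w =>
          ⟨fun _ => Subsingleton.elim b.isIrreducible.nonempty.some w ▸ b.isIrreducible.nonempty.some_mem,
           fun _ => Subsingleton.elim a.isIrreducible.nonempty.some w ▸ a.isIrreducible.nonempty.some_mem⟩)⟩
      haveI : Nonempty (TopologicalSpace.IrreducibleCloseds ↥(closure ({z} : Set X))) :=
        ⟨⟨closure {⟨z, subset_closure rfl⟩}, isIrreducible_singleton.closure, isClosed_closure⟩⟩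
      exact le_antisymm Order.krullDim_nonpos_of_subsingleton Order.krullDim_nonneg
    rw [← (hWf z hz).2 hxz, Groth.Agent.RectDepth5.F', h0, add_zero]
  constructor
  · rintro ⟨U, hxU, hU⟩
    obtain ⟨z, ⟨⟨hzU, hzW⟩, hzx⟩, hzc⟩ := nonempty_inter_closedPoints (X := X) (Z := (↑U ∩ W) ∩ closure {x})
      ⟨x, ⟨hxU, hxW⟩, subset_closure rfl⟩ ((U.2.inter hW).isLocallyClosed.inter isClosed_closure.isLocallyClosed)
    have hzU' : IsClosed ({(⟨z, hzU⟩ : ↥U)} : Set ↥U) := by
      convert IsClosed.preimage continuous_subtype_val hzc using 1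
      exact Set.ext fun w => Subtype.ext_iff
    rw [← hU ⟨z, hzU⟩ hzx hzU', hval z hzW (specializes_iff_mem_closure.2 hzx) hzc]
    rfl
  · intro hn
    refine ⟨⟨W, hW⟩, hxW, fun z hzx hzc => ?_⟩
    have h := hval z.1 z.2 (specializes_iff_mem_closure.2 hzx) (hclosed _ z hzc)
    exact WithBot.coe_inj.1 (h.trans hn.symm)

end Groth.Agent.S4896
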