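import Groth.Statements.S4897
import Groth.Agent.Lib.EGA43Top.QuasiHomeo

set_option autoImplicit false
universe u
open EGA43

namespace Groth.Agent.S4897

/-- Let f : X → Y be a quasi-homeomorphism, i.e. a continuous map such that U ↦ f⁻¹(U) is a bijection
from the open subsets of Y onto the open subsets of X. Then Z ↦ f⁻¹(Z) induces bijections from the
locally closed (resp. constructible, resp. locally constructible) subsets of Y onto those of X. -/
theorem result {X Y : Type u}
    [TopologicalSpace X] [TopologicalSpace Y] (f : X → Y) (hf : Continuous f)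
    (hq : Function.Bijective (fun U : TopologicalSpace.Opens Y =>
      (⟨f ⁻¹' (U : Set Y), U.isOpen.preimage hf⟩ : TopologicalSpace.Opens X))) :
    Function.Bijective (fun Z : {Z : Set Y // IsLocallyClosed Z} =>
        (⟨f ⁻¹' Z.1, Z.2.preimage hf⟩ : {Z : Set X // IsLocallyClosed Z})) ∧
      Set.BijOn (fun Z : Set Y => f ⁻¹' Z) {Z | Topology.IsConstructible Z} {Z | Topology.IsConstructible Z} ∧
      Set.BijOn (fun Z : Set Y => f ⁻¹' Z) {Z | Topology.IsLocallyConstructible Z}
        {Z | Topology.IsLocallyConstructible Z} := by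
  have h := (Groth.Agent.EGA43Top.isQH_iff_bijective hf).2 hq
  refine ⟨⟨fun Z Z' e => Subtype.ext (h.eq_of_preimage_eq
      (Groth.Agent.EGA43Top.isQC_of_isLocallyClosed Z.2).isLQC
      (Groth.Agent.EGA43Top.isQC_of_isLocallyClosed Z'.2).isLQC (congrArg Subtype.val e)), ?_⟩, ?_, ?_⟩
  · intro Z
    obtain ⟨W, hW, e⟩ := h.surj_lc Z.2
    exact ⟨⟨W, hW⟩, Subtype.ext e⟩
  · exact ⟨fun Z hZ => h.preimage_isConstructible hZ, fun Z hZ Z' hZ' e => h.eq_of_preimage_eq
      (Groth.Agent.EGA43Top.isQC_of_isConstructible hZ).1.isLQC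
      (Groth.Agent.EGA43Top.isQC_of_isConstructible hZ').1.isLQC e,
      fun Z hZ => h.surj_constructible hZ⟩
  · exact ⟨fun Z hZ => h.preimage_isLocallyConstructible hZ, fun Z hZ Z' hZ' e => h.eq_of_preimage_eq
      (Groth.Agent.EGA43Top.isLQC_of_isLocallyConstructible hZ)
      (Groth.Agent.EGA43Top.isLQC_of_isLocallyConstructible hZ') e,
      fun Z hZ => h.surj_locallyConstructible hZ⟩

end Groth.Agent.S4897
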