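import Groth.Statements.S4898
import Groth.Agent.Lib.Flattening.Basic
import Groth.Agent.Lib.FlatH4.PullFlat
import Groth.Agent.Lib.FlatSyz.ProjDim
import Groth.Agent.Lib.ModM1.Coh
import Mathlib.AlgebraicGeometry.Morphisms.QuasiCompact
import Mathlib.RingTheory.Spectrum.Prime.Topology

set_option autoImplicit false
universe u
open CategoryTheory AlgebraicGeometry
open EGA43

namespace Groth.Agent.S4898

open CategoryTheory Limits AlgebraicGeometry TensorProduct in
/-- Flatness of the pullback on one chart, in terms of sections. -/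
theorem flatOn_iff {A : Type u} [CommRing A] {X : Scheme.{u}} (f : X ⟶ Spec (CommRingCat.of A))
    (F : X.Modules) [Coh.IsQCoh F] {T : Scheme.{u}} [IsAffine T] (g : T ⟶ Spec (CommRingCat.of A))
    {U : X.Opens} (hU : IsAffineOpen U) :
    letI := (f.appLE ⊤ U le_top).hom.toAlgebra
    letI := (g.appLE ⊤ ⊤ le_top).hom.toAlgebra
    letI := Groth.Agent.FlatH4.secModuleOver f F ⊤ U le_top
    ((∀ x' : ↥(pullback f g), pullback.fst f g x' ∈ U →
        FlatMod.IsFlatOverAt (pullback.snd f g) ((Scheme.Modules.pullback (pullback.fst f g)).obj F) x') ↔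
      Module.Flat Γ(T, ⊤) (Γ(T, ⊤) ⊗[Γ(Spec (CommRingCat.of A), ⊤)] Γ(F, U))) := by
  letI := (f.appLE ⊤ U le_top).hom.toAlgebra
  letI := (g.appLE ⊤ ⊤ le_top).hom.toAlgebra
  letI := Groth.Agent.FlatH4.secModuleOver f F ⊤ U le_top
  haveI : IsScalarTower Γ(Spec (CommRingCat.of A), ⊤) Γ(X, U) Γ(F, U) :=
    IsScalarTower.of_algebraMap_smul fun _ _ => rfl
  have H := IsPullback.of_hasPullback f g
  let W' := pullback.fst f g ⁻¹ᵁ U ⊓ pullback.snd f g ⁻¹ᵁ (⊤ : T.Opens)
  have hW' : IsAffineOpen W' :=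
    Groth.Agent.FlatH4.isAffineOpen_of_isPullback H (le_top : (⊤ : T.Opens) ≤ g ⁻¹ᵁ ⊤) (le_top : U ≤ f ⁻¹ᵁ ⊤) rfl
      (isAffineOpen_top _) (isAffineOpen_top _) hU
  have eX : W' ≤ pullback.fst f g ⁻¹ᵁ U := inf_le_left
  have eY : W' ≤ pullback.snd f g ⁻¹ᵁ (⊤ : T.Opens) := inf_le_right
  letI : Algebra Γ(X, U) Γ(pullback f g, W') := ((pullback.fst f g).appLE U W' eX).hom.toAlgebra
  letI : Algebra Γ(T, ⊤) Γ(pullback f g, W') := ((pullback.snd f g).appLE ⊤ W' eY).hom.toAlgebra
  letI : Algebra Γ(Spec (CommRingCat.of A), ⊤) Γ(pullback f g, W') :=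
    ((algebraMap Γ(X, U) Γ(pullback f g, W')).comp (algebraMap Γ(Spec (CommRingCat.of A), ⊤) Γ(X, U))).toAlgebra
  haveI : IsScalarTower Γ(Spec (CommRingCat.of A), ⊤) Γ(X, U) Γ(pullback f g, W') :=
    IsScalarTower.of_algebraMap_eq fun _ => rfl
  haveI : IsScalarTower Γ(Spec (CommRingCat.of A), ⊤) Γ(T, ⊤) Γ(pullback f g, W') :=
    IsScalarTower.of_algebraMap_eq fun r => by
      show (f.appLE ⊤ U le_top ≫ (pullback.fst f g).appLE U W' eX) r =
        (g.appLE ⊤ ⊤ le_top ≫ (pullback.snd f g).appLE ⊤ W' eY) r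
      rw [Scheme.Hom.appLE_comp_appLE, Scheme.Hom.appLE_comp_appLE]
      simp only [H.w]
  haveI := Groth.Agent.FlatH4.algebra_isPushout_sections H (le_top : (⊤ : T.Opens) ≤ g ⁻¹ᵁ ⊤) (le_top : U ≤ f ⁻¹ᵁ ⊤)
    (UY := W') rfl (isAffineOpen_top _) (isAffineOpen_top _) hU rfl rfl rfl rfl
  let e := Algebra.IsPushout.cancelBaseChange Γ(Spec (CommRingCat.of A), ⊤) Γ(T, ⊤) Γ(X, U)
    Γ(pullback f g, W') Γ(F, U)
  rw [← Module.Flat.equiv_iff e]
  constructor
  · intro h
    refine Groth.Agent.FlatH4.flat_of_localized_maximal_algebra (S := Γ(pullback f g, W')) fun q _ => ?_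
    obtain ⟨⟨x', hx'⟩, hq⟩ := hW'.isoSpec.hom.surjective ⟨q, inferInstance⟩
    have hq' : (hW'.primeIdealOf ⟨x', hx'⟩).asIdeal = q := congrArg PrimeSpectrum.asIdeal hq
    have h1 := (Groth.Agent.FlatH4.isFlatOverAt_pullback_iff (pullback.fst f g) F hU hW' eX (pullback.snd f g) ⊤
      (isAffineOpen_top _) eY hx').1 (h x' hx'.1)
    have hc : q.primeCompl = (hW'.primeIdealOf ⟨x', hx'⟩).asIdeal.primeCompl :=
      SetLike.ext fun z => not_congr (by rw [hq'])
    rw [hc]
    exact h1
  · intro h x' hx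
    refine (Groth.Agent.FlatH4.isFlatOverAt_pullback_iff (pullback.fst f g) F hU hW' eX (pullback.snd f g) ⊤
      (isAffineOpen_top _) eY (x' := x') ⟨hx, trivial⟩).2 ?_
    exact FlatSyz.flat_localizedModule _

open CategoryTheory.Limits in
/-- Over an affine irreducible base, tested on affine base changes, to which the general statement
reduces: let A be a commutative ring whose spectrum is irreducible, f : X ⟶ Spec A a morphism of
finite presentation and F a quasi-coherent O_X-module of finite presentation. Then there are an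
element h of A which is not nilpotent (so that U = Spec A_h is a nonempty open subset of Spec A) and
a finitely generated ideal J of A_h contained in the nilradical (so that the closed subscheme Z =
V(J) of U, of finite presentation over U, has the same underlying space as U) such that for every
A_h-algebra A' the pullback of F to X ×_{Spec A} Spec A' is flat over Spec A' if and only if J
generates the zero ideal of A', i.e. if and only if Spec A' ⟶ U factors through Z. (The published
statement also asserts that, for a finite affine open cover (W_i) of X, U can be chosen so that the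
sections of the pullback of F over each W_i ×_{Spec A} Spec A' form a free A'-module whenever Spec
A' ⟶ U factors through Z; this row omits that assertion.) -/
theorem result {A : Type u} [CommRing A] [IrreducibleSpace (PrimeSpectrum A)]
    {X : Scheme.{u}} (f : X ⟶ Spec (CommRingCat.of A))
    [LocallyOfFinitePresentation f] [QuasiCompact f] [QuasiSeparated f]
    (F : X.Modules) [Coh.IsQCoh F] (hF : CohB1.IsFP F) :
    ∃ (h : A) (_ : ¬ IsNilpotent h) (J : Ideal (Localization.Away h)) (_ : J.FG)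
      (_ : J ≤ nilradical (Localization.Away h)),
      ∀ (A' : Type u) [CommRing A'] [Algebra (Localization.Away h) A'],
        letI g : Spec (CommRingCat.of A') ⟶ Spec (CommRingCat.of A) :=
          Spec.map (CommRingCat.ofHom ((algebraMap (Localization.Away h) A').comp (algebraMap A (Localization.Away h))))
        (FlatMod.IsFlatOver (pullback.snd f g) ((Scheme.Modules.pullback (pullback.fst f g)).obj F) ↔
          Ideal.map (algebraMap (Localization.Away h) A') J = ⊥) := by
  classical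
  let Y := Spec (CommRingCat.of A)
  let Γ₀ := Γ(Y, ⊤)
  let iA : A →+* Γ₀ := (Scheme.ΓSpecIso (CommRingCat.of A)).inv.hom
  let jA : Γ₀ →+* A := (Scheme.ΓSpecIso (CommRingCat.of A)).hom.hom
  have hij : ∀ a, jA (iA a) = a := fun a => by
    show ((Scheme.ΓSpecIso (CommRingCat.of A)).inv ≫ (Scheme.ΓSpecIso (CommRingCat.of A)).hom) a = a
    rw [Iso.inv_hom_id]; rfl
  have hji : ∀ a, iA (jA a) = a := fun a => by
    show ((Scheme.ΓSpecIso (CommRingCat.of A)).hom ≫ (Scheme.ΓSpecIso (CommRingCat.of A)).inv) a = a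
    rw [Iso.hom_inv_id]; rfl
  have hjinj : Function.Injective jA := Function.LeftInverse.injective hji
  have hprimeA : (nilradical A).IsPrime := by
    have h := (PrimeSpectrum.isIrreducible_iff_vanishingIdeal_isPrime
      (s := (Set.univ : Set (PrimeSpectrum A)))).1 (IrreducibleSpace.isIrreducible_univ (PrimeSpectrum A))
    rwa [← PrimeSpectrum.zeroLocus_bot, PrimeSpectrum.vanishingIdeal_zeroLocus_eq_radical] at h
  have hnil : ∀ x : Γ₀, x ∈ nilradical Γ₀ ↔ jA x ∈ nilradical A := fun x => by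
    rw [mem_nilradical, mem_nilradical]
    exact (IsNilpotent.map_iff hjinj).symm
  have hprime : (nilradical Γ₀).IsPrime := by
    rw [show nilradical Γ₀ = (nilradical A).comap jA from Ideal.ext hnil]
    exact hprimeA.comap jA
  haveI : CompactSpace X := QuasiCompact.compactSpace_of_compactSpace f
  obtain ⟨t, ht⟩ := IsCompact.elim_finite_subcover (isCompact_univ (X := X))
    (fun U : X.affineOpens => (U.1 : Set X)) (fun U => U.1.2)
    (fun x _ => by
      obtain ⟨U, hU, hxU, -⟩ := exists_isAffineOpen_mem_and_subset (X := X) (x := x) (U := ⊤) trivial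
      exact Set.mem_iUnion.2 ⟨⟨U, hU⟩, hxU⟩)
  letI : ∀ U : X.affineOpens, Algebra Γ₀ Γ(X, U.1) := fun U => (f.appLE ⊤ U.1 le_top).hom.toAlgebra
  letI : ∀ U : X.affineOpens, Module Γ₀ Γ(F, U.1) := fun U => Groth.Agent.FlatH4.secModuleOver f F ⊤ U.1 le_top
  haveI : ∀ U : X.affineOpens, IsScalarTower Γ₀ Γ(X, U.1) Γ(F, U.1) := fun U =>
    IsScalarTower.of_algebraMap_smul fun _ _ => rfl
  haveI : ∀ U : X.affineOpens, Algebra.FinitePresentation Γ₀ Γ(X, U.1) := fun U =>
    f.finitePresentation_appLE (isAffineOpen_top Y) U.2 le_top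
  haveI : ∀ U : X.affineOpens, Module.FinitePresentation Γ(X, U.1) Γ(F, U.1) := fun U =>
    M1.finitePresentation_sections hF U.2
  obtain ⟨h₀, hh₀, J₀, hJ₀, hJ₀le, hiff⟩ := Flattening.exists_flattening_family Γ₀ hprime t
    (fun U : X.affineOpens => Γ(X, U.1)) (fun U : X.affineOpens => Γ(F, U.1))
  let h := jA h₀
  let φ : Γ₀ →+* Localization.Away h := (algebraMap A (Localization.Away h)).comp jA
  refine ⟨h, fun hn => hh₀ ((hnil h₀).2 hn), J₀.map φ, hJ₀.map φ, ?_, fun A' _ _ => ?_⟩
  · refine (Ideal.map_mono hJ₀le).trans ?_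
    rw [Ideal.map_le_iff_le_comap]
    exact fun x hx => mem_nilradical.2 ((mem_nilradical.1 hx).map φ)
  set g := Spec.map (CommRingCat.ofHom
    ((algebraMap (Localization.Away h) A').comp (algebraMap A (Localization.Away h)))) with hg
  let T := Spec (CommRingCat.of A')
  let ρ : Γ₀ →+* Γ(T, ⊤) := (g.appLE ⊤ ⊤ le_top).hom
  let iA' : A' →+* Γ(T, ⊤) := (Scheme.ΓSpecIso (CommRingCat.of A')).inv.hom
  have hiA' : Function.Injective iA' := by
    refine Function.LeftInverse.injective (g := (Scheme.ΓSpecIso (CommRingCat.of A')).hom.hom) fun a => ?_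
    show ((Scheme.ΓSpecIso (CommRingCat.of A')).inv ≫ (Scheme.ΓSpecIso (CommRingCat.of A')).hom) a = a
    rw [Iso.inv_hom_id]; rfl
  have hρ : ∀ x, ρ x = iA' (algebraMap (Localization.Away h) A' (φ x)) := by
    intro x
    have h1 := congr($(Scheme.ΓSpecIso_inv_naturality (CommRingCat.ofHom
      ((algebraMap (Localization.Away h) A').comp (algebraMap A (Localization.Away h))))) (jA x))
    show g.appLE ⊤ ⊤ le_top x = _
    rw [show g.appLE ⊤ ⊤ le_top = g.appTop from (Scheme.Hom.app_eq_appLE g).symm]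
    conv_lhs => rw [← hji x]
    exact h1.symm
  letI : Algebra Γ₀ Γ(T, ⊤) := ρ.toAlgebra
  have hu : IsUnit (algebraMap Γ₀ Γ(T, ⊤) h₀) := by
    show IsUnit (ρ h₀)
    rw [hρ]
    exact ((IsLocalization.Away.algebraMap_isUnit h).map _).map _
  have hJ : Ideal.map (algebraMap (Localization.Away h) A') (J₀.map φ) = ⊥ ↔ J₀.map ρ = ⊥ := by
    rw [Ideal.map_map, Ideal.map_eq_bot_iff_le_ker, Ideal.map_eq_bot_iff_le_ker]
    refine forall₂_congr fun x _ => ?_
    rw [RingHom.mem_ker, RingHom.mem_ker, hρ, RingHom.comp_apply, map_eq_zero_iff iA' hiA']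
  rw [hJ, show J₀.map ρ = J₀.map (algebraMap Γ₀ Γ(T, ⊤)) from rfl, ← hiff Γ(T, ⊤) hu]
  constructor
  · intro hfl U _
    exact (flatOn_iff f F g U.2).1 fun x' _ => hfl x'
  · intro hfl x'
    obtain ⟨U, hUt, hxU⟩ := Set.mem_iUnion₂.1 (ht (Set.mem_univ (pullback.fst f g x')))
    exact (flatOn_iff f F g U.2).2 (hfl U hUt) x' hxU


end Groth.Agent.S4898
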