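import Groth.Statements.S4899
import Groth.Agent.Lib.PrimaryDesc5.Primary
import Groth.Agent.Lib.Branch14.Elementary
import Groth.Agent.Lib.FlatH4.PullFlat
import Groth.Agent.Lib.ModM1.Coh
import Mathlib.AlgebraicGeometry.Morphisms.FiniteType

set_option autoImplicit false
universe u
open CategoryTheory AlgebraicGeometry
open EGA43

set_option backward.isDefEq.respectTransparency.types false
set_option maxHeartbeats 800000
open TensorProduct IsLocalRing

namespace Groth.Agent.S4899

open CategoryTheory.Limits in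
/-- Let A be an Artinian local ring, f : X ⟶ Spec A locally of finite type, F a coherent O_X-module and
x a point of X; let (u_i : A → A_i) be a family of ring homomorphisms into local rings such that an
element of A killed by every u_i is zero. Assume (ii) that the residue field k(x) is a primary
extension of the residue field of the base (every element of k(x) which is separable algebraic over
it already lies in it; automatic when that field is separably closed), and (iii) that for every i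
there is a point x' of X_i = X ×_{Spec A} Spec A_i above x and above the closed point of Spec A_i at
which the pullback of F is flat over Spec A_i. Then F is f-flat at x. -/
theorem result {A : Type u} [CommRing A]
    [IsArtinianRing A] [IsLocalRing A] {X : Scheme.{u}} (f : X ⟶ Spec (CommRingCat.of A))
    [LocallyOfFiniteType f] (F : X.Modules) (hF : Coh.IsCoh F) (x : X)
    {ι : Type u} (A' : ι → Type u) [∀ i, CommRing (A' i)] [∀ i, IsLocalRing (A' i)] (u : ∀ i, A →+* A' i)
    (hu : ∀ a : A, (∀ i, u i a = 0) → a = 0)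
    (hprim : letI := (f.residueFieldMap x).hom.toAlgebra
      ∀ a : ↑(X.residueField x), IsSeparable ↑((Spec (CommRingCat.of A)).residueField (f x)) a →
        a ∈ (f.residueFieldMap x).hom.range)
    (hflat : ∀ i : ι, ∃ x' : ↥(pullback f (Spec.map (CommRingCat.ofHom (u i)))),
      pullback.fst f (Spec.map (CommRingCat.ofHom (u i))) x' = x ∧
      pullback.snd f (Spec.map (CommRingCat.ofHom (u i))) x' = IsLocalRing.closedPoint (A' i) ∧
      FlatMod.IsFlatOverAt (pullback.snd f (Spec.map (CommRingCat.ofHom (u i))))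
        ((Scheme.Modules.pullback (pullback.fst f (Spec.map (CommRingCat.ofHom (u i))))).obj F) x') :
    FlatMod.IsFlatOverAt f F x := by
  haveI : Coh.IsQCoh F := hF.1
  let S := Spec (CommRingCat.of A)
  let S' : ι → Scheme.{u} := fun i => Spec (CommRingCat.of (A' i))
  let g : ∀ i, S' i ⟶ S := fun i => Spec.map (CommRingCat.ofHom (u i))
  let P : ι → Scheme.{u} := fun i => pullback f (g i)
  haveI : IsArtinianRing Γ(S, ⊤) :=
    (Scheme.ΓSpecIso (CommRingCat.of A)).commRingCatIsoToRingEquiv.symm.surjective.isArtinianRing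
  haveI : IsLocalRing Γ(S, ⊤) := (Scheme.ΓSpecIso (CommRingCat.of A)).commRingCatIsoToRingEquiv.symm.isLocalRing
  haveI : ∀ i, IsLocalRing Γ(S' i, ⊤) := fun i =>
    (Scheme.ΓSpecIso (CommRingCat.of (A' i))).commRingCatIsoToRingEquiv.symm.isLocalRing
  obtain ⟨U, hU, hxU, -⟩ := exists_isAffineOpen_mem_and_subset (X := X) (x := x) (U := ⊤) trivial
  have hUV : U ≤ f ⁻¹ᵁ ⊤ := fun _ _ => trivial
  have hTV : ∀ i, (⊤ : (S' i).Opens) ≤ g i ⁻¹ᵁ ⊤ := fun _ _ _ => trivial
  have H : ∀ i, IsPullback (pullback.fst f (g i)) (pullback.snd f (g i)) f (g i) :=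
    fun i => IsPullback.of_hasPullback f (g i)
  let W : ∀ i, (P i).Opens := fun i => pullback.fst f (g i) ⁻¹ᵁ U ⊓ pullback.snd f (g i) ⁻¹ᵁ ⊤
  have hW : ∀ i, IsAffineOpen (W i) := fun i =>
    FlatH4.isAffineOpen_of_isPullback (H i) (hTV i) hUV rfl (isAffineOpen_top _) (isAffineOpen_top _) hU
  have eX : ∀ i, W i ≤ pullback.fst f (g i) ⁻¹ᵁ U := fun _ => inf_le_left
  have eT : ∀ i, W i ≤ pullback.snd f (g i) ⁻¹ᵁ ⊤ := fun _ => inf_le_right
  letI : ∀ i, Algebra Γ(S, ⊤) Γ(S' i, ⊤) := fun i => ((g i).appLE ⊤ ⊤ (hTV i)).hom.toAlgebra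
  letI : Algebra Γ(S, ⊤) Γ(X, U) := (f.appLE ⊤ U hUV).hom.toAlgebra
  letI : ∀ i, Algebra Γ(X, U) Γ(P i, W i) := fun i => ((pullback.fst f (g i)).appLE U (W i) (eX i)).hom.toAlgebra
  letI : ∀ i, Algebra Γ(S' i, ⊤) Γ(P i, W i) := fun i =>
    ((pullback.snd f (g i)).appLE ⊤ (W i) (eT i)).hom.toAlgebra
  letI : ∀ i, Algebra Γ(S, ⊤) Γ(P i, W i) := fun i =>
    ((algebraMap Γ(X, U) Γ(P i, W i)).comp (algebraMap Γ(S, ⊤) Γ(X, U))).toAlgebra
  haveI : ∀ i, IsScalarTower Γ(S, ⊤) Γ(X, U) Γ(P i, W i) := fun i => IsScalarTower.of_algebraMap_eq fun _ => rfl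
  haveI : ∀ i, IsScalarTower Γ(S, ⊤) Γ(S' i, ⊤) Γ(P i, W i) := fun i => IsScalarTower.of_algebraMap_eq fun r => by
    show (f.appLE ⊤ U hUV ≫ (pullback.fst f (g i)).appLE U (W i) (eX i)) r =
      ((g i).appLE ⊤ ⊤ (hTV i) ≫ (pullback.snd f (g i)).appLE ⊤ (W i) (eT i)) r
    rw [Scheme.Hom.appLE_comp_appLE, Scheme.Hom.appLE_comp_appLE]
    simp only [(H i).w]
  haveI : ∀ i, Algebra.IsPushout Γ(S, ⊤) Γ(S' i, ⊤) Γ(X, U) Γ(P i, W i) := fun i =>
    FlatH4.algebra_isPushout_sections (H i) (hTV i) hUV (UY := W i) rfl (isAffineOpen_top _) (isAffineOpen_top _) hU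
      rfl rfl rfl rfl
  haveI : Algebra.FiniteType Γ(S, ⊤) Γ(X, U) :=
    HasRingHomProperty.appLE (P := @LocallyOfFiniteType) f inferInstance ⟨⊤, isAffineOpen_top _⟩ ⟨U, hU⟩ hUV
  haveI : IsNoetherianRing Γ(X, U) := Algebra.FiniteType.isNoetherianRing Γ(S, ⊤) Γ(X, U)
  haveI : Module.Finite Γ(X, U) Γ(F, U) := M1.finite_sections hF.1 hF.2 hU
  letI := FlatH4.secModuleOver f F ⊤ U hUV
  haveI : IsScalarTower Γ(S, ⊤) Γ(X, U) Γ(F, U) := IsScalarTower.of_algebraMap_smul fun _ _ => rfl
  rw [FlatH4.isFlatOverAt_iff f F ⊤ (isAffineOpen_top _) U hU hUV hxU]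
  let xp : ∀ i, ↥(P i) := fun i => (hflat i).choose
  have hxp : ∀ i, pullback.fst f (g i) (xp i) = x ∧ pullback.snd f (g i) (xp i) = closedPoint (A' i) ∧
      FlatMod.IsFlatOverAt (pullback.snd f (g i))
        ((Scheme.Modules.pullback (pullback.fst f (g i))).obj F) (xp i) := fun i => (hflat i).choose_spec
  have hxW : ∀ i, xp i ∈ W i := fun i =>
    ⟨show pullback.fst f (g i) (xp i) ∈ U from (hxp i).1.symm ▸ hxU, trivial⟩
  have hQq : ∀ i, ((hW i).primeIdealOf ⟨xp i, hxW i⟩).asIdeal.comap (algebraMap Γ(X, U) Γ(P i, W i)) =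
      (hU.primeIdealOf ⟨x, hxU⟩).asIdeal := by
    intro i
    have h1 := IsAffineOpen.comap_primeIdealOf_appLE U hU (W i) (hW i) (eX i) (hxW i)
    have h2 : (⟨pullback.fst f (g i) (xp i), eX i (hxW i)⟩ : U) = ⟨x, hxU⟩ := Subtype.ext (hxp i).1
    exact (congrArg PrimeSpectrum.asIdeal h1).trans (by rw [h2])
  have hQm : ∀ i, ((hW i).primeIdealOf ⟨xp i, hxW i⟩).asIdeal.comap (algebraMap Γ(S' i, ⊤) Γ(P i, W i)) =
      maximalIdeal Γ(S' i, ⊤) := by
    intro i
    have h1 := IsAffineOpen.comap_primeIdealOf_appLE ⊤ (isAffineOpen_top (S' i)) (W i) (hW i) (eT i) (hxW i)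
    refine (congrArg PrimeSpectrum.asIdeal h1).trans (eq_maximalIdeal ?_)
    rw [← PrimeSpectrum.isClosed_singleton_iff_isMaximal]
    have hcl : IsClosed ({closedPoint (A' i)} : Set (S' i)) := isClosed_singleton_closedPoint (A' i)
    let d := (isAffineOpen_top (S' i)).isoSpec.hom.homeomorph
    have h2 := d.isClosedMap _ (hcl.preimage (continuous_subtype_val : Continuous (Subtype.val : (⊤ : (S' i).Opens) → S' i)))
    refine (congrArg IsClosed ?_).mpr h2
    ext w
    constructor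
    · rintro rfl
      exact ⟨⟨_, trivial⟩, (hxp i).2.1, rfl⟩
    · rintro ⟨⟨v, hv⟩, hv', rfl⟩
      show d _ = _
      exact congrArg d (Subtype.ext (hv'.trans (hxp i).2.1.symm))
  refine PrimaryDesc5.flat_localized_of_family_primary (hU.primeIdealOf ⟨x, hxU⟩).asIdeal ?_ (fun i => Γ(S' i, ⊤))
    (fun i => Γ(P i, W i)) (fun a ha => ?_) (fun i => ((hW i).primeIdealOf ⟨xp i, hxW i⟩).asIdeal) hQq hQm fun i =>
      (FlatH4.isFlatOverAt_pullback_iff (pullback.fst f (g i)) F hU (hW i) (eX i) (pullback.snd f (g i)) ⊤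
        (isAffineOpen_top _) (eT i) (hxW i)).1 (hxp i).2.2
  · intro a p hp hpa
    obtain ⟨χ, hχ⟩ := Branch14.exists_residue_equiv hU hxU
    let κS := S.residueField (f x)
    let ε : Γ(S, ⊤) →+* κS := (S.evaluation ⊤ (f x) trivial).hom
    have hε : (f.residueFieldMap x).hom.comp ε = χ.toRingHom.comp (algebraMap Γ(S, ⊤) _) := by
      ext r
      show f.residueFieldMap x (S.evaluation ⊤ (f x) trivial r) = χ _
      rw [IsScalarTower.algebraMap_apply Γ(S, ⊤) Γ(X, U), hχ]
      exact WeilH13.residueFieldMap_evaluation f hUV x hxU r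
    have hεk : maximalIdeal Γ(S, ⊤) ≤ RingHom.ker ε := by
      haveI : (RingHom.ker ε).IsPrime := RingHom.ker_isPrime _
      exact (eq_maximalIdeal (IsArtinianRing.isMaximal_of_isPrime _)).ge
    have hεs : Function.Surjective ε := by
      obtain ⟨χS, hχS⟩ := Branch14.exists_residue_equiv (isAffineOpen_top S) (x := f x) trivial
      haveI : ((isAffineOpen_top S).primeIdealOf ⟨f x, trivial⟩).asIdeal.IsMaximal :=
        IsArtinianRing.isMaximal_of_isPrime _
      intro y
      obtain ⟨r, hr⟩ := Ideal.algebraMap_residueField_surjective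
        ((isAffineOpen_top S).primeIdealOf ⟨f x, trivial⟩).asIdeal (χS.symm y)
      exact ⟨r, (hχS r).symm.trans ((congrArg χS hr).trans (χS.apply_symm_apply y))⟩
    letI := (f.residueFieldMap x).hom.toAlgebra
    have h1 : Polynomial.aeval (χ a) (p.map ε) = 0 := by
      rw [Polynomial.aeval_def, Polynomial.eval₂_map,
        show (algebraMap κS (X.residueField x)).comp ε = χ.toRingHom.comp (algebraMap Γ(S, ⊤) _) from hε]
      refine (Polynomial.hom_eval₂ p _ χ.toRingHom a).symm.trans ?_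
      rw [← Polynomial.aeval_def, hpa, map_zero]
    have h2 : (p.map ε).Separable := by
      have h3 := hp.map (f := Ideal.Quotient.lift _ ε fun c hc => hεk hc)
      rwa [Polynomial.map_map] at h3
    obtain ⟨y, hy⟩ := hprim (χ a) (h2.of_dvd (minpoly.dvd _ _ h1))
    obtain ⟨r, rfl⟩ := hεs y
    exact ⟨r, χ.injective ((RingHom.congr_fun hε r).symm.trans hy)⟩
  · obtain ⟨a, rfl⟩ := (Scheme.ΓSpecIso (CommRingCat.of A)).commRingCatIsoToRingEquiv.symm.surjective a
    rw [hu a fun i => ?_, map_zero]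
    apply (ConcreteCategory.bijective_of_isIso (Scheme.ΓSpecIso (CommRingCat.of (A' i))).inv).1
    rw [map_zero, ← ha i]
    show ((CommRingCat.ofHom (u i)) ≫ (Scheme.ΓSpecIso (CommRingCat.of (A' i))).inv) a =
      ((Scheme.ΓSpecIso (CommRingCat.of A)).inv ≫ (g i).appLE ⊤ ⊤ (hTV i)) a
    rw [Scheme.ΓSpecIso_inv_naturality]
    simp [Scheme.Hom.appLE, Scheme.Hom.appTop, g]

end Groth.Agent.S4899
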