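import Groth.Statements.S4902
import Groth.Agent.S4857
import Groth.Agent.S4899

set_option autoImplicit false
universe u
open CategoryTheory AlgebraicGeometry
open EGA43

set_option backward.isDefEq.respectTransparency.types false

namespace Groth.Agent.S4902

open TensorProduct IsLocalRing

/-- The base is separably closed in the extension. -/
def Prim {k K : Type u} [Field k] [Field K] (φ : k →+* K) : Prop :=
  ∀ (a : K) (p : Polynomial k), p.Separable → p.eval₂ φ a = 0 → a ∈ φ.range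

theorem Prim.comp_left {k K K' : Type u} [Field k] [Field K] [Field K'] {φ : k →+* K} (h : Prim φ)
    {ψ : K →+* K'} (hψ : Function.Surjective ψ) : Prim (ψ.comp φ) := by
  intro a p hp ha
  obtain ⟨b, rfl⟩ := hψ a
  rw [← Polynomial.hom_eval₂, map_eq_zero] at ha
  obtain ⟨r, rfl⟩ := h b p hp ha
  exact ⟨r, rfl⟩

theorem Prim.of_comp_right {k' k K : Type u} [Field k'] [Field k] [Field K] {φ : k →+* K} {ψ : k' →+* k}
    (h : Prim (φ.comp ψ)) (hψ : Function.Surjective ψ) : Prim φ := by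
  intro a p hp ha
  obtain ⟨p₀, rfl⟩ := Polynomial.map_surjective ψ hψ p
  obtain ⟨r, hr⟩ := h a p₀ (Polynomial.separable_map ψ |>.1 hp) (by rwa [← Polynomial.eval₂_map])
  exact ⟨ψ r, hr⟩

theorem residueFieldMap_surjective {Z W : Scheme.{u}} (g : Z ⟶ W) [IsPreimmersion g] (z : Z) :
    Function.Surjective (g.residueFieldMap z) := by
  intro y
  obtain ⟨a, rfl⟩ := IsLocalRing.residue_surjective (R := Z.presheaf.stalk z) y
  obtain ⟨b, rfl⟩ := g.stalkMap_surjective z a
  exact ⟨W.residue (g z) b, rfl⟩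

open CategoryTheory.Limits in
/-- Primary extensions are preserved at points of a pullback along preimmersions. -/
theorem prim_pullback {X Y S : Scheme.{u}} (f : X ⟶ Y) (g : S ⟶ Y) [IsPreimmersion g] (z : ↥(pullback f g))
    (h : Prim (f.residueFieldMap (pullback.fst f g z)).hom) : Prim ((pullback.snd f g).residueFieldMap z).hom := by
  have h1 : Prim ((pullback.fst f g ≫ f).residueFieldMap z).hom := by
    rw [Scheme.residueFieldMap_comp]
    exact h.comp_left (residueFieldMap_surjective _ _)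
  have key : ∀ (e : pullback f g ⟶ Y), e = pullback.fst f g ≫ f → Prim (e.residueFieldMap z).hom := by
    rintro _ rfl
    exact h1
  have h2 := key (pullback.snd f g ≫ g) pullback.condition.symm
  rw [Scheme.residueFieldMap_comp] at h2
  exact h2.of_comp_right (residueFieldMap_surjective _ _)

open CategoryTheory.Limits in
/-- Flatness over a finite intersection of the ideals of the family. -/
theorem isFlatOverAt_quotient {X Y : Scheme.{u}} [IsLocallyNoetherian Y]
    (f : X ⟶ Y) [LocallyOfFiniteType f] (F : X.Modules) (hF : Coh.IsCoh F) (x : X)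
    {ι : Type u} (A : ι → Type u) [∀ i, CommRing (A i)] [∀ i, IsLocalRing (A i)]
    (φ : ∀ i, (Y.presheaf.stalk (f x) : Type u) →+* A i) [∀ i, IsLocalHom (φ i)]
    (hprim : Prim (f.residueFieldMap x).hom)
    (hflat : ∀ (i : ι), ∃ x' : ↥(pullback f (Spec.map (CommRingCat.ofHom (φ i)) ≫ Y.fromSpecStalk (f x))),
      pullback.fst f (Spec.map (CommRingCat.ofHom (φ i)) ≫ Y.fromSpecStalk (f x)) x' = x ∧
      pullback.snd f (Spec.map (CommRingCat.ofHom (φ i)) ≫ Y.fromSpecStalk (f x)) x' = closedPoint (A i) ∧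
      FlatMod.IsFlatOverAt (pullback.snd f (Spec.map (CommRingCat.ofHom (φ i)) ≫ Y.fromSpecStalk (f x)))
        ((Scheme.Modules.pullback
          (pullback.fst f (Spec.map (CommRingCat.ofHom (φ i)) ≫ Y.fromSpecStalk (f x)))).obj F) x')
    (s : Finset (ι × ℕ)) (hs : ∀ p ∈ s, 0 < p.2) (J : Ideal ↑(Y.presheaf.stalk (f x)))
    [IsArtinianRing (↑(Y.presheaf.stalk (f x)) ⧸ J)] [IsLocalRing (↑(Y.presheaf.stalk (f x)) ⧸ J)]
    (hJ : J = ⨅ p ∈ s, Ideal.comap (φ p.1) (maximalIdeal (A p.1) ^ p.2))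
    (x'' : ↥(pullback f (Spec.map (CommRingCat.ofHom (Ideal.Quotient.mk J)) ≫ Y.fromSpecStalk (f x))))
    (hx'' : pullback.fst f (Spec.map (CommRingCat.ofHom (Ideal.Quotient.mk J)) ≫ Y.fromSpecStalk (f x)) x'' = x) :
    FlatMod.IsFlatOverAt
      (pullback.snd f (Spec.map (CommRingCat.ofHom (Ideal.Quotient.mk J)) ≫ Y.fromSpecStalk (f x)))
      ((Scheme.Modules.pullback
        (pullback.fst f (Spec.map (CommRingCat.ofHom (Ideal.Quotient.mk J)) ≫ Y.fromSpecStalk (f x)))).obj F) x'' := by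
  let g0 := Spec.map (CommRingCat.ofHom (Ideal.Quotient.mk J)) ≫ Y.fromSpecStalk (f x)
  let g : ∀ i, Spec (CommRingCat.of (A i)) ⟶ Y :=
    fun i => Spec.map (CommRingCat.ofHom (φ i)) ≫ Y.fromSpecStalk (f x)
  let B : {p // p ∈ s} → Type u := fun p => A p.1.1 ⧸ maximalIdeal (A p.1.1) ^ p.1.2
  haveI : ∀ p : {p // p ∈ s}, Nontrivial (B p) := fun p => Ideal.Quotient.nontrivial_iff.2 fun h =>
    (maximalIdeal.isMaximal (A p.1.1)).ne_top (eq_top_iff.2 (h ▸ Ideal.pow_le_self (hs p.1 p.2).ne'))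
  haveI : ∀ p, IsLocalRing (B p) := fun p => IsLocalRing.of_surjective' _ Ideal.Quotient.mk_surjective
  have hle : ∀ p : {p // p ∈ s}, J ≤ Ideal.comap (φ p.1.1) (maximalIdeal (A p.1.1) ^ p.1.2) :=
    fun p => hJ.le.trans (iInf₂_le p.1 p.2)
  let v : ∀ p, (↑(Y.presheaf.stalk (f x)) ⧸ J) →+* B p := fun p =>
    Ideal.quotientMap (maximalIdeal (A p.1.1) ^ p.1.2) (φ p.1.1) (hle p)
  haveI : IsClosedImmersion (Spec.map (CommRingCat.ofHom (Ideal.Quotient.mk J))) :=
    IsClosedImmersion.spec_of_surjective _ Ideal.Quotient.mk_surjective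
  haveI : IsPreimmersion g0 := inferInstanceAs
    (IsPreimmersion (Spec.map (CommRingCat.ofHom (Ideal.Quotient.mk J)) ≫ Y.fromSpecStalk (f x)))
  have hprim'' : Prim ((pullback.snd f g0).residueFieldMap x'').hom := by
    refine prim_pullback f g0 x'' ?_
    have key : ∀ x₁ : X, x₁ = x → Prim (f.residueFieldMap x₁).hom := by rintro _ rfl; exact hprim
    exact key _ hx''
  refine Groth.Agent.S4899.result (pullback.snd f g0) _ (M1.isCoh_pullback _ hF) x'' B v ?_ ?_ ?_
  · intro a ha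
    obtain ⟨a, rfl⟩ := Ideal.Quotient.mk_surjective a
    rw [Ideal.Quotient.eq_zero_iff_mem, hJ, Ideal.mem_iInf]
    intro p
    rw [Ideal.mem_iInf]
    intro hp
    exact Ideal.mem_comap.2 (Ideal.Quotient.eq_zero_iff_mem.1 (show Ideal.Quotient.mk (maximalIdeal (A p.1) ^ p.2) (φ p.1 a) = 0 from ha ⟨p, hp⟩))
  · letI := ((pullback.snd f g0).residueFieldMap x'').hom.toAlgebra
    intro a ha
    exact hprim'' a _ ha (minpoly.aeval _ a)
  intro p
  obtain ⟨z, hz, hzc, hzflat⟩ := hflat p.1.1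
  let w := Spec.map (CommRingCat.ofHom (v p))
  let hy := Spec.map (CommRingCat.ofHom (Ideal.Quotient.mk (maximalIdeal (A p.1.1) ^ p.1.2)))
  have hfac : hy ≫ g p.1.1 = w ≫ g0 := by
    simp only [hy, g, w, g0, ← Category.assoc, ← Spec.map_comp]
    rfl
  let fst' := pullback.fst (pullback.snd f g0) w
  let snd' := pullback.snd (pullback.snd f g0) w
  let m : pullback (pullback.snd f g0) w ⟶ pullback f (g p.1.1) :=
    pullback.lift (fst' ≫ pullback.fst f g0) (snd' ≫ hy) (by
      rw [Category.assoc, pullback.condition, ← Category.assoc, pullback.condition, Category.assoc,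
        Category.assoc, hfac])
  have hm : m ≫ pullback.fst f (g p.1.1) = fst' ≫ pullback.fst f g0 := pullback.lift_fst _ _ _
  have hm2 : m ≫ pullback.snd f (g p.1.1) = snd' ≫ hy := pullback.lift_snd _ _ _
  have H' : IsPullback m snd' (pullback.snd f (g p.1.1)) hy := by
    refine IsPullback.of_right ?_ hm2 (IsPullback.of_hasPullback f (g p.1.1))
    rw [hm, hfac]
    exact (IsPullback.of_hasPullback (pullback.snd f g0) w).paste_horiz (IsPullback.of_hasPullback f g0)
  haveI : IsClosedImmersion hy :=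
    IsClosedImmersion.spec_of_surjective _ Ideal.Quotient.mk_surjective
  have hyc : hy (closedPoint (B p)) = closedPoint (A p.1.1) := by
    haveI : IsLocalHom (Ideal.Quotient.mk (maximalIdeal (A p.1.1) ^ p.1.2)) :=
      IsLocalHom.of_surjective _ Ideal.Quotient.mk_surjective
    exact IsLocalRing.comap_closedPoint (Ideal.Quotient.mk (maximalIdeal (A p.1.1) ^ p.1.2))
  obtain ⟨x', hx'm, hx'c⟩ := Scheme.exists_preimage_of_isPullback H' z (closedPoint (B p))
    (hzc.trans hyc.symm)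
  have hx' : fst' x' = x'' := (pullback.fst f g0).isEmbedding.injective <| by
    rw [← Scheme.Hom.comp_apply, ← hm, Scheme.Hom.comp_apply, hx'm, hz, hx'']
  refine ⟨x', hx', hx'c, ?_⟩
  have h0 : FlatMod.IsFlatOverAt (pullback.snd f (g p.1.1))
      ((Scheme.Modules.pullback (pullback.fst f (g p.1.1))).obj F) (m x') := hx'm.symm ▸ hzflat
  haveI : Coh.IsQCoh F := hF.1
  haveI : Coh.IsQCoh ((Scheme.Modules.pullback (pullback.fst f (g p.1.1))).obj F) := M1.isQCoh_pullback _ hF.1
  have h1 := FlatH4.isFlatOverAt_baseChange H' _ x' h0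
  have h2 := SchDom.isFlatOverAt_of_iso _ ((Scheme.Modules.pullbackComp m (pullback.fst f (g p.1.1))).app F) x' h1
  have key : ∀ (ψ : pullback (pullback.snd f g0) w ⟶ X) (_ : ψ = fst' ≫ pullback.fst f g0),
      FlatMod.IsFlatOverAt snd' ((Scheme.Modules.pullback ψ).obj F) x' →
      FlatMod.IsFlatOverAt snd' ((Scheme.Modules.pullback fst').obj
        ((Scheme.Modules.pullback (pullback.fst f g0)).obj F)) x' := by
    rintro _ rfl h
    exact SchDom.isFlatOverAt_of_iso _ ((Scheme.Modules.pullbackComp fst' (pullback.fst f g0)).app F).symm x' h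
  exact key _ hm h2


open CategoryTheory.Limits in
/-- Let Y be a locally Noetherian scheme, f : X ⟶ Y locally of finite type, F a coherent O_X-module and
x a point of X with y = f x, such that k(x) is a primary extension of k(y) (every element of k(x)
separable algebraic over k(y) lies in k(y)). Let (φ_i : O_{Y,y} → A_i) be a family of local
homomorphisms into local rings such that, for every N, some finite intersection of the ideals
φ_i⁻¹(m_{A_i}^n) is contained in m_y^N; let Y_i = Spec A_i ⟶ Y be the induced Y-schemes and X_i = X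
×_Y Y_i. If for every i there is a point of X_i above x and above the closed point of Y_i at which
the pullback of F is flat over Y_i, then F is f-flat at x. -/
theorem result {X Y : Scheme.{u}} [IsLocallyNoetherian Y]
    (f : X ⟶ Y) [LocallyOfFiniteType f] (F : X.Modules) (hF : Coh.IsCoh F) (x : X)
    (hprim : letI := (f.residueFieldMap x).hom.toAlgebra
      ∀ a : ↑(X.residueField x), IsSeparable ↑(Y.residueField (f x)) a → a ∈ (f.residueFieldMap x).hom.range)
    {ι : Type u} (A : ι → Type u) [∀ i, CommRing (A i)] [∀ i, IsLocalRing (A i)]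
    (φ : ∀ i, (Y.presheaf.stalk (f x) : Type u) →+* A i) [∀ i, IsLocalHom (φ i)]
    (htop : ∀ N : ℕ, ∃ s : Finset (ι × ℕ),
      ⨅ p ∈ s, Ideal.comap (φ p.1) (IsLocalRing.maximalIdeal (A p.1) ^ p.2) ≤
        IsLocalRing.maximalIdeal ↑(Y.presheaf.stalk (f x)) ^ N) :
    letI g : ∀ i, Spec (CommRingCat.of (A i)) ⟶ Y :=
      fun i => Spec.map (CommRingCat.ofHom (φ i)) ≫ Y.fromSpecStalk (f x)
    (∀ i : ι, ∃ x' : ↥(pullback f (g i)), pullback.fst f (g i) x' = x ∧
      pullback.snd f (g i) x' = IsLocalRing.closedPoint (A i) ∧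
      FlatMod.IsFlatOverAt (pullback.snd f (g i)) ((Scheme.Modules.pullback (pullback.fst f (g i))).obj F) x') →
    FlatMod.IsFlatOverAt f F x := by
  intro hflat
  haveI : Coh.IsQCoh F := hF.1
  obtain ⟨V, hV, hyV, -⟩ := exists_isAffineOpen_mem_and_subset (X := Y) (x := f x) (U := ⊤) trivial
  obtain ⟨U, hU, hxU, hUV⟩ := exists_isAffineOpen_mem_and_subset (X := X) (x := x) (U := f ⁻¹ᵁ V) hyV
  haveI : IsLocallyNoetherian X := LocallyOfFiniteType.isLocallyNoetherian f
  haveI : IsNoetherianRing Γ(Y, V) := IsLocallyNoetherian.component_noetherian ⟨V, hV⟩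
  haveI : IsNoetherianRing Γ(X, U) := IsLocallyNoetherian.component_noetherian ⟨U, hU⟩
  haveI : Module.Finite Γ(X, U) Γ(F, U) := M1.finite_sections hF.1 hF.2 hU
  letI : Algebra Γ(Y, V) Γ(X, U) := (f.appLE V U hUV).hom.toAlgebra
  letI := FlatH4.secModuleOver f F V U hUV
  haveI : IsScalarTower Γ(Y, V) Γ(X, U) Γ(F, U) := IsScalarTower.of_algebraMap_smul fun _ _ => rfl
  rw [FlatH4.isFlatOverAt_iff f F V hV U hU hUV hxU]
  let O : Type u := Y.presheaf.stalk (f x)
  let q := (hU.primeIdealOf ⟨x, hxU⟩).asIdeal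
  let p := (hV.primeIdealOf ⟨f x, hyV⟩).asIdeal
  letI : Algebra Γ(Y, V) O := (Y.presheaf.germ V (f x) hyV).hom.toAlgebra
  haveI : IsLocalization.AtPrime O p := hV.isLocalization_stalk ⟨f x, hyV⟩
  haveI : IsNoetherianRing O := IsLocalization.isNoetherianRing p.primeCompl O inferInstance
  have hqp : q.comap (algebraMap Γ(Y, V) Γ(X, U)) = p :=
    congrArg PrimeSpectrum.asIdeal (IsAffineOpen.comap_primeIdealOf_appLE V hV U hU hUV hxU)
  let Tq := Localization.AtPrime q
  let N := LocalizedModule q.primeCompl Γ(F, U)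
  have hunit : ∀ r : p.primeCompl, IsUnit ((algebraMap Γ(X, U) Tq).comp (algebraMap Γ(Y, V) Γ(X, U)) r) :=
    fun r => IsLocalization.map_units Tq (M := q.primeCompl)
      ⟨algebraMap Γ(Y, V) Γ(X, U) r, fun h => r.2 (hqp.le h)⟩
  let ρ : O →+* Tq := IsLocalization.lift (M := p.primeCompl) hunit
  letI : Algebra O Tq := ρ.toAlgebra
  letI : Module O N := Module.compHom N ρ
  haveI : IsScalarTower O Tq N := IsScalarTower.of_algebraMap_smul fun _ _ => rfl
  haveI : IsScalarTower Γ(Y, V) O N := IsScalarTower.of_algebraMap_smul fun r z => by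
    show ρ (algebraMap Γ(Y, V) O r) • z = r • z
    rw [IsLocalization.lift_eq, RingHom.comp_apply, algebraMap_smul, algebraMap_smul]
  haveI : Module.Finite Tq N := inferInstance
  haveI : Module.Flat Γ(Y, V) O := IsLocalization.flat O p.primeCompl
  suffices Module.Flat O N from Module.Flat.trans Γ(Y, V) O N
  haveI : IsLocalHom ρ := by
    constructor
    intro a ha
    obtain ⟨r, t, rfl⟩ := IsLocalization.exists_mk'_eq p.primeCompl a
    rw [IsLocalization.AtPrime.isUnit_mk'_iff O p]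
    intro h
    have h1 : IsUnit (algebraMap Γ(X, U) Tq (algebraMap Γ(Y, V) Γ(X, U) r)) := by
      have h2 := IsLocalization.mk'_spec O r t
      apply_fun ρ at h2
      rw [map_mul, IsLocalization.lift_eq, IsLocalization.lift_eq] at h2
      rw [← RingHom.comp_apply, ← h2]
      exact ha.mul (hunit t)
    exact (IsLocalization.AtPrime.isUnit_to_map_iff Tq q _).1 h1 (hqp.ge h)
  refine FlatH4.flat_of_forall_flat_quotient_pow (R := O) (S := Tq) (maximalIdeal O) ?_ fun n hn => ?_
  · rw [jacobson_eq_maximalIdeal ⊥ bot_ne_top]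
    exact IsLocalRing.map_maximalIdeal_le ρ
  obtain ⟨s₀, hs₀⟩ := htop n
  let s := s₀.filter fun p => 0 < p.2
  have hs : ∀ p ∈ s, 0 < p.2 := fun p hp => (Finset.mem_filter.1 hp).2
  let J : Ideal O := ⨅ p ∈ s, Ideal.comap (φ p.1) (maximalIdeal (A p.1) ^ p.2)
  have hJn : J ≤ maximalIdeal O ^ n := by
    refine le_trans ?_ hs₀
    refine le_iInf₂ fun p hp => ?_
    rcases Nat.eq_zero_or_pos p.2 with h0 | h0
    · rw [h0, pow_zero, Ideal.one_eq_top, Ideal.comap_top]
      exact le_top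
    · exact iInf₂_le p (Finset.mem_filter.2 ⟨hp, h0⟩)
  have hK : maximalIdeal O ^ (s.sup Prod.snd) ≤ J := le_iInf₂ fun p hp => by
    refine (Ideal.pow_le_pow_right (Finset.le_sup (f := Prod.snd) hp)).trans ?_
    rw [← Ideal.map_le_iff_le_comap, Ideal.map_pow]
    exact Ideal.pow_right_mono (IsLocalRing.map_maximalIdeal_le (φ p.1)) _
  haveI : Nontrivial (O ⧸ J) := Ideal.Quotient.nontrivial_iff.2 fun h =>
    (maximalIdeal.isMaximal O).ne_top (eq_top_iff.2 (h ▸ hJn.trans (Ideal.pow_le_self hn.ne')))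
  haveI : IsLocalRing (O ⧸ J) := IsLocalRing.of_surjective' _ Ideal.Quotient.mk_surjective
  haveI : IsArtinianRing (O ⧸ J) := S4857.isArtinianRing_quotient hK
  let g0 := Spec.map (CommRingCat.ofHom (Ideal.Quotient.mk J)) ≫ Y.fromSpecStalk (f x)
  let S' := Spec (CommRingCat.of (O ⧸ J))
  let P := pullback f g0
  have hprim' : Prim (f.residueFieldMap x).hom := by
    letI := (f.residueFieldMap x).hom.toAlgebra
    intro a p hp ha
    exact hprim a (hp.of_dvd (minpoly.dvd _ _ ha))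
  have hJflat := isFlatOverAt_quotient f F hF x A φ hprim' hflat s hs J rfl
  have hTV : (⊤ : S'.Opens) ≤ g0 ⁻¹ᵁ V := by
    intro z _
    have hz : Y.fromSpecStalk (f x) (Spec.map (CommRingCat.ofHom (Ideal.Quotient.mk J)) z) ∈
        Set.range (Y.fromSpecStalk (f x)) := ⟨_, rfl⟩
    rw [Scheme.range_fromSpecStalk] at hz
    exact hz.mem_open V.2 hyV
  have H : IsPullback (pullback.fst f g0) (pullback.snd f g0) f g0 := IsPullback.of_hasPullback f g0
  let W : P.Opens := pullback.fst f g0 ⁻¹ᵁ U ⊓ pullback.snd f g0 ⁻¹ᵁ ⊤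
  have hW : IsAffineOpen W :=
    FlatH4.isAffineOpen_of_isPullback H hTV hUV rfl hV (isAffineOpen_top _) hU
  have eX : W ≤ pullback.fst f g0 ⁻¹ᵁ U := inf_le_left
  have eT : W ≤ pullback.snd f g0 ⁻¹ᵁ ⊤ := inf_le_right
  letI : Algebra Γ(Y, V) Γ(S', ⊤) := (g0.appLE V ⊤ hTV).hom.toAlgebra
  letI : Algebra Γ(X, U) Γ(P, W) := ((pullback.fst f g0).appLE U W eX).hom.toAlgebra
  letI : Algebra Γ(S', ⊤) Γ(P, W) := ((pullback.snd f g0).appLE ⊤ W eT).hom.toAlgebra
  letI : Algebra Γ(Y, V) Γ(P, W) :=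
    ((algebraMap Γ(X, U) Γ(P, W)).comp (algebraMap Γ(Y, V) Γ(X, U))).toAlgebra
  haveI : IsScalarTower Γ(Y, V) Γ(X, U) Γ(P, W) := IsScalarTower.of_algebraMap_eq fun _ => rfl
  haveI : IsScalarTower Γ(Y, V) Γ(S', ⊤) Γ(P, W) := IsScalarTower.of_algebraMap_eq fun r => by
    show (f.appLE V U hUV ≫ (pullback.fst f g0).appLE U W eX) r =
      (g0.appLE V ⊤ hTV ≫ (pullback.snd f g0).appLE ⊤ W eT) r
    rw [Scheme.Hom.appLE_comp_appLE, Scheme.Hom.appLE_comp_appLE]
    simp only [H.w]
  haveI : Algebra.IsPushout Γ(Y, V) Γ(S', ⊤) Γ(X, U) Γ(P, W) :=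
    FlatH4.algebra_isPushout_sections H hTV hUV (UY := W) rfl hV (isAffineOpen_top _) hU rfl rfl rfl rfl
  haveI : Algebra.IsPushout Γ(Y, V) Γ(X, U) Γ(S', ⊤) Γ(P, W) := Algebra.IsPushout.symm inferInstance
  let e := Scheme.ΓSpecIso (CommRingCat.of (O ⧸ J))
  letI : Algebra O Γ(S', ⊤) := (e.inv.hom.comp (Ideal.Quotient.mk J)).toAlgebra
  haveI : IsScalarTower Γ(Y, V) O Γ(S', ⊤) := IsScalarTower.of_algebraMap_eq fun r => by
    show g0.appLE V ⊤ hTV r =
      (Y.presheaf.germ V (f x) hyV ≫ CommRingCat.ofHom (Ideal.Quotient.mk J) ≫ e.inv) r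
    congr 2
    simp only [g0, Scheme.Hom.appLE, Scheme.Hom.comp_app, Scheme.fromSpecStalk_app hyV, Category.assoc]
    rw [Scheme.ΓSpecIso_inv_naturality]
    simp [Scheme.Hom.appTop]
    rfl
  have hsurj : Function.Surjective (algebraMap O Γ(S', ⊤)) :=
    e.commRingCatIsoToRingEquiv.symm.surjective.comp Ideal.Quotient.mk_surjective
  haveI : Algebra.IsIntegral O Γ(S', ⊤) := ⟨fun z => by
    obtain ⟨z, rfl⟩ := hsurj z
    exact isIntegral_algebraMap⟩
  haveI : Module.Flat Γ(S', ⊤) (Γ(S', ⊤) ⊗[O] N) := by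
    refine FlatDesc5.flat_tensor_of_over Γ(Y, V) Γ(S', ⊤) Γ(X, U) Γ(P, W) p O q hqp fun Q _ hQ => ?_
    obtain ⟨⟨x', hx'⟩, hxQ⟩ := hW.isoSpec.hom.surjective ⟨Q, inferInstance⟩
    have hxQ' : hW.primeIdealOf ⟨x', hx'⟩ = ⟨Q, inferInstance⟩ := hxQ
    have hover : pullback.fst f g0 x' = x := by
      have h1 := IsAffineOpen.comap_primeIdealOf_appLE U hU W hW eX hx'
      rw [hxQ'] at h1
      have h2 : hU.primeIdealOf ⟨pullback.fst f g0 x', eX hx'⟩ = hU.primeIdealOf ⟨x, hxU⟩ :=
        h1.symm.trans (PrimeSpectrum.ext hQ)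
      have h3 := congrArg (fun z => hU.fromSpec z) h2
      simpa only [hU.fromSpec_primeIdealOf] using h3
    have h4 := (FlatH4.isFlatOverAt_pullback_iff (pullback.fst f g0) F hU hW eX (pullback.snd f g0) ⊤
      (isAffineOpen_top _) eT hx').1 (hJflat x' hover)
    have key : ∀ (a b : PrimeSpectrum Γ(P, W)), a = b →
        Module.Flat Γ(S', ⊤) (LocalizedModule a.asIdeal.primeCompl (Γ(P, W) ⊗[Γ(X, U)] Γ(F, U))) →
        Module.Flat Γ(S', ⊤) (LocalizedModule b.asIdeal.primeCompl (Γ(P, W) ⊗[Γ(X, U)] Γ(F, U))) := by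
      rintro a _ rfl h'; exact h'
    exact key _ _ hxQ' h4
  exact S4857.flat_tensor_of_algHom (R := O) (S := Γ(S', ⊤)) (Q := O ⧸ maximalIdeal O ^ n)
    { toRingHom := (Ideal.Quotient.factor hJn).comp e.hom.hom
      commutes' := fun r => by
        show Ideal.Quotient.factor hJn ((e.inv ≫ e.hom) (Ideal.Quotient.mk J r)) = _
        rw [e.inv_hom_id]
        rfl } N


end Groth.Agent.S4902
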