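import Groth.Statements.S4903
import Mathlib.Topology.LocallyClosed
import Mathlib.Tactic

set_option autoImplicit false
universe u
open EGA43

namespace Groth.Agent.S4903

/-- Conditions a), b), b′), c″), c‴) and its last assertion: given a topological space X and a subset X₀
⊆ X, the statements below are equivalent. Every locally closed subset of X that is nonempty
intersects X₀. Every nonempty locally quasi-constructible subset of X intersects X₀; here a subset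
is locally quasi-constructible when each point of X has an open neighbourhood on which the subset's
trace can be written as a union of finitely many locally closed sets. Each locally
quasi-constructible Z ⊆ X is contained in the closure of Z ∩ X₀. Any two quasi-constructible subsets
of X (unions of finitely many locally closed sets) having equal traces on X₀ coincide. Any two
locally quasi-constructible subsets of X having equal traces on X₀ coincide. Assuming these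
conditions, each locally quasi-constructible subset of the subspace X₀ arises as the trace on X₀ of
some locally quasi-constructible subset of X. -/
theorem result {X : Type u} [TopologicalSpace X] (X₀ : Set X) :
    [∀ Z : Set X, IsLocallyClosed Z → Z.Nonempty → (Z ∩ X₀).Nonempty,
      ∀ Z : Set X, (∀ x : X, ∃ U : Set X, IsOpen U ∧ x ∈ U ∧ ∃ T : Set (Set X), T.Finite ∧ (∀ t ∈ T, IsLocallyClosed t) ∧ U ∩ Z = ⋃₀ T) → Z.Nonempty → (Z ∩ X₀).Nonempty,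
      ∀ Z : Set X, (∀ x : X, ∃ U : Set X, IsOpen U ∧ x ∈ U ∧ ∃ T : Set (Set X), T.Finite ∧ (∀ t ∈ T, IsLocallyClosed t) ∧ U ∩ Z = ⋃₀ T) → Z ⊆ closure (Z ∩ X₀),
      ∀ Z Z' : Set X, (∃ T : Set (Set X), T.Finite ∧ (∀ t ∈ T, IsLocallyClosed t) ∧ Z = ⋃₀ T) → (∃ T : Set (Set X), T.Finite ∧ (∀ t ∈ T, IsLocallyClosed t) ∧ Z' = ⋃₀ T) → Z ∩ X₀ = Z' ∩ X₀ → Z = Z',
      ∀ Z Z' : Set X, (∀ x : X, ∃ U : Set X, IsOpen U ∧ x ∈ U ∧ ∃ T : Set (Set X), T.Finite ∧ (∀ t ∈ T, IsLocallyClosed t) ∧ U ∩ Z = ⋃₀ T) → (∀ x : X, ∃ U : Set X, IsOpen U ∧ x ∈ U ∧ ∃ T : Set (Set X), T.Finite ∧ (∀ t ∈ T, IsLocallyClosed t) ∧ U ∩ Z' = ⋃₀ T) → Z ∩ X₀ = Z' ∩ X₀ → Z = Z'].TFAE ∧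
    ((∀ Z : Set X, IsLocallyClosed Z → Z.Nonempty → (Z ∩ X₀).Nonempty) →
      ∀ Z₀ : Set ↥X₀, (∀ x : ↥X₀, ∃ U : Set ↥X₀, IsOpen U ∧ x ∈ U ∧ ∃ T : Set (Set ↥X₀), T.Finite ∧ (∀ t ∈ T, IsLocallyClosed t) ∧ U ∩ Z₀ = ⋃₀ T) →
        ∃ Z : Set X, (∀ x : X, ∃ U : Set X, IsOpen U ∧ x ∈ U ∧ ∃ T : Set (Set X), T.Finite ∧ (∀ t ∈ T, IsLocallyClosed t) ∧ U ∩ Z = ⋃₀ T) ∧ Subtype.val ⁻¹' Z = Z₀) := by
  -- local quasi-constructible sets
  let LQ : Set X → Prop := fun Z => ∀ x : X, ∃ U : Set X, IsOpen U ∧ x ∈ U ∧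
    ∃ T : Set (Set X), T.Finite ∧ (∀ t ∈ T, IsLocallyClosed t) ∧ U ∩ Z = ⋃₀ T
  have hLC : ∀ Z : Set X, IsLocallyClosed Z → LQ Z := fun Z hZ x =>
    ⟨Set.univ, isOpen_univ, trivial, {Z}, Set.finite_singleton Z, fun t ht => (Set.mem_singleton_iff.1 ht) ▸ hZ,
      by simp⟩
  have hQC : ∀ Z : Set X, (∃ T : Set (Set X), T.Finite ∧ (∀ t ∈ T, IsLocallyClosed t) ∧ Z = ⋃₀ T) → LQ Z :=
    fun Z ⟨T, h1, h2, h3⟩ x => ⟨Set.univ, isOpen_univ, trivial, T, h1, h2, by rw [Set.univ_inter]; exact h3⟩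
  have hsep : ∀ Z Z' : Set X, LQ Z → LQ Z' → ∀ x ∈ Z, x ∉ Z' →
      ∃ W : Set X, IsLocallyClosed W ∧ x ∈ W ∧ W ⊆ Z ∧ Disjoint W Z' := by
    intro Z Z' hZ hZ' x hx hx'
    obtain ⟨U, hU, hxU, T, -, hTl, hTe⟩ := hZ x
    obtain ⟨U', hU', hxU', T', hT'f, hT'l, hT'e⟩ := hZ' x
    obtain ⟨t, ht, hxt⟩ : x ∈ ⋃₀ T := hTe ▸ (⟨hxU, hx⟩ : x ∈ U ∩ Z)
    have hout : ∃ D : Set X, IsLocallyClosed D ∧ x ∈ D ∧ Disjoint D (⋃₀ T') := by
      have hxT' : x ∉ ⋃₀ T' := fun h => hx' (hT'e.symm ▸ h : x ∈ U' ∩ Z').2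
      clear hT'e
      induction T', hT'f using Set.Finite.induction_on with
      | empty => exact ⟨Set.univ, isOpen_univ.isLocallyClosed, trivial, by simp⟩
      | @insert a T₀ _ _ ih =>
          rw [Set.sUnion_insert, Set.mem_union, not_or] at hxT'
          obtain ⟨D, hD, hxD, hdis⟩ := ih (fun s hs => hT'l s (Set.mem_insert_of_mem _ hs)) hxT'.2
          obtain ⟨O, C, hO, hC, rfl⟩ := hT'l a (Set.mem_insert _ _)
          rw [Set.sUnion_insert]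
          by_cases hxO : x ∈ O
          · refine ⟨D ∩ Cᶜ, hD.inter hC.isOpen_compl.isLocallyClosed, ⟨hxD, fun h => hxT'.1 ⟨hxO, h⟩⟩, ?_⟩
            rw [Set.disjoint_union_right]
            exact ⟨Set.disjoint_left.2 fun z hz hz' => hz.2 hz'.2, hdis.mono_left Set.inter_subset_left⟩
          · refine ⟨D ∩ Oᶜ, hD.inter hO.isClosed_compl.isLocallyClosed, ⟨hxD, hxO⟩, ?_⟩
            rw [Set.disjoint_union_right]
            exact ⟨Set.disjoint_left.2 fun z hz hz' => hz.2 hz'.1, hdis.mono_left Set.inter_subset_left⟩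
    obtain ⟨D, hD, hxD, hdis⟩ := hout
    refine ⟨t ∩ U' ∩ D, ((hTl t ht).inter hU'.isLocallyClosed).inter hD, ⟨⟨hxt, hxU'⟩, hxD⟩, ?_, ?_⟩
    · exact fun z hz => (hTe.symm ▸ ⟨t, ht, hz.1.1⟩ : z ∈ U ∩ Z).2
    · exact Set.disjoint_left.2 fun z hz hz' => Set.disjoint_left.1 hdis hz.2 (hT'e ▸ (⟨hz.1.2, hz'⟩ : z ∈ U' ∩ Z'))
  have hdet : (∀ Z : Set X, IsLocallyClosed Z → Z.Nonempty → (Z ∩ X₀).Nonempty) →
      ∀ Z Z', LQ Z → LQ Z' → Z ∩ X₀ = Z' ∩ X₀ → Z = Z' := by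
    intro h
    suffices key : ∀ Z Z', LQ Z → LQ Z' → Z ∩ X₀ = Z' ∩ X₀ → Z ⊆ Z' from
      fun Z Z' hZ hZ' he => (key Z Z' hZ hZ' he).antisymm (key Z' Z hZ' hZ he.symm)
    intro Z Z' hZ hZ' he x hx
    by_contra hx'
    obtain ⟨W, hW, hxW, hWZ, hWd⟩ := hsep Z Z' hZ hZ' x hx hx'
    obtain ⟨z, hzW, hz0⟩ := h W hW ⟨x, hxW⟩
    exact Set.disjoint_left.1 hWd hzW (he.le ⟨hWZ hzW, hz0⟩).1
  have hempty : LQ ∅ := hLC _ isOpen_empty.isLocallyClosed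
  refine ⟨?_, fun h => ?_⟩
  · tfae_have 1 → 3 := by
      intro h Z hZ x hx
      obtain ⟨U, hU, hxU, T, -, hTl, hTe⟩ := hZ x
      obtain ⟨t, ht, hxt⟩ : x ∈ ⋃₀ T := hTe ▸ (⟨hxU, hx⟩ : x ∈ U ∩ Z)
      rw [mem_closure_iff]
      intro O hO hxO
      obtain ⟨z, hz, hz0⟩ := h (t ∩ O) ((hTl t ht).inter hO.isLocallyClosed) ⟨x, hxt, hxO⟩
      exact ⟨z, hz.2, (hTe.symm ▸ ⟨t, ht, hz.1⟩ : z ∈ U ∩ Z).2, hz0⟩
    tfae_have 3 → 2 := by
      intro h Z hZ hne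
      by_contra hc
      rw [Set.not_nonempty_iff_eq_empty] at hc
      have := h Z hZ
      rw [hc, closure_empty] at this
      exact hne.ne_empty (Set.subset_empty_iff.1 this)
    tfae_have 2 → 1 := fun h Z hZ hne => h Z (hLC Z hZ) hne
    tfae_have 1 → 5 := fun h Z Z' hZ hZ' => hdet h Z Z' hZ hZ'
    tfae_have 5 → 4 := fun h Z Z' hZ hZ' => h Z Z' (hQC Z hZ) (hQC Z' hZ')
    tfae_have 4 → 1 := by
      intro h Z hZ hne
      by_contra hc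
      rw [Set.not_nonempty_iff_eq_empty] at hc
      exact hne.ne_empty (h Z ∅ ⟨{Z}, Set.finite_singleton Z, fun t ht => (Set.mem_singleton_iff.1 ht) ▸ hZ, by simp⟩
        ⟨∅, Set.finite_empty, fun t ht => absurd ht (Set.notMem_empty t), by simp⟩ (by rw [hc, Set.empty_inter]))
    tfae_finish
  · intro Z₀ hZ₀
    have loc : ∀ x : X₀, ∃ (U : Set X) (Zx : Set X), IsOpen U ∧ (x : X) ∈ U ∧ Zx ⊆ U ∧
        (∃ T : Set (Set X), T.Finite ∧ (∀ t ∈ T, IsLocallyClosed t) ∧ Zx = ⋃₀ T) ∧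
        ∀ y : X₀, (y : X) ∈ Zx ↔ (y : X) ∈ U ∧ y ∈ Z₀ := by
      intro x
      obtain ⟨U₀, hU₀, hxU₀, T, hTf, hTl, hTe⟩ := hZ₀ x
      obtain ⟨U, hU, rfl⟩ := isOpen_induced_iff.1 hU₀
      have hext : ∀ t ∈ T, ∃ s : Set X, IsLocallyClosed s ∧ Subtype.val ⁻¹' s = t := by
        intro t ht
        obtain ⟨O, C, hO, hC, rfl⟩ := hTl t ht
        obtain ⟨O', hO', rfl⟩ := isOpen_induced_iff.1 hO
        obtain ⟨C', hC', rfl⟩ := isClosed_induced_iff.1 hC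
        exact ⟨O' ∩ C', ⟨O', C', hO', hC', rfl⟩, rfl⟩
      choose s hs hst using hext
      refine ⟨U, ⋃ (t : Set X₀) (ht : t ∈ T), s t ht ∩ U, hU, hxU₀,
        Set.iUnion₂_subset fun t ht => Set.inter_subset_right,
        ⟨Set.range fun t : T => s t.1 t.2 ∩ U, ?_, ?_, ?_⟩, fun y => ?_⟩
      · haveI := hTf.to_subtype
        exact Set.finite_range _
      · rintro _ ⟨t, rfl⟩
        exact (hs t.1 t.2).inter hU.isLocallyClosed
      · rw [Set.sUnion_range, Set.iUnion_coe_set]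
      · simp only [Set.mem_iUnion, Set.mem_inter_iff]
        constructor
        · rintro ⟨t, ht, hys, hyU⟩
          have hyt : y ∈ t := hst t ht ▸ hys
          exact ⟨hyU, (hTe.symm ▸ ⟨t, ht, hyt⟩ : y ∈ Subtype.val ⁻¹' U ∩ Z₀).2⟩
        · rintro ⟨hyU, hy⟩
          obtain ⟨t, ht, hyt⟩ : y ∈ ⋃₀ T := hTe ▸ (⟨hyU, hy⟩ : y ∈ Subtype.val ⁻¹' U ∩ Z₀)
          exact ⟨t, ht, by rw [← hst t ht] at hyt; exact hyt, hyU⟩
    choose U Zx hU hxU hsub hfin hiff using loc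
    have hcover : ∀ z : X, ∃ x, z ∈ U x := by
      intro z
      by_contra hz
      obtain ⟨w, hw, hw0⟩ := h (⋃ x, U x)ᶜ (isOpen_iUnion hU).isClosed_compl.isLocallyClosed ⟨z, by simpa using hz⟩
      exact hw (Set.mem_iUnion.2 ⟨⟨w, hw0⟩, hxU ⟨w, hw0⟩⟩)
    have hcutLQ : ∀ (a : X₀) (O : Set X), IsOpen O → LQ (Zx a ∩ O) := by
      intro a O hO z
      obtain ⟨T, hTf, hTl, hTe⟩ := hfin a
      refine ⟨Set.univ, isOpen_univ, trivial, (fun t => t ∩ O) '' T, hTf.image _, ?_, ?_⟩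
      · rintro _ ⟨t, ht, rfl⟩
        exact (hTl t ht).inter hO.isLocallyClosed
      · rw [Set.univ_inter, hTe, Set.sUnion_image, Set.sUnion_eq_biUnion, Set.iUnion₂_inter]
    have hagree : ∀ a b, Zx a ∩ U b = Zx b ∩ U a := fun a b =>
      hdet h _ _ (hcutLQ a _ (hU b)) (hcutLQ b _ (hU a)) (Set.ext fun z => by
        constructor
        · rintro ⟨⟨hza, hzb⟩, hz0⟩
          have := (hiff a ⟨z, hz0⟩).1 hza
          exact ⟨⟨(hiff b ⟨z, hz0⟩).2 ⟨hzb, this.2⟩, this.1⟩, hz0⟩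
        · rintro ⟨⟨hzb, hza⟩, hz0⟩
          have := (hiff b ⟨z, hz0⟩).1 hzb
          exact ⟨⟨(hiff a ⟨z, hz0⟩).2 ⟨hza, this.2⟩, this.1⟩, hz0⟩)
    refine ⟨⋃ x, Zx x, fun z => ?_, Set.ext fun y => ?_⟩
    · obtain ⟨x, hzx⟩ := hcover z
      obtain ⟨T, hTf, hTl, hTe⟩ := hfin x
      refine ⟨U x, hU x, hzx, T, hTf, hTl, ?_⟩
      rw [← hTe, Set.inter_iUnion]
      refine Set.Subset.antisymm (Set.iUnion_subset fun b => ?_) fun w hw =>
        Set.mem_iUnion.2 ⟨x, hsub x hw, hw⟩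
      rw [Set.inter_comm, hagree b x]
      exact Set.inter_subset_left
    · simp only [Set.mem_preimage, Set.mem_iUnion]
      exact ⟨fun ⟨x, hx⟩ => ((hiff x y).1 hx).2, fun hy => ⟨y, (hiff y y).2 ⟨hxU y, hy⟩⟩⟩

end Groth.Agent.S4903
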