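import Groth.Statements.S4905
import Groth.Agent.S4873
import Groth.Agent.S4877
import Groth.Agent.Lib.GeomRed15.Basic
import Groth.Agent.Lib.SchImage.ReducedKer
import Groth.Agent.Lib.RedSep.Basic
import Mathlib.AlgebraicGeometry.IdealSheaf.Functorial
-- import your own Groth.Agent.* helpers here

set_option autoImplicit false
universe u
set_option linter.style.haveILetI false
open CategoryTheory AlgebraicGeometry
open EGA43

namespace Groth.Agent.S4905

open CategoryTheory.Limits

set_option backward.isDefEq.respectTransparency.types false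

theorem isReduced_of_dom {X : Scheme.{u}} {ι : Type u} (Z : ι → Scheme.{u}) (f : ∀ i, Z i ⟶ X)
    [∀ i, IsReduced (Z i)]
    (h : ∀ (V : X.Opens) (t : Γ(X, V)), (∀ i, (f i).app V t = 0) → t = 0) : IsReduced X :=
  ⟨fun U => ⟨fun t ht => h U t fun i => (ht.map ((f i).app U).hom).eq_zero⟩⟩

theorem isReduced_of_geomReduced {k : Type u} [Field k] {Z : Scheme.{u}}
    (g : Z ⟶ Spec (CommRingCat.of k)) (h : ∀ z, FBase.IsGeomReducedAt g z) : IsReduced Z := by
  haveI hr : IsReduced (pullback g (Spec.map (CommRingCat.ofHom (algebraMap k k)))) :=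
    Groth.Agent.GeomRed15.isReduced_bc_iff g k h
  haveI : IsIso (Spec.map (CommRingCat.ofHom (algebraMap k k))) := by
    rw [show CommRingCat.ofHom (algebraMap k k) = 𝟙 (CommRingCat.of k) from rfl, Spec.map_id]
    infer_instance
  haveI : IsIso (pullback.fst g (Spec.map (CommRingCat.ofHom (algebraMap k k)))) :=
    (MorphismProperty.isomorphisms.iff _).mp (MorphismProperty.pullback_fst _ _
      ((MorphismProperty.isomorphisms.iff _).mpr inferInstance))
  have hiso : IsIso (pullback.fst g (Spec.map (CommRingCat.ofHom (algebraMap k k)))) := this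
  exact isReduced_of_isOpenImmersion (@asIso _ _ _ _ _ hiso).inv


open CategoryTheory.Limits in
/-- Let k be a field, X a k-scheme, (f_i : Z_i ⟶ X) a family of k-morphisms with every Z_i geometrically
reduced over k, and Y the reduced closed subscheme of X whose underlying space is the closure of ⋃
f_i(Z_i), i.e. the closed subscheme defined by the vanishing ideal sheaf of that closed set. Let k'
be a field extension of k, X' = X ⊗_k k' and f'_i : Z_i ⊗_k k' ⟶ X' the base changes. Then the
reduced closed subscheme of X' on the closure of ⋃ f'_i(Z_i ⊗_k k') is Y ⊗_k k': the vanishing ideal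
sheaf of that closure equals the pullback (comap) along X' ⟶ X of the vanishing ideal sheaf defining
Y. (The published statement also concludes that Y is geometrically reduced over k; this row states
only the equality of Y' with Y ⊗_k k'.) -/
theorem result {k : Type u} [Field k] {X : Scheme.{u}}
    (p : X ⟶ Spec (CommRingCat.of k)) {ι : Type u} (Z : ι → Scheme.{u}) (f : ∀ i, Z i ⟶ X)
    (hred : ∀ (i : ι) (z : Z i), FBase.IsGeomReducedAt (f i ≫ p) z)
    (k' : Type u) [Field k'] [Algebra k k'] :
    letI q : Spec (CommRingCat.of k') ⟶ Spec (CommRingCat.of k) := Spec.map (CommRingCat.ofHom (algebraMap k k'))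
    letI f' : ∀ i, pullback (f i ≫ p) q ⟶ pullback p q :=
      fun i => pullback.map (f i ≫ p) q p q (f i) (𝟙 _) (𝟙 _) (Category.comp_id _) ((Category.comp_id _).trans (Category.id_comp _).symm)
    Scheme.IdealSheafData.vanishingIdeal (TopologicalSpace.Closeds.closure (⋃ i, Set.range (f' i))) =
      (Scheme.IdealSheafData.vanishingIdeal (TopologicalSpace.Closeds.closure (⋃ i, Set.range (f i)))).comap
        (pullback.fst p q) := by
  let q : Spec (CommRingCat.of k') ⟶ Spec (CommRingCat.of k) :=
    Spec.map (CommRingCat.ofHom (algebraMap k k'))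
  let f' : ∀ i, pullback (f i ≫ p) q ⟶ pullback p q := fun i =>
    pullback.map (f i ≫ p) q p q (f i) (𝟙 _) (𝟙 _) (Category.comp_id _)
      ((Category.comp_id _).trans (Category.id_comp _).symm)
  show Scheme.IdealSheafData.vanishingIdeal (TopologicalSpace.Closeds.closure (⋃ i, Set.range (f' i))) =
    (Scheme.IdealSheafData.vanishingIdeal (TopologicalSpace.Closeds.closure (⋃ i, Set.range (f i)))).comap
      (pullback.fst p q)
  let C := TopologicalSpace.Closeds.closure (⋃ i, Set.range (f i))
  let I := Scheme.IdealSheafData.vanishingIdeal C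
  haveI : IsReduced I.subscheme := RedSepLib.isReduced_vanishingIdeal_subscheme _
  have hI : Set.range I.subschemeι = (C : Set X) := by
    rw [Scheme.IdealSheafData.range_subschemeι, Scheme.IdealSheafData.coe_support_vanishingIdeal]
  have hle : ∀ i, I.subschemeι.ker ≤ (f i).ker := fun i => by
    haveI := isReduced_of_geomReduced _ (hred i)
    rw [Scheme.IdealSheafData.ker_subschemeι, Groth.Agent.SchImage.ker_eq_vanishingIdeal]
    exact Scheme.IdealSheafData.vanishingIdeal_antimono
      (closure_mono (Set.subset_iUnion (fun i => Set.range (f i)) i))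
  let g : ∀ i, Z i ⟶ I.subscheme := fun i => IsClosedImmersion.lift I.subschemeι (f i) (hle i)
  have hg : ∀ i, g i ≫ I.subschemeι = f i := fun i => IsClosedImmersion.lift_fac _ _ _
  have hdense : Dense (⋃ i, Set.range (g i)) := by
    rw [I.subschemeι.isEmbedding.toIsInducing.dense_iff]
    intro x
    have hx : I.subschemeι x ∈ (C : Set X) := hI ▸ Set.mem_range_self x
    have himg : I.subschemeι '' (⋃ i, Set.range (g i)) = ⋃ i, Set.range (f i) := by
      rw [Set.image_iUnion]
      exact Set.iUnion_congr fun i => by rw [← hg i, ← Set.range_comp]; rfl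
    rw [himg]
    exact hx
  have hdom := (Groth.Agent.S4873.result Z g).2 inferInstance hdense
  let p' : I.subscheme ⟶ Spec (CommRingCat.of k) := I.subschemeι ≫ p
  let g' : ∀ i, pullback (g i ≫ p') q ⟶ pullback p' q := fun i =>
    pullback.map (g i ≫ p') q p' q (g i) (𝟙 _) (𝟙 _) (Category.comp_id _)
      ((Category.comp_id _).trans (Category.id_comp _).symm)
  have hdom' := Groth.Agent.S4877.result p' q Z g hdom
  haveI : ∀ i, IsReduced (pullback (g i ≫ p') q) := fun i => by
    have e : g i ≫ p' = f i ≫ p := by rw [← hg i, Category.assoc]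
    rw [e]
    exact Groth.Agent.GeomRed15.isReduced_bc_iff _ k' (hred i)
  haveI : IsReduced (pullback p' q) :=
    isReduced_of_dom (fun i => pullback (g i ≫ p') q) g' hdom'
  have hdense' : Dense (⋃ i, Set.range (g' i)) :=
    (Groth.Agent.S4873.result (fun i => pullback (g i ≫ p') q) g').1 hdom'
  let j : pullback p' q ⟶ pullback p q := pullback.map p' q p q I.subschemeι (𝟙 _) (𝟙 _)
    (Category.comp_id _) ((Category.comp_id _).trans (Category.id_comp _).symm)
  have hpb : IsPullback (pullback.fst p' q) j I.subschemeι (pullback.fst p q) := by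
    refine IsPullback.of_bot ?_ (pullback.lift_fst _ _ _).symm (IsPullback.of_hasPullback p q)
    have hj : j ≫ pullback.snd p q = pullback.snd p' q :=
      (pullback.lift_snd _ _ _).trans (Category.comp_id _)
    rw [hj]
    exact IsPullback.of_hasPullback p' q
  let e := hpb.flip.isoPullback
  have he : e.hom ≫ pullback.fst (pullback.fst p q) I.subschemeι = j :=
    hpb.flip.isoPullback_hom_fst
  haveI : IsReduced (pullback (pullback.fst p q) I.subschemeι) := isReduced_of_isOpenImmersion e.inv
  show _ = Scheme.Hom.ker _
  rw [Groth.Agent.SchImage.ker_eq_vanishingIdeal]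
  congr 1
  apply TopologicalSpace.Closeds.ext
  show closure (⋃ i, Set.range (f' i)) =
    closure (Set.range (pullback.fst (pullback.fst p q) I.subschemeι))
  have hr : Set.range (pullback.fst (pullback.fst p q) I.subschemeι) = Set.range j := by
    rw [← he]
    refine (Set.ext fun z => ⟨?_, ?_⟩)
    · rintro ⟨a, rfl⟩
      exact ⟨e.inv a, by simp [← Scheme.Hom.comp_apply]⟩
    · rintro ⟨a, rfl⟩
      exact ⟨e.hom a, rfl⟩
  haveI : IsClosedImmersion j := by
    rw [← he]; infer_instance
  have hgf : ∀ i, Set.range (f' i) = j '' Set.range (g' i) := by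
    intro i
    have key : ∀ (b b' : Z i ⟶ Spec (CommRingCat.of k)) (hb : b ≫ 𝟙 _ = f i ≫ p)
        (hb' : b' ≫ 𝟙 _ = g i ≫ p') (_ : b = b'),
        Set.range (pullback.map b q p q (f i) (𝟙 _) (𝟙 _) hb
          ((Category.comp_id _).trans (Category.id_comp _).symm)) =
        j '' Set.range (pullback.map b' q p' q (g i) (𝟙 _) (𝟙 _) hb'
          ((Category.comp_id _).trans (Category.id_comp _).symm)) := by
      rintro b _ hb hb' rfl
      rw [← Set.range_comp]
      have hmap : pullback.map b q p' q (g i) (𝟙 _) (𝟙 _) hb'
          ((Category.comp_id _).trans (Category.id_comp _).symm) ≫ j =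
          pullback.map b q p q (f i) (𝟙 _) (𝟙 _) hb
          ((Category.comp_id _).trans (Category.id_comp _).symm) := by
        apply pullback.hom_ext
        · simp only [j, Category.assoc]
          erw [pullback.lift_fst, pullback.lift_fst_assoc, pullback.lift_fst]
          rw [Category.assoc, hg i]
        · simp only [j, Category.assoc]
          erw [pullback.lift_snd, pullback.lift_snd_assoc, pullback.lift_snd]
          simp only [Category.assoc, Category.comp_id]
      rw [← hmap]
      rfl
    exact key (f i ≫ p) (g i ≫ p') (Category.comp_id _) (Category.comp_id _)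
      (by rw [← hg i, Category.assoc])
  simp only [hgf, ← Set.image_iUnion]
  rw [hr, j.isClosedEmbedding.closure_image_eq, hdense'.closure_eq, Set.image_univ,
    j.isClosedEmbedding.isClosed_range.closure_eq]

end Groth.Agent.S4905
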