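import Groth.Statements.S4907
import Groth.Agent.Lib.BiEquiDim5.Basic
-- import your own Groth.Agent.* helpers here

set_option autoImplicit false
universe u
open CategoryTheory AlgebraicGeometry
open EGA43

namespace Groth.Agent.S4907

/-- Let X be a regular biequidimensional scheme (Noetherian, regular local rings, finite dimension, all
irreducible components of dimension dim X, and dim T = dim cl{y} + codim(cl{y}, T) for every closed
irreducible T and point y of T) and F a coherent O_X-module. Then the rectified depth x ↦ prof(F_x)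
+ dim cl{x} is lower semicontinuous: for every integer n the set of x with prof(F_x) + dim cl{x} ≥ n
is open. -/
theorem result (X : Scheme.{u}) [IsNoetherian X]
    (hreg : ∀ x : X, IsRegularLocalRing ↑(X.presheaf.stalk x))
    (hfin : topologicalKrullDim X < ⊤)
    (hcomp : ∀ C ∈ irreducibleComponents (X : Type u), topologicalKrullDim ↥C = topologicalKrullDim X)
    (hchain : ∀ (y : X) (T : Set X), IsClosed T → IsIrreducible T → y ∈ T →
      topologicalKrullDim ↥T = topologicalKrullDim ↥(closure ({y} : Set X)) + topologicalKrullDim ↥{t : X | t ∈ T ∧ t ⤳ y})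
    (F : X.Modules) (hF : Coh.IsCoh F) (n : ℕ) :
    IsOpen {x : X | (n : WithBot ℕ∞) ≤
      ((LocCoh.depth ↑(X.presheaf.stalk x) ↑(F.presheaf.stalk x) : ℕ∞) : WithBot ℕ∞) +
        topologicalKrullDim ↥(closure ({x} : Set X))} := by
  have hout : ∀ y : X, y ∉ CohB1.support F → (n : WithBot ℕ∞) ≤
      ((LocCoh.depth ↑(X.presheaf.stalk y) ↑(F.presheaf.stalk y) : ℕ∞) : WithBot ℕ∞) +
        topologicalKrullDim ↥(closure ({y} : Set X)) := fun y hy => by
    rw [Groth.Agent.BiEquiDim5.depth_of_notMem_support X F hy]
    haveI : Nonempty (TopologicalSpace.IrreducibleCloseds ↥(closure ({y} : Set X))) :=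
      ⟨⟨closure {⟨y, subset_closure rfl⟩}, isIrreducible_singleton.closure, isClosed_closure⟩⟩
    exact le_trans (le_of_le_of_eq (WithBot.coe_le_coe.2 le_top) (add_zero _).symm)
      (add_le_add le_rfl Order.krullDim_nonneg)
  rw [isOpen_iff_forall_mem_open]
  intro x hx
  by_cases hxs : x ∈ CohB1.support F
  · obtain ⟨d, c, e, D, h, hd, hc, he, hD⟩ := Groth.Agent.BiEquiDim5.exists_eq X F hreg hfin hcomp hchain hF x hxs
    rw [Set.mem_setOf_eq, hd, hc] at hx
    have hx' : n ≤ d + c := by exact_mod_cast hx
    obtain ⟨V, hV, hxV, hVe⟩ := Groth.Agent.BiEquiDim5.exists_nhds_pd X F hF x e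
      ((projectiveDimension_le_iff _ e).1 he.le)
    refine ⟨V, fun y hy => ?_, hV, hxV⟩
    by_cases hys : y ∈ CohB1.support F
    · obtain ⟨d', c', e', D', h', hd', hc', he', hD'⟩ :=
        Groth.Agent.BiEquiDim5.exists_eq X F hreg hfin hcomp hchain hF y hys
      have h1 := (projectiveDimension_le_iff _ e).2 (hVe y hy)
      rw [he'] at h1
      have h1' : e' ≤ e := by exact_mod_cast h1
      have h2 : D = D' := by exact_mod_cast hD.symm.trans hD'
      rw [Set.mem_setOf_eq, hd', hc']
      exact_mod_cast (show n ≤ d' + c' by omega)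
    · exact hout y hys
  · exact ⟨(CohB1.support F)ᶜ, fun y hy => hout y hy,
      (Groth.Agent.M1.isClosed_support hF.2).isOpen_compl, hxs⟩

end Groth.Agent.S4907
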