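import Groth.Statements.S4908
import Groth.Agent.Lib.SepMod5.Basic
import Groth.Agent.Lib.SchDom.FibreCrit
import Mathlib.RingTheory.Flat.FaithfullyFlat.Algebra
-- import your own Groth.Agent.* helpers here

set_option autoImplicit false
universe u
open CategoryTheory AlgebraicGeometry
open EGA43

set_option backward.isDefEq.respectTransparency.types false
open TensorProduct

namespace Groth.Agent.S4908

/-- Case Z_λ = X: let X be a scheme, u_i : F ⟶ G_i a family of homomorphisms of quasi-coherent
O_X-modules and g : X' ⟶ X a faithfully flat morphism. If the family (g^*u_i : g^*F ⟶ g^*G_i) is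
separating — a section of g^*F over an open subset killed by every g^*u_i is zero — then the family
(u_i) is separating. (The published statement allows homomorphisms into direct images (f_λ)_*G_λ
along morphisms f_λ : Z_λ ⟶ X; this row is the case Z_λ = X, to which the general case reduces.) -/
theorem result {X X' : Scheme.{u}} (F : X.Modules) [Coh.IsQCoh F] {ι : Type u}
    (G : ι → X.Modules) [∀ i, Coh.IsQCoh (G i)] (u : ∀ i, F ⟶ G i) (g : X' ⟶ X) [Flat g] [Surjective g]
    (h : (∀ (V : (X').Opens) (t : ↑(((Scheme.Modules.pullback g).obj F).presheaf.obj (Opposite.op V))), (∀ i, (Scheme.Modules.Hom.mapPresheaf ((Scheme.Modules.pullback g).map (u i))).app (Opposite.op V) t = 0) → t = 0)) :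
    (∀ (V : (X).Opens) (t : ↑((F).presheaf.obj (Opposite.op V))), (∀ i, (Scheme.Modules.Hom.mapPresheaf (u i)).app (Opposite.op V) t = 0) → t = 0) := by
  refine SepMod5.separating_of_affine u fun V x hx => ?_
  obtain ⟨W, hW, hxW, hWV⟩ := exists_isAffineOpen_mem_and_subset (X := X) (x := x) (U := V) hx
  refine ⟨W, hW, hWV, hxW, fun t ht => ?_⟩
  have h0 : M2.pullSec g F t = 0 := by
    refine h _ _ fun i => ?_
    show ((Scheme.Modules.pullback g).map (u i)).app _ _ = 0
    rw [SepMod5.map_pullSec, ht i]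
    exact map_zero ((((Scheme.Modules.pullbackPushforwardAdjunction g).unit.app (G i)).app W).hom)
  -- vanishing near every point
  have hloc : ∀ y : W, ∃ a : Γ(X, W), a • t = 0 ∧ (y : X) ∈ X.basicOpen a := by
    intro y
    obtain ⟨y', hy'⟩ := g.surjective (y : X)
    obtain ⟨W', hW', hyW', hle⟩ := exists_isAffineOpen_mem_and_subset (X := X') (x := y') (U := g ⁻¹ᵁ W)
      (show g y' ∈ W by rw [hy']; exact y.2)
    have e : W' ≤ g ⁻¹ᵁ W := hle
    letI := (g.appLE W W' e).hom.toAlgebra
    haveI : Module.Flat Γ(X, W) Γ(X', W') :=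
      HasRingHomProperty.appLE (P := @Flat) g inferInstance ⟨W, hW⟩ ⟨W', hW'⟩ e
    obtain ⟨L, hL⟩ := SchDom.exists_pullEquiv g F hW hW' e
    have h1 : (1 : Γ(X', W')) ⊗ₜ[Γ(X, W)] t = 0 := L.injective (by rw [hL, h0, map_zero, map_zero])
    -- the annihilator generates the unit ideal upstairs
    let sp : Γ(X, W) →ₗ[Γ(X, W)] Γ(F, W) := LinearMap.toSpanSingleton _ _ t
    let I : Ideal Γ(X, W) := LinearMap.ker sp
    have hinj : Function.Injective ((Submodule.liftQ I sp le_rfl).lTensor Γ(X', W')) :=
      Module.Flat.lTensor_preserves_injective_linearMap _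
        (LinearMap.ker_eq_bot.1 (Submodule.ker_liftQ_eq_bot' _ _ rfl))
    have h2 : (1 : Γ(X', W')) ⊗ₜ[Γ(X, W)] (Submodule.Quotient.mk 1 : Γ(X, W) ⧸ I) = 0 := hinj (by
      rw [map_zero, LinearMap.lTensor_tmul, Submodule.liftQ_apply]
      simpa [sp] using h1)
    have h3 : I.map (algebraMap Γ(X, W) Γ(X', W')) = ⊤ := by
      rw [Ideal.eq_top_iff_one]
      have h4 := congrArg (TensorProduct.comm _ _ _) h2
      rw [TensorProduct.comm_tmul, map_zero] at h4
      exact (SchDom.one_tmul_eq_zero_iff_mem_map I (1 : Γ(X', W'))).1 h4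
    have hex : ∃ a ∈ I, (y : X) ∈ X.basicOpen a := by
      by_contra hne
      simp only [not_exists, not_and] at hne
      have hle' : I.map (algebraMap Γ(X, W) Γ(X', W')) ≤ (hW'.primeIdealOf ⟨y', hyW'⟩).asIdeal := by
        rw [Ideal.map_le_iff_le_comap]
        intro a ha
        rw [Ideal.mem_comap]
        by_contra hna
        refine hne a ha ?_
        rw [← hy']
        show y' ∈ g ⁻¹ᵁ X.basicOpen a
        have h5 : y' ∈ X'.basicOpen (g.appLE W W' e a) := by
          rw [SepMod5.mem_basicOpen_iff hW' _ hyW']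
          exact hna
        rw [Scheme.Hom.appLE, CommRingCat.comp_apply, Scheme.basicOpen_res] at h5
        rw [Scheme.preimage_basicOpen]
        exact h5.2
      rw [h3] at hle'
      exact (hW'.primeIdealOf ⟨y', hyW'⟩).2.ne_top (top_le_iff.1 hle')
    obtain ⟨a, ha, hya⟩ := hex
    exact ⟨a, by simpa [I, sp] using ha, hya⟩
  choose a hat hya using hloc
  refine M1.modules_eq_of_locally_eq F W (fun y : W => X.basicOpen (a y)) (fun y => X.basicOpen_le _)
    (fun y hy => TopologicalSpace.Opens.mem_iSup.2 ⟨⟨y, hy⟩, hya _⟩) t 0 fun y => ?_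
  have h1 := congrArg (M1.mres F (X.basicOpen_le (a y))) (hat y)
  rw [map_zero, M1.mres_smul] at h1
  have hu : IsUnit (X.presheaf.map (homOfLE (X.basicOpen_le (a y))).op (a y)) :=
    RingedSpace.isUnit_res_basicOpen X.toRingedSpace (a y)
  rw [map_zero]
  exact hu.smul_eq_zero.1 h1

end Groth.Agent.S4908
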