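import Groth.Statements.S4911
import Groth.Agent.Lib.SepMod5.Field
-- import your own Groth.Agent.* helpers here

set_option autoImplicit false
universe u
open CategoryTheory AlgebraicGeometry
open EGA43

set_option backward.isDefEq.respectTransparency.types false
open TensorProduct

namespace Groth.Agent.S4911

open CategoryTheory.Limits in
/-- Case Z_λ = X: let k be a field, X a k-scheme, u_i : F ⟶ G_i a separating family of homomorphisms of
quasi-coherent O_X-modules (a section of F over an open subset killed by every u_i is zero) and S'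
an arbitrary k-scheme. Then the family pulled back to X ×_k S' is separating. (The published
statement allows homomorphisms into direct images (f_λ)_*G_λ; this row is the case Z_λ = X.) -/
theorem result {k : Type u} [Field k] {X S' : Scheme.{u}}
    (p : X ⟶ Spec (CommRingCat.of k)) (q : S' ⟶ Spec (CommRingCat.of k))
    (F : X.Modules) [Coh.IsQCoh F] {ι : Type u} (G : ι → X.Modules) [∀ i, Coh.IsQCoh (G i)] (u : ∀ i, F ⟶ G i)
    (h : (∀ (V : (X).Opens) (t : ↑((F).presheaf.obj (Opposite.op V))), (∀ i, (Scheme.Modules.Hom.mapPresheaf (u i)).app (Opposite.op V) t = 0) → t = 0)) :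
    (∀ (V : (pullback p q).Opens) (t : ↑(((Scheme.Modules.pullback (pullback.fst p q)).obj F).presheaf.obj (Opposite.op V))), (∀ i, (Scheme.Modules.Hom.mapPresheaf ((Scheme.Modules.pullback (pullback.fst p q)).map (u i))).app (Opposite.op V) t = 0) → t = 0) := by
  refine SepMod5.separating_pullback_of_base p q u fun y => ?_
  obtain ⟨W, hW, hyW, -⟩ := exists_isAffineOpen_mem_and_subset (X := S') (x := y) (U := ⊤) trivial
  refine ⟨Γ(S', W), SepMod5.baseMap q hW, hW.fromSpec, inferInstance, (Spec.map_preimage _).symm, ?_,
    fun U hU => ?_⟩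
  · rw [hW.range_fromSpec]; exact hyW
  · letI : Algebra k Γ(X, U) := (SepMod5.baseMap p hU).hom.toAlgebra
    letI : Algebra k Γ(S', W) := (SepMod5.baseMap q hW).hom.toAlgebra
    exact SepMod5.baseChange_eq_zero_field (k := k) (A := Γ(X, U)) (B := Γ(S', W))
      (fun i => SchDom.appLin (u i) U) (SepMod5.Separating.sep h hU)

end Groth.Agent.S4911
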