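import Groth.Statements.S4910
import Groth.Agent.Lib.SepMod5.FibreBC
import Groth.Agent.Lib.SepMod5.Transfer
import Groth.Agent.Lib.SepMod5.FlatBase
import Groth.Agent.S4909
import Groth.Agent.S4911
-- import your own Groth.Agent.* helpers here

set_option autoImplicit false
universe u
open CategoryTheory AlgebraicGeometry
open EGA43

set_option backward.isDefEq.respectTransparency.types false
set_option maxHeartbeats 800000
open TensorProduct

namespace Groth.Agent.S4910

open CategoryTheory.Limits in
/-- Separation on the fibres gives separation over every field. -/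
theorem over_field {X S : Scheme.{u}} (p : X ⟶ S) (F : X.Modules) [Coh.IsQCoh F] {ι : Type u}
    (G : ι → X.Modules) [∀ i, Coh.IsQCoh (G i)] (u : ∀ i, F ⟶ G i)
    (hfib : ∀ s : S, SepMod5.Separating fun i => (Scheme.Modules.pullback (p.fiberι s)).map (u i))
    {K : Type u} [Field K] (g : Spec (CommRingCat.of K) ⟶ S) :
    SepMod5.Separating fun i => (Scheme.Modules.pullback (pullback.fst p g)).map (u i) := by
  obtain ⟨⟨s, ψ⟩, rfl⟩ := (Scheme.SpecToEquivOfField K S).symm.surjective g
  haveI : Coh.IsQCoh ((Scheme.Modules.pullback (p.fiberι s)).obj F) := M1.isQCoh_pullback _ ‹_›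
  haveI : ∀ i, Coh.IsQCoh ((Scheme.Modules.pullback (p.fiberι s)).obj (G i)) :=
    fun i => M1.isQCoh_pullback _ inferInstance
  -- the base change of the fibre to the field
  let q := p.fiberToSpecResidueField s
  let π := pullback.fst q (Spec.map ψ)
  haveI : ∀ i, Coh.IsQCoh ((Scheme.Modules.pullback (π ≫ p.fiberι s)).obj (G i)) :=
    fun i => M1.isQCoh_pullback _ inferInstance
  haveI : Coh.IsQCoh ((Scheme.Modules.pullback (π ≫ p.fiberι s)).obj F) := M1.isQCoh_pullback _ ‹_›
  have h1 : SepMod5.Separating fun i => (Scheme.Modules.pullback π).map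
      ((Scheme.Modules.pullback (p.fiberι s)).map (u i)) :=
    Groth.Agent.S4911.result (k := S.residueField s) q (Spec.map ψ) _ _ _ (hfib s)
  have h2 := h1.pullback_comp
  have H : IsPullback (π ≫ p.fiberι s) (pullback.snd q (Spec.map ψ)) p
      (Spec.map ψ ≫ S.fromSpecResidueField s) :=
    (IsPullback.of_hasPullback q (Spec.map ψ)).paste_horiz (IsPullback.of_hasPullback p _)
  let E := H.isoPullback
  have h3 : SepMod5.Separating fun i => (Scheme.Modules.pullback E.inv).map
      ((Scheme.Modules.pullback (π ≫ p.fiberι s)).map (u i)) :=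
    Groth.Agent.S4909.result _ _ _ E.inv h2
  exact SepMod5.Separating.pullback_congr H.isoPullback_inv_fst h3.pullback_comp

open CategoryTheory.Limits in
/-- Case Z_λ = X: let p : X ⟶ S be a morphism with X locally Noetherian, F a coherent O_X-module, (G_i)
a family of quasi-coherent O_X-modules flat over S and u_i : F ⟶ G_i homomorphisms. Then the family
(u_i) is universally separating relative to S — for every base change S' ⟶ S the pulled-back family
on X ×_S S' is separating (a section of the pulled-back F over an open subset killed by every member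
is zero) — if and only if, for every point s of S, the family pulled back to the fibre X_s is
separating. (The published statement allows homomorphisms into direct images (f_λ)_*G_λ with the G_λ
flat over S; this row is the case Z_λ = X.) -/
theorem result {X S : Scheme.{u}} [IsLocallyNoetherian X]
    (p : X ⟶ S) (F : X.Modules) (hF : Coh.IsCoh F) {ι : Type u} (G : ι → X.Modules) [∀ i, Coh.IsQCoh (G i)]
    (hG : ∀ i, FlatMod.IsFlatOver p (G i)) (u : ∀ i, F ⟶ G i) :
    (∀ (S' : Scheme.{u}) (g : S' ⟶ S),
      (∀ (V : (pullback p g).Opens) (t : ↑(((Scheme.Modules.pullback (pullback.fst p g)).obj F).presheaf.obj (Opposite.op V))), (∀ i, (Scheme.Modules.Hom.mapPresheaf ((Scheme.Modules.pullback (pullback.fst p g)).map (u i))).app (Opposite.op V) t = 0) → t = 0)) ↔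
    ∀ s : S, (∀ (V : (p.fiber s).Opens) (t : ↑(((Scheme.Modules.pullback (p.fiberι s)).obj F).presheaf.obj (Opposite.op V))), (∀ i, (Scheme.Modules.Hom.mapPresheaf ((Scheme.Modules.pullback (p.fiberι s)).map (u i))).app (Opposite.op V) t = 0) → t = 0) := by
  refine ⟨fun h s => h _ (S.fromSpecResidueField s), fun hfib S' g => ?_⟩
  haveI := hF.1
  refine SepMod5.separating_of_affine _ fun V x hx => ?_
  obtain ⟨U, hU, hxU, -⟩ := exists_isAffineOpen_mem_and_subset (X := S)
    (x := p (pullback.fst p g x)) (U := ⊤) trivial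
  obtain ⟨W, hW, hxW, hWU'⟩ := exists_isAffineOpen_mem_and_subset (X := X)
    (x := pullback.fst p g x) (U := p ⁻¹ᵁ U) hxU
  obtain ⟨S₁, hS₁, hxS, hSU'⟩ := exists_isAffineOpen_mem_and_subset (X := S')
    (x := pullback.snd p g x) (U := g ⁻¹ᵁ U) (by
      show g (pullback.snd p g x) ∈ U
      rw [← Scheme.Hom.comp_apply, ← pullback.condition, Scheme.Hom.comp_apply]; exact hxU)
  have hWU : W ≤ p ⁻¹ᵁ U := hWU'
  have hSU : S₁ ≤ g ⁻¹ᵁ U := hSU'
  let A := Γ(S, U)
  let C := Γ(X, W)
  letI : Algebra A C := (p.appLE U W hWU).hom.toAlgebra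
  letI : Algebra A Γ(S', S₁) := (g.appLE U S₁ hSU).hom.toAlgebra
  haveI : IsNoetherianRing C := IsLocallyNoetherian.component_noetherian ⟨W, hW⟩
  haveI : Module.Finite C Γ(F, W) := M1.finite_sections hF.1 hF.2 hW
  letI : ∀ i, Module A Γ(G i, W) := fun i => FlatH4.secModuleOver p (G i) U W hWU
  haveI : ∀ i, IsScalarTower A C Γ(G i, W) := fun i => IsScalarTower.of_algebraMap_smul fun _ _ => rfl
  haveI : ∀ i, Module.Flat A Γ(G i, W) := fun i => FibDepth5.flat_sections p (G i) (hG i) hU hW hWU
  let c : SchDom.Chart p g A C Γ(S', S₁) :=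
    { uA := hU.fromSpec
      uB := hW.fromSpec
      uA' := hS₁.fromSpec
      openA := inferInstance
      openB := inferInstance
      openA' := inferInstance
      wB := hU.SpecMap_appLE_fromSpec p hW hWU
      wA' := hU.SpecMap_appLE_fromSpec g hS₁ hSU }
  obtain ⟨y, hy⟩ : x ∈ Set.range c.j := by
    rw [SchDom.Chart.range_j]
    exact ⟨by rw [hW.range_fromSpec]; exact hxW, by rw [hS₁.range_fromSpec]; exact hxS⟩
  obtain ⟨_, ⟨_, ⟨h, rfl⟩, rfl⟩, hyh, hhV⟩ :=
    PrimeSpectrum.isBasis_basic_opens.exists_subset_of_mem_open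
      (show y ∈ c.j ⁻¹' (V : Set _) by show c.j y ∈ V; rw [hy]; exact hx) (V.2.preimage c.j.continuous)
  have hfst : c.jL h ≫ pullback.fst p g =
      Spec.map (CommRingCat.ofHom (algebraMap C (Localization.Away h))) ≫ hW.fromSpec := by
    rw [SchDom.Chart.jL, Category.assoc, SchDom.Chart.j_fst, ← Spec.map_comp_assoc]
    rfl
  have e : (c.jL h).opensRange ≤ pullback.fst p g ⁻¹ᵁ W := by
    rintro _ ⟨z, rfl⟩
    show pullback.fst p g (c.jL h z) ∈ W
    rw [← Scheme.Hom.comp_apply, hfst, Scheme.Hom.comp_apply]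
    exact hW.range_fromSpec.subset ⟨_, rfl⟩
  refine ⟨(c.jL h).opensRange, isAffineOpen_opensRange _, ?_, ?_, SepMod5.eq_zero_of_chart u _ hW
    (isAffineOpen_opensRange _) e ?_⟩
  · intro z hz
    obtain ⟨w, hw, rfl⟩ := c.exists_of_range_jL hz
    exact hhV hw
  · rw [← hy]; exact c.mem_range_jL hyh
  letI := ((pullback.fst p g).appLE W (c.jL h).opensRange e).hom.toAlgebra
  obtain ⟨Eq'⟩ := SepMod5.nonempty_algEquiv_of_chart (pullback.fst p g) hW (c.jL h) hfst e
  refine SepMod5.baseChange_eq_zero_congr (R := C) Eq' _ ?_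
  refine SepMod5.baseChange_eq_zero_of_fibres (A := A) (fun i => SchDom.appLin (u i) W) ?_ Γ(S', S₁) h
  -- over a field
  intro K _ _ h' w hw
  let gK : Spec (CommRingCat.of K) ⟶ S := Spec.map (CommRingCat.ofHom (algebraMap A K)) ≫ hU.fromSpec
  have hK := over_field p F G u hfib gK
  let cK : SchDom.Chart p gK A C K :=
    { uA := hU.fromSpec
      uB := hW.fromSpec
      uA' := 𝟙 _
      openA := inferInstance
      openB := inferInstance
      openA' := inferInstance
      wB := hU.SpecMap_appLE_fromSpec p hW hWU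
      wA' := (Category.id_comp _).symm }
  have hfK : cK.jL h' ≫ pullback.fst p gK =
      Spec.map (CommRingCat.ofHom (algebraMap C (Localization.Away h'))) ≫ hW.fromSpec := by
    rw [SchDom.Chart.jL, Category.assoc, SchDom.Chart.j_fst, ← Spec.map_comp_assoc]
    rfl
  have eK : (cK.jL h').opensRange ≤ pullback.fst p gK ⁻¹ᵁ W := by
    rintro _ ⟨z, rfl⟩
    show pullback.fst p gK (cK.jL h' z) ∈ W
    rw [← Scheme.Hom.comp_apply, hfK, Scheme.Hom.comp_apply]
    exact hW.range_fromSpec.subset ⟨_, rfl⟩
  letI := ((pullback.fst p gK).appLE W (cK.jL h').opensRange eK).hom.toAlgebra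
  obtain ⟨EK⟩ := SepMod5.nonempty_algEquiv_of_chart (pullback.fst p gK) hW (cK.jL h') hfK eK
  have hz := SepMod5.baseChange_eq_zero_congr (R := C) EK.symm (fun i => SchDom.appLin (u i) W)
    (hK.chart hW (isAffineOpen_opensRange _) eK) (SepMod5.locMap C (C ⊗[↑A] K) (Localization.Away h') _ w)
    fun i => by
      rw [← SepMod5.locMap_lTensor]
      obtain ⟨l, hl⟩ := hw i
      refine SepMod5.pow_smul_eq_zero_of_isUnit
        (IsLocalization.Away.algebraMap_isUnit (S := Localization.Away h') h') (n := l) ?_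
      rw [← map_pow, algebraMap_smul, ← map_smul, hl, map_zero]
  exact SepMod5.exists_pow_smul_eq_zero_of_locMap h' w hz

end Groth.Agent.S4910
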