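import Groth.Statements.S4912
import Groth.Agent.Lib.SepMod5.Basic
import Mathlib.AlgebraicGeometry.Artinian
-- import your own Groth.Agent.* helpers here

set_option autoImplicit false
universe u
open CategoryTheory AlgebraicGeometry
open EGA43

set_option backward.isDefEq.respectTransparency.types false
open TensorProduct

namespace Groth.Agent.S4912

/-- Case Z_λ = X: let X be an Artinian scheme (Noetherian of dimension ≤ 0), u_i : F ⟶ G_i a separating
family of homomorphisms of quasi-coherent O_X-modules (a section of F over an open subset killed by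
every u_i is zero) and g : X' ⟶ X a flat morphism; for instance X the spectrum of a field and g
arbitrary. Then the family (g^*u_i) on X' is separating. (The published statement allows
homomorphisms into direct images (f_λ)_*G_λ; this row is the case Z_λ = X, to which the general case
reduces.) -/
theorem result {X X' : Scheme.{u}} [IsNoetherian X]
    (hX : topologicalKrullDim X ≤ 0) (F : X.Modules) [Coh.IsQCoh F] {ι : Type u}
    (G : ι → X.Modules) [∀ i, Coh.IsQCoh (G i)] (u : ∀ i, F ⟶ G i) (g : X' ⟶ X) [Flat g]
    (h : (∀ (V : (X).Opens) (t : ↑((F).presheaf.obj (Opposite.op V))), (∀ i, (Scheme.Modules.Hom.mapPresheaf (u i)).app (Opposite.op V) t = 0) → t = 0)) :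
    (∀ (V : (X').Opens) (t : ↑(((Scheme.Modules.pullback g).obj F).presheaf.obj (Opposite.op V))), (∀ i, (Scheme.Modules.Hom.mapPresheaf ((Scheme.Modules.pullback g).map (u i))).app (Opposite.op V) t = 0) → t = 0) := by
  haveI : IsLocallyArtinian X := IsLocallyArtinian.of_topologicalKrullDim_le_zero hX
  refine SepMod5.separating_pullback_of_charts u g fun W hW W' hW' e => ?_
  letI := (g.appLE W W' e).hom.toAlgebra
  haveI : Module.Flat Γ(X, W) Γ(X', W') :=
    HasRingHomProperty.appLE (P := @Flat) g inferInstance ⟨W, hW⟩ ⟨W', hW'⟩ e
  haveI : IsArtinianRing Γ(X, W) := IsLocallyArtinian.isArtinianRing_presheaf_obj ⟨W, hW⟩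
  exact fun z hz => SepMod5.baseChange_eq_zero_of_artinian (R := Γ(X, W)) _ _ (fun m hm => h W m hm) z hz

end Groth.Agent.S4912
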