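import Groth.Statements.S4914
-- import your own Groth.Agent.* helpers here

set_option autoImplicit false
open CategoryTheory AlgebraicGeometry
universe u v w
open EGA43

namespace Groth.Agent.S4914

/-- Let ψ : X → Y be a continuous map, x a point of X, and (Y_i) a locally finite covering of Y by
closed subsets. If for every index i with ψ x ∈ Y_i the restriction ψ⁻¹(Y_i) → Y_i of ψ is open at
x, then ψ is open at x. -/
theorem result {α : Type u} {β : Type v} {ι : Type w} [TopologicalSpace α]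
    [TopologicalSpace β] (ψ : α → β) (hψ : Continuous ψ) (x : α) (Y : ι → Set β) (hY : LocallyFinite Y)
    (hcl : ∀ i, IsClosed (Y i)) (hcov : ⋃ i, Y i = Set.univ)
    (h : ∀ i, ∀ hi : ψ x ∈ Y i, EGA43.IsOpenAt ((Y i).restrictPreimage ψ) ⟨x, hi⟩) :
    EGA43.IsOpenAt ψ x := by
  intro U hU
  have hfin : {i | ψ x ∈ Y i}.Finite := hY.point_finite _
  have hnot : ∀ᶠ b in nhds (ψ x), ∀ i, b ∈ Y i → ψ x ∈ Y i := by
    filter_upwards [hY.iInter_compl_mem_nhds hcl (ψ x)] with b hb i hi
    by_contra hc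
    exact (Set.mem_iInter₂.1 hb i hc) hi
  have hall : ∀ᶠ b in nhds (ψ x), ∀ i ∈ {i | ψ x ∈ Y i}, b ∈ Y i → b ∈ ψ '' U := by
    refine (Filter.eventually_all_finite hfin).2 fun i hi => ?_
    have := h i hi (Subtype.val ⁻¹' U) (continuous_subtype_val.continuousAt.preimage_mem_nhds hU)
    rw [nhds_subtype_eq_comap, Filter.mem_comap] at this
    obtain ⟨W, hW, hWU⟩ := this
    filter_upwards [hW] with b hb hbi
    obtain ⟨a, ha, hab⟩ := hWU (show (⟨b, hbi⟩ : ↥(Y i)) ∈ Subtype.val ⁻¹' W from hb)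
    exact ⟨a.1, ha, congrArg Subtype.val hab⟩
  filter_upwards [hnot, hall] with b hb1 hb2
  obtain ⟨i, hi⟩ := Set.mem_iUnion.1 (hcov.superset (Set.mem_univ b))
  exact hb2 i (hb1 i hi) hi

end Groth.Agent.S4914
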