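import Groth.Statements.S4917
import Groth.Agent.Lib.EquidimStalk4
import Groth.Agent.S2559

set_option autoImplicit false
open CategoryTheory AlgebraicGeometry
universe u v w
open EGA43

set_option backward.isDefEq.respectTransparency.types false

namespace Groth.Agent.S4917


open Topology in
theorem isEquidim_stalk {X : Scheme.{u}} [IrreducibleSpace X] (x : X) :
    EGA4.IsEquidim (X.presheaf.stalk x) := by
  refine (EquidimStalk4.isEquidim_stalk_iff x).2 fun t _ htmax w hw => ?_
  have ht : t = genericPoint X := (htmax _ ((genericPoint_spec X).specializes trivial)).symm
  subst ht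
  subst hw
  have hs : Function.Surjective (EquidimStalk4.clι (genericPoint X)) := fun a =>
    EquidimStalk4.exists_preimage ((genericPoint_spec X).specializes trivial)
  rw [ringKrullDim_stalk_eq_coheight, ringKrullDim_stalk_eq_coheight]
  let o : EquidimStalk4.Cl (genericPoint X) ≃o X :=
    { toEquiv := ((EquidimStalk4.clι (genericPoint X)).isEmbedding.toHomeomorphOfSurjective hs).toEquiv
      map_rel_iff' := fun {a b} => by
        rw [Scheme.le_iff_specializes, Scheme.le_iff_specializes]
        exact (EquidimStalk4.clι (genericPoint X)).isEmbedding.isInducing.specializes_iff }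
  exact congrArg _ (Order.coheight_orderIso o w).symm


/-- Assume Y is a locally Noetherian scheme and X is an irreducible scheme, and consider a dominant
morphism f : X ⟶ Y that is locally of finite type. Fix a point x of X and write y = f x. If, for
every irreducible component of the fibre X_y that contains x, the morphism f is open at the generic
point of that component, then f is equidimensional at x. -/
theorem result {X Y : Scheme.{u}} [IsLocallyNoetherian Y]
    [IrreducibleSpace X] (f : X ⟶ Y) [LocallyOfFiniteType f] [IsDominant f] (x : X)
    (h : ∀ z : ↥(f.fiber (f.base x)), f.asFiber x ∈ closure {z} →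
      (∀ z' : ↥(f.fiber (f.base x)), z ∈ closure {z'} → z' = z) →
      EGA43.IsOpenAt f.base ((f.fiberι (f.base x)).base z)) :
    EGA43.IsEquidimAt f x := by
  haveI : IsLocallyNoetherian X := LocallyOfFiniteType.isLocallyNoetherian f
  exact EquidimStalk4.isEquidimAt_of_dim_formula f x (isEquidim_stalk x) (S2559.result f x h)

end Groth.Agent.S4917
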