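import Groth.Statements.S4919
import Groth.Agent.Lib.EquidimStalk4
import Groth.Agent.Lib.Unibr4.Criterion

set_option autoImplicit false
open CategoryTheory AlgebraicGeometry
universe u v w
open EGA43

set_option backward.isDefEq.respectTransparency.types false

namespace Groth.Agent.S4919


open Topology in
theorem genY {Y : Scheme.{u}} [IrreducibleSpace Y] (y : Y) : genericPoint Y ⤳ y :=
  (genericPoint_spec Y).specializes trivial

open Topology in
theorem maxY {Y : Scheme.{u}} [IrreducibleSpace Y] (z : Y) (hz : z ⤳ genericPoint Y) : z = genericPoint Y :=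
  (hz.antisymm (genY z)).eq

open Groth.Agent.FibDim14 Groth.Agent.EquidimStalk4 in
/-- The component selected by lifting generizations at a generic point of a fibre. -/
theorem comp_of_open {X Y : Scheme.{u}} [IsLocallyNoetherian Y] (f : X ⟶ Y) [LocallyOfFiniteType f] {z : X}
    (hmax : IsMaxFib f z) (h : EGA43.IsOpenAt f.base z) {η : Y} (hη : η ⤳ f z) (hηmax : ∀ a, a ⤳ η → a = η) :
    ∃ t, t ⤳ z ∧ (∀ a, a ⤳ t → a = t) ∧ f t = η ∧ rd f t = rd f z ∧
      ∀ w : Cl t, clι t w = z → FlatMor.fibreDimAt (clι t ≫ f) w = (rd f z : WithBot ℕ∞) := by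
  haveI : IsLocallyNoetherian X := LocallyOfFiniteType.isLocallyNoetherian f
  obtain ⟨t, htz, htmax, hft, hrd⟩ := Unibr4.exists_component_of_liftsAt f (EGA43Top.liftsAt_of_isOpenAt h) hη hηmax
  have key : ∀ w : Cl t, clι t w = z → rd f t = rd f z ∧
      FlatMor.fibreDimAt (clι t ≫ f) w = (rd f z : WithBot ℕ∞) := fun w hw => by
    obtain ⟨b1, b2, -⟩ := cl_bounds f w
    rw [hw, FibGen4.fibreDimAt_eq_rd_of_isMaxFib f hmax] at b2
    have h1 : rd f t ≤ rd f z := by exact_mod_cast b1.trans b2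
    have he : rd f t = rd f z := le_antisymm h1 hrd
    rw [he] at b1
    exact ⟨he, le_antisymm b2 b1⟩
  obtain ⟨w, hw⟩ := exists_preimage htz
  exact ⟨t, htz, htmax, hft, (key w hw).1, fun w hw => (key w hw).2⟩

open Topology in
theorem exists_gen_fibre {X Y : Scheme.{u}} (f : X ⟶ Y) {y : Y} {Z : Set X} (hZy : Z ⊆ f.base ⁻¹' {y})
    (hZ : IsIrreducible Z) (hZmax : ∀ Z' : Set X, IsIrreducible Z' → Z' ⊆ f.base ⁻¹' {y} → Z ⊆ Z' → Z' = Z) :
    ∃ ζ ∈ Z, f ζ = y ∧ Z = closure {ζ} ∩ f.base ⁻¹' {y} ∧ Z ⊆ closure {ζ} ∧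
      ∀ a, a ⤳ ζ → f a = f ζ → a = ζ := by
  have hg : IsGenericPoint hZ.genericPoint (closure Z) := hZ.isGenericPoint_genericPoint_closure
  set ζ := hZ.genericPoint
  have hsp : ∀ z ∈ Z, ζ ⤳ z := fun z hz => hg.specializes (subset_closure hz)
  obtain ⟨z₀, hz₀⟩ := hZ.nonempty
  have hfζ : f ζ = y := by
    have h1 : f ζ ⤳ y := (hZy hz₀ : f z₀ = y) ▸ (hsp z₀ hz₀).map f.continuous
    have h2 : y ⤳ f ζ := by
      refine specializes_iff_mem_closure.2 (closure_mono ?_ (image_closure_subset_closure_image f.continuous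
        ⟨ζ, hg.mem, rfl⟩))
      rintro _ ⟨a, ha, rfl⟩
      exact hZy ha
    exact (h1.antisymm h2).eq
  have hirr : ∀ a : X, f a = y → IsIrreducible (closure {a} ∩ f.base ⁻¹' {y}) := fun a ha => by
    refine ⟨⟨a, subset_closure rfl, ha⟩, ?_⟩
    rintro u v hu hv ⟨b, ⟨hb, -⟩, hbu⟩ ⟨c, ⟨hc, -⟩, hcv⟩
    exact ⟨a, ⟨subset_closure rfl, ha⟩, (specializes_iff_mem_closure.2 hb).mem_open hu hbu,
      (specializes_iff_mem_closure.2 hc).mem_open hv hcv⟩
  have hZeq : closure {ζ} ∩ f.base ⁻¹' {y} = Z := hZmax _ (hirr ζ hfζ) Set.inter_subset_right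
    fun z hz => ⟨(hsp z hz).mem_closure, hZy hz⟩
  refine ⟨ζ, hZeq ▸ ⟨subset_closure rfl, hfζ⟩, hfζ, hZeq.symm, fun z hz => (hsp z hz).mem_closure, fun a ha he => ?_⟩
  have hfa : f a = y := he.trans hfζ
  have h1 : closure {a} ∩ f.base ⁻¹' {y} = Z := hZmax _ (hirr a hfa) Set.inter_subset_right
    fun z hz => ⟨(ha.trans (hsp z hz)).mem_closure, hZy hz⟩
  have h2 : a ∈ Z := h1 ▸ ⟨subset_closure rfl, hfa⟩
  exact (ha.antisymm (hsp a h2)).eq


/-- Let Y be an irreducible locally Noetherian scheme with generic point η, f : X ⟶ Y a morphism locally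
of finite type, y a point of Y and Z an irreducible component of the fibre f⁻¹(y) (a maximal
irreducible subset of f⁻¹(y), with the topology induced from X) such that f is open at the generic
point ζ of Z. Then there is an irreducible component X' of X containing Z and dominating Y such that
the local dimension of X' ∩ f⁻¹(y) at ζ equals dim Z, and dim Z = dim (X' ∩ f⁻¹(η)). (The published
statement writes the middle term as the dimension of the whole of X' ∩ f⁻¹(y); its proof yields only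
the local dimension at the generic point of Z, and the global equality can fail: for the
endomorphism (a, b) ↦ (ab, b² − b) of the affine plane over a field, the fibre over the origin is
the line b = 0 together with the isolated point (0, 1), at which the map is étale, hence open; with
Z that point, X' is the whole plane, X' ∩ f⁻¹(y) has dimension 1 and dim Z = 0. So the local form is
stated here.) -/
theorem result {X Y : Scheme.{u}} [IrreducibleSpace Y]
    [IsLocallyNoetherian Y] (f : X ⟶ Y) [LocallyOfFiniteType f] (y : Y) (Z : Set X)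
    (hZy : Z ⊆ f.base ⁻¹' {y}) (hZ : IsIrreducible Z)
    (hZmax : ∀ Z' : Set X, IsIrreducible Z' → Z' ⊆ f.base ⁻¹' {y} → Z ⊆ Z' → Z' = Z)
    (hopen : ∀ ζ ∈ Z, Z ⊆ closure {ζ} → EGA43.IsOpenAt f.base ζ) :
    ∃ X' ∈ irreducibleComponents (X : Type u), Z ⊆ X' ∧ Dense (f.base '' X') ∧
      (∀ ζ ∈ Z, Z ⊆ closure {ζ} → ∀ hζ : ζ ∈ X' ∩ f.base ⁻¹' {y},
        FlatMor.localDim ↥(X' ∩ f.base ⁻¹' {y}) ⟨ζ, hζ⟩ = topologicalKrullDim ↥Z) ∧
      topologicalKrullDim ↥Z = topologicalKrullDim ↥(X' ∩ f.base ⁻¹' {genericPoint Y}) := by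
  obtain ⟨ζ₀, hζ₀, hfζ₀, hZeq, hsub, hmax⟩ := exists_gen_fibre f hZy hZ hZmax
  obtain ⟨t, htζ, htmax, hft, hrd, hloc⟩ := comp_of_open f hmax (hopen ζ₀ hζ₀ hsub) (genY _) maxY
  have hdimZ : topologicalKrullDim ↥Z = (FibDim14.rd f ζ₀ : WithBot ℕ∞) := by
    rw [hZeq, ← hfζ₀]
    exact (FibSub4.closure_fibre f ζ₀).1
  refine ⟨closure {t}, (VarDim.maximal_iff_mem_irreducibleComponents (X := X) t).1 htmax, fun z hz =>
    specializes_iff_mem_closure.1 (htζ.trans (specializes_iff_mem_closure.2 (hsub hz))), ?_, ?_, ?_⟩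
  · rw [dense_iff_closure_eq, closure_image_closure f.continuous, Set.image_singleton, hft]
    exact genericPoint_spec Y
  · intro ζ hζ hζsub hm
    have he : ζ = ζ₀ := ((specializes_iff_mem_closure.2 (hζsub hζ₀)).antisymm
      (specializes_iff_mem_closure.2 (hsub hζ))).eq
    subst he
    obtain ⟨w, hw⟩ := EquidimStalk4.exists_preimage htζ
    rw [hdimZ, ← hloc w hw]
    exact FibSub4.localDim_inter_preimage (EquidimStalk4.clι t) f (EquidimStalk4.range_clι t) w hw hfζ₀ hm.1
  · rw [hdimZ, ← hft, (FibSub4.closure_fibre f t).1, hrd]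

end Groth.Agent.S4919
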