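import Groth.Statements.S4920
import Groth.Agent.Lib.EquidimStalk4
import Groth.Agent.Lib.Unibr4.Criterion

set_option autoImplicit false
open CategoryTheory AlgebraicGeometry
universe u v w
open EGA43

set_option backward.isDefEq.respectTransparency.types false

namespace Groth.Agent.S4920


open Topology in
theorem genY {Y : Scheme.{u}} [IrreducibleSpace Y] (y : Y) : genericPoint Y ⤳ y :=
  (genericPoint_spec Y).specializes trivial

open Topology in
theorem maxY {Y : Scheme.{u}} [IrreducibleSpace Y] (z : Y) (hz : z ⤳ genericPoint Y) : z = genericPoint Y :=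
  (hz.antisymm (genY z)).eq

open Groth.Agent.FibDim14 Groth.Agent.EquidimStalk4 in
/-- The component selected by lifting generizations at a generic point of a fibre. -/
theorem comp_of_open {X Y : Scheme.{u}} [IsLocallyNoetherian Y] (f : X ⟶ Y) [LocallyOfFiniteType f] {z : X}
    (hmax : IsMaxFib f z) (h : EGA43.IsOpenAt f.base z) {η : Y} (hη : η ⤳ f z) (hηmax : ∀ a, a ⤳ η → a = η) :
    ∃ t, t ⤳ z ∧ (∀ a, a ⤳ t → a = t) ∧ f t = η ∧ rd f t = rd f z ∧
      ∀ w : Cl t, clι t w = z → FlatMor.fibreDimAt (clι t ≫ f) w = (rd f z : WithBot ℕ∞) := by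
  haveI : IsLocallyNoetherian X := LocallyOfFiniteType.isLocallyNoetherian f
  obtain ⟨t, htz, htmax, hft, hrd⟩ := Unibr4.exists_component_of_liftsAt f (EGA43Top.liftsAt_of_isOpenAt h) hη hηmax
  have key : ∀ w : Cl t, clι t w = z → rd f t = rd f z ∧
      FlatMor.fibreDimAt (clι t ≫ f) w = (rd f z : WithBot ℕ∞) := fun w hw => by
    obtain ⟨b1, b2, -⟩ := cl_bounds f w
    rw [hw, FibGen4.fibreDimAt_eq_rd_of_isMaxFib f hmax] at b2
    have h1 : rd f t ≤ rd f z := by exact_mod_cast b1.trans b2
    have he : rd f t = rd f z := le_antisymm h1 hrd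
    rw [he] at b1
    exact ⟨he, le_antisymm b2 b1⟩
  obtain ⟨w, hw⟩ := exists_preimage htz
  exact ⟨t, htz, htmax, hft, (key w hw).1, fun w hw => (key w hw).2⟩


/-- Let Y be an irreducible locally Noetherian scheme with generic point η, f : X ⟶ Y a morphism locally
of finite type and y a point of Y such that f is open at every point of the fibre over y. For z in Y
write E(z) for the set of dimensions of the irreducible components of the fibre X_z. Then E(y) ⊆
E(η), and consequently dim X_y ≤ dim X_η. -/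
theorem result {X Y : Scheme.{u}} [IrreducibleSpace Y] [IsLocallyNoetherian Y]
    (f : X ⟶ Y) [LocallyOfFiniteType f] (y : Y) (h : ∀ x : X, f.base x = y → EGA43.IsOpenAt f.base x) :
    letI E : Y → Set (WithBot ℕ∞) := fun z =>
      (fun Z : Set ↥(f.fiber z) => topologicalKrullDim ↥Z) '' irreducibleComponents ↥(f.fiber z)
    E y ⊆ E (genericPoint Y) ∧
      topologicalKrullDim ↥(f.fiber y) ≤ topologicalKrullDim ↥(f.fiber (genericPoint Y)) := by
  simp only
  refine ⟨?_, (FibGen4.dim_fiber_le_iff f y _).2 fun x hx => ?_⟩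
  · rintro _ ⟨Z, hZ, rfl⟩
    obtain ⟨c, rfl, hc⟩ := VarDim.exists_generic_of_mem_irreducibleComponents hZ
    let z := f.fiberι y c
    have hfz : f z = y := (Scheme.Hom.range_fiberι f y).le ⟨c, rfl⟩
    have hzmax : FibDim14.IsMaxFib f z := (FibDim14.isMaxFib_fiberι f y c).2 hc
    obtain ⟨t, htz, htmax, hft, hrd, -⟩ := comp_of_open f hzmax (h z hfz) (genY _) maxY
    obtain ⟨d, hd⟩ : t ∈ Set.range (f.fiberι (genericPoint Y)) := by
      rw [Scheme.Hom.range_fiberι]; exact hft
    refine ⟨closure {d}, (VarDim.maximal_iff_mem_irreducibleComponents (X := f.fiber (genericPoint Y)) d).1 ?_, ?_⟩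
    · exact (FibDim14.isMaxFib_fiberι f _ d).1 fun a ha _ => by rw [hd] at ha ⊢; exact htmax a ha
    · refine (VarDim.dim_closure_singleton (FibDim14.toPt f _) d).trans ?_
      refine Eq.trans ?_ (VarDim.dim_closure_singleton (FibDim14.toPt f _) c).symm
      rw [← FibDim14.rd_fiberι, ← FibDim14.rd_fiberι, hd]
      exact congrArg Nat.cast hrd
  · obtain ⟨z, hzx, hfz, hmaxz, hd⟩ := FibGen4.exists_isMaxFib f x
    obtain ⟨t, -, htmax, hft, hrd, -⟩ := comp_of_open f hmaxz (h z (hfz.trans hx)) (genY _) maxY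
    rw [← hd, FibGen4.fibreDimAt_eq_rd_of_isMaxFib f hmaxz, ← hrd,
      ← FibGen4.fibreDimAt_eq_rd_of_isMaxFib f (x := t) fun a ha _ => htmax a ha, ← hft]
    exact (FibGen4.dim_fiber_le_iff f _ _).1 le_rfl t rfl

end Groth.Agent.S4920
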