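import Groth.Statements.S4921
import Groth.Agent.Lib.EquidimStalk4
import Groth.Agent.Lib.Unibr4.Criterion

set_option autoImplicit false
open CategoryTheory AlgebraicGeometry
universe u v w
open EGA43

set_option backward.isDefEq.respectTransparency.types false

namespace Groth.Agent.S4921


open Topology in
theorem genY {Y : Scheme.{u}} [IrreducibleSpace Y] (y : Y) : genericPoint Y ⤳ y :=
  (genericPoint_spec Y).specializes trivial

open Topology in
theorem maxY {Y : Scheme.{u}} [IrreducibleSpace Y] (z : Y) (hz : z ⤳ genericPoint Y) : z = genericPoint Y :=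
  (hz.antisymm (genY z)).eq

open Groth.Agent.FibDim14 Groth.Agent.EquidimStalk4 in
/-- The component selected by lifting generizations at a generic point of a fibre. -/
theorem comp_of_open {X Y : Scheme.{u}} [IsLocallyNoetherian Y] (f : X ⟶ Y) [LocallyOfFiniteType f] {z : X}
    (hmax : IsMaxFib f z) (h : EGA43.IsOpenAt f.base z) {η : Y} (hη : η ⤳ f z) (hηmax : ∀ a, a ⤳ η → a = η) :
    ∃ t, t ⤳ z ∧ (∀ a, a ⤳ t → a = t) ∧ f t = η ∧ rd f t = rd f z ∧
      ∀ w : Cl t, clι t w = z → FlatMor.fibreDimAt (clι t ≫ f) w = (rd f z : WithBot ℕ∞) := by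
  haveI : IsLocallyNoetherian X := LocallyOfFiniteType.isLocallyNoetherian f
  obtain ⟨t, htz, htmax, hft, hrd⟩ := Unibr4.exists_component_of_liftsAt f (EGA43Top.liftsAt_of_isOpenAt h) hη hηmax
  have key : ∀ w : Cl t, clι t w = z → rd f t = rd f z ∧
      FlatMor.fibreDimAt (clι t ≫ f) w = (rd f z : WithBot ℕ∞) := fun w hw => by
    obtain ⟨b1, b2, -⟩ := cl_bounds f w
    rw [hw, FibGen4.fibreDimAt_eq_rd_of_isMaxFib f hmax] at b2
    have h1 : rd f t ≤ rd f z := by exact_mod_cast b1.trans b2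
    have he : rd f t = rd f z := le_antisymm h1 hrd
    rw [he] at b1
    exact ⟨he, le_antisymm b2 b1⟩
  obtain ⟨w, hw⟩ := exists_preimage htz
  exact ⟨t, htz, htmax, hft, (key w hw).1, fun w hw => (key w hw).2⟩

open Groth.Agent.FibDim14 in
theorem key {X Y : Scheme.{u}} (f : X ⟶ Y) [IsProper f] {a b : Y} (hab : a ⤳ b) :
    topologicalKrullDim ↥(f.fiber a) ≤ topologicalKrullDim ↥(f.fiber b) := by
  refine (FibGen4.dim_fiber_le_iff f a _).2 fun x hx => ?_
  obtain ⟨x', hx', hfx'⟩ := f.isClosedMap.specializingMap (hx.symm ▸ hab : f x ⤳ b)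
  refine le_trans ?_ ((FibGen4.dim_fiber_le_iff f b _).1 le_rfl x' hfx')
  obtain ⟨z, -, -, hd, -⟩ := exists_fibreDimAt_eq f x'
  have h := hx'.mem_open (isOpen_fibreDimAt_le f (rd f z)) hd.le
  rw [hd]
  exact h


/-- Let Y be a locally Noetherian scheme, f : X ⟶ Y a proper morphism and y a point of Y such that f is
open at every point of the fibre over y. Then the function z ↦ dim X_z is constant on a
neighbourhood of y. -/
theorem result {X Y : Scheme.{u}} [IsLocallyNoetherian Y] (f : X ⟶ Y)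
    [IsProper f] (y : Y) (h : ∀ x : X, f.base x = y → EGA43.IsOpenAt f.base x) :
    ∃ V ∈ nhds y, ∀ z ∈ V, topologicalKrullDim ↥(f.fiber z) = topologicalKrullDim ↥(f.fiber y) := by
  haveI : IsLocallyNoetherian X := LocallyOfFiniteType.isLocallyNoetherian f
  have hle : ∀ η, η ⤳ y → (∀ a, a ⤳ η → a = η) →
      topologicalKrullDim ↥(f.fiber y) ≤ topologicalKrullDim ↥(f.fiber η) := fun η hη hmax => by
    refine (FibGen4.dim_fiber_le_iff f y _).2 fun x hx => ?_
    obtain ⟨z, hzx, hfz, hmaxz, hd⟩ := FibGen4.exists_isMaxFib f x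
    obtain ⟨t, -, htmax, hft, hrd, -⟩ := comp_of_open f hmaxz (h z (hfz.trans hx)) ((hfz.trans hx).symm ▸ hη) hmax
    rw [← hd, FibGen4.fibreDimAt_eq_rd_of_isMaxFib f hmaxz, ← hrd,
      ← FibGen4.fibreDimAt_eq_rd_of_isMaxFib f (x := t) fun a ha _ => htmax a ha, ← hft]
    exact (FibGen4.dim_fiber_le_iff f _ _).1 le_rfl t rfl
  obtain ⟨V, hyV, hV⟩ := FibSub4.exists_opens_max_specializes y
  let S : Set X := {x | ¬ FlatMor.fibreDimAt f x ≤ topologicalKrullDim ↥(f.fiber y)}
  have hS : IsClosed S := by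
    refine ⟨?_⟩
    have : Sᶜ = {x | FlatMor.fibreDimAt f x ≤ topologicalKrullDim ↥(f.fiber y)} := by ext x; simp [S]
    rw [this]
    by_cases he : ∃ x, f x = y
    · obtain ⟨x, hx⟩ := he
      obtain ⟨n, hn⟩ : ∃ n : ℕ, topologicalKrullDim ↥(f.fiber y) = (n : WithBot ℕ∞) := by
        haveI : CompactSpace ↥(f.fiber y) := inferInstance
        obtain ⟨s, hs⟩ := isCompact_univ.elim_finite_subcover
          (fun n : ℕ => (f.fiberι y).base ⁻¹' {a : X | FlatMor.fibreDimAt f a ≤ (n : WithBot ℕ∞)})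
          (fun n => (FibDim14.isOpen_fibreDimAt_le f n).preimage (f.fiberι y).continuous) (fun a _ => by
            obtain ⟨x', -, -, h', -⟩ := FibDim14.exists_fibreDimAt_eq f (f.fiberι y a)
            exact Set.mem_iUnion.2 ⟨_, h'.le⟩)
        have hub : topologicalKrullDim ↥(f.fiber y) ≤ ((s.sup id : ℕ) : WithBot ℕ∞) :=
          (FibGen4.dim_fiber_le_iff f y _).2 fun b hb => by
            obtain ⟨c, rfl⟩ : b ∈ Set.range (f.fiberι y) := by rw [Scheme.Hom.range_fiberι]; exact hb
            obtain ⟨n, hn, hc⟩ := Set.mem_iUnion₂.1 (hs (Set.mem_univ c))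
            exact le_trans hc (Nat.cast_le.2 (Finset.le_sup (f := id) hn))
        obtain ⟨z, -, -, hz, -⟩ := FibDim14.exists_fibreDimAt_eq f x
        have hlb := (FibGen4.dim_fiber_le_iff f y _).1 le_rfl x hx
        rw [hz] at hlb
        revert hub hlb
        generalize topologicalKrullDim ↥(f.fiber y) = D
        intro hub hlb
        induction D with
        | bot => simp at hlb
        | coe a =>
          obtain ⟨m, hm⟩ := ENat.ne_top_iff_exists.1
            (ne_top_of_le_ne_top (ENat.natCast_ne_top (s.sup id)) (WithBot.coe_le_coe.1 hub))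
          exact ⟨m, by rw [← hm]; rfl⟩
      rw [hn]
      exact FibDim14.isOpen_fibreDimAt_le f n
    · have hb : topologicalKrullDim ↥(f.fiber y) = ⊥ := le_bot_iff.1
        ((FibGen4.dim_fiber_le_iff f y _).2 fun x hx => absurd ⟨x, hx⟩ he)
      convert isOpen_empty
      refine Set.eq_empty_iff_forall_notMem.2 fun x hx => ?_
      obtain ⟨z, -, -, hd, -⟩ := FibDim14.exists_fibreDimAt_eq f x
      rw [Set.mem_setOf_eq, hd, hb] at hx
      simp at hx
  refine ⟨(V : Set Y) ∩ (f.base '' S)ᶜ, Filter.inter_mem (V.2.mem_nhds hyV)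
    ((f.isClosedMap S hS).isOpen_compl.mem_nhds ?_), fun z hz => le_antisymm ?_ ?_⟩
  · rintro ⟨x, hx, hfx⟩
    exact hx ((FibGen4.dim_fiber_le_iff f y _).1 le_rfl x hfx)
  · exact (FibGen4.dim_fiber_le_iff f z _).2 fun x hx => by_contra fun hn => hz.2 ⟨x, hn, hx⟩
  · obtain ⟨η, hηz, hηmax⟩ := EquidimAt4.exists_max_specializes z
    exact (hle η (hV η (hηz.mem_open V.2 hz.1) hηmax) hηmax).trans (key f hηz)

end Groth.Agent.S4921
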