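import Groth.Statements.S4924
import Groth.Agent.Lib.FibDimLocConst4

set_option autoImplicit false
open CategoryTheory AlgebraicGeometry
universe u v w
open EGA43

set_option backward.isDefEq.respectTransparency.types false

namespace Groth.Agent.S4924


open Groth.Agent.FibDim14 in
theorem exists_open {X Y : Scheme.{u}} [IsLocallyNoetherian Y] (f : X ⟶ Y) [LocallyOfFiniteType f] [QuasiCompact f]
    (y : Y) : ∃ U : X.Opens, f.base ⁻¹' {y} ⊆ (U : Set X) ∧
      ∀ z, topologicalKrullDim ↥((U : Set X) ∩ f.base ⁻¹' {z}) ≤ topologicalKrullDim ↥(f.fiber y) := by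
  by_cases he : ∃ x, f x = y
  · obtain ⟨x, hx⟩ := he
    obtain ⟨s, hs⟩ := (f.isCompact_preimage_singleton y).elim_finite_subcover
      (fun n : ℕ => {a : X | FlatMor.fibreDimAt f a ≤ (n : WithBot ℕ∞)})
      (fun n => isOpen_fibreDimAt_le f n) (fun a _ => by
        obtain ⟨x', -, -, h', -⟩ := exists_fibreDimAt_eq f a
        exact Set.mem_iUnion.2 ⟨_, h'.le⟩)
    have hub : topologicalKrullDim ↥(f.fiber y) ≤ ((s.sup id : ℕ) : WithBot ℕ∞) :=
      (FibGen4.dim_fiber_le_iff f y _).2 fun b hb => by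
        obtain ⟨n, hn, hc⟩ := Set.mem_iUnion₂.1 (hs hb)
        exact le_trans hc (Nat.cast_le.2 (Finset.le_sup (f := id) hn))
    obtain ⟨z, -, -, hz, -⟩ := exists_fibreDimAt_eq f x
    have hlb := (FibGen4.dim_fiber_le_iff f y _).1 le_rfl x hx
    rw [hz] at hlb
    obtain ⟨n, hn⟩ : ∃ n : ℕ, topologicalKrullDim ↥(f.fiber y) = (n : WithBot ℕ∞) := by
      revert hub hlb
      generalize topologicalKrullDim ↥(f.fiber y) = D
      intro hub hlb
      induction D with
      | bot => simp at hlb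
      | coe a =>
        obtain ⟨m, hm⟩ := ENat.ne_top_iff_exists.1
          (ne_top_of_le_ne_top (ENat.natCast_ne_top (s.sup id)) (WithBot.coe_le_coe.1 hub))
        exact ⟨m, by rw [← hm]; rfl⟩
    refine ⟨⟨_, isOpen_fibreDimAt_le f n⟩, fun a ha => ((FibGen4.dim_fiber_le_iff f y _).1 le_rfl a ha).trans hn.le,
      fun w => ?_⟩
    let U : X.Opens := ⟨_, isOpen_fibreDimAt_le f n⟩
    rw [FibSub4.dim_inter_preimage U.ι f U.range_ι, hn]
    refine (FibGen4.dim_fiber_le_iff _ _ _).2 fun a _ => ?_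
    obtain ⟨b, hb, hfb, hbmax, hbd⟩ := FibGen4.exists_isMaxFib (U.ι ≫ f) a
    rw [← hbd, FibGen4.fibreDimAt_eq_rd_of_isMaxFib _ hbmax, FibSub4.rd_preimmersion]
    exact le_trans (rd_le_fibreDimAt f specializes_rfl rfl) b.2
  · refine ⟨⊥, fun a ha => absurd ⟨a, ha⟩ he, fun w => ?_⟩
    rw [FibSub4.dim_inter_preimage (⊥ : X.Opens).ι f (⊥ : X.Opens).range_ι]
    exact (FibGen4.dim_fiber_le_iff _ _ _).2 fun a _ => False.elim a.2


/-- Let Y be a locally Noetherian scheme, f : X ⟶ Y an open morphism of finite type and y a point of Y.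
Then there is an open neighbourhood U of the fibre f⁻¹(y) in X such that the function z ↦ dim (U ∩
f⁻¹(z)) is constant on a neighbourhood of y. -/
theorem result {X Y : Scheme.{u}} [IsLocallyNoetherian Y]
    (f : X ⟶ Y) [LocallyOfFiniteType f] [QuasiCompact f] (hf : IsOpenMap f.base) (y : Y) :
    ∃ U : X.Opens, f.base ⁻¹' {y} ⊆ (U : Set X) ∧ ∃ V ∈ nhds y, ∀ z ∈ V,
      topologicalKrullDim ↥((U : Set X) ∩ f.base ⁻¹' {z}) = topologicalKrullDim ↥((U : Set X) ∩ f.base ⁻¹' {y}) := by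
  haveI : IsLocallyNoetherian X := LocallyOfFiniteType.isLocallyNoetherian f
  obtain ⟨U, hyU, hU⟩ := exists_open f y
  refine ⟨U, hyU, ?_⟩
  have hfull : topologicalKrullDim ↥((U : Set X) ∩ f.base ⁻¹' {y}) = topologicalKrullDim ↥(f.fiber y) := by
    rw [Set.inter_eq_right.2 hyU]
    exact (IsHomeomorph.topologicalKrullDim_eq _ (f.fiberHomeo y).isHomeomorph).symm
  have hopen : IsOpenMap (U.ι ≫ f).base := hf.comp U.ι.isOpenEmbedding.isOpenMap
  refine ⟨_, FibDimLocConst4.exists_nhds (U.ι ≫ f) hopen y fun η hη _ => ?_, fun z hz => ?_⟩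
  · refine le_antisymm (FibDimLocConst4.dim_fiber_le_of_isOpenMap _ hopen hη) ?_
    rw [← FibSub4.dim_inter_preimage U.ι f U.range_ι, ← FibSub4.dim_inter_preimage U.ι f U.range_ι, hfull]
    exact hU η
  · rw [Set.mem_setOf_eq, ← FibSub4.dim_inter_preimage U.ι f U.range_ι, ← FibSub4.dim_inter_preimage U.ι f U.range_ι] at hz
    exact hz

end Groth.Agent.S4924
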