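import Groth.Statements.S4926
import Groth.Agent.Lib.EGA43Top.UnivOpenAt

set_option autoImplicit false
open CategoryTheory AlgebraicGeometry
universe u v w
open EGA43

namespace Groth.Agent.S4926

/-- Let f : X ⟶ Y and g : Y ⟶ Z be morphisms of schemes and x a point of X. If f ≫ g is universally open
at x, then g is universally open at the point f x. -/
theorem result {X Y Z : Scheme.{u}} (f : X ⟶ Y) (g : Y ⟶ Z) (x : X)
    (h : EGA43.IsUnivOpenAt (f ≫ g) x) : EGA43.IsUnivOpenAt g (f.base x) := by
  exact Groth.Agent.EGA43Top.isUnivOpenAt_of_comp h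

end Groth.Agent.S4926
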