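import Groth.Statements.S4933
import Groth.Agent.Lib.EquidimStalk4
import Groth.Agent.Lib.FibVal4
import Groth.Agent.Lib.EGA43Top.OpenCriterion
import Groth.Agent.Lib.Unibr4.Criterion
import Mathlib.AlgebraicGeometry.ValuativeCriterion

set_option autoImplicit false
open CategoryTheory AlgebraicGeometry
universe u v w
open EGA43

set_option backward.isDefEq.respectTransparency.types false

namespace Groth.Agent.S4933


open Topology Limits IsLocalRing Groth.Agent.FibDim14 in
theorem lift_rd {X Y : Scheme.{u}} (f : X ⟶ Y) [LocallyOfFiniteType f] {x : X} (h : EGA43.IsUnivOpenAt f x)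
    (hmax : IsMaxFib f x) {y' : Y} (hy : y' ⤳ f x) :
    ∃ a, a ⤳ x ∧ f a = y' ∧ rd f x ≤ rd f a := by
  let φ : Y.presheaf.stalk (f x) ⟶ Y.residueField y' := Y.presheaf.stalkSpecializes hy ≫ Y.residue y'
  obtain ⟨A, hA, hA_local⟩ := exists_factor_valuationRing φ.hom
  let ψ : Y.presheaf.stalk (f x) ⟶ .of A := CommRingCat.ofHom (φ.hom.codRestrict _ hA)
  let g : Spec (.of A) ⟶ Y := Spec.map ψ ≫ Y.fromSpecStalk (f x)
  have hgc : g (closedPoint A) = f x := by
    have h1 : Spec.map ψ (closedPoint A) = closedPoint (Y.presheaf.stalk (f x)) :=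
      comap_closedPoint (S := A) (φ.hom.codRestrict A.toSubring hA)
    show Y.fromSpecStalk (f x) (Spec.map ψ (closedPoint A)) = f x
    rw [h1, Y.fromSpecStalk_closedPoint]
  let j : Spec (Y.residueField y') ⟶ Spec (.of A) :=
    Spec.map (CommRingCat.ofHom (algebraMap A (Y.residueField y')))
  have hj : (j (closedPoint (Y.residueField y')) : PrimeSpectrum A).asIdeal = ⊥ := by
    show (closedPoint (Y.residueField y')).asIdeal.comap (algebraMap A (Y.residueField y')) = ⊥
    rw [show (closedPoint (Y.residueField y')).asIdeal = ⊥ from maximalIdeal_eq_bot,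
      ← RingHom.ker_eq_comap_bot]
    exact (RingHom.injective_iff_ker_eq_bot _).1 (FaithfulSMul.algebraMap_injective _ _)
  have hjg : j ≫ g = Y.fromSpecResidueField y' := by
    rw [Scheme.fromSpecResidueField, ← Scheme.SpecMap_stalkSpecializes_fromSpecStalk hy]
    simp_rw [j, g, ← Spec.map_comp_assoc]
    rfl
  have hgg : g (j (closedPoint (Y.residueField y'))) = y' := by
    rw [← Scheme.Hom.comp_apply, hjg, Scheme.fromSpecResidueField_apply]
  have hsq : IsPullback (pullback.fst f g) (pullback.snd f g) f g := IsPullback.of_hasPullback _ _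
  obtain ⟨x', hx', hsx', hrd⟩ := exists_over_rd_eq hsq x (closedPoint A) hgc.symm
  haveI : LocallyOfFiniteType (pullback.snd f g) := MorphismProperty.pullback_snd _ _ inferInstance
  have hd : FlatMor.fibreDimAt (pullback.snd f g) x' = (rd f x : WithBot ℕ∞) := by
    rw [fibreDimAt_baseChange hsq, hx', FibGen4.fibreDimAt_eq_rd_of_isMaxFib f hmax]
  have hmax' : IsMaxFib (pullback.snd f g) x' := by
    intro b hb he
    by_contra hne
    have h1 := rd_le_fibreDimAt (pullback.snd f g) hb he
    rw [hd] at h1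
    have h2 : rd (pullback.snd f g) b ≤ rd f x := by exact_mod_cast h1
    have h3 := rd_lt_of_specializes (pullback.snd f g) hb hne he
    omega
  have hop : EGA43.IsOpenAt (pullback.snd f g).base x' := h _ g x' hx'
  obtain ⟨a', ha', hfa'⟩ := EGA43Top.liftsAt_of_isOpenAt hop (j (closedPoint (Y.residueField y')))
    (by
      rw [show (pullback.snd f g) x' = closedPoint A from hsx']
      exact specializes_closedPoint (R := CommRingCat.of A) _)
  refine ⟨pullback.fst f g a', hx' ▸ ha'.map (pullback.fst f g).continuous, ?_, ?_⟩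
  · rw [← Scheme.Hom.comp_apply, hsq.w, Scheme.Hom.comp_apply, hfa', hgg]
  · have h1 := FibGen4.fibreDimAt_le_rd_of_valuationRing (pullback.snd f g) hmax' ha' (by rw [hfa']; exact hj)
    rw [hd] at h1
    exact le_trans (by exact_mod_cast h1) (rd_baseChange_le hsq a')

open Topology TopologicalSpace Groth.Agent.FibDim14 in
theorem exists_good_open {X Y : Scheme.{u}} (f : X ⟶ Y) [LocallyOfFiniteType f] (x : X) {η : Y} (hη : η ⤳ f x) :
    ∃ U : X.Opens, x ∈ U ∧ ∀ t ∈ U, f t = η → IsMaxFib f t → t ⤳ x := by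
  obtain ⟨V, hV, hyV, -⟩ := exists_isAffineOpen_mem_and_subset (U := (⊤ : Y.Opens)) (x := f x) trivial
  obtain ⟨A, hA, hxA, hAV⟩ := exists_isAffineOpen_mem_and_subset (U := f ⁻¹ᵁ V) (x := x) hyV
  haveI : IsAffine (A : Scheme.{u}) := hA
  haveI : IsAffine (V : Scheme.{u}) := hV
  let f' : (A : Scheme.{u}) ⟶ (V : Scheme.{u}) := f.resLE V A hAV
  let ηV : (V : Scheme.{u}) := ⟨η, hη.mem_open V.2 hyV⟩
  haveI : IsLocallyNoetherian (f'.fiber ηV) := LocallyOfFiniteType.isLocallyNoetherian (toPt f' ηV)
  haveI : IsNoetherian (f'.fiber ηV) := ⟨⟩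
  have hfin := TopologicalSpace.NoetherianSpace.finite_irreducibleComponents (α := f'.fiber ηV)
  let S : Set X := {t | t ∈ A ∧ f t = η ∧ IsMaxFib f t}
  have hS : S.Finite := by
    refine (hfin.biUnion (t := fun Z => (fun a => A.ι (f'.fiberι ηV a)) '' {a | closure {a} = Z})
      fun Z _ => ?_).subset ?_
    · exact Set.Subsingleton.finite (Set.Subsingleton.image (fun a ha b hb => IsGenericPoint.eq ha hb) _)
    · rintro t ⟨htA, hft, htmax⟩
      obtain ⟨a, ha⟩ : (⟨t, htA⟩ : (A : Scheme.{u})) ∈ Set.range (f'.fiberι ηV) := by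
        rw [Scheme.Hom.range_fiberι]
        refine V.ι.isOpenEmbedding.injective ?_
        rw [← Scheme.Hom.comp_apply, Scheme.Hom.resLE_comp_ι]
        exact hft
      refine Set.mem_iUnion₂.2 ⟨closure {a}, (VarDim.maximal_iff_mem_irreducibleComponents
        (X := f'.fiber ηV) a).1 fun b hb => ?_, a, rfl, congrArg A.ι ha⟩
      refine (f'.fiberι ηV).isEmbedding.injective ?_
      rw [ha]
      refine A.ι.isOpenEmbedding.injective ?_
      refine htmax _ ((ha ▸ hb.map (f'.fiberι ηV).continuous).map A.ι.continuous) ?_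
      have h1 : f' (f'.fiberι ηV b) = ηV := (Scheme.Hom.range_fiberι f' ηV).le ⟨b, rfl⟩
      have h2 := congrArg V.ι h1
      rw [← Scheme.Hom.comp_apply, Scheme.Hom.resLE_comp_ι] at h2
      exact h2.trans hft.symm
  let bad : Set X := ⋃ t ∈ {t ∈ S | ¬ t ⤳ x}, closure {t}
  have hbad : IsClosed bad := (hS.subset fun t ht => ht.1).isClosed_biUnion fun t _ => isClosed_closure
  refine ⟨A ⊓ ⟨badᶜ, hbad.isOpen_compl⟩, ⟨hxA, fun h => ?_⟩, fun t ht hft htmax => ?_⟩
  · obtain ⟨t, ht, hxt⟩ := Set.mem_iUnion₂.1 h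
    exact ht.2 (specializes_iff_mem_closure.2 hxt)
  · by_contra hn
    exact ht.2 (Set.mem_iUnion₂.2 ⟨t, ⟨⟨ht.1, hft, htmax⟩, hn⟩, subset_closure rfl⟩)

open Topology in
theorem image_closure {A B : Scheme.{u}} (f : A ⟶ B) (t : A) : closure (f.base '' closure {t}) = closure {f t} :=
  (closure_image_closure f.continuous).trans (by rw [Set.image_singleton])


/-- Let f : X ⟶ Y be a morphism locally of finite type, x a point of X which is a maximal point of its
fibre X_y, y = f x. Consider: a) f is universally open at x; b) for every irreducible component Y₀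
of Y containing y, with generic point η, there is an irreducible component Z of X containing x and
dominating Y₀ such that dim_x(X_y) = dim_x(Z ∩ X_y) = dim(Z ∩ X_η); b') for every open neighbourhood
U of x and every generization y' of y one has dim(U ∩ X_{y'}) ≥ dim_x(X_y). Then a) implies b'), and
b') implies b). (Subsets of X carry the induced topology; dim_x(U ∩ X_y) = dim_x(X_y). The published
statement asserts moreover that b) implies b'); that implication can fail, because a generization y'
of y need not lie under any point of U ∩ Z: for the finite birational morphism from the affine plane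
onto the surface obtained from it by identifying two rational points p and q, at x = p condition b)
holds with all dimensions equal to 0, while for U the complement of a line L through q avoiding p
and y' the image of the generic point of L the set U ∩ X_{y'} is empty. So only a) ⇒ b') and b') ⇒
b) are stated here.) -/
theorem result {X Y : Scheme.{u}} (f : X ⟶ Y) [LocallyOfFiniteType f]
    (x : X) (hmax : ∀ x' : X, f.base x' = f.base x → x ∈ closure {x'} → x' = x) :
    (EGA43.IsUnivOpenAt f x → (∀ U : X.Opens, x ∈ U → ∀ y' : Y, y' ⤳ f.base x →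
        FlatMor.fibreDimAt f x ≤ topologicalKrullDim ↥((U : Set X) ∩ f.base ⁻¹' {y'}))) ∧
    ((∀ U : X.Opens, x ∈ U → ∀ y' : Y, y' ⤳ f.base x →
        FlatMor.fibreDimAt f x ≤ topologicalKrullDim ↥((U : Set X) ∩ f.base ⁻¹' {y'})) →
      (∀ Y₀ ∈ irreducibleComponents (Y : Type u), f.base x ∈ Y₀ →
        ∃ Z ∈ irreducibleComponents (X : Type u), ∃ hx : x ∈ Z, closure (f.base '' Z) = Y₀ ∧
          ∀ η : Y, closure ({η} : Set Y) = Y₀ →
            FlatMor.fibreDimAt f x = FlatMor.localDim ↥(Z ∩ f.base ⁻¹' {f.base x}) ⟨x, ⟨hx, rfl⟩⟩ ∧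
            FlatMor.localDim ↥(Z ∩ f.base ⁻¹' {f.base x}) ⟨x, ⟨hx, rfl⟩⟩ =
              topologicalKrullDim ↥(Z ∩ f.base ⁻¹' {η}))) := by
  have hmaxx : FibDim14.IsMaxFib f x := fun x' hx' he => hmax x' he (specializes_iff_mem_closure.1 hx')
  refine ⟨fun h U hxU y' hy' => ?_, fun h Y₀ hY₀ hxY₀ => ?_⟩
  · obtain ⟨a, ha, hfa, hrd⟩ := lift_rd f h hmaxx hy'
    rw [FibGen4.fibreDimAt_eq_rd_of_isMaxFib f hmaxx, ← hfa]
    exact le_trans (by exact_mod_cast hrd) (FibSub4.rd_le_dim_open f (ha.mem_open U.2 hxU))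
  · obtain ⟨η, rfl, hη⟩ := VarDim.exists_generic_of_mem_irreducibleComponents hY₀
    have hηx : η ⤳ f x := specializes_iff_mem_closure.2 hxY₀
    obtain ⟨U, hxU, hU⟩ := exists_good_open f x hηx
    have h1 := h U hxU η hηx
    rw [FibGen4.fibreDimAt_eq_rd_of_isMaxFib f hmaxx] at h1
    obtain ⟨t, htU, hft, hrd, htmax⟩ := FibSub4.exists_rd_ge_of_le_dim_open f h1
    have htmax' : ∀ z, z ⤳ t → z = t := fun z hz =>
      htmax z hz (by rw [hft]; exact hη _ (hft ▸ hz.map f.continuous))
    have htx := hU t htU hft htmax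
    refine ⟨closure {t}, (VarDim.maximal_iff_mem_irreducibleComponents (X := X) t).1 htmax',
      specializes_iff_mem_closure.1 htx, by rw [image_closure, hft], fun η' hη' => ?_⟩
    have he : η' = η := IsGenericPoint.eq hη' isGenericPoint_closure
    obtain ⟨w, hw⟩ := EquidimStalk4.exists_preimage htx
    obtain ⟨b1, b2, -⟩ := EquidimStalk4.cl_bounds f w
    rw [hw, FibGen4.fibreDimAt_eq_rd_of_isMaxFib f hmaxx] at b2
    have h3 : (FibDim14.rd f x : WithBot ℕ∞) ≤ FibDim14.rd f t := by exact_mod_cast hrd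
    rw [FibSub4.localDim_inter_preimage (EquidimStalk4.clι t) f (EquidimStalk4.range_clι t) w hw rfl
      (specializes_iff_mem_closure.1 htx), he, ← hft, (FibSub4.closure_fibre f t).1,
      FibGen4.fibreDimAt_eq_rd_of_isMaxFib f hmaxx]
    exact ⟨le_antisymm (h3.trans b1) b2, le_antisymm (b2.trans h3) b1⟩

end Groth.Agent.S4933
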