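import Groth.Statements.S4934
import Groth.Agent.Lib.Unibr4.Criterion
import Groth.Agent.Lib.FibSub4

set_option autoImplicit false
open CategoryTheory AlgebraicGeometry
universe u v w
open EGA43

set_option backward.isDefEq.respectTransparency.types false

namespace Groth.Agent.S4934


open Topology in
theorem image_closure {A B : Scheme.{u}} (f : A ⟶ B) (t : A) : closure (f.base '' closure {t}) = closure {f t} :=
  (closure_image_closure f.continuous).trans (by rw [Set.image_singleton])


/-- Let Y be a locally Noetherian scheme, f : X ⟶ Y a morphism locally of finite type, x a maximal point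
of its fibre X_y, and suppose y = f x is a geometrically unibranch point of Y (so that y lies on
exactly one irreducible component Y₀ of Y, with generic point η). The following are equivalent: a) f
is universally open at x; b) there is an irreducible component Z of X containing x and dominating Y₀
with dim_x(Z ∩ X_y) = dim(Z ∩ X_η); b') for every open neighbourhood U of x and every generization
y' of y, dim(U ∩ X_{y'}) ≥ dim_x(X_y); c) f is open at x. (The published statement asserts a) ⇔ b) ⇔
b') over an arbitrary base and adds c) for a locally Noetherian one; over the spectrum Y of an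
infinite product of copies of a field, the inclusion of a non-open closed point satisfies b) and not
a), and the published proof of b) ⇒ a) uses the openness criterion by lifting of generizations and a
finiteness of irreducible components, both available over a locally Noetherian base, which is
assumed here throughout.) -/
theorem result {X Y : Scheme.{u}} [IsLocallyNoetherian Y] (f : X ⟶ Y)
    [LocallyOfFiniteType f] (x : X) (hmax : ∀ x' : X, f.base x' = f.base x → x ∈ closure {x'} → x' = x)
    (hy : CAlg2.IsGeomUnibranch (Y.presheaf.stalk (f.base x))) :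
    List.TFAE [EGA43.IsUnivOpenAt f x,
      (∀ Y₀ ∈ irreducibleComponents (Y : Type u), f.base x ∈ Y₀ →
        ∃ Z ∈ irreducibleComponents (X : Type u), ∃ hx : x ∈ Z, closure (f.base '' Z) = Y₀ ∧
          ∀ η : Y, closure ({η} : Set Y) = Y₀ →
            FlatMor.localDim ↥(Z ∩ f.base ⁻¹' {f.base x}) ⟨x, ⟨hx, rfl⟩⟩ =
              topologicalKrullDim ↥(Z ∩ f.base ⁻¹' {η})),
      (∀ U : X.Opens, x ∈ U → ∀ y' : Y, y' ⤳ f.base x →
        FlatMor.fibreDimAt f x ≤ topologicalKrullDim ↥((U : Set X) ∩ f.base ⁻¹' {y'})),
      EGA43.IsOpenAt f.base x] := by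
  haveI : IsLocallyNoetherian X := LocallyOfFiniteType.isLocallyNoetherian f
  have hmaxx : FibDim14.IsMaxFib f x := fun x' hx' he => hmax x' he (specializes_iff_mem_closure.1 hx')
  tfae_have 1 → 4 := Unibr4.isOpenAt_of_isUnivOpenAt
  tfae_have 4 → 3 := by
    intro h U hxU y' hy'
    obtain ⟨a, ha, hfa, hrd⟩ := Unibr4.exists_lift_rd_ge f x (EGA43Top.liftsAt_of_isOpenAt h) hy'
    rw [FibGen4.fibreDimAt_eq_rd_of_isMaxFib f hmaxx, ← hfa]
    exact le_trans (by exact_mod_cast hrd) (FibSub4.rd_le_dim_open f (ha.mem_open U.2 hxU))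
  tfae_have 3 → 2 := by
    intro h Y₀ hY₀ hxY₀
    obtain ⟨η, rfl, hη⟩ := VarDim.exists_generic_of_mem_irreducibleComponents hY₀
    obtain ⟨U, hxU, hU⟩ := FibSub4.exists_opens_max_specializes x
    have h1 := h U hxU η (specializes_iff_mem_closure.2 hxY₀)
    rw [FibGen4.fibreDimAt_eq_rd_of_isMaxFib f hmaxx] at h1
    obtain ⟨t, htU, hft, hrd, htmax⟩ := FibSub4.exists_rd_ge_of_le_dim_open f h1
    have ht : ∀ y, y ⤳ t → y = t := fun y hy => htmax y hy (by
      rw [hft]
      exact hη _ (hft ▸ hy.map f.continuous))
    have htx := hU t htU ht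
    refine ⟨closure {t}, (VarDim.maximal_iff_mem_irreducibleComponents (X := X) t).1 ht,
      specializes_iff_mem_closure.1 htx, by rw [image_closure, hft], fun η' hη' => ?_⟩
    have he : η' = η := IsGenericPoint.eq hη' isGenericPoint_closure
    subst he
    rw [(FibSub4.closure_fibre f t).2 x (specializes_iff_mem_closure.1 htx) hmaxx, ← hft, (FibSub4.closure_fibre f t).1]
    have h2 := (FibDim14.fibreDimAt_le_iff f).1 (htx.mem_open (FibDim14.isOpen_fibreDimAt_le f (FibDim14.rd f x))
      (FibGen4.fibreDimAt_eq_rd_of_isMaxFib f hmaxx).le) t specializes_rfl rfl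
    exact congrArg Nat.cast (le_antisymm hrd h2)
  tfae_have 2 → 1 := by
    intro h
    obtain ⟨η, hη, hηmax⟩ := Unibr4.exists_max (f x)
    obtain ⟨Z, hZ, hxZ, hcl, hdim⟩ := h _ ((VarDim.maximal_iff_mem_irreducibleComponents (X := Y) η).1 hηmax)
      (specializes_iff_mem_closure.1 hη)
    obtain ⟨t, rfl, ht⟩ := VarDim.exists_generic_of_mem_irreducibleComponents hZ
    rw [image_closure] at hcl
    have hft : f t = η := IsGenericPoint.eq hcl isGenericPoint_closure
    have h2 := hdim η rfl
    rw [(FibSub4.closure_fibre f t).2 x hxZ hmaxx, ← hft, (FibSub4.closure_fibre f t).1] at h2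
    refine Unibr4.isUnivOpenAt f x t (Or.inl inferInstance) hy (specializes_iff_mem_closure.2 hxZ)
      (hft.symm ▸ hηmax) ?_
    rw [FibGen4.fibreDimAt_eq_rd_of_isMaxFib f hmaxx]
    exact h2.le
  tfae_finish

end Groth.Agent.S4934
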