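import Groth.Statements.S4935
import Groth.Agent.Lib.Unibr4.GoDown

set_option autoImplicit false
universe u
open EGA43

set_option backward.isDefEq.respectTransparency.types false

namespace Groth.Agent.S4935

/-- Let A be a unibranch local domain, B a domain containing A and integral over A, and 𝔫 a prime ideal
of B lying over the maximal ideal of A. Then Spec B_𝔫 → Spec A is surjective: for every prime ideal
𝔭 of A there is a prime ideal 𝔮 ⊆ 𝔫 of B with 𝔮 ∩ A = 𝔭. -/
theorem result {A B : Type u} [CommRing A] [IsDomain A]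
    [IsLocalRing A] (hA : CAlg2.IsUnibranch A) [CommRing B] [IsDomain B] [Algebra A B]
    (hinj : Function.Injective (algebraMap A B)) [Algebra.IsIntegral A B] (n : Ideal B) [n.IsPrime]
    (hn : n.comap (algebraMap A B) = IsLocalRing.maximalIdeal A) (p : Ideal A) [p.IsPrime] :
    ∃ q : Ideal B, q.IsPrime ∧ q ≤ n ∧ q.comap (algebraMap A B) = p := by
  haveI : IsLocalization.AtPrime A (IsLocalRing.maximalIdeal A) := IsLocalization.at_units fun x hx => by
    exact not_not.1 fun h => hx ((IsLocalRing.mem_maximalIdeal x).2 h)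
  haveI := hA.1
  have hker0 : RingHom.ker (algebraMap A (Unibr4.NB A A)) ≤ (⊥ : Ideal A) := by
    rw [Unibr4.ker_NB (A := A)]
    exact Unibr4.ker_le_of_le (IsLocalRing.maximalIdeal A) bot_le
  have hB := Unibr4.ub_NB (R := A) (A := A) (IsLocalRing.maximalIdeal A) hA
    (Unibr4.nhd_of_irreducible (IsLocalRing.maximalIdeal A) hA.1 (by
      rw [nilradical_eq_zero]; exact Ideal.isPrime_bot))
  refine Unibr4.exists_le_of_integral hB n ⊥ bot_le hn ?_ p (IsLocalRing.le_maximalIdeal (Ideal.IsPrime.ne_top inferInstance))
    (hker0.trans bot_le)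
  intro a ha
  have h0 : algebraMap A B a = 0 := ha
  rw [hinj (h0.trans (map_zero _).symm)]
  exact zero_mem _

end Groth.Agent.S4935
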