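import Groth.Statements.S4937
import Groth.Agent.Lib.Unibr4.GoDown

set_option autoImplicit false
open CategoryTheory AlgebraicGeometry
universe u v w
open EGA43

set_option backward.isDefEq.respectTransparency.types false

namespace Groth.Agent.S4937

/-- Let X and Y be irreducible schemes and f : X ⟶ Y a dominant morphism which is locally of finite
presentation and locally quasi-finite. If x is a point of X whose image y = f x has unibranch local
ring O_{Y,y}, then f is open at x. (Stated for f locally of finite presentation, the class to which
the openness criterion by lifting of generizations used in the published argument applies; the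
published hypothesis is 'locally quasi-finite', which includes locally of finite type.) -/
theorem result {X Y : Scheme.{u}} [IrreducibleSpace X]
    [IrreducibleSpace Y] (f : X ⟶ Y) [LocallyOfFinitePresentation f] [LocallyQuasiFinite f] [IsDominant f]
    (x : X) (hy : CAlg2.IsUnibranch (Y.presheaf.stalk (f.base x))) : EGA43.IsOpenAt f.base x := by
  refine Unibr4.isOpenAt f x (genericPoint X) (Or.inr inferInstance) hy ((genericPoint_spec X).specializes trivial) ?_
    (f.quasiFiniteAt x)
  rw [Unibr4.apply_genericPoint f f.denseRange]
  exact Unibr4.max_of_irreducible

end Groth.Agent.S4937
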