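import Groth.Statements.S4939
import Groth.Agent.Lib.EquidimStalk4
import Groth.Agent.Lib.Unibr4.Criterion
import Groth.Agent.Lib.Unibr4.Lifts
import Groth.Agent.S2559

set_option autoImplicit false
open CategoryTheory AlgebraicGeometry
universe u v w
open EGA43

set_option backward.isDefEq.respectTransparency.types false

namespace Groth.Agent.S4939


open Groth.Agent.FibDim14 Groth.Agent.EquidimStalk4 in
theorem fwd {X Y : Scheme.{u}} [IsLocallyNoetherian Y] (f : X ⟶ Y) [LocallyOfFiniteType f] (x : X)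
    (hy : CAlg2.IsGeomUnibranch (Y.presheaf.stalk (f x))) (h : EGA43.IsEquidimAt f x) :
    (∀ z, z ⤳ x → f z = f x → IsMaxFib f z → EGA43.IsUnivOpenAt f z) ∧ EGA4.IsEquidim (X.presheaf.stalk x) := by
  haveI : IsLocallyNoetherian X := LocallyOfFiniteType.isLocallyNoetherian f
  obtain ⟨e, he⟩ := (isEquidimAt_iff f x).1 h
  have hop : ∀ z, z ⤳ x → f z = f x → IsMaxFib f z → EGA43.IsUnivOpenAt f z := by
    intro z hzx hfz hmax
    obtain ⟨t, htz, htmax⟩ := EquidimAt4.exists_max_specializes z
    obtain ⟨h1, h2, h3⟩ := he t (htz.trans hzx) htmax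
    refine Unibr4.isUnivOpenAt f z t (Or.inl inferInstance) (hfz.symm ▸ hy) htz h1 ?_
    rw [FibGen4.fibreDimAt_eq_rd_of_isMaxFib f hmax, h2, ← h3]
    exact rd_le_fibreDimAt f hzx hfz
  refine ⟨hop, (isEquidim_stalk_iff x).2 fun t htx htmax w hw => ?_⟩
  obtain ⟨h1, h2, h3⟩ := he t htx htmax
  obtain ⟨g, hg, hgen⟩ := exists_gen t
  haveI : IsLocallyNoetherian (Cl t) := LocallyOfFiniteType.isLocallyNoetherian (clι t ≫ f)
  have hfw : (clι t ≫ f) w = f x := by rw [Scheme.Hom.comp_apply, hw]
  have hd : FlatMor.fibreDimAt (clι t ≫ f) w = (e : WithBot ℕ∞) := by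
    obtain ⟨b1, b2, -⟩ := cl_bounds f w
    rw [hw, h3] at b2
    rw [h2] at b1
    exact le_antisymm b2 b1
  have hopt : ∀ z, z ⤳ w → (clι t ≫ f) z = (clι t ≫ f) w →
      (∀ z', z' ⤳ z → (clι t ≫ f) z' = (clι t ≫ f) w → z' = z) → EGA43Top.LiftsAt (clι t ≫ f) z := by
    intro z hzw hfz hmax
    refine EGA43Top.liftsAt_of_isOpenAt (Unibr4.isOpenAt_of_isUnivOpenAt
      (Unibr4.isUnivOpenAt (clι t ≫ f) z g (Or.inl inferInstance) (hfz.trans hfw |>.symm ▸ hy) (hgen z) ?_ ?_))
    · rw [Scheme.Hom.comp_apply, hg]; exact h1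
    · rw [FibGen4.fibreDimAt_eq_rd_of_isMaxFib (clι t ≫ f) fun a ha he => hmax a ha (he.trans hfz),
        rd_clι f t g, hg, h2, ← hd]
      exact rd_le_fibreDimAt (clι t ≫ f) hzw hfz
  have E1 := EGA43Top.ringKrullDim_stalk_eq_of_liftsAt (clι t ≫ f) w hopt
  have E2 := EGA43Top.ringKrullDim_stalk_eq_of_liftsAt f x fun z hzx hfz hmax =>
    EGA43Top.liftsAt_of_isOpenAt (Unibr4.isOpenAt_of_isUnivOpenAt
      (hop z hzx hfz fun a ha he => hmax a ha (he.trans hfz)))
  haveI : IsLocallyNoetherian (f.fiber (f x)) := LocallyOfFiniteType.isLocallyNoetherian (toPt f (f x))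
  haveI : IsLocallyNoetherian ((clι t ≫ f).fiber ((clι t ≫ f) w)) :=
    LocallyOfFiniteType.isLocallyNoetherian (toPt (clι t ≫ f) _)
  obtain ⟨a, ha⟩ := exists_nat_dim (f.asFiber x)
  obtain ⟨b, hb⟩ := exists_nat_dim ((clι t ≫ f).asFiber w)
  rw [localDim_asFiber_eq, hb, rd_clι, hw] at hd
  rw [localDim_asFiber_eq, ha] at h3
  have hab : b = a := by
    have h4 : a + rd f x = e := by exact_mod_cast h3
    have h5 : b + rd f x = e := by exact_mod_cast hd
    omega
  rw [E1, E2, ha, hb, hab, hfw]


/-- Suppose Y is a locally Noetherian scheme and f : X ⟶ Y is locally of finite type; take a point x of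
X whose image y = f x is geometrically unibranch on Y. Then these three conditions are equivalent:
a) f is equidimensional at x; b) O_{X,x} is an equidimensional local ring, and f is open at every
generic point of an irreducible component of the fibre X_y that contains x; c) O_{X,x} is
equidimensional, and f is universally open at every such generic point of an irreducible component
of X_y passing through x. (Not formalized here is the additional claim that, when these hold,
restricting f to any reduced irreducible component of X through x gives a morphism equidimensional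
at x and universally open at the points of the components of its fibre through x.) -/
theorem result {X Y : Scheme.{u}} [IsLocallyNoetherian Y] (f : X ⟶ Y)
    [LocallyOfFiniteType f] (x : X) (hy : CAlg2.IsGeomUnibranch (Y.presheaf.stalk (f.base x))) :
    List.TFAE [EGA43.IsEquidimAt f x,
      EGA4.IsEquidim (X.presheaf.stalk x) ∧ (∀ z : ↥(f.fiber (f.base x)), f.asFiber x ∈ closure {z} →
        (∀ z' : ↥(f.fiber (f.base x)), z ∈ closure {z'} → z' = z) → EGA43.IsOpenAt f.base ((f.fiberι (f.base x)).base z)),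
      EGA4.IsEquidim (X.presheaf.stalk x) ∧ (∀ z : ↥(f.fiber (f.base x)), f.asFiber x ∈ closure {z} →
        (∀ z' : ↥(f.fiber (f.base x)), z ∈ closure {z'} → z' = z) → EGA43.IsUnivOpenAt f ((f.fiberι (f.base x)).base z))] := by
  haveI : IsLocallyNoetherian X := LocallyOfFiniteType.isLocallyNoetherian f
  tfae_have 1 → 3 := by
    intro h
    obtain ⟨h1, h2⟩ := fwd f x hy h
    refine ⟨h2, fun z hzx hmax => h1 _ ?_ ?_ ?_⟩
    · have := (specializes_iff_mem_closure.2 hzx).map (f.fiberι (f x)).continuous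
      rwa [Scheme.Hom.fiberι_asFiber] at this
    · exact (Scheme.Hom.range_fiberι f (f x)).le ⟨z, rfl⟩
    · exact (FibDim14.isMaxFib_fiberι f _ z).2 fun a ha => hmax a (specializes_iff_mem_closure.1 ha)
  tfae_have 3 → 2 := fun h => ⟨h.1, fun z hzx hmax => Unibr4.isOpenAt_of_isUnivOpenAt (h.2 z hzx hmax)⟩
  tfae_have 2 → 1 := fun h => EquidimStalk4.isEquidimAt_of_dim_formula f x h.1 (S2559.result f x h.2)
  tfae_finish

end Groth.Agent.S4939
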