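import Groth.Statements.S4940
import Groth.Agent.Lib.UnivOpenFin5.Main

set_option autoImplicit false
open CategoryTheory AlgebraicGeometry
universe u v w
open EGA43

namespace Groth.Agent.S4940

open CategoryTheory.Limits in
/-- Let Y be a Noetherian scheme, f : X ⟶ Y a morphism locally of finite type, y a point of Y and x a
maximal point of the fibre X_y. Then f is universally open at x if and only if, for every finite
morphism g : Y' ⟶ Y, the base change X ×_Y Y' ⟶ Y' is open at every point of X ×_Y Y' lying over x. -/
theorem result {X Y : Scheme.{u}} [IsNoetherian Y] (f : X ⟶ Y)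
    [LocallyOfFiniteType f] (x : X) (hmax : ∀ x' : X, f.base x' = f.base x → x ∈ closure {x'} → x' = x) :
    EGA43.IsUnivOpenAt f x ↔
      ∀ (Y' : Scheme.{u}) (g : Y' ⟶ Y) [IsFinite g], ∀ x' : ↥(pullback f g), (pullback.fst f g).base x' = x →
        EGA43.IsOpenAt (pullback.snd f g).base x' := by
  refine ⟨fun h Y' g _ x' hx' => h Y' g x' hx', fun h => ?_⟩
  refine Groth.Agent.UnivOpenFin5.isUnivOpenAt_of_finite f x fun z hz hfz Y' g _ z' hz' => ?_
  obtain rfl : z = x := hmax z hfz (specializes_iff_mem_closure.1 hz)
  exact Groth.Agent.EGA43Top.liftsAt_of_isOpenAt (h Y' g z' hz')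

end Groth.Agent.S4940
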