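import Groth.Statements.S4943
import Groth.Agent.Lib.EquidimAt4

set_option autoImplicit false
open CategoryTheory AlgebraicGeometry
universe u v w
open EGA43

set_option backward.isDefEq.respectTransparency.types false

namespace Groth.Agent.S4943

/-- Let Y be an irreducible locally Noetherian scheme, f : X ⟶ Y a morphism locally of finite type which
is equidimensional at the point x, y = f x and e = dim_x(X_y). Let X' be an irreducible closed
subset of X containing x, with generic point x', and n a natural number such that codim(X', X) ≤ n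
(the codimension being dim O_{X,x'}) and dim_x(X' ∩ X_y) ≤ e − n. Then codim(X', X) = n, dim_x(X' ∩
X_y) = e − n, and the restriction of f to X' with its reduced subscheme structure is equidimensional
at x. -/
theorem result {X Y : Scheme.{u}} [IrreducibleSpace Y]
    [IsLocallyNoetherian Y] (f : X ⟶ Y) [LocallyOfFiniteType f] (x : X) (hf : EGA43.IsEquidimAt f x)
    (X' : TopologicalSpace.Closeds X) (x' : X) (hx' : closure ({x'} : Set X) = (X' : Set X)) (hx : x ∈ X') (n : ℕ)
    (hcodim : ringKrullDim (X.presheaf.stalk x') ≤ n)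
    (hdim : FlatMor.localDim ↥((X' : Set X) ∩ f.base ⁻¹' {f.base x}) ⟨x, ⟨hx, rfl⟩⟩ + n ≤ FlatMor.fibreDimAt f x) :
    ringKrullDim (X.presheaf.stalk x') = n ∧
      FlatMor.localDim ↥((X' : Set X) ∩ f.base ⁻¹' {f.base x}) ⟨x, ⟨hx, rfl⟩⟩ + n = FlatMor.fibreDimAt f x ∧
      ∀ w : ↥(Scheme.IdealSheafData.vanishingIdeal X').subscheme,
        (Scheme.IdealSheafData.vanishingIdeal X').subschemeι.base w = x →
        EGA43.IsEquidimAt ((Scheme.IdealSheafData.vanishingIdeal X').subschemeι ≫ f) w := by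
  obtain ⟨e, U, hxU, hU⟩ := EquidimAt4.exists_eqD f hf
  let j := (Scheme.IdealSheafData.vanishingIdeal X').subschemeι
  have hrange : Set.range j = (X' : Set X) := by
    rw [Scheme.IdealSheafData.range_subschemeι, Scheme.IdealSheafData.coe_support_vanishingIdeal]

  obtain ⟨g, hg⟩ : x' ∈ Set.range j := by rw [hrange, ← hx']; exact subset_closure rfl
  obtain ⟨w₀, hw₀⟩ : x ∈ Set.range j := by rw [hrange]; exact hx
  have hgen : ∀ z, g ⤳ z := fun z => by
    refine j.isEmbedding.isInducing.specializes_iff.1 ?_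
    rw [hg, specializes_iff_mem_closure, hx', ← hrange]
    exact ⟨z, rfl⟩
  have hlocal : ∀ w, j w = x → FlatMor.fibreDimAt (j ≫ f) w =
      FlatMor.localDim ↥((X' : Set X) ∩ f.base ⁻¹' {f.base x}) ⟨x, ⟨hx, rfl⟩⟩ := fun w hw => by
    rw [FibDim14.fibreDimAt_eq_localDim_preimage]
    refine FibDim14.localDim_of_range (e := fun z : ((j ≫ f) ⁻¹' {(j ≫ f) w} : Set _) => j z.1)
      (T := (X' : Set X) ∩ f.base ⁻¹' {f.base x}) (j.isEmbedding.comp Topology.IsEmbedding.subtypeVal) ?_ ⟨w, rfl⟩ hw ⟨hx, rfl⟩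
    ext a
    constructor
    · rintro ⟨⟨z, hz⟩, rfl⟩
      exact ⟨hrange ▸ ⟨z, rfl⟩, by rw [← hw]; exact hz⟩
    · rintro ⟨ha1, ha2⟩
      rw [← hrange] at ha1
      obtain ⟨z, rfl⟩ := ha1
      exact ⟨⟨z, by rw [← hw] at ha2; exact ha2⟩, rfl⟩
  obtain ⟨w', -, -, hd, -⟩ := FibDim14.exists_fibreDimAt_eq (j ≫ f) w₀
  have he := EquidimAt4.fibreDimAt_eq f hU hxU
  rw [hlocal w₀ hw₀] at hd
  rw [hd, he] at hdim ⊢
  have hde : FibDim14.rd (j ≫ f) w' + n ≤ e := by exact_mod_cast hdim
  have hco : Order.coheight (j g) ≤ (n : ℕ∞) := by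
    rw [hg]
    rw [ringKrullDim_stalk_eq_coheight] at hcodim
    exact_mod_cast hcodim
  have key := fun w (hw : j w = x) => EquidimAt4.eqD_sub f hU j g w hgen (hw ▸ hxU) n
    (FibDim14.rd (j ≫ f) w') hco ((hlocal w hw).trans hd) hde
  obtain ⟨h1, h2, -⟩ := key w₀ hw₀
  refine ⟨?_, by exact_mod_cast h2, fun w hw => ?_⟩
  · rw [ringKrullDim_stalk_eq_coheight, ← hg, h1]
    rfl
  · obtain ⟨-, -, O, hwO, -, hO⟩ := key w hw
    exact EquidimAt4.isEquidimAt _ hwO hO

end Groth.Agent.S4943
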