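import Groth.Statements.S4944
import Groth.Agent.Lib.QuasiSection4

set_option autoImplicit false
open CategoryTheory AlgebraicGeometry
universe u v w
open EGA43

set_option backward.isDefEq.respectTransparency.types false

namespace Groth.Agent.S4944

/-- Suppose Y is an irreducible, locally Noetherian scheme and f : X ⟶ Y is locally of finite type. Take
a point x of X at which f is equidimensional and which is closed in its fibre f⁻¹(f x). Then one can
find an irreducible reduced scheme T together with an immersion i : T ⟶ X whose image contains x,
such that the composite T ⟶ Y is dominant and quasi-finite (meaning locally quasi-finite and of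
finite type). -/
theorem result {X Y : Scheme.{u}} [IrreducibleSpace Y]
    [IsLocallyNoetherian Y] (f : X ⟶ Y) [LocallyOfFiniteType f] (x : X) (hf : EGA43.IsEquidimAt f x)
    (hcl : ∀ x' : X, f.base x' = f.base x → x ⤳ x' → x' = x) :
    ∃ (T : Scheme.{u}) (i : T ⟶ X), IsImmersion i ∧ IrreducibleSpace ↥T ∧ IsReduced T ∧ x ∈ Set.range i.base ∧
        LocallyOfFiniteType (i ≫ f) ∧ LocallyQuasiFinite (i ≫ f) ∧ QuasiCompact (i ≫ f) ∧ IsDominant (i ≫ f) := by
  obtain ⟨e, U, hxU, hU⟩ := EquidimAt4.exists_eqD f hf
  exact EquidimAt4.exists_quasiSection e f U x hxU hU hcl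

end Groth.Agent.S4944
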