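import Groth.Statements.S4945
import Groth.Agent.Lib.EquidimStalk4
import Groth.Agent.Lib.Unibr4.Criterion
import Groth.Agent.Lib.QuasiSection4
import Groth.Agent.S4937

set_option autoImplicit false
open CategoryTheory AlgebraicGeometry
universe u v w
open EGA43

set_option backward.isDefEq.respectTransparency.types false

namespace Groth.Agent.S4945


open Topology in
theorem genY {Y : Scheme.{u}} [IrreducibleSpace Y] (y : Y) : genericPoint Y ⤳ y :=
  (genericPoint_spec Y).specializes trivial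

open Topology in
theorem maxY {Y : Scheme.{u}} [IrreducibleSpace Y] (y : Y) : (∀ z, z ⤳ y → z = y) ↔ y = genericPoint Y := by
  refine ⟨fun h => (h _ (genY y)).symm, ?_⟩
  rintro rfl z hz
  exact (hz.antisymm (genY z)).eq

open Topology in
theorem exists_closed_mem {X Y : Scheme.{u}} (f : X ⟶ Y) [LocallyOfFiniteType f] {x : X} {U : Set X}
    (hU : IsOpen U) (hx : x ∈ U) :
    ∃ a ∈ U, f a = f x ∧ ∀ a' : X, f a' = f x → a ⤳ a' → a' = a := by
  haveI : LocallyOfFiniteType (f.fiberToSpecResidueField (f x)) :=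
    MorphismProperty.pullback_snd _ _ inferInstance
  haveI : JacobsonSpace ↥(f.fiber (f x)) := LocallyOfFiniteType.jacobsonSpace (f.fiberToSpecResidueField (f x))
  obtain ⟨b, hbU, hb⟩ := nonempty_inter_closedPoints (X := ↥(f.fiber (f x))) (Z := (f.fiberι (f x)) ⁻¹' U)
    ⟨f.asFiber x, by rw [Set.mem_preimage, Scheme.Hom.fiberι_asFiber]; exact hx⟩
    (hU.preimage (f.fiberι (f x)).continuous).isLocallyClosed
  refine ⟨_, hbU, (Scheme.Hom.range_fiberι f (f x)).le ⟨b, rfl⟩, fun a' ha' hsp => ?_⟩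
  obtain ⟨c, rfl⟩ : a' ∈ Set.range (f.fiberι (f x)) := by rw [Scheme.Hom.range_fiberι]; exact ha'
  have hbc : b ⤳ c := (f.fiberι (f x)).isEmbedding.isInducing.specializes_iff.1 hsp
  have hcb : c ∈ ({b} : Set _) := hb.closure_eq ▸ specializes_iff_mem_closure.1 hbc
  rw [hcb]


/-- Let Y be an irreducible locally Noetherian scheme with generic point η, f : X ⟶ Y a morphism locally
of finite type and y a geometrically unibranch point of Y. The following are equivalent: a) f is
universally open at every point of X_y; b) f is open at every point of X_y; c) for every maximal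
point z of X_y there is an irreducible component Z of X containing z and dominating Y with dim_z(Z ∩
X_y) = dim(Z ∩ X_η); d) for every point x closed in X_y there are an irreducible reduced scheme T
and an immersion T ⟶ X with image containing x such that T ⟶ Y is quasi-finite and dominant. -/
theorem result {X Y : Scheme.{u}} [IrreducibleSpace Y]
    [IsLocallyNoetherian Y] (f : X ⟶ Y) [LocallyOfFiniteType f] (y : Y) (hy : CAlg2.IsGeomUnibranch (Y.presheaf.stalk y)) :
    List.TFAE [∀ x : X, f.base x = y → EGA43.IsUnivOpenAt f x,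
      ∀ x : X, f.base x = y → EGA43.IsOpenAt f.base x,
      ∀ z : X, ∀ hzy : f.base z = y, (∀ z' : X, f.base z' = y → z ∈ closure {z'} → z' = z) →
        ∃ Z ∈ irreducibleComponents (X : Type u), ∃ hz : z ∈ Z, Dense (f.base '' Z) ∧
          FlatMor.localDim ↥(Z ∩ f.base ⁻¹' {y}) ⟨z, ⟨hz, hzy⟩⟩ = topologicalKrullDim ↥(Z ∩ f.base ⁻¹' {genericPoint Y}),
      ∀ x : X, f.base x = y → (∀ x' : X, f.base x' = y → x ⤳ x' → x' = x) →
        ∃ (T : Scheme.{u}) (i : T ⟶ X), IsImmersion i ∧ IrreducibleSpace ↥T ∧ IsReduced T ∧ x ∈ Set.range i.base ∧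
        LocallyOfFiniteType (i ≫ f) ∧ LocallyQuasiFinite (i ≫ f) ∧ QuasiCompact (i ≫ f) ∧ IsDominant (i ≫ f)] := by
  haveI : IsLocallyNoetherian X := LocallyOfFiniteType.isLocallyNoetherian f
  tfae_have 1 → 2 := fun h x hx => Unibr4.isOpenAt_of_isUnivOpenAt (h x hx)
  tfae_have 2 → 1 := fun h x hx => Unibr4.isUnivOpenAt_of_isOpenAt f x (hx.symm ▸ hy)
    fun z _ hfz _ => EGA43Top.liftsAt_of_isOpenAt (h z (hfz.trans hx))
  tfae_have 2 → 3 := by
    intro h z hzy hmax
    subst hzy
    have hmaxz : FibDim14.IsMaxFib f z := fun a ha he => hmax a he (specializes_iff_mem_closure.1 ha)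
    obtain ⟨t, htz, htmax, hft, hrd⟩ := Unibr4.exists_component_of_liftsAt f
      (EGA43Top.liftsAt_of_isOpenAt (h z rfl)) (η := genericPoint Y) (genY _) ((maxY _).2 rfl)
    obtain ⟨w, hw⟩ := EquidimStalk4.exists_preimage htz
    obtain ⟨b1, b2, -⟩ := EquidimStalk4.cl_bounds f w
    rw [hw, FibGen4.fibreDimAt_eq_rd_of_isMaxFib f hmaxz] at b2
    have hd : (FibDim14.rd f z : WithBot ℕ∞) ≤ FibDim14.rd f t := by exact_mod_cast hrd
    refine ⟨closure {t}, (VarDim.maximal_iff_mem_irreducibleComponents (X := X) t).1 htmax,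
      specializes_iff_mem_closure.1 htz, ?_, ?_⟩
    · rw [dense_iff_closure_eq, closure_image_closure f.continuous, Set.image_singleton, hft]
      exact genericPoint_spec Y
    · rw [FibSub4.localDim_inter_preimage (EquidimStalk4.clι t) f (EquidimStalk4.range_clι t) w hw rfl,
        ← hft, (FibSub4.closure_fibre f t).1]
      · exact le_antisymm (b2.trans hd) b1
      · exact specializes_iff_mem_closure.1 htz
  tfae_have 3 → 2 := by
    intro h x hx U hU
    obtain ⟨z, hzx, hfz, hmaxz, -⟩ := FibGen4.exists_isMaxFib f x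
    obtain ⟨O, hOU, hO, hxO⟩ := mem_nhds_iff.1 hU
    obtain ⟨Z, hZ, hzZ, hdense, hdim⟩ := h z (hfz.trans hx)
      fun a ha ha' => hmaxz a (specializes_iff_mem_closure.2 ha') (ha.trans (hfz.trans hx).symm)
    obtain ⟨t, rfl, ht⟩ := VarDim.exists_generic_of_mem_irreducibleComponents hZ
    have htz : t ⤳ z := specializes_iff_mem_closure.2 hzZ
    have hft : f t = genericPoint Y := by
      rw [dense_iff_closure_eq, closure_image_closure f.continuous, Set.image_singleton] at hdense
      exact IsGenericPoint.eq hdense (genericPoint_spec Y)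
    obtain ⟨w, hw⟩ := EquidimStalk4.exists_preimage htz
    have hz : f z = y := hfz.trans hx
    rw [FibSub4.localDim_inter_preimage (EquidimStalk4.clι t) f (EquidimStalk4.range_clι t) w hw hz,
      ← hft, (FibSub4.closure_fibre f t).1] at hdim
    swap
    · exact hzZ
    have hle : (FibDim14.rd f z : WithBot ℕ∞) ≤ FibDim14.rd f t := by
      rw [← hdim]
      exact (EquidimStalk4.cl_bounds f w).2.2 z (hw.symm ▸ specializes_rfl) (hw.symm ▸ rfl) htz
    have hop := Unibr4.isOpenAt_of_isUnivOpenAt (Unibr4.isUnivOpenAt f z t (Or.inl inferInstance)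
      (hz.symm ▸ hy) htz (fun a ha => by rw [hft] at ha ⊢; exact (maxY _).2 rfl a ha)
      (by rw [FibGen4.fibreDimAt_eq_rd_of_isMaxFib f hmaxz]; exact hle))
    have h1 := hop U (Filter.mem_of_superset (hO.mem_nhds (hzx.mem_open hO hxO)) hOU)
    rwa [hfz] at h1
  tfae_have 1 → 4 := by
    intro h x hx hcl
    subst hx
    obtain ⟨z, hzx, hfz, hmaxz, hd⟩ := FibGen4.exists_isMaxFib f x
    obtain ⟨t, htz, htmax, hft, hrd⟩ := Unibr4.exists_component_of_liftsAt f
      (EGA43Top.liftsAt_of_isOpenAt (Unibr4.isOpenAt_of_isUnivOpenAt (h z hfz)))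
      (η := genericPoint Y) (genY _) ((maxY _).2 rfl)
    obtain ⟨w, hw⟩ := EquidimStalk4.exists_preimage (htz.trans hzx)
    obtain ⟨g, hg, hgen⟩ := EquidimStalk4.exists_gen t
    haveI := EquidimStalk4.isReduced_cl t
    haveI : IsLocallyNoetherian (EquidimStalk4.Cl t) := LocallyOfFiniteType.isLocallyNoetherian (EquidimStalk4.clι t)
    obtain ⟨b1, b2, -⟩ := EquidimStalk4.cl_bounds f w
    rw [hw, ← hd, FibGen4.fibreDimAt_eq_rd_of_isMaxFib f hmaxz] at b2
    have hge : (FibDim14.rd f z : WithBot ℕ∞) ≤ FibDim14.rd f t := by exact_mod_cast hrd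
    have hF : FlatMor.fibreDimAt (EquidimStalk4.clι t ≫ f) w = (FibDim14.rd f t : WithBot ℕ∞) :=
      le_antisymm (b2.trans hge) b1
    have hE : EGA43.IsEquidimAt (EquidimStalk4.clι t ≫ f) w := by
      refine (EquidimStalk4.isEquidimAt_iff _ w).2 ⟨FibDim14.rd f t, fun s _ hsmax => ?_⟩
      have hsg : s = g := (hsmax g (hgen s)).symm
      subst hsg
      rw [EquidimStalk4.rd_clι, Scheme.Hom.comp_apply, hg]
      exact ⟨fun a ha => by rw [hft] at ha ⊢; exact (maxY _).2 rfl a ha, rfl, hF⟩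
    obtain ⟨e, U, hwU, hU⟩ := EquidimAt4.exists_eqD _ hE
    obtain ⟨T, i, hi, h3, h4, ⟨c, hc⟩, h5, h6, h7, h8⟩ := EquidimAt4.exists_quasiSection e
      (EquidimStalk4.clι t ≫ f) U w hwU hU (fun a ha hwa => (EquidimStalk4.clι t).isEmbedding.injective (by
        rw [hw]
        refine hcl _ ?_ (hw ▸ hwa.map (EquidimStalk4.clι t).continuous)
        rw [← hw]
        exact ha))
    refine ⟨T, i ≫ EquidimStalk4.clι t, inferInstance, h3, h4, ⟨c, ?_⟩, ?_, ?_, ?_, ?_⟩
    · show EquidimStalk4.clι t (i c) = x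
      rw [show i c = w from hc, hw]
    all_goals rw [Category.assoc]
    all_goals assumption
  tfae_have 4 → 2 := by
    intro h x hx U hU
    obtain ⟨O, hOU, hO, hxO⟩ := mem_nhds_iff.1 hU
    obtain ⟨a, haO, hfa, hcl⟩ := exists_closed_mem f hO hxO
    obtain ⟨T, i, hi, h3, h4, ⟨c, hc⟩, h5, h6, h7, h8⟩ := h a (hfa.trans hx)
      fun a' ha' => hcl a' (ha'.trans hx.symm)
    haveI := h3
    haveI := h5
    haveI := h6
    haveI := h8
    have hy' : (i ≫ f) c = y := by
      rw [Scheme.Hom.comp_apply, show i c = a from hc, hfa]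
      exact hx
    have hu : CAlg2.IsUnibranch (Y.presheaf.stalk ((i ≫ f) c)) := hy'.symm ▸ hy.1
    have h1 := S4937.result (i ≫ f) c hu ((i.base : T → X) ⁻¹' O) ((hO.preimage i.continuous).mem_nhds
      (by show i c ∈ O; rw [show i c = a from hc]; exact haO))
    rw [show f.base x = (i ≫ f) c from hx.trans hy'.symm]
    refine Filter.mem_of_superset h1 ?_
    rintro _ ⟨d, hd, rfl⟩
    exact ⟨i d, hOU hd, rfl⟩
  tfae_finish

end Groth.Agent.S4945
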