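import Groth.Statements.S4946
import Groth.Agent.Lib.QuasiSection4
import Groth.Agent.Lib.DVRVal.Extend
import Groth.Agent.Lib.RegLoc.Basic
import Mathlib.RingTheory.Flat.TorsionFree

set_option autoImplicit false
open CategoryTheory AlgebraicGeometry
universe u v w
open EGA43

set_option backward.isDefEq.respectTransparency.types false

namespace Groth.Agent.S4946


open Topology in
theorem flat_of_dominant {Z Y : Scheme.{u}} [IsIntegral Z] [IrreducibleSpace Y] [IsLocallyNoetherian Y]
    (hY : ∀ y : Y, IsRegularLocalRing (Y.presheaf.stalk y) ∧ ringKrullDim (Y.presheaf.stalk y) ≤ 1)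
    (g : Z ⟶ Y) (hg : g (genericPoint Z) = genericPoint Y) : Flat g := by
  rw [Flat.iff_flat_stalkMap]
  intro z
  haveI := (hY (g z)).1
  haveI : IsDomain (Y.presheaf.stalk (g z)) := RegLoc.isDomain _
  haveI : ValuationRing (Y.presheaf.stalk (g z)) := DVRVal.valuationRing_of_regular _ (hY (g z)).2
  let φ := g.stalkMap z
  have hgen : ∀ (W : Scheme.{u}) [IrreducibleSpace W] (a : W), a ⤳ genericPoint W → a = genericPoint W :=
    fun W _ a ha => (ha.antisymm ((genericPoint_spec W).specializes trivial)).eq
  have hinj : Function.Injective φ.hom := by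
    rw [RingHom.injective_iff_ker_eq_bot]
    let b : Spec (Z.presheaf.stalk z) := ⟨⊥, Ideal.isPrime_bot⟩
    let q : Spec (Y.presheaf.stalk (g z)) := ⟨⊥, Ideal.isPrime_bot⟩
    have hb : Z.fromSpecStalk z b = genericPoint Z := by
      obtain ⟨p, hp⟩ : genericPoint Z ∈ Set.range (Z.fromSpecStalk z) := by
        rw [Scheme.range_fromSpecStalk]
        exact (genericPoint_spec Z).specializes trivial
      refine hgen Z _ (hp ▸ ?_)
      exact ((PrimeSpectrum.le_iff_specializes b p).1 bot_le).map (Z.fromSpecStalk z).continuous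
    have hp : Y.fromSpecStalk (g z) (Spec.map φ b) = genericPoint Y := by
      rw [← Scheme.Hom.comp_apply, Scheme.SpecMap_stalkMap_fromSpecStalk, Scheme.Hom.comp_apply, hb, hg]
    have hq : q = Spec.map φ b := by
      refine (Y.fromSpecStalk (g z)).isEmbedding.injective ?_
      rw [hp]
      refine hgen Y _ (hp ▸ ?_)
      exact ((PrimeSpectrum.le_iff_specializes q (Spec.map φ b)).1 bot_le).map (Y.fromSpecStalk (g z)).continuous
    have := congrArg PrimeSpectrum.asIdeal hq
    exact this.symm
  show φ.hom.Flat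
  letI : Algebra (Y.presheaf.stalk (g z)) (Z.presheaf.stalk z) := φ.hom.toAlgebra
  show Module.Flat (Y.presheaf.stalk (g z)) (Z.presheaf.stalk z)
  rw [Module.Flat.flat_iff_torsion_eq_bot_of_isBezout, eq_bot_iff]
  rintro m ⟨⟨r, hr⟩, hrm⟩
  have hrm' : φ.hom r * m = 0 := hrm
  have hr0 : φ.hom r ≠ 0 := fun h => nonZeroDivisors.ne_zero hr (hinj (h.trans (map_zero _).symm))
  exact (mul_eq_zero.1 hrm').resolve_left hr0


/-- Let Y be an irreducible locally Noetherian scheme which is regular of dimension 1 (all local rings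
regular of dimension at most 1), f : X ⟶ Y a morphism locally of finite type and y a point of Y.
Then the following are equivalent: d) every irreducible component of X meeting the fibre X_y
dominates Y; e) for every point x closed in X_y and every irreducible component X_i of X containing
x, there are an irreducible reduced scheme T and an immersion T ⟶ X with image containing x and
contained in X_i, such that T ⟶ Y is quasi-finite and dominant. -/
theorem result {X Y : Scheme.{u}} [IrreducibleSpace Y]
    [IsLocallyNoetherian Y] (hY : ∀ y : Y, IsRegularLocalRing (Y.presheaf.stalk y) ∧ ringKrullDim (Y.presheaf.stalk y) ≤ 1)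
    (f : X ⟶ Y) [LocallyOfFiniteType f] (y : Y) :
    (∀ Z ∈ irreducibleComponents (X : Type u), (Z ∩ f.base ⁻¹' {y}).Nonempty → Dense (f.base '' Z)) ↔
      ∀ x : X, f.base x = y → (∀ x' : X, f.base x' = y → x ⤳ x' → x' = x) →
        ∀ Xi ∈ irreducibleComponents (X : Type u), x ∈ Xi →
          ∃ (T : Scheme.{u}) (i : T ⟶ X), IsImmersion i ∧ IrreducibleSpace ↥T ∧ IsReduced T ∧ x ∈ Set.range i.base ∧
            Set.range i.base ⊆ Xi ∧
            LocallyOfFiniteType (i ≫ f) ∧ LocallyQuasiFinite (i ≫ f) ∧ QuasiCompact (i ≫ f) ∧ IsDominant (i ≫ f) := by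
  constructor
  · intro hdom x hxy hcl Xi hXi hxXi
    obtain ⟨t, rfl, ht⟩ := VarDim.exists_generic_of_mem_irreducibleComponents hXi
    let C : TopologicalSpace.Closeds X := ⟨closure {t}, isClosed_closure⟩
    let j := (Scheme.IdealSheafData.vanishingIdeal C).subschemeι
    haveI : IsReduced (Scheme.IdealSheafData.vanishingIdeal C).subscheme :=
      RedSepLib.isReduced_vanishingIdeal_subscheme C
    have hrange : Set.range j = closure {t} := by
      rw [Scheme.IdealSheafData.range_subschemeι, Scheme.IdealSheafData.coe_support_vanishingIdeal]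
      rfl
    obtain ⟨g, hg⟩ : t ∈ Set.range j := by rw [hrange]; exact subset_closure rfl
    obtain ⟨w, hw⟩ : x ∈ Set.range j := by rw [hrange]; exact hxXi
    have hgen : ∀ z, g ⤳ z := fun z => by
      refine j.isEmbedding.isInducing.specializes_iff.1 ?_
      rw [hg, specializes_iff_mem_closure, ← hrange]
      exact ⟨z, rfl⟩
    haveI : IrreducibleSpace (Scheme.IdealSheafData.vanishingIdeal C).subscheme := by
      haveI : Nonempty (Scheme.IdealSheafData.vanishingIdeal C).subscheme := ⟨g⟩
      haveI : PreirreducibleSpace (Scheme.IdealSheafData.vanishingIdeal C).subscheme := ⟨by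
        rintro u v hu hv ⟨a, -, ha⟩ ⟨b, -, hb⟩
        exact ⟨g, trivial, (hgen a).mem_open hu ha, (hgen b).mem_open hv hb⟩⟩
      exact ⟨inferInstance⟩
    haveI : IsIntegral (Scheme.IdealSheafData.vanishingIdeal C).subscheme := isIntegral_of_irreducibleSpace_of_isReduced _
    have hgg : genericPoint (Scheme.IdealSheafData.vanishingIdeal C).subscheme = g :=
      (((genericPoint_spec _).specializes trivial).antisymm (hgen _)).eq
    have hft : f t = genericPoint Y := by
      have hd := (hdom _ hXi ⟨x, hxXi, hxy⟩).closure_eq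
      rw [closure_image_closure f.continuous, Set.image_singleton] at hd
      exact IsGenericPoint.eq hd (genericPoint_spec Y)
    haveI : Flat (j ≫ f) := flat_of_dominant hY _ (by rw [hgg, Scheme.Hom.comp_apply, hg, hft])
    haveI : LocallyOfFinitePresentation (j ≫ f) := VarDim.locallyOfFinitePresentation_of_locallyNoetherian _
    have hmaxg : FibDim14.IsMaxFib (j ≫ f) g := fun y hy _ => (hy.antisymm (hgen y)).eq
    have hE : EquidimAt4.EqD (j ≫ f) ⊤ (FibDim14.rd (j ≫ f) g) := by
      refine ⟨fun t' _ ht' => ?_, fun a _ ha => ?_⟩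
      · rw [← ht' g (hgen t'), Scheme.Hom.comp_apply, hg, hft]
      · have h1 := FibGen4.fibreDimAt_eq_of_specializes (j ≫ f) ha (hgen a)
        rw [FibGen4.fibreDimAt_eq_rd_of_isMaxFib _ ha, FibGen4.fibreDimAt_eq_rd_of_isMaxFib _ hmaxg] at h1
        exact_mod_cast h1.symm
    have hclw : ∀ z, (j ≫ f) z = (j ≫ f) w → w ⤳ z → z = w := fun z hz hwz => by
      refine j.isEmbedding.injective ?_
      rw [hw]
      refine hcl _ ?_ (hw ▸ hwz.map j.continuous)
      rw [← hxy, ← hw]
      exact hz
    obtain ⟨T, i, hi, h3, h4, ⟨z, hz⟩, h5, h6, h7, h8⟩ :=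
      EquidimAt4.exists_quasiSection _ (j ≫ f) ⊤ w trivial hE hclw
    refine ⟨T, i ≫ j, inferInstance, h3, h4, ⟨z, ?_⟩, ?_, ?_, ?_, ?_, ?_⟩
    · show j (i z) = x
      rw [show i z = w from hz, hw]
    · rintro _ ⟨z, rfl⟩
      exact hrange.subset ⟨i z, rfl⟩
    all_goals rw [Category.assoc]
    all_goals assumption
  · rintro h Z hZ ⟨x, hxZ, hxy⟩
    haveI : LocallyOfFiniteType (FibDim14.toPt f (f x)) := inferInstance
    haveI : JacobsonSpace (f.fiber (f x)) := LocallyOfFiniteType.jacobsonSpace (FibDim14.toPt f (f x))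
    obtain ⟨p, hp, hpc⟩ := nonempty_inter_closedPoints (Z := closure {f.asFiber x})
      ⟨_, subset_closure rfl⟩ isClosed_closure.isLocallyClosed
    have hsp : x ⤳ f.fiberι (f x) p := by
      have := (specializes_iff_mem_closure.2 hp).map (f.fiberι (f x)).continuous
      rwa [f.fiberι_asFiber] at this
    have hpy : f (f.fiberι (f x) p) = y := by
      have hm : f.fiberι (f x) p ∈ Set.range (f.fiberι (f x)) := ⟨p, rfl⟩
      rw [f.range_fiberι] at hm
      exact hm.trans hxy
    have hpZ : f.fiberι (f x) p ∈ Z :=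
      (closure_minimal (Set.singleton_subset_iff.2 hxZ) (isClosed_of_mem_irreducibleComponents Z hZ)) hsp.mem_closure
    have hcl : ∀ x' : X, f x' = y → f.fiberι (f x) p ⤳ x' → x' = f.fiberι (f x) p := by
      intro x' hx' hsp'
      obtain ⟨q, hq⟩ : x' ∈ Set.range (f.fiberι (f x)) := by
        rw [f.range_fiberι]; exact hx'.trans hxy.symm
      rw [← hq] at hsp' ⊢
      have h1 := (f.fiberι (f x)).isEmbedding.isInducing.specializes_iff.1 hsp'
      rw [specializes_iff_mem_closure, (show IsClosed ({p} : Set _) from hpc).closure_eq] at h1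
      rw [show q = p from h1]
    obtain ⟨T, i, -, -, -, -, hsub, -, -, -, hdense⟩ := h _ hpy hcl Z hZ hpZ
    refine hdense.1.mono ?_
    rintro _ ⟨z, rfl⟩
    exact ⟨i z, hsub ⟨z, rfl⟩, rfl⟩

end Groth.Agent.S4946
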