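import Groth.Statements.S4947
import Groth.Agent.Lib.GrVal.Residue

set_option autoImplicit false
universe u
open EGA43

namespace Groth.Agent.S4947

/-- Let A be a regular local ring which is not a field, K its fraction field and k its residue field.
Then there is a discrete valuation ring V between A and K, with fraction field K, dominating A,
whose residue field is a purely transcendental extension of k: for some ring map from k compatible
with A → V there is an algebraically independent family generating the residue field of V as a field
over k. -/
theorem result (A : Type u) [CommRing A] [IsRegularLocalRing A]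
    (hA : ¬ IsField A) :
    ∃ (V : Subalgebra A (FractionRing A)) (_ : IsDomain V) (_ : IsDiscreteValuationRing V), IsFractionRing V (FractionRing A) ∧
      (IsLocalRing.maximalIdeal V).comap (algebraMap A V) = IsLocalRing.maximalIdeal A ∧
      ∃ (φ : IsLocalRing.ResidueField A →+* IsLocalRing.ResidueField V),
        φ.comp (IsLocalRing.residue A) = (IsLocalRing.residue V).comp (algebraMap A V) ∧
        letI := φ.toAlgebra
        ∃ (ι : Type u) (t : ι → IsLocalRing.ResidueField V), AlgebraicIndependent (IsLocalRing.ResidueField A) t ∧
          IntermediateField.adjoin (IsLocalRing.ResidueField A) (Set.range t) = ⊤ := by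
  haveI : IsDomain A := RegLoc.isDomain A
  haveI hdom : IsDomain (GrVal.V A) := Function.Injective.isDomain (GrVal.V A).val.toRingHom Subtype.val_injective
  haveI hdvr := GrVal.isDVR (A := A) hA
  haveI hl : IsLocalRing (GrVal.V A) := hdvr.toIsLocalRing
  haveI hloc : IsLocalHom (algebraMap A (GrVal.V A)) := ⟨fun y hy => by
    by_contra h
    have h1 : y ∈ (IsLocalRing.maximalIdeal (GrVal.V A)).comap (algebraMap A (GrVal.V A)) := by
      rw [GrVal.comap_maximalIdeal (A := A)]; exact h
    exact h1 hy⟩
  refine ⟨GrVal.V A, hdom, hdvr, GrVal.isFractionRing, GrVal.comap_maximalIdeal (A := A),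
    IsLocalRing.ResidueField.map (algebraMap A (GrVal.V A)), rfl, ?_⟩
  exact GrVal.residue_transcendental hA _ rfl

end Groth.Agent.S4947
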