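import Groth.Statements.S4948
import Groth.Agent.Lib.EGA43Top.FlatDVR
-- import your own Groth.Agent.* helpers here

set_option autoImplicit false
open CategoryTheory AlgebraicGeometry
universe u v w
open EGA43

namespace Groth.Agent.S4948

/-- Consider a discrete valuation ring A and set Y = Spec A, whose closed point is y. Given a morphism f
: X ⟶ Y that is locally of finite type, and a point x lying in the fibre X_y, assume two things:
first, f is open at each generic point of an irreducible component of X_y passing through x; second,
X_y is reduced at x (that is, the local ring of the fibre at x is reduced). Under these assumptions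
f is flat at x. -/
theorem result {A : Type u} [CommRing A] [IsDomain A]
    [IsDiscreteValuationRing A] {X : Scheme.{u}} (f : X ⟶ Spec (CommRingCat.of A)) [LocallyOfFiniteType f] (x : X)
    (hx : f.base x = IsLocalRing.closedPoint A)
    (h : ∀ z : ↥(f.fiber (f.base x)), f.asFiber x ∈ closure {z} →
      (∀ z' : ↥(f.fiber (f.base x)), z ∈ closure {z'} → z' = z) → EGA43.IsOpenAt f.base ((f.fiberι (f.base x)).base z))
    (hred : _root_.IsReduced ((f.fiber (f.base x)).presheaf.stalk (f.asFiber x))) :
    (f.stalkMap x).hom.Flat := by
  haveI : IsLocallyNoetherian X := LocallyOfFiniteType.isLocallyNoetherian f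
  obtain ⟨_, _⟩ := Groth.Agent.EGA43Top.isDiscreteValuationRing_stalk_closedPoint A (f.base x) hx
  refine Groth.Agent.EGA43Top.flat_stalkMap_of_liftsAt_dvr f x (fun z hzx hfz hmax => ?_) hred
  obtain ⟨w, rfl⟩ : z ∈ Set.range (f.fiberι (f.base x)) := by rw [Scheme.Hom.range_fiberι]; exact hfz
  have hemb := (f.fiberι (f.base x)).isEmbedding
  refine Groth.Agent.EGA43Top.liftsAt_of_isOpenAt (h w ?_ fun w' hw' => ?_)
  · rw [← specializes_iff_mem_closure, ← hemb.isInducing.specializes_iff, Scheme.Hom.fiberι_asFiber]
    exact hzx
  · rw [← specializes_iff_mem_closure, ← hemb.isInducing.specializes_iff] at hw'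
    exact hemb.injective (hmax _ hw' ((Scheme.Hom.range_fiberι f _).le ⟨w', rfl⟩))

end Groth.Agent.S4948
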