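import Groth.Statements.S4950
import Groth.Agent.Lib.GeomPts5.DVR
import Mathlib
-- import your own Groth.Agent.* helpers here

set_option autoImplicit false
open CategoryTheory AlgebraicGeometry
universe u v w
open EGA43

namespace Groth.Agent.S4950

open CategoryTheory.Limits in
/-- Let Y be a locally Noetherian scheme, f : X ⟶ Y a separated quasi-finite morphism, y a point of Y
and y' a generization of y distinct from y; write n(z) for the geometric number of points of the
fibre X_z. Then there are a discrete valuation ring A and a morphism g : Spec A ⟶ Y mapping the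
closed point to y and the generic point to y', such that n(y) is the number of points of the fibre
of X ×_Y Spec A ⟶ Spec A over the closed point and n(y') is the number of points of its fibre over
the generic point. -/
theorem result {X Y : Scheme.{u}} [IsLocallyNoetherian Y] (f : X ⟶ Y)
    [IsSeparated f] [LocallyQuasiFinite f] [LocallyOfFiniteType f] [QuasiCompact f] (y y' : Y) (hne : y' ≠ y)
    (hgen : y' ⤳ y) :
    ∃ (A : Type u) (_ : CommRing A) (_ : IsDomain A) (_ : IsDiscreteValuationRing A) (g : Spec (CommRingCat.of A) ⟶ Y),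
      g.base (IsLocalRing.closedPoint A) = y ∧ g.base (genericPoint (Spec (CommRingCat.of A))) = y' ∧
      MoreMor.nGeomConnComp f y = ENat.card ↥((pullback.snd f g).fiber (IsLocalRing.closedPoint A)) ∧
      MoreMor.nGeomConnComp f y' = ENat.card ↥((pullback.snd f g).fiber (genericPoint (Spec (CommRingCat.of A)))) := by
  classical
  obtain ⟨A, h, hA, hcl, hmap⟩ := DVRVal.exists_dvr_specializes (𝟙 Y) y' y hgen hne.symm
  haveI := hA
  have hgenA : h.base (genericPoint (Spec (CommRingCat.of A))) = y' := by
    have h1 := congrArg (fun k => k.base (IsLocalRing.closedPoint (Y.residueField y'))) hmap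
    have h2 : (Spec.map (CommRingCat.ofHom A.subtype)).base (IsLocalRing.closedPoint (Y.residueField y')) =
        genericPoint (Spec (CommRingCat.of A)) := by
      rw [genericPoint_eq_bot_of_affine]
      refine PrimeSpectrum.ext ?_
      show (IsLocalRing.maximalIdeal (Y.residueField y')).comap A.subtype = ⊥
      rw [IsLocalRing.isField_iff_maximalIdeal_eq.1 (Field.toIsField _)]
      exact Ideal.comap_bot_of_injective _ Subtype.val_injective
    refine (congrArg h.base h2).symm.trans (h1.trans ?_)
    show (Y.fromSpecResidueField y' ≫ 𝟙 Y) _ = y'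
    rw [Category.comp_id]
    exact Y.fromSpecResidueField_apply y' _
  let k' := AlgebraicClosure (IsLocalRing.ResidueField A)
  let χ : A →+* k' := (algebraMap (IsLocalRing.ResidueField A) k').comp (IsLocalRing.residue A)
  obtain ⟨A₁, _, _, _, _, φ, hφ, ψ, hφi, hψs, hψk, -⟩ := UnivOpenFin5.exists_complete_dvr_ext A k' χ (by
    rw [← RingHom.comap_ker, (RingHom.injective_iff_ker_eq_bot _).1 (algebraMap (IsLocalRing.ResidueField A) k').injective,
      ← RingHom.ker_eq_comap_bot, IsLocalRing.ker_residue])
  haveI := hφ
  haveI : IsAlgClosed (IsLocalRing.ResidueField A₁) := IsAlgClosed.of_ringEquiv k' _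
    ((RingHom.quotientKerEquivOfSurjective hψs).symm.trans (Ideal.quotEquivOfEq hψk))
  let K := FractionRing A₁
  let g₁ : Spec (CommRingCat.of A₁) ⟶ Y := Spec.map (CommRingCat.ofHom φ) ≫ h
  let tK : Spec (CommRingCat.of K) ⟶ Y := Spec.map (CommRingCat.ofHom (algebraMap A₁ K)) ≫ g₁
  obtain ⟨L, hL, hlift⟩ := GeomPts5.exists_field_of_lifts f tK
  haveI := hL
  obtain ⟨hB, hBloc, hBres⟩ := GeomPts5.integralClosure_dvr A₁ L
  let B := integralClosure A₁ L
  haveI : IsDiscreteValuationRing B := hB
  haveI : IsLocalHom (algebraMap A₁ B) := hBloc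
  haveI : IsAlgClosed (IsLocalRing.ResidueField B) := hBres
  haveI : IsFractionRing B L := integralClosure.isFractionRing_of_finite_extension K L
  let g : Spec (CommRingCat.of B) ⟶ Y := Spec.map (CommRingCat.ofHom (algebraMap A₁ B)) ≫ g₁
  have hinjB : Function.Injective (algebraMap A₁ B) := fun a b hab => by
    have h1 := congrArg (fun z : B => (z : L)) hab
    exact IsFractionRing.injective A₁ K ((algebraMap K L).injective h1)
  have hgcl : g.base (IsLocalRing.closedPoint B) = y := by
    show h.base ((Spec.map (CommRingCat.ofHom φ)).base ((Spec.map (CommRingCat.ofHom (algebraMap A₁ B))).base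
      (IsLocalRing.closedPoint B))) = y
    exact (congrArg (fun w => h.base ((Spec.map (CommRingCat.ofHom φ)).base w))
      (IsLocalRing.comap_closedPoint (algebraMap A₁ B))).trans ((congrArg h.base (IsLocalRing.comap_closedPoint φ)).trans hcl)
  have hggen : g.base (genericPoint (Spec (CommRingCat.of B))) = y' := by
    show h.base ((Spec.map (CommRingCat.ofHom φ)).base ((Spec.map (CommRingCat.ofHom (algebraMap A₁ B))).base
      (genericPoint (Spec (CommRingCat.of B))))) = y'
    refine (congrArg h.base ?_).trans hgenA
    rw [genericPoint_eq_bot_of_affine, genericPoint_eq_bot_of_affine]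
    refine PrimeSpectrum.ext ?_
    show ((⊥ : Ideal B).comap (algebraMap A₁ B)).comap φ = ⊥
    rw [Ideal.comap_bot_of_injective _ hinjB, Ideal.comap_bot_of_injective _ hφi]
  refine ⟨B, inferInstance, inferInstance, inferInstance, g, hgcl, hggen, ?_, ?_⟩
  · let r := Spec.map (CommRingCat.ofHom (IsLocalRing.residue B))
    haveI : IsClosedImmersion r := IsClosedImmersion.spec_of_surjective _ IsLocalRing.residue_surjective
    have hr : r (IsLocalRing.closedPoint (IsLocalRing.ResidueField B)) = IsLocalRing.closedPoint B :=
      IsLocalRing.comap_closedPoint (IsLocalRing.residue B)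
    rw [GeomPts5.card_fiber_eq f g _ r hr (𝟙 _) fun a ha => ⟨a, by simpa using ha, Category.id_comp a⟩]
    exact (congrArg _ hgcl).symm
  · let i := Spec.map (CommRingCat.ofHom (algebraMap B L))
    haveI : IsPreimmersion i := IsPreimmersion.of_isLocalization (R := B) (nonZeroDivisors B)
    have hi : i (IsLocalRing.closedPoint L) = genericPoint (Spec (CommRingCat.of B)) := by
      rw [genericPoint_eq_bot_of_affine]
      refine PrimeSpectrum.ext ?_
      show (IsLocalRing.maximalIdeal L).comap (algebraMap B L) = ⊥
      rw [IsLocalRing.isField_iff_maximalIdeal_eq.1 (Field.toIsField _)]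
      exact Ideal.comap_bot_of_injective _ Subtype.val_injective
    have hig : i ≫ g = Spec.map (CommRingCat.ofHom (algebraMap K L)) ≫ tK := by
      show i ≫ Spec.map (CommRingCat.ofHom (algebraMap A₁ B)) ≫ g₁ =
        Spec.map (CommRingCat.ofHom (algebraMap K L)) ≫ Spec.map (CommRingCat.ofHom (algebraMap A₁ K)) ≫ g₁
      have hc : CommRingCat.ofHom (algebraMap A₁ B) ≫ CommRingCat.ofHom (algebraMap B L) =
          CommRingCat.ofHom (algebraMap A₁ K) ≫ CommRingCat.ofHom (algebraMap K L) := by
        ext a
        exact congrArg Subtype.val (IsScalarTower.algebraMap_apply A₁ K L a)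
      rw [← Category.assoc, ← Category.assoc, ← Spec.map_comp, ← Spec.map_comp, hc]
      simp only [g₁, Spec.map_comp, Category.assoc]
    rw [GeomPts5.card_fiber_eq f g _ i hi (Spec.map (CommRingCat.ofHom (algebraMap L (AlgebraicClosure K))))
      fun a ha => by
        obtain ⟨s, hs, hsa⟩ := hlift a (by
          rw [ha, hig, ← Category.assoc, ← Spec.map_comp]
          rfl)
        exact ⟨s, hs.trans hig.symm, hsa⟩]
    exact (congrArg _ hggen).symm

end Groth.Agent.S4950
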