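import Groth.Statements.S4951
-- import your own Groth.Agent.* helpers here

set_option autoImplicit false
universe u
open EGA43

namespace Groth.Agent.S4951

/-- Let X be a locally Noetherian topological space in which every irreducible closed subset has a
unique generic point (X quasi-sober and T₀), and Z a closed nowhere dense subset of X such that for
every point x of Z the set of generizations of x distinct from x is connected (possibly empty). If X
is connected, then X − Z is connected. (Uniqueness of generic points, automatic for the underlying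
space of a scheme, is needed: in the four-point space {u, v, z₁, z₂} whose open sets are ∅, {u},
{v}, {u, v} and the whole space, the closed nowhere dense set Z = {z₁, z₂} satisfies the hypothesis,
since z₂ is a generization of z₁ and conversely, yet X − Z = {u, v} is not connected.) -/
theorem result {X : Type u} [TopologicalSpace X]
    [QuasiSober X] [T0Space X] (hloc : ∀ x : X, ∃ U ∈ nhds x, TopologicalSpace.NoetherianSpace ↥U) [ConnectedSpace X]
    (Z : Set X) (hZ : IsClosed Z) (hZn : IsNowhereDense Z)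
    (hgen : ∀ x ∈ Z, IsPreconnected ({x' : X | x' ⤳ x} \ {x})) :
    IsConnected Zᶜ := by
  have hne : (Zᶜ).Nonempty := by
    have hd : Dense Zᶜ := by
      rw [← interior_eq_empty_iff_dense_compl]
      rw [IsNowhereDense, hZ.closure_eq] at hZn
      exact hZn
    exact hd.nonempty
  refine ⟨hne, fun U V hU hV hUV hUne hVne => ?_⟩
  by_contra hempty
  have hdis : ∀ a ∈ Zᶜ, a ∈ U → a ∈ V → False := fun a ha h1 h2 => hempty ⟨a, ha, h1, h2⟩
  have hd : Dense Zᶜ := by
    rw [← interior_eq_empty_iff_dense_compl]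
    rw [IsNowhereDense, hZ.closure_eq] at hZn
    exact hZn
  let U' := Zᶜ ∩ U
  let V' := Zᶜ ∩ V
  have hcover : closure U' ∪ closure V' = Set.univ := by
    rw [← closure_union, ← Set.inter_union_distrib_left, Set.inter_eq_left.2 hUV]
    exact hd.closure_eq
  obtain ⟨p, -, hpU, hpV⟩ := (isPreconnected_closed_iff.1 (PreconnectedSpace.isPreconnected_univ (α := X)))
    (closure U') (closure V') isClosed_closure isClosed_closure hcover.ge
    (by rw [Set.univ_inter]; exact hUne.closure) (by rw [Set.univ_inter]; exact hVne.closure)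
  obtain ⟨N₀, hN₀, hnoe⟩ := hloc p
  obtain ⟨N, hNN₀, hN, hpN⟩ := mem_nhds_iff.1 hN₀
  haveI := hnoe
  haveI : TopologicalSpace.NoetherianSpace ↥N :=
    (Topology.IsEmbedding.inclusion hNN₀).isInducing.noetherianSpace
  haveI : QuasiSober ↥N := hN.isOpenEmbedding_subtypeVal.quasiSober
  -- generizations inside each closure
  have hgenU : ∀ W : Set X, IsOpen W → ∀ y ∈ N, y ∈ closure W → ∃ η ∈ W, η ⤳ y := by
    intro W hW y hy hyW
    let F : Set ↥N := closure (Subtype.val ⁻¹' W)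
    have hyF : (⟨y, hy⟩ : ↥N) ∈ F := by
      show (⟨y, hy⟩ : ↥N) ∈ closure (Subtype.val ⁻¹' W)
      rw [← hN.isOpenEmbedding_subtypeVal.isOpenMap.preimage_closure_eq_closure_preimage continuous_subtype_val]
      exact hyW
    obtain ⟨S, hSfin, hScl, hSirr, hSF⟩ := TopologicalSpace.NoetherianSpace.exists_finite_set_isClosed_irreducible
      (isClosed_closure : IsClosed F)
    classical
    -- keep a minimal family
    obtain ⟨T, hT⟩ := exists_minimal_of_wellFoundedLT (fun T : Finset (Set ↥N) =>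
      T ⊆ hSfin.toFinset ∧ ⋃₀ (↑T : Set (Set ↥N)) = F) ⟨hSfin.toFinset, le_rfl, by rw [Set.Finite.coe_toFinset, ← hSF]⟩
    obtain ⟨C, hCT, hyC⟩ : ∃ C ∈ T, (⟨y, hy⟩ : ↥N) ∈ C := by
      rw [← hT.1.2] at hyF
      obtain ⟨C, hC, hyC⟩ := hyF
      exact ⟨C, hC, hyC⟩
    have hCS : C ∈ S := hSfin.mem_toFinset.1 (hT.1.1 hCT)
    let O : Set ↥N := (⋃₀ (↑(T.erase C) : Set (Set ↥N)))ᶜ
    have hO : IsOpen O := by
      refine isOpen_compl_iff.2 ?_
      rw [Set.sUnion_eq_biUnion]
      exact (T.erase C).finite_toSet.isClosed_biUnion fun D hD =>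
        hScl D (hSfin.mem_toFinset.1 (hT.1.1 (Finset.mem_of_mem_erase hD)))
    obtain ⟨c, hcC, hcO⟩ : ∃ c ∈ C, c ∈ O := by
      by_contra hn
      push Not at hn
      have hsub : ⋃₀ (↑(T.erase C) : Set (Set ↥N)) = F := by
        refine le_antisymm ((Set.sUnion_mono (Finset.coe_subset.2 (T.erase_subset C))).trans hT.1.2.le) ?_
        rw [← hT.1.2]
        rintro z ⟨D, hD, hzD⟩
        by_cases hDC : D = C
        · exact not_not.1 (hn z (hDC ▸ hzD))
        · exact ⟨D, Finset.mem_erase.2 ⟨hDC, hD⟩, hzD⟩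
      exact (Finset.notMem_erase C T) (hT.2 ⟨(T.erase_subset C).trans hT.1.1, hsub⟩ (T.erase_subset C) hCT)
    have hcF : c ∈ closure (Subtype.val ⁻¹' W) := by
      show c ∈ F
      rw [← hT.1.2]; exact ⟨C, hCT, hcC⟩
    obtain ⟨w, hwO, hwW⟩ := mem_closure_iff.1 hcF O hO hcO
    have hwC : w ∈ C := by
      have : w ∈ F := subset_closure hwW
      rw [← hT.1.2] at this
      obtain ⟨D, hD, hwD⟩ := this
      by_contra hwC
      exact hwO ⟨D, Finset.mem_erase.2 ⟨fun h => hwC (h ▸ hwD), hD⟩, hwD⟩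
    obtain ⟨g, hg⟩ := QuasiSober.sober (hSirr C hCS) (hScl C hCS)
    refine ⟨g.1, ?_, (hg.specializes hyC).map continuous_subtype_val⟩
    exact (hg.specializes hwC).mem_open (hW.preimage continuous_subtype_val) hwW
  have hU' : IsOpen U' := hZ.isOpen_compl.inter hU
  have hV' : IsOpen V' := hZ.isOpen_compl.inter hV
  -- a point of the intersection maximal among generizations
  let F : Set ↥N := Subtype.val ⁻¹' (closure U' ∩ closure V')
  have hF : IsClosed F := (isClosed_closure.inter isClosed_closure).preimage continuous_subtype_val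
  obtain ⟨S, hSfin, hScl, hSirr, hSF⟩ := TopologicalSpace.NoetherianSpace.exists_finite_set_isClosed_irreducible hF
  haveI := hSfin.to_subtype
  obtain ⟨C, hC⟩ := exists_maximal_of_wellFoundedGT (fun C : {C : Set ↥N // C ∈ S} => True)
    (by
      obtain ⟨C, hC, -⟩ : (⟨p, hpN⟩ : ↥N) ∈ ⋃₀ S := hSF ▸ (⟨hpU, hpV⟩ : (⟨p, hpN⟩ : ↥N) ∈ F)
      exact ⟨⟨C, hC⟩, trivial⟩)
  obtain ⟨g, hg⟩ := QuasiSober.sober (hSirr C.1 C.2) (hScl C.1 C.2)
  have hgF : g ∈ F := hSF.ge ⟨C.1, C.2, hg.mem⟩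
  have hmax : ∀ y : X, y ⤳ g.1 → y ∈ closure U' → y ∈ closure V' → y = g.1 := by
    intro y hy h1 h2
    have hyN : y ∈ N := hy.mem_open hN g.2
    have hyg : (⟨y, hyN⟩ : ↥N) ⤳ g := (Topology.IsInducing.subtypeVal).specializes_iff.1 hy
    obtain ⟨D, hD, hyD⟩ : (⟨y, hyN⟩ : ↥N) ∈ ⋃₀ S := hSF ▸ (⟨h1, h2⟩ : (⟨y, hyN⟩ : ↥N) ∈ F)
    have hgD : g ∈ D := hyg.mem_closed (hScl D hD) hyD
    have hCD : C.1 ⊆ D := by
      rw [← hg.def]
      exact closure_minimal (Set.singleton_subset_iff.2 hgD) (hScl D hD)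
    have hDC : D ⊆ C.1 := hC.2 (y := ⟨D, hD⟩) trivial hCD
    have : g ⤳ (⟨y, hyN⟩ : ↥N) := hg.specializes (hDC hyD)
    exact congrArg Subtype.val ((this.antisymm hyg).eq.symm)
  have hgZ : g.1 ∈ Z := by
    by_contra hgz
    rcases hUV hgz with hgU | hgV
    · obtain ⟨w, ⟨hwz, hwU⟩, -, hwV⟩ := mem_closure_iff.1 hgF.2 U' hU' ⟨hgz, hgU⟩
      exact hdis w hwz hwU hwV
    · obtain ⟨w, ⟨hwz, hwV⟩, -, hwU⟩ := mem_closure_iff.1 hgF.1 V' hV' ⟨hgz, hgV⟩
      exact hdis w hwz hwU hwV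
  obtain ⟨a, ha, hag⟩ := hgenU U' hU' g.1 g.2 hgF.1
  obtain ⟨b, hb, hbg⟩ := hgenU V' hV' g.1 g.2 hgF.2
  have hane : a ≠ g.1 := fun h => ha.1 (h ▸ hgZ)
  have hbne : b ≠ g.1 := fun h => hb.1 (h ▸ hgZ)
  obtain ⟨c, ⟨hcg, hcne⟩, hcU, hcV⟩ := (isPreconnected_closed_iff.1 (hgen g.1 hgZ)) (closure U') (closure V')
    isClosed_closure isClosed_closure (fun z _ => hcover.ge trivial)
    ⟨a, ⟨hag, hane⟩, subset_closure ha⟩ ⟨b, ⟨hbg, hbne⟩, subset_closure hb⟩
  exact hcne (hmax c hcg hcU hcV)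

end Groth.Agent.S4951
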