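import Groth.Statements.S4954
import Groth.Agent.Lib.SectionCompBC4
import Mathlib.Topology.Semicontinuity.Defs

set_option autoImplicit false
open CategoryTheory AlgebraicGeometry
universe u v w
open EGA43

set_option backward.isDefEq.respectTransparency.types false

namespace Groth.Agent.S4954

/-- Let f : X ⟶ Y be a morphism of finite presentation with a section g : Y ⟶ X, and for y in Y let
X_y^0 be the connected component of f⁻¹(y) containing g y. Suppose that every X_y^0 is geometrically
irreducible over κ(y) (its preimage in X_y ⊗ K is irreducible for every field extension K of κ(y)).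
Then the function y ↦ dim X_y^0 is upper semicontinuous on Y. -/
theorem result {X Y : Scheme.{u}} (f : X ⟶ Y)
    [LocallyOfFinitePresentation f] [QuasiCompact f] [QuasiSeparated f] (g : Y ⟶ X) (hg : g ≫ f = 𝟙 Y)
    (hirr : ∀ y : Y, (∀ (K : Type u) [Field K] [Algebra (IsLocalRing.ResidueField (Y.presheaf.stalk y)) K],
        IsIrreducible ((FBase.bcπ (f.fiberToSpecResidueField y) K ≫ f.fiberι y).base ⁻¹' connectedComponentIn (f.base ⁻¹' {y}) (g.base y)))) :
    UpperSemicontinuous (fun y : Y => topologicalKrullDim ↥(connectedComponentIn (f.base ⁻¹' {y}) (g.base y))) := by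
  intro y c hc
  have hd : ∀ z, topologicalKrullDim ↥(connectedComponentIn (f.base ⁻¹' {z}) (g.base z)) =
      FlatMor.fibreDimAt f (g z) := fun z => by
    obtain ⟨ξ, -, -, -, -, -, hdim, hloc⟩ := SectionComp4.exists_gen_comp f g hg
      (SectionComp4.isIrreducible_of_geom g hg (hirr z))
    rw [hdim, hloc]
  obtain ⟨ξ, -, -, -, -, -, -, hloc⟩ := SectionComp4.exists_gen_comp f g hg
    (SectionComp4.isIrreducible_of_geom g hg (hirr y))
  have hmem : g.base ⁻¹' {x | FlatMor.fibreDimAt f x ≤ (FibDim14.rd f ξ : WithBot ℕ∞)} ∈ nhds y :=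
    ((FibDim14.isOpen_fibreDimAt_le f _).preimage g.continuous).mem_nhds hloc.le
  refine Filter.mem_of_superset hmem fun z hz => ?_
  show topologicalKrullDim _ < c
  rw [hd z]
  exact lt_of_le_of_lt hz (hloc ▸ hd y ▸ hc)

end Groth.Agent.S4954
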