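import Groth.Statements.S4957
import Groth.Agent.Lib.ZConn5.SectionProper
import Groth.Agent.Lib.FibDim14.Semicont
import Groth.Agent.Lib.TopDimLib.Basic

set_option autoImplicit false
open CategoryTheory AlgebraicGeometry
universe u v w
open EGA43 MoreMor Topology

namespace Groth.Agent.S4957

theorem dim_preimage_eq {A B : Type u} [TopologicalSpace A] [TopologicalSpace B] {k : A → B} (hk : IsEmbedding k)
    {T : Set B} (hT : T ⊆ Set.range k) : topologicalKrullDim (k ⁻¹' T) = topologicalKrullDim T := by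
  refine IsHomeomorph.topologicalKrullDim_eq (T.restrictPreimage k)
    (isHomeomorph_iff_isEmbedding_surjective.2 ⟨hk.restrictPreimage T, fun b => ?_⟩)
  obtain ⟨a, ha⟩ := hT b.2
  exact ⟨⟨a, show k a ∈ T from ha ▸ b.2⟩, Subtype.ext ha⟩

/-- Let f : X ⟶ Y be a separated morphism of finite presentation with a section g : Y ⟶ X, and X_z^0 the
connected component of f⁻¹(z) containing g z. Let y be a point such that X_y^0, as an open subscheme
of the fibre X_y, is proper over κ(y). Then for every generization y' of y one has dim X_{y'}^0 ≤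
dim X_y^0. -/
theorem result {X Y : Scheme.{u}} (f : X ⟶ Y) [IsSeparated f]
    [LocallyOfFinitePresentation f] [QuasiCompact f] [QuasiSeparated f] (g : Y ⟶ X) (hg : g ≫ f = 𝟙 Y) (y : Y)
    (hop : IsOpen ((f.fiberι y).base ⁻¹' connectedComponentIn (f.base ⁻¹' {y}) (g.base y)))
    (hprop : IsProper (Scheme.Opens.ι (⟨(f.fiberι y).base ⁻¹' connectedComponentIn (f.base ⁻¹' {y}) (g.base y), hop⟩ : (f.fiber y).Opens) ≫
      f.fiberToSpecResidueField y))
    (y' : Y) (hy' : y' ⤳ y) :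
    topologicalKrullDim ↥(connectedComponentIn (f.base ⁻¹' {y'}) (g.base y')) ≤ topologicalKrullDim ↥(connectedComponentIn (f.base ⁻¹' {y}) (g.base y)) := by
  obtain ⟨U, hyU, hC, hqp⟩ := ZConn5.exists_proper_nhd_section f g hg y hop hprop
  have hy'U : y' ∈ U := hy'.mem_open U.isOpen hyU
  let Z := (ZConn5.redIdeal hC).subscheme
  let k : Z ⟶ X := (ZConn5.redIdeal hC).subschemeι ≫ (f ⁻¹ᵁ U).ι
  let q : Z ⟶ (U : Scheme.{u}) := (ZConn5.redIdeal hC).subschemeι ≫ (f ∣_ U)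
  haveI : IsProper q := hqp
  have hqk : ∀ z, U.ι (q z) = f (k z) := fun z => by
    rw [← Scheme.Hom.comp_apply, ← Scheme.Hom.comp_apply]
    congr 1
    simp only [q, k, Category.assoc, morphismRestrict_ι]
  have hk : IsEmbedding k := (f ⁻¹ᵁ U).ι.isEmbedding.comp (ZConn5.redIdeal hC).subschemeι.isEmbedding
  have hmem : ∀ z, k z ∈ sectionComponents f g := fun z => (ZConn5.range_redι hC).le ⟨z, rfl⟩
  have hfib : ∀ (v : Y) (hv : v ∈ U),
      q ⁻¹' {(⟨v, hv⟩ : U)} = k ⁻¹' connectedComponentIn (f ⁻¹' {v}) (g v) := fun v hv => by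
    ext z
    show q z = (⟨v, hv⟩ : U) ↔ k z ∈ connectedComponentIn (f ⁻¹' {v}) (g v)
    rw [← ZConn5.sectionComponents_inter_fibre]
    refine ⟨fun h => ⟨hmem z, ?_⟩, fun h => U.ι.isEmbedding.injective ?_⟩
    · show f (k z) = v
      rw [← hqk, h]
      rfl
    · rw [hqk]
      exact h.2
  have hrange : ∀ (v : Y) (hv : v ∈ U), connectedComponentIn (f ⁻¹' {v}) (g v) ⊆ Set.range k := fun v hv x hx => by
    rw [← ZConn5.sectionComponents_inter_fibre] at hx
    obtain ⟨hx1, hx2⟩ := hx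
    obtain ⟨z, hz⟩ := (ZConn5.range_redι hC).ge (show (⟨x, show f x ∈ U from hx2 ▸ hv⟩ :
      ((f ⁻¹ᵁ U : X.Opens) : Scheme.{u})) ∈ (f ⁻¹ᵁ U).ι.base ⁻¹' sectionComponents f g from hx1)
    exact ⟨z, congrArg (f ⁻¹ᵁ U).ι hz⟩
  have hdim : ∀ (v : Y) (hv : v ∈ U), topologicalKrullDim (q ⁻¹' {(⟨v, hv⟩ : U)}) =
      topologicalKrullDim ↥(connectedComponentIn (f ⁻¹' {v}) (g v)) := fun v hv => by
    rw [hfib v hv]
    exact dim_preimage_eq hk (hrange v hv)
  refine (hdim y' hy'U).symm.trans_le ?_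
  rw [TopDimLib.dim_eq_iSup_localDim]
  refine iSup_le fun x => ?_
  obtain ⟨x, hx⟩ := x
  have hspec : (⟨y', hy'U⟩ : U) ⤳ ⟨y, hyU⟩ := (subtype_specializes_iff _ _).2 hy'
  obtain ⟨x₀, hx₀, hqx₀⟩ : ∃ x₀, x ⤳ x₀ ∧ q x₀ = ⟨y, hyU⟩ :=
    q.isClosedMap.specializingMap ((show q x = _ from hx) ▸ hspec)
  obtain ⟨m, hm⟩ : ∃ m : ℕ, FlatMor.fibreDimAt q x₀ = (m : WithBot ℕ∞) := by
    obtain ⟨x', -, -, h, -⟩ := FibDim14.exists_fibreDimAt_eq q x₀
    exact ⟨_, h⟩
  have hle : FlatMor.fibreDimAt q x ≤ (m : WithBot ℕ∞) := hx₀.mem_open (FibDim14.isOpen_fibreDimAt_le q m) hm.le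
  have h1 : FlatMor.fibreDimAt q x = FlatMor.localDim (q ⁻¹' {(⟨y', hy'U⟩ : U)}) ⟨x, hx⟩ :=
    FibDim14.localDim_of_range (q.fiberι _).isEmbedding
      ((q.range_fiberι _).trans (by rw [show q x = (⟨y', hy'U⟩ : U) from hx]; rfl)) _ (q.fiberι_asFiber x) hx
  have h2 : FlatMor.fibreDimAt q x₀ ≤ topologicalKrullDim (q ⁻¹' {(⟨y, hyU⟩ : U)}) := by
    rw [FibDim14.fibreDimAt_eq_localDim_preimage]
    refine (TopDimLib.localDim_le _).trans (le_of_eq ?_)
    rw [hqx₀]; rfl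
  exact ((h1.symm.trans_le hle).trans (hm.symm.trans_le h2)).trans_eq (hdim y hyU)

end Groth.Agent.S4957
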