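import Groth.Statements.S4958
import Groth.Agent.Lib.DimEqScheme4

set_option autoImplicit false
open CategoryTheory AlgebraicGeometry
universe u v w
open EGA43

set_option backward.isDefEq.respectTransparency.types false

namespace Groth.Agent.S4958


open Groth.Agent.FibDim14 Groth.Agent.EquidimStalk4 in
theorem fib_zero_iff {X Y : Scheme.{u}} (f : X ⟶ Y) [LocallyOfFiniteType f] (z : X) :
    ringKrullDim ((f.fiber (f z)).presheaf.stalk (f.asFiber z)) = 0 ↔
      FlatMor.fibreDimAt f z = (rd f z : WithBot ℕ∞) := by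
  haveI : IsLocallyNoetherian (f.fiber (f z)) := LocallyOfFiniteType.isLocallyNoetherian (toPt f (f z))
  obtain ⟨k, hk⟩ := exists_nat_dim (f.asFiber z)
  rw [localDim_asFiber_eq, hk]
  constructor
  · intro h
    rw [h, zero_add]
  · intro h
    have h1 : k + rd f z = rd f z := by exact_mod_cast h
    rw [show k = 0 by omega]
    rfl

open Groth.Agent.EquidimStalk4 in
theorem hW {Y : Scheme.{u}} [IrreducibleSpace Y] [IsLocallyNoetherian Y] {η y : Y} (hη : η = genericPoint Y)
    (v : Cl η) (hv : clι η v = y) :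
    ringKrullDim ((Cl η).presheaf.stalk v) = ringKrullDim (Y.presheaf.stalk y) :=
  (isEquidim_stalk_iff y).1 (isEquidim_stalk_of_irreducible y) η
    (hη ▸ (genericPoint_spec Y).specializes trivial)
    (fun a ha => by subst hη; exact (ha.antisymm ((genericPoint_spec Y).specializes trivial)).eq) v hv

theorem max_eq {Y : Scheme.{u}} [IrreducibleSpace Y] {η : Y} (h : ∀ a, a ⤳ η → a = η) : η = genericPoint Y :=
  (h _ ((genericPoint_spec Y).specializes trivial)).symm


/-- Let Y be an irreducible locally Noetherian scheme with generic point η, f : X ⟶ Y a morphism of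
finite type and y a point of Y whose local ring O_{Y,y} is universally catenary. Suppose that dim
O_{X,z} = dim O_{Y,y} for every maximal point z of the fibre X_y. For z' in Y let E(z') be the set
of dimensions of the irreducible components of X_{z'}. Then E(y) ⊆ E(η), and hence dim X_y ≤ dim
X_η. -/
theorem result {X Y : Scheme.{u}} [IrreducibleSpace Y]
    [IsLocallyNoetherian Y] (f : X ⟶ Y) [LocallyOfFiniteType f] [QuasiCompact f] (y : Y)
    (hcat : CAlg.IsUniversallyCatenary (Y.presheaf.stalk y))
    (hb : ∀ z : X, f.base z = y → (∀ z' : X, f.base z' = y → z ∈ closure {z'} → z' = z) →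
      ringKrullDim (X.presheaf.stalk z) = ringKrullDim (Y.presheaf.stalk y)) :
    letI E : Y → Set (WithBot ℕ∞) := fun z =>
      (fun Z : Set ↥(f.fiber z) => topologicalKrullDim ↥Z) '' irreducibleComponents ↥(f.fiber z)
    E y ⊆ E (genericPoint Y) ∧
      topologicalKrullDim ↥(f.fiber y) ≤ topologicalKrullDim ↥(f.fiber (genericPoint Y)) := by
  simp only
  refine ⟨?_, (FibGen4.dim_fiber_le_iff f y _).2 fun x hx => ?_⟩
  · rintro _ ⟨Z, hZ, rfl⟩
    obtain ⟨c, rfl, hc⟩ := VarDim.exists_generic_of_mem_irreducibleComponents hZ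
    let z := f.fiberι y c
    have hfz : f z = y := (Scheme.Hom.range_fiberι f y).le ⟨c, rfl⟩
    have hzmax : FibDim14.IsMaxFib f z := (FibDim14.isMaxFib_fiberι f y c).2 hc
    obtain ⟨t, htz, htmax, hft, hrd, -⟩ := DimEqScheme4.exists_component_of_dim_eq f
      (FibGen4.fibreDimAt_eq_rd_of_isMaxFib f hzmax)
      ((hb z hfz fun a ha hs => hzmax a (specializes_iff_mem_closure.2 hs) (ha.trans hfz.symm)).trans (by rw [hfz]))
    obtain ⟨d, hd⟩ : t ∈ Set.range (f.fiberι (genericPoint Y)) := by
      rw [Scheme.Hom.range_fiberι]; exact max_eq hft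
    refine ⟨closure {d}, (VarDim.maximal_iff_mem_irreducibleComponents (X := f.fiber (genericPoint Y)) d).1 ?_, ?_⟩
    · exact (FibDim14.isMaxFib_fiberι f _ d).1 fun a ha _ => by rw [hd] at ha ⊢; exact htmax a ha
    · refine (VarDim.dim_closure_singleton (FibDim14.toPt f _) d).trans ?_
      refine Eq.trans ?_ (VarDim.dim_closure_singleton (FibDim14.toPt f _) c).symm
      rw [← FibDim14.rd_fiberι, ← FibDim14.rd_fiberι, hd]
      exact congrArg Nat.cast hrd
  · obtain ⟨z, hzx, hfz, hmaxz, hd⟩ := FibGen4.exists_isMaxFib f x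
    have hz := hfz.trans hx
    obtain ⟨t, -, htmax, hft, hrd, -⟩ := DimEqScheme4.exists_component_of_dim_eq f
      (FibGen4.fibreDimAt_eq_rd_of_isMaxFib f hmaxz)
      ((hb z hz fun a ha hs => hmaxz a (specializes_iff_mem_closure.2 hs) (ha.trans hz.symm)).trans (by rw [hz]))
    rw [← hd, FibGen4.fibreDimAt_eq_rd_of_isMaxFib f hmaxz, ← hrd,
      ← FibGen4.fibreDimAt_eq_rd_of_isMaxFib f (x := t) fun a ha _ => htmax a ha, ← max_eq hft]
    exact (FibGen4.dim_fiber_le_iff f _ _).1 le_rfl t rfl

end Groth.Agent.S4958
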