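import Groth.Statements.S4959
import Mathlib

set_option autoImplicit false
open CategoryTheory AlgebraicGeometry
universe u v w
open EGA43

namespace Groth.Agent.S4959

open CategoryTheory.Limits in
/-- Let f : X ⟶ Y be a morphism of schemes and g : Y' ⟶ Y a surjective morphism which is either proper,
or flat and quasi-compact. If the base change f' : X ×_Y Y' ⟶ Y' is universally submersive (all of
its base changes are topological quotient maps), then f is universally submersive. -/
theorem result {X Y Y' : Scheme.{u}} (f : X ⟶ Y) (g : Y' ⟶ Y) [Surjective g]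
    (hg : IsProper g ∨ (Flat g ∧ QuasiCompact g))
    (h : MorphismProperty.universally (topologically @Topology.IsQuotientMap) (pullback.snd f g)) :
    MorphismProperty.universally (topologically @Topology.IsQuotientMap) f := by
  intro X₁ Y₁ i₁ i₂ f₁ sq
  let g₁ := pullback.snd g i₂
  -- the base change of `f'` to `Y' ×_Y Y₁`
  let P := pullback f₁ g₁
  have big : IsPullback (pullback.fst f₁ g₁ ≫ i₁) (pullback.snd f₁ g₁) f (g₁ ≫ i₂) :=
    (IsPullback.of_hasPullback f₁ g₁).paste_horiz sq.flip
  let c : P ⟶ pullback f g := pullback.lift (pullback.fst f₁ g₁ ≫ i₁) (pullback.snd f₁ g₁ ≫ pullback.fst g i₂)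
    (by rw [big.w, Category.assoc, ← pullback.condition])
  have hbig : IsPullback (c ≫ pullback.fst f g) (pullback.snd f₁ g₁) f (pullback.fst g i₂ ≫ g) := by
    rw [pullback.lift_fst, pullback.condition]
    exact big
  have hq' : topologically @Topology.IsQuotientMap (pullback.snd f₁ g₁) :=
    h c (pullback.fst g i₂) (pullback.snd f₁ g₁)
      (IsPullback.of_right hbig (pullback.lift_snd _ _ _ : c ≫ pullback.snd f g = _) (IsPullback.of_hasPullback f g)).flip
  have hq₁ : Topology.IsQuotientMap g₁ := by
    haveI : Surjective g₁ := MorphismProperty.pullback_snd g i₂ inferInstance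
    rcases hg with hg | ⟨hg, hg'⟩
    · haveI : IsProper g₁ := MorphismProperty.pullback_snd g i₂ hg
      exact g₁.isClosedMap.isQuotientMap g₁.continuous g₁.surjective
    · haveI : Flat g₁ := MorphismProperty.pullback_snd g i₂ hg
      haveI : QuasiCompact g₁ := MorphismProperty.pullback_snd g i₂ hg'
      exact Flat.isQuotientMap_of_surjective g₁
  have hcomp : Topology.IsQuotientMap (g₁ ∘ pullback.snd f₁ g₁) := hq₁.comp hq'
  have hfun : (g₁ ∘ pullback.snd f₁ g₁ : P → Y₁) = f₁ ∘ pullback.fst f₁ g₁ := by
    funext z
    rw [Function.comp_apply, Function.comp_apply, ← Scheme.Hom.comp_apply, ← Scheme.Hom.comp_apply, pullback.condition]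
  rw [hfun] at hcomp
  exact Topology.IsQuotientMap.of_comp (pullback.fst f₁ g₁).continuous f₁.continuous hcomp

end Groth.Agent.S4959
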