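import Groth.Agent.Lib.FibDepth5.Apps
import Groth.Statements.S4960
-- Template for statement S4960 (row 4959; see the milestone table for weights).
-- Copy to Groth/Agent/S4960.lean and replace the sorry. The statement below is byte-identical to the frozen
-- statement EGA43.GrothFrozen.S4960 (Groth/Statements/S4960.lean; the theorem EGA43.isOpen_setOf_fibre_coprof_le);
-- the grader kernel-checks Groth.Agent.S4960.result against that frozen type. Keep the theorem IN THIS FILE
-- (a `result` declared elsewhere and merely imported here is not credited); helpers may live anywhere
-- under Groth/Agent/.
-- import your own Groth.Agent.* helpers here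

set_option autoImplicit false
open CategoryTheory AlgebraicGeometry
universe u v w
open EGA43

namespace Groth.Agent.S4960

/-- Let f : X ⟶ Y be a morphism locally of finite presentation, F a finitely presented O_X-module which
is f-flat, and k a natural number. The set of points x of X such that the stalk at x of the
restriction of F to the fibre through x has codepth at most k over the local ring of that fibre at x
(the dimension of its support is at most its depth plus k) is open in X; that is, the codepth of the
fibre stalk is an upper semicontinuous function of x. -/
theorem result {X Y : Scheme.{u}} (f : X ⟶ Y) [LocallyOfFinitePresentation f]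
    (F : X.Modules) (hF : CohB1.IsFP F) (hflat : FlatMod.IsFlatOver f F) (k : ℕ) :
    IsOpen {x : X | Module.supportDim ((f.fiber (f.base x)).presheaf.stalk (f.asFiber x)) (((Scheme.Modules.pullback (f.fiberι (f.base x))).obj F).presheaf.stalk (f.asFiber x)) ≤
      ((LocCoh.depth ((f.fiber (f.base x)).presheaf.stalk (f.asFiber x)) (((Scheme.Modules.pullback (f.fiberι (f.base x))).obj F).presheaf.stalk (f.asFiber x)) : ℕ∞) : WithBot ℕ∞) + k} := by
  exact (FibDepth5.fibData_mod f F hF hflat).1.isOpen_coprof k

end Groth.Agent.S4960
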