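import Groth.Agent.Lib.FibDepth5.Apps
import Groth.Statements.S4962
-- Template for statement S4962 (row 4961; see the milestone table for weights).
-- Copy to Groth/Agent/S4962.lean and replace the sorry. The statement below is byte-identical to the frozen
-- statement EGA43.GrothFrozen.S4962 (Groth/Statements/S4962.lean; the theorem EGA43.isOpen_setOf_flatAt_and_fibre_hasSk);
-- the grader kernel-checks Groth.Agent.S4962.result against that frozen type. Keep the theorem IN THIS FILE
-- (a `result` declared elsewhere and merely imported here is not credited); helpers may live anywhere
-- under Groth/Agent/.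
-- import your own Groth.Agent.* helpers here

set_option autoImplicit false
open CategoryTheory AlgebraicGeometry
universe u v w
open EGA43

namespace Groth.Agent.S4962

/-- Let f : X ⟶ Y be a morphism locally of finite presentation and k a natural number. The set of points
x of X such that f is flat at x and the local ring at x of the fibre of f through x satisfies
Serre's condition (S_k) is open in X. -/
theorem result {X Y : Scheme.{u}} (f : X ⟶ Y) [LocallyOfFinitePresentation f]
    (k : ℕ) :
    IsOpen {x : X | (f.stalkMap x).hom.Flat ∧ LocCoh.HasSk k ((f.fiber (f.base x)).presheaf.stalk (f.asFiber x)) ((f.fiber (f.base x)).presheaf.stalk (f.asFiber x))} := by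
  exact FibDepth5.isOpen_flatAt_and f (fun R _ _ => LocCoh.HasSk k R R)
    (fun R R' _ _ _ _ e => (FibDepth5.hasSk_iff_of_ringEquiv e k).1)
    (fun g _ _ => FibDepth5.isOpen_fibre_hasSk g k)

end Groth.Agent.S4962
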