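import Groth.Agent.Lib.FibDepth5.Apps
import Groth.Statements.S4968
-- Template for statement S4968 (row 4967; see the milestone table for weights).
-- Copy to Groth/Agent/S4968.lean and replace the sorry. The statement below is byte-identical to the frozen
-- statement EGA43.GrothFrozen.S4968 (Groth/Statements/S4968.lean; the theorem EGA43.isOpen_setOf_fibre_isCohenMacaulayModule_of_proper);
-- the grader kernel-checks Groth.Agent.S4968.result against that frozen type. Keep the theorem IN THIS FILE
-- (a `result` declared elsewhere and merely imported here is not credited); helpers may live anywhere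
-- under Groth/Agent/.
-- import your own Groth.Agent.* helpers here

set_option autoImplicit false
open CategoryTheory AlgebraicGeometry
universe u v w
open EGA43

namespace Groth.Agent.S4968

/-- Let f : X ⟶ Y be a proper morphism of finite presentation and F a finitely presented O_X-module
which is f-flat; for y in Y write F_y for the restriction of F to the fibre X_y. Then the set of
points y of Y such that F_y is a Cohen–Macaulay O_{X_y}-module (at every point of X_y its stalk is
zero or a Cohen–Macaulay module over the local ring) is open in Y. -/
theorem result {X Y : Scheme.{u}} (f : X ⟶ Y) [IsProper f]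
    [LocallyOfFinitePresentation f] (F : X.Modules) (hF : CohB1.IsFP F) (hflat : FlatMod.IsFlatOver f F) :
    IsOpen {y : Y | ∀ x : ↥(f.fiber y), Subsingleton (((Scheme.Modules.pullback (f.fiberι y)).obj F).presheaf.stalk x) ∨
      LocCoh.IsCohenMacaulayModule ((f.fiber y).presheaf.stalk x) (((Scheme.Modules.pullback (f.fiberι y)).obj F).presheaf.stalk x)} := by
  refine FibDepth5.isOpen_forall_fiber f (fun y z =>
    Subsingleton (((Scheme.Modules.pullback (f.fiberι y)).obj F).presheaf.stalk z) ∨
      LocCoh.IsCohenMacaulayModule ((f.fiber y).presheaf.stalk z)
        (((Scheme.Modules.pullback (f.fiberι y)).obj F).presheaf.stalk z)) ?_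
  refine (congrArg IsOpen (Set.ext fun x => ?_)).mp ((FibDepth5.fibData_mod f F hF hflat).1.isOpen_coprof 0)
  exact FibDepth5.coprof_zero_iff f F hF hflat x

end Groth.Agent.S4968
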