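import Groth.Statements.S4969
import Groth.Agent.Lib.FibDepth5.Comps2
-- Template for statement S4969 (row 4968; see the milestone table for weights).
-- Copy to Groth/Agent/S4969.lean and replace the sorry. The statement below is byte-identical to the frozen
-- statement EGA43.GrothFrozen.S4969 (Groth/Statements/S4969.lean; the theorem EGA43.isLocallyConstant_fibre_supportDim_of_proper_flat);
-- the grader kernel-checks Groth.Agent.S4969.result against that frozen type. Keep the theorem IN THIS FILE
-- (a `result` declared elsewhere and merely imported here is not credited); helpers may live anywhere
-- under Groth/Agent/.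
-- import your own Groth.Agent.* helpers here

set_option autoImplicit false
open CategoryTheory AlgebraicGeometry
universe u v w
open EGA43

namespace Groth.Agent.S4969

/-- Let f : X ⟶ Y be a proper morphism of finite presentation and F a finitely presented O_X-module
which is f-flat; for y in Y let F_y be the restriction of F to the fibre X_y. Then the function y ↦
dim Supp(F_y) is locally constant on Y. -/
theorem result {X Y : Scheme.{u}} (f : X ⟶ Y) [IsProper f]
    [LocallyOfFinitePresentation f] (F : X.Modules) (hF : CohB1.IsFP F) (hflat : FlatMod.IsFlatOver f F) :
    IsLocallyConstant (fun y : Y => topologicalKrullDim ↥{z : ↥(f.fiber y) | Nontrivial (((Scheme.Modules.pullback (f.fiberι y)).obj F).presheaf.stalk z)}) := by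
  exact FibDepth5.isLocallyConstant_supportDim f F hF hflat

end Groth.Agent.S4969
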