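import Groth.Statements.S4970
import Groth.Agent.Lib.FlatH4.FibreCritApps
import Mathlib.RingTheory.Flat.EquationalCriterion

set_option autoImplicit false
universe u
open TensorProduct
open EGA43

namespace Groth.Agent.S4970

/-- Let A be a commutative ring, B a finitely presented A-algebra which is flat as an A-module, and M a
finitely presented B-module which is flat as an A-module. Then M is a flat B-module if and only if,
for every prime ideal p of A with residue field κ(p), the module (B ⊗_A κ(p)) ⊗_B M is projective
over the ring B ⊗_A κ(p). (Condition a) of the source, M projective over B, is equivalent to b) for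
finitely presented modules.) -/
theorem result (A B M : Type u) [CommRing A] [CommRing B] [Algebra A B]
    [Algebra.FinitePresentation A B] [Module.Flat A B] [AddCommGroup M] [Module B M] [Module A M]
    [IsScalarTower A B M] [Module.FinitePresentation B M] [Module.Flat A M] :
    Module.Flat B M ↔ ∀ (p : Ideal A) [p.IsPrime],
      Module.Projective (B ⊗[A] p.ResidueField) ((B ⊗[A] p.ResidueField) ⊗[B] M) := by
  constructor
  · intro h p _
    haveI : Module.FinitePresentation (B ⊗[A] p.ResidueField) ((B ⊗[A] p.ResidueField) ⊗[B] M) :=
      inferInstance
    exact Module.Flat.projective_of_finitePresentation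
  · intro h
    refine Groth.Agent.FlatH4.flat_of_localized_maximal_algebra (S := B) fun q _ => ?_
    haveI : Module.Flat A (LocalizedModule q.primeCompl M) :=
      (Groth.Agent.FlatH4.flat_localized_iff q).2 fun J x hx => ⟨1, q.primeCompl.one_mem, by
        rw [one_smul]
        exact Module.Flat.lTensor_preserves_injective_linearMap J.subtype J.injective_subtype
          (hx.trans (map_zero _).symm)⟩
    refine Groth.Agent.FlatH4.flat_localized_of_fibFlat_fp (A := A) q
      (Groth.Agent.FlatH4.fibFlat_of_flat_fibre _ ?_ q le_rfl)
    haveI := h (q.comap (algebraMap A B))
    infer_instance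

end Groth.Agent.S4970
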