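import Groth.Statements.S4972
import Groth.Agent.Lib.EquidimStalk4
import Groth.Agent.Lib.FibVal4
import Mathlib.AlgebraicGeometry.ValuativeCriterion
import Mathlib.AlgebraicGeometry.Morphisms.UniversallyOpen

set_option autoImplicit false
open CategoryTheory AlgebraicGeometry
universe u v w
open EGA43

set_option backward.isDefEq.respectTransparency.types false

namespace Groth.Agent.S4972


open Topology IsLocalRing in
theorem exists_valuation {Y : Scheme.{u}} {s s' : Y} (hy : s' ⤳ s) :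
    ∃ (A : Type u) (_ : CommRing A) (_ : IsDomain A) (_ : ValuationRing A) (g : Spec (CommRingCat.of A) ⟶ Y)
      (c η : Spec (CommRingCat.of A)), g c = s ∧ g η = s' ∧ (∀ a : Spec (CommRingCat.of A), a ⤳ c) ∧
        (η : PrimeSpectrum A).asIdeal = ⊥ := by
  let φ : Y.presheaf.stalk s ⟶ Y.residueField s' := Y.presheaf.stalkSpecializes hy ≫ Y.residue s'
  obtain ⟨A, hA, hA_local⟩ := exists_factor_valuationRing φ.hom
  let ψ : Y.presheaf.stalk s ⟶ .of A := CommRingCat.ofHom (φ.hom.codRestrict _ hA)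
  let g : Spec (.of A) ⟶ Y := Spec.map ψ ≫ Y.fromSpecStalk s
  have hgc : g (closedPoint A) = s := by
    have h1 : Spec.map ψ (closedPoint A) = closedPoint (Y.presheaf.stalk s) :=
      comap_closedPoint (S := A) (φ.hom.codRestrict A.toSubring hA)
    show Y.fromSpecStalk s (Spec.map ψ (closedPoint A)) = s
    rw [h1, Y.fromSpecStalk_closedPoint]
  let j : Spec (Y.residueField s') ⟶ Spec (.of A) :=
    Spec.map (CommRingCat.ofHom (algebraMap A (Y.residueField s')))
  have hj : (j (closedPoint (Y.residueField s')) : PrimeSpectrum A).asIdeal = ⊥ := by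
    show (closedPoint (Y.residueField s')).asIdeal.comap (algebraMap A (Y.residueField s')) = ⊥
    rw [show (closedPoint (Y.residueField s')).asIdeal = ⊥ from maximalIdeal_eq_bot,
      ← RingHom.ker_eq_comap_bot]
    exact (RingHom.injective_iff_ker_eq_bot _).1 (FaithfulSMul.algebraMap_injective _ _)
  have hjg : j ≫ g = Y.fromSpecResidueField s' := by
    rw [Scheme.fromSpecResidueField, ← Scheme.SpecMap_stalkSpecializes_fromSpecStalk hy]
    simp_rw [j, g, ← Spec.map_comp_assoc]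
    rfl
  have hgg : g (j (closedPoint (Y.residueField s'))) = s' := by
    rw [← Scheme.Hom.comp_apply, hjg, Scheme.fromSpecResidueField_apply]
  exact ⟨A, inferInstance, inferInstance, inferInstance, g, closedPoint A, _, hgc, hgg,
    fun _ => specializes_closedPoint (R := CommRingCat.of A) _, hj⟩

open Topology TopologicalSpace Groth.Agent.FibDim14 in
theorem exists_gen_of_mem_closure {X S : Scheme.{u}} (f : X ⟶ S) [LocallyOfFiniteType f] [QuasiCompact f]
    {s : S} {T : Set X} (hT : T ⊆ f ⁻¹' {s}) {x : X} (hx : x ∈ closure T) :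
    ∃ t, t ∈ closure T ∧ f t = s ∧ t ⤳ x := by
  haveI : IsLocallyNoetherian (f.fiber s) := LocallyOfFiniteType.isLocallyNoetherian (toPt f s)
  haveI : IsNoetherian (f.fiber s) := ⟨⟩
  obtain ⟨F, hF, hFeq⟩ := NoetherianSpace.exists_finite_set_isClosed_irreducible (α := f.fiber s)
    (isClosed_closure (s := (f.fiberι s) ⁻¹' T))
  have hT' : T ⊆ ⋃ Z ∈ F, f.fiberι s '' Z := by
    intro a ha
    obtain ⟨z, rfl⟩ : a ∈ Set.range (f.fiberι s) := by rw [Scheme.Hom.range_fiberι]; exact hT ha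
    obtain ⟨Z, hZ, hzZ⟩ := Set.mem_sUnion.1 (hFeq.2.2 ▸ subset_closure (show z ∈ (f.fiberι s) ⁻¹' T from ha))
    exact Set.mem_iUnion₂.2 ⟨Z, hZ, z, hzZ, rfl⟩
  obtain ⟨Z, hZ, hxZ⟩ : ∃ Z ∈ F, x ∈ closure (f.fiberι s '' Z) := by
    have := closure_mono hT' hx
    rw [hF.closure_biUnion] at this
    exact Set.mem_iUnion₂.1 this |>.imp fun Z ⟨hZ, h⟩ => ⟨hZ, h⟩
  obtain ⟨hclosed, hirr⟩ : IsClosed Z ∧ IsIrreducible Z := ⟨hFeq.1 Z hZ, hFeq.2.1 Z hZ⟩
  have hgp : IsGenericPoint hirr.genericPoint Z :=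
    hirr.isGenericPoint_genericPoint hclosed
  refine ⟨f.fiberι s hirr.genericPoint, ?_, (Scheme.Hom.range_fiberι f s).le ⟨_, rfl⟩, ?_⟩
  · have hg : hirr.genericPoint ∈ closure ((f.fiberι s) ⁻¹' T) := hFeq.2.2.ge ⟨Z, hZ, hgp.mem⟩
    exact closure_mono (Set.image_preimage_subset _ _) (image_closure_subset_closure_image (f.fiberι s).continuous
      ⟨_, hg, rfl⟩)
  · refine specializes_iff_mem_closure.2 (closure_minimal ?_ isClosed_closure hxZ)
    rintro _ ⟨z, hz, rfl⟩
    exact ((hgp.specializes hz).map (f.fiberι s).continuous).mem_closure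

open Topology Limits Groth.Agent.FibDim14 in
theorem mem_closure_generic {X S : Scheme.{u}} (f : X ⟶ S) {ι : Type u} (Y : ι → Scheme.{u}) (g : ∀ i, Y i ⟶ S)
    [∀ i, UniversallyOpen (g i)] (v : ∀ i, Y i ⟶ X) (hv : ∀ i, v i ≫ f = g i) {S' : Scheme.{u}} (h : S' ⟶ S)
    {c η : S'} (hc : η ⤳ c) {p : ↥(pullback f h)} (hp : pullback.snd f h p = c)
    (hpT : pullback.fst f h p ∈ ⋃ i, Set.range (v i).base) :
    p ∈ closure ((pullback.snd f h) ⁻¹' {η} ∩ (pullback.fst f h) ⁻¹' (⋃ i, Set.range (v i).base)) := by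
  obtain ⟨i, y, hy⟩ := Set.mem_iUnion.1 hpT
  obtain ⟨w, hw1, hw2⟩ := Scheme.Pullback.exists_preimage_pullback (f := v i) (g := pullback.fst f h) y p hy
  let m : pullback (v i) (pullback.fst f h) ⟶ pullback (g i) h :=
    pullback.lift (pullback.fst _ _) (pullback.snd _ _ ≫ pullback.snd f h) (by
      rw [← hv i, ← Category.assoc, pullback.condition, Category.assoc, pullback.condition, Category.assoc])
  let v' : pullback (g i) h ⟶ pullback f h :=
    pullback.lift (pullback.fst _ _ ≫ v i) (pullback.snd _ _) (by rw [Category.assoc, hv i, pullback.condition])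
  have hmv : m ≫ v' = pullback.snd _ _ := by
    apply pullback.hom_ext
    · rw [Category.assoc, pullback.lift_fst, ← Category.assoc, pullback.lift_fst, pullback.condition]
    · rw [Category.assoc, pullback.lift_snd, pullback.lift_snd]
  let y' := m w
  have hy' : v' y' = p := by rw [← Scheme.Hom.comp_apply, hmv, hw2]
  have hsnd : pullback.snd (g i) h y' = c := by
    rw [← hp, ← hy', ← Scheme.Hom.comp_apply v', pullback.lift_snd]
  have hmem : y' ∈ closure ((pullback.snd (g i) h) ⁻¹' {η}) := by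
    rw [mem_closure_iff]
    intro O hO hyO
    have h1 : η ∈ (pullback.snd (g i) h) '' O :=
      hc.mem_open ((pullback.snd (g i) h).isOpenMap O hO) ⟨y', hyO, hsnd⟩
    obtain ⟨q, hqO, hq⟩ := h1
    exact ⟨q, hqO, hq⟩
  rw [← hy']
  refine closure_mono ?_ (image_closure_subset_closure_image v'.continuous ⟨y', hmem, rfl⟩)
  rintro _ ⟨q, hq, rfl⟩
  refine ⟨?_, Set.mem_iUnion.2 ⟨i, pullback.fst (g i) h q, ?_⟩⟩
  · show pullback.snd f h (v' q) = η
    rw [← Scheme.Hom.comp_apply, pullback.lift_snd]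
    exact hq
  · rw [← Scheme.Hom.comp_apply, ← Scheme.Hom.comp_apply, pullback.lift_fst]

open Topology TopologicalSpace Limits Groth.Agent.FibDim14 in
theorem key {X S : Scheme.{u}} (f : X ⟶ S) [LocallyOfFiniteType f] [QuasiCompact f] {ι : Type u}
    (Y : ι → Scheme.{u}) (g : ∀ i, Y i ⟶ S) [∀ i, UniversallyOpen (g i)] (v : ∀ i, Y i ⟶ X)
    (hv : ∀ i, v i ≫ f = g i) {s s' : S} (hs : s' ⤳ s) {b : X} (hfb : f b = s)
    (hb : b ∈ closure ((⋃ i, Set.range (v i).base) ∩ f.base ⁻¹' {s})) :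
    ∃ a, f a = s' ∧ a ∈ closure ((⋃ i, Set.range (v i).base) ∩ f.base ⁻¹' {s'}) ∧ rd f b ≤ rd f a := by
  obtain ⟨A, _, _, _, h, c, η, hhc, hhη, hc, hη⟩ := exists_valuation hs
  subst hhc
  have hsq : IsPullback (pullback.fst f h) (pullback.snd f h) f h := IsPullback.of_hasPullback _ _
  haveI : LocallyOfFiniteType (pullback.snd f h) := MorphismProperty.pullback_snd _ _ inferInstance
  haveI : QuasiCompact (pullback.snd f h) := MorphismProperty.pullback_snd _ _ inferInstance
  obtain ⟨b', hb', hfb', hrdb⟩ := exists_over_rd_eq hsq b c hfb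
  obtain ⟨pr, hpr, sq⟩ := exists_fibre_square hsq c
  haveI : UniversallyOpen pr := MorphismProperty.of_isPullback (P := @UniversallyOpen) sq.flip inferInstance
  obtain ⟨z, hz⟩ : b' ∈ Set.range ((pullback.snd f h).fiberι c) := by
    rw [Scheme.Hom.range_fiberι]; exact hfb'
  set T := ⋃ i, Set.range (v i).base with hT
  have hzcl : z ∈ closure (pr ⁻¹' ((f.fiberι (h c)) ⁻¹' T)) := by
    refine pr.isOpenMap.preimage_closure_subset_closure_preimage ?_
    show pr z ∈ closure ((f.fiberι (h c)) ⁻¹' T)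
    rw [(f.fiberι (h c)).isEmbedding.closure_eq_preimage_closure_image, Set.mem_preimage, hpr, hz, hb',
      Set.image_preimage_eq_inter_range, Scheme.Hom.range_fiberι]
    exact hb
  have hb'cl : b' ∈ closure ((pullback.snd f h) ⁻¹' {η} ∩ (pullback.fst f h) ⁻¹' T) := by
    rw [← hz]
    refine closure_minimal ?_ isClosed_closure
      (image_closure_subset_closure_image ((pullback.snd f h).fiberι c).continuous ⟨z, hzcl, rfl⟩)
    rintro _ ⟨q, hq, rfl⟩
    refine mem_closure_generic f Y g v hv h (hc η) ((Scheme.Hom.range_fiberι _ c).le ⟨q, rfl⟩) ?_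
    rw [← hpr]
    exact hq
  obtain ⟨t, htcl, hft, htb⟩ := exists_gen_of_mem_closure (pullback.snd f h) Set.inter_subset_left hb'cl
  obtain ⟨w, hw⟩ := EquidimStalk4.exists_preimage htb
  obtain ⟨gt, hgt, hgen⟩ := EquidimStalk4.exists_gen t
  obtain ⟨z₁, hz₁, -, hz₁max, hz₁d⟩ := FibGen4.exists_isMaxFib (EquidimStalk4.clι t ≫ pullback.snd f h) w
  have hle : rd (pullback.snd f h) b' ≤ rd (pullback.snd f h) t := by
    have h1 := FibGen4.fibreDimAt_le_rd_of_valuationRing (EquidimStalk4.clι t ≫ pullback.snd f h) hz₁max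
      (hgen z₁) (by rw [Scheme.Hom.comp_apply, hgt, hft]; exact hη)
    rw [hz₁d] at h1
    have h2 := (rd_le_fibreDimAt (EquidimStalk4.clι t ≫ pullback.snd f h) (specializes_rfl (x := w)) rfl).trans h1
    rw [EquidimStalk4.rd_clι, EquidimStalk4.rd_clι, hw, hgt] at h2
    exact_mod_cast h2
  refine ⟨pullback.fst f h t, ?_, ?_, ?_⟩
  · rw [← Scheme.Hom.comp_apply, hsq.w, Scheme.Hom.comp_apply, hft, hhη]
  · refine closure_mono ?_ (image_closure_subset_closure_image (pullback.fst f h).continuous ⟨t, htcl, rfl⟩)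
    rintro _ ⟨q, ⟨hq1, hq2⟩, rfl⟩
    refine ⟨hq2, ?_⟩
    show f (pullback.fst f h q) = s'
    rw [← Scheme.Hom.comp_apply, hsq.w, Scheme.Hom.comp_apply, show pullback.snd f h q = η from hq1, hhη]
  · rw [← hrdb]
    exact hle.trans (rd_baseChange_le hsq t)

open Topology TopologicalSpace Groth.Agent.FibDim14 in
theorem rd_le_dim {X S : Scheme.{u}} (f : X ⟶ S) [LocallyOfFiniteType f] {C : Set X} {a : X}
    (h : closure {a} ∩ f ⁻¹' {f a} ⊆ C) : (rd f a : WithBot ℕ∞) ≤ topologicalKrullDim ↥C := by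
  rw [← (FibSub4.closure_fibre f a).1]
  exact (Topology.IsEmbedding.inclusion h).isInducing.topologicalKrullDim_le


/-- Let f : X ⟶ S be a morphism of finite type, (g_i : Y_i ⟶ S) a family of universally open morphisms
and (u_i : Y_i ⟶ X) a family of S-morphisms. For s in S let Z(s) be the closure, in the fibre f⁻¹(s)
(with the topology induced from X), of the union of the sets u_i(Y_i) ∩ f⁻¹(s) (the images of the
fibres of the Y_i over s), and let d(s) = dim Z(s). Then for every point s of S and every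
generization s' of s one has d(s) ≤ d(s'). -/
theorem result {X S : Scheme.{u}} (f : X ⟶ S) [LocallyOfFiniteType f]
    [QuasiCompact f] {ι : Type u} (Y : ι → Scheme.{u}) (g : ∀ i, Y i ⟶ S) [∀ i, UniversallyOpen (g i)]
    (v : ∀ i, Y i ⟶ X) (hv : ∀ i, v i ≫ f = g i) (s s' : S) (hs : s' ⤳ s) :
    letI d : S → WithBot ℕ∞ := fun t =>
      topologicalKrullDim ↥(f.base ⁻¹' {t} ∩ closure ((⋃ i, Set.range (v i).base) ∩ f.base ⁻¹' {t}))
    d s ≤ d s' := by
  simp only
  obtain ⟨K, hK⟩ : ∃ K : TopologicalSpace.Closeds X,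
      (K : Set X) = closure ((⋃ i, Set.range (v i).base) ∩ f.base ⁻¹' {s}) := ⟨⟨_, isClosed_closure⟩, rfl⟩
  rw [Set.inter_comm, ← hK]
  let j := (Scheme.IdealSheafData.vanishingIdeal K).subschemeι
  have hrange : Set.range j = (K : Set X) := by
    rw [Scheme.IdealSheafData.range_subschemeι, Scheme.IdealSheafData.coe_support_vanishingIdeal]
  rw [FibSub4.dim_inter_preimage j f hrange s]
  refine (FibGen4.dim_fiber_le_iff _ _ _).2 fun z hz => ?_
  obtain ⟨b, -, hfb, hbmax, hbd⟩ := FibGen4.exists_isMaxFib (j ≫ f) z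
  rw [← hbd, FibGen4.fibreDimAt_eq_rd_of_isMaxFib _ hbmax, FibSub4.rd_preimmersion]
  obtain ⟨a, hfa, ha, hle⟩ := key f Y g v hv hs (b := j b) (hfb.trans hz) (hK ▸ hrange.le ⟨b, rfl⟩)
  refine le_trans (by exact_mod_cast hle) (rd_le_dim f (a := a) ?_)
  rw [hfa]
  rintro q ⟨hq1, hq2⟩
  exact ⟨hq2, closure_minimal (Set.singleton_subset_iff.2 ha) isClosed_closure hq1⟩

end Groth.Agent.S4972
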