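import Groth.Statements.S4973
import Mathlib.AlgebraicGeometry.Morphisms.ClosedImmersion
-- import your own Groth.Agent.* helpers here

set_option autoImplicit false
open CategoryTheory AlgebraicGeometry
universe u v w
open EGA43

set_option backward.isDefEq.respectTransparency.types false

namespace Groth.Agent.S4973

open CategoryTheory.Limits in
/-- Let Y₀ and Y be integral schemes, g : Y ⟶ Y₀ a dominant morphism, f₀ : X₀ ⟶ Y₀ a dominant morphism
whose fibre over the generic point of Y₀ is irreducible, and X'₀ an irreducible component of X₀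
meeting that generic fibre (it is unique), regarded as a reduced closed subscheme of X₀. If X = X₀
×_{Y₀} Y is an integral scheme, then the morphism X'₀ ×_{Y₀} Y ⟶ X induced by the inclusion of X'₀
is an isomorphism. -/
theorem result {X₀ Y₀ Y : Scheme.{u}} [IsIntegral Y₀] [IsIntegral Y]
    (g : Y ⟶ Y₀) [IsDominant g] (f₀ : X₀ ⟶ Y₀) [IsDominant f₀]
    (hirr : IsIrreducible (f₀.base ⁻¹' {genericPoint Y₀}))
    (C : TopologicalSpace.Closeds X₀) (hC : (C : Set X₀) ∈ irreducibleComponents (X₀ : Type u))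
    (hCη : ((C : Set X₀) ∩ f₀.base ⁻¹' {genericPoint Y₀}).Nonempty) [IsIntegral (pullback f₀ g)]
    (e₁ : ((Scheme.IdealSheafData.vanishingIdeal C).subschemeι ≫ f₀) ≫ 𝟙 Y₀ =
      (Scheme.IdealSheafData.vanishingIdeal C).subschemeι ≫ f₀) (e₂ : g ≫ 𝟙 Y₀ = 𝟙 Y ≫ g) :
    IsIso (pullback.map ((Scheme.IdealSheafData.vanishingIdeal C).subschemeι ≫ f₀) g f₀ g
      (Scheme.IdealSheafData.vanishingIdeal C).subschemeι (𝟙 Y) (𝟙 Y₀) e₁ e₂) := by
  let j := (Scheme.IdealSheafData.vanishingIdeal C).subschemeι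
  have hj : Set.range j = (C : Set X₀) := by
    rw [Scheme.IdealSheafData.range_subschemeι, Scheme.IdealSheafData.coe_support_vanishingIdeal]
  let η₀ := genericPoint Y₀
  let η := genericPoint Y
  have hgen : ∀ y : Y₀, y ⤳ η₀ → y = η₀ := fun y hy =>
    (hy.antisymm (genericPoint_specializes y)).eq
  have hgη : g η = η₀ := by
    have h1 := (genericPoint_spec Y).image g.continuous
    rw [Set.image_univ, g.denseRange.closure_range] at h1
    exact h1.eq (genericPoint_spec Y₀)
  obtain ⟨c, hcC, hcη⟩ := hCη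
  obtain ⟨p, -, hp2⟩ := Scheme.Pullback.exists_preimage_pullback c η (hcη.trans hgη.symm)
  let ξ := genericPoint ↥(pullback f₀ g)
  have hsnd : pullback.snd f₀ g ξ = η := by
    have h1 : pullback.snd f₀ g ξ ⤳ η := hp2 ▸ (genericPoint_specializes p).map (pullback.snd f₀ g).continuous
    exact (h1.antisymm (genericPoint_specializes _)).eq
  have hx₀ : pullback.fst f₀ g ξ ∈ f₀ ⁻¹' {η₀} := by
    show f₀ (pullback.fst f₀ g ξ) = η₀
    rw [← Scheme.Hom.comp_apply, pullback.condition, Scheme.Hom.comp_apply, hsnd, hgη]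
  have hFC : f₀ ⁻¹' {η₀} ⊆ (C : Set X₀) := by
    obtain ⟨γ, hγ⟩ := QuasiSober.sober hC.1 C.isClosed
    have h1 : γ ⤳ c := hγ.specializes hcC
    have h2 : γ ∈ f₀ ⁻¹' {η₀} := hgen _ ((h1.map f₀.continuous).trans (specializes_of_eq hcη))
    have h3 : (C : Set X₀) ⊆ closure (f₀ ⁻¹' {η₀}) := hγ.def.symm.subset.trans (closure_mono (Set.singleton_subset_iff.2 h2))
    exact subset_closure.trans (hC.2 hirr.closure h3)
  let m := pullback.map (j ≫ f₀) g f₀ g j (𝟙 Y) (𝟙 Y₀) e₁ e₂
  haveI : IsClosedImmersion m := by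
    have hsq : IsPullback (pullback.fst (j ≫ f₀) g) m j (pullback.fst f₀ g) := by
      refine IsPullback.of_bot ?_ (pullback.lift_fst _ _ _).symm (IsPullback.of_hasPullback f₀ g)
      rw [show m ≫ pullback.snd f₀ g = pullback.snd (j ≫ f₀) g ≫ 𝟙 Y from pullback.lift_snd _ _ _, Category.comp_id]
      exact IsPullback.of_hasPullback (j ≫ f₀) g
    exact MorphismProperty.of_isPullback hsq (inferInstanceAs (IsClosedImmersion j))
  haveI : Surjective m := by
    refine ⟨fun z => ?_⟩
    have hξ : ξ ∈ Set.range m := by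
      rw [Scheme.Pullback.range_map]
      refine ⟨?_, ?_⟩
      · show pullback.fst f₀ g ξ ∈ Set.range j
        rw [hj]
        exact hFC hx₀
      · exact ⟨pullback.snd f₀ g ξ, rfl⟩
    exact (genericPoint_specializes z).mem_closed m.isClosedEmbedding.isClosed_range hξ
  exact isIso_of_isClosedImmersion_of_surjective m

end Groth.Agent.S4973
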