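import Groth.Statements.S4974
import Groth.Agent.Lib.QuasiSection4
import Groth.Agent.Lib.Hens.FiniteType
import Groth.Agent.Lib.HensH7.Integral

set_option autoImplicit false
open CategoryTheory AlgebraicGeometry
universe u v w
open EGA43

set_option backward.isDefEq.respectTransparency.types false

namespace Groth.Agent.S4974

/-- Consider a complete Noetherian local domain A and put Y = Spec A. Suppose f : X ⟶ Y is locally of
finite type, and take a point x ∈ X mapping to the closed point of Y, where f is equidimensional at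
x and x is closed in the fibre containing it. Then one can find a local domain A' that contains A
and is finite as an A-algebra, together with a Y-morphism h : Spec A' ⟶ X that is an immersion and
has x in its image. -/
theorem result {A : Type u} [CommRing A] [IsDomain A]
    [IsNoetherianRing A] [IsLocalRing A] [IsAdicComplete (IsLocalRing.maximalIdeal A) A] {X : Scheme.{u}}
    (f : X ⟶ Spec (CommRingCat.of A)) [LocallyOfFiniteType f] (x : X) (hx : f.base x = IsLocalRing.closedPoint A)
    (hf : EGA43.IsEquidimAt f x) (hcl : ∀ x' : X, f.base x' = f.base x → x ⤳ x' → x' = x) :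
    ∃ (A' : Type u) (_ : CommRing A') (_ : IsDomain A') (_ : IsLocalRing A') (_ : Algebra A A') (_ : Module.Finite A A'),
      Function.Injective (algebraMap A A') ∧
      ∃ h : Spec (CommRingCat.of A') ⟶ X, h ≫ f = Spec.map (CommRingCat.ofHom (algebraMap A A')) ∧
        IsImmersion h ∧ x ∈ Set.range h.base := by
  obtain ⟨e, U, hxU, hU⟩ := EquidimAt4.exists_eqD f hf
  obtain ⟨T, i, hi, hirr, hred, ⟨z, hz⟩, hlft, hlqf, hqc, hdom⟩ :=
    EquidimAt4.exists_quasiSection e f U x hxU hU hcl
  obtain ⟨B, hB, hzB, -⟩ := exists_isAffineOpen_mem_and_subset (U := (⊤ : T.Opens)) (x := z) trivial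
  haveI : IsIntegral T := isIntegral_of_irreducibleSpace_of_isReduced _
  haveI : Nonempty B := ⟨⟨z, hzB⟩⟩
  let S := Γ(T, B)
  haveI : IsDomain S := inferInstance
  let φ := Spec.preimage (hB.fromSpec ≫ i ≫ f)
  have hφ : Spec.map φ = hB.fromSpec ≫ i ≫ f := Spec.map_preimage _
  haveI : LocallyOfFiniteType (Spec.map φ) := hφ ▸ inferInstance
  haveI : LocallyQuasiFinite (Spec.map φ) := hφ ▸ inferInstance
  letI : Algebra A S := φ.hom.toAlgebra
  haveI : Algebra.FiniteType A S := (HasRingHomProperty.Spec_iff (P := @LocallyOfFiniteType)).1 ‹LocallyOfFiniteType (Spec.map φ)›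
  haveI : Algebra.QuasiFinite A S := (HasRingHomProperty.Spec_iff (P := @LocallyQuasiFinite)).1 ‹LocallyQuasiFinite (Spec.map φ)›
  haveI : HenselianLocalRing A :=
    { is_henselian := fun g hg a₀ h₁ h₂ =>
        HenselianRing.is_henselian (I := IsLocalRing.maximalIdeal A) g hg a₀ h₁ (h₂.map _) }
  let q : Spec S := hB.primeIdealOf ⟨z, hzB⟩
  have hq : hB.fromSpec q = z := hB.fromSpec_primeIdealOf ⟨z, hzB⟩
  haveI : q.asIdeal.IsPrime := q.2
  have hqm : Spec.map φ q = IsLocalRing.closedPoint A := by
    rw [hφ, Scheme.Hom.comp_apply, Scheme.Hom.comp_apply, hq, show i z = x from hz]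
    exact hx
  haveI : q.asIdeal.LiesOver (IsLocalRing.maximalIdeal A) := ⟨(congrArg PrimeSpectrum.asIdeal hqm).symm⟩
  obtain ⟨ε, hε, hfin, hne⟩ := Hens.exists_finite_split A S
  have hεq : ε ∉ q.asIdeal := hne q.asIdeal inferInstance inferInstance
  obtain rfl | rfl := IsIdempotentElem.iff_eq_zero_or_one.1 hε
  · exact absurd (zero_mem _) hεq
  haveI : Module.Finite A S :=
    Module.Finite.of_surjective
      (Ideal.quotientEquivAlgOfEq A (show Ideal.span ({1 - 1} : Set S) = ⊥ by simp) |>.trans (AlgEquiv.quotientBot A S)).toLinearMap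
      (AlgEquiv.surjective _)
  haveI : Algebra.IsIntegral A S := Algebra.IsIntegral.of_finite A S
  haveI : IsLocalRing S := HensH7.isLocalRing_of_integral_domain A
  refine ⟨S, inferInstance, inferInstance, inferInstance, inferInstance, inferInstance, ?_,
    hB.fromSpec ≫ i, ?_, inferInstance, ⟨q, ?_⟩⟩
  · rw [RingHom.injective_iff_ker_eq_bot]
    let b : Spec S := ⟨⊥, Ideal.isPrime_bot⟩
    let η : Spec (CommRingCat.of A) := ⟨⊥, Ideal.isPrime_bot⟩
    have hle : Spec.map φ b ⤳ η := by
      haveI := hdom
      have hd : Dense (Set.range (i ≫ f)) := hdom.denseRange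
      have hb : ∀ t : T, hB.fromSpec b ⤳ t := by
        intro t
        obtain ⟨p, hp⟩ : genericPoint T ∈ Set.range hB.fromSpec := by
          rw [hB.range_fromSpec]
          exact ((genericPoint_spec T).specializes trivial).mem_open B.2 hzB
        exact (((PrimeSpectrum.le_iff_specializes b p).1 bot_le).map hB.fromSpec.continuous).trans
          (hp ▸ (genericPoint_spec T).specializes trivial)
      rw [specializes_iff_mem_closure]
      refine closure_minimal ?_ isClosed_closure (hd.closure_eq ▸ Set.mem_univ η)
      rintro _ ⟨t, rfl⟩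
      rw [← specializes_iff_mem_closure, hφ, Scheme.Hom.comp_apply]
      exact (hb t).map (i ≫ f).continuous
    have h2 := (PrimeSpectrum.le_iff_specializes _ η).2 hle
    exact le_bot_iff.1 h2
  · rw [Category.assoc, ← hφ]
    rfl
  · show i (hB.fromSpec q) = x
    rw [hq]
    exact hz

end Groth.Agent.S4974
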