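import Groth.Statements.S4975
import Groth.Agent.Lib.SectionCompDim4
import Groth.Agent.Lib.SectionCompOpen4
import Groth.Agent.S3458

set_option autoImplicit false
open CategoryTheory AlgebraicGeometry
universe u v w
open EGA43

set_option backward.isDefEq.respectTransparency.types false

namespace Groth.Agent.S4975


theorem geomRed {X Y : Scheme.{u}} (f : X ⟶ Y) (g : Y ⟶ X)
    (hint : ∀ y : Y, (∀ (K : Type u) [Field K] [Algebra (IsLocalRing.ResidueField (Y.presheaf.stalk y)) K],
        IsIrreducible ((FBase.bcπ (f.fiberToSpecResidueField y) K ≫ f.fiberι y).base ⁻¹' connectedComponentIn (f.base ⁻¹' {y}) (g.base y)) ∧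
        ∀ x' : ↥(FBase.bc (f.fiberToSpecResidueField y) K),
          (FBase.bcπ (f.fiberToSpecResidueField y) K ≫ f.fiberι y).base x' ∈ connectedComponentIn (f.base ⁻¹' {y}) (g.base y) →
          _root_.IsReduced ((FBase.bc (f.fiberToSpecResidueField y) K).presheaf.stalk x')))
    (x : X) (hx : x ∈ connectedComponentIn (f.base ⁻¹' {f x}) (g.base (f x))) :
    FBase.IsGeomReducedAt (f.fiberToSpecResidueField (f.base x)) (f.asFiber x) := fun K _ _ x' hx' =>
  (hint (f x) K).2 x' (by
    show (FBase.bcπ (f.fiberToSpecResidueField (f x)) K ≫ f.fiberι (f x)) x' ∈ _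
    rw [Scheme.Hom.comp_apply, show FBase.bcπ (f.fiberToSpecResidueField (f x)) K x' = f.asFiber x from hx',
      f.fiberι_asFiber]
    exact hx)

/-- Let f : X ⟶ Y be a morphism locally of finite type with Y locally Noetherian, g : Y ⟶ X a section of
f, X_y^0 the connected component of f⁻¹(y) containing g y, and X^0 ⊆ X their union. Suppose every
X_y^0 is geometrically integral over κ(y) (its preimage in X_y ⊗ K is irreducible and has reduced
local rings, for every field extension K of κ(y)). Then y ↦ dim X_y^0 is locally constant on Y if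
and only if f is universally open at every point of X^0; and when this holds, X^0 is open in X. (The
published statement also lists, as a further equivalent condition, flatness of the base change of f
to the reduced closed subscheme Y_red at the points of X^0; that condition is not stated here.) -/
theorem result {X Y : Scheme.{u}}
    [IsLocallyNoetherian Y] (f : X ⟶ Y) [LocallyOfFiniteType f] (g : Y ⟶ X) (hg : g ≫ f = 𝟙 Y)
    (hint : ∀ y : Y, (∀ (K : Type u) [Field K] [Algebra (IsLocalRing.ResidueField (Y.presheaf.stalk y)) K],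
        IsIrreducible ((FBase.bcπ (f.fiberToSpecResidueField y) K ≫ f.fiberι y).base ⁻¹' connectedComponentIn (f.base ⁻¹' {y}) (g.base y)) ∧
        ∀ x' : ↥(FBase.bc (f.fiberToSpecResidueField y) K),
          (FBase.bcπ (f.fiberToSpecResidueField y) K ≫ f.fiberι y).base x' ∈ connectedComponentIn (f.base ⁻¹' {y}) (g.base y) →
          _root_.IsReduced ((FBase.bc (f.fiberToSpecResidueField y) K).presheaf.stalk x'))) :
    (IsLocallyConstant (fun y : Y => topologicalKrullDim ↥(connectedComponentIn (f.base ⁻¹' {y}) (g.base y))) ↔ ∀ x ∈ MoreMor.sectionComponents f g, EGA43.IsUnivOpenAt f x) ∧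
      (IsLocallyConstant (fun y : Y => topologicalKrullDim ↥(connectedComponentIn (f.base ⁻¹' {y}) (g.base y))) → IsOpen (MoreMor.sectionComponents f g)) := by
  haveI : LocallyOfFinitePresentation f := VarDim.locallyOfFinitePresentation_of_locallyNoetherian f
  have hgi : ∀ (y : Y) (K : Type u) [Field K] [Algebra (IsLocalRing.ResidueField (Y.presheaf.stalk y)) K],
      IsIrreducible ((FBase.bcπ (f.fiberToSpecResidueField y) K ≫ f.fiberι y).base ⁻¹' (connectedComponentIn (f.base ⁻¹' {y}) (g.base y))) :=
    fun y K _ _ => (hint y K).1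
  have hmem : ∀ {y : Y} {c : X}, c ∈ connectedComponentIn (f.base ⁻¹' {y}) (g.base y) →
      f c = y ∧ c ∈ connectedComponentIn (f.base ⁻¹' {f c}) (g.base (f c)) := fun {y c} hc => by
    have h : f c = y := connectedComponentIn_subset (f.base ⁻¹' {y}) (g.base y) hc
    exact ⟨h, by rw [h]; exact hc⟩
  have hUO : IsLocallyConstant (fun y : Y => topologicalKrullDim ↥(connectedComponentIn (f.base ⁻¹' {y}) (g.base y))) →
      ∀ x ∈ MoreMor.sectionComponents f g, EGA43.IsUnivOpenAt f x := fun hlc x hx =>
    S3458.result f g hg hgi (f x)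
      ⟨_, (hlc.isOpen_fiber _).mem_nhds (rfl : _ = _), fun z hz => hz⟩ x hx
  refine ⟨⟨hUO, fun hopen => ?_⟩, fun hlc => ?_⟩
  · refine (IsLocallyConstant.iff_eventually_eq _).2 fun y₀ => ?_
    have hgy : g.base y₀ ∈ connectedComponentIn (f.base ⁻¹' {f (g.base y₀)}) (g.base (f (g.base y₀))) := by
      rw [SectionCompConn4.apply_section hg]; exact SectionComp4.mem_comp f g hg y₀
    obtain ⟨V, hV, hVc⟩ := SectionComp4.dim_const f g hg hgi y₀ (fun ξ hξ _ => hopen ξ (hmem hξ).2)
      (.inl ⟨geomRed f g hint _ hgy, inferInstance⟩)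
    exact Filter.mem_of_superset hV fun z hz => hVc z hz
  · refine isOpen_iff_mem_nhds.2 fun x hx => mem_interior_iff_mem_nhds.1 ?_
    exact SectionCompOpen4.subset_interior f hg (y := f.base x)
      (fun c hc => ⟨hUO hlc c (hmem hc).2, geomRed f g hint c (hmem hc).2⟩) hx

end Groth.Agent.S4975
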