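import Groth.Statements.S4979
import Groth.Agent.Lib.AmpleDesc5.Main
import Groth.Agent.Lib.UnivOpenSec5.Main
-- import your own Groth.Agent.* helpers here

set_option autoImplicit false
open CategoryTheory AlgebraicGeometry
universe u v w
open EGA43

namespace Groth.Agent.S4979

open CategoryTheory.Limits in
/-- Let Y be a locally Noetherian scheme, f : X ⟶ Y a morphism locally of finite type, g : Y' ⟶ Y a
morphism locally of finite type which is universally open and surjective, f' : X ×_Y Y' ⟶ Y' the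
base change of f, L an invertible O_X-module and L' its pullback to X ×_Y Y'. Suppose there is a
closed subset Z of X which, with its reduced subscheme structure, is proper over Y, and such that
the local rings of X at the points outside Z are integrally closed domains. Then L is ample relative
to f if and only if L' is ample relative to f'. -/
theorem result {X Y Y' : Scheme.{u}}
    [IsLocallyNoetherian Y] (f : X ⟶ Y) [LocallyOfFiniteType f] (g : Y' ⟶ Y) [LocallyOfFiniteType g]
    [UniversallyOpen g] [Surjective g] (L : X.Modules) (hL : FlatMod.IsFinLocFreeOfRank 1 L)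
    (Z : TopologicalSpace.Closeds X) (hZ : IsProper ((Scheme.IdealSheafData.vanishingIdeal Z).subschemeι ≫ f))
    (hnor : ∀ x : X, x ∉ (Z : Set X) → IsDomain (X.presheaf.stalk x) ∧ IsIntegrallyClosed (X.presheaf.stalk x)) :
    RelAmple.IsRelAmple f L ↔
      RelAmple.IsRelAmple (pullback.snd f g) ((Scheme.Modules.pullback (pullback.fst f g)).obj L) := by
  have hLi : PicF.IsInvertible L := (Groth.Agent.M2.isInvertible_iff_isFinLocFreeOfRank_one L).2 hL
  have H₀ : IsPullback (pullback.fst f g) (pullback.snd f g) f g := IsPullback.of_hasPullback f g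
  constructor
  · intro h
    haveI := h.1
    exact Groth.Agent.RA.isRelAmple_of_isPullback H₀ h
  intro h
  haveI := h.1
  haveI : QuasiCompact f := by
    rw [quasiCompact_iff_forall_isAffineOpen]
    intro V hV
    obtain ⟨s, hs⟩ := hV.isCompact.elim_finite_subcover
      (fun U : {U : Y'.Opens // IsAffineOpen U ∧ U ≤ g ⁻¹ᵁ V} => g '' (U.1 : Set Y'))
      (fun U => g.isOpenMap _ U.1.isOpen) (fun y hy => by
        obtain ⟨y', rfl⟩ := g.surjective y
        obtain ⟨U, hU, hyU, hUV⟩ := exists_isAffineOpen_mem_and_subset (x := y') (U := g ⁻¹ᵁ V) hy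
        exact Set.mem_iUnion.2 ⟨⟨U, hU, hUV⟩, y', hyU, rfl⟩)
    have e : ((f ⁻¹ᵁ V : X.Opens) : Set X) =
        ⋃ U ∈ s, (pullback.fst f g) '' ((pullback.snd f g ⁻¹ᵁ U.1 : (pullback f g).Opens) : Set (pullback f g : Scheme.{u})) := by
      ext x
      refine ⟨fun hx => ?_, fun hx => ?_⟩
      · obtain ⟨U, hUs, y', hy', e⟩ := Set.mem_iUnion₂.1 (hs hx)
        obtain ⟨z, hz1, hz2⟩ := Scheme.Pullback.exists_preimage_pullback x y' e.symm
        exact Set.mem_iUnion₂.2 ⟨U, hUs, z, show pullback.snd f g z ∈ U.1 from hz2.symm ▸ hy', hz1⟩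
      · obtain ⟨U, hUs, z, hz, rfl⟩ := Set.mem_iUnion₂.1 hx
        show (pullback.fst f g ≫ f) z ∈ V
        rw [pullback.condition]
        exact U.2.2 hz
    rw [e]
    exact s.finite_toSet.isCompact_biUnion fun U _ =>
      ((pullback.snd f g).isCompact_preimage U.2.1.isCompact).image (pullback.fst f g).continuous
  refine (Groth.Agent.RA.isRelAmple_def f).2 fun V hV => ?_
  haveI : IsAffine (V : Scheme.{u}) := hV
  haveI : IsLocallyNoetherian (V : Scheme.{u}) := LocallyOfFiniteType.isLocallyNoetherian V.ι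
  haveI : LocallyOfFiniteType (g ∣_ V) :=
    MorphismProperty.of_isPullback (P := @LocallyOfFiniteType) (isPullback_morphismRestrict g V).flip inferInstance
  haveI : LocallyOfFinitePresentation (g ∣_ V) := LocallyOfFinitePresentation.iff_locallyOfFiniteType.2 inferInstance
  haveI : UniversallyOpen (g ∣_ V) :=
    MorphismProperty.of_isPullback (P := @UniversallyOpen) (isPullback_morphismRestrict g V).flip inferInstance
  haveI : Surjective (g ∣_ V) :=
    MorphismProperty.of_isPullback (P := @Surjective) (isPullback_morphismRestrict g V).flip inferInstance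
  obtain ⟨T, p, hps, hpf, -, hsec⟩ := Groth.Agent.UnivOpenSec5.exists_finite (g ∣_ V)
  haveI := hps
  haveI := hpf
  haveI : IsAffine T := isAffine_of_isAffineHom p
  let W := f ⁻¹ᵁ V
  let a := pullback.fst (f ∣_ V) p
  let b := pullback.snd (f ∣_ V) p
  haveI : QuasiCompact (f ∣_ V) := MorphismProperty.of_isPullback (isPullback_morphismRestrict f V).flip inferInstance
  haveI : IsFinite a := MorphismProperty.pullback_fst _ _ inferInstance
  haveI : Surjective a := MorphismProperty.pullback_fst _ _ inferInstance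
  refine Groth.Agent.AmpleDesc5.ampleOn_of_finite f hV a Z hZ (fun y hy => ?_) hLi ?_
  · obtain ⟨h1, h2⟩ := hnor _ hy
    let e := (asIso (W.ι.stalkMap y)).commRingCatIsoToRingEquiv
    exact Or.inl ⟨MulEquiv.isDomain (X.presheaf.stalk (W.ι y)) e.symm.toMulEquiv, IsIntegrallyClosed.of_equiv e⟩
  have hG : IsPullback (a ≫ W.ι) b f (p ≫ V.ι) :=
    (IsPullback.of_hasPullback (f ∣_ V) p).paste_horiz (isPullback_morphismRestrict f V).flip
  refine (Groth.Agent.RA.isRelAmple_iff_isAmple b).1 (Groth.Agent.RA.isRelAmple_of_local b fun y => ?_)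
  obtain ⟨V', σ, hyV', hσ⟩ := hsec y
  obtain ⟨U, hU, hyU, hUV⟩ := exists_isAffineOpen_mem_and_subset (x := y) (U := V') hyV'
  refine ⟨U, hU, hyU, ?_⟩
  let c : (U : Scheme.{u}) ⟶ Y' := T.homOfLE hUV ≫ σ ≫ (g ⁻¹ᵁ V).ι
  have hc : c ≫ g = U.ι ≫ p ≫ V.ι := by
    simp only [c, Category.assoc]
    rw [← morphismRestrict_ι g V, reassoc_of% hσ, Scheme.homOfLE_ι_assoc]
  have hS : IsPullback ((b ⁻¹ᵁ U).ι ≫ a ≫ W.ι) (b ∣_ U) f (c ≫ g) := by
    rw [hc]
    exact (isPullback_morphismRestrict b U).flip.paste_horiz hG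
  let d : (b ⁻¹ᵁ U).toScheme ⟶ pullback f g :=
    pullback.lift ((b ⁻¹ᵁ U).ι ≫ a ≫ W.ι) ((b ∣_ U) ≫ c) (by rw [hS.w]; simp only [c, Category.assoc])
  have hd : IsPullback d (b ∣_ U) (pullback.snd f g) c :=
    IsPullback.of_right (s := by rw [pullback.lift_fst]; exact hS) (pullback.lift_snd _ _ _) H₀
  haveI : IsAffine (U : Scheme.{u}) := hU
  haveI : QuasiCompact (b ∣_ U) := MorphismProperty.of_isPullback (isPullback_morphismRestrict b U).flip inferInstance
  have h2 := (Groth.Agent.RA.isRelAmple_iff_isAmple (b ∣_ U)).1 (Groth.Agent.RA.isRelAmple_of_isPullback hd h)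
  rw [Groth.Agent.RA.isAmple_pullback_comp_iff, Groth.Agent.RA.isAmple_pullback_congr (pullback.lift_fst _ _ _),
    ← Category.assoc, ← Groth.Agent.RA.isAmple_pullback_comp_iff] at h2
  refine (Groth.Agent.RA.isAmple_iso_iff ?_).1 h2
  exact (Scheme.Modules.pullback ((b ⁻¹ᵁ U).ι ≫ a)).mapIso
    ((Scheme.Modules.restrictFunctorIsoPullback W.ι).app L).symm ≪≫
      (Scheme.Modules.pullbackComp (b ⁻¹ᵁ U).ι a).symm.app _ ≪≫
        ((Scheme.Modules.restrictFunctorIsoPullback (b ⁻¹ᵁ U).ι).app _).symm

end Groth.Agent.S4979
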