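import Groth.Statements.S4980
import Groth.Agent.Lib.GenLen5.Alg
import Groth.Agent.Lib.GenLen5.Geom

set_option autoImplicit false
open CategoryTheory AlgebraicGeometry
universe u v w
open EGA43

namespace Groth.Agent.S4980

open Groth.Agent.GenLen5 IsLocalRing TopologicalSpace

set_option backward.isDefEq.respectTransparency false
set_option backward.isDefEq.respectTransparency.types false

theorem stalkSpecializes_self {X : Scheme.{u}} {x : X} (h : x ⤳ x) (a : X.presheaf.stalk x) :
    X.presheaf.stalkSpecializes h a = a := by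
  simp

theorem genPrime_self {X : Scheme.{u}} {x : X} (h : x ⤳ x) :
    (genPrime h).asIdeal = maximalIdeal (X.presheaf.stalk x) := by
  ext a
  rw [RingHom.mem_ker]
  show X.residue x (X.presheaf.stalkSpecializes h a) = 0 ↔ _
  rw [stalkSpecializes_self]
  exact IsLocalRing.residue_eq_zero_iff a

variable {A : Type u} [CommRing A] [IsDomain A] [IsDiscreteValuationRing A] {X : Scheme.{u}}

/-- A maximal point of the generic fibre specialises to one of the closed fibre. -/
theorem exists_isMaxPt_closed (f : X ⟶ Spec (CommRingCat.of A)) [IsProper f] {F : X.Modules}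
    (hF : Coh.IsCoh F) (hflat : FlatMod.IsFlatOver f F)
    (hemb : AssSch.NoEmbedded ((Scheme.Modules.pullback (f.fiberι (IsLocalRing.closedPoint A))).obj F))
    {x' : X} (hx' : IsMaxPt f F (genericPoint (Spec (CommRingCat.of A))) x') :
    ∃ x, IsMaxPt f F (IsLocalRing.closedPoint A) x ∧ x' ⤳ x := by
  haveI : IsLocallyNoetherian X := LocallyOfFiniteType.isLocallyNoetherian f
  have hQ : Coh.IsQCoh F := hF.1
  haveI := hQ
  obtain ⟨hfx', hne', hmax'⟩ := hx'
  set y : Spec (CommRingCat.of A) := IsLocalRing.closedPoint A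
  have hy : IsClosed ({y} : Set (Spec (CommRingCat.of A))) := IsLocalRing.isClosed_singleton_closedPoint A
  have hyne : y ≠ genericPoint (Spec (CommRingCat.of A)) := fun h => IsDiscreteValuationRing.not_a_field A
    (by rw [genericPoint_eq_bot_of_affine] at h; exact congrArg PrimeSpectrum.asIdeal h)
  have hmaxX : ∀ w, Nontrivial (F.presheaf.stalk w) → w ⤳ x' → w = x' := fun w hw hs =>
    hmax' w ((hfx' ▸ hs.map f.continuous).antisymm (genericPoint_specializes _)).eq hw hs
  obtain ⟨x₀, hx₀, hfx₀⟩ : y ∈ f '' closure {x'} :=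
    (show f x' ⤳ y from hfx' ▸ genericPoint_specializes y).mem_closed (f.isClosedMap _ isClosed_closure)
      ⟨x', subset_closure rfl, rfl⟩
  have hC : IsClosed (closure {x'} ∩ f ⁻¹' {y}) := isClosed_closure.inter (hy.preimage f.continuous)
  obtain ⟨x, ⟨hx'x, (hfx : f x = y)⟩, -, hxmax⟩ := exists_maximal hC (x₀ := x₀) ⟨hx₀, hfx₀⟩
  replace hx'x : x' ⤳ x := specializes_iff_mem_closure.2 hx'x
  have hnex : Nontrivial (F.presheaf.stalk x) := not_subsingleton_iff_nontrivial.1
    (hx'x.mem_closed (M1.isClosed_support hF.2) (not_subsingleton_iff_nontrivial.2 hne'))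
  refine ⟨x, ⟨hfx, hnex, fun w hw hnw hwx => ?_⟩, hx'x⟩
  obtain ⟨z, rfl⟩ := (f.range_fiberι y).ge hfx
  obtain ⟨v, rfl⟩ := (f.range_fiberι y).ge hw
  haveI : Coh.IsQCoh ((Scheme.Modules.pullback (f.fiberι y)).obj F) :=
    (M1.isCoh_pullback (f.fiberι y) hF).1
  haveI := M1.finite_stalk hQ hF.2 (f.fiberι y z)
  obtain ⟨t, htJ, htm, htgen, htreg⟩ := exists_equation f (x := f.fiberι y z) (by rw [hfx]; exact hyne)
  have hp := genPrime_mem_minimalPrimes hQ hF.2 hx'x hne' hmaxX
  obtain ⟨n, hn⟩ := exists_radical_ker_eq htm (htreg F (hflat _)) hp (fun q hle htq => by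
      obtain ⟨u, hu, rfl⟩ := exists_genPrime_eq q
      have h1 : x' ⤳ u := specializes_of_genPrime_le hx'x hu hle
      have h2 : f u = y := (eq_closedPoint_or_generic (f u)).resolve_right fun h => htgen u hu h htq
      obtain rfl := hxmax u ⟨specializes_iff_mem_closure.1 h1, h2⟩ hu
      exact genPrime_self hu)
    ((f.fiberι y).stalkMap_surjective z) (M2.stalkUnit (f.fiberι y) z F)
    ((stalkUnit_surjective_and_ker f F y z).2.trans (by rw [htJ]))
  obtain ⟨a, ha, hav⟩ := AssPts11.exists_ass_specializes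
    ((nontrivial_fiber_stalk_iff f F y v hQ hF.2).2 hnw)
  have hvz : v ⤳ z := (f.fiberι y).isEmbedding.isInducing.specializes_iff.1 hwx
  obtain rfl := hemb z (AssPts11.mem_ass_iff.2 ⟨n, hn⟩) a ha (hav.trans hvz)
  rw [(hvz.antisymm hav).eq]

theorem sum_le_closed_stalk (f : X ⟶ Spec (CommRingCat.of A)) [IsProper f] {F : X.Modules}
    (hF : Coh.IsCoh F) {x : X} (hx : f x = IsLocalRing.closedPoint A) (T : Finset X)
    (hT : ∀ x' ∈ T, IsMaxPt f F (genericPoint (Spec (CommRingCat.of A))) x' ∧ x' ⤳ x) :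
    ∑ x' ∈ T, Module.length (X.presheaf.stalk x') (F.presheaf.stalk x') ≤
      Module.length (X.presheaf.stalk x) (F.presheaf.stalk x ⧸
        fibIdeal f x • (⊤ : Submodule (X.presheaf.stalk x) (F.presheaf.stalk x : Type u))) := by
  haveI : IsLocallyNoetherian X := LocallyOfFiniteType.isLocallyNoetherian f
  have hQ : Coh.IsQCoh F := hF.1
  haveI := M1.finite_stalk hQ hF.2 x
  have hyne : f x ≠ genericPoint (Spec (CommRingCat.of A)) := fun h => IsDiscreteValuationRing.not_a_field A
    (by rw [hx, genericPoint_eq_bot_of_affine] at h; exact congrArg PrimeSpectrum.asIdeal h)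
  obtain ⟨t, htJ, htm, htgen, -⟩ := exists_equation f hyne
  rw [htJ]
  have key := sum_lenAt_le (M := (F.presheaf.stalk x : Type u)) htm T.attach
    (fun i => genPrime (hT i.1 i.2).2)
    (fun i _ j _ h => Subtype.ext ((specializes_of_genPrime_le (hT i.1 i.2).2 (hT j.1 j.2).2 h.le).antisymm
      (specializes_of_genPrime_le (hT j.1 j.2).2 (hT i.1 i.2).2 h.ge)).eq)
    (fun i _ => genPrime_mem_minimalPrimes hQ hF.2 _ (hT i.1 i.2).1.2.1 fun w hw hs =>
      (hT i.1 i.2).1.2.2 w (((hT i.1 i.2).1.1 ▸ hs.map f.continuous).antisymm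
        (genericPoint_specializes _)).eq hw hs)
    (fun i _ => htgen i.1 _ (hT i.1 i.2).1.1)
  refine le_trans (le_of_eq ?_) key
  rw [← Finset.sum_attach T]
  exact Finset.sum_congr rfl fun i _ => (Cyc26.locLen_stalk hQ (hT i.1 i.2).2).symm


/-- Let A be a discrete valuation ring, Y = Spec A with closed point y and generic point y', f : X ⟶ Y a
proper morphism and F a coherent O_X-module which is f-flat; write F_y, F_{y'} for the restrictions
of F to the two fibres and suppose F_y has no embedded associated point. Then the sum, over the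
maximal points z' of Supp(F_{y'}), of the lengths of the stalks (F_{y'})_{z'} is at most the sum,
over the maximal points z of Supp(F_y), of the lengths of the stalks (F_y)_z (lengths over the local
rings of the fibres). -/
theorem result {A : Type u} [CommRing A] [IsDomain A]
    [IsDiscreteValuationRing A] {X : Scheme.{u}} (f : X ⟶ Spec (CommRingCat.of A)) [IsProper f] (F : X.Modules)
    (hF : Coh.IsCoh F) (hflat : FlatMod.IsFlatOver f F)
    (hemb : AssSch.NoEmbedded ((Scheme.Modules.pullback (f.fiberι (IsLocalRing.closedPoint A))).obj F)) :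
    letI y : ↥(Spec (CommRingCat.of A)) := IsLocalRing.closedPoint A
    letI y' : ↥(Spec (CommRingCat.of A)) := genericPoint (Spec (CommRingCat.of A))
    ∑ᶠ z' : {v : ↥(f.fiber y') // Nontrivial (((Scheme.Modules.pullback (f.fiberι y')).obj F).presheaf.stalk v) ∧
        ∀ w : ↥(f.fiber y'), Nontrivial (((Scheme.Modules.pullback (f.fiberι y')).obj F).presheaf.stalk w) → v ∈ closure {w} → w = v},
        Module.length ((f.fiber y').presheaf.stalk z'.1) (((Scheme.Modules.pullback (f.fiberι y')).obj F).presheaf.stalk z'.1) ≤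
      ∑ᶠ z : {v : ↥(f.fiber y) // Nontrivial (((Scheme.Modules.pullback (f.fiberι y)).obj F).presheaf.stalk v) ∧
        ∀ w : ↥(f.fiber y), Nontrivial (((Scheme.Modules.pullback (f.fiberι y)).obj F).presheaf.stalk w) → v ∈ closure {w} → w = v},
        Module.length ((f.fiber y).presheaf.stalk z.1) (((Scheme.Modules.pullback (f.fiberι y)).obj F).presheaf.stalk z.1) := by
  classical
  haveI : IsLocallyNoetherian X := LocallyOfFiniteType.isLocallyNoetherian f
  haveI : CompactSpace X := QuasiCompact.compactSpace_of_compactSpace f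
  haveI : IsNoetherian X := {}
  set y : ↥(Spec (CommRingCat.of A)) := IsLocalRing.closedPoint A with hy
  set y' : ↥(Spec (CommRingCat.of A)) := genericPoint (Spec (CommRingCat.of A)) with hy'
  have hQ : Coh.IsQCoh F := hF.1
  have hS : IsClosed {x : X | Nontrivial (F.presheaf.stalk x)} := by
    simpa only [CohB1.support, not_subsingleton_iff_nontrivial] using M1.isClosed_support hF.2
  haveI : Finite {x : X // IsMaxPt f F y x} := ((finite_maximal (hS.inter
      ((IsLocalRing.isClosed_singleton_closedPoint A).preimage f.continuous))).subset fun x hx =>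
    ⟨⟨hx.2.1, hx.1⟩, fun w hw hs => hx.2.2 w hw.2 hw.1 hs⟩).to_subtype
  haveI : Finite {x : X // IsMaxPt f F y' x} := ((finite_maximal hS).subset fun x hx =>
    ⟨hx.2.1, fun w hw hs => hx.2.2 w ((hx.1 ▸ hs.map f.continuous).antisymm
      (genericPoint_specializes _)).eq hw hs⟩).to_subtype
  haveI := Fintype.ofFinite {x : X // IsMaxPt f F y x}
  haveI := Fintype.ofFinite {x : X // IsMaxPt f F y' x}
  have conv : ∀ (p : ↥(Spec (CommRingCat.of A))) [Fintype {x : X // IsMaxPt f F p x}],
      (∑ᶠ z : {v : ↥(f.fiber p) // Nontrivial (((Scheme.Modules.pullback (f.fiberι p)).obj F).presheaf.stalk v) ∧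
          ∀ w : ↥(f.fiber p), Nontrivial (((Scheme.Modules.pullback (f.fiberι p)).obj F).presheaf.stalk w) →
            v ∈ closure {w} → w = v},
        Module.length ((f.fiber p).presheaf.stalk z.1)
          (((Scheme.Modules.pullback (f.fiberι p)).obj F).presheaf.stalk z.1)) =
      ∑ x : {x : X // IsMaxPt f F p x}, Module.length (X.presheaf.stalk x.1)
        (F.presheaf.stalk x.1 ⧸
          fibIdeal f x.1 • (⊤ : Submodule (X.presheaf.stalk x.1) (F.presheaf.stalk x.1 : Type u))) := by
    intro p _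
    rw [← finsum_eq_sum_of_fintype]
    refine finsum_eq_of_bijective
      (fun v => ⟨f.fiberι p v.1, (isMaxPt_fiberι_iff f hQ hF.2 p v.1).1 v.2⟩) ⟨fun v v' h => ?_, fun x => ?_⟩
      fun v => length_fiber_stalk f F p v.1
    · exact Subtype.ext ((f.fiberι p).isEmbedding.injective (congrArg Subtype.val h))
    · obtain ⟨v, hv⟩ := (f.range_fiberι p).ge x.2.1
      exact ⟨⟨v, (isMaxPt_fiberι_iff f hQ hF.2 p v).2 (hv.symm ▸ x.2)⟩, Subtype.ext hv⟩
  rw [conv y', conv y]
  let L : X → ℕ∞ := fun x => Module.length (X.presheaf.stalk x) (F.presheaf.stalk x)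
  calc _ = ∑ x' : {x : X // IsMaxPt f F y' x}, L x'.1 := Finset.sum_congr rfl fun x' _ => by
        have h0 : fibIdeal f x'.1 = ⊥ := by
          rw [fibIdeal, maximalIdeal_stalk_generic x'.2.1, Ideal.map_bot]
        rw [h0, Submodule.bot_smul]
        exact (Submodule.quotEquivOfEqBot ⊥ rfl).length_eq
    _ ≤ ∑ x' : {x : X // IsMaxPt f F y' x}, ∑ x ∈ Finset.univ.filter
          (fun x : {x : X // IsMaxPt f F y x} => x'.1 ⤳ x.1), L x'.1 := Finset.sum_le_sum fun x' _ => by
        obtain ⟨x, hx, hs⟩ := exists_isMaxPt_closed f hF hflat hemb x'.2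
        exact Finset.single_le_sum (f := fun _ : {x : X // IsMaxPt f F y x} => L x'.1) (fun _ _ => zero_le)
          (Finset.mem_filter.2 ⟨Finset.mem_univ ⟨x, hx⟩, hs⟩)
    _ = ∑ x : {x : X // IsMaxPt f F y x}, ∑ x' ∈ Finset.univ.filter
          (fun x' : {x : X // IsMaxPt f F y' x} => x'.1 ⤳ x.1), L x'.1 := by
        simp only [Finset.sum_filter]
        exact Finset.sum_comm
    _ ≤ _ := Finset.sum_le_sum fun x _ => by
        refine le_trans (le_of_eq ?_) (sum_le_closed_stalk f hF x.2.1
          ((Finset.univ.filter fun x' : {x : X // IsMaxPt f F y' x} => x'.1 ⤳ x.1).image Subtype.val) ?_)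
        · rw [Finset.sum_image fun a _ b _ h => Subtype.ext h]
        · intro x' hx'
          obtain ⟨a, ha, rfl⟩ := Finset.mem_image.1 hx'
          exact ⟨a.2, (Finset.mem_filter.1 ha).2⟩

end Groth.Agent.S4980
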