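import Groth.Statements.S4981
import Groth.Agent.Lib.UnivOpenFin5.DVRCrit

set_option autoImplicit false
open CategoryTheory AlgebraicGeometry
universe u v w
open EGA43

namespace Groth.Agent.S4981

/-- Let Y be a locally Noetherian scheme, f : X ⟶ Y a morphism locally of finite type, y a point of Y
and x a point of the fibre X_y. Then f is universally open at x if and only if the following holds:
for every complete discrete valuation ring A with algebraically closed residue field k, every
morphism g : Spec A ⟶ Y sending the closed point to y, and every Y-morphism u₀ : Spec k ⟶ X with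
image x, there exist a discrete valuation ring B which is a finite A-algebra through a local
homomorphism φ : A → B, and a Y-morphism u : Spec B ⟶ X, such that the restriction of u to the
closed point Spec κ(B) equals u₀ composed with the morphism Spec κ(B) ⟶ Spec k. -/
theorem result {X Y : Scheme.{u}} [IsLocallyNoetherian Y]
    (f : X ⟶ Y) [LocallyOfFiniteType f] (x : X) :
    EGA43.IsUnivOpenAt f x ↔
      ∀ (A : Type u) [CommRing A] [IsDomain A] [IsDiscreteValuationRing A]
        [IsAdicComplete (IsLocalRing.maximalIdeal A) A] [IsAlgClosed (IsLocalRing.ResidueField A)]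
        (g : Spec (CommRingCat.of A) ⟶ Y), g.base (IsLocalRing.closedPoint A) = f.base x →
        ∀ u₀ : Spec (CommRingCat.of (IsLocalRing.ResidueField A)) ⟶ X,
          u₀ ≫ f = Spec.map (CommRingCat.ofHom (IsLocalRing.residue A)) ≫ g → x ∈ Set.range u₀.base →
          ∃ (B : CommRingCat.{u}) (_ : IsDomain B) (_ : IsDiscreteValuationRing B) (φ : A →+* B)
            (_ : IsLocalHom φ) (v : Spec B ⟶ X),
            φ.Finite ∧ v ≫ f = Spec.map (CommRingCat.ofHom φ) ≫ g ∧
            Spec.map (CommRingCat.ofHom (IsLocalRing.ResidueField.map φ)) ≫ u₀ =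
              Spec.map (CommRingCat.ofHom (IsLocalRing.residue B)) ≫ v := by
  refine ⟨fun h A _ _ _ _ _ g _ u₀ hu hx => ?_, fun h => Groth.Agent.UnivOpenFin5.isUnivOpenAt_of_dvr_lifts f x h⟩
  exact Groth.Agent.UnivOpenFin5.exists_lift_of_isUnivOpenAt f h A g u₀ hu hx

end Groth.Agent.S4981
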