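import Groth.Statements.S4984
import Groth.Agent.Lib.FibDepth5.Equi
-- Template for statement S4984 (row 4983; see the milestone table for weights).
-- Copy to Groth/Agent/S4984.lean and replace the sorry. The statement below is byte-identical to the frozen
-- statement EGA43.GrothFrozen.S4984 (Groth/Statements/S4984.lean; the theorem EGA43.isOpen_setOf_fibre_isEquidimModule_and_hasSk);
-- the grader kernel-checks Groth.Agent.S4984.result against that frozen type. Keep the theorem IN THIS FILE
-- (a `result` declared elsewhere and merely imported here is not credited); helpers may live anywhere
-- under Groth/Agent/.
-- import your own Groth.Agent.* helpers here

set_option autoImplicit false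
open CategoryTheory AlgebraicGeometry
universe u v w
open EGA43

namespace Groth.Agent.S4984

/-- For k ≥ 1: let f : X ⟶ Y be a morphism locally of finite presentation and F a finitely presented
O_X-module which is f-flat; for x in X write F_{f x} for the restriction of F to the fibre of f
through x. Let k ≥ 1 be a natural number. Then the set of points x such that the stalk of F_{f x} at
x is an equidimensional module over the local ring of the fibre at x (every minimal prime of its
support has quotient of dimension equal to the dimension of the module) and satisfies Serre's
condition (S_k) over it is open in X. (The published statement allows every integer k. For k ≤ 0 the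
condition (S_k) is empty and the set is the locus where the fibre module is equidimensional at x,
which need not be open: over a discrete valuation ring take the flat closed subscheme of affine
3-space whose general fibre is a plane together with a line meeting it in one point and whose
special fibre is that plane with an embedded component at the point; the special point is in the
set, its generization on the general fibre is not. For k ≥ 1 condition (S_k) excludes embedded
associated primes of the fibre stalk, which is what the passage to generizations uses, so k ≥ 1 is
assumed here.) -/
theorem result {X Y : Scheme.{u}} (f : X ⟶ Y) [LocallyOfFinitePresentation f]
    (F : X.Modules) (hF : CohB1.IsFP F) (hflat : FlatMod.IsFlatOver f F) (k : ℕ) (hk : 1 ≤ k) :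
    IsOpen {x : X | EGA4.IsEquidimModule ((f.fiber (f.base x)).presheaf.stalk (f.asFiber x)) (((Scheme.Modules.pullback (f.fiberι (f.base x))).obj F).presheaf.stalk (f.asFiber x)) ∧ LocCoh.HasSk k ((f.fiber (f.base x)).presheaf.stalk (f.asFiber x)) (((Scheme.Modules.pullback (f.fiberι (f.base x))).obj F).presheaf.stalk (f.asFiber x))} := by
  exact FibDepth5.isOpen_equidim_hasSk f F hF hflat k hk

end Groth.Agent.S4984
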