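import Groth.Statements.S4985
import Groth.Agent.Lib.EquidimStalk4

set_option autoImplicit false
open CategoryTheory AlgebraicGeometry
universe u v w
open EGA43

set_option backward.isDefEq.respectTransparency.types false

namespace Groth.Agent.S4985


open Topology in
theorem image_closure {A B : Scheme.{u}} (f : A ⟶ B) (t : A) : closure (f.base '' closure {t}) = closure {f t} :=
  (closure_image_closure f.continuous).trans (by rw [Set.image_singleton])

open TopologicalSpace Groth.Agent.EquidimStalk4 in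
theorem key {X Y : Scheme.{u}} [IsLocallyNoetherian Y] (f : X ⟶ Y) [LocallyOfFiniteType f] {t x : X} (η : Y)
    (w : Cl t) (hw : clι t w = x) (W : Closeds Y) (hW : W = ⟨closure {f t}, isClosed_closure⟩)
    (v : ↥(Scheme.IdealSheafData.vanishingIdeal W).subscheme)
    (hv : (Scheme.IdealSheafData.vanishingIdeal W).subschemeι v = f x) (hη : η = f t) :
    ∃ A A' B' k k' : ℕ, ringKrullDim (Y.presheaf.stalk (f x)) = (A : WithBot ℕ∞) ∧
      ringKrullDim ((Scheme.IdealSheafData.vanishingIdeal W).subscheme.presheaf.stalk v) = (A' : WithBot ℕ∞) ∧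
      ringKrullDim ((Cl t).presheaf.stalk w) = (B' : WithBot ℕ∞) ∧
      ringKrullDim ((f.fiber (f x)).presheaf.stalk (f.asFiber x)) = (k : WithBot ℕ∞) ∧
      ringKrullDim (((clι t ≫ f).fiber ((clι t ≫ f) w)).presheaf.stalk ((clι t ≫ f).asFiber w)) = (k' : WithBot ℕ∞) ∧
      FlatMor.fibreDimAt f x = ((k + FibDim14.rd f x : ℕ) : WithBot ℕ∞) ∧
      FlatMor.fibreDimAt (clι t ≫ f) w = ((k' + FibDim14.rd f x : ℕ) : WithBot ℕ∞) ∧
      topologicalKrullDim ↥(closure {t} ∩ f.base ⁻¹' {η}) = (FibDim14.rd f t : WithBot ℕ∞) ∧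
      A' ≤ A ∧ k' ≤ k ∧ FibDim14.rd f t ≤ k' + FibDim14.rd f x ∧
      B' + FibDim14.rd f x ≤ A' + FibDim14.rd f t := by
  subst hW hη
  obtain ⟨A, A', B', k, k', h1, h2, h3, h4, h5, h6, h7, h8⟩ := exists_dims f w hw v hv
  exact ⟨A, A', B', k, k', h1, h2, h3, h4, h5, h6, h7, (FibSub4.closure_fibre f t).1, h8⟩


/-- Let Y be a locally Noetherian scheme, f : X ⟶ Y a morphism of finite type, x a point of X with y = f
x, X' an irreducible closed subset of X containing x, regarded as a reduced closed subscheme, and Y'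
the closure of f(X') regarded as a reduced closed subscheme of Y, with generic point η'. Write A, B,
A', B' for the local rings of Y at y, of X at x, of Y' at y and of X' at x, and B ⊗ κ(y), B' ⊗ κ(y)
for the local rings at x of the fibres over y of X and of X'. Then dim B' = dim A + dim(B ⊗ κ(y)) if
and only if all of the following hold: (i) dim A' = dim A; (ii) dim(B' ⊗ κ(y)) = dim(B ⊗ κ(y));
(iii) X' is equidimensional over Y' at x, i.e. the local dimension at x of the fibre of X' over y
equals dim(X' ∩ f⁻¹(η')); (iv) dim B' = dim A' + dim(B' ⊗ κ(y)) (the published (iv) carries the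
correction term dim_x − dim of (iii), which vanishes under (iii)). -/
theorem result {X Y : Scheme.{u}} [IsLocallyNoetherian Y] (f : X ⟶ Y)
    [LocallyOfFiniteType f] [QuasiCompact f] (x : X) (X' : TopologicalSpace.Closeds X) (hirr : IsIrreducible (X' : Set X))
    (hx : x ∈ X') (w : ↥(Scheme.IdealSheafData.vanishingIdeal X').subscheme)
    (hw : (Scheme.IdealSheafData.vanishingIdeal X').subschemeι.base w = x)
    (v : ↥(Scheme.IdealSheafData.vanishingIdeal
      (⟨closure (f.base '' (X' : Set X)), isClosed_closure⟩ : TopologicalSpace.Closeds Y)).subscheme)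
    (hv : (Scheme.IdealSheafData.vanishingIdeal
      (⟨closure (f.base '' (X' : Set X)), isClosed_closure⟩ : TopologicalSpace.Closeds Y)).subschemeι.base v = f.base x)
    (η' : Y) (hη' : closure ({η'} : Set Y) = closure (f.base '' (X' : Set X))) :
    letI ιX := (Scheme.IdealSheafData.vanishingIdeal X').subschemeι
    letI dA := ringKrullDim (Y.presheaf.stalk (f.base x))
    letI dB := ringKrullDim (X.presheaf.stalk x)
    letI dA' := ringKrullDim ((Scheme.IdealSheafData.vanishingIdeal
      (⟨closure (f.base '' (X' : Set X)), isClosed_closure⟩ : TopologicalSpace.Closeds Y)).subscheme.presheaf.stalk v)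
    letI dB' := ringKrullDim ((Scheme.IdealSheafData.vanishingIdeal X').subscheme.presheaf.stalk w)
    letI dBk := ringKrullDim ((f.fiber (f.base x)).presheaf.stalk (f.asFiber x))
    letI dB'k := ringKrullDim (((ιX ≫ f).fiber ((ιX ≫ f).base w)).presheaf.stalk ((ιX ≫ f).asFiber w))
    letI e' := topologicalKrullDim ↥((X' : Set X) ∩ f.base ⁻¹' {η'})
    (dB' = dA + dBk ↔
      (dA' = dA ∧ dB'k = dBk ∧ FlatMor.fibreDimAt (ιX ≫ f) w = e' ∧ dB' = dA' + dB'k)) := by
  obtain ⟨t, ht⟩ : ∃ t, X' = ⟨closure {t}, isClosed_closure⟩ :=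
    ⟨hirr.genericPoint, TopologicalSpace.Closeds.ext (hirr.closure_genericPoint X'.isClosed).symm⟩
  subst ht
  obtain ⟨A, A', B', k, k', h1, h2, h3, h4, h5, h6, h7, h8, i1, i2, i3, i4⟩ :=
    key f η' w hw _ (TopologicalSpace.Closeds.ext (image_closure f t)) v hv
      (IsGenericPoint.eq hη' (show IsGenericPoint (f t) _ from (image_closure f t).symm))
  refine ⟨fun h => ?_, fun ⟨e1, e2, _, e4⟩ => by rw [e4, e1, e2]⟩
  rw [h1, h4, h3] at h
  have h' : B' = A + k := by exact_mod_cast h
  refine ⟨?_, ?_, ?_, ?_⟩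
  · rw [h1, h2, show A' = A by omega]
  · rw [h4, h5, show k' = k by omega]
  · rw [h7]
    exact (congrArg Nat.cast (show k' + FibDim14.rd f x = FibDim14.rd f t by omega)).trans h8.symm
  · rw [h2, h3, h5, show B' = A' + k' by omega]
    push_cast
    rfl

end Groth.Agent.S4985
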