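import Groth.Statements.S4987
import Mathlib.AlgebraicGeometry.Morphisms.Etale
import Mathlib.AlgebraicGeometry.Morphisms.FlatMono
import Mathlib.AlgebraicGeometry.Morphisms.QuasiFinite
import Mathlib.AlgebraicGeometry.Morphisms.UniversallyOpen
import Groth.Agent.Lib.AlgSpace.OpenFlat

set_option autoImplicit false
universe u
open CategoryTheory CategoryTheory.Limits AlgebraicGeometry TopologicalSpace
open Unram17

namespace Groth.Agent.S4987

open CategoryTheory.Limits in
theorem exists_open_eq {X Y S : Scheme.{u}} (h : Y ⟶ S) [FormallyUnramified h] [LocallyOfFiniteType h]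
    (f g : X ⟶ Y) (w : g ≫ h = f ≫ h) (s : ↥S)
    (hs : (f ≫ h).fiberι s ≫ f = (f ≫ h).fiberι s ≫ g) :
    ∃ U : X.Opens, (f ≫ h) ⁻¹' {s} ⊆ U ∧ U.ι ≫ f = U.ι ≫ g ∧ (IsSeparated h → IsClosed (U : Set X)) := by
  let m : X ⟶ pullback h h := pullback.lift f g w.symm
  refine ⟨m ⁻¹ᵁ (pullback.diagonal h).opensRange, ?_, ?_, ?_⟩
  · intro x hx
    obtain ⟨z, rfl⟩ := (Scheme.Hom.range_fiberι (f ≫ h) s).ge hx
    have hm : (f ≫ h).fiberι s ≫ m = ((f ≫ h).fiberι s ≫ f) ≫ pullback.diagonal h := by
      apply pullback.hom_ext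
      · simp [Limits.pullback.lift_fst, Limits.pullback.lift_snd, Limits.pullback.lift_fst_assoc, Limits.pullback.lift_snd_assoc, m]
      · simp only [m, Category.assoc, pullback.lift_snd, pullback.diagonal_snd, Category.comp_id]
        exact hs.symm
    show m ((f ≫ h).fiberι s z) ∈ Set.range (pullback.diagonal h)
    rw [← Scheme.Hom.comp_apply, hm]
    exact ⟨_, rfl⟩
  · have hr : Set.range ((m ⁻¹ᵁ (pullback.diagonal h).opensRange).ι ≫ m) ⊆
        Set.range (pullback.diagonal h) := by
      rintro _ ⟨z, rfl⟩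
      exact z.2
    have h1 := IsOpenImmersion.lift_fac (pullback.diagonal h) _ hr
    have hf := congrArg (· ≫ pullback.fst h h) h1
    have hg := congrArg (· ≫ pullback.snd h h) h1
    simp only [m, Category.assoc, pullback.lift_fst, pullback.lift_snd, pullback.diagonal_fst,
      pullback.diagonal_snd, Category.comp_id] at hf hg
    exact hf.symm.trans hg
  · intro _
    exact (pullback.diagonal h).isClosedEmbedding.isClosed_range.preimage m.continuous

/-- Let h : Y ⟶ S be formally unramified and locally of finite type, let f, g : X ⟶ Y be two morphisms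
over S whose common composite X ⟶ S is closed as a map of topological spaces, and let s be a point
of S such that f and g have the same restriction to the scheme-theoretic fibre of X over s. Then
there is an open neighbourhood V of s such that f and g agree on the preimage of V. -/
theorem result {X Y S : Scheme.{u}} (h : Y ⟶ S)
    [FormallyUnramified h] [LocallyOfFiniteType h] (f g : X ⟶ Y) (w : g ≫ h = f ≫ h)
    (hc : IsClosedMap (f ≫ h).base) (s : ↥S)
    (hs : (f ≫ h).fiberι s ≫ f = (f ≫ h).fiberι s ≫ g) :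
    ∃ V : S.Opens, s ∈ V ∧ ((f ≫ h) ⁻¹ᵁ V).ι ≫ f = ((f ≫ h) ⁻¹ᵁ V).ι ≫ g := by
  obtain ⟨U, hU, he, -⟩ := exists_open_eq h f g w s hs
  let V : S.Opens := ⟨((f ≫ h) '' (U : Set X)ᶜ)ᶜ, (hc _ U.2.isClosed_compl).isOpen_compl⟩
  refine ⟨V, ?_, ?_⟩
  · rintro ⟨x, hx, hxs⟩
    exact hx (hU hxs)
  · have hle : (f ≫ h) ⁻¹ᵁ V ≤ U := fun x hx => by
      by_contra hxU
      exact hx ⟨x, hxU, rfl⟩
    rw [← Scheme.homOfLE_ι X hle, Category.assoc, Category.assoc, he]

end Groth.Agent.S4987
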