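import Groth.Statements.S4990
import Groth.Agent.Lib.FlatDepth.FibreStalk
-- import your own Groth.Agent.* helpers here

set_option autoImplicit false
set_option backward.isDefEq.respectTransparency false
universe u
open CategoryTheory CategoryTheory.Limits AlgebraicGeometry TopologicalSpace
open Unram17

namespace Groth.Agent.S4990

/-- Let Y be locally Noetherian and f : X ⟶ Y locally of finite type, smooth on an open neighbourhood of
a point x with image y. Then the Krull dimension of the local ring of X at x is the sum of the Krull
dimension of the local ring of Y at y and of the Krull dimension of the local ring of the fibre, the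
quotient of the local ring at x by the extension of the maximal ideal at y. -/
theorem result {X Y : Scheme.{u}} (f : X ⟶ Y)
    [IsLocallyNoetherian Y] [LocallyOfFiniteType f] (x : ↥X)
    (hx : ∃ U : X.Opens, x ∈ U ∧ Smooth (U.ι ≫ f)) :
    ringKrullDim ↑(X.presheaf.stalk x) =
      ringKrullDim ↑(Y.presheaf.stalk (f.base x)) +
        ringKrullDim (↑(X.presheaf.stalk x) ⧸
          (IsLocalRing.maximalIdeal ↑(Y.presheaf.stalk (f.base x))).map (f.stalkMap x).hom) := by
  obtain ⟨U, hxU, _⟩ := hx
  haveI : IsLocallyNoetherian X := LocallyOfFiniteType.isLocallyNoetherian f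
  have hflat : (f.stalkMap x).hom.Flat := by
    have h := Flat.stalkMap (U.ι ≫ f) ⟨x, hxU⟩
    rw [Scheme.Hom.stalkMap_comp] at h
    exact (RingHom.Flat.respectsIso.cancel_right_isIso (f.stalkMap x) (U.ι.stalkMap ⟨x, hxU⟩)).1 h
  algebraize [(f.stalkMap x).hom]
  haveI : IsLocalHom (algebraMap (Y.presheaf.stalk (f.base x)) (X.presheaf.stalk x)) :=
    (inferInstance : IsLocalHom (f.stalkMap x).hom)
  haveI : Module.Flat (Y.presheaf.stalk (f.base x)) (X.presheaf.stalk x) := RingHom.flat_algebraMap_iff.1 hflat
  exact FlatDepth.ring_fibre_invariants.2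

end Groth.Agent.S4990
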