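import Groth.Statements.S4994
import Groth.Agent.Lib.QRSmooth5.Scheme

set_option autoImplicit false
universe u
open CategoryTheory CategoryTheory.Limits AlgebraicGeometry TopologicalSpace
open Unram17

namespace Groth.Agent.S4994

/-- Let f : X ⟶ Y be locally of finite presentation. The diagonal X ⟶ X ×_Y X is a quasi-regular
immersion (that is, f is differentially smooth) if and only if the second projection X ×_Y X ⟶ X is
smooth at every point of the image of the diagonal. -/
theorem result {X Y : Scheme.{u}} (f : X ⟶ Y)
    [LocallyOfFinitePresentation f] :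
    RegImm.IsRegularImmersion RegImm.Kind.quasi (pullback.diagonal f) ↔
      ∀ x : ↥X, (pullback.diagonal f).base x ∈ (pullback.snd f f).smoothLocus := by
  have hu : pullback.diagonal f ≫ pullback.snd f f = 𝟙 X := pullback.diagonal_snd f
  constructor
  · intro h x
    haveI := h.1
    refine Groth.Agent.QRSmooth5.smooth_of_quasi _ _ hu x ⊤ trivial ?_
    haveI : IsIso (⊤ : X.Opens).ι := inferInstanceAs (IsIso X.topIso.hom)
    exact Groth.Agent.RegSeq26.isRegularImmersion_baseChange _ _ (𝟙 _) _ (⊤ : X.Opens).ι
      (IsPullback.of_horiz_isIso ⟨by simp⟩) h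
  · intro h
    haveI : IsImmersion (pullback.diagonal f) := Groth.Agent.QRSmooth5.isImmersion_section _ _ hu
    refine ⟨inferInstance, fun x => ?_⟩
    obtain ⟨V, hx, hV⟩ := Groth.Agent.QRSmooth5.quasi_of_smooth _ _ hu x (h x)
    exact Groth.Agent.QRSmooth5.isRegularImmersionAt_of_source_open _ V x hx hV

end Groth.Agent.S4994
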