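import Groth.Statements.S4995
import Groth.Agent.Lib.QRSmooth5.Scheme

set_option autoImplicit false
universe u
open CategoryTheory CategoryTheory.Limits AlgebraicGeometry TopologicalSpace
open Unram17

namespace Groth.Agent.S4995

/-- Let f : X ⟶ S be locally of finite presentation, u a section of f and s a point of S. Then f is
smooth at the point u(s) if and only if the restriction of u to some open neighbourhood of s is a
quasi-regular immersion. (The published statement takes an arbitrary point x of X with s = f(x);
that fails for x off the section — take S = Spec k, X the disjoint union of Spec k and Spec k[ε]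
with ε² = 0, u the inclusion of the first summand and x the point of the second — and this row
states the case x = u(s).) -/
theorem result {X S : Scheme.{u}} (f : X ⟶ S)
    [LocallyOfFinitePresentation f] (u : S ⟶ X) (hu : u ≫ f = 𝟙 S) (s : ↥S) :
    u.base s ∈ f.smoothLocus ↔
      ∃ V : S.Opens, s ∈ V ∧ RegImm.IsRegularImmersion RegImm.Kind.quasi (V.ι ≫ u) := by
  exact ⟨Groth.Agent.QRSmooth5.quasi_of_smooth f u hu s,
    fun ⟨V, hs, h⟩ => Groth.Agent.QRSmooth5.smooth_of_quasi f u hu s V hs h⟩

end Groth.Agent.S4995
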