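import Groth.Statements.S4997
import Groth.Agent.Lib.EtaleQF.Basic

set_option autoImplicit false
universe u
open CategoryTheory CategoryTheory.Limits AlgebraicGeometry TopologicalSpace
open Unram17

namespace Groth.Agent.S4997

/-- A morphism of schemes is etale if and only if it is smooth and locally quasi-finite. -/
theorem result {X Y : Scheme.{u}} (f : X ⟶ Y) :
    Etale f ↔ Smooth f ∧ LocallyQuasiFinite f := by
  exact Groth.Agent.EtaleQF.etale_iff_smooth_and_locallyQuasiFinite f

end Groth.Agent.S4997
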