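import Groth.Statements.S4998
import Mathlib.RingTheory.Etale.Field
import Mathlib.RingTheory.Kaehler.Basic

set_option autoImplicit false
universe u
open Unram17

namespace Groth.Agent.S4998

/-- Let A be an algebra of finite type over a field k. Then A is formally unramified over k if and only
if A is finite over k and every element of A has separable minimal polynomial over k (equivalently,
A is a finite product of finite separable extensions of k). -/
theorem result (k A : Type u) [Field k] [CommRing A]
    [Algebra k A] [Algebra.FiniteType k A] :
    Algebra.FormallyUnramified k A ↔ Module.Finite k A ∧ Algebra.IsSeparable k A := by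
  classical
  constructor
  · intro hu
    have hfin := Algebra.FormallyUnramified.finite_of_free k A
    refine ⟨hfin, ⟨fun a => ?_⟩⟩
    obtain ⟨I, _, Ai, _, _, e, hsep⟩ := (Algebra.FormallyEtale.iff_exists_algEquiv_prod k A).mp
      (Algebra.FormallyEtale.of_formallyUnramified_of_field k A)
    haveI := Fintype.ofFinite I
    let s : Finset (Polynomial k) := Finset.univ.image fun i => minpoly k (e a i)
    have hint : ∀ i, IsIntegral k (e a i) := fun i => (Algebra.IsSeparable.isSeparable k (e a i)).isIntegral
    have hs : (s.prod id).Separable := by
      refine Polynomial.separable_prod' (fun p hp q hq hne => ?_) (fun p hp => ?_)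
      · obtain ⟨i, -, rfl⟩ := Finset.mem_image.1 hp
        obtain ⟨j, -, rfl⟩ := Finset.mem_image.1 hq
        refine ((minpoly.irreducible (hint i)).coprime_iff_not_dvd).2 fun hd => hne ?_
        exact Polynomial.eq_of_monic_of_associated (minpoly.monic (hint i)) (minpoly.monic (hint j))
          ((minpoly.irreducible (hint i)).associated_of_dvd (minpoly.irreducible (hint j)) hd)
      · obtain ⟨i, -, rfl⟩ := Finset.mem_image.1 hp
        exact Algebra.IsSeparable.isSeparable k (e a i)
    have h0 : Polynomial.aeval a (s.prod id) = 0 := by
      apply e.injective
      rw [map_zero, ← Polynomial.aeval_algHom_apply]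
      funext i
      have h1 : Polynomial.aeval (e a i) (s.prod id) = 0 := by
        obtain ⟨c, hc⟩ : minpoly k (e a i) ∣ s.prod id :=
          Finset.dvd_prod_of_mem id (Finset.mem_image.2 ⟨i, Finset.mem_univ i, rfl⟩)
        rw [hc, map_mul, minpoly.aeval, zero_mul]
      rw [Pi.zero_apply, ← h1]
      exact (Polynomial.aeval_algHom_apply (Pi.evalAlgHom k Ai i) (e a) (s.prod id)).symm
    exact hs.of_dvd (minpoly.dvd k a h0)
  · rintro ⟨_, hsep⟩
    rw [Algebra.formallyUnramified_iff]
    refine subsingleton_of_forall_eq 0 fun ω => ?_
    have hω : ω ∈ Submodule.span A (Set.range (KaehlerDifferential.D k A)) := by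
      rw [KaehlerDifferential.span_range_derivation]; trivial
    induction hω using Submodule.span_induction with
    | mem x hx =>
      obtain ⟨a, rfl⟩ := hx
      obtain ⟨u, v, huv⟩ := (Algebra.IsSeparable.isSeparable k a : (minpoly k a).Separable)
      have h1 := congrArg (Polynomial.aeval a) huv
      rw [map_add, map_mul, map_mul, minpoly.aeval, mul_zero, zero_add, map_one] at h1
      have h2 := (KaehlerDifferential.D k A).map_aeval (minpoly k a) a
      rw [minpoly.aeval, map_zero] at h2
      have h3 := congrArg (fun z => Polynomial.aeval a v • z) h2.symm
      simpa only [smul_smul, h1, one_smul, smul_zero] using h3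
    | zero => rfl
    | add x y _ _ hx hy => rw [hx, hy, add_zero]
    | smul a x _ hx => rw [hx, smul_zero]

end Groth.Agent.S4998
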