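import Groth.Statements.S5004
import Groth.Agent.Lib.PerfLCI4.Kind
-- import your own Groth.Agent.* helpers here

set_option autoImplicit false
set_option backward.isDefEq.respectTransparency false
universe u
open CategoryTheory CategoryTheory.Limits AlgebraicGeometry TopologicalSpace
open Nrm16

namespace Groth.Agent.S5004

/-- On a locally Noetherian scheme, every quasi-regular (quasi-coherent) ideal sheaf is a regular ideal
sheaf. -/
theorem result {X : Scheme.{u}} [IsLocallyNoetherian X] (I : X.IdealSheafData)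
    (h : RegImm.IsRegularIdeal RegImm.Kind.quasi I) : RegImm.IsRegularIdeal RegImm.Kind.regular I := fun x hx => by
  obtain ⟨⟨U, hU⟩, hxU, rs, hrs, hI⟩ := h x hx
  haveI : IsNoetherianRing Γ(X, U) := IsLocallyNoetherian.component_noetherian ⟨U, hU⟩
  have hq : I.ideal ⟨U, hU⟩ ≤ (hU.primeIdealOf ⟨x, hxU⟩).asIdeal := by
    have h0 := (I.mem_support_iff_of_mem (U := ⟨U, hU⟩) hxU).1 hx
    have h1 : hU.primeIdealOf ⟨x, hxU⟩ ∈ hU.fromSpec ⁻¹' X.zeroLocus (U := U) (I.ideal ⟨U, hU⟩) := by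
      rw [Set.mem_preimage, hU.fromSpec_primeIdealOf]; exact h0
    rw [hU.fromSpec_preimage_zeroLocus] at h1
    exact h1
  have hl := PerfLCI4.ex_atPrime_of_seq hrs (hU.primeIdealOf ⟨x, hxU⟩).asIdeal (hI ▸ hq)
  obtain ⟨g, hg, rs', hrs', hI'⟩ := PerfLCI4.exists_away_regular (hU.primeIdealOf ⟨x, hxU⟩) hq hl
    (by rw [hI, Ideal.map_ofList])
  haveI := hU.isLocalization_basicOpen g
  let e : Localization.Away g ≃ₐ[Γ(X, U)] Γ(X, X.basicOpen g) := IsLocalization.algEquiv (Submonoid.powers g) _ _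
  refine ⟨X.affineBasicOpen (U := ⟨U, hU⟩) g, ?_, rs'.map e.toRingEquiv, ?_, ?_⟩
  · have h2 : hU.primeIdealOf ⟨x, hxU⟩ ∈ hU.fromSpec ⁻¹ᵁ X.basicOpen g := by
      rw [hU.fromSpec_preimage_basicOpen g]; exact hg
    have h3 : hU.fromSpec (hU.primeIdealOf ⟨x, hxU⟩) ∈ X.basicOpen g := h2
    rwa [hU.fromSpec_primeIdealOf] at h3
  · show RingTheory.Sequence.IsRegular Γ(X, X.basicOpen g) (rs'.map e.toRingEquiv)
    exact (e.toRingEquiv.toAddEquiv.isRegular_congr
      (List.forall₂_map_right_iff.mpr (List.forall₂_same.mpr fun r _ x => map_mul e r x))).1 hrs'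
  · refine (I.map_ideal_basicOpen ⟨U, hU⟩ g).symm.trans (Eq.trans ?_ (Ideal.map_ofList e.toRingEquiv.toRingHom rs'))
    rw [← hI', Ideal.map_map]
    exact congrArg (fun φ => Ideal.map φ _) (RingHom.ext fun a => (e.commutes a).symm)

end Groth.Agent.S5004
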