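import Groth.Statements.S5006
import Mathlib.RingTheory.Nakayama
import Mathlib.RingTheory.Localization.AtPrime.Basic
import Mathlib.RingTheory.Spectrum.Prime.Basic

set_option autoImplicit false
universe u
open Nrm16

namespace Groth.Agent.S5006

/-- Let A be a commutative ring, I a finitely generated ideal and p a prime ideal containing I. Then
some basic open neighbourhood of p in Spec A is contained in the closed set V(I) (so that V(I) ⟶
Spec A is a local homeomorphism onto an open set near p) if and only if there is an integer n > 0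
with I^n A_p = I^(n+1) A_p in the local ring at p. Affine form. -/
theorem result (A : Type u) [CommRing A] (I : Ideal A) (hI : I.FG)
    (p : Ideal A) [p.IsPrime] (hp : I ≤ p) :
    (∃ f : A, f ∉ p ∧ ∀ q : Ideal A, q.IsPrime → f ∉ q → I ≤ q) ↔
      ∃ n : ℕ, 0 < n ∧
        (I ^ n).map (algebraMap A (Localization.AtPrime p)) =
          (I ^ (n + 1)).map (algebraMap A (Localization.AtPrime p)) := by
  classical
  let Ap := Localization.AtPrime p
  let φ := algebraMap A Ap
  constructor
  · rintro ⟨f, hf, hfI⟩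
    have hle : I.map φ ≤ nilradical Ap := by
      rw [nilradical, Ideal.radical_eq_sInf, le_sInf_iff]
      rintro Q ⟨-, hQ⟩
      rw [Ideal.map_le_iff_le_comap]
      refine hfI _ (hQ.comap φ) fun hfQ => hQ.ne_top ?_
      exact Ideal.eq_top_of_isUnit_mem _ hfQ (IsLocalization.map_units Ap (⟨f, hf⟩ : p.primeCompl))
    obtain ⟨n, hn⟩ := Ideal.exists_pow_le_of_le_radical_of_fg (I := I.map φ) (J := ⊥) hle (hI.map φ)
    have h0 : ∀ k, n ≤ k → (I ^ k).map φ = ⊥ := fun k hk => by
      rw [Ideal.map_pow, eq_bot_iff]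
      exact (Ideal.pow_le_pow_right hk).trans hn
    exact ⟨n + 1, n.succ_pos, by rw [h0 _ n.le_succ, h0 _ (n.le_succ.trans (n + 1).le_succ)]⟩
  · rintro ⟨n, -, hn⟩
    have h0 : (I ^ n).map φ = ⊥ := by
      refine Submodule.eq_bot_of_le_smul_of_le_jacobson_bot (I.map φ) _ ((hI.pow).map φ) ?_ ?_
      · rw [smul_eq_mul, ← Ideal.map_mul, ← pow_succ', ← hn]
      · rw [IsLocalRing.jacobson_eq_maximalIdeal ⊥ bot_ne_top, Ideal.map_le_iff_le_comap]
        exact fun x hx => by
          rw [Ideal.mem_comap, IsLocalization.AtPrime.to_map_mem_maximal_iff Ap p]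
          exact hp hx
    obtain ⟨s, hs⟩ := hI.pow (n := n)
    have hkill : ∀ x ∈ s, ∃ c : p.primeCompl, (c : A) * x = 0 := fun x hx => by
      have : φ x = 0 := by
        rw [← Ideal.mem_bot, ← h0]
        exact Ideal.mem_map_of_mem φ (hs.le (Submodule.subset_span hx))
      exact (IsLocalization.map_eq_zero_iff p.primeCompl Ap x).1 this
    choose c hc using hkill
    refine ⟨∏ x : s, (c x.1 x.2 : A), ?_, fun q hq hfq => ?_⟩
    · exact fun h => by
        obtain ⟨x, -, hx⟩ := (Ideal.IsPrime.prod_mem_iff).1 h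
        exact (c x.1 x.2).2 hx
    · intro x hx
      refine hq.mem_of_pow_mem n ((show I ^ n ≤ q from ?_) (Ideal.pow_mem_pow hx n))
      rw [← hs, Submodule.span_le]
      intro y hy
      refine (hq.mem_or_mem (show (c y hy : A) * y ∈ q by rw [hc]; exact zero_mem q)).resolve_left fun h => hfq ?_
      exact Ideal.prod_mem _ (Finset.mem_univ (⟨y, hy⟩ : s)) h

end Groth.Agent.S5006
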