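import Groth.Statements.S5007
import Groth.Agent.Lib.FibreLocus.Apps

set_option autoImplicit false
universe u
open CategoryTheory CategoryTheory.Limits AlgebraicGeometry TopologicalSpace
open Unram17

namespace Groth.Agent.S5007

/-- Let g : Y ⟶ S and h : X ⟶ S be locally of finite presentation and f : X ⟶ Y a morphism over S. Then
f is (formally) unramified if and only if for every point s of S the base change of f along the
fibre Y_s ⟶ Y, which is the fibre map X_s ⟶ Y_s, is (formally) unramified. -/
theorem result {X Y S : Scheme.{u}} (g : Y ⟶ S) (h : X ⟶ S)
    [LocallyOfFinitePresentation g] [LocallyOfFinitePresentation h] (f : X ⟶ Y) (w : f ≫ g = h) :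
    FormallyUnramified f ↔ ∀ s : ↥S, FormallyUnramified (pullback.snd f (g.fiberι s)) := by
  subst w
  haveI := Groth.Agent.SchBasic.locallyOfFinitePresentation_of_comp f g
  exact Groth.Agent.FibreLocus.formallyUnramified_iff_fibres f g

end Groth.Agent.S5007
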