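import Groth.Statements.S5008
-- import your own Groth.Agent.* helpers here

set_option autoImplicit false
universe u
open CategoryTheory CategoryTheory.Limits AlgebraicGeometry TopologicalSpace
open Unram17

namespace Groth.Agent.S5008

theorem closedPoint_SpecMap {R S : Type u} [CommRing R] [CommRing S] [IsLocalRing R] [IsLocalRing S] (φ : R →+* S)
    [IsLocalHom φ] : (Spec.map (CommRingCat.ofHom φ)).base (IsLocalRing.closedPoint S) = IsLocalRing.closedPoint R :=
  IsLocalRing.comap_closedPoint φ

theorem exists_stalk_hom {X : Scheme.{u}} {B : Type u} [CommRing B] [IsLocalRing B] (α : Spec (CommRingCat.of B) ⟶ X)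
    (x : X) (hx : α.base (IsLocalRing.closedPoint B) = x) :
    ∃ a : X.presheaf.stalk x ⟶ CommRingCat.of B, IsLocalHom a.hom ∧ α = Spec.map a ≫ X.fromSpecStalk x := by
  subst hx
  exact ⟨Scheme.stalkClosedPointTo α, inferInstance, (Scheme.Spec_stalkClosedPointTo_fromSpecStalk α).symm⟩

theorem cancel {X : Scheme.{u}} {B : CommRingCat.{u}} (x : X) (a b : X.presheaf.stalk x ⟶ B)
    (h : Spec.map a ≫ X.fromSpecStalk x = Spec.map b ≫ X.fromSpecStalk x) : a = b :=
  Spec.map_injective ((cancel_mono _).1 h)

theorem isLocalHom_of_surjective {B' B : Type u} [CommRing B'] [IsLocalRing B'] [CommRing B] [IsLocalRing B]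
    (φ : B' →+* B) (hφ : Function.Surjective φ) : IsLocalHom φ :=
  .of_surjective φ hφ

theorem formallySmooth_of_lifting {S O : Type u} [CommRing S] [CommRing O] [IsLocalRing O] [Algebra S O]
    (h : ∀ (C : Type u) [CommRing C] [IsLocalRing C] [Algebra S C] (φ : C →ₐ[S] O), Function.Surjective φ →
      RingHom.ker φ.toRingHom ^ 2 = ⊥ → ∃ g : O →ₐ[S] C, φ.comp g = AlgHom.id S O) :
    Algebra.FormallySmooth S O := by
  let P₀ := MvPolynomial O S
  let π₀ : P₀ →ₐ[S] O := MvPolynomial.aeval (fun x => x)
  let q : Ideal P₀ := (IsLocalRing.maximalIdeal O).comap π₀.toRingHom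
  have hq : ∀ y : q.primeCompl, IsUnit (π₀ y) := fun y => by
    by_contra hy
    exact y.2 (show π₀ y ∈ IsLocalRing.maximalIdeal O from hy)
  let P := Localization.AtPrime q
  let π : P →ₐ[S] O := IsLocalization.liftAlgHom (M := q.primeCompl) (f := π₀) hq
  have hπ : Function.Surjective π := fun o => ⟨algebraMap P₀ P (MvPolynomial.X o), by
    show IsLocalization.lift (M := q.primeCompl) (g := π₀.toRingHom) hq (algebraMap P₀ P (MvPolynomial.X o)) = o
    rw [IsLocalization.lift_eq]
    exact MvPolynomial.aeval_X _ o⟩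
  haveI : Algebra.FormallySmooth P₀ P := Algebra.FormallySmooth.of_isLocalization q.primeCompl
  haveI : Algebra.FormallySmooth S P := Algebra.FormallySmooth.comp S P₀ P
  let C := P ⧸ RingHom.ker π.toRingHom ^ 2
  haveI : Nontrivial C := by
    refine Ideal.Quotient.nontrivial_iff.2 fun htop => ?_
    have h1 := (Ideal.pow_le_self two_ne_zero) (htop.ge (Submodule.mem_top : (1 : P) ∈ ⊤))
    exact one_ne_zero ((map_one π).symm.trans h1)
  haveI : IsLocalRing C := IsLocalRing.of_surjective' (Ideal.Quotient.mk _) Ideal.Quotient.mk_surjective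
  obtain ⟨g, hg⟩ := h C π.kerSquareLift (fun o => by
      obtain ⟨z, hz⟩ := hπ o
      exact ⟨Ideal.Quotient.mk _ z, hz⟩) (by rw [AlgHom.ker_kerSquareLift, Ideal.cotangentIdeal_square])
  exact Algebra.FormallySmooth.of_split π g hg


/-- Let f : X ⟶ Y be locally of finite presentation and x a point of X. Then f is smooth at x if and
only if for every surjection of local rings B' → B with square-zero kernel, every morphism Spec B ⟶
X sending the closed point to x and every morphism Spec B' ⟶ Y making the square commute, there is a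
lift Spec B' ⟶ X compatible with both. (No Noetherian hypothesis on Y.) -/
theorem result {X Y : Scheme.{u}} (f : X ⟶ Y)
    [LocallyOfFinitePresentation f] (x : ↥X) :
    x ∈ f.smoothLocus ↔ ∀ (B B' : Type u) [CommRing B] [CommRing B'] [IsLocalRing B] [IsLocalRing B'] (φ : B' →+* B),
      Function.Surjective φ → RingHom.ker φ ^ 2 = ⊥ →
      ∀ (α : Spec (CommRingCat.of B) ⟶ X) (β : Spec (CommRingCat.of B') ⟶ Y),
        α.base (IsLocalRing.closedPoint B) = x → Spec.map (CommRingCat.ofHom φ) ≫ β = α ≫ f →
        ∃ γ : Spec (CommRingCat.of B') ⟶ X, Spec.map (CommRingCat.ofHom φ) ≫ γ = α ∧ γ ≫ f = β := by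
  rw [Scheme.Hom.mem_smoothLocus]
  constructor
  · intro hsm B B' _ _ _ _ φ hφ hsq α β hα hcomm
    haveI := isLocalHom_of_surjective φ hφ
    obtain ⟨a, -, rfl⟩ := exists_stalk_hom α x hα
    have hβ : β.base (IsLocalRing.closedPoint B') = f.base x := by
      rw [← closedPoint_SpecMap φ, ← Scheme.Hom.comp_apply, hcomm, Scheme.Hom.comp_apply]
      exact congrArg f.base hα
    obtain ⟨b, -, rfl⟩ := exists_stalk_hom β (f.base x) hβ
    have hsq' : f.stalkMap x ≫ a = b ≫ CommRingCat.ofHom φ := by
      refine cancel (f.base x) _ _ ?_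
      rw [Spec.map_comp, Spec.map_comp, Category.assoc, Category.assoc, Scheme.SpecMap_stalkMap_fromSpecStalk]
      exact (hcomm.trans (Category.assoc _ _ _)).symm
    algebraize [(f.stalkMap x).hom]
    letI := b.hom.toAlgebra
    letI := (φ.comp b.hom).toAlgebra
    let aA : X.presheaf.stalk x →ₐ[Y.presheaf.stalk (f.base x)] B :=
      { a.hom with commutes' := fun s => congrArg (fun k => k.hom s) hsq' }
    let φA : B' →ₐ[Y.presheaf.stalk (f.base x)] B := { φ with commutes' := fun _ => rfl }
    have hn : IsNilpotent (RingHom.ker (φA : B' →+* B)) := ⟨2, hsq⟩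
    let l := Algebra.FormallySmooth.liftOfSurjective aA φA hφ hn
    refine ⟨Spec.map (CommRingCat.ofHom l.toRingHom) ≫ X.fromSpecStalk x, ?_, ?_⟩
    · rw [← Category.assoc, ← Spec.map_comp]
      congr 2
      exact CommRingCat.hom_ext (RingHom.ext (Algebra.FormallySmooth.liftOfSurjective_apply aA φA hφ hn))
    · rw [Category.assoc, ← Scheme.SpecMap_stalkMap_fromSpecStalk, ← Category.assoc, ← Spec.map_comp]
      congr 2
      exact CommRingCat.hom_ext (RingHom.ext l.commutes)
  · intro h
    algebraize [(f.stalkMap x).hom]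
    refine formallySmooth_of_lifting fun C _ _ _ φ hφ hsq => ?_
    haveI := isLocalHom_of_surjective φ.toRingHom hφ
    have hφm : CommRingCat.ofHom (algebraMap (Y.presheaf.stalk (f.base x)) C) ≫ CommRingCat.ofHom φ.toRingHom =
        f.stalkMap x := CommRingCat.hom_ext φ.comp_algebraMap
    obtain ⟨γ, hγ1, hγ2⟩ := h (X.presheaf.stalk x) C φ.toRingHom hφ hsq (X.fromSpecStalk x)
      (Spec.map (CommRingCat.ofHom (algebraMap (Y.presheaf.stalk (f.base x)) C)) ≫ Y.fromSpecStalk _)
      Scheme.fromSpecStalk_closedPoint (by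
        rw [← Category.assoc, ← Spec.map_comp, hφm, Scheme.SpecMap_stalkMap_fromSpecStalk])
    have hγ : γ.base (IsLocalRing.closedPoint C) = x := by
      rw [← closedPoint_SpecMap φ.toRingHom, ← Scheme.Hom.comp_apply, hγ1]
      exact Scheme.fromSpecStalk_closedPoint
    obtain ⟨g, -, rfl⟩ := exists_stalk_hom γ x hγ
    have h1 : g ≫ CommRingCat.ofHom φ.toRingHom = 𝟙 _ := by
      refine cancel x _ _ ?_
      rw [Spec.map_comp, Category.assoc, hγ1, Spec.map_id]
      exact (Category.id_comp _).symm
    have h2 : f.stalkMap x ≫ g = CommRingCat.ofHom (algebraMap (Y.presheaf.stalk (f.base x)) C) := by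
      refine cancel (f.base x) _ _ ?_
      rw [Spec.map_comp, Category.assoc, Scheme.SpecMap_stalkMap_fromSpecStalk]
      exact (Category.assoc _ _ _).symm.trans hγ2
    exact ⟨{ g.hom with commutes' := fun s => congrArg (fun k => k.hom s) h2 },
      AlgHom.ext fun o => congrArg (fun k => k.hom o) h1⟩

end Groth.Agent.S5008
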