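import Groth.Statements.S5009
import Groth.Agent.S5008
import Groth.Agent.Lib.EtaleNhd17.Basic
import Mathlib.Algebra.TrivSqZeroExt.Basic
-- import your own Groth.Agent.* helpers here

set_option autoImplicit false
universe u
open CategoryTheory CategoryTheory.Limits AlgebraicGeometry TopologicalSpace
open Unram17

namespace Groth.Agent.S5009

open S5008

theorem formallyUnramified_of_unique {S O : Type u} [CommRing S] [CommRing O] [IsLocalRing O] [Algebra S O]
    (h : ∀ (C : Type u) [CommRing C] [IsLocalRing C] (φ : C →+* O), Function.Surjective φ → RingHom.ker φ ^ 2 = ⊥ →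
      ∀ g₁ g₂ : O →+* C, φ.comp g₁ = RingHom.id O → φ.comp g₂ = RingHom.id O →
        g₁.comp (algebraMap S O) = g₂.comp (algebraMap S O) → g₁ = g₂) :
    Algebra.FormallyUnramified S O := by
  let Ω := KaehlerDifferential S O
  letI : Module Oᵐᵒᵖ Ω := Module.compHom Ω ((RingHom.id O).fromOpposite mul_comm)
  haveI : IsCentralScalar O Ω := ⟨fun _ _ => rfl⟩
  haveI : Nontrivial (TrivSqZeroExt O Ω) := Function.Injective.nontrivial (f := (TrivSqZeroExt.inl : O → TrivSqZeroExt O Ω)) TrivSqZeroExt.inl_injective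
  haveI : IsLocalRing (TrivSqZeroExt O Ω) := IsLocalRing.of_isUnit_or_isUnit_one_sub_self fun a => by
    rw [TrivSqZeroExt.isUnit_iff_isUnit_fst, TrivSqZeroExt.isUnit_iff_isUnit_fst, TrivSqZeroExt.fst_sub,
      TrivSqZeroExt.fst_one]
    exact IsLocalRing.isUnit_or_isUnit_one_sub_self _
  let φ : TrivSqZeroExt O Ω →+* O := (TrivSqZeroExt.fstHom O O Ω).toRingHom
  have hφ : Function.Surjective φ := fun o => ⟨TrivSqZeroExt.inl o, rfl⟩
  have hsq : RingHom.ker φ ^ 2 = ⊥ := by
    rw [pow_two, eq_bot_iff, Ideal.mul_le]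
    intro a ha b hb
    have ha' : a.fst = 0 := ha
    have hb' : b.fst = 0 := hb
    refine (Submodule.mem_bot (R := TrivSqZeroExt O Ω)).2 (TrivSqZeroExt.ext ?_ ?_)
    · rw [TrivSqZeroExt.fst_mul, ha', zero_mul]; rfl
    · rw [TrivSqZeroExt.snd_mul, ha', hb', zero_smul, MulOpposite.op_zero, zero_smul, add_zero]; rfl
  let g : O →+* TrivSqZeroExt O Ω :=
    { toFun := fun o => TrivSqZeroExt.inl o + TrivSqZeroExt.inr (KaehlerDifferential.D S O o)
      map_one' := by rw [Derivation.map_one_eq_zero, TrivSqZeroExt.inr_zero, add_zero, TrivSqZeroExt.inl_one]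
      map_zero' := by rw [map_zero, TrivSqZeroExt.inl_zero, TrivSqZeroExt.inr_zero, add_zero]
      map_add' := fun a b => by rw [map_add, TrivSqZeroExt.inl_add, TrivSqZeroExt.inr_add]; abel
      map_mul' := fun a b => by
        refine TrivSqZeroExt.ext ?_ ?_
        · simp only [TrivSqZeroExt.fst_mul, TrivSqZeroExt.fst_add, TrivSqZeroExt.fst_inl, TrivSqZeroExt.fst_inr, add_zero]
        · simp only [TrivSqZeroExt.snd_mul, TrivSqZeroExt.snd_add, TrivSqZeroExt.fst_add, TrivSqZeroExt.fst_inl,
            TrivSqZeroExt.snd_inl, TrivSqZeroExt.fst_inr, TrivSqZeroExt.snd_inr, add_zero, zero_add, Derivation.leibniz]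
          rfl }
  have heq := h (TrivSqZeroExt O Ω) φ hφ hsq g (TrivSqZeroExt.inlHom O Ω) (RingHom.ext fun o => add_zero o) (RingHom.ext fun o => rfl)
    (RingHom.ext fun s => by
      show (TrivSqZeroExt.inl (algebraMap S O s) + TrivSqZeroExt.inr (KaehlerDifferential.D S O (algebraMap S O s)) :
        TrivSqZeroExt O Ω) = TrivSqZeroExt.inl (algebraMap S O s)
      rw [Derivation.map_algebraMap, TrivSqZeroExt.inr_zero, add_zero])
  refine ⟨?_⟩
  rw [← not_nontrivial_iff_subsingleton]
  intro hΩ
  have hD : ∀ o, KaehlerDifferential.D S O o = 0 := fun o => by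
    have := congrArg TrivSqZeroExt.snd (RingHom.congr_fun heq o)
    exact (zero_add _).symm.trans this
  obtain ⟨a, ha⟩ := exists_ne (0 : Ω)
  have htop : a ∈ Submodule.span O (Set.range (KaehlerDifferential.D S O)) := by
    rw [KaehlerDifferential.span_range_derivation]; trivial
  have hr : Set.range (KaehlerDifferential.D S O) ⊆ {0} := by rintro _ ⟨o, rfl⟩; exact hD o
  exact ha (by have h0 := Submodule.span_mono (R := O) hr htop; rwa [Submodule.span_zero_singleton, Submodule.mem_bot] at h0)


/-- Let f : X ⟶ Y be locally of finite presentation and x a point of X. Then f is (formally) unramified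
on an open neighbourhood of x if and only if for every surjection of local rings B' → B with
square-zero kernel, every morphism Spec B ⟶ X sending the closed point to x and every morphism Spec
B' ⟶ Y making the square commute, any two lifts Spec B' ⟶ X compatible with both are equal. -/
theorem result {X Y : Scheme.{u}} (f : X ⟶ Y)
    [LocallyOfFinitePresentation f] (x : ↥X) :
    (∃ U : X.Opens, x ∈ U ∧ FormallyUnramified (U.ι ≫ f)) ↔
      ∀ (B B' : Type u) [CommRing B] [CommRing B'] [IsLocalRing B] [IsLocalRing B'] (φ : B' →+* B),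
      Function.Surjective φ → RingHom.ker φ ^ 2 = ⊥ →
      ∀ (α : Spec (CommRingCat.of B) ⟶ X) (β : Spec (CommRingCat.of B') ⟶ Y),
        α.base (IsLocalRing.closedPoint B) = x → Spec.map (CommRingCat.ofHom φ) ≫ β = α ≫ f →
        ∀ γ₁ γ₂ : Spec (CommRingCat.of B') ⟶ X,
          Spec.map (CommRingCat.ofHom φ) ≫ γ₁ = α → γ₁ ≫ f = β →
          Spec.map (CommRingCat.ofHom φ) ≫ γ₂ = α → γ₂ ≫ f = β → γ₁ = γ₂ := by
  constructor
  · rintro ⟨U, hxU, hU⟩ B B' _ _ _ _ φ hφ hsq α β hα hcomm γ₁ γ₂ h1 h1' h2 h2'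
    haveI := isLocalHom_of_surjective φ hφ
    have hfu := EtaleNhd17.formallyUnramified_stalkMap_of_nhd f x (V := U) hxU
    have hpt : ∀ γ : Spec (CommRingCat.of B') ⟶ X, Spec.map (CommRingCat.ofHom φ) ≫ γ = α →
        γ.base (IsLocalRing.closedPoint B') = x := fun γ hγ => by
      rw [← closedPoint_SpecMap φ, ← Scheme.Hom.comp_apply, hγ, hα]
    obtain ⟨a, -, ha⟩ := exists_stalk_hom γ₁ x (hpt _ h1)
    obtain ⟨b, -, hb⟩ := exists_stalk_hom γ₂ x (hpt _ h2)
    subst ha hb
    have hs : f.stalkMap x ≫ a = f.stalkMap x ≫ b := cancel (f.base x) _ _ (by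
      rw [Spec.map_comp, Spec.map_comp, Category.assoc, Category.assoc, Scheme.SpecMap_stalkMap_fromSpecStalk,
        ← Category.assoc, ← Category.assoc, h1', h2'])
    have hq : a ≫ CommRingCat.ofHom φ = b ≫ CommRingCat.ofHom φ := cancel x _ _ (by
      rw [Spec.map_comp, Spec.map_comp, Category.assoc, Category.assoc, h1, h2])
    algebraize [(f.stalkMap x).hom]
    letI := ((a.hom).comp (f.stalkMap x).hom).toAlgebra
    let aA : X.presheaf.stalk x →ₐ[Y.presheaf.stalk (f.base x)] B' := { a.hom with commutes' := fun _ => rfl }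
    let bA : X.presheaf.stalk x →ₐ[Y.presheaf.stalk (f.base x)] B' :=
      { b.hom with commutes' := fun s => (congrArg (fun k => k.hom s) hs).symm }
    have := Algebra.FormallyUnramified.ext' φ ⟨2, hsq⟩ aA bA fun z => congrArg (fun k => k.hom z) hq
    rw [show a = b from CommRingCat.hom_ext (RingHom.ext (AlgHom.congr_fun this))]
  · intro h
    refine EtaleNhd17.exists_formallyUnramified_of_stalk f x ?_
    algebraize [(f.stalkMap x).hom]
    refine formallyUnramified_of_unique fun C _ _ φ hφ hsq g₁ g₂ h1 h2 hs => ?_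
    haveI := isLocalHom_of_surjective φ hφ
    have hc : ∀ g : X.presheaf.stalk x →+* C, φ.comp g = RingHom.id _ →
        Spec.map (CommRingCat.ofHom φ) ≫ Spec.map (CommRingCat.ofHom g) ≫ X.fromSpecStalk x = X.fromSpecStalk x :=
      fun g hg => by
        rw [← Category.assoc, ← Spec.map_comp, ← CommRingCat.ofHom_comp, hg]
        exact (congrArg (· ≫ _) (Spec.map_id _)).trans (Category.id_comp _)
    have := h (X.presheaf.stalk x) C φ hφ hsq (X.fromSpecStalk x)
      (Spec.map (CommRingCat.ofHom (g₁.comp (f.stalkMap x).hom)) ≫ Y.fromSpecStalk _)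
      Scheme.fromSpecStalk_closedPoint (by
        rw [← Scheme.SpecMap_stalkMap_fromSpecStalk, ← Category.assoc, ← Spec.map_comp, ← CommRingCat.ofHom_comp,
          ← RingHom.comp_assoc, h1]
        rfl)
      (Spec.map (CommRingCat.ofHom g₁) ≫ X.fromSpecStalk x) (Spec.map (CommRingCat.ofHom g₂) ≫ X.fromSpecStalk x)
      (hc g₁ h1) (by
        rw [Category.assoc, ← Scheme.SpecMap_stalkMap_fromSpecStalk, ← Category.assoc, ← Spec.map_comp]
        rfl)
      (hc g₂ h2) (by
        rw [Category.assoc, ← Scheme.SpecMap_stalkMap_fromSpecStalk, ← Category.assoc, ← Spec.map_comp]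
        exact congrArg (fun k => Spec.map (CommRingCat.ofHom k) ≫ Y.fromSpecStalk (f.base x)) hs.symm)
    exact congrArg CommRingCat.Hom.hom (cancel x _ _ this)

end Groth.Agent.S5009
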