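import Groth.Statements.S5010
import Groth.Agent.Lib.PP16.Poly
import Mathlib.RingTheory.Localization.Basic
import Mathlib.RingTheory.Localization.FractionRing
import Mathlib.Algebra.MvPolynomial.CommRing

set_option autoImplicit false
universe u
open PP16

namespace Groth.Agent.S5010

noncomputable def rho0 (k : Type u) [Field k] (r n : ℕ) :
    MvPolynomial (Fin r) k →ₐ[k] MvPolynomial (Fin r) (FractionRing (MvPolynomial (Fin r) k)) ⧸
      Ideal.span (Set.range (MvPolynomial.X : Fin r → MvPolynomial (Fin r) (FractionRing (MvPolynomial (Fin r) k)))) ^ (n + 1) :=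
  MvPolynomial.aeval fun i => Ideal.Quotient.mk
    (Ideal.span (Set.range (MvPolynomial.X : Fin r → MvPolynomial (Fin r) (FractionRing (MvPolynomial (Fin r) k)))) ^ (n + 1))
    (MvPolynomial.C (algebraMap (MvPolynomial (Fin r) k) (FractionRing (MvPolynomial (Fin r) k)) (MvPolynomial.X i)) +
      MvPolynomial.X i)

theorem isUnit_of_sub_mem_pow {R : Type*} [CommRing R] {J : Ideal R} {m : ℕ} (hJ : J ^ m = ⊥) {x u : R}
    (hu : IsUnit u) (h : x - u ∈ J) : IsUnit x := by
  have hn : IsNilpotent (x - u) := ⟨m, by simpa [hJ] using Ideal.pow_mem_pow h m⟩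
  simpa using hn.isUnit_add_left_of_commute hu (Commute.all _ _)

theorem sub_mem_of_gens {k Q σ : Type*} [CommRing k] [CommRing Q]
    [Algebra k Q] (φ ψ : MvPolynomial σ k →ₐ[k] Q) (J : Ideal Q) (h : ∀ i, φ (MvPolynomial.X i) - ψ (MvPolynomial.X i) ∈ J)
    (f : MvPolynomial σ k) : φ f - ψ f ∈ J := by
  induction f using MvPolynomial.induction_on with
  | C a => rw [← MvPolynomial.algebraMap_eq, AlgHom.commutes, AlgHom.commutes, sub_self]; exact zero_mem J
  | add p q hp hq => rw [map_add, map_add, add_sub_add_comm]; exact add_mem hp hq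
  | mul_X p i hp =>
    rw [map_mul, map_mul, show φ p * φ (MvPolynomial.X i) - ψ p * ψ (MvPolynomial.X i) =
      (φ p - ψ p) * φ (MvPolynomial.X i) + ψ p * (φ (MvPolynomial.X i) - ψ (MvPolynomial.X i)) by ring]
    exact add_mem (J.mul_mem_right _ hp) (J.mul_mem_left _ (h i))

theorem isUnit_rho0 (k : Type u) [Field k] (r n : ℕ) (f : MvPolynomial (Fin r) k) (hf : f ≠ 0) :
    IsUnit (rho0 k r n f) := by
  refine isUnit_of_sub_mem_pow (J := (Ideal.span (Set.range (MvPolynomial.X : Fin r → MvPolynomial (Fin r) (FractionRing (MvPolynomial (Fin r) k))))).map (Ideal.Quotient.mk _))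
    (m := n + 1) (by rw [← Ideal.map_pow, Ideal.map_quotient_self])
    (u := ((Ideal.Quotient.mkₐ k _).comp ((IsScalarTower.toAlgHom k (FractionRing (MvPolynomial (Fin r) k)) _).comp
      (IsScalarTower.toAlgHom k (MvPolynomial (Fin r) k) (FractionRing (MvPolynomial (Fin r) k))))) f) ?_
    (sub_mem_of_gens _ _ _ (fun i => ?_) f)
  · exact (((IsUnit.mk0 _ ((map_ne_zero_iff _ (IsFractionRing.injective _ _)).mpr hf))).map
      (IsScalarTower.toAlgHom k (FractionRing (MvPolynomial (Fin r) k)) _)).map (Ideal.Quotient.mkₐ k _)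
  · rw [rho0, MvPolynomial.aeval_X]
    show Ideal.Quotient.mk _ _ - Ideal.Quotient.mk _ (MvPolynomial.C _) ∈ _
    rw [← map_sub]
    refine Ideal.mem_map_of_mem _ ?_
    rw [Algebra.algebraMap_self_apply]
    show MvPolynomial.C (algebraMap (MvPolynomial (Fin r) k) (FractionRing (MvPolynomial (Fin r) k)) (MvPolynomial.X i)) +
        MvPolynomial.X i - MvPolynomial.C (algebraMap (MvPolynomial (Fin r) k) (FractionRing (MvPolynomial (Fin r) k)) (MvPolynomial.X i)) ∈ _
    rw [add_sub_cancel_left]
    exact Ideal.subset_span ⟨i, rfl⟩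

/-- Let k be a field and K the field of fractions of the polynomial ring k[T_1, ..., T_r]. For every n,
the K-algebra map from the polynomial ring K[U_1, ..., U_r] to the ring of principal parts of order
n of K over k (a K-algebra through the first factor) that sends U_i to d^n(T_i) − T_i · 1 is
surjective, and its kernel is the (n+1)-st power of the ideal generated by the U_i. -/
theorem result (k : Type u) [Field k] (r n : ℕ) :
    Function.Surjective
        (MvPolynomial.aeval (R := FractionRing (MvPolynomial (Fin r) k))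
          (S₁ := PP16.P n k (FractionRing (MvPolynomial (Fin r) k)))
          (fun i : Fin r =>
            PP16.dn n k (FractionRing (MvPolynomial (Fin r) k))
                (algebraMap (MvPolynomial (Fin r) k) (FractionRing (MvPolynomial (Fin r) k)) (MvPolynomial.X i)) -
              algebraMap (FractionRing (MvPolynomial (Fin r) k)) (PP16.P n k (FractionRing (MvPolynomial (Fin r) k)))
                (algebraMap (MvPolynomial (Fin r) k) (FractionRing (MvPolynomial (Fin r) k)) (MvPolynomial.X i)))) ∧
      RingHom.ker
          (MvPolynomial.aeval (R := FractionRing (MvPolynomial (Fin r) k))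
            (S₁ := PP16.P n k (FractionRing (MvPolynomial (Fin r) k)))
            (fun i : Fin r =>
              PP16.dn n k (FractionRing (MvPolynomial (Fin r) k))
                  (algebraMap (MvPolynomial (Fin r) k) (FractionRing (MvPolynomial (Fin r) k)) (MvPolynomial.X i)) -
                algebraMap (FractionRing (MvPolynomial (Fin r) k)) (PP16.P n k (FractionRing (MvPolynomial (Fin r) k)))
                  (algebraMap (MvPolynomial (Fin r) k) (FractionRing (MvPolynomial (Fin r) k)) (MvPolynomial.X i)))).toRingHom =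
        (Ideal.span (Set.range (MvPolynomial.X : Fin r → MvPolynomial (Fin r) (FractionRing (MvPolynomial (Fin r) k))))) ^ (n + 1) := by
  have hu : ∀ y : nonZeroDivisors (MvPolynomial (Fin r) k), IsUnit (rho0 k r n (y : MvPolynomial (Fin r) k)) :=
    fun y => isUnit_rho0 k r n _ (nonZeroDivisors.ne_zero y.2)
  have hu' : ∀ y : nonZeroDivisors (MvPolynomial (Fin r) k),
      IsUnit ((rho0 k r n).toRingHom (y : MvPolynomial (Fin r) k)) := hu
  let ρ : FractionRing (MvPolynomial (Fin r) k) →ₐ[k] _ :=
    { IsLocalization.lift (S := FractionRing (MvPolynomial (Fin r) k))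
        (M := nonZeroDivisors (MvPolynomial (Fin r) k)) hu' with
      commutes' := fun a => by
        show IsLocalization.lift hu' (algebraMap k (FractionRing (MvPolynomial (Fin r) k)) a) = _
        rw [IsScalarTower.algebraMap_apply k (MvPolynomial (Fin r) k) (FractionRing (MvPolynomial (Fin r) k))]
        exact (IsLocalization.lift_eq hu' _).trans ((rho0 k r n).commutes a) }
  exact PP.tauMap_surjective_ker n k (FractionRing (MvPolynomial (Fin r) k))
    (fun i => algebraMap (MvPolynomial (Fin r) k) _ (MvPolynomial.X i)) ρ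
    (fun i => by
      show IsLocalization.lift hu' (algebraMap _ _ (MvPolynomial.X i)) = _
      exact (IsLocalization.lift_eq hu' _).trans (MvPolynomial.aeval_X _ i))
    (fun D _ _ φ ψ h => IsLocalization.algHom_ext (nonZeroDivisors _) (MvPolynomial.algHom_ext h))
    (fun φ ψ h => IsLocalization.algHom_ext (nonZeroDivisors _) (MvPolynomial.algHom_ext h))

end Groth.Agent.S5010
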