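import Groth.Statements.S5011
import Groth.Agent.Lib.EtaleNhd17.Basic
-- import your own Groth.Agent.* helpers here

set_option autoImplicit false
set_option backward.isDefEq.respectTransparency false
universe u
open CategoryTheory CategoryTheory.Limits AlgebraicGeometry TopologicalSpace
open Unram17

namespace Groth.Agent.S5011

open IsLocalRing

theorem fibre_aux {R S : Type u} [CommRing R] [CommRing S] [IsLocalRing R] [IsLocalRing S] (φ : R →+* S)
    [IsLocalHom φ] (hφ : φ.EssFiniteType) (I : Ideal S) (hI : maximalIdeal R ≤ I.comap φ) (h : I = maximalIdeal S)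
    (hu : φ.FormallyUnramified) :
    letI := (Ideal.quotientMap I φ hI).toAlgebra
    IsField (S ⧸ I) ∧ Module.Finite (R ⧸ maximalIdeal R) (S ⧸ I) ∧ Algebra.IsSeparable (R ⧸ maximalIdeal R) (S ⧸ I) := by
  subst h
  letI := φ.toAlgebra
  haveI : IsLocalHom (algebraMap R S) := ‹IsLocalHom φ›
  haveI : Algebra.EssFiniteType R S := hφ
  haveI : Algebra.FormallyUnramified R S := hu
  haveI hsep : Algebra.IsSeparable (ResidueField R) (ResidueField S) := inferInstance
  haveI hfin : Module.Finite (ResidueField R) (ResidueField S) := inferInstance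
  have heq : (ResidueField.instAlgebra : Algebra (ResidueField R) (ResidueField S)) =
      (Ideal.quotientMap (maximalIdeal S) φ hI).toAlgebra := by
    refine Algebra.algebra_ext _ _ fun a => ?_
    obtain ⟨a, rfl⟩ := residue_surjective a
    rfl
  refine ⟨(Ideal.Quotient.maximal_ideal_iff_isField_quotient _).1 inferInstance, ?_, ?_⟩
  · convert! hfin; exact congrArg (fun a : Algebra (ResidueField R) (ResidueField S) => @Algebra.toModule _ _ _ _ a) heq.symm
  · convert! hsep; exact heq.symm

theorem isSeparable_residue {R S : Type u} [CommRing R] [CommRing S] [IsLocalRing R] [IsLocalRing S] (φ : R →+* S)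
    [IsLocalHom φ] (I : Ideal S) (hI : maximalIdeal R ≤ I.comap φ) (h : I = maximalIdeal S)
    (hs : letI := (Ideal.quotientMap I φ hI).toAlgebra; Algebra.IsSeparable (R ⧸ maximalIdeal R) (S ⧸ I)) :
    letI := (ResidueField.map φ).toAlgebra
    Algebra.IsSeparable (ResidueField R) (ResidueField S) := by
  subst h
  have heq : ((ResidueField.map φ).toAlgebra : Algebra (ResidueField R) (ResidueField S)) =
      (Ideal.quotientMap (maximalIdeal S) φ hI).toAlgebra := by
    refine Algebra.algebra_ext _ _ fun a => ?_
    obtain ⟨a, rfl⟩ := residue_surjective a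
    rfl
  convert! hs


/-- Let f : X ⟶ Y be locally of finite presentation. Then f is etale if and only if f is flat and, for
every point x of X with image y, the quotient of the local ring of X at x by the extension of the
maximal ideal of the local ring of Y at y is a field, finite and separable over the residue field
κ(y); that is, every fibre of f is a sum of spectra of finite separable extensions of the residue
field. -/
theorem result {X Y : Scheme.{u}} (f : X ⟶ Y)
    [LocallyOfFinitePresentation f] :
    Etale f ↔ Flat f ∧ ∀ x : ↥X,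
      letI φ := (f.stalkMap x).hom
      letI 𝔪 := IsLocalRing.maximalIdeal ↑(Y.presheaf.stalk (f.base x))
      letI := (Ideal.quotientMap (𝔪.map φ) φ Ideal.le_comap_map).toAlgebra
      IsField (↑(X.presheaf.stalk x) ⧸ 𝔪.map φ) ∧
        Module.Finite (↑(Y.presheaf.stalk (f.base x)) ⧸ 𝔪) (↑(X.presheaf.stalk x) ⧸ 𝔪.map φ) ∧
        Algebra.IsSeparable (↑(Y.presheaf.stalk (f.base x)) ⧸ 𝔪) (↑(X.presheaf.stalk x) ⧸ 𝔪.map φ) := by
  constructor
  · intro _
    refine ⟨inferInstance, fun x => ?_⟩
    have hu : (f.stalkMap x).hom.FormallyUnramified := FormallyUnramified.stalkMap f x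
    exact fibre_aux (f.stalkMap x).hom (LocallyOfFiniteType.stalkMap f x) _
      Ideal.le_comap_map ((EtaleNhd17.formallyUnramified_stalkMap_iff_map_eq f x).1 hu).2 hu
  · rintro ⟨hfl, h⟩
    have hloc : ∀ x, (f.stalkMap x).hom.FormallyUnramified := fun x => by
      obtain ⟨hF, -, hs⟩ := h x
      have hm : (maximalIdeal (Y.presheaf.stalk (f.base x))).map (f.stalkMap x).hom = maximalIdeal _ :=
        eq_maximalIdeal (Ideal.Quotient.maximal_of_isField _ hF)
      exact (EtaleNhd17.formallyUnramified_stalkMap_iff_map_eq f x).2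
        ⟨isSeparable_residue (f.stalkMap x).hom _ Ideal.le_comap_map hm hs, hm⟩
    choose V hxV hV using fun x => EtaleNhd17.exists_etale_of_stalk f x (Flat.stalkMap f x) (hloc x)
    exact IsZariskiLocalAtSource.of_iSup_eq_top V
      (eq_top_iff.2 fun x _ => TopologicalSpace.Opens.mem_iSup.2 ⟨x, hxV x⟩) hV

end Groth.Agent.S5011
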