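import Groth.Statements.S5012
import Groth.Agent.Lib.GenSmooth5.Basic
-- import your own Groth.Agent.* helpers here

set_option autoImplicit false
universe u
open Unram17

namespace Groth.Agent.S5012

/-- Let A be an algebra of finite type over a field k. Then Spec A has a dense open subset consisting of
points at which A is smooth over k if and only if, for every minimal prime p of A, the local ring
A_p is geometrically reduced over k (that is, A_p is a field and a separable extension of k). -/
theorem result (k A : Type u) [Field k] [CommRing A] [Algebra k A]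
    [Algebra.FiniteType k A] :
    (∃ U : TopologicalSpace.Opens (PrimeSpectrum A), Dense (U : Set (PrimeSpectrum A)) ∧
        ∀ p ∈ U, Algebra.IsSmoothAt k p.asIdeal) ↔
      ∀ (p : Ideal A) [p.IsPrime], p ∈ minimalPrimes A →
        Algebra.IsGeometricallyReduced k (Localization.AtPrime p) := by
  haveI : IsNoetherianRing A := Algebra.FiniteType.isNoetherianRing k A
  constructor
  · rintro ⟨U, hU, hsm⟩ p _ hp
    refine (GenSmooth5.isSmoothAt_minimal_iff p hp).1 (hsm ⟨p, inferInstance⟩ ?_)
    have hfin : (minimalPrimes A).Finite := minimalPrimes.finite_of_isNoetherianRing A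
    -- an open neighbourhood of `p` meeting only the component of `p`
    let W : Set (PrimeSpectrum A) := ⋂ P ∈ minimalPrimes A \ {p}, (PrimeSpectrum.zeroLocus (P : Set A))ᶜ
    have hW : IsOpen W := (hfin.diff (t := {p})).isOpen_biInter fun P _ =>
      (PrimeSpectrum.isClosed_zeroLocus _).isOpen_compl
    have hpW : (⟨p, inferInstance⟩ : PrimeSpectrum A) ∈ W := by
      refine Set.mem_iInter₂.2 fun P hP hle => hP.2 ?_
      haveI := hP.1.isPrime
      exact GenSmooth5.eq_of_minimal_le hp hle
    obtain ⟨z, hzW, hzU⟩ := hU.inter_open_nonempty W hW ⟨_, hpW⟩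
    obtain ⟨P, hP, hPz⟩ := Ideal.exists_minimalPrimes_le (show (⊥ : Ideal A) ≤ z.asIdeal from bot_le)
    obtain rfl : P = p := by
      by_contra hne
      exact (Set.mem_iInter₂.1 hzW P ⟨hP, hne⟩) hPz
    exact ((PrimeSpectrum.le_iff_specializes (⟨P, inferInstance⟩ : PrimeSpectrum A) z).1 hPz).mem_open U.isOpen hzU
  · intro h
    haveI : Algebra.FinitePresentation k A := Algebra.FinitePresentation.of_finiteType.1 inferInstance
    refine ⟨⟨Algebra.smoothLocus k A, Algebra.isOpen_smoothLocus⟩, fun z => ?_, fun p hp => hp⟩
    obtain ⟨P, hP, hPz⟩ := Ideal.exists_minimalPrimes_le (show (⊥ : Ideal A) ≤ z.asIdeal from bot_le)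
    haveI := hP.isPrime
    refine closure_mono ?_ (((PrimeSpectrum.le_iff_specializes (⟨P, inferInstance⟩ : PrimeSpectrum A) z).1 hPz).mem_closure)
    rintro _ rfl
    exact (GenSmooth5.isSmoothAt_minimal_iff P hP).2 (h P hP)

end Groth.Agent.S5012
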