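import Groth.Statements.S5013
import Groth.Agent.Lib.SmoothGeomReg5.Apps
import Groth.Agent.S2595
-- import your own Groth.Agent.* helpers here

set_option autoImplicit false
universe u
open CategoryTheory CategoryTheory.Limits AlgebraicGeometry TopologicalSpace
open Unram17

namespace Groth.Agent.S5013

/-- Let Y be locally Noetherian, f : X ⟶ Y locally of finite type, x a point of X with image y, and
suppose the local ring of Y at y is reduced and geometrically unibranch. Then f is smooth on an open
neighbourhood of x if and only if f is equidimensional at x and the local ring of the fibre at x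
(the quotient of the local ring of X at x by the extension of the maximal ideal at y) is
geometrically regular over the residue field κ(y). -/
theorem result {X Y : Scheme.{u}} (f : X ⟶ Y)
    [IsLocallyNoetherian Y] [LocallyOfFiniteType f] (x : ↥X)
    (hred : IsReduced ↑(Y.presheaf.stalk (f.base x)))
    (hgu : CAlg2.IsGeomUnibranch ↑(Y.presheaf.stalk (f.base x))) :
    letI φ := (f.stalkMap x).hom
    letI 𝔪 := IsLocalRing.maximalIdeal ↑(Y.presheaf.stalk (f.base x))
    letI : Algebra (IsLocalRing.ResidueField ↑(Y.presheaf.stalk (f.base x))) (↑(X.presheaf.stalk x) ⧸ 𝔪.map φ) :=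
      (Ideal.quotientMap (𝔪.map φ) φ Ideal.le_comap_map).toAlgebra
    (∃ U : X.Opens, x ∈ U ∧ Smooth (U.ι ≫ f)) ↔
      EGA43.IsEquidimAt f x ∧
        CAlg.IsGeometricallyRegular (IsLocalRing.ResidueField ↑(Y.presheaf.stalk (f.base x)))
          (↑(X.presheaf.stalk x) ⧸ 𝔪.map φ) := by
  haveI : LocallyOfFinitePresentation f := Groth.Agent.VarDim.locallyOfFinitePresentation_of_locallyNoetherian f
  rw [Groth.Agent.Descend.smooth_nhd_iff_mem_smoothLocus]
  refine ⟨fun h => ?_, fun ⟨heq, hgr⟩ => ?_⟩
  · obtain ⟨hflat, hgr⟩ := (Groth.Agent.SmoothGeomReg5.mem_smoothLocus_iff f x).1 h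
    exact ⟨Groth.Agent.S2595.result f x hflat (Groth.Agent.SmoothGeomReg5.isCohenMacaulay_fibre_of_gr f x hgr), hgr⟩
  · obtain ⟨W, hxW, hW⟩ := Groth.Agent.SmoothGeomReg5.exists_univOpen_of_isEquidimAt f x heq hgu
    exact Groth.Agent.SmoothGeomReg5.mem_smoothLocus_of_univOpen f x hred hgr W hxW hW

end Groth.Agent.S5013
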