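import Groth.Statements.S5015
import Groth.Agent.Lib.Omega12.Unram
import Groth.Agent.Lib.Omega12.Compat

set_option autoImplicit false
set_option backward.isDefEq.respectTransparency false
set_option backward.isDefEq.respectTransparency.types false
universe u
open CategoryTheory CategoryTheory.Limits AlgebraicGeometry TopologicalSpace
open Unram17

namespace Groth.Agent.S5015

open Groth.Agent Opposite


theorem aux {X Y S : Scheme.{u}} (g : Y ⟶ S) (f : X ⟶ Y)
    (ΩY : Y.Modules) (dY : OmegaSh.Der g ΩY) (hY : OmegaSh.IsUniversal dY)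
    (ΩX : X.Modules) (dX : OmegaSh.Der (f ≫ g) ΩX) (hX : OmegaSh.IsUniversal dX)
    (c : (Scheme.Modules.pullback f).obj ΩY ⟶ ΩX) (hc : OmegaSh.IsDiffCompat f dY dX c) :
    FormallyUnramified f ↔ Epi c := by
  rw [Omega12.formallyUnramified_iff_der_eq_zero f]
  constructor
  · intro hz
    rw [Preadditive.epi_iff_cancel_zero]
    intro F φ hφ
    let D : OmegaSh.Der f F :=
      { d := fun {U} => (φ.app U.unop).hom.comp (dX.app U.unop)
        d_mul := fun {U} a b => by
          exact (dX.postcomp φ.val).d_mul (X := U) a b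
        d_map := fun {U V} i x => by
          exact (dX.postcomp φ.val).d_map i x
        d_app := fun {W} s => by
          show φ.app (f ⁻¹ᵁ W.unop) (dX.app _ (f.app W.unop s)) = 0
          rw [← hc W.unop s]
          exact congrArg (fun ψ => ψ.app (f ⁻¹ᵁ W.unop) (OmegaSh.pullSect f ΩY W.unop (dY.app W.unop s))) hφ }
    refine Omega12.hom_ext_der _ hX fun U s => ?_
    exact (hz F D U s).trans (by simp)
  · intro hepi F D U s
    let D' : OmegaSh.Der (f ≫ g) F :=
      { d := D.d
        d_mul := fun {U} a b => D.d_mul a b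
        d_map := fun {U V} i x => D.d_map i x
        d_app := fun {W} s => by
          exact D.d_app (X := op (g ⁻¹ᵁ W.unop)) (g.app W.unop s) }
    obtain ⟨φ, hφ, -⟩ := hX _ D'
    have hval : ∀ U s, φ.app U (dX.app U s) = D.app U s := fun U s =>
      (congrArg (fun E => OmegaSh.Der.app E U s) hφ : _)
    have hcφ : c ≫ φ = 0 := by
      apply ((Scheme.Modules.pullbackPushforwardAdjunction f).homEquiv _ _).injective
      refine Omega12.hom_ext_der _ hY fun U s => ?_
      rw [Adjunction.homEquiv_unit, Adjunction.homEquiv_unit]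
      show φ.app (f ⁻¹ᵁ U) (c.app (f ⁻¹ᵁ U) (OmegaSh.pullSect f ΩY U (dY.app U s))) = _
      rw [hc U s, hval]
      exact (D.d_app (X := op U) s).trans (by simp)
    have hφ0 : φ = 0 := (cancel_epi c).1 (by rw [hcφ, comp_zero])
    rw [← hval, hφ0]
    simp

/-- Let g : Y ⟶ S and h : X ⟶ S be morphisms and f : X ⟶ Y with f ≫ g = h. Given sheaves of
differentials of Y over S and of X over S (universal derivations dY, dX) and the canonical map c
from the pullback of the former to the latter (the O_X-linear map carrying the pullback of dY s to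
dX of the pullback of s), f is formally unramified if and only if c is an epimorphism of
O_X-modules. -/
theorem result {X Y S : Scheme.{u}} (g : Y ⟶ S) (h : X ⟶ S)
    (f : X ⟶ Y) (w : f ≫ g = h)
    (ΩY : Y.Modules) (dY : OmegaSh.Der g ΩY) (hY : OmegaSh.IsUniversal dY)
    (ΩX : X.Modules) (dX : OmegaSh.Der h ΩX) (hX : OmegaSh.IsUniversal dX)
    (c : (Scheme.Modules.pullback f).obj ΩY ⟶ ΩX) (hc : OmegaSh.IsDiffCompat f dY dX c) :
    FormallyUnramified f ↔ Epi c := by
  subst w
  exact aux g f ΩY dY hY ΩX dX hX c hc

end Groth.Agent.S5015
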