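import Groth.Statements.S5023
import Groth.Agent.Lib.Omega12.Cokernel
-- import your own Groth.Agent.* helpers here

set_option autoImplicit false
universe u
open CategoryTheory CategoryTheory.Limits AlgebraicGeometry TopologicalSpace
open Nrm16

namespace Groth.Agent.S5023

/-- Let a : X ⟶ S and b : Y ⟶ S be morphisms and Z a fibre product of X and Y over S with projections p,
q and structure morphism h. Given sheaves of differentials (universal derivations) of X, Y and Z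
over S and the canonical compatible maps c₁ : p^*Ω_X ⟶ Ω_Z and c₂ : q^*Ω_Y ⟶ Ω_Z, the induced map
from the coproduct p^*Ω_X ⨿ q^*Ω_Y to Ω_Z is an isomorphism. -/
theorem result {X Y S Z : Scheme.{u}} (a : X ⟶ S) (b : Y ⟶ S)
    (p : Z ⟶ X) (q : Z ⟶ Y) (h : Z ⟶ S) (wp : p ≫ a = h) (wq : q ≫ b = h) (hZ : IsPullback p q a b)
    (ΩX : X.Modules) (dX : OmegaSh.Der a ΩX) (hX : OmegaSh.IsUniversal dX)
    (ΩY : Y.Modules) (dY : OmegaSh.Der b ΩY) (hY : OmegaSh.IsUniversal dY)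
    (ΩZ : Z.Modules) (dZ : OmegaSh.Der h ΩZ) (hZu : OmegaSh.IsUniversal dZ)
    (c₁ : (Scheme.Modules.pullback p).obj ΩX ⟶ ΩZ) (hc₁ : OmegaSh.IsDiffCompat p dX dZ c₁)
    (c₂ : (Scheme.Modules.pullback q).obj ΩY ⟶ ΩZ) (hc₂ : OmegaSh.IsDiffCompat q dY dZ c₂) :
    IsIso (coprod.desc c₁ c₂) := by
  exact Groth.Agent.Omega12.isIso_coprodDesc wp wq hZ hX hY hZu c₁ hc₁ c₂ hc₂

end Groth.Agent.S5023
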