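import Groth.Statements.S5024
import Groth.Agent.Lib.FlatDepth.RkFlat
import Groth.Agent.Lib.FlatDepth.RingFib
import Groth.Agent.Lib.FibDepth5.Apps
import Groth.Agent.S9408
import Groth.Agent.Lib.Depth.CM
-- import your own Groth.Agent.* helpers here

set_option autoImplicit false
set_option backward.isDefEq.respectTransparency false
universe u
open CategoryTheory CategoryTheory.Limits AlgebraicGeometry TopologicalSpace
open Unram17

namespace Groth.Agent.S5024

open FlatDepth

theorem skIneq_of_regular {R : Type u} [CommRing R] [IsRegularLocalRing R] (k : ℕ) : SkIneq k R :=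
  (forall_skIneq_iff _).2 DepthLib.isCohenMacaulayLocalRing_of_isRegularLocalRing k

theorem ring_iff {A B : Type u} [CommRing A] [CommRing B] [Algebra A B] [IsNoetherianRing A] [IsNoetherianRing B]
    [Algebra.Smooth A B] (q : Ideal B) [q.IsPrime] (k : ℕ) :
    (LocCoh.HasSk k (Localization.AtPrime q) (Localization.AtPrime q) ↔
      LocCoh.HasSk k (Localization.AtPrime (q.comap (algebraMap A B))) (Localization.AtPrime (q.comap (algebraMap A B)))) ∧
    (LocCoh.HasRk k (Localization.AtPrime q) ↔ LocCoh.HasRk k (Localization.AtPrime (q.comap (algebraMap A B)))) := by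
  have hreg : ∀ (p : Ideal A) [p.IsPrime], IsRegularRing (p.Fiber B) := fun p _ => by
    have hk : CAlg.IsGeometricallyRegular p.ResidueField p.ResidueField := fun k' _ _ _ => by
      exact IsRegularRing.of_ringEquiv (R := k') (Algebra.TensorProduct.rid p.ResidueField k' k').symm.toRingEquiv
    have h := Groth.Agent.S9408.result p.ResidueField p.ResidueField (p.Fiber B) hk
      p.ResidueField inferInstance
    exact IsRegularRing.of_ringEquiv (R := TensorProduct p.ResidueField p.ResidueField (p.Fiber B))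
      (Algebra.TensorProduct.lid p.ResidueField (p.Fiber B)).toRingEquiv
  have hfib : ∀ (q : Ideal B) [q.IsPrime], IsRegularLocalRing (EGA4.FibLocRing A B q) := fun q _ => by
    obtain ⟨p, _, Q, _, ⟨e⟩⟩ := exists_fibLoc_equiv (A := A) q
    have := hreg p
    exact IsRegularLocalRing.of_ringEquiv (R := Localization.AtPrime Q) e
  rw [hasSk_localization_iff, hasSk_localization_iff, hasRk_localization_iff, hasRk_localization_iff]
  refine ⟨⟨skAt_base q, fun h => skAt_of_fibres q h fun q' _ _ => ?_⟩,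
    ⟨rkAt_base q, fun h => rkAt_of_fibres q h fun q' _ _ _ => hfib q'⟩⟩
  haveI := hfib q'
  exact skIneq_of_regular k

theorem hasRk_iff_of_ringEquiv {R R' : Type u} [CommRing R] [CommRing R'] (e : R ≃+* R') (k : ℕ) :
    LocCoh.HasRk k R ↔ LocCoh.HasRk k R' := by
  suffices h : ∀ {R R' : Type u} [CommRing R] [CommRing R'], (R ≃+* R') → LocCoh.HasRk k R → LocCoh.HasRk k R' from
    ⟨h e, h e.symm⟩
  intro R R' _ _ e h p _ hp
  haveI := h (p.comap e.toRingHom) (by rwa [show (p.comap e.toRingHom).height = p.height from e.height_comap p])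
  exact IsRegularLocalRing.of_ringEquiv (R := Localization.AtPrime (p.comap e.toRingHom))
    (IsLocalization.ringEquivOfRingEquiv (M := (p.comap e.toRingHom).primeCompl) (T := p.primeCompl) _ _ e (by
      ext z
      simp only [Submonoid.mem_map, Ideal.mem_primeCompl_iff, Ideal.mem_comap]
      exact ⟨fun ⟨y, hy, h⟩ => h ▸ hy, fun hz => ⟨e.symm z, by simpa using hz, e.apply_symm_apply z⟩⟩))


/-- Let Y be locally Noetherian and f : X ⟶ Y locally of finite type, smooth on an open neighbourhood of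
a point x with image y. Then for every n the local ring of X at x has Serre's property (S_n),
respectively (R_n), if and only if the local ring of Y at y has it. -/
theorem result {X Y : Scheme.{u}} (f : X ⟶ Y)
    [IsLocallyNoetherian Y] [LocallyOfFiniteType f] (x : ↥X)
    (hx : ∃ U : X.Opens, x ∈ U ∧ Smooth (U.ι ≫ f)) (n : ℕ) :
    (LocCoh.HasSk n ↑(X.presheaf.stalk x) ↑(X.presheaf.stalk x) ↔
        LocCoh.HasSk n ↑(Y.presheaf.stalk (f.base x)) ↑(Y.presheaf.stalk (f.base x))) ∧
      (LocCoh.HasRk n ↑(X.presheaf.stalk x) ↔ LocCoh.HasRk n ↑(Y.presheaf.stalk (f.base x))) := by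
  obtain ⟨U, hxU, hU⟩ := hx
  let g := U.ι ≫ f
  haveI : Smooth g := hU
  let w : U.toScheme := ⟨x, hxU⟩
  haveI : IsIso (U.ι.stalkMap w) := inferInstance
  let e : X.presheaf.stalk x ≃+* U.toScheme.presheaf.stalk w :=
    (asIso (U.ι.stalkMap w)).commRingCatIsoToRingEquiv
  obtain ⟨O, hO, hyO, -⟩ :=
    exists_isAffineOpen_mem_and_subset (X := Y) (x := g w) (U := ⊤) trivial
  obtain ⟨V, hV, hwV, hVO⟩ :=
    exists_isAffineOpen_mem_and_subset (X := U.toScheme) (x := w) (U := g ⁻¹ᵁ O) hyO
  have hsm := g.smooth_appLE hO hV hVO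
  haveI : IsNoetherianRing Γ(Y, O) := IsLocallyNoetherian.component_noetherian ⟨O, hO⟩
  algebraize [(g.appLE O V hVO).hom]
  haveI : Algebra.Smooth Γ(Y, O) Γ(U.toScheme, V) := hsm
  haveI : IsNoetherianRing Γ(U.toScheme, V) := Algebra.FiniteType.isNoetherianRing Γ(Y, O) _
  letI := Y.presheaf.algebra_section_stalk (U := O) ⟨g w, hyO⟩
  haveI := hO.isLocalization_stalk ⟨g w, hyO⟩
  letI := U.toScheme.presheaf.algebra_section_stalk (U := V) ⟨w, hwV⟩
  haveI := hV.isLocalization_stalk ⟨w, hwV⟩
  let q := (hV.primeIdealOf ⟨w, hwV⟩).asIdeal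
  have hc := congrArg PrimeSpectrum.asIdeal (IsAffineOpen.comap_primeIdealOf_appLE O hO V hV hVO hwV)
  haveI : IsLocalization.AtPrime (Y.presheaf.stalk (g w)) (q.comap (algebraMap Γ(Y, O) Γ(U.toScheme, V))) := by
    convert! hO.isLocalization_stalk ⟨g w, hyO⟩ using 2
  let eY : Localization.AtPrime (q.comap (algebraMap Γ(Y, O) Γ(U.toScheme, V))) ≃+* Y.presheaf.stalk (g w) :=
    (IsLocalization.algEquiv (q.comap (algebraMap Γ(Y, O) Γ(U.toScheme, V))).primeCompl _ _).toRingEquiv
  let eX : Localization.AtPrime q ≃+* U.toScheme.presheaf.stalk w :=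
    (IsLocalization.algEquiv q.primeCompl _ _).toRingEquiv
  obtain ⟨hs, hr⟩ := ring_iff (A := Γ(Y, O)) q n
  rw [FibDepth5.hasSk_iff_of_ringEquiv (eX.trans e.symm) n, FibDepth5.hasSk_iff_of_ringEquiv eY n] at hs
  rw [hasRk_iff_of_ringEquiv (eX.trans e.symm) n, hasRk_iff_of_ringEquiv eY n] at hr
  exact ⟨hs, hr⟩

end Groth.Agent.S5024
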