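import Groth.Statements.S5025
import Groth.Agent.Lib.FlatDepth.FibreStalk
import Groth.Agent.Lib.SmoothReg17.Basic
import Groth.Agent.Lib.Depth.CM
-- import your own Groth.Agent.* helpers here

set_option autoImplicit false
set_option backward.isDefEq.respectTransparency false
universe u
open CategoryTheory CategoryTheory.Limits AlgebraicGeometry TopologicalSpace
open Unram17

namespace Groth.Agent.S5025

/-- Let Y be locally Noetherian and f : X ⟶ Y locally of finite type, smooth on an open neighbourhood of
a point x with image y. Then the local rings of X at x and of Y at y have the same codepth (Krull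
dimension minus depth); written without subtraction: dim O_{X,x} + depth O_{Y,y} = dim O_{Y,y} +
depth O_{X,x}. -/
theorem result {X Y : Scheme.{u}} (f : X ⟶ Y)
    [IsLocallyNoetherian Y] [LocallyOfFiniteType f] (x : ↥X)
    (hx : ∃ U : X.Opens, x ∈ U ∧ Smooth (U.ι ≫ f)) :
    ringKrullDim ↑(X.presheaf.stalk x) +
        ((LocCoh.depth ↑(Y.presheaf.stalk (f.base x)) ↑(Y.presheaf.stalk (f.base x)) : ℕ∞) : WithBot ℕ∞) =
      ringKrullDim ↑(Y.presheaf.stalk (f.base x)) +
        ((LocCoh.depth ↑(X.presheaf.stalk x) ↑(X.presheaf.stalk x) : ℕ∞) : WithBot ℕ∞) := by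
  obtain ⟨U, hxU, hU⟩ := hx
  let g := U.ι ≫ f
  haveI : Smooth g := hU
  let w : U.toScheme := ⟨x, hxU⟩
  haveI : IsIso (U.ι.stalkMap w) := inferInstance
  let e : X.presheaf.stalk x ≃+* U.toScheme.presheaf.stalk w :=
    (asIso (U.ι.stalkMap w)).commRingCatIsoToRingEquiv
  haveI : IsLocallyNoetherian U.toScheme := LocallyOfFiniteType.isLocallyNoetherian g
  obtain ⟨hd, hdim⟩ := FlatDepth.stalk_invariants g w
  haveI : Smooth (g.fiberToSpecResidueField (g w)) := MorphismProperty.pullback_snd _ _ ‹Smooth g›
  haveI : IsRegularLocalRing (CInt.fiberStalk g w) :=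
    SmoothReg17.isRegularLocalRing_stalk (g.fiberToSpecResidueField (g w)) _
  have hF := DepthLib.isCohenMacaulayLocalRing_of_isRegularLocalRing (R := CInt.fiberStalk g w)
  have hFd : ringKrullDim (CInt.fiberStalk g w) =
      ((LocCoh.depth (CInt.fiberStalk g w) (CInt.fiberStalk g w) : ℕ∞) : WithBot ℕ∞) :=
    (Module.supportDim_self_eq_ringKrullDim (CInt.fiberStalk g w)).symm.trans hF.supportDim_eq_depth
  have hgw : g w = f.base x := rfl
  rw [← SMT.depth_eq_of_ringEquiv e, ringKrullDim_eq_of_ringEquiv e, hd, hdim, hFd, WithBot.coe_add]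
  show _ + _ + _ = ringKrullDim (Y.presheaf.stalk (g w)) + _
  abel

end Groth.Agent.S5025
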