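import Groth.Statements.S5028
import Groth.Agent.Lib.SmoothGeomReg5.Apps
import Groth.Agent.Lib.Descend.BaseChangeAt
-- import your own Groth.Agent.* helpers here

set_option autoImplicit false
universe u
open CategoryTheory CategoryTheory.Limits AlgebraicGeometry TopologicalSpace
open Unram17

namespace Groth.Agent.S5028

/-- Let Y be locally Noetherian, f : X ⟶ Y locally of finite type, x a point of X with image y, and
suppose the local ring of Y at y is reduced. Then f is smooth on an open neighbourhood of x if and
only if f is universally open at every point of some neighbourhood of x in the fibre over y (that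
is, for the points x' of some open neighbourhood of x in X lying over y, every base change of f is
open at each point lying over x') and the local ring of the fibre at x (the quotient of the local
ring of X at x by the extension of the maximal ideal at y) is geometrically regular over the residue
field κ(y). -/
theorem result {X Y : Scheme.{u}} (f : X ⟶ Y)
    [IsLocallyNoetherian Y] [LocallyOfFiniteType f] (x : ↥X)
    (hred : IsReduced ↑(Y.presheaf.stalk (f.base x))) :
    letI φ := (f.stalkMap x).hom
    letI 𝔪 := IsLocalRing.maximalIdeal ↑(Y.presheaf.stalk (f.base x))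
    letI : Algebra (IsLocalRing.ResidueField ↑(Y.presheaf.stalk (f.base x))) (↑(X.presheaf.stalk x) ⧸ 𝔪.map φ) :=
      (Ideal.quotientMap (𝔪.map φ) φ Ideal.le_comap_map).toAlgebra
    (∃ U : X.Opens, x ∈ U ∧ Smooth (U.ι ≫ f)) ↔
      (∃ W : X.Opens, x ∈ W ∧ ∀ x' ∈ W, f.base x' = f.base x → EGA43.IsUnivOpenAt f x') ∧
        CAlg.IsGeometricallyRegular (IsLocalRing.ResidueField ↑(Y.presheaf.stalk (f.base x)))
          (↑(X.presheaf.stalk x) ⧸ 𝔪.map φ) := by
  haveI : LocallyOfFinitePresentation f := Groth.Agent.VarDim.locallyOfFinitePresentation_of_locallyNoetherian f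
  rw [Groth.Agent.Descend.smooth_nhd_iff_mem_smoothLocus]
  refine ⟨fun h => ⟨⟨f.smoothLocus, h, fun z hz _ => ?_⟩, ((Groth.Agent.SmoothGeomReg5.mem_smoothLocus_iff f x).1 h).2⟩,
    fun ⟨⟨W, hxW, hW⟩, hgr⟩ => Groth.Agent.SmoothGeomReg5.mem_smoothLocus_of_univOpen f x hred hgr W hxW hW⟩
  haveI : Smooth (f.smoothLocus.ι ≫ f) := by
    rw [← Scheme.Hom.smoothLocus_eq_top_iff, ← Scheme.Hom.preimage_smoothLocus_eq,
      Scheme.Opens.ι_preimage_self]
  exact Groth.Agent.SmoothGeomReg5.isUnivOpenAt_of_opens f f.smoothLocus hz

end Groth.Agent.S5028
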