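import Groth.Statements.S7392
import Groth.Agent.Lib.ModM1.Coh
import Groth.Agent.Lib.ModM1.PullSpec
import Mathlib.Algebra.Category.ModuleCat.Projective

set_option autoImplicit false
universe u
open CategoryTheory AlgebraicGeometry
open Opposite
open Mor

namespace Groth.Agent.S7392

theorem projective_sections {X : Scheme.{u}} (N : X.Modules) {U : X.Opens} (hU : IsAffineOpen U)
    {P : ModuleCat.{u} Γ(X, U)} [Module.Projective Γ(X, U) P] (i : tilde P ≅ N.restrict hU.fromSpec) :
    Module.Projective Γ(X, U) Γ(N, U) :=
  Module.Projective.of_equiv' (M := P)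
    (((tilde.isoTop P) ≪≫ moduleSpecΓFunctor.mapIso i).toLinearEquiv.trans
      (Groth.Agent.M1.affineSecEquiv N hU))

/-- For a ring `A` and an `A`-module `M`, the module `M~` on `Spec A` is locally projective (projective
sections over every affine open) if and only if `M` is a projective `A`-module. -/
theorem result (A : CommRingCat.{u}) (M : ModuleCat.{u} A) :
    (∀ U : (Spec A).Opens, IsAffineOpen U →
      Module.Projective ((Spec A).ringCatSheaf.obj.obj (op U)) ((tilde M).val.obj (op U))) ↔
      Module.Projective A M := by
  constructor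
  · intro h
    haveI : Module.Projective Γ(Spec A, ⊤) Γ(tilde M, ⊤) := h ⊤ (isAffineOpen_top _)
    let r : A ≃+* Γ(Spec A, ⊤) := (Scheme.ΓSpecIso A).commRingCatIsoToRingEquiv.symm
    letI := RingHomInvPair.of_ringEquiv r.symm
    letI := RingHomInvPair.symm (r.symm : Γ(Spec A, ⊤) →+* A) r.symm.symm
    let t : M ≃ₗ[A] (moduleSpecΓFunctor.obj (tilde M)) := (tilde.isoTop M).toLinearEquiv
    let e : Γ(tilde M, ⊤) ≃ₛₗ[(r.symm : Γ(Spec A, ⊤) →+* A)] M :=
      { toFun := fun x => t.symm x
        invFun := fun x => t x
        left_inv := fun x => t.apply_symm_apply x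
        right_inv := fun x => t.symm_apply_apply x
        map_add' := fun x y => t.symm.map_add x y
        map_smul' := fun c x => by
          refine Eq.trans ?_ (t.symm.map_smul (r.symm c) x)
          congr 1
          refine Eq.symm (Eq.trans (Scheme.Modules.smul_Spec_def (M := tilde M) (U := ⊤) (r.symm c) x) ?_)
          congr 1
          change ((Spec A).presheaf.map (le_top : (⊤ : (Spec A).Opens) ≤ ⊤).hom.op) (r (r.symm c)) = c
          rw [r.apply_symm_apply]
          exact ConcreteCategory.congr_hom ((Spec A).presheaf.map_id (op ⊤)) c }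
    exact Module.Projective.of_equiv e
  · intro h U hU
    change Module.Projective Γ(Spec A, U) Γ(tilde M, U)
    let φ : A ⟶ Γ(Spec A, U) := Spec.preimage hU.fromSpec
    have hφ : Spec.map φ = hU.fromSpec := Spec.map_preimage _
    let F := ModuleCat.extendScalars φ.hom
    have hP : CategoryTheory.Projective (F.obj M) :=
      (ModuleCat.extendRestrictScalarsAdj φ.hom).map_projective M
        ((IsProjective.iff_projective (R := A) M).mp h)
    haveI : Module.Projective Γ(Spec A, U) (F.obj M) :=
      (IsProjective.iff_projective (F.obj M)).mpr hP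
    let i : tilde (F.obj M) ≅ (tilde M).restrict hU.fromSpec :=
      (Groth.Agent.M1.tildePullbackObjIso φ M).symm ≪≫
        eqToIso (congrArg (fun f => (Scheme.Modules.pullback f).obj (tilde M)) hφ) ≪≫
        ((Scheme.Modules.restrictFunctorIsoPullback hU.fromSpec).app (tilde M)).symm
    exact projective_sections (tilde M) hU i

end Groth.Agent.S7392
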