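import Groth.Statements.S5029
import Groth.Agent.S7392
import Groth.Agent.S12451
import Groth.Agent.Lib.SymAlg11.Spec
import Groth.Agent.Lib.SymAlg11.Sheaf
import Groth.Agent.Lib.SmoothRetractH7.Sym
import Groth.Agent.Lib.ModM1.Coh
import Groth.Agent.Lib.TensorMod.Invertible
import Mathlib.AlgebraicGeometry.Morphisms.Smooth
-- import your own Groth.Agent.* helpers here

set_option autoImplicit false
universe u
set_option linter.style.haveILetI false
open CategoryTheory CategoryTheory.Limits AlgebraicGeometry TopologicalSpace
open Unram17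

namespace Groth.Agent.S5029

set_option backward.isDefEq.respectTransparency.types false

theorem projective_sections_of_isFinLocFree {X : Scheme.{u}} (E : X.Modules)
    (hE : FlatMod.IsFinLocFree E) {U : X.Opens} (hU : IsAffineOpen U) :
    Module.Projective Γ(X, U) Γ(E, U) := by
  have hres := Groth.Agent.M2.isFinLocFree_restrict hU.fromSpec hE
  haveI hq : Coh.IsQCoh (E.restrict hU.fromSpec) :=
    Groth.Agent.M1.isFP_isQCoh (((Groth.Agent.M1.isFinLocFree_iff _).mp hres).1)
  let N := E.restrict hU.fromSpec
  haveI hiso : IsIso N.fromTildeΓ := Scheme.Modules.isIso_fromTildeΓ_of_isQuasicoherent N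
  let P : ModuleCat Γ(X, U) := moduleSpecΓFunctor.obj N
  have i : tilde P ≅ N := @asIso _ _ _ _ N.fromTildeΓ hiso
  haveI : Module.Projective Γ(X, U) P :=
    ((Groth.Agent.S12451.result P).mp (Groth.Agent.M2.isFinLocFree_of_iso i.symm hres)).2
  exact Groth.Agent.S7392.projective_sections E hU i


/-- Let S be a scheme and E a quasi-coherent O_S-module that is finite locally free. If A is a
quasi-coherent O_S-algebra which is the symmetric algebra of E (through j : E ⟶ A), then the
structure morphism of the relative spectrum of A, i.e. of the vector bundle V(E), is smooth. -/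
theorem result {S : Scheme.{u}} (E : S.Modules) (hE : Coh.IsQCoh E)
    (hlf : FlatMod.IsFinLocFree E) (A : RelSpec.QCAlg S) (j : E ⟶ A.toModule) (hA : RelSpec.IsSymAlg E A j) :
    Smooth A.π := by
  refine Groth.Agent.SymAlg11.π_of_forall @Smooth (fun g _ => inferInstance) A fun U hU => ?_
  rw [HasRingHomProperty.Spec_iff (P := @Smooth)]
  haveI hfp := Groth.Agent.M1.finitePresentation_sections
    ((Groth.Agent.M1.isFinLocFree_iff _).mp hlf).1 hU
  haveI := projective_sections_of_isFinLocFree E hlf hU
  haveI : Algebra.Smooth Γ(S, U) (SymmetricAlgebra Γ(S, U) Γ(E, U)) :=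
    { formallySmooth := Groth.Agent.SmoothRetractH7.formallySmooth_symmetricAlgebra _ _
      finitePresentation := Groth.Agent.SmoothRetractH7.finitePresentation_symmetricAlgebra _ _ }
  have h1 : (A.str.app (Opposite.op U)).hom =
      (Groth.Agent.SymAlg11.liftOn A j U).comp
        (algebraMap Γ(S, U) (SymmetricAlgebra Γ(S, U) Γ(E, U))) :=
    RingHom.ext fun r => (Groth.Agent.SymAlg11.liftOn_algebraMap A j U r).symm
  rw [h1]
  let e := RingEquiv.ofBijective _ (Groth.Agent.SymAlg11.bijective_liftOn hE hA U hU)
  exact RingHom.Smooth.respectsIso.1 _ e (RingHom.smooth_algebraMap.mpr inferInstance)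

end Groth.Agent.S5029
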