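import Groth.Statements.S5036
-- import your own Groth.Agent.* helpers here
import Groth.Agent.S0385
import Groth.Agent.Lib.EtaleQF.Basic
import Mathlib.AlgebraicGeometry.Morphisms.FlatRank
import Mathlib.AlgebraicGeometry.Morphisms.FlatMono

set_option autoImplicit false
open CategoryTheory CategoryTheory.Limits AlgebraicGeometry
universe u
open Hensel

namespace Groth.Agent.S5036

open CategoryTheory CategoryTheory.Limits AlgebraicGeometry TopologicalSpace

set_option backward.isDefEq.respectTransparency false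

/-- Unique lifting of clopens along finite morphisms. -/
def Lifts {S S₀ : Scheme.{u}} (i : S₀ ⟶ S) : Prop :=
  ∀ (S' : Scheme.{u}) (g : S' ⟶ S), IsFinite g →
      ∀ V : Set ↥(pullback g i), IsClopen V → ∃! U : Set ↥S', IsClopen U ∧ (pullback.fst g i).base ⁻¹' U = V

/-- A closed subset finite over the base avoiding `S₀` is empty. -/
theorem eq_empty {S S₀ : Scheme.{u}} {i : S₀ ⟶ S} (ha : Lifts i) {T : Scheme.{u}} (t : T ⟶ S) [IsFinite t]
    {Z : Set T} (hZ : IsClosed Z) (hd : ∀ z ∈ Z, t z ∉ Set.range i) : Z = ∅ := by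
  let J := Scheme.IdealSheafData.vanishingIdeal (⟨Z, hZ⟩ : Closeds T)
  have hrange : Set.range J.subschemeι = Z := by
    rw [J.range_subschemeι, Scheme.IdealSheafData.coe_support_vanishingIdeal]
    rfl
  obtain ⟨U, -, huniq⟩ := ha _ (J.subschemeι ≫ t) inferInstance ∅ isClopen_empty
  have hno : IsEmpty ↥(pullback (J.subschemeι ≫ t) i) := ⟨fun p => by
    have h := congrArg (fun φ => φ p) (pullback.condition (f := J.subschemeι ≫ t) (g := i))
    simp only [Scheme.Hom.comp_apply] at h
    exact hd _ (hrange.le ⟨_, rfl⟩) ⟨_, h.symm⟩⟩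
  have h1 := huniq ∅ ⟨isClopen_empty, Set.preimage_empty⟩
  have h2 := huniq Set.univ ⟨isClopen_univ, Set.eq_empty_of_isEmpty _⟩
  refine Set.eq_empty_iff_forall_notMem.2 fun z hz => ?_
  obtain ⟨w, rfl⟩ := hrange.ge hz
  exact (h2.trans h1.symm).le (Set.mem_univ w)


/-- a) implies b): let S be a quasi-compact quasi-separated scheme and i : S₀ ⟶ S a closed immersion.
Suppose that for every finite morphism g : S' ⟶ S, every open-closed subset of S' ×_S S₀ is the
inverse image under the first projection of exactly one open-closed subset of S'. Then for every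
étale separated morphism g : S' ⟶ S and every section u₀ of S' ×_S S₀ ⟶ S₀ there is exactly one
section u of g whose restriction to S₀ is u₀ (that is, i ≫ u = u₀ followed by the first projection). -/
theorem result {S S₀ : Scheme.{u}} (i : S₀ ⟶ S) [IsClosedImmersion i]
    [CompactSpace ↥S] [QuasiSeparatedSpace ↥S]
    (ha : ∀ (S' : Scheme.{u}) (g : S' ⟶ S), IsFinite g →
      ∀ V : Set ↥(pullback g i), IsClopen V → ∃! U : Set ↥S', IsClopen U ∧ (pullback.fst g i).base ⁻¹' U = V)
    {S' : Scheme.{u}} (g : S' ⟶ S) [Etale g] [IsSeparated g]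
    (u₀ : S₀ ⟶ pullback g i) (hu₀ : u₀ ≫ pullback.snd g i = 𝟙 S₀) :
    ∃! u : S ⟶ S', u ≫ g = 𝟙 S ∧ i ≫ u = u₀ ≫ pullback.fst g i := by
  -- a quasi-compact piece containing the section over S₀
  haveI : CompactSpace S₀ := QuasiCompact.compactSpace_of_compactSpace i
  let σ : S₀ ⟶ S' := u₀ ≫ pullback.fst g i
  have hσg : σ ≫ g = i := by
    rw [Category.assoc, pullback.condition, ← Category.assoc, hu₀, Category.id_comp]
  obtain ⟨W, hW, hσW⟩ : ∃ W : S'.Opens, IsCompact (W : Set S') ∧ Set.range σ ⊆ W := by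
    choose B hB hxB _ using fun x : S' => exists_isAffineOpen_mem_and_subset (U := ⊤) (x := x) trivial
    obtain ⟨s, hs⟩ := (isCompact_range σ.continuous).elim_finite_subcover (fun x => (B x : Set S'))
      (fun x => (B x).2) fun x _ => Set.mem_iUnion.2 ⟨x, hxB x⟩
    refine ⟨⨆ x ∈ s, B x, ?_, fun x hx => ?_⟩
    · simp only [Opens.coe_iSup]
      exact s.isCompact_biUnion fun x _ => (hB x).isCompact
    · obtain ⟨y, hy, hxy⟩ := Set.mem_iUnion₂.1 (hs hx)
      exact Opens.mem_iSup.2 ⟨y, Opens.mem_iSup.2 ⟨hy, hxy⟩⟩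
  haveI : CompactSpace W := isCompact_iff_compactSpace.1 hW
  haveI : QuasiCompact (W.ι ≫ g) := QuasiCompact.of_comp (W.ι ≫ g) (Scheme.toSpecΓ S)
  haveI : LocallyQuasiFinite (W.ι ≫ g) :=
    ((Groth.Agent.EtaleQF.etale_iff_smooth_and_locallyQuasiFinite (W.ι ≫ g)).1 inferInstance).2
  obtain ⟨T, j, t, hj, -, ht, hjt⟩ := S0385.result (W.ι ≫ g)
  haveI := hj
  haveI := ht
  let σW : S₀ ⟶ W := IsOpenImmersion.lift W.ι σ (by rw [Scheme.Opens.range_ι]; exact hσW)
  have hσW' : σW ≫ W.ι = σ := IsOpenImmersion.lift_fac _ _ _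
  have hσt : (σW ≫ j) ≫ t = i := by rw [Category.assoc, hjt, ← Category.assoc, hσW', hσg]
  let τ : S₀ ⟶ pullback t i := pullback.lift (σW ≫ j) (𝟙 S₀) (by rw [hσt, Category.id_comp])
  have hV : IsClopen (Set.range τ) := by
    refine ⟨?_, ?_⟩
    · haveI : IsClosedImmersion (τ ≫ pullback.snd t i) := by rw [pullback.lift_snd]; infer_instance
      haveI : IsClosedImmersion τ := IsClosedImmersion.of_comp τ (pullback.snd t i)
      exact τ.isClosedEmbedding.isClosed_range
    · let τW : S₀ ⟶ pullback (W.ι ≫ g) i := pullback.lift σW (𝟙 S₀) (by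
        rw [← Category.assoc, hσW', hσg, Category.id_comp])
      have hτW : τW ≫ pullback.snd (W.ι ≫ g) i = 𝟙 S₀ := pullback.lift_snd _ _ _
      haveI : Etale (τW ≫ pullback.snd (W.ι ≫ g) i) := by rw [hτW]; infer_instance
      haveI : Etale τW := MorphismProperty.of_postcomp (W := @Etale) (W' := @Etale) τW
        (pullback.snd (W.ι ≫ g) i) inferInstance inferInstance
      let m : pullback (W.ι ≫ g) i ⟶ pullback t i :=
        pullback.map _ _ _ _ j (𝟙 _) (𝟙 _) (by rw [Category.comp_id, hjt]) (by simp)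
      haveI : IsOpenImmersion m := inferInstance
      have hτ : τ = τW ≫ m := by
        apply pullback.hom_ext <;> simp [τ, τW, m]
      rw [hτ]
      exact (τW ≫ m).isOpenMap.isOpen_range
  obtain ⟨U, ⟨hU, hUV⟩, -⟩ := ha T t inferInstance _ hV
  have hUj : U ⊆ Set.range j := by
    have hZ : IsClosed (U ∩ (Set.range j)ᶜ) := hU.1.inter j.isOpenEmbedding.isOpen_range.isClosed_compl
    have := eq_empty ha t hZ fun z hz ⟨s₀, hs₀⟩ => by
      obtain ⟨q, hq, -⟩ := Scheme.Pullback.exists_preimage_pullback (f := t) (g := i) z s₀ hs₀.symm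
      have hqV : q ∈ Set.range τ := hUV ▸ (show (pullback.fst t i).base q ∈ U by rw [hq]; exact hz.1)
      obtain ⟨a, rfl⟩ := hqV
      refine hz.2 ⟨σW a, ?_⟩
      rw [← hq, ← Scheme.Hom.comp_apply, ← Scheme.Hom.comp_apply, pullback.lift_fst]
    intro x hx
    by_contra hn
    exact this.le ⟨hx, hn⟩
  let O : T.Opens := ⟨U, hU.2⟩
  let k : O.toScheme ⟶ W := IsOpenImmersion.lift j O.ι (by rw [Scheme.Opens.range_ι]; exact hUj)
  have hk : k ≫ j = O.ι := IsOpenImmersion.lift_fac _ _ _
  haveI : IsOpenImmersion (k ≫ j) := hk.symm ▸ inferInstance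
  haveI : IsOpenImmersion k := IsOpenImmersion.of_comp k j
  let e : O.toScheme ⟶ S := k ≫ W.ι ≫ g
  have he : e = O.ι ≫ t := by rw [← hk, Category.assoc, hjt]
  haveI : IsClosedImmersion O.ι := .of_isPreimmersion _ (by rw [Scheme.Opens.range_ι]; exact hU.1)
  haveI : IsFinite e := he ▸ inferInstance
  haveI : Etale e := inferInstance
  let σO : S₀ ⟶ O.toScheme := IsOpenImmersion.lift O.ι (σW ≫ j) (by
    rw [Scheme.Opens.range_ι]
    rintro _ ⟨a, rfl⟩
    have : τ a ∈ (pullback.fst t i).base ⁻¹' U := hUV.ge ⟨a, rfl⟩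
    rw [Set.mem_preimage, ← Scheme.Hom.comp_apply, pullback.lift_fst] at this
    exact this)
  have hσO : σO ≫ O.ι = σW ≫ j := IsOpenImmersion.lift_fac _ _ _
  have hσe : σO ≫ e = i := by rw [he, ← Category.assoc, hσO, hσt]
  -- the base change of e to S₀ is an isomorphism
  let τ₀ : S₀ ⟶ pullback e i := pullback.lift σO (𝟙 S₀) (by rw [hσe, Category.id_comp])
  haveI : IsIso (pullback.snd e i) := by
    let m : pullback e i ⟶ pullback t i :=
      pullback.map _ _ _ _ O.ι (𝟙 _) (𝟙 _) (by rw [Category.comp_id, he]) (by simp)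
    haveI : IsOpenImmersion m := inferInstance
    have hm : τ₀ ≫ m = τ := by apply pullback.hom_ext <;> simp [τ₀, τ, m, hσO]
    haveI : Surjective τ₀ := ⟨fun q => by
      have h1 : m q ∈ (pullback.fst t i).base ⁻¹' U := by
        rw [Set.mem_preimage, ← Scheme.Hom.comp_apply, pullback.lift_fst, Scheme.Hom.comp_apply]
        exact (pullback.fst e i q).2
      obtain ⟨a, ha'⟩ := hUV.le h1
      refine ⟨a, m.injective ?_⟩
      rw [← Scheme.Hom.comp_apply, hm, ha']⟩
    have hτ₀ : τ₀ ≫ pullback.snd e i = 𝟙 _ := pullback.lift_snd _ _ _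
    haveI : Etale (τ₀ ≫ pullback.snd e i) := by rw [hτ₀]; infer_instance
    haveI : Etale τ₀ := MorphismProperty.of_postcomp (W := @Etale) (W' := @Etale) τ₀
        (pullback.snd e i) inferInstance inferInstance
    haveI : IsSplitMono τ₀ := IsSplitMono.mk' ⟨pullback.snd e i, hτ₀⟩
    haveI : IsOpenImmersion τ₀ := IsOpenImmersion.of_flat_of_mono τ₀
    haveI : IsIso τ₀ := isIso_of_isOpenImmersion_of_opensRange_eq_top _
      (Opens.ext (Set.range_eq_univ.2 τ₀.surjective))
    haveI : IsIso (τ₀ ≫ pullback.snd e i) := by rw [hτ₀]; infer_instance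
    exact IsIso.of_isIso_comp_left τ₀ _
  haveI : IsIso e := by
    rw [Scheme.Hom.isIso_iff_finrank_eq]
    funext x
    by_contra hx
    have hN : IsClosed (e.finrank ⁻¹' ({1}ᶜ : Set ℕ)) := by
      rw [Set.preimage_compl]
      exact (e.isLocallyConstant_finrank.isOpen_fiber 1).isClosed_compl
    have := eq_empty ha (𝟙 S) hN fun z hz ⟨a, haz⟩ => hz (by
      show e.finrank z ∈ ({1} : Set ℕ)
      rw [show z = i a from haz.symm, ← Scheme.Hom.finrank_pullback_snd, Scheme.Hom.finrank_eq_one_of_isIso]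
      rfl)
    exact this.le (show x ∈ e.finrank ⁻¹' ({1}ᶜ : Set ℕ) from hx)
  let u : S ⟶ S' := inv e ≫ k ≫ W.ι
  have hug : u ≫ g = 𝟙 S := by simp [u, e]
  have hiu : i ≫ u = σ := by
    have h1 : i ≫ inv e = σO := by rw [← hσe, Category.assoc, IsIso.hom_inv_id, Category.comp_id]
    have h2 : σO ≫ k = σW := (cancel_mono j).1 (by rw [Category.assoc, hk, hσO])
    simp only [u]
    rw [← Category.assoc, h1, ← Category.assoc, h2, hσW']
  refine ⟨u, ⟨hug, hiu⟩, fun u' ⟨hu'g, hiu'⟩ => ?_⟩
  haveI : IsClosedImmersion (u ≫ g) := by rw [hug]; infer_instance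
  haveI : IsClosedImmersion u := IsClosedImmersion.of_comp u g
  haveI : Etale (u ≫ g) := by rw [hug]; infer_instance
  haveI : Etale u := MorphismProperty.of_postcomp (W := @Etale) (W' := @Etale) u g inferInstance inferInstance
  haveI : IsOpenImmersion u := IsOpenImmersion.of_flat_of_mono u
  have hsub : Set.range u' ⊆ Set.range u := by
    have hN : IsClosed (u'.base ⁻¹' (Set.range u)ᶜ) :=
      (u.isOpenEmbedding.isOpen_range.isClosed_compl).preimage u'.continuous
    have := eq_empty ha (𝟙 S) hN fun z hz ⟨a, haz⟩ => hz (by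
      refine ⟨z, ?_⟩
      rw [show z = i a from haz.symm, ← Scheme.Hom.comp_apply, ← Scheme.Hom.comp_apply, hiu, hiu'])
    rintro _ ⟨z, rfl⟩
    by_contra hz
    exact this.le (show z ∈ u'.base ⁻¹' (Set.range u)ᶜ from hz)
  let v := IsOpenImmersion.lift u u' hsub
  have hv : v ≫ u = u' := IsOpenImmersion.lift_fac _ _ _
  have hv1 : v = 𝟙 S := by
    have := congrArg (· ≫ g) hv
    simpa [hug, hu'g] using this
  rw [← hv, hv1, Category.id_comp]

end Groth.Agent.S5036
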