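import Mathlib.RingTheory.Henselian
import Mathlib.RingTheory.LocalRing.ResidueField.Basic
import Mathlib.RingTheory.LocalRing.RingHom.Basic
import Groth.Prelude.Def_Hensel
import Groth.Prelude.Def_Found
import Groth.Agent.Lib.HensFib6.HenselReduced

set_option autoImplicit false
universe u
open Hensel

namespace Groth.Agent.S5039

/-- Let R be a Noetherian local ring and S its henselization. Then S is universally Japanese if and only
if R is. -/
theorem result (R S : Type u) [CommRing R] [IsLocalRing R] [IsNoetherianRing R]
    [CommRing S] [IsLocalRing S] [Algebra R S] [IsLocalHom (algebraMap R S)] [Hensel.IsHenselization R S] :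
    CAlg.IsUniversallyJapanese S ↔ CAlg.IsUniversallyJapanese R := by
  haveI := Groth.Agent.Hens.henselization_isNoetherianRing R S
  rw [HensFib6.isUniversallyJapanese_iff_reducedFibres S, HensFib6.isUniversallyJapanese_iff_reducedFibres R,
    HensFib6.henselization_reduced_formalFibres_iff R S]

end Groth.Agent.S5039
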