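import Mathlib.RingTheory.Henselian
import Mathlib.RingTheory.LocalRing.ResidueField.Basic
import Mathlib.RingTheory.LocalRing.RingHom.Basic
import Groth.Prelude.Def_Hensel
import Groth.Prelude.Def_EGA4b
import Groth.Agent.Lib.UCat.Colimit
import Groth.Agent.Lib.Ratliff.Main

set_option autoImplicit false
universe u
open Hensel

namespace Groth.Agent.S5040

/-- Let R be a Noetherian local ring with henselization S. If R is formally catenary (the completion of
R/p is equidimensional for every prime ideal p), then S is formally catenary. -/
theorem result (R S : Type u) [CommRing R] [IsLocalRing R] [IsNoetherianRing R]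
    [CommRing S] [IsLocalRing S] [Algebra R S] [IsLocalHom (algebraMap R S)] [Hensel.IsHenselization R S]
    (h : EGA4.IsFormallyCatenary R) : EGA4.IsFormallyCatenary S := by
  have hS := UCat.henselization_isUniversallyCatenary R S (UCat.isUniversallyCatenary_of_formallyCatenary R h)
  haveI := hS.1
  exact Ratliff.isFormallyCatenary_of_isUniversallyCatenary S hS

end Groth.Agent.S5040
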