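import Mathlib.RingTheory.Henselian
import Mathlib.RingTheory.LocalRing.ResidueField.Basic
import Mathlib.RingTheory.LocalRing.RingHom.Basic
import Groth.Prelude.Def_Hensel
import Groth.Prelude.Def_EGA4b
import Groth.Agent.Lib.HensFib6.HenselStrict

set_option autoImplicit false
universe u
open Hensel

namespace Groth.Agent.S5041

/-- Let R be a Noetherian local ring with henselization S. If R is strictly formally catenary (for every
prime ideal p, every associated prime of the completion of R/p has quotient of dimension dim R/p),
then so is S. -/
theorem result (R S : Type u) [CommRing R] [IsLocalRing R] [IsNoetherianRing R]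
    [CommRing S] [IsLocalRing S] [Algebra R S] [IsLocalHom (algebraMap R S)] [Hensel.IsHenselization R S]
    (h : EGA4.IsFormallyStrictlyCatenary R) : EGA4.IsFormallyStrictlyCatenary S := by
  exact HensFib6.henselization_formallyStrictlyCatenary R S h

end Groth.Agent.S5041
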