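import Mathlib.RingTheory.Henselian
import Mathlib.RingTheory.LocalRing.ResidueField.Basic
import Mathlib.RingTheory.LocalRing.RingHom.Basic
import Mathlib.FieldTheory.IsSepClosed
import Groth.Prelude.Def_Hensel
import Mathlib.RingTheory.Ideal.AssociatedPrime.Basic
import Groth.Agent.Lib.Hens.Fibre

set_option autoImplicit false
universe u
open Hensel

namespace Groth.Agent.S5044

/-- Let R be a Noetherian local ring with strict henselization S. A prime ideal P of S is an associated
prime of S if and only if its inverse image in R is an associated prime of R. -/
theorem result (R S : Type u) [CommRing R] [IsLocalRing R] [IsNoetherianRing R]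
    [CommRing S] [IsLocalRing S] [Algebra R S] [IsLocalHom (algebraMap R S)] [Hensel.IsStrictHenselization R S]
    (P : Ideal S) [P.IsPrime] :
    P ∈ associatedPrimes S S ↔ P.comap (algebraMap R S) ∈ associatedPrimes R R := by
  haveI := Groth.Agent.Hens.strictHenselization_faithfullyFlat R S; haveI := Groth.Agent.Hens.strictHenselization_isNoetherianRing R S; exact Groth.Agent.Hens.mem_associatedPrimes_iff_comap (Groth.Agent.Hens.strictHenselization_unrStalks R S) P

end Groth.Agent.S5044
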