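import Groth.Statements.S5046
import Groth.Agent.Lib.UnibrConn6.DimTwoScheme

set_option autoImplicit false
open CategoryTheory AlgebraicGeometry
universe u
open Unram

namespace Groth.Agent.S5046

/-- Let A be a Noetherian local domain of Krull dimension at least 2 which is geometrically unibranch, X
a connected locally Noetherian scheme and f : X ⟶ Spec A a flat morphism. Then for every closed
subset T of X lying over the closed point of Spec A, the complement of T in X is connected. -/
theorem result (A : Type u) [CommRing A]
    [IsNoetherianRing A] [IsLocalRing A] [IsDomain A] (hA : CAlg2.IsGeomUnibranch A) (hdim : 2 ≤ ringKrullDim A)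
    {X : Scheme.{u}} [IsLocallyNoetherian X] [ConnectedSpace ↥X] (f : X ⟶ Spec (CommRingCat.of A)) [Flat f]
    (T : Set ↥X) (hT : IsClosed T) (hTy : ∀ x ∈ T, f.base x = IsLocalRing.closedPoint A) :
    IsConnected Tᶜ := by
  exact UnibrConn6.isConnected_compl_closedFibre A hA hdim f T hT hTy

end Groth.Agent.S5046
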