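import Groth.Statements.S5047
import Groth.Agent.Lib.NormFib5.Basic
import Mathlib.AlgebraicGeometry.Morphisms.FlatMono
-- import your own Groth.Agent.* helpers here

set_option autoImplicit false
open CategoryTheory AlgebraicGeometry
universe u
open Unram

set_option backward.isDefEq.respectTransparency.types false

namespace Groth.Agent.S5047

/-- Consider morphisms g : Y ⟶ S and h : X ⟶ S, both locally of finite presentation, where h is flat and
every local ring of every fibre of g is a normal domain (this holds, e.g., when g is smooth). Given
an S-morphism f : X ⟶ Y, the morphism f is an open immersion exactly when it is a monomorphism and,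
at each point x of X, the local dimension at x of the h-fibre containing x coincides with the local
dimension at f x of the g-fibre containing f x. -/
theorem result {X Y S : Scheme.{u}} (g : Y ⟶ S) (h : X ⟶ S)
    [LocallyOfFinitePresentation g] [LocallyOfFinitePresentation h] [Flat h]
    (hnorm : ∀ y : Y, IsDomain ((g.fiber (g.base y)).presheaf.stalk (g.asFiber y)) ∧
      IsIntegrallyClosed ((g.fiber (g.base y)).presheaf.stalk (g.asFiber y)))
    (f : X ⟶ Y) (w : f ≫ g = h) :
    IsOpenImmersion f ↔ (Mono f ∧ ∀ x : X, FlatMor.fibreDimAt h x = FlatMor.fibreDimAt g (f.base x)) := by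
  constructor
  · intro _
    refine ⟨inferInstance, fun x => ?_⟩
    subst w
    exact FibDim14.fibreDimAt_etale_comp f g x
  · rintro ⟨hm, hdim⟩
    haveI := hm
    have h2 : ∀ x : X, ∃ U : X.Opens, x ∈ U ∧ Etale (U.ι ≫ f) := fun x =>
      NormFib5.etale_nhd f g h w x (Flat.stalkMap h x) (hnorm (f.base x))
        ⟨⊤, trivial, IsZariskiLocalAtSource.comp (P := @FormallyUnramified) inferInstance _⟩ (hdim x)
    choose U hxU hU using h2
    haveI : Etale f := (IsZariskiLocalAtSource.iff_of_iSup_eq_top (P := @Etale) U
      (eq_top_iff.2 fun x _ => TopologicalSpace.Opens.mem_iSup.2 ⟨x, hxU x⟩)).2 hU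
    exact IsOpenImmersion.of_flat_of_mono f

end Groth.Agent.S5047
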