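import Groth.Statements.S5048
import Groth.Agent.Lib.FlatQF5.Basic
-- import your own Groth.Agent.* helpers here

set_option autoImplicit false
open CategoryTheory AlgebraicGeometry
universe u
open Unram

namespace Groth.Agent.S5048

/-- Let Y be an irreducible scheme with generic point η and f : X ⟶ Y flat, locally of finite type and
locally quasi-finite. Then a point x of X maps to η if and only if its closure is an irreducible
component of X; thus the irreducible components of X are in canonical bijection with the fibre over
η. -/
theorem result {X Y : Scheme.{u}} [IrreducibleSpace ↥Y] (f : X ⟶ Y)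
    [Flat f] [LocallyOfFiniteType f] [LocallyQuasiFinite f] (x : X) :
    f.base x = genericPoint Y ↔ closure ({x} : Set ↥X) ∈ irreducibleComponents ↥X := by
  have hgen : ∀ y : Y, y ∈ genericPoints ↥Y ↔ y = genericPoint ↥Y := fun y => by
    rw [FlatQF5.mem_genericPoints_iff]
    exact ⟨fun h => (h _ (genericPoint_specializes y)).symm, fun h w hw =>
      ((h ▸ genericPoint_specializes w : y ⤳ w).antisymm hw).eq.symm⟩
  exact ⟨fun h => FlatQF5.mem_genericPoints_of_map f ((hgen _).2 h),
    fun h => (hgen _).1 (FlatQF5.map_mem_genericPoints f h)⟩

end Groth.Agent.S5048
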