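import Groth.Statements.S5049
import Groth.Agent.Lib.FlatQF5.Basic
-- import your own Groth.Agent.* helpers here

set_option autoImplicit false
set_option backward.isDefEq.respectTransparency false
open CategoryTheory AlgebraicGeometry
universe u
open Unram

namespace Groth.Agent.S5049

/-- Let f : X ⟶ Y be flat, locally of finite type and locally quasi-finite. If the irreducible
components of Y form a locally finite family of subsets, then so do the irreducible components of X. -/
theorem result {X Y : Scheme.{u}} (f : X ⟶ Y)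
    [Flat f] [LocallyOfFiniteType f] [LocallyQuasiFinite f]
    (hY : LocallyFinite (fun Z : ↥(irreducibleComponents ↥Y) => (Z : Set ↥Y))) :
    LocallyFinite (fun Z : ↥(irreducibleComponents ↥X) => (Z : Set ↥X)) := by
  intro x
  obtain ⟨W, hW, hfin⟩ := hY (f.base x)
  obtain ⟨W', hW'W, hW'o, hxW'⟩ := mem_nhds_iff.1 hW
  obtain ⟨_, ⟨U, hU, rfl⟩, hxU, hUW⟩ := Y.isBasis_affineOpens.exists_subset_of_mem_open hxW' hW'o
  obtain ⟨_, ⟨V, hV, rfl⟩, hxV, hVU⟩ :=
    X.isBasis_affineOpens.exists_subset_of_mem_open hxU (U.2.preimage f.continuous)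
  change X.Opens at V
  change Y.Opens at U
  refine ⟨V, V.2.mem_nhds hxV, ?_⟩
  -- generic points of `Y` in `U`
  let G : Set Y := {y | y ∈ genericPoints ↥Y ∧ y ∈ U}
  have hG : G.Finite := by
    refine Set.Finite.subset ((hfin.image fun Z => genericPoints.ofComponent Z).image Subtype.val) ?_
    rintro y ⟨hy, hyU⟩
    exact ⟨⟨y, hy⟩, ⟨genericPoints.component ⟨y, hy⟩, ⟨y, subset_closure rfl, hW'W (hUW hyU)⟩,
      genericPoints.ofComponent_component _⟩, rfl⟩

  let GX : Set X := {z | z ∈ genericPoints ↥X ∧ z ∈ V}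
  have hGX : GX.Finite := by
    haveI : IsAffine U := hU
    haveI : IsAffine V := hV
    let r := f.resLE U V hVU
    haveI : LocallyQuasiFinite r := by
      have h1 : LocallyQuasiFinite (r ≫ U.ι) := by rw [Scheme.Hom.resLE_comp_ι]; infer_instance
      exact LocallyQuasiFinite.of_comp r U.ι
    have hfinV : {v : V | r v ∈ U.ι ⁻¹' G}.Finite := r.finite_preimage (hG.preimage U.ι.isOpenEmbedding.injective.injOn)
    refine Set.Finite.subset (hfinV.image V.ι) ?_
    rintro z ⟨hz, hzV⟩
    refine ⟨⟨z, hzV⟩, ?_, rfl⟩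
    have hr : U.ι (r ⟨z, hzV⟩) = f z := by
      rw [← Scheme.Hom.comp_apply, Scheme.Hom.resLE_comp_ι]; rfl
    show U.ι (r ⟨z, hzV⟩) ∈ G
    rw [hr]
    exact ⟨FlatQF5.map_mem_genericPoints f hz, hVU hzV⟩
  haveI := hGX.to_subtype
  refine Set.Finite.subset ((Set.finite_range fun z : GX => genericPoints.component ⟨z.1, z.2.1⟩)) ?_
  rintro Z ⟨z, hzZ, hzV⟩
  have hsp : (genericPoints.ofComponent Z).1 ⤳ z := (Z.2.1.isGenericPoint_genericPoint
    (isClosed_of_mem_irreducibleComponents _ Z.2)).specializes hzZ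
  exact ⟨⟨_, (genericPoints.ofComponent Z).2, hsp.mem_open V.2 hzV⟩, genericPoints.component_ofComponent _⟩

end Groth.Agent.S5049
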