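import Groth.Statements.S5051
import Groth.Agent.Lib.GeomPts5.EtaleCase
import Groth.Agent.Lib.EtStalk.FiniteSplit
-- import your own Groth.Agent.* helpers here

set_option autoImplicit false
open CategoryTheory AlgebraicGeometry
universe u
open Unram

namespace Groth.Agent.S5051

/-- Let f : X ⟶ Y be étale, separated and of finite type. Then y ↦ (number of points of the geometric
fibre of f at y) is lower semicontinuous on Y. -/
theorem result {X Y : Scheme.{u}} (f : X ⟶ Y) [Etale f] [IsSeparated f]
    [LocallyOfFiniteType f] [QuasiCompact f] :
    LowerSemicontinuous (fun y : Y => ENat.card ↥(MoreMor.geomFiber f y)) := by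
  haveI : LocallyQuasiFinite f := FiniteSplit.locallyQuasiFinite_of_etale f
  have h := GeomPts5.lowerSemicontinuous_of_flat f
  simp only [GeomPts5.nGeomConnComp_eq] at h
  exact h

end Groth.Agent.S5051
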