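import Groth.Statements.S5053
import Groth.Agent.Lib.GeomPts5.EtaleCase
import Groth.Agent.Lib.EtStalk.FiniteSplit
-- import your own Groth.Agent.* helpers here

set_option autoImplicit false
open CategoryTheory AlgebraicGeometry
universe u
open Unram

namespace Groth.Agent.S5053

/-- Let Y be a connected scheme and f : X ⟶ Y étale, separated and of finite type. Then f is finite if
and only if all geometric fibres of f have the same number of points. -/
theorem result {X Y : Scheme.{u}} [ConnectedSpace ↥Y] (f : X ⟶ Y)
    [Etale f] [IsSeparated f] [LocallyOfFiniteType f] [QuasiCompact f] :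
    IsFinite f ↔ ∃ n : ℕ∞, ∀ y : Y, ENat.card ↥(MoreMor.geomFiber f y) = n := by
  haveI : LocallyQuasiFinite f := FiniteSplit.locallyQuasiFinite_of_etale f
  simp only [GeomPts5.card_geomFiber_eq]
  constructor
  · intro hfin
    obtain ⟨y₀⟩ := (inferInstance : Nonempty Y)
    have hlc : IsLocallyConstant fun y => MoreMor.nGeomConnComp f y := by
      simp only [GeomPts5.nGeomConnComp_eq_finrank]
      exact (f.isLocallyConstant_finrank).comp _
    exact ⟨_, fun y => hlc.apply_eq_of_isPreconnected isPreconnected_univ (Set.mem_univ y) (Set.mem_univ y₀)⟩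
  · rintro ⟨n, hn⟩
    choose V hV hfin using fun y => GeomPts5.exists_isFinite_nhd f y
      (fun x _ => Unibr4.isUnivOpenAt_of_universallyOpen f x) ⟨Set.univ, Filter.univ_mem, fun z _ => by rw [hn, hn]⟩
    refine IsZariskiLocalAtTarget.of_iSup_eq_top (P := @IsFinite) V ?_ hfin
    exact eq_top_iff.2 fun y _ => TopologicalSpace.Opens.mem_iSup.2 ⟨y, hV y⟩

end Groth.Agent.S5053
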