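import Mathlib.AlgebraicGeometry.Morphisms.Finite
import Mathlib.AlgebraicGeometry.Morphisms.ClosedImmersion
import Groth.Agent.Lib.Hens.ClopenLift

set_option autoImplicit false
open CategoryTheory CategoryTheory.Limits AlgebraicGeometry
universe u
namespace Hensel
end Hensel
open Hensel

namespace Groth.Agent.S5057

/-- Let i : S₀ ⟶ S be a closed immersion such that for every finite morphism g : S' ⟶ S every
open-closed subset of S' ×_S S₀ is the inverse image under the first projection of exactly one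
open-closed subset of S'. Then for every finite morphism g : S' ⟶ S, every open subset of S'
containing the image of S' ×_S S₀ is all of S'. -/
theorem result {S S₀ : Scheme.{u}} (i : S₀ ⟶ S) [IsClosedImmersion i]
    (ha : ∀ (S' : Scheme.{u}) (g : S' ⟶ S), IsFinite g →
      ∀ V : Set ↥(pullback g i), IsClopen V → ∃! U : Set ↥S', IsClopen U ∧ (pullback.fst g i).base ⁻¹' U = V)
    {S' : Scheme.{u}} (g : S' ⟶ S) [IsFinite g] (U : Set ↥S') (hU : IsOpen U)
    (hU₀ : Set.range (pullback.fst g i).base ⊆ U) : U = Set.univ := by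
  let Z : TopologicalSpace.Closeds ↥S' := ⟨Uᶜ, hU.isClosed_compl⟩
  let J := Scheme.IdealSheafData.vanishingIdeal Z
  have hr : Set.range J.subschemeι.base = Uᶜ := by
    rw [Scheme.IdealSheafData.range_subschemeι, Scheme.IdealSheafData.coe_support_vanishingIdeal]
    rfl
  have hempty : IsEmpty ↥(pullback (J.subschemeι ≫ g) i) := by
    refine ⟨fun p => ?_⟩
    have hp : (pullback.fst (J.subschemeι ≫ g) i).base p ∈ Set.range (pullback.fst (J.subschemeι ≫ g) i).base := ⟨p, rfl⟩
    rw [Scheme.Pullback.range_fst] at hp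
    have h1 : J.subschemeι.base ((pullback.fst (J.subschemeι ≫ g) i).base p) ∈ Uᶜ := hr ▸ ⟨_, rfl⟩
    refine h1 (hU₀ ?_)
    rw [Scheme.Pullback.range_fst]
    exact hp
  obtain ⟨W, -, huniq⟩ := ha J.subscheme (J.subschemeι ≫ g) inferInstance ∅ isClopen_empty
  have h1 := huniq ∅ ⟨isClopen_empty, Set.eq_empty_of_isEmpty _⟩
  have h2 := huniq Set.univ ⟨isClopen_univ, Set.eq_empty_of_isEmpty _⟩
  rw [Set.eq_univ_iff_forall]
  intro x
  by_contra hx
  obtain ⟨z, rfl⟩ : x ∈ Set.range J.subschemeι.base := hr ▸ hx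
  exact (h2.trans h1.symm).le (Set.mem_univ z)

end Groth.Agent.S5057
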