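import Groth.Statements.S5058
import Groth.Agent.S0591
import Groth.Agent.S0506
import Groth.Agent.S0507
import Groth.Agent.S0511
import Groth.Agent.Lib.ConsH13.Approx

set_option autoImplicit false
open CategoryTheory CategoryTheory.Limits AlgebraicGeometry
universe u
open Hensel

namespace Groth.Agent.S5058


section Aux
open CategoryTheory Limits AlgebraicGeometry Opposite Groth.Agent.ConsH13

theorem main (A : Type u) [CommRing A] [HenselianLocalRing A]
    {X : Scheme.{u}} (f : X ⟶ Spec (CommRingCat.of A)) [LocallyOfFinitePresentation f] [QuasiCompact f] [QuasiSeparated f] :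
    ∃ (A₀ : Type u) (_ : CommRing A₀) (_ : HenselianLocalRing A₀) (_ : IsNoetherianRing A₀) (φ : A₀ →+* A) (_ : IsLocalHom φ)
      (X₀ : Scheme.{u}) (f₀ : X₀ ⟶ Spec (CommRingCat.of A₀)) (g : X ⟶ X₀),
      LocallyOfFiniteType f₀ ∧ QuasiCompact f₀ ∧ IsPullback g f f₀ (Spec.map (CommRingCat.ofHom φ)) := by
  haveI : @LocallyOfFinitePresentation X (approxCone A).pt f := ‹LocallyOfFinitePresentation f›
  haveI : @QuasiCompact X (approxCone A).pt f := ‹QuasiCompact f›
  haveI : @QuasiSeparated X (approxCone A).pt f := ‹QuasiSeparated f›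
  obtain ⟨S, Xi, fi, gi, h1, h2, -, hsq⟩ :=
    Groth.Agent.S0591.result (approxDiagram A) (approxCone A) (isLimitApproxCone A) X f
  let A₁ := S.unop.1
  haveI : IsNoetherianRing A₁ := inferInstanceAs (IsNoetherianRing ((subFunctor A).obj S.unop))
  let j : A₁ →+* A := A₁.val.toRingHom
  let p : Ideal A₁ := (IsLocalRing.maximalIdeal A).comap j
  haveI : p.IsPrime := Ideal.IsPrime.comap j
  let R := Localization.AtPrime p
  have hunit : ∀ y : p.primeCompl, IsUnit (j y) := fun y => by
    by_contra h
    exact y.2 h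
  let fR : R →+* A := IsLocalization.lift hunit
  haveI : IsLocalHom fR := ⟨fun x hx => by
    obtain ⟨a, s, rfl⟩ := IsLocalization.exists_mk'_eq p.primeCompl x
    have h3 : IsUnit (fR (algebraMap A₁ R a)) := by
      rw [← IsLocalization.mk'_spec R a s, map_mul]
      exact hx.mul (by rw [IsLocalization.lift_eq]; exact hunit s)
    rw [IsLocalization.lift_eq] at h3
    exact (IsLocalization.AtPrime.isUnit_mk'_iff R p a s).2 (fun h => h h3)⟩
  obtain ⟨A₀, _, _, _, _, hH⟩ := Groth.Agent.S0506.result R
  haveI := hH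
  haveI := hH.henselian
  haveI : IsNoetherianRing A₀ := (Groth.Agent.S0511.result R A₀).1 inferInstance
  obtain ⟨ψ, hψ, -⟩ := hH.universal A fR inferInstance
  haveI : IsLocalHom ψ := ⟨fun x hx => by
    by_contra hnu
    have hmem : x ∈ IsLocalRing.maximalIdeal A₀ := hnu
    rw [← Groth.Agent.S0507.result R A₀] at hmem
    have h3 : ψ x ∈ ((IsLocalRing.maximalIdeal R).map (algebraMap R A₀)).map ψ :=
      Ideal.mem_map_of_mem _ hmem
    rw [Ideal.map_map, hψ] at h3
    refine (?_ : (IsLocalRing.maximalIdeal R).map fR ≤ IsLocalRing.maximalIdeal A) h3 hx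
    rw [Ideal.map_le_iff_le_comap]
    exact fun z hz hu => hz (isUnit_of_map_unit fR z hu)⟩
  let ι : CommRingCat.of A₁ ⟶ CommRingCat.of A₀ :=
    CommRingCat.ofHom ((algebraMap R A₀).comp (algebraMap A₁ R))
  have hc : Spec.map (CommRingCat.ofHom ψ) ≫ Spec.map ι = (approxCone A).π.app S := by
    rw [← Spec.map_comp]
    show Spec.map _ = Spec.map (CommRingCat.ofHom j)
    congr 1
    ext x
    show ψ (algebraMap R A₀ (algebraMap A₁ R x)) = j x
    rw [← RingHom.comp_apply, hψ, IsLocalization.lift_eq]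
  haveI := h1
  haveI := h2
  let b : Spec (CommRingCat.of A₀) ⟶ (approxDiagram A).obj S := Spec.map ι
  let g : X ⟶ pullback fi b := pullback.lift gi (f ≫ Spec.map (CommRingCat.ofHom ψ))
    (by rw [hsq.w, Category.assoc]; congr 1; exact hc.symm)
  refine ⟨A₀, inferInstance, inferInstance, inferInstance, ψ, inferInstance, pullback fi b,
    pullback.snd fi b, g, inferInstance, inferInstance, ?_⟩
  refine IsPullback.of_right ?_ (pullback.lift_snd _ _ _) (IsPullback.of_hasPullback fi b)
  have e1 : g ≫ pullback.fst fi b = gi := pullback.lift_fst _ _ _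
  rw [e1]
  show IsPullback gi f fi (Spec.map (CommRingCat.ofHom ψ) ≫ Spec.map ι)
  exact hc.symm ▸ hsq

end Aux



/-- Let A be a henselian local ring and f : X ⟶ Spec A a morphism of finite presentation. Then there
exist a Noetherian henselian local ring A₀, a local ring homomorphism φ : A₀ → A, a morphism of
finite type f₀ : X₀ ⟶ Spec A₀ and a cartesian square exhibiting X as the base change of X₀ along
Spec φ. -/
theorem result (A : Type u) [CommRing A] [HenselianLocalRing A]
    {X : Scheme.{u}} (f : X ⟶ Spec (CommRingCat.of A)) [LocallyOfFinitePresentation f] [QuasiCompact f] [QuasiSeparated f] :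
    ∃ (A₀ : Type u) (_ : CommRing A₀) (_ : HenselianLocalRing A₀) (_ : IsNoetherianRing A₀) (φ : A₀ →+* A) (_ : IsLocalHom φ)
      (X₀ : Scheme.{u}) (f₀ : X₀ ⟶ Spec (CommRingCat.of A₀)) (g : X ⟶ X₀),
      LocallyOfFiniteType f₀ ∧ QuasiCompact f₀ ∧ IsPullback g f f₀ (Spec.map (CommRingCat.ofHom φ)) := by
  exact main A f

end Groth.Agent.S5058
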