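import Groth.Prelude.Def_EGA4b
import Mathlib.RingTheory.Regular.RegularSequence
import Mathlib.RingTheory.Flat.Basic
import Mathlib.RingTheory.Ideal.AssociatedPrime.Basic
import Mathlib.Algebra.Module.LocalizedModule.Basic
import Mathlib.RingTheory.Localization.AtPrime.Basic
import Mathlib.RingTheory.Jacobson.Ideal
import Mathlib.RingTheory.Ideal.Quotient.Operations
import Groth.Agent.Lib.NormFlat.RegFlat

set_option autoImplicit false
universe u
namespace CInt
end CInt
open CInt

namespace Groth.Agent.S5059

/-- a) iff c) in the Noetherian case: let A be a Noetherian ring, R an ideal of A, f_1, …, f_n elements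
of the Jacobson radical of A whose images form a regular sequence on A/R, Q = R + (f_1, …, f_n), and
M a finitely generated A-module. Then every graded piece R^k M / R^(k+1) M is flat over A/R if and
only if, for every k, (R^k M / R^(k+1) M) ⊗ A/Q is flat over A/Q and f_1, …, f_n is a regular
sequence on R^k M / R^(k+1) M. -/
theorem result (A : Type u) [CommRing A] [IsNoetherianRing A]
    (R : Ideal A) {n : ℕ} (f : Fin n → A) (hrad : ∀ i, f i ∈ (⊥ : Ideal A).jacobson)
    (hreg : RingTheory.Sequence.IsWeaklyRegular (A ⧸ R) (List.ofFn f))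
    (M : Type u) [AddCommGroup M] [Module A M] [Module.Finite A M] :
    EGA4.IsNormallyFlat R M ↔
      ∀ k : ℕ, Module.Flat (A ⧸ (R ⊔ Ideal.span (Set.range f))) ((↥(R ^ k • (⊤ : Submodule A M)) ⧸ (R • (⊤ : Submodule A ↥(R ^ k • (⊤ : Submodule A M))))) ⧸ ((R ⊔ Ideal.span (Set.range f)) • (⊤ : Submodule A (↥(R ^ k • (⊤ : Submodule A M)) ⧸ (R • (⊤ : Submodule A ↥(R ^ k • (⊤ : Submodule A M)))))))) ∧
        RingTheory.Sequence.IsWeaklyRegular (↥(R ^ k • (⊤ : Submodule A M)) ⧸ (R • (⊤ : Submodule A ↥(R ^ k • (⊤ : Submodule A M))))) (List.ofFn f) := by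
  haveI : IsNoetherian A M := isNoetherian_of_isNoetherianRing_of_finite A M
  unfold EGA4.IsNormallyFlat
  refine forall_congr' fun k => ?_
  exact Groth.Agent.NormFlat.flat_quotient_iff' R _ f rfl hrad hreg

end Groth.Agent.S5059
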