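import Groth.Agent.Lib.NormFlat6.Main

set_option autoImplicit false
universe u
namespace CInt
end CInt
open CInt

namespace Groth.Agent.S5060

/-- a) iff d) in the Noetherian case: let A be a Noetherian ring, R an ideal, f_1, …, f_n elements of
the Jacobson radical of A forming a regular sequence on A/R and on every R^k/R^(k+1), Q = R + (f_1,
…, f_n), and M a finitely generated A-module. Then every R^k M / R^(k+1) M is flat over A/R if and
only if every Q^k M / Q^(k+1) M is flat over A/Q and, for every associated prime p of A/Q viewed as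
an (A/R)-module, every localized piece (R^k M / R^(k+1) M)_p is flat over (A/R)_p. -/
theorem result (A : Type u) [CommRing A] [IsNoetherianRing A]
    (R : Ideal A) {n : ℕ} (f : Fin n → A) (hrad : ∀ i, f i ∈ (⊥ : Ideal A).jacobson)
    (hreg : RingTheory.Sequence.IsWeaklyRegular (A ⧸ R) (List.ofFn f))
    (hreggr : ∀ k : ℕ, RingTheory.Sequence.IsWeaklyRegular (↥(R ^ k • (⊤ : Submodule A A)) ⧸ (R • (⊤ : Submodule A ↥(R ^ k • (⊤ : Submodule A A))))) (List.ofFn f))
    (M : Type u) [AddCommGroup M] [Module A M] [Module.Finite A M] :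
    EGA4.IsNormallyFlat R M ↔
      EGA4.IsNormallyFlat (R ⊔ Ideal.span (Set.range f)) M ∧
        ∀ (p : Ideal (A ⧸ R)) [p.IsPrime],
          p ∈ associatedPrimes (A ⧸ R) ((A ⧸ R) ⧸ Ideal.map (Ideal.Quotient.mk R) (R ⊔ Ideal.span (Set.range f))) →
            ∀ k : ℕ, Module.Flat (Localization.AtPrime p) (LocalizedModule p.primeCompl (↥(R ^ k • (⊤ : Submodule A M)) ⧸ (R • (⊤ : Submodule A ↥(R ^ k • (⊤ : Submodule A M)))))) := by
  obtain ⟨Q, hQ⟩ : ∃ Q, Q = R ⊔ Ideal.span (Set.range f) := ⟨_, rfl⟩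
  rw [← hQ]
  haveI : IsNoetherian A M := isNoetherian_of_isNoetherianRing_of_finite A M
  have hof : Ideal.ofList (List.ofFn f) = Ideal.span (Set.range f) := by
    refine congrArg Ideal.span (Set.ext fun a => ?_)
    simp [List.mem_ofFn]
  have hQ' : Q = R ⊔ Ideal.ofList (List.ofFn f) := by rw [hof, hQ]
  have hRQ : R ≤ Q := hQ ▸ le_sup_left
  have crit : ∀ k, Module.Flat (A ⧸ R) (NormFlat6.GrR R M k) ↔
      NormFlat6.FlQ Q (NormFlat6.GrR R M k) ∧
        RingTheory.Sequence.IsWeaklyRegular (NormFlat6.GrR R M k) (List.ofFn f) :=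
    fun k => NormFlat.flat_quotient_iff' R Q f hQ.symm hrad hreg
  unfold EGA4.IsNormallyFlat
  constructor
  · intro h
    refine ⟨fun k => ?_, fun p _ _ k => ?_⟩
    · exact (NormFlat6.flQ_gradedQ R (List.ofFn f) hQ' k
        fun t _ => ⟨((crit t).1 (h t)).2, ((crit t).1 (h t)).1⟩).2 ((crit k).1 (h k)).1
    · haveI := h k
      infer_instance
  · rintro ⟨h1, h2⟩ k
    induction k using Nat.strong_induction_on with
    | _ k ih =>
      have hG : NormFlat6.FlQ Q (NormFlat6.GrR R M k) := (NormFlat6.flQ_gradedQ R (List.ofFn f) hQ' k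
        fun t ht => ⟨((crit t).1 (ih t ht)).2, ((crit t).1 (ih t ht)).1⟩).1 (h1 k)
      refine (crit k).2 ⟨hG, ?_⟩
      refine NormFlat6.isWeaklyRegular_of_locRegular (Q := Q) _ (fun r hr => ?_)
        (NormFlat6.smul_top_GrR_eq R hQ' k).le ?_
        (NormFlat6.locRegular_of_flat R (List.ofFn f) hRQ hreg fun p _ hp => h2 p hp k)
      · obtain ⟨i, rfl⟩ := List.mem_ofFn.mp hr
        exact hrad i
      · rw [← NormFlat6.smul_top_GrR_eq R hQ' k]
        exact (NormFlat6.flQ_top _).2 hG

end Groth.Agent.S5060
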