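import Groth.Statements.S5062
import Groth.Agent.Lib.HensQF6.Sections
import Groth.Agent.S0502
import Mathlib.RingTheory.Etale.StandardEtale

set_option autoImplicit false
open CategoryTheory AlgebraicGeometry
universe u
open Hensel

namespace Groth.Agent.S5062

/-- a) iff c): a local ring A is henselian with separably closed residue field if and only if, for every
étale morphism f : X ⟶ Spec A and every point x of X lying over the closed point s, there is a
section u of f with u s = x. -/
theorem result (A : Type u) [CommRing A] [IsLocalRing A] :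
    (HenselianLocalRing A ∧ IsSepClosed (IsLocalRing.ResidueField A)) ↔
      ∀ (X : Scheme.{u}) (f : X ⟶ Spec (CommRingCat.of A)), Etale f →
        ∀ x : X, f.base x = IsLocalRing.closedPoint A →
          ∃ u : Spec (CommRingCat.of A) ⟶ X, u ≫ f = 𝟙 _ ∧ u.base (IsLocalRing.closedPoint A) = x := by
  constructor
  · rintro ⟨_, _⟩ X f hf x hx
    obtain ⟨t, ht, hxt⟩ := HensQF6.exists_residue_point f x hx
    obtain ⟨s, ⟨hs1, hs2⟩, -⟩ := HensQF6.existsUnique_section f t ht
    refine ⟨s, hs1, ?_⟩
    rw [← hxt, ← hs2]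
    exact congrArg s.base (IsLocalRing.comap_closedPoint (IsLocalRing.residue A)).symm
  intro H
  have key : ∀ (S : Type u) [CommRing S] [Algebra A S] [Algebra.Etale A S] (q : Ideal S) [q.IsPrime],
      q.LiesOver (IsLocalRing.maximalIdeal A) → Nonempty (S →ₐ[A] A) := by
    intro S _ _ _ q _ hq
    haveI : Etale (Spec.map (CommRingCat.ofHom (algebraMap A S))) :=
      (HasRingHomProperty.Spec_iff (P := @Etale)).2 (RingHom.etale_algebraMap.2 inferInstance)
    obtain ⟨u, hu, -⟩ := H (Spec (CommRingCat.of S)) (Spec.map (CommRingCat.ofHom (algebraMap A S)))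
      this ⟨q, inferInstance⟩ (PrimeSpectrum.ext hq.over.symm)
    obtain ⟨τ, rfl⟩ := Spec.map_surjective u
    rw [← Spec.map_comp, ← Spec.map_id] at hu
    exact ⟨{ τ.hom with commutes' := fun r => congr($(Spec.map_injective hu).hom r) }⟩
  refine ⟨S0502.result A fun S _ _ _ q _ hq _ => key S q hq, IsSepClosed.of_exists_root _ fun p hp hirr hsep => ?_⟩
  have hsurj : Function.Surjective (IsLocalRing.residue A) := IsLocalRing.residue_surjective
  obtain ⟨F, hF, -, hFm⟩ := Polynomial.lifts_and_degree_eq_and_monic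
    (show p ∈ Polynomial.lifts (IsLocalRing.residue A) from (Polynomial.mem_lifts _).2
      (Polynomial.map_surjective _ hsurj p)) hp
  let P : StandardEtalePair A := ⟨F, hFm, Polynomial.derivative F, ⟨1, 0, 1, by ring⟩⟩
  haveI : Fact (Irreducible p) := ⟨hirr⟩
  let ρ : A →+* AdjoinRoot p := (AdjoinRoot.of p).comp (IsLocalRing.residue A)
  letI : Algebra A (AdjoinRoot p) := ρ.toAlgebra
  have hmap : P.HasMap (AdjoinRoot.root p) := by
    have e : ∀ G : Polynomial A, Polynomial.aeval (AdjoinRoot.root p) G =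
        Polynomial.aeval (AdjoinRoot.root p) (G.map (IsLocalRing.residue A)) := fun G => by
      rw [Polynomial.aeval_def, Polynomial.aeval_def, Polynomial.eval₂_map]; rfl
    refine ⟨?_, ?_⟩
    · rw [e, hF, AdjoinRoot.aeval_eq, AdjoinRoot.mk_self]
    · rw [e, ← Polynomial.derivative_map, hF, AdjoinRoot.aeval_eq, isUnit_iff_ne_zero]
      have h := hsep.aeval_derivative_ne_zero (x := AdjoinRoot.root p)
        (by rw [AdjoinRoot.aeval_eq, AdjoinRoot.mk_self])
      rwa [AdjoinRoot.aeval_eq] at h
  let π := P.lift (AdjoinRoot.root p) hmap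
  have hq : (RingHom.ker π.toRingHom).LiesOver (IsLocalRing.maximalIdeal A) := ⟨by
    ext r
    rw [Ideal.mem_comap, RingHom.mem_ker, ← IsLocalRing.residue_eq_zero_iff]
    show _ ↔ π (algebraMap A P.Ring r) = 0
    rw [π.commutes]
    exact (map_eq_zero (AdjoinRoot.of p)).symm⟩
  haveI : (RingHom.ker π.toRingHom).IsPrime := RingHom.ker_isPrime _
  obtain ⟨g⟩ := key P.Ring _ hq
  refine ⟨IsLocalRing.residue A (g P.X), ?_⟩
  have h0 := (P.hasMap_X.map g).1
  rw [← hF, Polynomial.eval_map, Polynomial.eval₂_hom]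
  rw [Polynomial.coe_aeval_eq_eval] at h0
  rw [h0, map_zero]

end Groth.Agent.S5062
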