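import Groth.Statements.S5064
import Groth.Agent.Lib.Descend.EtaleLocalImm
-- import your own Groth.Agent.* helpers here

set_option autoImplicit false
open CategoryTheory CategoryTheory.Limits AlgebraicGeometry
universe u
open Unram

namespace Groth.Agent.S5064

/-- Let f : X ⟶ Y be locally of finite presentation. If f is étale then there are étale morphisms g_a :
Y'_a ⟶ Y and opens U_a of the fibre products X ×_Y Y'_a whose images under the first projections
cover X, such that each U_a ⟶ Y'_a (inclusion followed by the second projection) is an open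
immersion. Conversely, the existence of such a family with the g_a only assumed flat implies that f
is étale. -/
theorem result {X Y : Scheme.{u}} (f : X ⟶ Y) [LocallyOfFinitePresentation f] :
    (Etale f → ∃ (ι : Type u) (Y' : ι → Scheme.{u}) (g : ∀ a, Y' a ⟶ Y) (U : ∀ a, (pullback f (g a)).Opens),
      (∀ a, Etale (g a)) ∧ (∀ x : X, ∃ a, x ∈ (pullback.fst f (g a)).base '' (U a : Set ↥(pullback f (g a)))) ∧
        ∀ a, IsOpenImmersion ((U a).ι ≫ pullback.snd f (g a))) ∧
    ((∃ (ι : Type u) (Y' : ι → Scheme.{u}) (g : ∀ a, Y' a ⟶ Y) (U : ∀ a, (pullback f (g a)).Opens),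
      (∀ a, Flat (g a)) ∧ (∀ x : X, ∃ a, x ∈ (pullback.fst f (g a)).base '' (U a : Set ↥(pullback f (g a)))) ∧
        ∀ a, IsOpenImmersion ((U a).ι ≫ pullback.snd f (g a))) → Etale f) := by
  constructor
  · intro _
    obtain ⟨U, hU, hcov⟩ := Groth.Agent.Descend.exists_opens_of_lift f f ⊤ (⊤ : X.Opens).ι rfl
      @IsOpenImmersion inferInstance
    exact ⟨PUnit, fun _ => X, fun _ => f, fun _ => U, fun _ => inferInstance,
      fun x => ⟨PUnit.unit, hcov (Set.mem_univ x)⟩, fun _ => hU⟩
  · rintro ⟨ι, Y', g, U, hg, hcov, hU⟩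
    have hloc : ∀ x : X, ∃ V : X.Opens, x ∈ V ∧ Etale (V.ι ≫ f) := fun x => by
      obtain ⟨a, z, hz, rfl⟩ := hcov x
      haveI := hg a
      haveI := hU a
      exact Groth.Agent.Descend.etale_nhd_of_flat_baseChange
        (IsPullback.of_hasPullback f (g a)) z ⟨U a, hz, inferInstance⟩
    choose V hxV hV using hloc
    exact (IsZariskiLocalAtSource.iff_of_openCover (P := @Etale)
      (X.openCoverOfIsOpenCover V
        (TopologicalSpace.IsOpenCover.mk (top_le_iff.1 fun x _ =>
          TopologicalSpace.Opens.mem_iSup.2 ⟨x, hxV x⟩)))).2 hV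

end Groth.Agent.S5064
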