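import Groth.Statements.S5065
import Mathlib

set_option autoImplicit false
universe u
open Unram

namespace Groth.Agent.S5065

open TensorProduct
section Aux
variable {A' S K L₁ : Type u} [CommRing A'] [IsDomain A'] [IsIntegrallyClosed A'] [CommRing S] [Algebra A' S]
  [Algebra.Etale A' S] [Algebra.IsIntegral A' S] [Field K] [Algebra A' K] [IsFractionRing A' K]
  [Field L₁] [Algebra A' L₁]

theorem key (Φ : S ⊗[A'] K →ₐ[A'] L₁) (hsurj : Function.Surjective Φ) :
    (Φ.comp Algebra.TensorProduct.includeLeft : S →ₐ[A'] L₁).range = integralClosure A' L₁ ∧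
      Algebra.Etale A' (integralClosure A' L₁) := by
  classical
  haveI : Algebra.Etale K (K ⊗[A'] S) := inferInstance
  haveI : IsReduced (K ⊗[A'] S) := Algebra.FormallyUnramified.isReduced_of_field K (K ⊗[A'] S)
  haveI : Module.Finite K (K ⊗[A'] S) := Algebra.FormallyUnramified.finite_of_free K (K ⊗[A'] S)
  haveI : IsArtinianRing (K ⊗[A'] S) := isArtinian_of_tower K inferInstance
  let c : K ⊗[A'] S ≃ₐ[A'] S ⊗[A'] K := Algebra.TensorProduct.comm A' K S
  haveI : IsArtinianRing (S ⊗[A'] K) := c.toRingEquiv.isArtinianRing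
  haveI : IsReduced (S ⊗[A'] K) := isReduced_of_injective c.symm c.symm.injective
  haveI : IsSemisimpleRing (S ⊗[A'] K) := IsArtinianRing.isSemisimpleRing_of_isReduced (S ⊗[A'] K)
  obtain ⟨e, he, hker⟩ := IsSemisimpleRing.ideal_eq_span_idempotent (RingHom.ker Φ)
  have hS : ∀ t : S ⊗[A'] K, IsIntegral A' t → ∃ s : S, s ⊗ₜ[A'] (1 : K) = t := by
    intro t ht
    obtain ⟨z, hz⟩ := (TensorProduct.toIntegralClosure_bijective_of_smooth (R := A') (S := S) (B := K)).2
      ⟨t, ht.tower_top⟩
    have hz' : (TensorProduct.toIntegralClosure A' S K z : S ⊗[A'] K) = t := congrArg Subtype.val hz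
    clear hz
    suffices ∀ z, ∃ s : S, s ⊗ₜ[A'] (1 : K) = (TensorProduct.toIntegralClosure A' S K z : S ⊗[A'] K) from
      hz' ▸ this z
    intro z
    induction z using TensorProduct.induction_on with
    | zero => exact ⟨0, by simp⟩
    | tmul s x =>
      obtain ⟨a, ha⟩ := IsIntegrallyClosed.isIntegral_iff.1 x.2
      refine ⟨a • s, ?_⟩
      rw [TensorProduct.smul_tmul, ← Algebra.algebraMap_eq_smul_one, ha]
      rfl
    | add x y hx hy =>
      obtain ⟨a, ha⟩ := hx
      obtain ⟨b, hb⟩ := hy
      exact ⟨a + b, by rw [TensorProduct.add_tmul, ha, hb, map_add]; rfl⟩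
  let ψ : S →ₐ[A'] L₁ := Φ.comp Algebra.TensorProduct.includeLeft
  have hΦ : ∀ s : S, Φ (s ⊗ₜ[A'] (1 : K)) = ψ s := fun s => rfl
  have hψC : ∀ s : S, IsIntegral A' (ψ s) := fun s => IsIntegral.map ψ (Algebra.IsIntegral.isIntegral s)
  have hrange : ψ.range = integralClosure A' L₁ := by
    refine le_antisymm (by rintro _ ⟨s, rfl⟩; exact hψC s) fun x hx => ?_
    obtain ⟨t, rfl⟩ := hsurj x
    obtain ⟨P, hP, hPt⟩ := hx
    have hw : IsIntegral A' ((1 - e) * t) := by
      refine ⟨Polynomial.X * P, Polynomial.monic_X.mul hP, ?_⟩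
      have hmem : Polynomial.aeval t P ∈ RingHom.ker Φ := by
        rw [RingHom.mem_ker, ← Polynomial.aeval_algHom_apply]; exact hPt
      rw [hker, Ideal.mem_span_singleton'] at hmem
      obtain ⟨u, hu⟩ := hmem
      have key : ∀ Q : Polynomial A', (1 - e) * Polynomial.aeval ((1 - e) * t) Q = (1 - e) * Polynomial.aeval t Q := by
        intro Q
        induction Q using Polynomial.induction_on' with
        | add p q hp hq => rw [map_add, map_add, mul_add, mul_add, hp, hq]
        | monomial k a =>
          rw [Polynomial.aeval_monomial, Polynomial.aeval_monomial, mul_pow, mul_left_comm, ← mul_assoc (1 - e),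
            ← pow_succ', he.one_sub.pow_succ_eq]
          ring
      rw [← Polynomial.aeval_def, map_mul, Polynomial.aeval_X, mul_assoc, mul_left_comm, key, ← hu]
      linear_combination (t * u) * he.eq * (-1 : S ⊗[A'] K)
    obtain ⟨s, hs⟩ := hS _ hw
    refine ⟨s, ?_⟩
    show ψ s = Φ t
    have he0 : Φ e = 0 := (hker.ge (Ideal.mem_span_singleton_self e) : e ∈ RingHom.ker Φ)
    rw [← hΦ, hs, map_mul, map_sub, map_one, he0, sub_zero, one_mul]
  refine ⟨hrange, ?_⟩
  obtain ⟨f, hf⟩ := hS e ⟨Polynomial.X ^ 2 - Polynomial.X, by monicity!, by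
    rw [← Polynomial.aeval_def, map_sub, map_pow, Polynomial.aeval_X, sq, he.eq, sub_self]⟩
  have hinjS : Function.Injective fun s : S => s ⊗ₜ[A'] (1 : K) :=
    Algebra.TensorProduct.includeLeft_injective (S := A') (IsFractionRing.injective A' K)
  have hf2 : IsIdempotentElem f := hinjS (by
    show (f * f) ⊗ₜ[A'] (1 : K) = f ⊗ₜ 1
    rw [← mul_one (1 : K), ← Algebra.TensorProduct.tmul_mul_tmul, mul_one, hf, he.eq])
  let π : S →ₐ[A'] integralClosure A' L₁ := ψ.codRestrict _ hψC
  letI : Algebra S (integralClosure A' L₁) := π.toRingHom.toAlgebra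
  haveI : IsScalarTower A' S (integralClosure A' L₁) :=
    IsScalarTower.of_algebraMap_eq (R := A') (S := S) (A := integralClosure A' L₁) fun a => (π.commutes a).symm
  have hπs : Function.Surjective (algebraMap S (integralClosure A' L₁)) := fun x => by
    obtain ⟨s, hs⟩ : (x : L₁) ∈ ψ.range := hrange.ge x.2
    exact ⟨s, Subtype.ext hs⟩
  have hπk : RingHom.ker (algebraMap S (integralClosure A' L₁)) = Ideal.span {f} := by
    ext s
    rw [RingHom.mem_ker, ← Subtype.val_inj]
    show ψ s = 0 ↔ _
    rw [← hΦ, ← RingHom.mem_ker, hker, Ideal.mem_span_singleton', Ideal.mem_span_singleton']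
    refine ⟨fun ⟨u, hu⟩ => ⟨s, hinjS ?_⟩, fun ⟨u, hu⟩ => ⟨u ⊗ₜ 1, ?_⟩⟩
    · show (s * f) ⊗ₜ[A'] (1 : K) = s ⊗ₜ 1
      rw [← mul_one (1 : K), ← Algebra.TensorProduct.tmul_mul_tmul, mul_one, hf, ← hu, mul_assoc, he.eq]
    · rw [← hf, Algebra.TensorProduct.tmul_mul_tmul, mul_one, hu]
  haveI : IsLocalization.Away (1 - f) (integralClosure A' L₁) :=
    IsLocalization.away_of_isIdempotentElem hf2.one_sub (by rw [hπk, sub_sub_cancel]) hπs
  haveI := Algebra.Etale.of_isLocalizationAway (A := integralClosure A' L₁) (1 - f)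
  exact Algebra.Etale.comp A' S (integralClosure A' L₁)

theorem isField_range (Φ : S ⊗[A'] K →ₐ[A'] L₁) : IsField Φ.range := by
  haveI : Module.Finite K (K ⊗[A'] S) := Algebra.FormallyUnramified.finite_of_free K (K ⊗[A'] S)
  haveI : IsArtinianRing (K ⊗[A'] S) := isArtinian_of_tower K inferInstance
  let φ' : K ⊗[A'] S →+* Φ.range :=
    (Φ.rangeRestrict.comp (Algebra.TensorProduct.comm A' K S).toAlgHom).toRingHom
  have hφ' : Function.Surjective φ' := Φ.rangeRestrict_surjective.comp (AlgEquiv.surjective _)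
  haveI : IsArtinianRing Φ.range := hφ'.isArtinianRing
  exact IsArtinianRing.isField_of_isDomain _

end Aux


/-- Let A ⊆ A' be integrally closed domains, L a field algebraic over the fraction field of A in which A
embeds and whose integral closure C over A is an étale A-algebra, and L₁ a field in which A' and L
both embed, compatibly over A, and which is generated as a field by the images of A' and L (a
compositum of L with the fraction field of A'; the map A' → L₁ is injective, so that the fraction
field of A' is a subfield of L₁). Then the integral closure of A' in L₁ is an étale A'-algebra and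
coincides with the A'-subalgebra generated by the image of C. -/
theorem result (A A' L L₁ : Type u) [CommRing A] [IsDomain A]
    [IsIntegrallyClosed A] [CommRing A'] [IsDomain A'] [IsIntegrallyClosed A'] [Algebra A A']
    [Field L] [Algebra A L] [Algebra.IsAlgebraic A L] (hinj : Function.Injective (algebraMap A L))
    [Algebra.Etale A ↥(integralClosure A L)]
    [Field L₁] [Algebra A' L₁] [Algebra L L₁] [Algebra A L₁] [IsScalarTower A A' L₁] [IsScalarTower A L L₁]
    (hinj' : Function.Injective (algebraMap A' L₁))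
    (hgen : Subfield.closure (Set.range (algebraMap A' L₁) ∪ Set.range (algebraMap L L₁)) = ⊤) :
    Algebra.Etale A' ↥(integralClosure A' L₁) ∧
      integralClosure A' L₁ = Algebra.adjoin A' ((algebraMap L L₁) '' {x : L | IsIntegral A x}) := by
  classical
  haveI : IsScalarTower A (integralClosure A L) L₁ :=
    IsScalarTower.of_algebraMap_eq (R := A) (S := integralClosure A L) (A := L₁) fun a => by
      rw [IsScalarTower.algebraMap_apply A L L₁]; rfl
  let ψ : A' ⊗[A] (integralClosure A L) →ₐ[A'] L₁ := Algebra.TensorProduct.lift (Algebra.ofId A' L₁)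
    (IsScalarTower.toAlgHom A (integralClosure A L) L₁) fun _ _ => Commute.all _ _
  let j : FractionRing A' →ₐ[A'] L₁ := IsFractionRing.liftAlgHom (g := Algebra.ofId A' L₁) hinj'
  let Φ : (A' ⊗[A] (integralClosure A L)) ⊗[A'] FractionRing A' →ₐ[A'] L₁ :=
    Algebra.TensorProduct.lift ψ j fun _ _ => Commute.all _ _
  haveI : Algebra.IsIntegral A (integralClosure A L) :=
    ⟨fun x => (isIntegral_algHom_iff (integralClosure A L).val Subtype.val_injective).1 x.2⟩
  haveI : Algebra.IsIntegral A' (A' ⊗[A] (integralClosure A L)) := inferInstance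
  have hΦ : ∀ s, Φ (s ⊗ₜ[A'] (1 : FractionRing A')) = ψ s := fun s => by
    rw [Algebra.TensorProduct.lift_tmul, map_one, mul_one]
  have hcomp : Φ.comp Algebra.TensorProduct.includeLeft = ψ := AlgHom.ext hΦ
  have hsurj : Function.Surjective Φ := by
    have hfld : IsField Φ.range := by
      exact isField_range Φ
    let F : Subfield L₁ :=
      { Φ.range.toSubring with
        inv_mem' := fun x hx => by
          rcases eq_or_ne x 0 with rfl | hx0
          · rw [inv_zero]; exact zero_mem Φ.range
          · obtain ⟨y, hy⟩ := hfld.mul_inv_cancel (a := (⟨x, hx⟩ : Φ.range)) fun h => hx0 (congrArg Subtype.val h)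
            rw [inv_eq_of_mul_eq_one_right (congrArg Subtype.val hy)]
            exact y.2 }
    have hF : (⊤ : Subfield L₁) ≤ F := by
      rw [← hgen, Subfield.closure_le]
      rintro _ (⟨a, rfl⟩ | ⟨x, rfl⟩)
      · exact Φ.range.algebraMap_mem a
      · obtain ⟨d, hd, hdx⟩ := (Algebra.IsAlgebraic.isAlgebraic (R := A) x).exists_integral_multiple
        have h1 : algebraMap L L₁ (d • x) ∈ F :=
          ⟨((1 : A') ⊗ₜ[A] (⟨d • x, hdx⟩ : integralClosure A L)) ⊗ₜ[A'] (1 : FractionRing A'), by
            show Φ _ = _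
            rw [hΦ, Algebra.TensorProduct.lift_tmul, map_one, one_mul]; rfl⟩
        have h2 : algebraMap A L₁ d ∈ F := by
          rw [IsScalarTower.algebraMap_apply A A' L₁]; exact Φ.range.algebraMap_mem _
        have h3 : algebraMap L L₁ x = (algebraMap A L₁ d)⁻¹ * algebraMap L L₁ (d • x) := by
          rw [Algebra.smul_def, map_mul, ← IsScalarTower.algebraMap_apply A L L₁, inv_mul_cancel_left₀]
          rw [IsScalarTower.algebraMap_apply A L L₁, map_ne_zero, map_ne_zero_iff _ hinj]
          exact hd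
        rw [h3]
        exact F.mul_mem (F.inv_mem h2) h1
    exact fun x => hF (Subfield.mem_top x)
  obtain ⟨hrange, het⟩ := key Φ hsurj
  rw [hcomp] at hrange
  refine ⟨het, hrange.symm.trans (le_antisymm ?_ ?_)⟩
  · rintro _ ⟨s, rfl⟩
    show ψ s ∈ _
    induction s using TensorProduct.induction_on with
    | zero => rw [map_zero]; exact zero_mem _
    | tmul a b =>
      rw [Algebra.TensorProduct.lift_tmul]
      exact Subalgebra.mul_mem _ (Subalgebra.algebraMap_mem _ a) (Algebra.subset_adjoin ⟨b.1, b.2, rfl⟩)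
    | add x y hx hy => rw [map_add]; exact add_mem hx hy
  · refine Algebra.adjoin_le ?_
    rintro _ ⟨x, hx, rfl⟩
    exact ⟨(1 : A') ⊗ₜ[A] (⟨x, hx⟩ : integralClosure A L), by
      show ψ _ = _
      rw [Algebra.TensorProduct.lift_tmul, map_one, one_mul]; rfl⟩

end Groth.Agent.S5065
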