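import Groth.Statements.S5066
import Groth.Agent.Lib.Hens.Finite
-- import your own Groth.Agent.* helpers here

set_option autoImplicit false
universe u
open Hensel

namespace Groth.Agent.S5066

/-- Case of a local ring, affine étale schemes: a local ring A with maximal ideal m is henselian if and
only if, for every finite A-algebra C and every étale A-algebra E, composing with the projection C →
C/mC is a bijection from the set of A-algebra homomorphisms E → C onto the set of A-algebra
homomorphisms E → C/mC. -/
theorem result (A : Type u) [CommRing A] [IsLocalRing A] :
    HenselianLocalRing A ↔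
      ∀ (C : Type u) [CommRing C] [Algebra A C] [Module.Finite A C] (E : Type u) [CommRing E] [Algebra A E] [Algebra.Etale A E],
        Function.Bijective (fun φ : E →ₐ[A] C =>
          (Ideal.Quotient.mkₐ A (Ideal.map (algebraMap A C) (IsLocalRing.maximalIdeal A))).comp φ) := by
  constructor
  · intro _ C _ _ _ E _ _ _
    have : Algebra.IsIntegral A C := Algebra.IsIntegral.of_finite A C
    have h := Hens.henselianRing_of_isIntegral (B := C) (Hens.henselianRing_maximalIdeal A)
    exact ⟨fun φ φ' hφ => (Hens.existsUnique_algHom_lift h _).unique hφ rfl,
      fun σ => (Hens.existsUnique_algHom_lift h σ).exists⟩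
  · intro h
    refine Hens.henselianLocalRing_of_standardEtale_retraction A fun P x hx _ => ?_
    let σ : P.Ring →ₐ[A] A ⧸ Ideal.map (algebraMap A A) (IsLocalRing.maximalIdeal A) :=
      (Ideal.quotientEquivAlgOfEq A (show IsLocalRing.maximalIdeal A =
        Ideal.map (algebraMap A A) (IsLocalRing.maximalIdeal A) by simp)).toAlgHom.comp (P.lift x hx)
    exact ⟨((h A P.Ring).2 σ).choose⟩

end Groth.Agent.S5066
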