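import Groth.Statements.S5067
import Mathlib.AlgebraicGeometry.Morphisms.Etale
import Mathlib.AlgebraicGeometry.Morphisms.FlatMono
import Mathlib.AlgebraicGeometry.Morphisms.QuasiFinite
import Mathlib.AlgebraicGeometry.Morphisms.UniversallyOpen
import Groth.Agent.Lib.AlgSpace.OpenFlat

set_option autoImplicit false
open CategoryTheory AlgebraicGeometry
universe u
open Unram

namespace Groth.Agent.S5067

/-- Let f : X ⟶ Y be an étale separated morphism of integral schemes which maps the generic point of X
to the generic point of Y and induces a bijection between the residue fields of the generic points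
(f is birational). Then f is an open immersion. -/
theorem result {X Y : Scheme.{u}} [IsIntegral X] [IsIntegral Y]
    (f : X ⟶ Y) [Etale f] [IsSeparated f] (hgen : f.base (genericPoint X) = genericPoint Y)
    (hbir : Function.Bijective (f.residueFieldMap (genericPoint X)).hom) : IsOpenImmersion f := by
  haveI : LocallyQuasiFinite f := Groth.Agent.AlgSpace.locallyQuasiFinite_of_unramified f
  have hspec : ∀ w : X, f w = genericPoint Y → w = genericPoint X := by
    intro w hw
    have hd : _root_.IsDiscrete (f ⁻¹' {genericPoint Y}) := f.isDiscrete_preimage_singleton _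
    haveI := hd.to_subtype
    have hs : (⟨genericPoint X, hgen⟩ : f ⁻¹' {genericPoint Y}) ⤳ ⟨w, hw⟩ :=
      Topology.IsEmbedding.subtypeVal.isInducing.specializes_iff.1 (genericPoint_specializes w)
    exact (congrArg Subtype.val (specializes_iff_eq.1 hs)).symm
  haveI : IsIso (f.residueFieldMap (genericPoint X)) :=
    (ConcreteCategory.isIso_iff_bijective _).2 hbir
  let ηY := Y.fromSpecResidueField (f (genericPoint X))
  let ηX := X.fromSpecResidueField (genericPoint X)
  have hη : ηX ≫ f = Spec.map (f.residueFieldMap (genericPoint X)) ≫ ηY :=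
    (Scheme.Hom.SpecMap_residueFieldMap_fromSpecResidueField f _).symm
  have hfib : ∀ w : ↥(Limits.pullback f f),
      f (Limits.pullback.fst f f w) = genericPoint Y → w ∈ Set.range (Limits.pullback.diagonal f) := by
    intro w hw
    let v := inv (Spec.map (f.residueFieldMap (genericPoint X))) ≫ ηX
    have hv : v ≫ f = ηY := by simp [Limits.pullback.lift_fst, Limits.pullback.lift_snd, Limits.pullback.lift_fst_assoc, Limits.pullback.lift_snd_assoc, v, hη]
    let κ := Limits.pullback.fst (Limits.pullback.fst f f ≫ f) ηY
    let τ := Limits.pullback.snd (Limits.pullback.fst f f ≫ f) ηY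
    have hκ : Set.range κ = (Limits.pullback.fst f f ≫ f) ⁻¹' {f (genericPoint X)} :=
      Scheme.Hom.range_fiberι (Limits.pullback.fst f f ≫ f) _
    obtain ⟨z, rfl⟩ := hκ.ge (show (Limits.pullback.fst f f ≫ f) w = f (genericPoint X) by
      rw [Scheme.Hom.comp_apply, hw]; exact hgen.symm)
    have hfibre : Subsingleton ↥(Limits.pullback f ηY) := by
      refine ⟨fun a b => (Limits.pullback.fst f ηY).isEmbedding.injective ?_⟩
      have h1 : ∀ a, Limits.pullback.fst f ηY a = genericPoint X := fun a =>
        hspec _ (((Scheme.Hom.range_fiberι f (f (genericPoint X))).le ⟨a, rfl⟩).trans hgen)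
      rw [h1, h1]
    let σ : Spec _ ⟶ Limits.pullback f ηY := Limits.pullback.lift v (𝟙 _) (by rw [hv, Category.id_comp])
    haveI : Etale (σ ≫ Limits.pullback.snd f ηY) := by
      rw [Limits.pullback.lift_snd]; infer_instance
    haveI : Etale σ := Etale.of_comp σ (Limits.pullback.snd f ηY)
    haveI : Mono σ := (SplitMono.mk (Limits.pullback.snd f ηY) (Limits.pullback.lift_snd _ _ _)).mono
    haveI : IsOpenImmersion σ := IsOpenImmersion.of_flat_of_mono σ
    haveI : Surjective σ := ⟨fun a => ⟨IsLocalRing.closedPoint _, hfibre.elim _ _⟩⟩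
    haveI : IsIso σ := isIso_of_isOpenImmersion_of_opensRange_eq_top _
      (TopologicalSpace.Opens.ext (Set.range_eq_univ.2 σ.surjective))
    haveI : IsIso (Limits.pullback.snd f ηY) := by
      rw [show Limits.pullback.snd f ηY = inv σ from
        IsIso.eq_inv_of_hom_inv_id (Limits.pullback.lift_snd _ _ _)]
      infer_instance
    have h1 : (κ ≫ Limits.pullback.fst f f) ≫ f = τ ≫ ηY := by
      rw [Category.assoc]; exact Limits.pullback.condition
    have h2 : (κ ≫ Limits.pullback.snd f f) ≫ f = τ ≫ ηY := by
      rw [Category.assoc, ← Limits.pullback.condition (f := f) (g := f)]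
      exact Limits.pullback.condition
    have h3 : Limits.pullback.lift _ _ h1 = Limits.pullback.lift _ _ h2 := by
      rw [← cancel_mono (Limits.pullback.snd f ηY)]; simp [Limits.pullback.lift_fst, Limits.pullback.lift_snd, Limits.pullback.lift_fst_assoc, Limits.pullback.lift_snd_assoc]
    have h4 : κ ≫ Limits.pullback.fst f f = κ ≫ Limits.pullback.snd f f := by
      have := congrArg (· ≫ Limits.pullback.fst f ηY) h3
      simpa [Limits.pullback.lift_fst, Limits.pullback.lift_snd, Limits.pullback.lift_fst_assoc, Limits.pullback.lift_snd_assoc] using this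
    have h5 : κ = (κ ≫ Limits.pullback.fst f f) ≫ Limits.pullback.diagonal f := by
      apply Limits.pullback.hom_ext <;> simp [Limits.pullback.lift_fst, Limits.pullback.lift_snd, Limits.pullback.lift_fst_assoc, Limits.pullback.lift_snd_assoc, h4]
    exact ⟨(κ ≫ Limits.pullback.fst f f) z, by rw [← Scheme.Hom.comp_apply, ← h5]⟩
  haveI : Surjective (Limits.pullback.diagonal f) := by
    refine ⟨fun w => ?_⟩
    have hgm : GeneralizingMap (Limits.pullback.fst f f ≫ f) := Flat.generalizingMap _
    obtain ⟨w', hw', hw''⟩ := hgm (genericPoint_specializes ((Limits.pullback.fst f f ≫ f) w))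
    exact (hw'.mem_closed (Limits.pullback.diagonal f).isClosedEmbedding.isClosed_range
      (hfib w' (by rw [← Scheme.Hom.comp_apply]; exact hw'')))
  haveI : IsIso (Limits.pullback.diagonal f) :=
    isIso_of_isOpenImmersion_of_opensRange_eq_top _
      (TopologicalSpace.Opens.ext (Set.range_eq_univ.2 (Limits.pullback.diagonal f).surjective))
  haveI : Mono f := (Limits.pullback.isIso_diagonal_iff f).1 inferInstance
  exact IsOpenImmersion.of_flat_of_mono f

end Groth.Agent.S5067
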