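import Groth.Statements.S5068
import Groth.Agent.Lib.CI2.LocLift
import Groth.Agent.Lib.CI2.AvramovCI

set_option autoImplicit false
universe u
open CInt

namespace Groth.Agent.S5068

theorem exists_lift_list {C F : Type u} [CommRing C] [CommRing F] (μ : C →+* F) (J : Ideal C) :
    ∀ (l : List F), (∀ x ∈ l, ∃ y ∈ J, μ y = x) → ∃ l' : List C, l'.map μ = l ∧ ∀ y ∈ l', y ∈ J
  | [], _ => ⟨[], rfl, fun _ h => nomatch h⟩
  | x :: l, h => by
    obtain ⟨y, hy, rfl⟩ := h x List.mem_cons_self
    obtain ⟨l', rfl, hl'⟩ := exists_lift_list μ J l fun z hz => h z (List.mem_cons_of_mem _ hz)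
    exact ⟨y :: l', rfl, fun z hz => (List.mem_cons.1 hz).elim (fun e => e ▸ hy) (hl' z)⟩

/-- Suppose A and C are Noetherian local rings joined by a flat local homomorphism A → C whose closed
fibre C/m_A C is a regular local ring, and consider a local ring B obtained as a quotient of C by an
ideal J (encoded as a surjective C-algebra B, with J taken to be the kernel). The ideal J admits a
generating sequence that is transversally regular relative to A (each term a non-zero-divisor modulo
the previous ones, and every partial quotient C/(f_1, …, f_j) A-flat) exactly when two things hold: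
B is A-flat, and B/m_A B is a complete intersection (meaning its completion is a regular local ring
divided by a regular sequence). -/
theorem result (A C B : Type u) [CommRing A] [IsLocalRing A]
    [IsNoetherianRing A] [CommRing C] [IsLocalRing C] [IsNoetherianRing C] [Algebra A C] [IsLocalHom (algebraMap A C)]
    [Module.Flat A C] (hreg : IsRegularLocalRing (EGA4.FibRing A C))
    [CommRing B] [IsLocalRing B] [Algebra C B] [Algebra A B] [IsScalarTower A C B] [IsLocalHom (algebraMap A B)]
    (hsurj : Function.Surjective (algebraMap C B)) :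
    (∃ rs : List C, Ideal.ofList rs = RingHom.ker (algebraMap C B) ∧ RegImm.IsTransRegularSeq A C rs) ↔
      (Module.Flat A B ∧ Pi1.IsCompleteIntersection (EGA4.FibRing A B)) := by
  haveI : IsNoetherianRing B := isNoetherianRing_of_surjective C B (algebraMap C B) hsurj
  let J := RingHom.ker (algebraMap C B)
  let MC := (IsLocalRing.maximalIdeal A).map (algebraMap A C)
  let MB := (IsLocalRing.maximalIdeal A).map (algebraMap A B)
  have hMB : MB = MC.map (algebraMap C B) := by
    show _ = ((IsLocalRing.maximalIdeal A).map _).map _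
    rw [Ideal.map_map, ← IsScalarTower.algebraMap_eq]
  haveI hF : IsRegularLocalRing (C ⧸ MC) := hreg
  haveI : IsLocalRing (B ⧸ MB) := Groth.Agent.RegLoc.isLocalRing_quotient
    (ne_top_of_le_ne_top (IsLocalRing.maximalIdeal.isMaximal B).ne_top (IsLocalRing.map_maximalIdeal_le _))
  let σ : C ⧸ MC →+* B ⧸ MB := Ideal.quotientMap MB (algebraMap C B) (Ideal.map_le_iff_le_comap.1 hMB.ge)
  have hσ : Function.Surjective σ := fun y => by
    obtain ⟨y, rfl⟩ := Ideal.Quotient.mk_surjective y
    obtain ⟨x, rfl⟩ := hsurj y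
    exact ⟨Ideal.Quotient.mk _ x, rfl⟩
  have hker : RingHom.ker σ = J.map (Ideal.Quotient.mk MC) := by
    have h : (RingHom.ker σ).comap (Ideal.Quotient.mk MC) = MC ⊔ J := by
      refine (show _ = MB.comap (algebraMap C B) from Ideal.ext fun x => ?_).trans ?_
      · exact Ideal.Quotient.eq_zero_iff_mem
      · rw [hMB, Ideal.comap_map_of_surjective' _ hsurj]
    rw [← Ideal.map_comap_of_surjective _ Ideal.Quotient.mk_surjective (RingHom.ker σ), h, Ideal.map_sup,
      Ideal.map_quotient_self, bot_sup_eq]
  have hci : Pi1.IsCompleteIntersection (EGA4.FibRing A B) ↔ CInt.IsRegularIdeal (J.map (Ideal.Quotient.mk MC)) := by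
    rw [← hker]
    exact Groth.Agent.CI2.ci_iff_ker σ hσ
  have hJ : J ≤ IsLocalRing.maximalIdeal C := IsLocalRing.le_maximalIdeal (RingHom.ker_ne_top _)
  rw [hci]
  constructor
  · rintro ⟨rs, hrs, hw, hfl⟩
    have hB : Module.Flat A B := by
      have h1 := hfl rs.length le_rfl
      rw [List.take_length, hrs] at h1
      haveI : Module.Flat A (C ⧸ RingHom.ker (IsScalarTower.toAlgHom A C B)) := h1
      exact Module.Flat.of_linearEquiv
        (Ideal.quotientKerAlgEquivOfSurjective (f := IsScalarTower.toAlgHom A C B) hsurj).symm.toLinearEquiv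
    refine ⟨hB, rs.map (Ideal.Quotient.mk MC), ⟨Groth.Agent.CI2.weaklyRegular_fibre hw hfl, ?_⟩, ?_⟩
    · intro htop
      rw [smul_eq_mul, Ideal.mul_top, ← Ideal.map_ofList, hrs] at htop
      exact (ne_top_of_le_ne_top (IsLocalRing.maximalIdeal.isMaximal _).ne_top
        (show RingHom.ker σ ≤ _ from IsLocalRing.le_maximalIdeal (RingHom.ker_ne_top σ))) (hker.trans htop.symm)
    · rw [← Ideal.map_ofList, hrs]
  · rintro ⟨hB, rs', hreg', hrs'⟩
    haveI := hB
    have hmem : ∀ x ∈ rs', ∃ y ∈ J, Ideal.Quotient.mk MC y = x := fun x hx =>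
      (Ideal.mem_map_iff_of_surjective _ Ideal.Quotient.mk_surjective).1 (hrs' ▸ Ideal.subset_span hx)
    obtain ⟨l, rfl, hl⟩ := exists_lift_list _ J rs' hmem
    obtain ⟨hw, hfl⟩ := Groth.Agent.CI2.weaklyRegular_and_flat_of_fibre (fun x hx => hJ (hl x hx)) hreg'.toIsWeaklyRegular
    have hle : Ideal.ofList l ≤ J := Ideal.span_le.2 hl
    refine ⟨l, le_antisymm hle ?_, hw, hfl⟩
    let qA : (C ⧸ Ideal.ofList l) →ₐ[A] B := Ideal.Quotient.liftₐ _ (IsScalarTower.toAlgHom A C B) hle
    let q : (C ⧸ Ideal.ofList l) →ₗ[C] B := Submodule.liftQ _ (Algebra.linearMap C B) hle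
    have hqs : Function.Surjective q := fun b => by
      obtain ⟨c, rfl⟩ := hsurj b
      exact ⟨Submodule.mkQ _ c, rfl⟩
    have hq : Function.Injective q := by
      refine Groth.Agent.CI2.injective_of_injective_mod_maximal (A := A) q hqs ?_
      rw [injective_iff_map_eq_zero]
      intro y hy
      obtain ⟨x, rfl⟩ := Groth.Agent.CI2.exists_one_tmul y
      obtain ⟨c, rfl⟩ := Submodule.mkQ_surjective _ x
      rw [LinearMap.lTensor_tmul, Groth.Agent.CI2.one_tmul_eq_zero,
        Groth.Agent.CI2.mem_smul_top_iff_map (C := B), smul_eq_mul, Ideal.mul_top] at hy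
      have hc : c ∈ MB.comap (algebraMap C B) := hy
      rw [hMB, Ideal.comap_map_of_surjective' _ hsurj] at hc
      have hc' : Ideal.Quotient.mk MC c ∈ J.map (Ideal.Quotient.mk MC) :=
        (Ideal.mem_quotient_iff_mem_sup).2 (by rw [sup_comm]; exact hc)
      rw [← hrs', ← Ideal.map_ofList, Ideal.mem_quotient_iff_mem_sup, Submodule.mem_sup] at hc'
      obtain ⟨a, ha, b, hb, rfl⟩ := hc'
      rw [Groth.Agent.CI2.one_tmul_eq_zero, Groth.Agent.CI2.mem_smul_top_iff_map (C := C), map_add,
        show Submodule.mkQ (Ideal.ofList l) a = 0 from (Submodule.Quotient.mk_eq_zero _).2 ha, zero_add]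
      have : Submodule.mkQ (Ideal.ofList l) b = b • Submodule.mkQ (Ideal.ofList l) 1 := by
        rw [← map_smul, smul_eq_mul, mul_one]
      rw [this]
      exact Submodule.smul_mem_smul hb trivial
    intro x hx
    rw [← Submodule.Quotient.mk_eq_zero (Ideal.ofList l)]
    exact hq ((show q (Submodule.mkQ _ x) = 0 from hx).trans (map_zero q).symm)

end Groth.Agent.S5068
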