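import Mathlib.RingTheory.Artinian.Ring
import Mathlib.RingTheory.Noetherian.Basic
import Mathlib.Algebra.Ring.Subring.Basic
import Mathlib.Order.Directed
import Mathlib.RingTheory.HopkinsLevitzki
import Mathlib.RingTheory.KrullDimension.Zero

set_option autoImplicit false
universe u v
namespace Hensel
end Hensel
open Hensel

namespace Groth.Agent.S5069

/-- First assertion, phrased for the images of the inductive system: let B be a Noetherian commutative
ring and (C_i) a family of Artinian subrings of B, directed under inclusion, whose union is B. Then
B is an Artinian ring. -/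
theorem result (B : Type u) [CommRing B] [IsNoetherianRing B]
    {ι : Type v} [Nonempty ι] (C : ι → Subring B) (hdir : Directed (fun a b => a ≤ b) C)
    (hart : ∀ i, IsArtinianRing ↥(C i)) (hcov : ∀ b : B, ∃ i, b ∈ C i) : IsArtinianRing B := by
  have : Ring.KrullDimLE 0 B := Ring.krullDimLE_zero_iff.mpr fun p hp => by
    obtain ⟨m, hm, hle⟩ := Ideal.exists_le_maximal p hp.ne_top
    suffices m ≤ p by rwa [le_antisymm hle this]
    intro x hx
    obtain ⟨i, hi⟩ := hcov x
    have hmax : (p.comap (C i).subtype).IsMaximal := by
      have := hart i
      have := Ideal.IsPrime.comap (K := p) (C i).subtype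
      exact IsArtinianRing.isMaximal_of_isPrime _
    have heq : p.comap (C i).subtype = m.comap (C i).subtype :=
      hmax.eq_of_le (Ideal.comap_ne_top _ hm.ne_top) (Ideal.comap_mono hle)
    have : (⟨x, hi⟩ : C i) ∈ p.comap (C i).subtype := by rw [heq]; exact hx
    exact this
  exact IsNoetherianRing.isArtinianRing_of_krullDimLE_zero

end Groth.Agent.S5069
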