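import Groth.Statements.S5070
import Groth.Agent.Lib.KS29.NFConst
-- import your own Groth.Agent.* helpers here

set_option autoImplicit false
open CategoryTheory AlgebraicGeometry
universe u
open CInt

namespace Groth.Agent.S5070

/-- Let X be a locally Noetherian scheme, Y the closed subscheme defined by an ideal sheaf, assumed
regular and connected, and F a coherent O_X-module which is normally flat along Y (at every point y
of Y, every I_y^h F_y / I_y^(h+1) F_y is flat over O_{Y,y}). Then there is a single sequence of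
natural numbers R such that for every y in Y, if n is the dimension of O_{Y,y}, then for all h the
length of m^h F_y / m^(h+1) F_y over the residue field (m the maximal ideal of O_{X,y}) equals the
sum over r ≤ h of C(r+n-1, r) R(h-r): the Poincaré series of gr_m(F_y) is R(T)(1-T)^(-n). -/
theorem result {X : Scheme.{u}} [IsLocallyNoetherian X]
    (𝓘 : X.IdealSheafData) [ConnectedSpace ↥𝓘.subscheme]
    (hreg : ∀ y : ↥𝓘.subscheme, IsRegularLocalRing ↑(𝓘.subscheme.presheaf.stalk y))
    (F : X.Modules) (hF : Coh.IsCoh F)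
    (hnf : ∀ y : ↥𝓘.subscheme, EGA4.IsNormallyFlat (RingHom.ker (𝓘.subschemeι.stalkMap y).hom) ↑(F.presheaf.stalk (𝓘.subschemeι y))) :
    ∃ R : ℕ → ℕ, ∀ (y : ↥𝓘.subscheme) (n : ℕ), ringKrullDim ↑(𝓘.subscheme.presheaf.stalk y) = n →
      ∀ h : ℕ, Module.finrank (↑(X.presheaf.stalk (𝓘.subschemeι y)) ⧸ IsLocalRing.maximalIdeal ↑(X.presheaf.stalk (𝓘.subschemeι y)))
          (↥(IsLocalRing.maximalIdeal ↑(X.presheaf.stalk (𝓘.subschemeι y)) ^ h • (⊤ : Submodule ↑(X.presheaf.stalk (𝓘.subschemeι y)) ↑(F.presheaf.stalk (𝓘.subschemeι y)))) ⧸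
            (IsLocalRing.maximalIdeal ↑(X.presheaf.stalk (𝓘.subschemeι y)) • (⊤ : Submodule ↑(X.presheaf.stalk (𝓘.subschemeι y)) ↥(IsLocalRing.maximalIdeal ↑(X.presheaf.stalk (𝓘.subschemeι y)) ^ h • (⊤ : Submodule ↑(X.presheaf.stalk (𝓘.subschemeι y)) ↑(F.presheaf.stalk (𝓘.subschemeι y))))))) =
        ∑ r ∈ Finset.range (h + 1), Nat.choose (r + n - 1) r * R (h - r) := by
  exact Groth.Agent.KS29.NFH.exists_poincare_numerator 𝓘 hreg F hF hnf

end Groth.Agent.S5070
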