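import Groth.Statements.S5071
import Groth.Agent.Lib.RegImm26.FlatQuot
import Groth.Agent.Lib.FlatSyz.ProjDim
import Mathlib.RingTheory.Flat.Localization

set_option autoImplicit false
universe u
open CInt
open scoped TensorProduct
set_option linter.style.haveILetI false

namespace Groth.Agent.S5071

open scoped TensorProduct in
/-- A flat base change of a module which is flat over another ring stays flat over it. -/
theorem flat_tensor (A B L M : Type u) [CommRing A] [CommRing B] [Algebra A B] [AddCommGroup L] [Module B L] [Module A L]
    [IsScalarTower A B L] [AddCommGroup M] [Module B M] [Module A M] [IsScalarTower A B M]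
    [Module.Flat B L] [Module.Flat A M] : Module.Flat A (L ⊗[B] M) := by
  rw [Module.Flat.iff_lTensor_injective']
  intro I
  let eI := TensorProduct.AlgebraTensorModule.assoc A B B L M I
  let eA := TensorProduct.AlgebraTensorModule.assoc A B B L M A
  let h : M ⊗[A] I →ₗ[B] M ⊗[A] A := TensorProduct.AlgebraTensorModule.lTensor B M I.subtype
  have hh : Function.Injective h := Module.Flat.lTensor_preserves_injective_linearMap I.subtype I.injective_subtype
  have h2 : Function.Injective (h.lTensor L) := Module.Flat.lTensor_preserves_injective_linearMap h hh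
  have hcomm : ∀ x, eA (I.subtype.lTensor (L ⊗[B] M) x) = h.lTensor L (eI x) := by
    intro x
    induction x with
    | zero => simp only [map_zero]
    | add a b ha hb => simp only [map_add, ha, hb]
    | tmul a i =>
      induction a with
      | zero => simp only [TensorProduct.zero_tmul, map_zero]
      | add a b ha hb => simp only [TensorProduct.add_tmul, map_add, ha, hb]
      | tmul l m => rfl
  intro x y hxy
  apply eI.injective
  apply h2
  rw [← hcomm, ← hcomm, hxy]


/-- Let B be an A-algebra and J an ideal of B generated by a sequence which is transversally regular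
relative to A. Then for n < m the module J^n/J^m is flat over A, and for every prime q of B
containing J the localisation (J^n)_q is flat over A (modules regarded as A-modules by restriction
of scalars). -/
theorem result (A B : Type u) [CommRing A] [CommRing B] [Algebra A B]
    (rs : List B) (hrs : RegImm.IsTransRegularSeq A B rs) (n m : ℕ) (hnm : n < m) :
    Module.Flat A (RestrictScalars A B
      (↥(Ideal.ofList rs ^ n) ⧸ (Submodule.comap (Ideal.ofList rs ^ n).subtype (Ideal.ofList rs ^ m)))) ∧
      ∀ (q : Ideal B) [q.IsPrime], Ideal.ofList rs ≤ q →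
        Module.Flat A (RestrictScalars A B (LocalizedModule q.primeCompl ↥(Ideal.ofList rs ^ n))) := by
  have hqr : CAlgX.IsQuasiRegular rs.get :=
    QReg.isQuasiRegular_of_isH1Regular (QReg.isH1Regular_of_isWeaklyRegular rs.get (by rw [List.ofFn_get]; exact hrs.1))
  have hJ : Ideal.span (Set.range rs.get) = Ideal.ofList rs := by rw [Set.range_list_get]
  haveI h0 : Module.Flat A (B ⧸ Ideal.span (Set.range rs.get)) := by
    rw [hJ]
    have := hrs.2 rs.length le_rfl
    rwa [List.take_length] at this
  have hpow : ∀ k, Module.Flat A (B ⧸ Ideal.ofList rs ^ k) := fun k => by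
    have := RegImm26.flat_quotient_pow (A := A) rs.get hqr k
    rwa [hJ] at this
  haveI hB : Module.Flat A B := by
    have := hrs.2 0 (Nat.zero_le _)
    rw [List.take_zero, Ideal.ofList_nil] at this
    exact Module.Flat.of_linearEquiv (AlgEquiv.quotientBot A B).symm.toLinearEquiv
  set J := Ideal.ofList rs
  haveI := hpow n
  haveI hJn : Module.Flat A ↥(J ^ n) := FlatSyz.flat_of_exact ((J ^ n).subtype.restrictScalars A) Subtype.val_injective
    ((Ideal.Quotient.mkₐ A (J ^ n)).toLinearMap)
    (fun b => ⟨fun hb => ⟨⟨b, Ideal.Quotient.eq_zero_iff_mem.1 hb⟩, rfl⟩,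
      fun ⟨y, hy⟩ => hy ▸ Ideal.Quotient.eq_zero_iff_mem.2 y.2⟩) Ideal.Quotient.mk_surjective
  constructor
  · haveI := hpow m
    have hle : J ^ m ≤ J ^ n := Ideal.pow_le_pow_right hnm.le
    let i : (↥(J ^ n) ⧸ (Submodule.comap (J ^ n).subtype (J ^ m))) →ₗ[B] B ⧸ J ^ m :=
      Submodule.mapQ _ _ (J ^ n).subtype le_rfl
    haveI : Module.Flat A (↥(J ^ n) ⧸ (Submodule.comap (J ^ n).subtype (J ^ m))) := by
      refine FlatSyz.flat_of_exact (i.restrictScalars A) ?_ (Ideal.Quotient.factorₐ A hle).toLinearMap ?_
        (Ideal.Quotient.factor_surjective hle)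
      · show Function.Injective i
        rw [← LinearMap.ker_eq_bot, Submodule.ker_mapQ, Submodule.mkQ_map_self]
      · intro z
        obtain ⟨b, rfl⟩ := Ideal.Quotient.mk_surjective z
        refine ⟨fun hb => ⟨Submodule.Quotient.mk ⟨b, Ideal.Quotient.eq_zero_iff_mem.1 hb⟩, rfl⟩, ?_⟩
        rintro ⟨x, hx⟩
        obtain ⟨y, rfl⟩ := Submodule.Quotient.mk_surjective _ x
        rw [← hx]
        exact Ideal.Quotient.eq_zero_iff_mem.2 y.2
    exact Module.Flat.of_linearEquiv
      ({ RestrictScalars.addEquiv A B (↥(J ^ n) ⧸ (Submodule.comap (J ^ n).subtype (J ^ m))) with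
         map_smul' := fun a x => (RestrictScalars.addEquiv_map_smul A B _ a x).trans (algebraMap_smul B a _) } :
        RestrictScalars A B (↥(J ^ n) ⧸ (Submodule.comap (J ^ n).subtype (J ^ m))) ≃ₗ[A] _)
  · intro q _ _
    let Q := LocalizedModule q.primeCompl ↥(J ^ n)
    haveI := flat_tensor A B (Localization q.primeCompl) ↥(J ^ n)
    let e : RestrictScalars A B Q ≃ₗ[A] Localization q.primeCompl ⊗[B] ↥(J ^ n) :=
      { ((RestrictScalars.addEquiv A B Q).trans
          ((LocalizedModule.equivTensorProduct q.primeCompl ↥(J ^ n)).restrictScalars B).toAddEquiv) with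
        map_smul' := fun a x => by
          show ((LocalizedModule.equivTensorProduct q.primeCompl ↥(J ^ n)).restrictScalars B)
            ((RestrictScalars.addEquiv A B Q) (a • x)) = _
          rw [RestrictScalars.addEquiv_map_smul, map_smul, algebraMap_smul]
          rfl }
    exact Module.Flat.of_linearEquiv e

end Groth.Agent.S5071
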