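import Groth.Statements.S5073
import Mathlib.RingTheory.Ideal.MinimalPrime.Noetherian

set_option autoImplicit false
universe u
open EGA418

namespace Groth.Agent.S5073

/-- Let A be a Noetherian local ring, p a prime ideal and x an element of A. Then there is an element x'
of A whose image in A_p equals that of x and which belongs to no minimal prime ideal of A not
contained in p. -/
theorem result (A : Type u) [CommRing A] [IsNoetherianRing A] [IsLocalRing A]
    (p : Ideal A) [p.IsPrime] (x : A) :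
    ∃ x' : A, algebraMap A (Localization.AtPrime p) x' = algebraMap A (Localization.AtPrime p) x ∧
      ∀ q ∈ minimalPrimes A, ¬ q ≤ p → x' ∉ q := by
  classical
  have hfin : (minimalPrimes A).Finite := (⊥ : Ideal A).finite_minimalPrimes_of_isNoetherianRing A
  let K : Ideal A := RingHom.ker (algebraMap A (Localization.AtPrime p))
  let s : Finset (Ideal A) := hfin.toFinset.filter (fun q => ¬ q ≤ p)
  let J : Ideal A := K ⊓ (s.filter (fun q => x ∉ q)).inf id
  have hK : ∀ q ∈ minimalPrimes A, ¬ q ≤ p → ¬ K ≤ q := by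
    intro q hq hqp hle
    obtain ⟨e, heq, hep⟩ := SetLike.not_le_iff_exists.1 hqp
    have hq' : q.IsPrime := hq.1.1
    obtain ⟨a, haq, n, hn⟩ : ∃ a ∉ q, ∃ n : ℕ, e ^ n * a = 0 := by
      by_contra hc
      push Not at hc
      obtain ⟨r, hr, -, hd⟩ := Ideal.exists_le_prime_disjoint (⊥ : Ideal A)
        (Submonoid.powers e ⊔ q.primeCompl) (Set.disjoint_left.2 fun z hz hz' => by
          rw [SetLike.mem_coe, Submonoid.mem_sup] at hz'
          obtain ⟨_, ⟨n, rfl⟩, a, ha, rfl⟩ := hz'
          exact hc a ha n hz)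
      have hrq : r ≤ q := fun z hz => by
        by_contra hzq
        exact Set.disjoint_left.1 hd hz (Submonoid.mem_sup_right hzq)
      exact Set.disjoint_left.1 hd (hq.2 ⟨hr, bot_le⟩ hrq heq)
        (Submonoid.mem_sup_left (Submonoid.mem_powers e))
    refine haq (hle (RingHom.mem_ker.2 ?_))
    exact (IsLocalization.map_eq_zero_iff p.primeCompl _ a).2
      ⟨⟨e ^ n, Submonoid.pow_mem _ hep n⟩, hn⟩
  have hs : ∀ q ∈ s, q ∈ minimalPrimes A ∧ ¬ q ≤ p := fun q hq => by
    simpa [s] using hq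
  have hJ : ∀ q ∈ s.filter (fun q => x ∈ q), ¬ J ≤ q := by
    intro q hq hle
    obtain ⟨hqs, hxq⟩ := Finset.mem_filter.1 hq
    have hq' : q.IsPrime := (hs q hqs).1.1.1
    rcases hq'.inf_le.1 hle with h | h
    · exact hK q (hs q hqs).1 (hs q hqs).2 h
    · obtain ⟨r, hr, hrq⟩ := (Ideal.IsPrime.inf_le' hq').1 h
      obtain ⟨hrs, hxr⟩ := Finset.mem_filter.1 hr
      have := (hs q hqs).1.2 (hs r hrs).1.1 hrq
      exact hxr (this hxq)
  obtain ⟨y, hyJ, hy⟩ : ∃ y ∈ J, ∀ q ∈ s.filter (fun q => x ∈ q), y ∉ q := by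
    have h := mt (Ideal.subset_union_prime (s := s.filter (fun q => x ∈ q)) (f := id) ⊥ ⊥
      (I := J) (fun q hq _ _ => (hs q (Finset.mem_filter.1 hq).1).1.1.1)).1
    simp only [not_exists, not_and] at h
    obtain ⟨y, hyJ, hy⟩ := Set.not_subset.1 (h hJ)
    exact ⟨y, hyJ, fun q hq hyq => hy (Set.mem_biUnion hq hyq)⟩
  refine ⟨x + y, by rw [map_add, RingHom.mem_ker.1 hyJ.1, add_zero], fun q hq hqp hmem => ?_⟩
  have hqs : q ∈ s := by simp [s, hq, hqp]
  by_cases hxq : x ∈ q
  · exact hy q (by simp [hqs, hxq]) (by simpa using q.sub_mem hmem hxq)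
  · have : y ∈ q := (Finset.inf_le (f := id) (by simp [hqs, hxq] : q ∈ s.filter (fun q => x ∉ q))) hyJ.2
    exact hxq (by simpa using q.sub_mem hmem this)

end Groth.Agent.S5073
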