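import Groth.Statements.S5075
import Mathlib.AlgebraicGeometry.Morphisms.Etale
import Mathlib.AlgebraicGeometry.Morphisms.FlatMono
import Mathlib.AlgebraicGeometry.Morphisms.QuasiFinite
import Mathlib.AlgebraicGeometry.Morphisms.UniversallyOpen
import Groth.Agent.Lib.AlgSpace.OpenFlat

set_option autoImplicit false
open CategoryTheory AlgebraicGeometry
universe u
open Unram

namespace Groth.Agent.S5075

open CategoryTheory.Limits in
theorem mono_of_surjective_diagonal {X Y : Scheme.{u}} (e : X ⟶ Y) [LocallyOfFiniteType e]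
    [FormallyUnramified e] [Surjective (pullback.diagonal e)] : Mono e := by
  haveI : IsIso (pullback.diagonal e) :=
    isIso_of_isOpenImmersion_of_opensRange_eq_top _
      (TopologicalSpace.Opens.ext (Set.range_eq_univ.2 (pullback.diagonal e).surjective))
  exact (pullback.isIso_diagonal_iff e).1 inferInstance

/-- Let p : X ⟶ S be étale, g : S' ⟶ S a morphism and i : S'₀ ⟶ S' a surjective closed immersion (a
closed subscheme with the same underlying space). Then for every f₀ : S'₀ ⟶ X over S there is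
exactly one f : S' ⟶ X over S with i ≫ f = f₀. -/
theorem result {X S S' S'₀ : Scheme.{u}} (p : X ⟶ S) [Etale p]
    (g : S' ⟶ S) (i : S'₀ ⟶ S') [IsClosedImmersion i] [Surjective i]
    (f₀ : S'₀ ⟶ X) (h₀ : f₀ ≫ p = i ≫ g) :
    ∃! f : S' ⟶ X, f ≫ p = g ∧ i ≫ f = f₀ := by
  let π := Limits.pullback.snd p g
  let π₀ := Limits.pullback.snd π i
  let r := Limits.pullback.fst π i
  let σ₀ : S'₀ ⟶ Limits.pullback π i :=
    Limits.pullback.lift (Limits.pullback.lift f₀ i h₀) (𝟙 _) (by simp [Limits.pullback.lift_fst, Limits.pullback.lift_snd, Limits.pullback.lift_fst_assoc, Limits.pullback.lift_snd_assoc, π])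
  haveI : Etale (σ₀ ≫ π₀) := by
    rw [show σ₀ ≫ π₀ = 𝟙 _ from Limits.pullback.lift_snd _ _ _]; infer_instance
  haveI : Etale σ₀ := Etale.of_comp σ₀ π₀
  haveI : Mono σ₀ := (SplitMono.mk π₀ (Limits.pullback.lift_snd _ _ _)).mono
  haveI : IsOpenImmersion σ₀ := IsOpenImmersion.of_flat_of_mono σ₀
  have hr : IsOpenMap r := ((isHomeomorph_iff_isEmbedding_surjective).2
    ⟨r.isEmbedding, r.surjective⟩).isOpenMap
  let U : (Limits.pullback p g).Opens := ⟨r '' Set.range σ₀, hr _ σ₀.isOpenEmbedding.isOpen_range⟩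
  let e := U.ι ≫ π
  have hU : IsPullback (r ∣_ U) ((r ⁻¹ᵁ U).ι ≫ π₀) e i :=
    (isPullback_morphismRestrict r U).paste_vert (IsPullback.of_hasPullback π i)
  have hτr : Set.range σ₀ ⊆ Set.range (r ⁻¹ᵁ U).ι := by
    rintro _ ⟨s, rfl⟩
    rw [Scheme.Opens.range_ι]
    exact ⟨_, ⟨s, rfl⟩, rfl⟩
  let τ := IsOpenImmersion.lift (r ⁻¹ᵁ U).ι σ₀ hτr
  have hτfac : τ ≫ (r ⁻¹ᵁ U).ι = σ₀ := IsOpenImmersion.lift_fac _ _ _
  haveI : IsOpenImmersion τ := by
    haveI : IsOpenImmersion (τ ≫ (r ⁻¹ᵁ U).ι) := by rw [hτfac]; infer_instance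
    exact IsOpenImmersion.of_comp τ (r ⁻¹ᵁ U).ι
  haveI : Surjective τ := by
    refine ⟨fun z => ?_⟩
    obtain ⟨_, ⟨s, rfl⟩, hs⟩ := (z.2 : r z.1 ∈ r '' Set.range σ₀)
    refine ⟨s, (r ⁻¹ᵁ U).ι.isEmbedding.injective ?_⟩
    rw [← Scheme.Hom.comp_apply, hτfac]
    exact r.isEmbedding.injective hs
  haveI : IsIso τ := isIso_of_isOpenImmersion_of_opensRange_eq_top _
    (TopologicalSpace.Opens.ext (Set.range_eq_univ.2 τ.surjective))
  have hτ : τ ≫ (r ⁻¹ᵁ U).ι ≫ π₀ = 𝟙 _ := by
    rw [← Category.assoc, hτfac]; exact Limits.pullback.lift_snd _ _ _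
  haveI : IsIso ((r ⁻¹ᵁ U).ι ≫ π₀) := by
    rw [show (r ⁻¹ᵁ U).ι ≫ π₀ = inv τ from IsIso.eq_inv_of_hom_inv_id hτ]; infer_instance
  haveI : Surjective (Limits.pullback.diagonal e) := by
    let a := Limits.pullback.fst (Limits.pullback.fst e e ≫ e) i
    let s := Limits.pullback.snd (Limits.pullback.fst e e ≫ e) i
    have h1 : (a ≫ Limits.pullback.fst e e) ≫ e = s ≫ i := by
      rw [Category.assoc]; exact Limits.pullback.condition
    have h2 : (a ≫ Limits.pullback.snd e e) ≫ e = s ≫ i := by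
      rw [Category.assoc, ← Limits.pullback.condition (f := e) (g := e)]; exact Limits.pullback.condition
    have h3 : hU.lift _ _ h1 = hU.lift _ _ h2 := by
      rw [← cancel_mono ((r ⁻¹ᵁ U).ι ≫ π₀), hU.lift_snd, hU.lift_snd]
    have h4 : a ≫ Limits.pullback.fst e e = a ≫ Limits.pullback.snd e e := by
      rw [← hU.lift_fst _ _ h1, ← hU.lift_fst _ _ h2, h3]
    haveI : Surjective ((a ≫ Limits.pullback.fst e e) ≫ Limits.pullback.diagonal e) := by
      rw [show (a ≫ Limits.pullback.fst e e) ≫ Limits.pullback.diagonal e = a by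
        apply Limits.pullback.hom_ext <;> simp [Limits.pullback.lift_fst, Limits.pullback.lift_snd, Limits.pullback.lift_fst_assoc, Limits.pullback.lift_snd_assoc, h4]]
      infer_instance
    exact Surjective.of_comp (a ≫ Limits.pullback.fst e e) _
  haveI := mono_of_surjective_diagonal e
  haveI : IsOpenImmersion e := IsOpenImmersion.of_flat_of_mono e
  haveI : Surjective e := by
    haveI : Surjective ((r ∣_ U) ≫ e) := by rw [hU.w]; infer_instance
    exact Surjective.of_comp (r ∣_ U) e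
  haveI : IsIso e := isIso_of_isOpenImmersion_of_opensRange_eq_top _
    (TopologicalSpace.Opens.ext (Set.range_eq_univ.2 e.surjective))
  have hw : Limits.pullback.fst p g ≫ p = π ≫ g := Limits.pullback.condition
  have hi : i ≫ inv e = τ ≫ (r ∣_ U) := by
    rw [IsIso.comp_inv_eq, Category.assoc, hU.w, ← Category.assoc, ← Category.assoc,
      Category.assoc τ, hτ, Category.id_comp]
  refine ⟨inv e ≫ U.ι ≫ Limits.pullback.fst p g, ⟨?_, ?_⟩, ?_⟩
  · simp only [Category.assoc, hw]
    rw [← Category.assoc U.ι, IsIso.inv_hom_id_assoc]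
  · rw [← Category.assoc, hi, Category.assoc, ← Category.assoc (r ∣_ U), morphismRestrict_ι,
      Category.assoc, ← Category.assoc τ, hτfac]
    simp [Limits.pullback.lift_fst, Limits.pullback.lift_snd, Limits.pullback.lift_fst_assoc, Limits.pullback.lift_snd_assoc, σ₀, r]
  · rintro f ⟨hfp, hfi⟩
    let σ : S' ⟶ Limits.pullback p g := Limits.pullback.lift f (𝟙 _) (by simp [Limits.pullback.lift_fst, Limits.pullback.lift_snd, Limits.pullback.lift_fst_assoc, Limits.pullback.lift_snd_assoc, hfp])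
    have hσ : Set.range σ ⊆ Set.range U.ι := by
      rw [Scheme.Opens.range_ι]
      rintro _ ⟨s, rfl⟩
      obtain ⟨s₀, rfl⟩ := i.surjective s
      refine ⟨σ₀ s₀, ⟨s₀, rfl⟩, ?_⟩
      have h5 : σ₀ ≫ r = i ≫ σ := by
        apply Limits.pullback.hom_ext <;> simp [Limits.pullback.lift_fst, Limits.pullback.lift_snd, Limits.pullback.lift_fst_assoc, Limits.pullback.lift_snd_assoc, σ₀, r, σ, hfi]
      rw [← Scheme.Hom.comp_apply, h5]
      rfl
    have h6 : IsOpenImmersion.lift U.ι σ hσ = inv e := by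
      rw [← cancel_mono e, IsIso.inv_hom_id]
      simp [Limits.pullback.lift_fst, Limits.pullback.lift_snd, Limits.pullback.lift_fst_assoc, Limits.pullback.lift_snd_assoc, e, π, σ]
    rw [← h6, IsOpenImmersion.lift_fac_assoc]
    simp [Limits.pullback.lift_fst, Limits.pullback.lift_snd, Limits.pullback.lift_fst_assoc, Limits.pullback.lift_snd_assoc, σ]

end Groth.Agent.S5075
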