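import Groth.Statements.S5076
import Mathlib.RingTheory.Localization.AtPrime.Basic
import Mathlib.RingTheory.Ideal.GoingUp
import Mathlib.RingTheory.Nakayama
import Mathlib.RingTheory.IntegralClosure.IsIntegralClosure.Basic

set_option autoImplicit false
universe u
open Unram

namespace Groth.Agent.S5076

/-- Let A be a local ring with maximal ideal m, C a finite A-algebra, r a maximal ideal of C, and u an
element of C which lies in every maximal ideal of C other than r, does not lie in r, and whose image
generates C_r modulo m C_r as an A-algebra. Let B = A[u] be the A-subalgebra of C generated by u and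
n the inverse image of r in B. Then the canonical homomorphism B_n → C_r is bijective. -/
theorem result (A C : Type u) [CommRing A] [IsLocalRing A]
    [CommRing C] [Algebra A C] [Module.Finite A C] (r : Ideal C) [r.IsMaximal] (u : C)
    (hu₁ : ∀ r' : Ideal C, r'.IsMaximal → r' ≠ r → u ∈ r') (hu₂ : u ∉ r)
    (hu₃ : Subalgebra.toSubmodule (Algebra.adjoin A {algebraMap C (Localization.AtPrime r) u}) ⊔
        Submodule.restrictScalars A (Ideal.map (algebraMap A (Localization.AtPrime r)) (IsLocalRing.maximalIdeal A)) = ⊤) :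
    Function.Bijective (Localization.localRingHom (Ideal.comap (Algebra.adjoin A ({u} : Set C)).val.toRingHom r) r
      (Algebra.adjoin A ({u} : Set C)).val.toRingHom rfl) := by
  classical
  let B := Algebra.adjoin A ({u} : Set C)
  let n : Ideal B := Ideal.comap B.val.toRingHom r
  haveI : n.IsPrime := Ideal.IsPrime.comap _
  let Bn := Localization.AtPrime n
  let Cr := Localization.AtPrime r
  let f : Bn →+* Cr := Localization.localRingHom n r B.val.toRingHom rfl
  have hf : ∀ b : B, f (algebraMap B Bn b) = algebraMap C Cr (b : C) := fun b =>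
    Localization.localRingHom_to_map n r B.val.toRingHom rfl b
  haveI : Algebra.IsIntegral A C := Algebra.IsIntegral.of_finite A C
  haveI : Algebra.IsIntegral B C := Algebra.IsIntegral.tower_top (R := A)
  -- `r` is the only prime over `n`
  have key : ∀ I : Ideal C, ¬ I ≤ r → ∃ b : B, b ∉ n ∧ (b : C) ∈ I := by
    intro I hI
    by_contra hc
    push Not at hc
    have hle : I.comap (algebraMap B C) ≤ n := fun b hb => by
      by_contra hbn
      exact hc b hbn hb
    obtain ⟨P, hIP, hP, hPn⟩ := Ideal.exists_ideal_over_prime_of_isIntegral n I hle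
    haveI : n.IsMaximal := Ideal.isMaximal_comap_of_isIntegral_of_isMaximal (R := B) (S := C) r
    haveI : P.IsMaximal := Ideal.isMaximal_of_isIntegral_of_isMaximal_comap P (by rw [hPn]; infer_instance)
    rcases eq_or_ne P r with rfl | hne
    · exact hI hIP
    · have h1 : (⟨u, Algebra.subset_adjoin rfl⟩ : B) ∈ P.comap (algebraMap B C) := hu₁ P ‹_› hne
      rw [hPn] at h1
      exact hu₂ h1
  refine ⟨(injective_iff_map_eq_zero f).2 fun x hx => ?_, ?_⟩
  · obtain ⟨b, s, rfl⟩ := IsLocalization.exists_mk'_eq n.primeCompl x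
    have h1 : algebraMap C Cr (b : C) = 0 := by
      rw [← hf, ← IsLocalization.mk'_spec Bn b s, map_mul, hx, zero_mul]
    obtain ⟨c, hc⟩ := (IsLocalization.map_eq_zero_iff r.primeCompl Cr (b : C)).1 h1
    obtain ⟨b', hb', hb'I⟩ := key (LinearMap.ker (LinearMap.mulRight C (b : C)))
      (fun h => c.2 (h (show (c : C) * (b : C) = 0 from hc)))
    rw [IsLocalization.mk'_eq_zero_iff]
    exact ⟨⟨b', hb'⟩, Subtype.ext (show (b' : C) * (b : C) = 0 from hb'I)⟩
  letI : Algebra Bn Cr := f.toAlgebra
  have hrange : ∀ z : Cr, ∃ (w : Bn) (c : C), z = w • algebraMap C Cr c := by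
    intro z
    obtain ⟨c, s, rfl⟩ := IsLocalization.exists_mk'_eq r.primeCompl z
    obtain ⟨b, hb, hbI⟩ := key (Ideal.span {(s : C)}) (fun h => s.2 (h (Ideal.mem_span_singleton_self _)))
    obtain ⟨d, hd⟩ := Ideal.mem_span_singleton'.1 hbI
    refine ⟨IsLocalization.mk' Bn 1 (⟨b, hb⟩ : n.primeCompl), c * d, ?_⟩
    show _ = f _ * _
    have h2 : f (IsLocalization.mk' Bn 1 (⟨b, hb⟩ : n.primeCompl)) * algebraMap C Cr (b : C) = 1 := by
      rw [← hf, ← map_mul]
      exact (congrArg f (IsLocalization.mk'_spec Bn (1 : B) (⟨b, hb⟩ : n.primeCompl))).trans (by simp)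
    rw [IsLocalization.mk'_eq_iff_eq_mul, mul_assoc, ← map_mul,
      show c * d * (s : C) = c * (b : C) by rw [mul_assoc, hd], map_mul, mul_left_comm, h2, mul_one]
  obtain ⟨gens, hgens⟩ := Module.Finite.fg_top (R := A) (M := C)
  have hspanC : ∀ c : C, algebraMap C Cr c ∈ Submodule.span Bn (algebraMap C Cr '' (gens : Set C)) := by
    intro c
    have hc : c ∈ Submodule.span A (gens : Set C) := hgens.ge trivial
    induction hc using Submodule.span_induction with
    | mem x hx => exact Submodule.subset_span ⟨x, hx, rfl⟩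
    | zero => simp
    | add a b _ _ ha hb => rw [map_add]; exact add_mem ha hb
    | smul a x _ hx =>
      rw [Algebra.smul_def, map_mul, show algebraMap C Cr (algebraMap A C a) * algebraMap C Cr x =
        algebraMap B Bn (algebraMap A B a) • algebraMap C Cr x from (congrArg (· * algebraMap C Cr x) (hf (algebraMap A B a))).symm]
      exact Submodule.smul_mem _ _ hx
  have hfin : (⊤ : Submodule Bn Cr).FG := ⟨gens.image (algebraMap C Cr), by
    rw [Finset.coe_image, eq_top_iff]
    intro z _
    obtain ⟨w, c, rfl⟩ := hrange z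
    exact Submodule.smul_mem _ _ (hspanC c)⟩
  have hnm : ∀ a ∈ IsLocalRing.maximalIdeal A, algebraMap B Bn (algebraMap A B a) ∈ IsLocalRing.maximalIdeal Bn := by
    intro a ha
    rw [IsLocalization.AtPrime.to_map_mem_maximal_iff Bn n]
    show algebraMap A C a ∈ r
    haveI := Ideal.isMaximal_comap_of_isIntegral_of_isMaximal (R := A) (S := C) r
    rwa [← Ideal.mem_comap, IsLocalRing.eq_maximalIdeal ‹(r.comap (algebraMap A C)).IsMaximal›]
  have htop : (⊤ : Submodule Bn Cr) ≤ LinearMap.range (Algebra.linearMap Bn Cr) := by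
    refine Submodule.le_of_le_smul_of_le_jacobson_bot (I := IsLocalRing.maximalIdeal Bn) hfin
      (IsLocalRing.maximalIdeal_le_jacobson _) fun z hzt => ?_
    have hz := hu₃.ge (Submodule.mem_top (x := z))
    obtain ⟨a, ha, b, hb, rfl⟩ := Submodule.mem_sup.1 hz
    refine add_mem (Submodule.mem_sup_left ?_) (Submodule.mem_sup_right ?_)
    · clear hz hzt
      replace ha : a ∈ Algebra.adjoin A {algebraMap C Cr u} := ha
      induction ha using Algebra.adjoin_induction with
      | mem x hx => subst hx; exact ⟨algebraMap B Bn ⟨u, Algebra.subset_adjoin rfl⟩, hf _⟩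
      | algebraMap x =>
        exact ⟨algebraMap B Bn (algebraMap A B x), (hf _).trans (IsScalarTower.algebraMap_apply A C Cr x).symm⟩
      | add x y _ _ hx hy => exact add_mem hx hy
      | mul x y _ _ hx hy =>
        obtain ⟨x', rfl⟩ := hx
        obtain ⟨y', rfl⟩ := hy
        exact ⟨x' * y', map_mul f x' y'⟩
    · replace hb : b ∈ Ideal.span (algebraMap A Cr '' (IsLocalRing.maximalIdeal A : Set A)) := hb
      refine Submodule.span_induction (p := fun b _ => ∀ z : Cr, b * z ∈ IsLocalRing.maximalIdeal Bn • (⊤ : Submodule Bn Cr))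
        ?_ ?_ ?_ ?_ hb 1 |> fun h => by simpa using h
      · rintro _ ⟨a, ha, rfl⟩ z
        rw [show algebraMap A Cr a * z = algebraMap B Bn (algebraMap A B a) • z from
          congrArg (· * z) ((IsScalarTower.algebraMap_apply A C Cr a).trans (hf (algebraMap A B a)).symm)]
        exact Submodule.smul_mem_smul (hnm a ha) trivial
      · simp
      · intro x y _ _ hx hy z; rw [add_mul]; exact add_mem (hx z) (hy z)
      · intro c x _ hx z; rw [smul_eq_mul, mul_comm c, mul_assoc]; exact hx (c * z)
  exact fun z => htop (Submodule.mem_top (x := z))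

end Groth.Agent.S5076
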