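import Groth.Statements.S5079
import Groth.Agent.Lib.PunctIC6.Scheme

set_option autoImplicit false
open CategoryTheory AlgebraicGeometry Opposite
universe u
open Unram

namespace Groth.Agent.S5079

/-- Let A be a reduced Noetherian local ring, A' the integral closure of A in its total ring of
fractions and U the punctured spectrum of A. Assume that for every maximal ideal m' of A' lying over
the maximal ideal of A the local ring A'_{m'} has dimension at least 2. Then, writing ρ for the
restriction map A = Γ(Spec A, O) → Γ(U, O), the ring Γ(U, O) is integral over A via ρ and there is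
an injective ring homomorphism Γ(U, O) → A' compatible with ρ and the inclusion of A in A'. -/
theorem result (A : Type u) [CommRing A] [IsNoetherianRing A]
    [IsLocalRing A] [IsReduced A]
    (hdim : ∀ (m' : Ideal ↥(integralClosure A (FractionRing A))) [m'.IsMaximal],
      m'.comap (algebraMap A ↥(integralClosure A (FractionRing A))) = IsLocalRing.maximalIdeal A →
        2 ≤ ringKrullDim (Localization.AtPrime m')) :
    (((Spec (CommRingCat.of A)).presheaf.map (homOfLE (le_top : FEt.puncturedSpec A ≤ ⊤)).op).hom.comp
        (Scheme.ΓSpecIso (CommRingCat.of A)).inv.hom).IsIntegral ∧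
      ∃ φ : ↑((Spec (CommRingCat.of A)).presheaf.obj (op (FEt.puncturedSpec A))) →+* ↥(integralClosure A (FractionRing A)),
        Function.Injective φ ∧
          φ.comp (((Spec (CommRingCat.of A)).presheaf.map (homOfLE (le_top : FEt.puncturedSpec A ≤ ⊤)).op).hom.comp
            (Scheme.ΓSpecIso (CommRingCat.of A)).inv.hom) = algebraMap A ↥(integralClosure A (FractionRing A)) := by
  have h2 : ∀ (m : Ideal ↥(integralClosure A (FractionRing A))) [m.IsMaximal], 2 ≤ m.height := by
    intro m _
    have h := hdim m (IsLocalRing.eq_maximalIdeal (Ideal.isMaximal_comap_of_isIntegral_of_isMaximal (R := A) m))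
    rw [IsLocalization.AtPrime.ringKrullDim_eq_height m (Localization.AtPrime m)] at h
    exact WithBot.coe_le_coe.1 h
  obtain ⟨φ, hinj, hφ⟩ := PunctIC6.exists_hom (CommRingCat.of A) (FEt.puncturedSpec A)
    (fun s hs p hp h => by
      rw [Set.mem_singleton_iff] at h
      subst h
      exact hp hs)
    (fun p hp => by
      refine TopologicalSpace.Opens.mem_iSup.2 ?_
      by_contra hcon
      push Not at hcon
      exact hp (PrimeSpectrum.ext ((IsLocalRing.maximalIdeal.isMaximal A).eq_of_le p.2.ne_top
        (fun t ht => not_not.1 (hcon ⟨t, ht⟩))).symm))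
    h2
  rw [IsAffineOpen.algebraMap_Spec_obj] at hφ
  refine ⟨fun x => ?_, φ, hinj, hφ⟩
  obtain ⟨p, hp, hpx⟩ := (Algebra.IsIntegral.isIntegral (R := A) (φ x))
  refine ⟨p, hp, hinj ?_⟩
  rw [map_zero, Polynomial.hom_eval₂]
  exact (congrArg (fun r => Polynomial.eval₂ r (φ x) p) hφ).trans hpx

end Groth.Agent.S5079
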