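import Groth.Statements.S5081
-- import your own Groth.Agent.* helpers here


set_option autoImplicit false
universe u
open Unram

namespace Groth.Agent.S5081

/-- Let B be a finite A-algebra generated by a single element u and F a polynomial with coefficients in
A such that F(u) = 0. Then the ideal generated by F'(u) is contained in the annihilator of the
module of differentials of B over A, and equals it when the kernel of the surjection A[T] → B
sending T to u is generated by F. -/
theorem result (A B : Type u) [CommRing A] [CommRing B] [Algebra A B]
    [Module.Finite A B] (u : B) (hu : Algebra.adjoin A ({u} : Set B) = ⊤) (F : Polynomial A) (hF : Polynomial.aeval u F = 0) :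
    Ideal.span {Polynomial.aeval u (Polynomial.derivative F)} ≤ Module.annihilator B (KaehlerDifferential A B) ∧
      (RingHom.ker (Polynomial.aeval u : Polynomial A →ₐ[A] B) = Ideal.span {F} →
        Module.annihilator B (KaehlerDifferential A B) = Ideal.span {Polynomial.aeval u (Polynomial.derivative F)}) := by
  classical
  set D := KaehlerDifferential.D A B
  set g := Polynomial.aeval u (Polynomial.derivative F) with hg
  have hsurj : Function.Surjective (Polynomial.aeval u : Polynomial A →ₐ[A] B) := fun b => by
    have hb : b ∈ Algebra.adjoin A ({u} : Set B) := by rw [hu]; trivial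
    rwa [Algebra.adjoin_singleton_eq_range_aeval, AlgHom.mem_range] at hb
  have hDp : ∀ p : Polynomial A, D (Polynomial.aeval u p) = Polynomial.aeval u (Polynomial.derivative p) • D u :=
    fun p => by
      induction p using Polynomial.induction_on' with
      | add p q hp hq => simp only [map_add, hp, hq, add_smul]
      | monomial n a =>
        rw [Polynomial.aeval_monomial, Derivation.leibniz, Derivation.leibniz_pow, Derivation.map_algebraMap,
          smul_zero, add_zero, Polynomial.derivative_monomial, Polynomial.aeval_monomial, map_mul, map_natCast,
          ← Nat.cast_smul_eq_nsmul B, smul_smul, smul_smul, mul_assoc]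
  refine ⟨?_, fun hker => ?_⟩
  · rw [Ideal.span_le, Set.singleton_subset_iff, SetLike.mem_coe, Module.mem_annihilator]
    intro z
    have hz : z ∈ Submodule.span B (Set.range D) := by rw [KaehlerDifferential.span_range_derivation]; trivial
    induction hz using Submodule.span_induction with
    | mem z hz =>
      obtain ⟨b, rfl⟩ := hz
      obtain ⟨p, rfl⟩ := hsurj b
      rw [hDp, smul_comm, hg, ← hDp F, hF, map_zero, smul_zero]
    | zero => rw [smul_zero]
    | add a b _ _ ha hb => rw [smul_add, ha, hb, add_zero]
    | smul c a _ ha => rw [smul_comm, ha, smul_zero]
  · refine le_antisymm (fun c hc => ?_) ?_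
    · let J := Ideal.span {g}
      choose sec hsec using hsurj
      have key : ∀ p q : Polynomial A, Polynomial.aeval u p = Polynomial.aeval u q →
          Ideal.Quotient.mk J (Polynomial.aeval u (Polynomial.derivative p)) =
            Ideal.Quotient.mk J (Polynomial.aeval u (Polynomial.derivative q)) := fun p q hpq => by
        have hm : p - q ∈ Ideal.span {F} := hker ▸ (RingHom.mem_ker.2 (by rw [map_sub, hpq, sub_self]))
        obtain ⟨r, hr⟩ := Ideal.mem_span_singleton'.1 hm
        rw [Ideal.Quotient.eq, ← map_sub, ← Polynomial.derivative_sub, ← hr, Polynomial.derivative_mul, map_add, map_mul,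
          map_mul, hF, mul_zero, zero_add]
        exact Ideal.mul_mem_left _ _ (Ideal.subset_span rfl)
      let δ : Derivation A B (B ⧸ J) := Derivation.mk'
        { toFun := fun b => Ideal.Quotient.mk J (Polynomial.aeval u (Polynomial.derivative (sec b)))
          map_add' := fun a b => by
            rw [← map_add, key (sec (a + b)) (sec a + sec b) (by rw [map_add, hsec, hsec, hsec]),
              Polynomial.derivative_add, map_add]
          map_smul' := fun r b => by
            rw [RingHom.id_apply, key (sec (r • b)) (r • sec b) (by rw [map_smul, hsec, hsec]),
              Polynomial.derivative_smul, map_smul]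
            rfl }
        fun a b => by
          show Ideal.Quotient.mk J _ = a • Ideal.Quotient.mk J _ + b • Ideal.Quotient.mk J _
          rw [key (sec (a * b)) (sec a * sec b) (by rw [map_mul, hsec, hsec, hsec]), Polynomial.derivative_mul,
            map_add, map_mul, map_mul, hsec, hsec, add_comm, map_add, Algebra.smul_def, Algebra.smul_def,
            mul_comm (Polynomial.aeval u (Polynomial.derivative (sec a))) b, map_mul, map_mul]
          rfl
      have h1 : δ u = 1 := by
        show Ideal.Quotient.mk J (Polynomial.aeval u (Polynomial.derivative (sec u))) = 1
        rw [key (sec u) Polynomial.X (by rw [hsec, Polynomial.aeval_X]), Polynomial.derivative_X, map_one, map_one]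
      have h2 := congrArg δ.liftKaehlerDifferential (Module.mem_annihilator.1 hc (D u))
      rw [map_smul, map_zero, Derivation.liftKaehlerDifferential_comp_D, h1, Algebra.smul_def, mul_one] at h2
      exact Ideal.Quotient.eq_zero_iff_mem.1 h2
    · rw [Ideal.span_le, Set.singleton_subset_iff, SetLike.mem_coe, Module.mem_annihilator]
      intro z
      have hz : z ∈ Submodule.span B (Set.range D) := by rw [KaehlerDifferential.span_range_derivation]; trivial
      induction hz using Submodule.span_induction with
      | mem z hz =>
        obtain ⟨b, rfl⟩ := hz
        obtain ⟨p, rfl⟩ := hsurj b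
        rw [hDp, smul_comm, hg, ← hDp F, hF, map_zero, smul_zero]
      | zero => rw [smul_zero]
      | add a b _ _ ha hb => rw [smul_add, ha, hb, add_zero]
      | smul c a _ ha => rw [smul_comm, ha, smul_zero]

end Groth.Agent.S5081
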