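import Groth.Statements.S5082
import Groth.Agent.Lib.CDivLib.Mero
import Groth.Agent.Lib.WeakAss18.Mero
import Mathlib.AlgebraicGeometry.Stalk
import Groth.Agent.Lib.Depth.More

set_option autoImplicit false
universe u
open CategoryTheory CategoryTheory.Limits AlgebraicGeometry TopologicalSpace
open Mero

namespace Groth.Agent.S5082


open IsLocalRing Opposite Groth.Agent.CDivLib

theorem equiv_mem {R S : Type u} [CommRing R] [CommRing S] (e : R ≃+* S) {t : R} (h : t ∈ nonZeroDivisors R) :
    e t ∈ nonZeroDivisors S := by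
  rw [mem_nonZeroDivisors_iff_right]
  intro z hz
  obtain ⟨y, rfl⟩ := e.surjective z
  rw [← map_mul, map_eq_zero_iff e e.injective] at hz
  rw [(mem_nonZeroDivisors_iff_right.1 h) y hz, map_zero]

theorem stalk_regular_iff (A : Type u) [CommRing A] [IsLocalRing A] :
    (∀ r ∈ nonZeroDivisors ((Spec (CommRingCat.of A)).presheaf.stalk (closedPoint A)), IsUnit r) ↔
      ∀ t ∈ nonZeroDivisors A, IsUnit t := by
  let e := (stalkClosedPointIso (CommRingCat.of A)).commRingCatIsoToRingEquiv
  constructor
  · intro h t ht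
    have := h (e.symm t) (equiv_mem e.symm ht)
    simpa using this.map e
  · intro h r hr
    have := h (e r) (equiv_mem e hr)
    simpa using this.map e.symm



/-- Let A be a Noetherian local ring. Then the group of divisors of Spec A is trivial (every divisor
equals the unit divisor, divisors being written multiplicatively) if and only if A has depth 0, that
is, if and only if every element of the maximal ideal of A is a zero-divisor. -/
theorem result (A : Type u) [CommRing A] [IsNoetherianRing A] [IsLocalRing A] :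
    (∀ D : Mero.Divisor (Spec (CommRingCat.of A)), D = 1) ↔ LocCoh.depth A A = 0 := by
  have hdepth : LocCoh.depth A A = 0 ↔ ∀ t ∈ nonZeroDivisors A, IsUnit t := by
    rw [Groth.Agent.Depth3.depth_eq_zero_iff, ← Groth.Agent.Depth3.forall_not_regular_iff_mem_associatedPrimes]
    constructor
    · intro h t ht
      by_contra hu
      exact h t hu fun a b hab => (mul_cancel_left_mem_nonZeroDivisors ht).1 hab
    · intro h t htm hreg
      refine htm (h t (mem_nonZeroDivisors_iff_right.2 fun a ha => hreg ?_))
      show t • a = t • 0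
      rw [smul_zero, smul_eq_mul, mul_comm, ha]
  rw [hdepth, ← stalk_regular_iff A]
  constructor
  · intro hD
    rw [stalk_regular_iff A]
    intro t ht
    set X := Spec (CommRingCat.of A) with hX
    let iso := (Scheme.ΓSpecIso (CommRingCat.of A)).commRingCatIsoToRingEquiv
    let s : Γ(X, ⊤) := iso.symm t
    have hs : s ∈ Mero.regSub X ⊤ := Groth.Agent.WA.mem_regSub_of_nonZeroDivisors (isAffineOpen_top X)
      (equiv_mem iso.symm ht)
    let inv : Γ(Mero.kmod X, ⊤) := ⟨fun x => LocalizedModule.mk 1 (Mero.regGerm x ⟨s, hs⟩), fun x => ⟨⊤, x.2, 𝟙 _, 1,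
      ⟨s, hs⟩, fun y => Mero.mk_congr (map_one _).symm rfl⟩⟩
    have hmul : Mero.toK X ⊤ s * inv = 1 := Subtype.ext (funext fun x => by
      change (LocalizedModule.mk (X.presheaf.germ ⊤ x.1 x.2 s) 1 : Mero.KStalk X x.1) * LocalizedModule.mk 1 _ = 1
      rw [mul_comm]
      exact (Groth.Agent.WA.mk_eq_div (1 : X.presheaf.stalk x.1) (Mero.regGerm x ⟨s, hs⟩)).trans (map_one _))
    let f : (Γ(Mero.kmod X, ⊤))ˣ := ⟨Mero.toK X ⊤ s, inv, hmul, by rw [mul_comm]; exact hmul⟩
    have hc := congrFun (congrArg Subtype.val (hD (Mero.div f))) (closedPoint A)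
    change Mero.germOf f ⟨closedPoint A, trivial⟩ = 1 at hc
    rw [QuotientGroup.eq_one_iff] at hc
    obtain ⟨w, hw⟩ := hc
    have hw' : algebraMap (X.presheaf.stalk (closedPoint A)) (Mero.KStalk X (closedPoint A)) (w : X.presheaf.stalk (closedPoint A)) =
        LocalizedModule.mk (X.presheaf.germ ⊤ (closedPoint A) trivial s) 1 := congrArg Units.val hw
    have hwe : (w : X.presheaf.stalk (closedPoint A)) = X.presheaf.germ ⊤ (closedPoint A) trivial s := by
      apply Mero.algebraMap_KStalk_injective (X := X) (closedPoint A : X)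
      exact hw'
    have hu : IsUnit (X.presheaf.germ ⊤ (closedPoint A) trivial s) := hwe ▸ w.isUnit
    have h2 := hu.map (stalkClosedPointIso (CommRingCat.of A)).hom.hom
    rw [← ConcreteCategory.comp_apply, show X.presheaf.germ ⊤ (closedPoint A) trivial ≫ (stalkClosedPointIso (CommRingCat.of A)).hom =
      (Scheme.ΓSpecIso (CommRingCat.of A)).hom from germ_stalkClosedPointIso_hom ..] at h2
    have hst : (Scheme.ΓSpecIso (CommRingCat.of A)).hom s = t := iso.apply_symm_apply t
    rwa [hst] at h2
  · intro h D
    refine Subtype.ext (funext fun y => ?_)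
    obtain ⟨E, hc⟩ := exists_eqn D (closedPoint A)
    have hy : y ∈ E.W := (IsLocalRing.specializes_closedPoint (R := A) y).mem_open E.W.isOpen hc
    refine (E.eq_one_iff ⟨y, hy⟩).2 ?_
    have key : ∀ g : Γ(Spec (CommRingCat.of A), E.W), g ∈ Mero.regSub _ E.W →
        IsUnit ((Spec (CommRingCat.of A)).presheaf.germ E.W y hy g) := by
      intro g hg
      have hu := h _ (hg ⟨closedPoint A, hc⟩)
      rw [← Scheme.mem_basicOpen] at hu ⊢
      exact (IsLocalRing.specializes_closedPoint (R := A) y).mem_open ((Spec (CommRingCat.of A)).basicOpen g).isOpen hu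
    exact ⟨(key _ E.hb).dvd, (key _ E.ha).dvd⟩

end Groth.Agent.S5082
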