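import Groth.Statements.S5083
import Groth.Agent.Lib.MeroLib.DivMod

set_option autoImplicit false
universe u
open CategoryTheory CategoryTheory.Limits AlgebraicGeometry TopologicalSpace
open Mero

namespace Groth.Agent.S5083

/-- Let X be a scheme and D, D' divisors on X (global sections of the sheaf of units of K_X modulo units
of O_X, written multiplicatively). If D and D' are linearly equivalent, i.e. D · D'⁻¹ is the divisor
of a unit of the ring of global sections of K_X, then the O_X-modules O_X(D) and O_X(D') are
isomorphic. (The published statement is an equivalence: O_X(D) and O_X(D') are isomorphic if and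
only if D and D' are linearly equivalent; this row states only that linearly equivalent divisors
have isomorphic modules.) -/
theorem result (X : Scheme.{u}) (D D' : Mero.Divisor X) (h : Mero.LinEquiv D D') :
    Nonempty (Mero.divMod D ≅ Mero.divMod D') := by
  obtain ⟨f, hf⟩ := h
  refine ⟨Groth.Agent.MeroLib.mulIso (D := D) (D' := D') f fun x => ?_⟩
  have h1 := congrFun (congrArg Subtype.val hf) x
  change D.1 x * (D'.1 x)⁻¹ = Mero.germOf f ⟨x, TopologicalSpace.Opens.mem_top x⟩ at h1
  rw [← h1]
  exact ((mul_left_comm (D'.1 x : Mero.Germ X x) (D.1 x) (D'.1 x)⁻¹).trans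
    ((congrArg ((D.1 x : Mero.Germ X x) * ·) (mul_inv_cancel (D'.1 x : Mero.Germ X x))).trans (mul_one _))).symm

end Groth.Agent.S5083
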