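import Groth.Statements.S5084
import Groth.Agent.Lib.MeroLib.Basic
import Groth.Agent.Lib.ModM1.Exact
import Groth.Agent.Lib.WeakAss18.Iso
import Groth.Agent.Lib.AssPts11.Basic
import Groth.Agent.Lib.Depth3.Zero

set_option autoImplicit false
universe u
open CategoryTheory CategoryTheory.Limits AlgebraicGeometry TopologicalSpace
open Mero

namespace Groth.Agent.S5084

/-- Let X be a locally Noetherian scheme and F a quasi-coherent O_X-module. Then F is torsion-free — the
canonical map from F to its sheaf of meromorphic sections K_X(F), m ↦ m/1, is a monomorphism, i.e.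
at every point no germ of a regular function kills a nonzero element of the stalk of F — if and only
if every associated point of F is an associated point of the structure sheaf (a point x such that
the maximal ideal of O_{X,x} is an associated prime of O_{X,x}). -/
theorem result (X : Scheme.{u}) [IsLocallyNoetherian X]
    (F : X.Modules) (hF : Coh.IsQCoh F) :
    Mono (Mero.toMer F) ↔
      ∀ x : ↥X, Curv2.IsAssPoint F x →
        IsAssociatedPrime (IsLocalRing.maximalIdeal ↑(X.presheaf.stalk x)) ↑(X.presheaf.stalk x) := by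
  have hQ : Coh.IsQCoh F := hF
  have key : ∀ (U : X.Opens) (t : Γ(F, U)), Mero.toMerFun F U t = 0 → ∀ x : U,
      ∃ c ∈ Mero.regStalk X x.1, c • F.presheaf.germ U x.1 x.2 t = 0 := by
    intro U t h x
    have h1 : (LocalizedModule.mk (F.presheaf.germ U x.1 x.2 t) 1 : Mero.MStalk F x.1) = 0 :=
      congrFun (congrArg Subtype.val h) x
    rw [← LocalizedModule.zero_mk (1 : Mero.regStalk X x.1), LocalizedModule.mk_eq] at h1
    obtain ⟨c, hc⟩ := h1
    refine ⟨c.1, c.2, ?_⟩
    simpa [Submonoid.smul_def] using hc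
  constructor
  · intro hmono y hy
    have hinj := (Groth.Agent.M1.mono_iff_app (Mero.toMer F)).1 hmono
    obtain ⟨m, hm⟩ := (Groth.Agent.WA.isAssPoint_iff y).1 hy
    have hfin : ∀ U : X.Opens, IsAffineOpen U →
        {y : X | y ∈ U ∧ Curv2.IsWeakAssPoint (Coh.structureModule X) y}.Finite := fun U hU =>
      Groth.Agent.WA.finite_weakAss_affine (Groth.Agent.M1.isQCoh_structureModule X)
        (Groth.Agent.M1.isCoh_structureModule X).2 hU
    refine Groth.Agent.Depth3.forall_not_regular_iff_mem_associatedPrimes.1 fun c hc hreg => ?_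
    have hcmem : c ∈ Mero.regStalk X y := by
      rw [Groth.Agent.WA.regStalk_eq_of_finite hfin y, mem_nonZeroDivisors_iff_right]
      intro z hz
      refine hreg ?_
      simp only [smul_eq_mul, mul_zero]
      rw [mul_comm, hz]
    obtain ⟨k, hk⟩ := Groth.Agent.WA.exists_pow_smul_eq_zero hm hc
    obtain ⟨V, hyV, t, rfl⟩ := F.presheaf.exists_germ_eq m
    obtain ⟨W, hyW, g, hg, hgc⟩ := pow_mem hcmem k
    have h0 : F.presheaf.germ (V ⊓ W) y ⟨hyV, hyW⟩
        (X.presheaf.map (homOfLE (inf_le_right : V ⊓ W ≤ W)).op g • F.presheaf.map (homOfLE (inf_le_left : V ⊓ W ≤ V)).op t) =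
        F.presheaf.germ (V ⊓ W) y ⟨hyV, hyW⟩ 0 := by
      rw [Mero.germ_smul, TopCat.Presheaf.germ_res_apply, TopCat.Presheaf.germ_res_apply, hgc, hk, map_zero]
    obtain ⟨V', hyV', i, i', e⟩ := F.presheaf.germ_eq y _ _ _ _ h0
    rw [map_zero] at e
    have ht : Mero.toMerFun F V' (F.presheaf.map (homOfLE (i.le.trans inf_le_left)).op t) = 0 := by
      refine Subtype.ext (funext fun w => ?_)
      change (LocalizedModule.mk _ 1 : Mero.MStalk F w.1) = 0
      rw [← LocalizedModule.zero_mk (1 : Mero.regStalk X w.1), LocalizedModule.mk_eq]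
      refine ⟨Mero.regGerm ⟨w.1, inf_le_right (a := V) (i.le w.2)⟩ ⟨g, hg⟩, ?_⟩
      have h2 := congrArg (F.presheaf.germ V' w.1 w.2) e
      rw [TopCat.Presheaf.germ_res_apply, map_zero, Mero.germ_smul, TopCat.Presheaf.germ_res_apply,
        TopCat.Presheaf.germ_res_apply] at h2
      simp only [one_smul, smul_zero, Submonoid.smul_def]
      rw [TopCat.Presheaf.germ_res_apply]
      exact h2
    have ht0 := hinj V' (ht.trans (map_zero ((Mero.toMer F).app V').hom).symm)
    refine Groth.Agent.WA.ne_zero_of_radical_ann hm ?_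
    rw [← F.presheaf.germ_res_apply (homOfLE (i.le.trans inf_le_left)) y hyV' t, ht0, map_zero]
  · intro h
    rw [Groth.Agent.M1.mono_iff_app]
    intro U
    refine (injective_iff_map_eq_zero _).2 fun t ht => ?_
    refine Groth.Agent.M1.section_ext t 0 fun x hx => ?_
    rw [map_zero]
    by_contra hne
    obtain ⟨c, hcmem, hc0⟩ := key U t ht ⟨x, hx⟩
    obtain ⟨W₀, hxW₀, g, hg, rfl⟩ := hcmem
    obtain ⟨W, hW, hxW, hWU'⟩ := AlgebraicGeometry.exists_isAffineOpen_mem_and_subset (U := U ⊓ W₀) ⟨hx, hxW₀⟩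
    have hWU : W ≤ U ⊓ W₀ := hWU'
    haveI := hQ
    obtain ⟨y, hy, hyx, hwa, hny⟩ := Groth.Agent.WA.exists_weakAss hW hxW
      (Groth.Agent.M1.mres F (hWU.trans inf_le_left) t)
      (by rw [Groth.Agent.M1.germ_mres F (hWU.trans inf_le_left) hxW]; exact hne)
    obtain ⟨hp, m, hm⟩ := h y ((Groth.Agent.WA.isAssPoint_iff y).2 hwa)
    have hu : IsUnit (X.presheaf.germ W₀ y (inf_le_right (a := U) (hWU hy)) g) := by
      by_contra hu
      have hmem := (IsLocalRing.mem_maximalIdeal _).mpr hu
      rw [hm] at hmem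
      obtain ⟨k, hk⟩ := hmem
      rw [Submodule.mem_colon_singleton, Submodule.mem_bot, smul_eq_mul] at hk
      have hm0 : m = 0 := mem_nonZeroDivisors_iff.mp (pow_mem (hg ⟨y, inf_le_right (a := U) (hWU hy)⟩) k) |>.1 _ hk
      refine hp.ne_top (hm.trans ?_)
      rw [Ideal.radical_eq_top, Ideal.eq_top_iff_one, Submodule.mem_colon_singleton, Submodule.mem_bot, hm0, smul_zero]
    have h3 : F.presheaf.germ W x hxW (X.presheaf.map (homOfLE (hWU.trans inf_le_right)).op g •
        Groth.Agent.M1.mres F (hWU.trans inf_le_left) t) = 0 := by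
      rw [Mero.germ_smul, TopCat.Presheaf.germ_res_apply, Groth.Agent.M1.germ_mres F (hWU.trans inf_le_left) hxW]
      exact hc0
    have h4 := Groth.Agent.WA.germ_zero_of_specializes hxW hy hyx _ h3
    rw [Mero.germ_smul, TopCat.Presheaf.germ_res_apply] at h4
    obtain ⟨w, hw⟩ := hu
    rw [← hw, ← Units.smul_def, smul_eq_zero_iff_eq] at h4
    exact hny h4

end Groth.Agent.S5084
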