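import Groth.Statements.S5085
import Groth.Agent.Lib.WeakAss18.Mero

set_option autoImplicit false
universe u
open CategoryTheory CategoryTheory.Limits AlgebraicGeometry TopologicalSpace
open Mero

namespace Groth.Agent.S5085

/-- Let X be a scheme, U an open subset and V an open subset of U which is schematically dense in U (for
every open W ⊆ U, restriction of functions from W to W ∩ V is injective). Then restriction of
sections of the sheaf of meromorphic functions K_X from U to V is injective: the canonical map from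
meromorphic functions to pseudo-functions is injective. -/
theorem result (X : Scheme.{u}) (U V : X.Opens) (hVU : V ≤ U)
    (hV : ∀ W : X.Opens, W ≤ U →
      Function.Injective ⇑(X.presheaf.map (homOfLE (inf_le_left : W ⊓ V ≤ W)).op)) :
    Function.Injective ⇑((Mero.kmod X).presheaf.map (homOfLE hVU).op) := by
  intro s t hst
  refine Subtype.ext (funext fun x => ?_)
  let f : Γ(Mero.kmod X, U) := s - t
  have hfV : (Mero.kmod X).presheaf.map (homOfLE hVU).op f = 0 := (map_sub _ s t).trans (sub_eq_zero.mpr hst)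
  suffices h : f.1 x = 0 by exact sub_eq_zero.mp h
  obtain ⟨W, hxW, i, a, b, hab⟩ := f.2 x
  have ha0 : a = 0 := by
    refine hV W i.le ?_
    rw [map_zero]
    refine TopCat.Presheaf.section_ext X.sheaf _ _ 0 fun y hy => ?_
    change X.presheaf.germ _ y hy (X.presheaf.map _ a) = X.presheaf.germ _ y hy 0
    rw [TopCat.Presheaf.germ_res_apply, map_zero]
    have h0 : f.1 ⟨y, i.le hy.1⟩ = 0 := congrArg (fun g : Γ(Mero.kmod X, V) => g.1 ⟨y, hy.2⟩) hfV
    have h1 : f.1 ⟨y, i.le hy.1⟩ = LocalizedModule.mk (X.presheaf.germ W y hy.1 a) (Mero.regGerm ⟨y, hy.1⟩ b) := hab ⟨y, hy.1⟩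
    have h2 := Groth.Agent.WA.mk_eq_div (X.presheaf.germ W y hy.1 a) (Mero.regGerm ⟨y, hy.1⟩ b)
    rw [← h1, h0, zero_mul, ← map_zero (algebraMap (X.presheaf.stalk y) (Mero.KStalk X y))] at h2
    exact (Mero.algebraMap_KStalk_injective y h2).symm
  have h1 : f.1 x = LocalizedModule.mk (X.presheaf.germ W x.1 hxW a) (Mero.regGerm ⟨x.1, hxW⟩ b) := hab ⟨x.1, hxW⟩
  rw [h1, ha0, map_zero, LocalizedModule.zero_mk]

end Groth.Agent.S5085
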