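import Groth.Statements.S5092
import Groth.Agent.Lib.MeroLib.Basic

set_option autoImplicit false
universe u
open CategoryTheory CategoryTheory.Limits AlgebraicGeometry TopologicalSpace
open Mero

namespace Groth.Agent.S5092

/-- Suppose X and Y are schemes, both locally Noetherian, and f : X → Y is a morphism carrying each
associated point of O_X (that is, a point whose local ring has its maximal ideal among its
associated primes) to an associated point of O_Y. Then, given any open subset U of Y and any regular
function s on U (one whose germ at each point of U is a non-zero-divisor), the function on f⁻¹(U)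
obtained by pulling s back along f is again regular; as a result, every meromorphic function and
every divisor on Y admits a well-defined pullback along f. -/
theorem result {X Y : Scheme.{u}} [IsLocallyNoetherian X] [IsLocallyNoetherian Y]
    (f : X ⟶ Y)
    (hf : ∀ x : ↥X, IsAssociatedPrime (IsLocalRing.maximalIdeal ↑(X.presheaf.stalk x)) ↑(X.presheaf.stalk x) →
      IsAssociatedPrime (IsLocalRing.maximalIdeal ↑(Y.presheaf.stalk (f x))) ↑(Y.presheaf.stalk (f x))) :
    ∀ (U : Y.Opens) (s : Γ(Y, U)), s ∈ Mero.regSub Y U → f.app U s ∈ Mero.regSub X (f ⁻¹ᵁ U) := by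
  intro U s hs
  rintro ⟨x, hx⟩
  obtain ⟨W, hW, hxW, hWV⟩ := AlgebraicGeometry.exists_isAffineOpen_mem_and_subset (U := f ⁻¹ᵁ U) hx
  rw [← X.presheaf.germ_res_apply (homOfLE hWV) x hxW (f.app U s)]
  refine Groth.Agent.WA.germ_mem_nonZeroDivisors hW hxW _ fun y hy _ hwa => ?_
  rw [X.presheaf.germ_res_apply (homOfLE hWV) y hy (f.app U s)]
  refine (Groth.Agent.WA.isUnit_germ_app f (hWV hy) s).mpr ?_
  obtain ⟨hp, m, hm⟩ := hf y (Groth.Agent.MeroLib.isAssociated_of_weakAss hwa)
  by_contra hu
  have hg := hs ⟨f y, hWV hy⟩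
  have hmem : Y.presheaf.germ U (f y) (hWV hy) s ∈
      (Submodule.colon (⊥ : Submodule (Y.presheaf.stalk (f y)) (Y.presheaf.stalk (f y))) {m}).radical :=
    hm ▸ (IsLocalRing.mem_maximalIdeal _).mpr hu
  obtain ⟨k, hk⟩ := hmem
  rw [Submodule.mem_colon_singleton, Submodule.mem_bot, smul_eq_mul] at hk
  have hm0 : m = 0 := mem_nonZeroDivisors_iff.mp (pow_mem hg k) |>.1 _ hk
  refine hp.ne_top (hm.trans ?_)
  rw [Ideal.radical_eq_top, Ideal.eq_top_iff_one, Submodule.mem_colon_singleton, Submodule.mem_bot, hm0, smul_zero]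

end Groth.Agent.S5092
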