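import Groth.Statements.S5093
import Groth.Agent.Lib.MeroLib.Basic

set_option autoImplicit false
universe u
open CategoryTheory CategoryTheory.Limits AlgebraicGeometry TopologicalSpace
open Mero

namespace Groth.Agent.S5093

/-- Let f : X → Y be a morphism of schemes such that the set of irreducible components of Y is locally
finite, X is reduced, and every irreducible component of X dominates an irreducible component of Y
(f sends every maximal point of X, i.e. every point with no proper generization, to a maximal point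
of Y). Then for every open subset U of Y and every regular function s on U (germ a non-zero-divisor
at every point of U), the pulled-back function on f⁻¹(U) is regular; consequently the pullback along
f of every meromorphic function and of every divisor on Y is defined. -/
theorem result {X Y : Scheme.{u}} [IsReduced X] (f : X ⟶ Y)
    (hY : ∀ y : ↥Y, ∃ W : Y.Opens, y ∈ W ∧
      {Z : Set ↥Y | Z ∈ irreducibleComponents ↥Y ∧ (Z ∩ (W : Set ↥Y)).Nonempty}.Finite)
    (hf : ∀ ξ : ↥X, (∀ z : ↥X, z ⤳ ξ → z = ξ) → ∀ z : ↥Y, z ⤳ f ξ → z = f ξ) :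
    ∀ (U : Y.Opens) (s : Γ(Y, U)), s ∈ Mero.regSub Y U → f.app U s ∈ Mero.regSub X (f ⁻¹ᵁ U) := by
  intro U s hs
  rintro ⟨x, hx⟩
  obtain ⟨W, hW, hxW, hWV⟩ := AlgebraicGeometry.exists_isAffineOpen_mem_and_subset (U := f ⁻¹ᵁ U) hx
  rw [← X.presheaf.germ_res_apply (homOfLE hWV) x hxW (f.app U s)]
  refine Groth.Agent.WA.germ_mem_nonZeroDivisors hW hxW _ fun y hy _ hwa => ?_
  rw [X.presheaf.germ_res_apply (homOfLE hWV) y hy (f.app U s)]
  refine (Groth.Agent.WA.isUnit_germ_app f (hWV hy) s).mpr ?_
  have hmax : ∀ z : Y, z ⤳ f y → z = f y := hf y fun z hz => Groth.Agent.WA.eq_of_specializes_weakAss hwa hz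
  obtain ⟨W', hW', hyW', hWU⟩ := AlgebraicGeometry.exists_isAffineOpen_mem_and_subset (U := U) (hWV hy)
  haveI := Groth.Agent.M1.isQCoh_structureModule Y
  rw [← Y.presheaf.germ_res_apply (homOfLE hWU) (f y) hyW' s]
  refine Groth.Agent.WA.isUnit_germ_of_nonZeroDivisors hW' hyW' hyW' specializes_rfl _ ?_
    (Groth.Agent.WA.isWeakAssPoint_of_maximal ?_ fun z _ hz => hmax z hz)
  · rw [Y.presheaf.germ_res_apply (homOfLE hWU) (f y) hyW' s]
    exact hs ⟨f y, hWV hy⟩
  · intro hsub
    have h1 := hsub.elim ((Coh.structureModule Y).presheaf.germ W' (f y) hyW' (show Γ(Coh.structureModule Y, W') from (1 : Γ(Y, W')))) 0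
    rw [Groth.Agent.WA.germ_O_eq_zero_iff, map_one] at h1
    exact one_ne_zero h1

end Groth.Agent.S5093
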