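import Groth.Statements.S5094
import Groth.Agent.Lib.BiratPt18.Global
import Groth.Agent.Lib.Spread18.OpenImm

set_option autoImplicit false
universe u
open CategoryTheory CategoryTheory.Limits AlgebraicGeometry TopologicalSpace
open Lim8

namespace Groth.Agent.S5094

set_option backward.isDefEq.respectTransparency false
set_option backward.isDefEq.respectTransparency.types false
set_option linter.style.haveILetI false


/-- Let X and Y be integral schemes and f : X → Y a separated morphism, locally of finite type and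
birational (f sends the generic point of X to the generic point of Y and its stalk map there, the
induced homomorphism of function fields, is an isomorphism). Let y be a normal point of Y (the local
ring O_{Y,y} is integrally closed) and suppose that some point of the fibre f⁻¹(y) is isolated in
that fibre. Then y has an open neighbourhood U such that the restriction f⁻¹(U) → U of f is an
isomorphism. -/
theorem result {X Y : Scheme.{u}} [IsIntegral X]
    [IsIntegral Y] (f : X ⟶ Y) [IsSeparated f] [LocallyOfFiniteType f]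
    (hgen : f (genericPoint X) = genericPoint Y) (hbir : IsIso (f.stalkMap (genericPoint X)))
    (y : ↥Y) (hy : IsIntegrallyClosed ↑(Y.presheaf.stalk y))
    (x : ↥(f.fiber y)) (hx : IsOpen ({x} : Set ↥(f.fiber y))) :
    ∃ U : Y.Opens, y ∈ U ∧ IsIso (f ∣_ U) := by

  classical
  obtain ⟨z, hzx⟩ : ∃ z, f.fiberι y x = z := ⟨_, rfl⟩
  have hz : f z = y := by
    have := f.range_fiberι y
    exact hzx ▸ (this ▸ Set.mem_range_self x : f.fiberι y x ∈ f ⁻¹' {y})
  have hq : f.QuasiFiniteAt z := by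
    subst hz
    rw [Scheme.Hom.quasiFiniteAt_iff_isOpen_singleton_asFiber]
    convert hx
    exact (f.fiberι (f z)).isEmbedding.injective ((f.fiberι_asFiber z).trans hzx.symm)
  obtain ⟨_, ⟨W : Y.Opens, hW, rfl⟩, hyW, -⟩ :=
    Y.isBasis_affineOpens.exists_subset_of_mem_open (Set.mem_univ y) isOpen_univ
  obtain ⟨_, ⟨V : X.Opens, hV, rfl⟩, hzV, hVW⟩ :=
    X.isBasis_affineOpens.exists_subset_of_mem_open (show z ∈ f ⁻¹ᵁ W from (hz ▸ hyW : f z ∈ W))
      (f ⁻¹ᵁ W).2
  have hVW' : V ≤ f ⁻¹ᵁ W := hVW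
  haveI : IsAffine (V : Scheme.{u}) := hV
  haveI : IsAffine (W : Scheme.{u}) := hW
  let g : (V : Scheme.{u}) ⟶ (W : Scheme.{u}) := f.resLE W V hVW'
  haveI : IsSeparated g := inferInstance
  haveI : Nonempty ↥(V : Scheme.{u}) := ⟨⟨z, hzV⟩⟩
  haveI : Nonempty ↥(W : Scheme.{u}) := ⟨⟨y, hyW⟩⟩
  haveI : IsIntegral (V : Scheme.{u}) := isIntegral_of_isOpenImmersion V.ι
  haveI : IsIntegral (W : Scheme.{u}) := isIntegral_of_isOpenImmersion W.ι
  have hstalk : ∀ v : ↥(V : Scheme.{u}), IsIso (g.stalkMap v) ↔ IsIso (f.stalkMap v.1) := by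
    intro v
    have e : g ≫ W.ι = V.ι ≫ f := f.resLE_comp_ι hVW'
    have h1 := Scheme.Hom.stalkMap_comp g W.ι v
    have h2 := Scheme.Hom.stalkMap_comp V.ι f v
    constructor
    · intro h
      haveI : IsIso ((g ≫ W.ι).stalkMap v) := by rw [h1]; infer_instance
      haveI : IsIso ((V.ι ≫ f).stalkMap v) := by rw [← e]; infer_instance
      rw [h2] at this
      exact IsIso.of_isIso_comp_right (f.stalkMap (V.ι v)) (V.ι.stalkMap v)
    · intro h
      haveI : IsIso (f.stalkMap (V.ι v)) := h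
      haveI : IsIso ((V.ι ≫ f).stalkMap v) := by rw [h2]; infer_instance
      haveI : IsIso ((g ≫ W.ι).stalkMap v) := by rw [e]; infer_instance
      rw [h1] at this
      exact IsIso.of_isIso_comp_left (W.ι.stalkMap (g v)) (g.stalkMap v)
  have hgv : ∀ v : ↥(V : Scheme.{u}), (g v).1 = f v.1 := fun v => by
    show W.ι (g v) = f (V.ι v)
    rw [← Scheme.Hom.comp_apply, ← Scheme.Hom.comp_apply, f.resLE_comp_ι]
  have hgenV : (genericPoint ↥(V : Scheme.{u})).1 = genericPoint X :=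
    genericPoint_eq_of_isOpenImmersion V.ι
  have hgenW : (genericPoint ↥(W : Scheme.{u})).1 = genericPoint Y :=
    genericPoint_eq_of_isOpenImmersion W.ι
  have hgen' : g (genericPoint ↥(V : Scheme.{u})) = genericPoint ↥(W : Scheme.{u}) :=
    Subtype.ext (by rw [hgv, hgenV, hgen, hgenW])
  have hbir' : IsIso (g.stalkMap (genericPoint ↥(V : Scheme.{u}))) := by
    rw [hstalk, hgenV]; exact hbir
  let v₀ : ↥(V : Scheme.{u}) := ⟨z, hzV⟩
  have hgv₀ : (g v₀).1 = y := (hgv v₀).trans hz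
  haveI hn : IsIntegrallyClosed ((W : Scheme.{u}).presheaf.stalk (g v₀)) := by
    haveI : IsIntegrallyClosed (Y.presheaf.stalk (g v₀).1) := hgv₀.symm ▸ hy
    exact IsIntegrallyClosed.of_equiv ((W.stalkIso (g v₀)).commRingCatIsoToRingEquiv.symm)
  have hq' : g.QuasiFiniteAt v₀ := by
    have h2 : (V.ι ≫ f).QuasiFiniteAt v₀ :=
      (Scheme.Hom.quasiFiniteAt_comp_iff_of_isOpenImmersion (f := V.ι) (g := f)).2 hq
    rw [← f.resLE_comp_ι hVW'] at h2
    exact (Scheme.Hom.quasiFiniteAt_comp_iff (f := g) (g := W.ι)).1 h2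
  have hiso : IsIso (f.stalkMap z) :=
    (hstalk v₀).1 (Groth.Agent.BiratPt18.stalk_data g hgen' hbir' v₀ hn hq').1
  obtain ⟨U, hzU, hU⟩ := Groth.Agent.Spread18.exists_openImmersion_nhd f z hiso
  let R : Y.Opens := (U.ι ≫ f).opensRange
  have hUR : U ≤ f ⁻¹ᵁ R := fun a ha => ⟨⟨a, ha⟩, rfl⟩
  let s : (U : Scheme.{u}) ⟶ ↑(f ⁻¹ᵁ R) := X.homOfLE hUR
  haveI : IsOpenImmersion (s ≫ (f ∣_ R)) := by
    have e : (s ≫ (f ∣_ R)) ≫ R.ι = U.ι ≫ f := by
      rw [Category.assoc, morphismRestrict_ι, Scheme.homOfLE_ι_assoc]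
    haveI : IsOpenImmersion ((s ≫ (f ∣_ R)) ≫ R.ι) := by rw [e]; infer_instance
    exact IsOpenImmersion.of_comp _ R.ι
  haveI : Epi (s ≫ (f ∣_ R)).base := by
    rw [TopCat.epi_iff_surjective]
    rintro ⟨b, ⟨a, ha⟩⟩
    refine ⟨a, Subtype.ext ?_⟩
    show R.ι ((s ≫ (f ∣_ R)) a) = b
    rw [← Scheme.Hom.comp_apply, Category.assoc, morphismRestrict_ι, Scheme.homOfLE_ι_assoc]
    exact ha
  haveI : IsIso (s ≫ (f ∣_ R)) := IsOpenImmersion.isIso _
  haveI : IsSeparated (f ∣_ R) :=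
    IsZariskiLocalAtTarget.restrict (P := @IsSeparated) (f := f) ‹_› R
  haveI : IsClosedImmersion s := IsClosedImmersion.of_comp s (f ∣_ R)
  haveI : Nonempty ↥(f ⁻¹ᵁ R : Scheme.{u}) := ⟨⟨z, hUR hzU⟩⟩
  haveI : IsIntegral (f ⁻¹ᵁ R : Scheme.{u}) := isIntegral_of_isOpenImmersion (f ⁻¹ᵁ R).ι
  have hrange : Set.range s = Set.univ :=
    IsClopen.eq_univ ⟨s.isClosedEmbedding.isClosed_range, s.isOpenEmbedding.isOpen_range⟩
      ⟨_, ⟨z, hzU⟩, rfl⟩
  haveI : Epi s.base := by
    rw [TopCat.epi_iff_surjective]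
    exact Set.range_eq_univ.mp hrange
  haveI : IsIso s := IsOpenImmersion.isIso s
  exact ⟨R, ⟨⟨z, hzU⟩, hz⟩, IsIso.of_isIso_comp_left s (f ∣_ R)⟩

end Groth.Agent.S5094
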