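import Groth.Statements.S5096
import Groth.Agent.Lib.MeroLib.DivMod

set_option autoImplicit false
universe u
open CategoryTheory CategoryTheory.Limits AlgebraicGeometry TopologicalSpace
open Mero

namespace Groth.Agent.S5096

/-- For every divisor D on a scheme X, the fractional ideal O_X(D) — the sub-O_X-module of the sheaf of
meromorphic functions whose sections are the t with t_x · g ∈ O_{X,x} for a representative g of the
germ of D at x, at every point x — is an invertible O_X-module (locally isomorphic to O_X; where D
is the divisor of a local unit g of K_X it is O · g⁻¹). -/
theorem result (X : Scheme.{u}) (D : Mero.Divisor X) : PicF.IsInvertible (Mero.divMod D) := by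
  exact Groth.Agent.MeroLib.isInvertible_divMod D

end Groth.Agent.S5096
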