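import Groth.Statements.S5097
import Groth.Agent.Lib.MeroLib.Basic

set_option autoImplicit false
universe u
open CategoryTheory CategoryTheory.Limits AlgebraicGeometry TopologicalSpace
open Mero

namespace Groth.Agent.S5097

/-- Injectivity of the canonical homomorphism from divisors to invertible fractional ideals: let X be a
scheme and D, D' two divisors on X such that, over every open subset U, a section t of the sheaf of
meromorphic functions lies in O_X(D) (t_x · g ∈ O_{X,x} for a representative g of the germ of D at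
x, for all x in U) if and only if it lies in O_X(D'). Then D = D'. -/
theorem result (X : Scheme.{u}) (D D' : Mero.Divisor X)
    (h : ∀ (U : X.Opens) (t : Γ(Mero.kmod X, U)),
      (∀ x : ↥U, Mero.DivCond D x.1 (t.1 x)) ↔ (∀ x : ↥U, Mero.DivCond D' x.1 (t.1 x))) :
    D = D' := by
  have key : ∀ (A B : Mero.Divisor X) (hAB : ∀ (U : X.Opens) (t : Γ(Mero.kmod X, U)),
      (∀ x : ↥U, Mero.DivCond A x.1 (t.1 x)) → (∀ x : ↥U, Mero.DivCond B x.1 (t.1 x))) (x : X)
      (g g' : (Mero.KStalk X x)ˣ), A.1 x = QuotientGroup.mk g → B.1 x = QuotientGroup.mk g' →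
      ((g⁻¹ : (Mero.KStalk X x)ˣ) : Mero.KStalk X x) * g' ∈
        (algebraMap (X.presheaf.stalk x) (Mero.KStalk X x)).range := by
    intro A B hAB x g g' hg hg'
    obtain ⟨U, hxU, f, hU⟩ := A.2 x
    have h1 : ∀ y : U, Mero.DivCond A y.1 ((f⁻¹ : (Γ(Mero.kmod X, U))ˣ).1.1 y) := fun y => by
      refine (Groth.Agent.MeroLib.divCond_iff A y.1 _ _ (hU y)).2 ⟨1, ?_⟩
      rw [map_one]
      exact (congrFun (congrArg Subtype.val f.inv_mul) y).symm
    have h2 := hAB U _ h1 ⟨x, hxU⟩ g' hg'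
    have hgf := hg.symm.trans (hU ⟨x, hxU⟩)
    rw [QuotientGroup.eq] at hgf
    obtain ⟨w, hw⟩ := hgf
    have e : ((g⁻¹ : (Mero.KStalk X x)ˣ) : Mero.KStalk X x) * g' =
        algebraMap (X.presheaf.stalk x) (Mero.KStalk X x) w * ((f⁻¹ : (Γ(Mero.kmod X, U))ˣ).1.1 ⟨x, hxU⟩ * g') := by
      have e2 : algebraMap (X.presheaf.stalk x) (Mero.KStalk X x) w =
          ((g⁻¹ * Units.map (Mero.evalK X U ⟨x, hxU⟩).toMonoidHom f : (Mero.KStalk X x)ˣ) : Mero.KStalk X x) :=
        congrArg Units.val hw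
      rw [e2, Units.val_mul, mul_assoc, ← mul_assoc ((Units.map _ f : (Mero.KStalk X x)ˣ) : Mero.KStalk X x)]
      have e3 : ((Units.map (Mero.evalK X U ⟨x, hxU⟩).toMonoidHom f : (Mero.KStalk X x)ˣ) : Mero.KStalk X x) *
          (f⁻¹ : (Γ(Mero.kmod X, U))ˣ).1.1 ⟨x, hxU⟩ = 1 := congrFun (congrArg Subtype.val f.mul_inv) ⟨x, hxU⟩
      rw [e3, one_mul]
    rw [e]
    exact mul_mem ⟨_, rfl⟩ h2
  refine Subtype.ext (funext fun x => ?_)
  obtain ⟨g, hg⟩ := QuotientGroup.mk_surjective (D.1 x)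
  obtain ⟨g', hg'⟩ := QuotientGroup.mk_surjective (D'.1 x)
  rw [← hg, ← hg']
  exact Groth.Agent.MeroLib.germ_eq_of_range g g' (key D D' (fun U t => (h U t).1) x g g' hg.symm hg'.symm)
    (key D' D (fun U t => (h U t).2) x g' g hg'.symm hg.symm)

end Groth.Agent.S5097
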