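import Groth.Statements.S5099
import Groth.Agent.Lib.CDivLib.Mero

set_option autoImplicit false
universe u
open CategoryTheory CategoryTheory.Limits AlgebraicGeometry TopologicalSpace
open Mero

namespace Groth.Agent.S5099




/-- General form, for divisors on a scheme that need not be integral: let X be a locally Noetherian
scheme, D a divisor on X and x a maximal point of the support of D (a point at which the germ of D
is not trivial and none of whose proper generizations has that property). Then the local ring of X
at x has depth 1. -/
theorem result (X : Scheme.{u}) [IsLocallyNoetherian X] (D : Mero.Divisor X)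
    (x : ↥X) (hx : x ∈ Mero.supp D) (hmax : ∀ z : ↥X, z ∈ Mero.supp D → z ⤳ x → z = x) :
    LocCoh.depth ↑(X.presheaf.stalk x) ↑(X.presheaf.stalk x) = 1 := by
  exact Groth.Agent.CDivLib.mero_depth_eq_one_of_maximal D x hx hmax

end Groth.Agent.S5099
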