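import Groth.Statements.S5100
import Groth.Agent.Lib.DivDesc12.Main

set_option autoImplicit false
universe u
open CategoryTheory CategoryTheory.Limits AlgebraicGeometry TopologicalSpace
open Div21

namespace Groth.Agent.S5100

/-- Suppose X and Y are locally Noetherian schemes, and consider a morphism f : X → Y that is flat and
surjective (i.e. faithfully flat) and is either quasi-compact or open. Assume Y is normal, and that
whenever y ∈ Y has a local ring of dimension 1, the fibre X_y has no embedded associated point (if
one associated point of X_y specializes to another, the two coincide). Given an effective Cartier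
divisor D' on X, described by its ideal sheaf 𝓙, D' arises as the inverse image of some effective
Cartier divisor on Y exactly when both of the following hold: (1) at each maximal point η of Y,
pulling D' back to the fibre X_η gives zero (the resulting ideal is the unit ideal); and (2) at each
y ∈ Y with one-dimensional local ring (a discrete valuation ring, because Y is normal) one can find
an integer n ≥ 0 so that, for any uniformizer t of O_{Y,y} and any maximal point x of f⁻¹(y), the
ideal of D' in O_{X,x} (namely the inverse image of 𝓙 on Spec O_{X,x}) is generated by the image of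
t raised to the n-th power. -/
theorem result {X Y : Scheme.{u}}
    [IsLocallyNoetherian X] [IsLocallyNoetherian Y] (f : X ⟶ Y) [Flat f] [Surjective f]
    (hf : QuasiCompact f ∨ IsOpenMap f) (hY : Pi1.IsNormalScheme Y)
    (hfib : ∀ y : ↥Y, ringKrullDim ↑(Y.presheaf.stalk y) = 1 → ∀ z z' : ↥(f.fiber y),
      IsAssociatedPrime (IsLocalRing.maximalIdeal ↑((f.fiber y).presheaf.stalk z)) ↑((f.fiber y).presheaf.stalk z) →
      IsAssociatedPrime (IsLocalRing.maximalIdeal ↑((f.fiber y).presheaf.stalk z')) ↑((f.fiber y).presheaf.stalk z') →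
      z' ⤳ z → z' = z)
    (𝓙 : X.IdealSheafData) (hJ : BlowUp.IsEffCartierIdeal 𝓙) :
    (∃ 𝓘 : Y.IdealSheafData, BlowUp.IsEffCartierIdeal 𝓘 ∧ 𝓘.comap f = 𝓙) ↔
      ((∀ η : ↥Y, (∀ z : ↥Y, z ⤳ η → z = η) → 𝓙.comap (f.fiberι η) = ⊤) ∧
        ∀ y : ↥Y, ringKrullDim ↑(Y.presheaf.stalk y) = 1 → ∃ n : ℕ, ∀ t : ↑(Y.presheaf.stalk y),
          IsLocalRing.maximalIdeal ↑(Y.presheaf.stalk y) = Ideal.span {t} →
          ∀ (x : ↥X) (hx : f x = y), (∀ z : ↥X, f z = y → z ⤳ x → z = x) →
            (𝓙.comap (X.fromSpecStalk x)).ideal ⟨⊤, isAffineOpen_top _⟩ =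
              Ideal.span {(Scheme.ΓSpecIso (X.presheaf.stalk x)).inv
                (((f.stalkMap x).hom ((Y.presheaf.stalkCongr (.of_eq hx.symm)).hom t)) ^ n)}) := Groth.Agent.DivDesc12.descends_iff_uniform f hf 𝓙 hY hfib hJ

end Groth.Agent.S5100
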