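import Groth.Statements.S5102
import Groth.Agent.Lib.MeroLib.DivMod
import Groth.Agent.Lib.TensorMod.Dual
import Groth.Agent.Lib.ModM1.Exact

set_option autoImplicit false
universe u
open CategoryTheory CategoryTheory.Limits AlgebraicGeometry TopologicalSpace
open Mero

namespace Groth.Agent.S5102

/-- Let X be a scheme and J a fractional ideal, i.e. a sub-O_X-module of the sheaf of meromorphic
functions K_X (given by a monomorphism J → K_X). Then J is an invertible O_X-module if and only if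
every point of X has an open neighbourhood U together with a unit f of the ring Γ(U, K_X) such that
J|_U = O_U · f: over every open subset V of U, the sections of J are exactly the r · f|_V with r a
function on V. -/
theorem result (X : Scheme.{u}) (J : X.Modules)
    (ι : J ⟶ Mero.kmod X) [Mono ι] :
    PicF.IsInvertible J ↔ ∀ x : ↥X, ∃ (U : X.Opens) (_ : x ∈ U) (f : (Γ(Mero.kmod X, U))ˣ),
      ∀ (V : X.Opens) (hV : V ≤ U),
        Set.range ⇑(ι.val.app (Opposite.op V)) =
          {t : Γ(Mero.kmod X, V) | ∃ r : Γ(X, V),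
            t = Mero.toK X V r * (Mero.kmod X).presheaf.map (homOfLE hV).op (f : Γ(Mero.kmod X, U))} := by
  have hinj : ∀ U : X.Opens, Function.Injective (ι.app U) :=
    (Groth.Agent.M1.mono_iff_app ι).1 inferInstance
  have hlin : ∀ (U V : X.Opens) (h : V ≤ U) (e : Γ(J, U)) (r : Γ(X, V)),
      ι.app V (r • Groth.Agent.M1.mres J h e) =
        Mero.toK X V r * (Mero.kmod X).presheaf.map (homOfLE h).op (ι.app U e) := by
    intro U V h e r
    rw [AlgebraicGeometry.Scheme.Modules.Hom.app_smul, Groth.Agent.M1.app_mres]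
    refine Groth.Agent.MeroLib.kmod_ext fun y => ?_
    rw [Mero.kmod_mul_apply, Groth.Agent.MeroLib.toK_val, ← Algebra.smul_def]
    rfl
  constructor
  · intro hJ x
    obtain ⟨U, hxU, ⟨i⟩⟩ := hJ x
    obtain ⟨e, he⟩ := Groth.Agent.M2.exists_generator i
    obtain ⟨W, hxW, j, a, b, hab⟩ := (ι.app U e : Γ(Mero.kmod X, U)).2 ⟨x, hxU⟩
    let k : Γ(Mero.kmod X, W) := (Mero.kmod X).presheaf.map (homOfLE j.le).op (ι.app U e)
    have hk : ∀ y : W, k.1 y * algebraMap _ (Mero.KStalk X y.1) (X.presheaf.germ W y.1 y.2 b.1) =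
        algebraMap _ (Mero.KStalk X y.1) (X.presheaf.germ W y.1 y.2 a) := fun y => by
      rw [show k.1 y = LocalizedModule.mk (X.presheaf.germ W y.1 y.2 a) (Mero.regGerm y b) from hab y]
      exact Groth.Agent.WA.mk_eq_div (X.presheaf.germ W y.1 y.2 a) (Mero.regGerm y b)
    have hreg : a ∈ Mero.regSub X W := by
      rintro ⟨y, hy⟩
      rw [mem_nonZeroDivisors_iff_right]
      intro z hz
      obtain ⟨V₀, hyV, r, rfl⟩ := X.presheaf.exists_germ_eq z
      have h0 : X.presheaf.germ (V₀ ⊓ W) y ⟨hyV, hy⟩ (X.presheaf.map (homOfLE inf_le_left).op r *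
          X.presheaf.map (homOfLE inf_le_right).op a) = X.presheaf.germ (V₀ ⊓ W) y ⟨hyV, hy⟩ 0 := by
        rw [map_mul, TopCat.Presheaf.germ_res_apply, TopCat.Presheaf.germ_res_apply, map_zero]
        exact hz
      obtain ⟨V, hyV', i₁, i₂, hV⟩ := X.presheaf.germ_eq y _ _ _ _ h0
      have h1 : X.presheaf.map (homOfLE (i₁.le.trans inf_le_left)).op r •
          Groth.Agent.M1.mres J ((i₁.le.trans inf_le_right).trans j.le) e = 0 := by
        refine hinj V ?_
        rw [hlin, map_zero]
        refine Groth.Agent.MeroLib.kmod_ext fun w => ?_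
        have hw : w.1 ∈ W := (i₁.le.trans inf_le_right) w.2
        change _ * k.1 ⟨w.1, hw⟩ = 0
        refine (IsLocalization.map_units (Mero.KStalk X w.1) (Mero.regGerm ⟨w.1, hw⟩ b)).mul_left_eq_zero.mp ?_
        rw [mul_assoc, hk ⟨w.1, hw⟩, Groth.Agent.MeroLib.toK_val, ← map_mul]
        have h2 := congrArg (X.presheaf.germ V w.1 w.2) hV
        rw [map_zero, map_zero, TopCat.Presheaf.germ_res_apply, map_mul, TopCat.Presheaf.germ_res_apply,
          TopCat.Presheaf.germ_res_apply] at h2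
        rw [TopCat.Presheaf.germ_res_apply, h2, map_zero]
      have h3 : X.presheaf.map (homOfLE (i₁.le.trans inf_le_left)).op r = 0 :=
        (he V ((i₁.le.trans inf_le_right).trans j.le)).1 (h1.trans (zero_smul _ _).symm)
      rw [← X.presheaf.germ_res_apply (homOfLE (i₁.le.trans inf_le_left)) y hyV' r, h3, map_zero]
    let kinv : Γ(Mero.kmod X, W) := ⟨fun y => LocalizedModule.mk (X.presheaf.germ W y.1 y.2 b.1)
      (Mero.regGerm y ⟨a, hreg⟩), fun y => ⟨W, y.2, 𝟙 _, b.1, ⟨a, hreg⟩, fun z => rfl⟩⟩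
    have hkk : k * kinv = 1 := by
      refine Groth.Agent.MeroLib.kmod_ext fun y => ?_
      rw [Mero.kmod_mul_apply, Mero.kmod_one_apply,
        show k.1 y = LocalizedModule.mk (X.presheaf.germ W y.1 y.2 a) (Mero.regGerm y b) from hab y]
      change (LocalizedModule.mk _ _ : Mero.KStalk X y.1) * LocalizedModule.mk _ _ = 1
      exact LocalizedModule.mk_mul_mk.trans ((Mero.mk_congr (mul_comm _ _) rfl).trans
        (Mero.mk_self_eq_one (Mero.regGerm y b * Mero.regGerm y ⟨a, hreg⟩)))
    refine ⟨W, hxW, ⟨k, kinv, hkk, by rw [mul_comm]; exact hkk⟩, fun V hV => ?_⟩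
    ext t
    constructor
    · rintro ⟨s, rfl⟩
      obtain ⟨r, rfl⟩ := (he V (hV.trans j.le)).2 s
      exact ⟨r, hlin U V (hV.trans j.le) e r⟩
    · rintro ⟨r, rfl⟩
      exact ⟨r • Groth.Agent.M1.mres J (hV.trans j.le) e, hlin U V (hV.trans j.le) e r⟩
  · intro h x
    obtain ⟨U, hxU, f, hf⟩ := h x
    have hmem : (f : Γ(Mero.kmod X, U)) ∈ Set.range ⇑(ι.val.app (Opposite.op U)) := by
      rw [hf U le_rfl]
      exact ⟨1, by rw [map_one, one_mul]; rfl⟩
    obtain ⟨s, hs⟩ := hmem
    refine ⟨U, hxU, Groth.Agent.Twist.nonempty_restrict_iso J U s fun V hV => ⟨fun r r' h' => ?_, fun t => ?_⟩⟩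
    · have h1 := congrArg (ι.app V) h'
      rw [hlin, hlin, show ι.app U s = (f : Γ(Mero.kmod X, U)) from hs] at h1
      exact Groth.Agent.WA.toK_injective
        ((f.isUnit.map ((Mero.kring X).obj.map (homOfLE hV).op).hom).mul_right_cancel h1)
    · have ht : ι.app V t ∈ Set.range ⇑(ι.val.app (Opposite.op V)) := ⟨t, rfl⟩
      rw [hf V hV] at ht
      obtain ⟨r, hr⟩ := ht
      refine ⟨r, hinj V ?_⟩
      rw [hlin, show ι.app U s = (f : Γ(Mero.kmod X, U)) from hs]
      exact hr.symm

end Groth.Agent.S5102
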