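import Groth.Statements.S5103
import Groth.Agent.Lib.Div21F12.Basic
import Groth.Agent.Lib.CurveCoh17.Degree
import Groth.Agent.Lib.TensorMod.Invertible
-- import your own Groth.Agent.* helpers here

set_option autoImplicit false
set_option backward.isDefEq.respectTransparency false
universe u
open CategoryTheory CategoryTheory.Limits AlgebraicGeometry TopologicalSpace
open Div21

namespace Groth.Agent.S5103

/-- For an integral scheme (the canonical homomorphism Pic(X) → Cl(X) to the group of codimension-1
cycle classes is injective): let X be a normal locally Noetherian integral scheme, L an invertible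
O_X-module and s a nonzero rational section of L (a nonzero element of the fibre of L at the generic
point). If the Weil divisor of s is principal — there is a nonzero rational function f whose order
of vanishing at every point of codimension 1 (coheight 1 in the specialization order) equals the
order of s there — then L is isomorphic to O_X. -/
theorem result (X : Scheme.{u}) [IsIntegral X] [IsLocallyNoetherian X]
    (hX : Pi1.IsNormalScheme X) (L : X.Modules) (hL : PicF.IsInvertible L)
    (s : Cyc.secFibre L (genericPoint ↥X)) (hs : s ≠ 0) (f : ↑X.functionField) (hf : f ≠ 0)
    (h : ∀ x : ↥X, Order.coheight x = 1 →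
      Cyc.secOrdAt L (genericPoint ↥X) x (genericPoint_specializes x) s = Scheme.ord f x) :
    Nonempty (L ≅ Coh.structureModule X) := by
  obtain ⟨a, rfl⟩ := Groth.Agent.RH26.exists_fmk s
  have ha : a ≠ 0 := fun h0 => hs (by rw [h0]; rfl)
  exact Groth.Agent.Div21F12.nonempty_iso_of_ord hX hL (Groth.Agent.CurveCoh17.isCoh_of_ofRank ((Groth.Agent.M2.isInvertible_iff_isFinLocFreeOfRank_one L).1 hL)) ha hf h

end Groth.Agent.S5103
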