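import Groth.Statements.S5104
import Groth.Agent.Lib.Spread18.Basic

set_option autoImplicit false
set_option linter.style.haveILetI false
set_option backward.isDefEq.respectTransparency false
universe u
open CategoryTheory CategoryTheory.Limits AlgebraicGeometry TopologicalSpace
open Rat20

namespace Groth.Agent.S5104

/-- Two maps from an affine scheme into a separated one agree if they agree on a schematically dominant map. -/
theorem eq_of_appTop_injective {D P Y S : Scheme.{u}} [IsAffine D] (pY : Y ⟶ S) [IsSeparated pY] (a b : D ⟶ Y)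
    (hab : a ≫ pY = b ≫ pY) (j : P ⟶ D) (hj : Function.Injective j.appTop) (h : j ≫ a = j ≫ b) : a = b := by
  let A : Over.mk (a ≫ pY) ⟶ Over.mk pY := Over.homMk a
  let B : Over.mk (a ≫ pY) ⟶ Over.mk pY := Over.homMk b hab.symm
  haveI : IsSeparated (Over.mk pY).hom := inferInstanceAs (IsSeparated pY)
  let e : (equalizer A B).left ⟶ D := (equalizer.ι A B).left
  haveI : IsClosedImmersion e := isClosedImmersion_equalizer_ι_left A B
  let j' : Over.mk (j ≫ a ≫ pY) ⟶ Over.mk (a ≫ pY) := Over.homMk j
  let l := equalizer.lift (f := A) (g := B) j' (Over.OverMorphism.ext h)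
  have hl : l.left ≫ e = j := by
    have h' := congrArg CommaMorphism.left (equalizer.lift_ι (f := A) (g := B) j' (Over.OverMorphism.ext h))
    exact h'
  have hinj : Function.Injective e.appTop := by
    rw [← hl, Scheme.Hom.comp_appTop] at hj
    simp only [CommRingCat.hom_comp, RingHom.coe_comp] at hj
    exact hj.of_comp
  haveI : IsIso e := IsClosedImmersion.isIso_of_injective_of_isAffine hinj
  exact (cancel_epi e).1 (congrArg CommaMorphism.left (equalizer.condition A B))

theorem ores_ores {X : Scheme.{u}} {A B C : X.Opens} (h : B ≤ A) (h' : C ≤ B) (t : Γ(X, A)) :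
    X.presheaf.map (homOfLE h').op (X.presheaf.map (homOfLE h).op t) = X.presheaf.map (homOfLE (h'.trans h)).op t :=
  (ConcreteCategory.congr_hom (X.presheaf.map_comp (homOfLE h).op (homOfLE h').op) t).symm

/-- Over a basic open of an affine neighbourhood with injective germ map, the local scheme is schematically dense. -/
theorem injective_fromSpecStalk_app_basicOpen {X : Scheme.{u}} {V : X.Opens} (hV : IsAffineOpen V) {x : ↥X}
    (hx : x ∈ V) (hinj : Function.Injective (X.presheaf.germ V x hx)) (g : Γ(X, V)) :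
    Function.Injective ((X.fromSpecStalk x).app (X.basicOpen g)) := by
  rw [injective_iff_map_eq_zero]
  intro t ht
  haveI := hV.isLocalization_basicOpen g
  obtain ⟨a, s, rfl⟩ := IsLocalization.exists_mk'_eq (Submonoid.powers g) t
  rw [IsLocalization.mk'_eq_zero_iff]
  have h1 : (X.fromSpecStalk x).app (X.basicOpen g) (algebraMap Γ(X, V) Γ(X, X.basicOpen g) a) = 0 := by
    rw [← IsLocalization.mk'_spec Γ(X, X.basicOpen g) a s, map_mul, ht, zero_mul]
  have h2 : (Spec (X.presheaf.stalk x)).presheaf.map (homOfLE ((X.fromSpecStalk x).preimage_mono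
      (X.basicOpen_le g))).op ((X.fromSpecStalk x).app V a) = 0 :=
    (ConcreteCategory.congr_hom ((X.fromSpecStalk x).naturality (homOfLE (X.basicOpen_le g)).op) a).symm.trans h1
  have htop : X.fromSpecStalk x ⁻¹ᵁ V = ⊤ := by
    ext z
    refine ⟨fun _ => trivial, fun _ => ?_⟩
    have hz : X.fromSpecStalk x z ∈ Set.range (X.fromSpecStalk x).base := ⟨z, rfl⟩
    rw [Scheme.range_fromSpecStalk] at hz
    exact (show X.fromSpecStalk x z ⤳ x from hz).mem_open V.2 hx
  obtain ⟨n, hn⟩ := exists_pow_mul_eq_zero_of_res_basicOpen_eq_zero_of_isCompact (Spec (X.presheaf.stalk x))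
    (U := X.fromSpecStalk x ⁻¹ᵁ V) (by rw [htop]; exact isCompact_univ) ((X.fromSpecStalk x).app V a)
    ((X.fromSpecStalk x).app V g) (by
      have hle : (Spec (X.presheaf.stalk x)).basicOpen ((X.fromSpecStalk x).app V g) ≤
          X.fromSpecStalk x ⁻¹ᵁ X.basicOpen g := (Scheme.preimage_basicOpen _ g).ge
      exact (ores_ores ((X.fromSpecStalk x).preimage_mono (X.basicOpen_le g)) hle _).symm.trans
        ((congrArg _ h2).trans (map_zero _)))
  have happ : Function.Injective ((X.fromSpecStalk x).app V) := by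
    rw [Scheme.fromSpecStalk_app hx]
    simp only [CommRingCat.hom_comp, RingHom.coe_comp]
    refine Function.Injective.comp (Function.Injective.comp ?_ ?_) hinj
    · haveI : IsIso (homOfLE (le_top : X.fromSpecStalk x ⁻¹ᵁ V ≤ ⊤)).op :=
        ⟨(homOfLE htop.ge).op, Subsingleton.elim _ _, Subsingleton.elim _ _⟩
      exact (ConcreteCategory.bijective_of_isIso ((Spec (X.presheaf.stalk x)).presheaf.map
        (homOfLE le_top).op) ).1
    · exact (ConcreteCategory.bijective_of_isIso (Scheme.ΓSpecIso (X.presheaf.stalk x)).inv).1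
  exact ⟨⟨g ^ n, n, rfl⟩, happ (by rw [map_mul, map_pow, map_zero]; exact hn)⟩

/-- Locally finitely many components: germ injectivity. -/
theorem isGermInjectiveAt_of_reduced {X : Scheme.{u}} [IsReduced X] (x : ↥X) (W : X.Opens) (hx : x ∈ W)
    (hfin : {Z : Set ↥X | Z ∈ irreducibleComponents ↥X ∧ (Z ∩ (W : Set ↥X)).Nonempty}.Finite) :
    X.IsGermInjectiveAt x := by
  have hWf : (irreducibleComponents (W : Scheme.{u})).Finite := by
    refine (hfin.image fun Z => ((↑) : W → X) ⁻¹' Z).subset fun C hC => ?_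
    obtain ⟨Z, hZ, hsub⟩ := exists_mem_irreducibleComponents_subset_of_isIrreducible _
      (hC.1.image _ W.2.isOpenEmbedding_subtypeVal.continuous.continuousOn)
    obtain ⟨c, hc⟩ := hC.1.1
    have h2 := preimage_mem_irreducibleComponents hZ W.2.isOpenEmbedding_subtypeVal
      ⟨c.1, hsub ⟨c, hc, rfl⟩, c, rfl⟩
    exact ⟨Z, ⟨hZ, c.1, hsub ⟨c, hc, rfl⟩, c.2⟩,
      subset_antisymm (hC.2 h2.1 (Set.image_subset_iff.1 hsub)) (Set.image_subset_iff.1 hsub)⟩
  haveI := Spread18.isGermInjective (W : Scheme.{u}) hWf ⟨x, hx⟩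
  exact inferInstanceAs (X.IsGermInjectiveAt (W.ι ⟨x, hx⟩))

/-- Let X be an S-scheme which is locally Noetherian, or reduced with locally finite set of irreducible
components; let Y be separated and locally of finite presentation over S, U a schematically dense
open subset of X, h : U → Y an S-morphism (a pseudo-S-morphism ω of X into Y) and x a point of X.
Then ω is defined at x — some S-morphism from an open neighbourhood V of x to Y agrees with h on U ∩
V — if and only if the restriction of ω to Spec O_{X,x} is everywhere defined — some S-morphism Spec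
O_{X,x} → Y agrees with h after pulling back to Spec O_{X,x} ×_X U. (The published statement does
not assume Y separated over S and compares morphisms only on some schematically dense open; this row
assumes Y separated over S, where the two readings agree.) -/
theorem result {X Y S : Scheme.{u}} (pX : X ⟶ S) (pY : Y ⟶ S)
    [IsSeparated pY] [LocallyOfFinitePresentation pY]
    (hX : IsLocallyNoetherian X ∨ (IsReduced X ∧ ∀ x : ↥X, ∃ W : X.Opens, x ∈ W ∧
      {Z : Set ↥X | Z ∈ irreducibleComponents ↥X ∧ (Z ∩ (W : Set ↥X)).Nonempty}.Finite))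
    (U : X.Opens) (hU : CInt.IsSchematicallyDense U) (h : (U : Scheme.{u}) ⟶ Y) (hh : h ≫ pY = U.ι ≫ pX)
    (x : ↥X) :
    (∃ (V : X.Opens) (v : (V : Scheme.{u}) ⟶ Y), x ∈ V ∧ v ≫ pY = V.ι ≫ pX ∧
        X.homOfLE (inf_le_right : U ⊓ V ≤ V) ≫ v = X.homOfLE (inf_le_left : U ⊓ V ≤ U) ≫ h) ↔
      ∃ w : Spec (X.presheaf.stalk x) ⟶ Y, w ≫ pY = X.fromSpecStalk x ≫ pX ∧
        pullback.fst (X.fromSpecStalk x) U.ι ≫ w = pullback.snd (X.fromSpecStalk x) U.ι ≫ h := by
  haveI : X.IsGermInjectiveAt x := by
    rcases hX with hX | ⟨hr, hfin⟩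
    · infer_instance
    · obtain ⟨W, hW, hf⟩ := hfin x
      exact isGermInjectiveAt_of_reduced x W hW hf
  constructor
  · rintro ⟨V, v, hxV, hv, hag⟩
    refine ⟨V.fromSpecStalkOfMem x hxV ≫ v, ?_, ?_⟩
    · rw [Category.assoc, hv, ← Category.assoc, Scheme.Opens.fromSpecStalkOfMem_ι]
    let q := pullback.fst (X.fromSpecStalk x) U.ι
    have hrange : Set.range (q ≫ X.fromSpecStalk x).base ⊆ Set.range (U ⊓ V).ι.base := by
      rintro _ ⟨z, rfl⟩
      simp only [Scheme.Opens.range_ι]
      refine ⟨?_, ?_⟩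
      · have h1 : (q ≫ X.fromSpecStalk x).base z ∈ Set.range U.ι.base :=
          ⟨pullback.snd (X.fromSpecStalk x) U.ι z, by
            rw [pullback.condition]; rfl⟩
        simpa using h1
      · have h1 : (q ≫ X.fromSpecStalk x).base z ∈ Set.range (X.fromSpecStalk x).base := ⟨q z, rfl⟩
        rw [Scheme.range_fromSpecStalk] at h1
        exact (show (q ≫ X.fromSpecStalk x).base z ⤳ x from h1).mem_open V.2 hxV
    let r := IsOpenImmersion.lift (U ⊓ V).ι (q ≫ X.fromSpecStalk x) hrange
    have e1 : r ≫ X.homOfLE (inf_le_right : U ⊓ V ≤ V) = q ≫ V.fromSpecStalkOfMem x hxV := by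
      rw [← cancel_mono V.ι]; simp [r, IsOpenImmersion.lift_fac]
    have e2 : r ≫ X.homOfLE (inf_le_left : U ⊓ V ≤ U) = pullback.snd (X.fromSpecStalk x) U.ι := by
      rw [← cancel_mono U.ι]; simp [r, IsOpenImmersion.lift_fac, q, pullback.condition]
    rw [← Category.assoc, ← e1, Category.assoc, hag, ← Category.assoc, e2]
  · rintro ⟨w, hw, hwU⟩
    obtain ⟨V₁, hxV₁, v₁, hv₁, hv₁S⟩ := spread_out_of_isGermInjective' pX pY w hw
    obtain ⟨V, hxV, hV, hle, hinj⟩ := X.exists_le_and_germ_injective x V₁ hxV₁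
    refine ⟨V, X.homOfLE hle ≫ v₁, hxV, by rw [Category.assoc, hv₁S, ← Category.assoc, Scheme.homOfLE_ι],
      Scheme.hom_ext_of_forall _ _ fun y => ?_⟩
    obtain ⟨g, hgle, hyg⟩ := hV.exists_basicOpen_le (V := U ⊓ V) ⟨y.1, y.2⟩ y.2.2
    let D := X.basicOpen g
    haveI : IsAffine (D : Scheme.{u}) := hV.basicOpen g
    refine ⟨(U ⊓ V).ι ⁻¹ᵁ D, hyg, ?_⟩
    have hfac : ((U ⊓ V).ι ⁻¹ᵁ D).ι = ((U ⊓ V).ι ∣_ D) ≫ X.homOfLE hgle := by
      rw [← cancel_mono (U ⊓ V).ι, Category.assoc, Scheme.homOfLE_ι, morphismRestrict_ι]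
    rw [hfac, Category.assoc, Category.assoc]
    congr 1
    rw [← Category.assoc (X.homOfLE inf_le_right), Scheme.homOfLE_homOfLE, ← Category.assoc, Scheme.homOfLE_homOfLE,
      ← Category.assoc, Scheme.homOfLE_homOfLE]
    have hDU : D ≤ U := hgle.trans inf_le_left
    refine eq_of_appTop_injective pY _ _ ?_ (X.fromSpecStalk x ∣_ D) ?_ ?_
    · rw [Category.assoc, Category.assoc, hv₁S, hh, ← Category.assoc, ← Category.assoc, Scheme.homOfLE_ι,
        Scheme.homOfLE_ι]
    · rw [morphismRestrict_appTop]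
      simp only [CommRingCat.hom_comp, RingHom.coe_comp]
      refine (ConcreteCategory.bijective_of_isIso _).1.comp ?_
      have hi := injective_fromSpecStalk_app_basicOpen hV hxV hinj g
      have hD : D.ι ''ᵁ ⊤ = D := D.ι_image_top
      have key : ∀ O : X.Opens, O = D → Function.Injective ((X.fromSpecStalk x).app O) := by rintro _ rfl; exact hi
      exact key _ hD
    · have e1 : (X.fromSpecStalk x ∣_ D) ≫ X.homOfLE ((hgle.trans inf_le_right).trans hle) =
          (X.fromSpecStalk x ⁻¹ᵁ D).ι ≫ V₁.fromSpecStalkOfMem x hxV₁ := by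
        rw [← cancel_mono V₁.ι, Category.assoc, Scheme.homOfLE_ι, morphismRestrict_ι, Category.assoc,
          Scheme.Opens.fromSpecStalkOfMem_ι]
      let l := pullback.lift (f := X.fromSpecStalk x) (g := U.ι) (X.fromSpecStalk x ⁻¹ᵁ D).ι
        ((X.fromSpecStalk x ∣_ D) ≫ X.homOfLE hDU)
        (by rw [Category.assoc, Scheme.homOfLE_ι, morphismRestrict_ι])
      have h1 : l ≫ pullback.fst (X.fromSpecStalk x) U.ι ≫ w = l ≫ pullback.snd (X.fromSpecStalk x) U.ι ≫ h := by
        rw [hwU]
      rw [← Category.assoc, ← Category.assoc, pullback.lift_fst, pullback.lift_snd, Category.assoc, hv₁] at h1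
      rw [← Category.assoc, e1, Category.assoc]
      exact h1

end Groth.Agent.S5104
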