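import Groth.Statements.S5105
import Groth.Agent.Lib.Div21F12.Basic
-- import your own Groth.Agent.* helpers here

set_option autoImplicit false
set_option backward.isDefEq.respectTransparency false
universe u
open CategoryTheory CategoryTheory.Limits AlgebraicGeometry TopologicalSpace
open Div21

namespace Groth.Agent.S5105

/-- For an integral scheme (X is locally factorial exactly when the canonical map Pic(X) → Cl(X) is a
bijection; in the presence of (i), being bijective means that each codimension-1 cycle arises as the
Weil divisor of some rational section of an invertible module): suppose X is an integral scheme that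
is normal and locally Noetherian. Then these two conditions are equivalent: (1) whenever Z is a
function from the points of X to the integers that is zero away from the points of codimension 1
(coheight 1) and whose support is locally finite, one can find an invertible O_X-module L together
with a nonzero rational section s of L (a nonzero element of the generic fibre of L) such that, at
each point of codimension 1, the order of s equals the value Z takes there; (2) each local ring of X
is a unique factorisation domain. -/
theorem result (X : Scheme.{u}) [IsIntegral X]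
    [IsLocallyNoetherian X] (hX : Pi1.IsNormalScheme X) :
    (∀ Z : ↥X → ℤ, (∀ x : ↥X, Order.coheight x ≠ 1 → Z x = 0) →
        (∀ x : ↥X, ∃ W : X.Opens, x ∈ W ∧ {z : ↥X | z ∈ W ∧ Z z ≠ 0}.Finite) →
        ∃ (L : X.Modules) (_ : PicF.IsInvertible L) (s : Cyc.secFibre L (genericPoint ↥X)), s ≠ 0 ∧
          ∀ x : ↥X, Order.coheight x = 1 →
            Cyc.secOrdAt L (genericPoint ↥X) x (genericPoint_specializes x) s = Z x) ↔
      ∀ x : ↥X, UniqueFactorizationMonoid ↑(X.presheaf.stalk x) := by
  constructor
  · intro h x
    classical
    refine Groth.Agent.Div21F12.ufd_stalk_of_cartier hX (fun ξ hξ => ?_) x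
    obtain ⟨L, hL, s, hs, hsZ⟩ := h (fun y => if y = ξ then 1 else 0)
      (fun (y : X) hy => if_neg fun (e : y = ξ) => hy (e ▸ hξ))
      (fun y => ⟨⊤, trivial, (Set.finite_singleton ξ).subset fun z hz => by
        by_contra hne
        exact hz.2 (if_neg hne)⟩)
    obtain ⟨a, rfl⟩ := Groth.Agent.RH26.exists_fmk s
    exact ⟨L, hL, a, fun h0 => hs (by rw [h0]; rfl), (hsZ ξ hξ).trans (if_pos rfl),
      fun y hy hne => (hsZ y hy).trans (if_neg hne)⟩
  · intro hU Z hZ hfin
    let D : AlgebraicCycle X ℤ :=
      { toFun := Z
        supportWithinDomain' := Set.subset_univ _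
        supportLocallyFiniteWithinDomain' := fun z _ => by
          obtain ⟨W, hzW, hW⟩ := hfin z
          exact ⟨W, W.isOpen.mem_nhds hzW, hW⟩ }
    refine ⟨Groth.Agent.RH26.od hX D, Groth.Agent.Div21F12.isInvertible_od hX D hU,
      Groth.Agent.Cyc26.fmk _ _ (Groth.Agent.RH26.oneη hX D),
      fun h => Groth.Agent.RH26.oneη_ne_zero (Groth.Agent.RH26.fmk_injective h), fun x hx => ?_⟩
    exact Groth.Agent.RH26.ordv_oneη hx

end Groth.Agent.S5105
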