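import Groth.Statements.S5107
import Groth.Agent.Lib.LimH13.SchDense
import Groth.Agent.Lib.IsoNat5.Dense5
import Groth.Agent.S1699

set_option autoImplicit false
universe u
open CategoryTheory CategoryTheory.Limits AlgebraicGeometry TopologicalSpace
open Lim8

namespace Groth.Agent.S5107

/-- Let (X_i) be a cofiltered system of Noetherian schemes with affine and flat transition morphisms, X
its limit, assumed Noetherian as well, and U₀ an open subset of X_{i₀}, with inverse images U_i in
X_i (for i over i₀) and U in X. Then U is schematically dense in X if and only if there is an index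
i over i₀ such that U_i is schematically dense in X_i (and then, the transition morphisms being
flat, U_j is schematically dense in X_j for every j over i). -/
theorem result {I : Type u} [SmallCategory I]
    [IsCofiltered I] (D : I ⥤ Scheme.{u}) (c : Limits.Cone D) (hc : Limits.IsLimit c)
    [∀ (i j : I) (g : i ⟶ j), IsAffineHom (D.map g)] [∀ (i j : I) (g : i ⟶ j), Flat (D.map g)]
    [∀ i : I, IsNoetherian (D.obj i)] [IsNoetherian c.pt] (i₀ : I) (U₀ : (D.obj i₀).Opens) :
    CInt.IsSchematicallyDense ((c.π.app i₀) ⁻¹ᵁ U₀) ↔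
      ∃ (i : I) (g : i ⟶ i₀), CInt.IsSchematicallyDense ((D.map g) ⁻¹ᵁ U₀) := by
  haveI : ∀ {i j : I} (a : i ⟶ j), IsAffineHom (D.map a) := fun a => inferInstance
  haveI : ∀ {i j : I} (a : i ⟶ j), Flat (D.map a) := fun a => inferInstance
  constructor
  · intro hd
    obtain ⟨i, g, h⟩ := Groth.Agent.LimH13.exists_stage_of_forall_ass hc i₀ U₀
      ((Groth.Agent.S1699.result c.pt _).1 hd)
    exact ⟨i, g, (Groth.Agent.S1699.result (D.obj i) _).2 h⟩
  · rintro ⟨i, g, h⟩
    haveI : Flat (c.π.app i) := Groth.Agent.LimH13.flat_π hc i fun _ _ => inferInstance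
    rw [show c.π.app i₀ ⁻¹ᵁ U₀ = c.π.app i ⁻¹ᵁ (D.map g ⁻¹ᵁ U₀) by
      rw [← Scheme.Hom.comp_preimage, c.w g]]
    exact Groth.Agent.IsoNat5.dense_preimage_of_flat _ h

end Groth.Agent.S5107
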