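import Groth.Statements.S5108
import Groth.Agent.Lib.Pur27
-- import your own Groth.Agent.* helpers here

set_option autoImplicit false
universe u
open CategoryTheory CategoryTheory.Limits AlgebraicGeometry TopologicalSpace
open Pur21

namespace Groth.Agent.S5108

/-- Let X and Y be locally Noetherian schemes, g : X → Y a morphism, y a closed point of Y and Y' = Y −
{y}; suppose that the restriction g⁻¹(Y') → Y' of g is an open immersion and that the local ring
O_{Y,y} satisfies condition (W): every open subset U of the punctured spectrum of O_{Y,y} which
contains no irreducible component of the punctured spectrum and whose inclusion into the punctured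
spectrum is an affine morphism is itself affine. Then for every irreducible component Z of the fibre
g⁻¹(y), with generic point z (a point over y with no proper generization over y), either Z has
codimension ≤ 1 in X (dim O_{X,z} ≤ 1) or z is isolated in Z (some open neighbourhood of z contains
no other point of Z). The morphism g is not assumed locally of finite type. (The published statement
adds that, when the component is locally of finite type over the residue field of y, the second
alternative forces it to be a single point; this row omits that clause.) -/
theorem result {X Y : Scheme.{u}}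
    [IsLocallyNoetherian X] [IsLocallyNoetherian Y] (g : X ⟶ Y) (y : ↥Y) (Y' : Y.Opens)
    (hY' : (Y' : Set ↥Y) = {y}ᶜ) [IsOpenImmersion (g ∣_ Y')]
    (hW : (∀ U : (Spec (Y.presheaf.stalk y)).Opens, ∀ hU : U ≤ FEt.puncturedSpec ↑(Y.presheaf.stalk y),
        (∀ T ∈ irreducibleComponents ↥(FEt.puncturedSpec ↑(Y.presheaf.stalk y)), ¬ Subtype.val '' T ⊆ (U : Set _)) →
        IsAffineHom ((Spec (Y.presheaf.stalk y)).homOfLE hU) → IsAffineOpen U))
    (z : ↥X) (hz : g z = y) (hmax : ∀ z' : ↥X, g z' = y → z' ⤳ z → z' = z) :
    ringKrullDim ↑(X.presheaf.stalk z) ≤ 1 ∨
      ∃ O : X.Opens, z ∈ O ∧ ∀ z' : ↥X, z' ∈ O → g z' = y → z ⤳ z' → z' = z := by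
  exact Pur27.dim_le_one_or_isolated g y Y' hY' hW z hz hmax


end Groth.Agent.S5108
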