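import Groth.Statements.S5110
import Groth.Agent.Lib.LimH13.Maximal

set_option autoImplicit false
universe u
open CategoryTheory CategoryTheory.Limits AlgebraicGeometry TopologicalSpace
open Lim8

namespace Groth.Agent.S5110

/-- Let (S_i) be a cofiltered system of schemes with affine transition morphisms and S its limit, such
that every S_i has finitely many maximal points and the transition morphisms send maximal points to
maximal points; let S_{i₀} be quasi-compact and V₀ an open subset of S_{i₀}, with inverse images V_i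
in the S_i over i₀ and V in S. If V₀ is dense in S_{i₀} then every V_i and V are dense. Conversely,
if V is dense in S and S has only finitely many maximal points, then V_i is dense in S_i for some i
over i₀. -/
theorem result {I : Type u} [SmallCategory I] [IsCofiltered I]
    (D : I ⥤ Scheme.{u}) (c : Limits.Cone D) (hc : Limits.IsLimit c)
    [∀ (i j : I) (g : i ⟶ j), IsAffineHom (D.map g)]
    (hfin : ∀ i : I, {s : ↥(D.obj i) | ∀ z : ↥(D.obj i), z ⤳ s → z = s}.Finite)
    (hsys : ∀ (i j : I) (g : i ⟶ j) (s : ↥(D.obj i)), (∀ z : ↥(D.obj i), z ⤳ s → z = s) →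
      ∀ z : ↥(D.obj j), z ⤳ D.map g s → z = D.map g s)
    (i₀ : I) [CompactSpace ↥(D.obj i₀)] (V₀ : (D.obj i₀).Opens) :
    (Dense (V₀ : Set ↥(D.obj i₀)) →
        (∀ (i : I) (g : i ⟶ i₀), Dense (((D.map g) ⁻¹ᵁ V₀ : (D.obj i).Opens) : Set ↥(D.obj i))) ∧
          Dense (((c.π.app i₀) ⁻¹ᵁ V₀ : c.pt.Opens) : Set ↥c.pt)) ∧
      (Dense (((c.π.app i₀) ⁻¹ᵁ V₀ : c.pt.Opens) : Set ↥c.pt) →
        {s : ↥c.pt | ∀ z : ↥c.pt, z ⤳ s → z = s}.Finite →
          ∃ (i : I) (g : i ⟶ i₀), Dense (((D.map g) ⁻¹ᵁ V₀ : (D.obj i).Opens) : Set ↥(D.obj i))) := by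
  haveI : ∀ {i j : I} (g : i ⟶ j), IsAffineHom (D.map g) := fun g => inferInstance
  exact ⟨LimH13.dense_preimage hc hfin hsys i₀ V₀,
    LimH13.exists_dense_preimage hc hfin hsys i₀ V₀⟩

end Groth.Agent.S5110
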