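import Groth.Statements.S5112
import Groth.Agent.Lib.Div21F12.Parafactorial
import Groth.Agent.Lib.ParaF27.LocalRing
-- import your own Groth.Agent.* helpers here

set_option autoImplicit false
set_option backward.isDefEq.respectTransparency false
universe u
open CategoryTheory CategoryTheory.Limits AlgebraicGeometry TopologicalSpace
open Div21

namespace Groth.Agent.S5112

/-- The implication from (b) to (a), for an integral scheme (a normal locally Noetherian scheme is the
disjoint union of its integral components): let X be a normal locally Noetherian integral scheme and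
S a subset of X. A codimension-1 cycle Z (an integer-valued function on points, zero off the points
of codimension 1, i.e. of coheight 1, with locally finite support) is principal at a point x when
there is a nonzero rational function whose order at every codimension-1 point generizing x is the
value of Z there (the trace of Z on Spec O_{X,x} is a principal divisor). Suppose (b): for every
point x of X which is not a generization of a point of S (the closure of x does not meet S) and
whose local ring has dimension at least 2, the local ring O_{X,x} is parafactorial. Then (a): every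
codimension-1 cycle which is principal at all points of S is principal at every point of X (it is
locally principal). (The published statement asserts that (a) and (b) are equivalent. The
implication from (a) to (b) fails: on the quotient of the real 2-sphere x² + y² + z² = 1 by (x, y,
z) ↦ (−x, −y, z), a normal Noetherian integral surface with exactly two singular points and divisor
class group of order 2, take S to be one singular point; every cycle principal there is principal
everywhere, while the local ring at the other singular point has dimension 2 and is not
parafactorial. This row states the implication from (b) to (a), which the published argument does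
prove.) -/
theorem result (X : Scheme.{u}) [IsIntegral X]
    [IsLocallyNoetherian X] (hX : Pi1.IsNormalScheme X) (S : Set ↥X)
    (hpar : ∀ x : ↥X, closure {x} ∩ S = ∅ → (2 : WithBot ℕ∞) ≤ ringKrullDim ↑(X.presheaf.stalk x) →
        ParaF.IsParafactorialLocalRing ↑(X.presheaf.stalk x))
    (Z : ↥X → ℤ) (hZ : ∀ x : ↥X, Order.coheight x ≠ 1 → Z x = 0)
    (hZfin : ∀ x : ↥X, ∃ W : X.Opens, x ∈ W ∧ {z : ↥X | z ∈ W ∧ Z z ≠ 0}.Finite)
    (hS : ∀ s : ↥X, s ∈ S →
        ∃ f : ↑X.functionField, f ≠ 0 ∧ ∀ x' : ↥X, Order.coheight x' = 1 → x' ⤳ s → Z x' = Scheme.ord f x')
    (x : ↥X) :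
    ∃ f : ↑X.functionField, f ≠ 0 ∧ ∀ x' : ↥X, Order.coheight x' = 1 → x' ⤳ x → Z x' = Scheme.ord f x' := by
  classical
  let D : AlgebraicCycle X ℤ :=
    { toFun := Z
      supportWithinDomain' := Set.subset_univ _
      supportLocallyFiniteWithinDomain' := fun z _ => by
        obtain ⟨W, hzW, hW⟩ := hZfin z
        exact ⟨W, W.isOpen.mem_nhds hzW, hW⟩ }
  induction hn : ringKrullDim (X.presheaf.stalk x) using WellFoundedLT.induction generalizing x with
  | _ n ih =>
    by_cases hxS : closure {x} ∩ S = ∅
    swap
    · obtain ⟨s, hxs, hs⟩ := Set.nonempty_iff_ne_empty.2 hxS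
      obtain ⟨f, hf, hfs⟩ := hS s hs
      exact ⟨f, hf, fun x' h1 h => hfs x' h1 (h.trans (specializes_iff_mem_closure.2 hxs))⟩
    by_cases hdim : (2 : WithBot ℕ∞) ≤ ringKrullDim (X.presheaf.stalk x)
    · exact Groth.Agent.Div21F12.principal_step hX D x hdim
        ((Groth.Agent.ParaF27.isParafactorialLocalRing_iff _).1 (hpar x hxS hdim)).2
        (fun ξ _ hlt => ih _ (hn ▸ hlt) ξ rfl)
    rw [not_le, ringKrullDim_stalk_eq_coheight] at hdim
    rcases eq_or_ne (Order.coheight x) 1 with h1 | h1
    · obtain ⟨k, hk, hkx⟩ := Groth.Agent.RH26.exists_ord_eq hX h1 (Z x)
      exact ⟨k, hk, fun x' h1' h => by rw [Groth.Agent.RH26.eq_of_coheight_one h h1' h1, hkx]⟩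
    · refine ⟨1, one_ne_zero, fun x' h1' h => absurd ?_ h1⟩
      have h2 : Order.coheight x < 2 := WithBot.coe_lt_coe.1 hdim
      have h3 : 1 ≤ Order.coheight x := h1' ▸ Order.coheight_anti h
      exact le_antisymm (Order.le_of_lt_add_one (one_add_one_eq_two (R := ℕ∞) ▸ h2)) h3

end Groth.Agent.S5112
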