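import Groth.Statements.S5113
import Mathlib.AlgebraicGeometry.PullbackCarrier

set_option autoImplicit false
universe u
open SGA1

namespace Groth.Agent.S5113

open AlgebraicGeometry CategoryTheory CategoryTheory.Limits in
/-- Let g : S' ⟶ S be submersive, i.e. surjective and making S a topological quotient of S'. Then the
sequence of sets of open subsets Ouv(S) → Ouv(S') ⇉ Ouv(S' ×_S S') (inverse images along g and along
the two projections) is exact: an open subset U' of S' whose inverse images under the two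
projections of S' ×_S S' agree is the inverse image of one and only one open subset of S. -/
theorem result {S' S : Scheme.{u}} (g : S' ⟶ S)
    (hg : Topology.IsQuotientMap g.base) (U' : S'.Opens)
    (h : (pullback.fst g g) ⁻¹ᵁ U' = (pullback.snd g g) ⁻¹ᵁ U') :
    ∃! U : S.Opens, g ⁻¹ᵁ U = U' := by
  have hsat : g ⁻¹' (g '' (U' : Set S')) = (U' : Set S') := by
    ext x
    refine ⟨?_, fun hx => ⟨x, hx, rfl⟩⟩
    rintro ⟨y, hy, e⟩
    obtain ⟨z, hz₁, hz₂⟩ := Scheme.Pullback.exists_preimage_pullback y x e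
    have hz : z ∈ (pullback.fst g g) ⁻¹ᵁ U' := show pullback.fst g g z ∈ U' from hz₁ ▸ hy
    rw [h] at hz
    exact hz₂ ▸ hz
  refine ⟨⟨g '' (U' : Set S'), hg.isOpen_preimage.1 (by rw [hsat]; exact U'.2)⟩, TopologicalSpace.Opens.ext hsat, ?_⟩
  rintro V rfl
  ext y
  exact ⟨fun hy => by obtain ⟨x, rfl⟩ := hg.surjective y; exact ⟨x, hy, rfl⟩, fun ⟨x, hx, e⟩ => e ▸ hx⟩
end Groth.Agent.S5113
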