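import Groth.Statements.S5114
import Groth.Agent.Lib.HTop25.Basic
import Groth.Agent.Lib.Hens.Misc
import Mathlib.RingTheory.AdicCompletion.Functoriality
import Mathlib.RingTheory.AdicCompletion.Noetherian
import Mathlib.AlgebraicGeometry.Morphisms.QuasiFinite
import Mathlib.AlgebraicGeometry.Morphisms.UniversallyClosed

set_option autoImplicit false
universe u
open SGA1

namespace Groth.Agent.S5114

open TensorProduct in
/-- A local algebra with finite closed fibre over a complete local ring is finite. -/
theorem finite_of_finite_fiber (A : Type u) [CommRing A] [IsNoetherianRing A] [IsLocalRing A]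
    [IsAdicComplete (IsLocalRing.maximalIdeal A) A] (O : Type u) [CommRing O] [IsNoetherianRing O]
    [IsLocalRing O] [Algebra A O]
    (hloc : (IsLocalRing.maximalIdeal A).map (algebraMap A O) ≤ IsLocalRing.maximalIdeal O)
    [Algebra.QuasiFinite A O] : Module.Finite A O := by
  let m := IsLocalRing.maximalIdeal A
  haveI h1 : Module.Finite m.ResidueField (m.Fiber O) := inferInstance
  haveI : Module.Finite A m.ResidueField :=
    Module.Finite.of_surjective (Algebra.linearMap A m.ResidueField) (by
      intro y
      obtain ⟨z, rfl⟩ := (Ideal.bijective_algebraMap_quotient_residueField m).2 y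
      obtain ⟨a, rfl⟩ := Ideal.Quotient.mk_surjective z
      exact ⟨a, IsScalarTower.algebraMap_apply A (A ⧸ m) m.ResidueField a⟩)
  haveI : Module.Finite A (m.Fiber O) := Module.Finite.trans m.ResidueField _
  let e : (A ⧸ m) ≃ₗ[A] m.ResidueField := LinearEquiv.ofBijective
    (IsScalarTower.toAlgHom A (A ⧸ m) m.ResidueField).toLinearMap
    (Ideal.bijective_algebraMap_quotient_residueField m)
  haveI : Module.Finite A (O ⧸ (m • ⊤ : Submodule A O)) := Module.Finite.equiv
    ((LinearEquiv.rTensor O e.symm).trans (TensorProduct.quotTensorEquivQuotSMul O m))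
  obtain ⟨n, π, hπ⟩ := Module.Finite.exists_fin' A (O ⧸ (m • ⊤ : Submodule A O))
  obtain ⟨f, hf⟩ := Module.projective_lifting_property (Submodule.mkQ (m • ⊤ : Submodule A O)) π
    (Submodule.mkQ_surjective _)
  haveI : IsAdicComplete m (Fin n → A) := Hens.isAdicComplete_pi m n
  haveI : IsHausdorff m O := ⟨fun x hx => by
    refine IsHausdorff.haus' (I := IsLocalRing.maximalIdeal O) (M := O) x fun k => ?_
    have h := hx k
    rw [SModEq.zero] at h ⊢
    have h2 : ∀ y ∈ (m ^ k • ⊤ : Submodule A O),
        y ∈ (IsLocalRing.maximalIdeal O ^ k • ⊤ : Submodule O O) := by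
      intro y hy
      refine Submodule.smul_induction_on hy (fun a ha z _ => ?_) (fun _ _ => add_mem)
      rw [smul_eq_mul, Ideal.mul_top, Algebra.smul_def]
      refine Ideal.mul_mem_right _ _ ?_
      exact Ideal.pow_right_mono hloc k (by rw [← Ideal.map_pow]; exact Ideal.mem_map_of_mem _ ha)
    exact h2 _ h⟩
  exact Module.Finite.of_surjective f (surjective_of_mkQ_comp_surjective (I := m) (f := f)
    (by rw [hf]; exact hπ))

open AlgebraicGeometry CategoryTheory CategoryTheory.Limits in
/-- Let A be a complete Noetherian local ring, S = Spec A, and g : S' ⟶ S a surjective morphism of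
finite type whose fibre over the closed point s is finite. If every point of S' specialises to some
point of the fibre over s (equivalently: the disjoint union of the spectra of the local rings of S'
at the points over s maps onto S'), then g is universally submersive. (The published statement
asserts an equivalence and does not mention surjectivity of g; the converse fails: for A a complete
discrete valuation ring with fraction field K, S' = S ⊔ Spec K ⟶ S has a section, hence is
universally submersive, while the isolated point Spec K specialises to no point over s. This row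
states the implication the published proof establishes, with the surjectivity it uses.) -/
theorem result (A : Type u) [CommRing A]
    [IsNoetherianRing A] [IsLocalRing A] [IsAdicComplete (IsLocalRing.maximalIdeal A) A]
    {S' : Scheme.{u}} (g : S' ⟶ Spec (CommRingCat.of A)) [LocallyOfFiniteType g] [QuasiCompact g]
    [Surjective g]
    (hfin : (g.base ⁻¹' {IsLocalRing.closedPoint A}).Finite)
    (hsp : ∀ t : S', ∃ s' : S', g.base s' = IsLocalRing.closedPoint A ∧ t ⤳ s') :
    SGA1.UnivSubmersive g := by
  classical
  let c : Spec (CommRingCat.of A) := IsLocalRing.closedPoint A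
  haveI : IsLocallyNoetherian S' := LocallyOfFiniteType.isLocallyNoetherian g
  haveI : Finite ↥(g.base ⁻¹' {c}) := hfin.to_subtype
  let Y : ↥(g.base ⁻¹' {c}) → Scheme.{u} := fun i => Spec (S'.presheaf.stalk i.1)
  let loc : ∀ i, Y i ⟶ S' := fun i => S'.fromSpecStalk i.1
  have hfinite : ∀ i, IsFinite (loc i ≫ g) := by
    intro i
    obtain ⟨x, hx⟩ := i
    change g x = c at hx
    haveI : Finite ↥(g.fiber (g x)) := by
      have hfin' : Finite ↥(g.base ⁻¹' {g x}) := by rw [hx]; exact hfin.to_subtype
      exact Finite.of_equiv _ (g.fiberHomeo (g x)).symm.toEquiv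
    haveI : LocallyOfFiniteType (g.fiberToSpecResidueField (g x)) :=
      inferInstanceAs (LocallyOfFiniteType (pullback.snd g _))
    haveI : JacobsonSpace ↥(g.fiber (g x)) :=
      LocallyOfFiniteType.jacobsonSpace (g.fiberToSpecResidueField (g x))
    have hqf : g.QuasiFiniteAt x :=
      Scheme.Hom.quasiFiniteAt_iff_isOpen_singleton_asFiber.2 (isOpen_discrete _)
    have hlqf := Scheme.Hom.quasiFiniteAt_iff.1 hqf
    obtain ⟨ψ, hψ⟩ := Spec.map_surjective (S'.fromSpecStalk x ≫ g)
    change IsFinite (S'.fromSpecStalk x ≫ g)
    rw [← hψ] at hlqf ⊢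
    rw [IsFinite.SpecMap_iff]
    rw [HasRingHomProperty.Spec_iff (P := @LocallyQuasiFinite)] at hlqf
    algebraize [ψ.hom]
    haveI : Algebra.QuasiFinite A (S'.presheaf.stalk x) := hlqf
    refine RingHom.finite_algebraMap.2 (finite_of_finite_fiber A _ ?_)
    rw [Ideal.map_le_iff_le_comap]
    have h1 : Spec.map ψ (IsLocalRing.closedPoint (S'.presheaf.stalk x)) = c := by
      rw [hψ, Scheme.Hom.comp_apply, Scheme.fromSpecStalk_closedPoint]
      exact hx
    exact (congrArg (fun z : PrimeSpectrum A => z.asIdeal) h1).ge
  let h : (∐ Y : Scheme.{u}) ⟶ S' := Sigma.desc loc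
  have hgh : Sigma.desc (fun i => loc i ≫ g) = h ≫ g :=
    Limits.Sigma.hom_ext _ _ fun i => by simp [h]
  haveI : IsFinite (h ≫ g) := by
    rw [← hgh]
    exact HTop25.isFinite_sigmaDesc _
  haveI : Surjective h := ⟨fun t => by
    obtain ⟨s', hs', hts⟩ := hsp t
    have ht : t ∈ Set.range (loc ⟨s', hs'⟩) := by
      change t ∈ Set.range (S'.fromSpecStalk s')
      rw [Scheme.range_fromSpecStalk]
      exact hts
    obtain ⟨y, hy⟩ := ht
    refine ⟨Sigma.ι Y ⟨s', hs'⟩ y, ?_⟩
    rw [← Scheme.Hom.comp_apply, Sigma.ι_desc]
    exact hy⟩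
  have key : SGA1.UnivSubmersive (h ≫ g) := by
    intro W T i₁ i₂ π hπ
    change Topology.IsQuotientMap π
    haveI : UniversallyClosed π := MorphismProperty.of_isPullback hπ.flip inferInstance
    haveI : Surjective π := MorphismProperty.of_isPullback hπ.flip inferInstance
    exact π.isClosedMap.isQuotientMap π.continuous π.surjective
  intro W T i₁ i₂ π hπ
  change Topology.IsQuotientMap π
  have hsq : IsPullback (pullback.fst h i₁) (pullback.snd h i₁ ≫ π) (h ≫ g) i₂ :=
    (IsPullback.of_hasPullback h i₁).paste_vert hπ.flip
  have h1 : Topology.IsQuotientMap (pullback.snd h i₁ ≫ π) := key _ _ _ hsq.flip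
  rw [Scheme.Hom.comp_base, TopCat.coe_comp] at h1
  exact Topology.IsQuotientMap.of_comp (pullback.snd h i₁).continuous π.continuous h1

end Groth.Agent.S5114
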