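import Groth.Statements.S5115
import Groth.Agent.Lib.UnivHomeo24.Flat
import Groth.Agent.S0075

set_option autoImplicit false
universe u
open EtBase

namespace Groth.Agent.S5115

open AlgebraicGeometry CategoryTheory CategoryTheory.Limits in
/-- Let g : S' ⟶ S be faithfully flat (flat and surjective), quasi-compact and radicial (universally
injective). Then base change along g is an equivalence from the category of schemes etale over S to
the category of schemes etale over S'. -/
theorem result {S S' : Scheme.{u}} (g : S' ⟶ S)
    [Flat g] [Surjective g] [QuasiCompact g] [UniversallyInjective g] :
    (EtCoh.bc g).IsEquivalence := by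
  have := Groth.Agent.UnivHomeo24.isIntegralHom g
  exact Groth.Agent.S0075.result g

end Groth.Agent.S5115
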