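import Groth.Statements.S5117
import Groth.Agent.S0270
import Groth.Agent.S0268
import Groth.Agent.Lib.FEtLimit25.EssImage
import Groth.Agent.Lib.FEtLimit25.Connected
import Groth.Agent.Lib.FEtEq25.Galois

set_option autoImplicit false
universe u
open Pi1

namespace Groth.Agent.S5117

open AlgebraicGeometry CategoryTheory CategoryTheory.Limits in
/-- (ii bis) ⇒ (i), over a field. Let k be a field with algebraic closure k̄, X a quasi-compact and
quasi-separated k-scheme such that X ×_k k̄ is connected, and X' a connected finite etale cover of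
X. If the induced cover X' ×_k k̄ → X ×_k k̄ admits a section, then X' is isomorphic over X to X ×_k
S' for some finite etale k-scheme S'. (The published statement allows the spectrum of an Artinian
local ring with residue field k as base and asks only that X be quasi-compact; this row takes a
field and X quasi-compact and quasi-separated.) -/
theorem result (k : Type u) [Field k] {X : Scheme.{u}}
    (f : X ⟶ Spec (CommRingCat.of k)) [CompactSpace X] [QuasiSeparatedSpace X]
    [ConnectedSpace ↥(pullback f (Spec.map (CommRingCat.ofHom (algebraMap k (AlgebraicClosure k)))))]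
    (X' : FEt.Cat X) [ConnectedSpace X'.left]
    (σ : pullback f (Spec.map (CommRingCat.ofHom (algebraMap k (AlgebraicClosure k)))) ⟶ X'.left)
    (hσ : σ ≫ X'.hom = pullback.fst f (Spec.map (CommRingCat.ofHom (algebraMap k (AlgebraicClosure k))))) :
    ∃ S' : FEt.Cat (Spec (CommRingCat.of k)), Nonempty ((FEt.restrict f).obj S' ≅ X') := by
  haveI : PreservesFiniteLimits (FEt.restrict f) := FEtEq25.preservesFiniteLimits_restrict f
  haveI : PreservesFiniteColimits (FEt.restrict f) := FEtEq25.preservesFiniteColimits_restrict f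
  let pr := pullback.fst f (Spec.map (CommRingCat.ofHom (algebraMap k (AlgebraicClosure k))))
  haveI : Surjective (Spec.map (CommRingCat.ofHom (algebraMap k (AlgebraicClosure k)))) :=
    ⟨fun _ => ⟨⟨⊥, Ideal.isPrime_bot⟩, Subsingleton.elim (α := PrimeSpectrum k) _ _⟩⟩
  haveI : Surjective pr := MorphismProperty.pullback_fst _ _ inferInstance
  haveI : ConnectedSpace X := pr.surjective.connectedSpace pr.continuous
  haveI : ConnectedSpace ↥(Spec (CommRingCat.of k)) :=
    inferInstanceAs (ConnectedSpace (PrimeSpectrum k))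
  obtain ⟨V, m, hm⟩ := Groth.Agent.S0270.exists_piece k f X' σ hσ
  obtain ⟨x₀⟩ := (inferInstance : Nonempty ↥(pullback f (Spec.map (CommRingCat.ofHom (algebraMap k (AlgebraicClosure k))))))
  obtain ⟨y₀, -⟩ := hm x₀
  let ηk : Spec (CommRingCat.of (AlgebraicClosure k)) ⟶ Spec (CommRingCat.of k) :=
    Spec.map (CommRingCat.ofHom (algebraMap k (AlgebraicClosure k)))
  haveI : GaloisCategory (FEt.Cat (Spec (CommRingCat.of k))) :=
    { hasFiberFunctor := ⟨FEtEq25.fiberFin ηk, ⟨FEtEq25.fiberFunctor ηk⟩⟩ }
  let W := (FEt.restrict f).obj V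
  let g := Spec.map (CommRingCat.ofHom (algebraMap (W.left.residueField y₀) (AlgebraicClosure (W.left.residueField y₀)))) ≫
    W.left.fromSpecResidueField y₀
  let ξ : Spec (CommRingCat.of (AlgebraicClosure (W.left.residueField y₀))) ⟶ X := g ≫ W.hom
  haveI := FEtEq25.fiberFunctor ξ
  haveI : GaloisCategory (FEt.Cat X) := { hasFiberFunctor := ⟨FEtEq25.fiberFin ξ, ⟨inferInstance⟩⟩ }
  haveI := FEtLimit25.isConnected_of_connectedSpace X'
  obtain ⟨S', ⟨e⟩⟩ := FEtLimit25.mem_essImage_of_dominated (FEt.restrict f) (Groth.Agent.S0268.result k f)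
    (FEtEq25.fiberFin ξ) m ⟨g, rfl⟩
  exact ⟨S', ⟨e⟩⟩

end Groth.Agent.S5117
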