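import Groth.Statements.S5118
import Mathlib.RingTheory.Etale.StandardEtale
-- import your own Groth.Agent.* helpers here

set_option autoImplicit false
universe u
open SGA1t

namespace Groth.Agent.S5118

open Polynomial

lemma not_formallyUnramified (A : Type u) [CommRing A] (n : ℕ) (hn : 1 ≤ n) (h0 : ¬ IsUnit (n : A)) :
    ¬ Algebra.FormallyUnramified A (AdjoinRoot ((X : A[X]) ^ n - 1)) := by
  intro hu
  haveI : Nontrivial A := by
    by_contra h
    rw [not_nontrivial_iff_subsingleton] at h
    exact h0 (isUnit_of_subsingleton _)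
  set f : A[X] := X ^ n - 1 with hf
  let B := AdjoinRoot f
  let I : Ideal B := Ideal.span {(n : B)}
  have hfm : f.Monic := by
    rw [hf, ← C_1]
    exact monic_X_pow_sub_C 1 (by omega)
  have hmk : ∀ z, AdjoinRoot.mkₐ f z = AdjoinRoot.mk f z := fun _ => rfl
  let D : A[X] →ₗ[A] B ⧸ I :=
    ((Ideal.Quotient.mkₐ A I).comp (AdjoinRoot.mkₐ f)).toLinearMap ∘ₗ (derivative : A[X] →ₗ[A] A[X])
  have hn0 : (Ideal.Quotient.mk I) (n : B) = 0 :=
    Ideal.Quotient.eq_zero_iff_mem.2 (Ideal.mem_span_singleton_self _)
  have hker : LinearMap.ker (AdjoinRoot.mkₐ f).toLinearMap ≤ LinearMap.ker D := by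
    intro x hx
    obtain ⟨y, rfl⟩ : f ∣ x := AdjoinRoot.mk_eq_zero.1 hx
    have hfd : derivative f = (n : A[X]) * X ^ (n - 1) := by
      simp [hf, derivative_sub, derivative_X_pow]
    simp only [D, LinearMap.mem_ker, LinearMap.comp_apply, derivative_mul, hfd, map_add, map_mul,
      AlgHom.toLinearMap_apply, AlgHom.comp_apply, Ideal.Quotient.mkₐ_eq_mk, hmk,
      AdjoinRoot.mk_self, map_natCast, map_pow]
    rw [← map_natCast (Ideal.Quotient.mk I), hn0]
    simp
  have hsurj : Function.Surjective (AdjoinRoot.mkₐ f).toLinearMap := AdjoinRoot.mk_surjective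
  let e := LinearMap.quotKerEquivOfSurjective _ hsurj
  let d : B →ₗ[A] B ⧸ I :=
    (Submodule.liftQ _ D hker).comp e.symm.toLinearMap
  have hd : ∀ x, d (AdjoinRoot.mk f x) = Ideal.Quotient.mk I (AdjoinRoot.mk f (derivative x)) := by
    intro x
    have : e.symm (AdjoinRoot.mk f x) = Submodule.Quotient.mk x := by
      rw [LinearEquiv.symm_apply_eq]
      rfl
    simp [d, this, D, hmk]
  let dd : Derivation A B (B ⧸ I) := Derivation.mk' d (by
    intro a b
    obtain ⟨a, rfl⟩ := AdjoinRoot.mk_surjective a
    obtain ⟨b, rfl⟩ := AdjoinRoot.mk_surjective b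
    rw [← map_mul, hd, hd, hd, Algebra.smul_def, Algebra.smul_def, Ideal.Quotient.algebraMap_eq]
    simp only [derivative_mul, map_add, map_mul]
    ring)
  haveI : Subsingleton Ω[B⁄A] := hu.1
  have hz : dd = 0 := by
    rw [← dd.liftKaehlerDifferential_comp]
    ext x
    simp [Subsingleton.elim (KaehlerDifferential.D A B x) 0]
  have h1 : dd (AdjoinRoot.mk f X) = 1 := by
    rw [Derivation.coe_mk', hd]
    simp
  rw [hz] at h1
  simp only [Derivation.coe_zero, Pi.zero_apply] at h1
  have h2 : (1 : B) ∈ I := Ideal.Quotient.eq_zero_iff_mem.1 (by rw [map_one]; exact h1.symm)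
  obtain ⟨y, hy⟩ := Ideal.mem_span_singleton'.1 h2
  obtain ⟨g, rfl⟩ := AdjoinRoot.mk_surjective y
  apply h0
  rw [← map_natCast (AdjoinRoot.mk f), ← map_mul, ← map_one (AdjoinRoot.mk f),
    AdjoinRoot.mk_eq_mk] at hy
  obtain ⟨t, ht⟩ := hy
  have hev := congrArg (eval 1) ht
  simp [hf] at hev
  exact IsUnit.of_mul_eq_one (g.eval 1) (by linear_combination hev)

open Polynomial in
/-- The etaleness criterion for the Kummer group scheme: Let A be a commutative ring and n ≥ 1. The
group scheme μ_n over Spec A is the spectrum of A[t]/(t^n − 1), a free A-module of rank n; it is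
etale over A if and only if n is a unit of A (equivalently, n is prime to the characteristic of the
residue field at every point of Spec A). -/
theorem result (A : Type u) [CommRing A] (n : ℕ) (hn : 1 ≤ n) :
    Algebra.Etale A (AdjoinRoot ((X : A[X]) ^ n - 1)) ↔ IsUnit ((n : ℕ) : A) := by
  constructor
  · intro h
    by_contra h0
    exact not_formallyUnramified A n hn h0 inferInstance
  · intro hu
    obtain ⟨v, hv⟩ := hu.exists_left_inv
    have hfm : ((X : A[X]) ^ n - 1).Monic := by
      rcases subsingleton_or_nontrivial A with h | h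
      · exact Subsingleton.elim _ _
      · rw [← C_1]
        exact monic_X_pow_sub_C 1 (by omega)
    let P : StandardEtalePair A := ⟨X ^ n - 1, hfm, 1, ⟨C v * X, -1, 1, by
      obtain ⟨m, rfl⟩ : ∃ m, n = m + 1 := ⟨n - 1, by omega⟩
      have hC : C v * ((m + 1 : ℕ) : A[X]) = 1 := by
        rw [← map_natCast C, ← map_mul, hv, map_one]
      simp only [derivative_sub, derivative_X_pow, derivative_one, Nat.add_sub_cancel,
        sub_zero, map_natCast]
      push_cast at hC ⊢
      linear_combination (X ^ (m + 1)) * hC⟩⟩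
    have hu1 : IsUnit (AdjoinRoot.mk P.f P.g) := by
      rw [show P.g = 1 from rfl, map_one]
      exact isUnit_one
    haveI : Algebra.Etale A P.Ring := inferInstance
    refine Algebra.Etale.of_equiv (P.equivAwayAdjoinRoot.trans
      ((IsLocalization.atUnit (AdjoinRoot P.f) _ _ hu1).symm.restrictScalars A))

end Groth.Agent.S5118
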