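import Groth.Statements.S5119
-- import your own Groth.Agent.* helpers here

set_option autoImplicit false
universe u
open scoped LaurentPolynomial
open SGA1t

namespace Groth.Agent.S5119

/-- The computation behind the exactness of the Kummer sequence 0 → μ_n → G_m → G_m → 0, i.e. faithful
flatness of the n-th power map u_n of G_m: Let A be a commutative ring and n ≥ 1, and let u_n be the
ring endomorphism of A[t, t⁻¹] with u_n(t) = t^n (on monomials, t^k ↦ t^{nk}). Then A[t, t⁻¹] is
free of rank n over itself via u_n, with basis 1, t, …, t^{n−1}: every Laurent polynomial q can be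
written in exactly one way as Σ_{i<n} u_n(c_i) t^i. -/
theorem result (A : Type u) [CommRing A] (n : ℕ) (hn : 1 ≤ n) (q : A[T;T⁻¹]) :
    ∃! c : Fin n → A[T;T⁻¹],
      q = ∑ i : Fin n, (AddMonoidAlgebra.mapDomainRingHom A (AddMonoidHom.mulLeft (n : ℤ)) : A[T;T⁻¹] →+* A[T;T⁻¹]) (c i) *
        LaurentPolynomial.T (i : ℤ) := by
  classical
  have hn0 : (n : ℤ) ≠ 0 := by exact_mod_cast (show n ≠ 0 by omega)
  let Φ := (AddMonoidAlgebra.mapDomainRingHom A (AddMonoidHom.mulLeft (n : ℤ)) :
    A[T;T⁻¹] →+* A[T;T⁻¹])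
  have hinj : Function.Injective (AddMonoidHom.mulLeft (n : ℤ)) :=
    fun a b hab => mul_left_cancel₀ hn0 hab
  have key : ∀ (x : A[T;T⁻¹]) (k i : Fin n) (j : ℤ),
      (Φ x * LaurentPolynomial.T (k : ℤ)).coeff ((n : ℤ) * j + i) = if k = i then x.coeff j else 0 := by
    intro x k i j
    have e : (n : ℤ) * j + i = ((n : ℤ) * j + i - k) + k := by ring
    rw [e, LaurentPolynomial.T, AddMonoidAlgebra.coeff_mul_single_add, mul_one]
    simp only [Φ, AddMonoidAlgebra.mapDomainRingHom_apply, AddMonoidAlgebra.coeff_mapDomain]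
    by_cases hki : k = i
    · subst hki
      rw [if_pos rfl, add_sub_cancel_right]
      exact Finsupp.mapDomain_apply hinj _ j
    · rw [if_neg hki]
      refine Finsupp.mapDomain_notin_range _ _ ?_
      rintro ⟨a, ha⟩
      apply hki
      simp only [AddMonoidHom.coe_mulLeft] at ha
      have hk := k.isLt
      have hi := i.isLt
      apply Fin.ext
      have h1 : ((i : ℤ) - k) = (n : ℤ) * (a - j) := by linarith
      have h3 : a - j = 0 := by
        have hk' : (k : ℤ) < n := by omega
        have hi' : (i : ℤ) < n := by omega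
        rcases lt_trichotomy (a - j) 0 with h | h | h
        · have : (n : ℤ) * (a - j) ≤ (n : ℤ) * (-1) :=
            mul_le_mul_of_nonneg_left (by omega) (by omega)
          omega
        · exact h
        · have : (n : ℤ) * 1 ≤ (n : ℤ) * (a - j) :=
            mul_le_mul_of_nonneg_left (by omega) (by omega)
          omega
      rw [h3, mul_zero] at h1
      omega
  let c : Fin n → A[T;T⁻¹] := fun i =>
    AddMonoidAlgebra.ofCoeff (q.coeff.comapDomain (fun j : ℤ => (n : ℤ) * j + i)
      (fun a _ b _ hab => mul_left_cancel₀ hn0 (add_right_cancel hab)))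
  have hsum : ∀ (d : Fin n → A[T;T⁻¹]) (i : Fin n) (j : ℤ),
      (∑ k : Fin n, Φ (d k) * LaurentPolynomial.T (k : ℤ)).coeff ((n : ℤ) * j + i) = (d i).coeff j := by
    intro d i j
    simp [AddMonoidAlgebra.coeff_sum, Finsupp.finsetSum_apply, key]
  refine ⟨c, ?_, ?_⟩
  · refine LaurentPolynomial.ext fun m => ?_
    have hi : (m % (n : ℤ)).toNat < n := by
      have := Int.emod_lt_of_pos m (show (0 : ℤ) < n by omega)
      have := Int.emod_nonneg m hn0
      omega
    have hm : m = (n : ℤ) * (m / n) + ((⟨_, hi⟩ : Fin n) : ℕ) := by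
      simp only [Int.toNat_of_nonneg (Int.emod_nonneg m hn0)]
      exact (Int.mul_ediv_add_emod m n).symm
    rw [hm]
    refine Eq.trans ?_ (hsum c ⟨_, hi⟩ (m / n)).symm
    simp [c]
  · intro d hd
    funext i
    refine LaurentPolynomial.ext fun j => ?_
    rw [← hsum d i j]
    simp only [c]
    rw [show (∑ k : Fin n, Φ (d k) * LaurentPolynomial.T (k : ℤ)) = q from hd.symm]
    simp

end Groth.Agent.S5119
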