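import Groth.Statements.S5120
-- import your own Groth.Agent.* helpers here

set_option autoImplicit false
universe u
open SGA1t

namespace Groth.Agent.S5120

open Polynomial

/-- expansions in powers of a monic polynomial: uniqueness -/
lemma unique_aux {A : Type u} [CommRing A] [Nontrivial A] (f : A[X]) (u : A[X]) (hu : IsUnit u)
    (hm : (u * f).Monic) (p : ℕ) (hp : (u * f).natDegree = p) :
    ∀ (N : ℕ) (c : Fin p → A[X]), (∀ i, ∀ j, N ≤ j → (c i).coeff j = 0) →
      ∑ i : Fin p, aeval f (c i) * X ^ (i : ℕ) = 0 → ∀ i, c i = 0 := by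
  intro N
  induction N with
  | zero => exact fun c hc _ i => Polynomial.ext fun j => by simpa using hc i j (Nat.zero_le _)
  | succ N ih =>
    intro c hc hsum i
    have hdec : ∑ i : Fin p, aeval f (c i) * X ^ (i : ℕ) =
        f * (∑ i : Fin p, aeval f (c i).divX * X ^ (i : ℕ)) +
          ∑ i : Fin p, C ((c i).coeff 0) * X ^ (i : ℕ) := by
      rw [Finset.mul_sum, ← Finset.sum_add_distrib]
      refine Finset.sum_congr rfl fun i _ => ?_
      conv_lhs => rw [← Polynomial.X_mul_divX_add (c i)]
      simp only [map_add, map_mul, aeval_X, aeval_C, Polynomial.algebraMap_eq]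
      ring
    rw [hdec] at hsum
    set g := ∑ i : Fin p, aeval f (c i).divX * X ^ (i : ℕ) with hg
    set r := ∑ i : Fin p, C ((c i).coeff 0) * X ^ (i : ℕ) with hr
    have hdeg : r.degree < (u * f).degree := by
      rw [degree_eq_natDegree hm.ne_zero, hp]
      exact degree_sum_fin_lt _
    obtain ⟨v, hv⟩ := hu.exists_left_inv
    have hrz : r = 0 := by
      have h1 : (u * f) ∣ r := ⟨-(v * g), by linear_combination hsum + (f * g) * hv⟩
      by_contra h
      exact hm.not_dvd_of_degree_lt h hdeg h1
    have hgz : g = 0 := by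
      rw [hrz, add_zero] at hsum
      have : (u * f) * g = 0 := by rw [mul_assoc, hsum, mul_zero]
      exact hm.mul_right_eq_zero_iff.1 this
    have h0 : (c i).coeff 0 = 0 := by
      have : r.coeff (i : ℕ) = (c i).coeff 0 := by
        simp [hr, finsetSum_coeff, coeff_C_mul, coeff_X_pow, Fin.val_inj]
      rw [← this, hrz, coeff_zero]
    have h1 := ih (fun i => (c i).divX)
      (fun i j hj => by rw [coeff_divX]; exact hc i (j + 1) (by omega)) hgz i
    rw [← Polynomial.X_mul_divX_add (c i), h1, h0]
    simp

/-- existence -/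
lemma exists_aux {A : Type u} [CommRing A] [Nontrivial A] (f : A[X]) (u : A[X]) (w : A)
    (hm : (u * f).Monic) (hw : C w = u) (p : ℕ) (hp : (u * f).natDegree = p) (hp0 : 0 < p)
    (N : ℕ) : ∀ q : A[X], q.natDegree ≤ N →
      ∃ c : Fin p → A[X], q = ∑ i : Fin p, aeval f (c i) * X ^ (i : ℕ) := by
  induction N using Nat.strong_induction_on with
  | h N ih =>
    intro q hq
    rcases lt_or_ge q.natDegree p with h | h
    · refine ⟨fun i => C (q.coeff i), ?_⟩
      conv_lhs => rw [q.as_sum_range' p h]
      rw [← Fin.sum_univ_eq_sum_range (fun i => monomial i (q.coeff i))]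
      simp [C_mul_X_pow_eq_monomial]
    · have hlt : (q /ₘ (u * f)).natDegree < N := by
        rw [natDegree_divByMonic _ hm, hp]
        omega
      obtain ⟨d, hd⟩ := ih _ hlt (q /ₘ (u * f)) le_rfl
      refine ⟨fun i => C ((q %ₘ (u * f)).coeff i) + C w * X * d i, ?_⟩
      have hr : ∑ i : Fin p, C ((q %ₘ (u * f)).coeff i) * X ^ (i : ℕ) = q %ₘ (u * f) := by
        have hl : (q %ₘ (u * f)).natDegree < p := by
          refine hp ▸ natDegree_modByMonic_lt _ hm fun e => ?_
          rw [e, natDegree_one] at hp
          omega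
        conv_rhs => rw [(q %ₘ (u * f)).as_sum_range' p hl]
        rw [← Fin.sum_univ_eq_sum_range (fun i => monomial i ((q %ₘ (u * f)).coeff i))]
        simp [C_mul_X_pow_eq_monomial]
      simp only [map_add, map_mul, aeval_X, aeval_C, Polynomial.algebraMap_eq, add_mul,
        Finset.sum_add_distrib, hr, mul_assoc, ← Finset.mul_sum, ← hd]
      rw [hw]
      have := modByMonic_add_div q (u * f)
      linear_combination -this


open Polynomial in
/-- The computation behind the exactness of the Artin-Schreier sequence 0 → Z/p → G_a → G_a → 0 in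
characteristic p, i.e. faithful flatness of ℘ = id − F: Let p be a prime and A a ring of
characteristic p. Then A[t] is free of rank p over itself via the endomorphism t ↦ t − t^p, with
basis 1, t, …, t^{p−1}: every polynomial q can be written in exactly one way as Σ_{i<p} c_i(t − t^p)
t^i. -/
theorem result (p : ℕ) [Fact p.Prime] (A : Type u) [CommRing A] [CharP A p]
    (q : A[X]) :
    ∃! c : Fin p → A[X], q = ∑ i : Fin p, aeval (X - X ^ p : A[X]) (c i) * X ^ (i : ℕ) := by
  classical
  haveI : Nontrivial A := CharP.nontrivial_of_char_ne_one (Fact.out : p.Prime).ne_one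
  set f : A[X] := X - X ^ p with hf
  have hp1 : 1 < p := (Fact.out : p.Prime).one_lt
  have hm : ((-1 : A[X]) * f).Monic := by
    rw [hf, neg_one_mul, neg_sub]
    exact monic_X_pow_sub (by rw [degree_X]; exact_mod_cast hp1)
  have hdeg : ((-1 : A[X]) * f).natDegree = p := by
    rw [hf, neg_one_mul, neg_sub, natDegree_sub_eq_left_of_natDegree_lt (by simpa using hp1),
      natDegree_X_pow]
  obtain ⟨c, hc⟩ := exists_aux f (-1) (-1) hm (by simp) p hdeg (by omega) q.natDegree q le_rfl
  refine ⟨c, hc, fun d hd => ?_⟩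
  funext i
  obtain ⟨N, hN⟩ : ∃ N, ∀ i, ∀ j, N ≤ j → (d i - c i).coeff j = 0 :=
    ⟨(Finset.univ.sup fun i => (d i - c i).natDegree) + 1, fun i j hj =>
      coeff_eq_zero_of_natDegree_lt (lt_of_le_of_lt
        (Finset.le_sup (f := fun i => (d i - c i).natDegree) (Finset.mem_univ i)) (by omega))⟩
  refine sub_eq_zero.1 (unique_aux f (-1) isUnit_one.neg hm p hdeg N (fun i => d i - c i) hN ?_ i)
  simp only [map_sub, sub_mul, Finset.sum_sub_distrib]
  exact sub_eq_zero.2 (hd.symm.trans hc)

end Groth.Agent.S5120
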