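import Groth.Statements.S5124
import Groth.Agent.Lib.EffDesc25.Base
import Groth.Agent.Lib.EffDesc25.Spread
import Groth.Agent.Lib.LimH13.NhdLimit

set_option autoImplicit false
universe u
open SGA1

namespace Groth.Agent.S5124

open AlgebraicGeometry CategoryTheory CategoryTheory.Limits in
/-- Let g : S' ⟶ S be universally submersive and of finite presentation, D a descent datum relative to g
(functor-of-points form, for the one-member family g) whose underlying S'-scheme is etale and of
finite presentation (quasi-compact and quasi-separated) over S', and a a point of S. Then there is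
an open neighbourhood U of a over which the induced descent datum (relative to S' ×_S U ⟶ U) is the
canonical datum of some etale U-scheme if and only if the descent datum induced over Spec O_{S,a}
(relative to S' ×_S Spec O_{S,a} ⟶ Spec O_{S,a}) is the canonical datum of some etale scheme over
Spec O_{S,a}. -/
theorem result {S S' : Scheme.{u}} (g : S' ⟶ S) (hg : SGA1.UnivSubmersive g)
    [LocallyOfFinitePresentation g] [QuasiCompact g] [QuasiSeparated g]
    (D : Desc.SchDDFam (fun _ : PUnit.{1} => g)) [Etale (D.obj PUnit.unit).hom]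
    [QuasiCompact (D.obj PUnit.unit).hom] [QuasiSeparated (D.obj PUnit.unit).hom] (a : S) :
    (∃ W : S.Opens, a ∈ W ∧ (∃ U : Over (W : Scheme.{u}), Etale U.hom ∧
        Nonempty ((Desc.toDDFam (fun _ : PUnit.{1} => pullback.snd g W.ι)).obj U ≅
          (Desc.pullDDFam (f := fun _ : PUnit.{1} => g) (f' := fun _ : PUnit.{1} => pullback.snd g W.ι)
        (α := id) (p := W.ι) (p' := fun _ => pullback.fst g W.ι) (fun _ => pullback.condition)).obj D))) ↔
      (∃ U : Over (Spec (S.presheaf.stalk a)), Etale U.hom ∧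
        Nonempty ((Desc.toDDFam (fun _ : PUnit.{1} => pullback.snd g (S.fromSpecStalk a))).obj U ≅
          (Desc.pullDDFam (f := fun _ : PUnit.{1} => g) (f' := fun _ : PUnit.{1} => pullback.snd g (S.fromSpecStalk a))
        (α := id) (p := (S.fromSpecStalk a)) (p' := fun _ => pullback.fst g (S.fromSpecStalk a)) (fun _ => pullback.condition)).obj D)) := by
  constructor
  · rintro ⟨W, haW, U, hU, ⟨e⟩⟩
    haveI : Etale U.hom := hU
    exact ⟨Over.mk (pullback.snd U.hom (W.fromSpecStalkOfMem a haW)),
      MorphismProperty.pullback_snd _ _ hU,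
      Groth.Agent.EffDesc25.exists_effective_baseChange hg W.ι U e _ _
        (Scheme.Opens.fromSpecStalkOfMem_ι _ _ _)⟩
  · rintro ⟨U, hU, ⟨e⟩⟩
    obtain ⟨_, ⟨V₀, hV₀, rfl⟩, haV, -⟩ :=
      S.isBasis_affineOpens.exists_subset_of_mem_open (Set.mem_univ a) isOpen_univ
    let V : S.affineOpens := ⟨V₀, hV₀⟩
    let I := (Groth.Agent.LimH13.Nhd.Idx a V)ᵒᵖ
    haveI := Groth.Agent.LimH13.Nhd.isDirected a V
    haveI : Nonempty (Groth.Agent.LimH13.Nhd.Idx a V) :=
      ⟨⟨1, by rw [Scheme.basicOpen_of_isUnit _ isUnit_one]; exact haV⟩⟩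
    haveI : IsFiltered (Groth.Agent.LimH13.Nhd.Idx a V) := isFiltered_of_directed_le_nonempty _
    let D₁ := Groth.Agent.LimH13.Nhd.diag a V
    haveI : ∀ {i j : I} (m : i ⟶ j), IsAffineHom (D₁.map m) := fun m =>
      Groth.Agent.LimH13.Nhd.isAffineHom_map a V m
    haveI haff : ∀ i : I, IsAffine (D₁.obj i) := fun i => V.2.basicOpen _
    haveI : ∀ i : I, CompactSpace (D₁.obj i) := fun i => inferInstance
    haveI : ∀ i : I, QuasiSeparatedSpace (D₁.obj i) := fun i => inferInstance
    haveI : IsAffine (Groth.Agent.LimH13.Nhd.cone a V).pt :=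
      inferInstanceAs (IsAffine (Spec (S.presheaf.stalk a)))
    let tS : D₁ ⟶ (Functor.const I).obj S :=
      { app := fun i => (S.basicOpen i.unop.1).ι
        naturality := fun i j m => by
          show S.homOfLE ((Groth.Agent.LimH13.Nhd.le_iff a V).1 m.unop.le) ≫ _ = _ ≫ 𝟙 S
          rw [Scheme.homOfLE_ι, Category.comp_id] }
    haveI : Etale ((Groth.Agent.EffDesc25.toU D).obj PUnit.unit).hom :=
      inferInstanceAs (Etale (D.obj PUnit.unit).hom)
    haveI : QuasiCompact ((Groth.Agent.EffDesc25.toU D).obj PUnit.unit).hom :=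
      inferInstanceAs (QuasiCompact (D.obj PUnit.unit).hom)
    haveI : QuasiSeparated ((Groth.Agent.EffDesc25.toU D).obj PUnit.unit).hom :=
      inferInstanceAs (QuasiSeparated (D.obj PUnit.unit).hom)
    let A : Groth.Agent.EffDesc25.Sol (Z := (Groth.Agent.LimH13.Nhd.cone a V).pt)
        (Groth.Agent.EffDesc25.toU D) (S.fromSpecStalk a) := Groth.Agent.EffDesc25.solOfIso U e
    haveI : Etale A.π := hU
    obtain ⟨i, B, hB⟩ := Groth.Agent.EffDesc25.exists_sol_stage (tS := tS)
      (c := Groth.Agent.LimH13.Nhd.cone a V) (Groth.Agent.LimH13.Nhd.isLimit a V haV)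
      (pS := S.fromSpecStalk a) (fun i => Scheme.Opens.fromSpecStalkOfMem_ι _ _ i.unop.2) hg A
    exact ⟨S.basicOpen i.unop.1, i.unop.2, Over.mk B.π, hB,
      Groth.Agent.EffDesc25.nonempty_iso_of_sol B⟩

end Groth.Agent.S5124
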