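import Groth.Statements.S5126
import Groth.Agent.S5125
import Groth.Agent.Lib.EffDesc25.Props
import Groth.Agent.Lib.EffDesc25.Fpqc
import Groth.Agent.Lib.Pur25.Square

set_option autoImplicit false
universe u
open SGA1

namespace Groth.Agent.S5126

open AlgebraicGeometry CategoryTheory CategoryTheory.Limits in
/-- Let S be locally Noetherian, g : S' ⟶ S universally submersive and of finite presentation, and D a
descent datum relative to g (functor-of-points form, for the one-member family g) whose underlying
S'-scheme is etale, separated and of finite presentation over S'. Then D is the canonical datum of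
some etale S-scheme if and only if for every point a of S the descent datum induced over the
spectrum of the adic completion Ô of the local ring O_{S,a} (mapping to S through Spec O_{S,a}) is
the canonical datum of some etale Ô-scheme. -/
theorem result {S S' : Scheme.{u}} [IsLocallyNoetherian S] (g : S' ⟶ S)
    (hg : SGA1.UnivSubmersive g) [LocallyOfFinitePresentation g] [QuasiCompact g] [QuasiSeparated g]
    (D : Desc.SchDDFam (fun _ : PUnit.{1} => g)) [Etale (D.obj PUnit.unit).hom]
    [QuasiCompact (D.obj PUnit.unit).hom] [IsSeparated (D.obj PUnit.unit).hom] :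
    (∃ U : Over S, Etale U.hom ∧ Nonempty ((Desc.toDDFam (fun _ : PUnit.{1} => g)).obj U ≅ D)) ↔ ∀ a : S,
      (∃ U : Over (Spec (CommRingCat.of (AdicCompletion (IsLocalRing.maximalIdeal (S.presheaf.stalk a)) (S.presheaf.stalk a)))), Etale U.hom ∧
        Nonempty ((Desc.toDDFam (fun _ : PUnit.{1} => pullback.snd g (Spec.map (CommRingCat.ofHom (algebraMap (S.presheaf.stalk a)
          (AdicCompletion (IsLocalRing.maximalIdeal (S.presheaf.stalk a)) (S.presheaf.stalk a)))) ≫ S.fromSpecStalk a))).obj U ≅
          (Desc.pullDDFam (f := fun _ : PUnit.{1} => g) (f' := fun _ : PUnit.{1} => pullback.snd g (Spec.map (CommRingCat.ofHom (algebraMap (S.presheaf.stalk a)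
          (AdicCompletion (IsLocalRing.maximalIdeal (S.presheaf.stalk a)) (S.presheaf.stalk a)))) ≫ S.fromSpecStalk a))
        (α := id) (p := (Spec.map (CommRingCat.ofHom (algebraMap (S.presheaf.stalk a)
          (AdicCompletion (IsLocalRing.maximalIdeal (S.presheaf.stalk a)) (S.presheaf.stalk a)))) ≫ S.fromSpecStalk a)) (p' := fun _ => pullback.fst g (Spec.map (CommRingCat.ofHom (algebraMap (S.presheaf.stalk a)
          (AdicCompletion (IsLocalRing.maximalIdeal (S.presheaf.stalk a)) (S.presheaf.stalk a)))) ≫ S.fromSpecStalk a)) (fun _ => pullback.condition)).obj D)) := by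
  constructor
  · rintro ⟨U, hU, ⟨e⟩⟩ a
    exact ⟨_, MorphismProperty.pullback_snd _ _ hU, Groth.Agent.EffDesc25.nonempty_iso_baseChange _ U e⟩
  · intro h
    refine (Groth.Agent.S5125.result g hg D).2 fun a => ?_
    obtain ⟨U, hU, ⟨e⟩⟩ := h a
    obtain ⟨hs, hq⟩ := Groth.Agent.EffDesc25.isSeparated_and_quasiCompact hg U e
    haveI : Etale (Groth.Agent.EffDesc25.solOfIso U e).π := hU
    let c : Spec (CommRingCat.of (AdicCompletion (IsLocalRing.maximalIdeal (S.presheaf.stalk a))
        (S.presheaf.stalk a))) ⟶ Spec (S.presheaf.stalk a) :=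
      Spec.map (CommRingCat.ofHom (algebraMap (S.presheaf.stalk a)
        (AdicCompletion (IsLocalRing.maximalIdeal (S.presheaf.stalk a)) (S.presheaf.stalk a))))
    haveI := Groth.Agent.Pur25.faithfullyFlat_completion (S.presheaf.stalk a)
    haveI : Flat c := by
      rw [HasRingHomProperty.Spec_iff (P := @Flat)]
      exact RingHom.flat_algebraMap_iff.2 inferInstance
    haveI : Surjective c := ⟨PrimeSpectrum.comap_surjective_of_faithfullyFlat⟩
    obtain ⟨R, hR, -⟩ := Groth.Agent.EffDesc25.exists_rep_descend c (S.fromSpecStalk a)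
      ((Groth.Agent.EffDesc25.solOfIso U e).toRep hg) hU hs hq
    exact ⟨Over.mk R.π, hR, Groth.Agent.EffDesc25.nonempty_iso_of_rep' R⟩

end Groth.Agent.S5126
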