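import Groth.Statements.S5127
import Groth.Agent.S5125
import Groth.Agent.Lib.EffDesc25.Props
import Groth.Agent.Lib.EffDesc25.Fpqc
import Groth.Agent.Lib.CohenAlg3.Lift
import Mathlib.FieldTheory.IsAlgClosed.AlgebraicClosure

set_option autoImplicit false
universe u
open SGA1

namespace Groth.Agent.S5127

open AlgebraicGeometry CategoryTheory CategoryTheory.Limits in
/-- Let S be locally Noetherian, g : S' ⟶ S universally submersive and of finite presentation, and D a
descent datum relative to g (functor-of-points form, for the one-member family g) whose underlying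
S'-scheme is etale, separated and of finite presentation over S'. Then D is the canonical datum of
some etale S-scheme if and only if, for every complete Noetherian local ring B with algebraically
closed residue field and every morphism q : Spec B ⟶ S, the descent datum induced over Spec B
(relative to S' ×_S Spec B ⟶ Spec B) is the canonical datum of some etale B-scheme. -/
theorem result {S S' : Scheme.{u}} [IsLocallyNoetherian S]
    (g : S' ⟶ S) (hg : SGA1.UnivSubmersive g) [LocallyOfFinitePresentation g] [QuasiCompact g] [QuasiSeparated g]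
    (D : Desc.SchDDFam (fun _ : PUnit.{1} => g)) [Etale (D.obj PUnit.unit).hom]
    [QuasiCompact (D.obj PUnit.unit).hom] [IsSeparated (D.obj PUnit.unit).hom] :
    (∃ U : Over S, Etale U.hom ∧ Nonempty ((Desc.toDDFam (fun _ : PUnit.{1} => g)).obj U ≅ D)) ↔ ∀ (B : Type u) [CommRing B] [IsNoetherianRing B] [IsLocalRing B]
      [IsAdicComplete (IsLocalRing.maximalIdeal B) B] [IsAlgClosed (IsLocalRing.ResidueField B)]
      (q : Spec (CommRingCat.of B) ⟶ S), (∃ U : Over (Spec (CommRingCat.of B)), Etale U.hom ∧
        Nonempty ((Desc.toDDFam (fun _ : PUnit.{1} => pullback.snd g q)).obj U ≅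
          (Desc.pullDDFam (f := fun _ : PUnit.{1} => g) (f' := fun _ : PUnit.{1} => pullback.snd g q)
        (α := id) (p := q) (p' := fun _ => pullback.fst g q) (fun _ => pullback.condition)).obj D)) := by
  constructor
  · rintro ⟨U, hU, ⟨e⟩⟩ B _ _ _ _ _ q
    exact ⟨_, MorphismProperty.pullback_snd _ _ hU, Groth.Agent.EffDesc25.nonempty_iso_baseChange _ U e⟩
  · intro h
    refine (Groth.Agent.S5125.result g hg D).2 fun a => ?_
    let A : Type u := S.presheaf.stalk a
    let K : Type u := AlgebraicClosure (IsLocalRing.ResidueField A)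
    haveI : IsAdicComplete (IsLocalRing.maximalIdeal K) K := by
      rw [IsLocalRing.maximalIdeal_eq_bot]; infer_instance
    obtain ⟨B, _, _, _, _, _, π, hB, hflat, hπ, hker, -⟩ := Groth.Agent.CohenAlg3.exists_lift A K
    haveI := hB
    haveI := hflat
    have hmax : RingHom.ker π = IsLocalRing.maximalIdeal B :=
      IsLocalRing.eq_maximalIdeal (RingHom.ker_isMaximal_of_surjective π hπ)
    haveI : IsAlgClosed (IsLocalRing.ResidueField B) := IsAlgClosed.of_ringEquiv K _
      ((Ideal.quotEquivOfEq hmax.symm).trans (RingHom.quotientKerEquivOfSurjective hπ)).symm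
    haveI : Module.FaithfullyFlat A B := Module.FaithfullyFlat.of_flat_of_isLocalHom
    let c : Spec (CommRingCat.of B) ⟶ Spec (S.presheaf.stalk a) :=
      Spec.map (CommRingCat.ofHom (algebraMap A B))
    obtain ⟨U, hU, ⟨e⟩⟩ := h B (c ≫ S.fromSpecStalk a)
    obtain ⟨hs, hq⟩ := Groth.Agent.EffDesc25.isSeparated_and_quasiCompact hg U e
    haveI : Etale (Groth.Agent.EffDesc25.solOfIso U e).π := hU
    haveI : Flat c := by
      rw [HasRingHomProperty.Spec_iff (P := @Flat)]
      exact RingHom.flat_algebraMap_iff.2 inferInstance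
    haveI : Surjective c := ⟨PrimeSpectrum.comap_surjective_of_faithfullyFlat⟩
    obtain ⟨R, hR, -⟩ := Groth.Agent.EffDesc25.exists_rep_descend c (S.fromSpecStalk a)
      ((Groth.Agent.EffDesc25.solOfIso U e).toRep hg) hU hs hq
    exact ⟨Over.mk R.π, hR, Groth.Agent.EffDesc25.nonempty_iso_of_rep' R⟩

end Groth.Agent.S5127
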