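import Groth.Statements.S5132
-- import your own Groth.Agent.* helpers here

set_option autoImplicit false
open CategoryTheory AlgebraicGeometry
universe u
open SGA1

namespace Groth.Agent.S5132

/-- Quasi-compactness of a morphism descends along a surjective and quasi-compact base change; flatness
of the base change is not needed for this property. -/
theorem result :
    MorphismProperty.DescendsAlong @QuasiCompact (@Surjective ⊓ @QuasiCompact : MorphismProperty Scheme.{u}) := by
  constructor
  intro A X Y Z fst snd f g h ⟨hs, hqc⟩ hfst
  have : QuasiCompact fst := hfst
  refine (quasiCompact_iff g).mpr fun U hU hUc => ?_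
  have hc : IsCompact ((fst ≫ f).base ⁻¹' U) := by
    rw [Scheme.Hom.comp_base, TopCat.coe_comp, Set.preimage_comp]
    exact QuasiCompact.isCompact_preimage _ (hU.preimage f.continuous) (QuasiCompact.isCompact_preimage _ hU hUc)
  have : g.base ⁻¹' U = snd.base '' ((fst ≫ f).base ⁻¹' U) := by
    have hsur : Surjective snd := MorphismProperty.of_isPullback h hs
    rw [h.w, Scheme.Hom.comp_base, TopCat.coe_comp, Set.preimage_comp, Set.image_preimage_eq _ snd.surjective]
  rw [this]
  exact hc.image snd.continuous

end Groth.Agent.S5132
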