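import Groth.Statements.S5133
import Groth.Agent.Lib.GrpdB.Topology
import Mathlib.AlgebraicGeometry.Morphisms.UniversallyOpen

set_option autoImplicit false
open CategoryTheory CategoryTheory.Limits AlgebraicGeometry
universe u
open SGA1

namespace Groth.Agent.S5133

/-- For a quasi-compact morphism f : X ⟶ Y and a flat surjective base change g : Y' ⟶ Y, with no
quasi-compactness asked of g, if the base change of f along g is a homeomorphism onto its image then
f is a homeomorphism onto its image. -/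
theorem result {X Y Y' : Scheme.{u}} (f : X ⟶ Y)
    (g : Y' ⟶ Y) [QuasiCompact f] [Flat g] [Surjective g]
    (h : Topology.IsEmbedding (pullback.snd f g).base) : Topology.IsEmbedding f.base := by
  let π := pullback.fst f g
  let σ := pullback.snd f g
  have hsurj : Function.Surjective π.base := (inferInstance : Surjective π).surj
  have hlift : ∀ (x : X) (y' : Y'), f x = g y' → ∃ p : ↥(pullback f g), π p = x ∧ σ p = y' := fun x y' e =>
    Scheme.Pullback.exists_preimage_pullback x y' e
  have hinj : Function.Injective f.base := by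
    intro x₁ x₂ e
    obtain ⟨y', hy'⟩ := g.surjective (f x₁)
    obtain ⟨p₁, rfl, hp₁⟩ := hlift x₁ y' hy'.symm
    obtain ⟨p₂, rfl, hp₂⟩ := hlift x₂ y' (e ▸ hy'.symm)
    rw [h.injective (show σ.base p₁ = σ.base p₂ from hp₁.trans hp₂.symm)]
  refine ⟨(Topology.isInducing_iff_nhds).2 fun x => ?_, hinj⟩
  refine le_antisymm (Filter.map_le_iff_le_comap.1 f.base.hom.continuous.continuousAt) fun U hU => ?_
  obtain ⟨O, hOU, hO, hxO⟩ := mem_nhds_iff.1 hU
  have hx : f.base x ∉ closure (f.base '' Oᶜ) := by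
    intro hcl
    obtain ⟨z, hz, hzx⟩ := GrpdB.exists_specializes_of_mem_closure_image f hO.isClosed_compl hcl
    obtain ⟨y', hy'⟩ := g.surjective (f x)
    obtain ⟨y₁, hy₁, hy₁'⟩ := Flat.generalizingMap g (show f z ⤳ g y' from hy' ▸ hzx)
    obtain ⟨p₀, hp₀, hp₀'⟩ := hlift x y' hy'.symm
    obtain ⟨p₁, hp₁, hp₁'⟩ := hlift z y₁ hy₁'.symm
    have hp : p₁ ⤳ p₀ := h.isInducing.specializes_iff.1 (show σ p₁ ⤳ σ p₀ by rw [hp₀', hp₁']; exact hy₁)
    have hzx' : z ⤳ x := by
      rw [← hp₀, ← hp₁]
      exact hp.map π.base.hom.continuous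
    exact hz (hzx'.mem_open hO hxO)
  refine Filter.mem_comap.2 ⟨(closure (f.base '' Oᶜ))ᶜ, isClosed_closure.isOpen_compl.mem_nhds hx, fun w hw => hOU ?_⟩
  by_contra hwO
  exact hw (subset_closure ⟨w, hwO, rfl⟩)

end Groth.Agent.S5133
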