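import Groth.Statements.S5135


set_option autoImplicit false
universe u
open scoped TensorProduct
open SGA1

namespace Groth.Agent.S5135

/-- The affine case, in submodule form (descent of submodules, equivalently of quotient modules): for A
⟶ A' faithfully flat, M an A-module and N' an A'-submodule of A' ⊗ M whose two extensions to (A' ⊗
A') ⊗ M, along a ↦ a ⊗ 1 and a ↦ 1 ⊗ a, generate the same submodule, N' is the base change of the
submodule of M formed by the elements m with 1 ⊗ m in N'. -/
theorem result (A A' : Type u) [CommRing A] [CommRing A'] [Algebra A A']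
    [Module.FaithfullyFlat A A'] (M : Type u) [AddCommGroup M] [Module A M] (N' : Submodule A' (A' ⊗[A] M))
    (h : Submodule.span (A' ⊗[A] A')
          ((N'.restrictScalars A).map
            ((Algebra.TensorProduct.includeLeft : A' →ₐ[A] A' ⊗[A] A').toLinearMap.rTensor M) : Set ((A' ⊗[A] A') ⊗[A] M)) =
        Submodule.span (A' ⊗[A] A')
          ((N'.restrictScalars A).map
            ((Algebra.TensorProduct.includeRight : A' →ₐ[A] A' ⊗[A] A').toLinearMap.rTensor M) : Set ((A' ⊗[A] A') ⊗[A] M))) :
    ((N'.restrictScalars A).comap (TensorProduct.mk A A' M 1)).baseChange A' = N' := by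
  classical
  let mkM : M →ₗ[A] A' ⊗[A] M := TensorProduct.mk A A' M 1
  let N : Submodule A M := (N'.restrictScalars A).comap mkM
  refine le_antisymm ?_ ?_
  · rw [Submodule.baseChange_eq_span, Submodule.span_le]
    rintro _ ⟨m, hm, rfl⟩
    exact hm
  intro x hx
  let Q := (A' ⊗[A] M) ⧸ N'
  let f : M →ₗ[A] Q := (N'.mkQ.restrictScalars A).comp mkM
  have hker : LinearMap.ker f = N := by
    ext m
    simp only [LinearMap.mem_ker, f, LinearMap.comp_apply, LinearMap.coe_restrictScalars, Submodule.mkQ_apply,
      N, Submodule.mem_comap, Submodule.restrictScalars_mem]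
    exact Submodule.Quotient.mk_eq_zero N'
  have hmap : (f.lTensor A') x = 0 := by
    let j : A' ⊗[A] (A' ⊗[A] M) →ₗ[A] A' ⊗[A] Q := (N'.mkQ.restrictScalars A).lTensor A'
    let ass : (A' ⊗[A] A') ⊗[A] M ≃ₗ[A] A' ⊗[A] (A' ⊗[A] M) := TensorProduct.assoc A A' A' M
    let Ψ : (A' ⊗[A] A') ⊗[A] M →ₗ[A] A' ⊗[A] Q := j.comp ass.toLinearMap
    have hsmul : ∀ (c : A' ⊗[A] A') (n : A' ⊗[A] M), n ∈ N' →
        Ψ (c • (Algebra.TensorProduct.includeRight : A' →ₐ[A] A' ⊗[A] A').toLinearMap.rTensor M n) = 0 := by
      intro c n hn
      induction c using TensorProduct.induction_on with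
      | zero => rw [zero_smul, map_zero]
      | add c d hc hd => rw [add_smul, map_add, hc, hd, add_zero]
      | tmul a b =>
        have key : ∀ n : A' ⊗[A] M, ass ((a ⊗ₜ[A] b) • (Algebra.TensorProduct.includeRight :
            A' →ₐ[A] A' ⊗[A] A').toLinearMap.rTensor M n) = a ⊗ₜ[A] (b • n) := by
          intro n
          induction n using TensorProduct.induction_on with
          | zero => simp
          | add n n' h1 h2 => rw [map_add, smul_add, map_add, h1, h2, smul_add, TensorProduct.tmul_add]
          | tmul a' m =>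
            simp [ass, TensorProduct.smul_tmul', Algebra.TensorProduct.tmul_mul_tmul]
        show j (ass _) = 0
        rw [key]
        show a ⊗ₜ[A] N'.mkQ (b • n) = 0
        rw [(Submodule.Quotient.mk_eq_zero N').2 (N'.smul_mem b hn) |> fun e => (show N'.mkQ (b • n) = 0 from e),
          TensorProduct.tmul_zero]
    have hspan : ∀ z ∈ Submodule.span (A' ⊗[A] A') ((N'.restrictScalars A).map
        ((Algebra.TensorProduct.includeRight : A' →ₐ[A] A' ⊗[A] A').toLinearMap.rTensor M) : Set ((A' ⊗[A] A') ⊗[A] M)),
        ∀ c : A' ⊗[A] A', Ψ (c • z) = 0 := by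
      intro z hz
      induction hz using Submodule.span_induction with
      | mem z hz =>
        obtain ⟨n, hn, rfl⟩ := hz
        exact fun c => hsmul c n hn
      | zero => intro c; rw [smul_zero, map_zero]
      | add z w _ _ h1 h2 => intro c; rw [smul_add, map_add, h1, h2, add_zero]
      | smul d z _ h1 => intro c; rw [smul_smul]; exact h1 _
    have hl : (Algebra.TensorProduct.includeLeft : A' →ₐ[A] A' ⊗[A] A').toLinearMap.rTensor M x ∈
        Submodule.span (A' ⊗[A] A') ((N'.restrictScalars A).map
          ((Algebra.TensorProduct.includeLeft : A' →ₐ[A] A' ⊗[A] A').toLinearMap.rTensor M) : Set ((A' ⊗[A] A') ⊗[A] M)) :=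
      Submodule.subset_span ⟨x, hx, rfl⟩
    rw [h] at hl
    have h0 := hspan _ hl 1
    rw [one_smul] at h0
    have key : ∀ x : A' ⊗[A] M,
        Ψ ((Algebra.TensorProduct.includeLeft : A' →ₐ[A] A' ⊗[A] A').toLinearMap.rTensor M x) = (f.lTensor A') x := by
      intro x
      induction x using TensorProduct.induction_on with
      | zero => simp
      | add x y h1 h2 => simp only [map_add, h1, h2]
      | tmul a m => simp [Ψ, j, ass, f, mkM]
    rw [← key]
    exact h0
  have hex : Function.Exact (LinearMap.lTensor A' N.subtype) (f.lTensor A') :=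
    Module.Flat.lTensor_exact A' (by rw [LinearMap.exact_iff, Submodule.range_subtype, hker])
  obtain ⟨y, rfl⟩ := (hex x).1 hmap
  clear hx hmap
  induction y using TensorProduct.induction_on with
  | zero => simp
  | add y z hy hz =>
    rw [map_add]
    exact add_mem hy hz
  | tmul a m => exact Submodule.tmul_mem_baseChange_of_mem a m.2

end Groth.Agent.S5135
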