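import Groth.Statements.S5136
import Mathlib.AlgebraicGeometry.Morphisms.SchemeTheoreticallyDominant

set_option autoImplicit false
open CategoryTheory CategoryTheory.Limits AlgebraicGeometry
universe u
open SGA1

namespace Groth.Agent.S5136

theorem isSchemeTheoreticallyDominant_toImage {X Y : Scheme.{u}} (f : X ⟶ Y) [QuasiCompact f] :
    IsSchemeTheoreticallyDominant f.toImage := by
  refine ⟨Scheme.IdealSheafData.ext_of_iSup_eq_top (fun U : Y.affineOpens => ⟨f.imageι ⁻¹ᵁ U, U.2.preimage f.imageι⟩) ?_ ?_⟩
  · rw [← Scheme.Hom.preimage_iSup, iSup_affineOpens_eq_top, Scheme.Hom.preimage_top]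
  · intro U
    rw [Scheme.Hom.ker_apply, Scheme.IdealSheafData.ideal_bot, Pi.bot_apply, ← RingHom.injective_iff_ker_eq_bot]
    exact f.toImage_app_injective U

/-- The existence half of the exactness of H(S) ⟶ H(S') ⇉ H(S'') for closed subschemes: for g : S' ⟶ S
flat, surjective and quasi-compact, a quasi-coherent ideal sheaf on S' whose pullbacks along the two
projections of S' ×_S S' agree is the pullback of a quasi-coherent ideal sheaf on S. (Injectivity of
the pullback of ideal sheaves along g is the other half.) -/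
theorem result {S S' : Scheme.{u}} (g : S' ⟶ S) [Flat g] [Surjective g]
    [QuasiCompact g] (J' : S'.IdealSheafData)
    (h : J'.comap (pullback.fst g g) = J'.comap (pullback.snd g g)) :
    ∃ J : S.IdealSheafData, J.comap g = J' := by
  let ι := J'.subschemeι
  haveI : QuasiCompact (ι ≫ g) := inferInstance
  let I := (ι ≫ g).ker
  refine ⟨I, ?_⟩
  haveI := isSchemeTheoreticallyDominant_toImage (ι ≫ g)
  let i := (ι ≫ g).imageι
  let k := (ι ≫ g).toImage
  have h1 : I.comap g = (pullback.snd (ι ≫ g) g).ker := by
    have hci : (pullback.snd i g).ker = I.comap g := by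
      rw [← Scheme.Hom.ker_comp_of_isIso (pullbackSymmetry g i).hom, pullbackSymmetry_hom_comp_snd,
        Scheme.IdealSheafData.ker_fst_of_isClosedImmersion]
      congr 1
      exact Scheme.IdealSheafData.ker_subschemeι _
    let e : pullback k (pullback.fst i g) ≅ pullback (ι ≫ g) g :=
      pullbackRightPullbackFstIso i g k ≪≫ pullback.congrHom (ι ≫ g).toImage_imageι rfl
    have he : e.hom ≫ pullback.snd (ι ≫ g) g = pullback.snd k (pullback.fst i g) ≫ pullback.snd i g := by
      simp only [e, Iso.trans_hom, pullback.congrHom_hom, Category.assoc]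
      erw [pullback.lift_snd, Category.comp_id, pullbackRightPullbackFstIso_hom_snd]
    rw [← Scheme.Hom.ker_comp_of_isIso e.hom, he, Scheme.Hom.ker_comp, Scheme.Hom.ker_eq_bot,
      Scheme.IdealSheafData.map_bot, hci]
  have h2 : (pullback.snd (ι ≫ g) g).ker = (J'.comap (pullback.fst g g)).map (pullback.snd g g) := by
    let e : pullback (pullback.fst g g) ι ≅ pullback (ι ≫ g) g :=
      pullbackSymmetry _ _ ≪≫ pullbackRightPullbackFstIso g g ι
    have he : e.hom ≫ pullback.snd (ι ≫ g) g = pullback.fst (pullback.fst g g) ι ≫ pullback.snd g g := by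
      simp [e]
    rw [← Scheme.Hom.ker_comp_of_isIso e.hom, he]
    exact Scheme.Hom.ker_comp _ _
  have h3 : (J'.comap (pullback.snd g g)).map (pullback.snd g g) = J' := by
    let π := pullback.snd (pullback.snd g g) ι
    let l : J'.subscheme ⟶ pullback (pullback.snd g g) ι :=
      pullback.lift (ι ≫ pullback.diagonal g) (𝟙 _) (by rw [Category.assoc, pullback.diagonal_snd]; simp)
    have hl : l ≫ π = 𝟙 _ := pullback.lift_snd _ _ _
    have hπ : π.ker = ⊥ := le_bot_iff.1 ((Scheme.Hom.le_ker_comp l π).trans
      (by rw [hl, Scheme.Hom.ker_eq_bot_of_isIso]))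
    show (pullback.fst (pullback.snd g g) ι).ker.map (pullback.snd g g) = J'
    rw [Scheme.IdealSheafData.map_ker, pullback.condition, Scheme.Hom.ker_comp, hπ,
      Scheme.IdealSheafData.map_bot, Scheme.IdealSheafData.ker_subschemeι]
  rw [h1, h2, h, h3]

end Groth.Agent.S5136
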