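import Groth.Statements.S5138
import Groth.Agent.Lib.AlgSpDescent.SchemeSource

set_option autoImplicit false
open CategoryTheory AlgebraicGeometry
universe u
open SGA1

namespace Groth.Agent.S5138

/-- For X ⟶ X' ⟶ Y locally of finite type over a locally Noetherian Y and a point x of X, if X ⟶ X' and
the composite X ⟶ Y are both etale near x then X' ⟶ Y is etale near the image of x; 'etale near a
point' is membership in the etale locus, the union of the opens on which the morphism is etale. (The
published statement takes the morphisms of finite type; quasi-compactness plays no role in this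
assertion about single points, so only local finiteness is assumed.) -/
theorem result {X X' Y : Scheme.{u}} (f : X ⟶ X') (g : X' ⟶ Y)
    [IsLocallyNoetherian Y] [LocallyOfFiniteType f] [LocallyOfFiniteType g] (x : X)
    (hf : x ∈ Pi1X.etaleLocus f) (hfg : x ∈ Pi1X.etaleLocus (f ≫ g)) : f.base x ∈ Pi1X.etaleLocus g := by
  simp only [Pi1X.etaleLocus, TopologicalSpace.Opens.mem_sSup, Set.mem_setOf_eq] at hf hfg ⊢
  obtain ⟨U₁, hU₁, hx₁⟩ := hf
  obtain ⟨U₂, hU₂, hx₂⟩ := hfg
  let U : X.Opens := U₁ ⊓ U₂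
  haveI h1 : Etale (U.ι ≫ f) := by
    rw [← X.homOfLE_ι (inf_le_left : U ≤ U₁), Category.assoc]; infer_instance
  haveI h2 : Etale (U.ι ≫ f ≫ g) := by
    rw [← X.homOfLE_ι (inf_le_right : U ≤ U₂), Category.assoc]; infer_instance
  let V : X'.Opens := ⟨Set.range (U.ι ≫ f), (U.ι ≫ f).isOpenMap.isOpen_range⟩
  refine ⟨V, ?_, ⟨⟨x, hx₁, hx₂⟩, rfl⟩⟩
  let a := IsOpenImmersion.lift V.ι (U.ι ≫ f) (by rw [Scheme.Opens.range_ι]; exact subset_rfl)
  have ha : a ≫ V.ι = U.ι ≫ f := IsOpenImmersion.lift_fac _ _ _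
  haveI : Etale (a ≫ V.ι) := by rw [ha]; exact h1
  have he : Etale a := Etale.of_comp a V.ι
  have hs : Surjective a := ⟨fun v => by
    obtain ⟨w, hw⟩ := v.2
    refine ⟨w, Subtype.ext ?_⟩
    rw [← hw, ← ha, Scheme.Hom.comp_apply]
    rfl⟩
  refine AlgSpDescent.descendsEtaleSource_etale a (V.ι ≫ g) he hs ?_
  rw [← Category.assoc, ha, Category.assoc]
  exact h2
end Groth.Agent.S5138
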