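import Groth.Statements.S5142
import Groth.Agent.Lib.FC16.Fp

set_option autoImplicit false
open CategoryTheory
universe u v u₂ v₂
open FibCat

namespace Groth.Agent.S5142
open CategoryTheory.Functor Groth.Agent.FC16
set_option linter.style.haveILetI false
set_option linter.unusedVariables false
set_option backward.isDefEq.respectTransparency false
set_option backward.isDefEq.respectTransparency.types false


/-- A morphism of the fibre product 𝒳 ×_C 𝒴 of two categories over C is cartesian if and only if its two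
components are cartesian (each over its image in C). The fibre product is taken as the 2-fibre
product over C of the two structure functors, whose objects are pairs over one object of C together
with an isomorphism of C lying over an identity. -/
theorem result {C : Type u} [Category.{v} C] {𝒳 𝒴 : BasedCategory.{v₂, u₂} C}
    {x y : (FibCat.fp (FibCat.toSelf 𝒳) (FibCat.toSelf 𝒴)).obj} (φ : x ⟶ y) :
    (FibCat.fp (FibCat.toSelf 𝒳) (FibCat.toSelf 𝒴)).p.IsCartesian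
        ((FibCat.fp (FibCat.toSelf 𝒳) (FibCat.toSelf 𝒴)).p.map φ) φ ↔
      𝒳.p.IsCartesian (𝒳.p.map φ.hom.fst) φ.hom.fst ∧ 𝒴.p.IsCartesian (𝒴.p.map φ.hom.snd) φ.hom.snd := by
  have hf : ∀ {a b : (FibCat.fp (FibCat.toSelf 𝒳) (FibCat.toSelf 𝒴)).obj} {R S : C} (f : R ⟶ S)
      (α : a.obj.fst ⟶ b.obj.fst) (β : a.obj.snd ⟶ b.obj.snd), 𝒳.p.IsHomLift f α → 𝒴.p.IsHomLift f β →
      (FibCat.toSelf 𝒳).map α ≫ b.obj.iso.hom = a.obj.iso.hom ≫ (FibCat.toSelf 𝒴).map β := by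
    intro a b R S f α β h1 h2
    haveI := h1; haveI := h2
    haveI := iso_lift a (U := R) (IsHomLift.domain_eq 𝒳.p f α)
    haveI := iso_lift b (U := S) (IsHomLift.codomain_eq 𝒳.p f α)
    exact selfOver_hom_ext f _ _
  let f := (FibCat.fp (FibCat.toSelf 𝒳) (FibCat.toSelf 𝒴)).p.map φ
  haveI hφ1 : 𝒳.p.IsHomLift f φ.hom.fst := isHomLift_fst f φ
  haveI hφ2 : 𝒴.p.IsHomLift f φ.hom.snd := isHomLift_snd f φ
  constructor
  · intro h
    refine ⟨{ universal_property := fun {z} ψ hψ => ?_ }, ?_⟩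
    · haveI := hψ
      have hz : 𝒳.p.obj z = (FibCat.fp (FibCat.toSelf 𝒳) (FibCat.toSelf 𝒴)).p.obj x :=
        IsHomLift.domain_eq 𝒳.p (𝒳.p.map φ.hom.fst) ψ
      let T : (FibCat.fp (FibCat.toSelf 𝒳) (FibCat.toSelf 𝒴)).obj :=
        fpObj z x.obj.snd (eqToIso (hz.trans (snd_p x).symm)) hz
          (IsHomLift.eqToHom_domain_lift_id (p := 𝟭 C) (hz.trans (snd_p x).symm) hz)
      let ω : T ⟶ y := fpHom ψ φ.hom.snd (hf (a := T) (b := y) f ψ φ.hom.snd hψ hφ2)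
      haveI : (FibCat.fp (FibCat.toSelf 𝒳) (FibCat.toSelf 𝒴)).p.IsHomLift f ω :=
        @isHomLift_of_fst _ _ _ _ _ _ _ _ _ _ _ f ω hψ
      let χ := IsCartesian.map (FibCat.fp (FibCat.toSelf 𝒳) (FibCat.toSelf 𝒴)).p f φ ω
      refine ⟨χ.hom.fst, ⟨isHomLift_fst (𝟙 _) χ,
        congrArg (fun t => t.hom.fst) (IsCartesian.fac (FibCat.fp (FibCat.toSelf 𝒳) (FibCat.toSelf 𝒴)).p f φ ω)⟩, fun τ hτ => ?_⟩
      obtain ⟨hτ1, hτ2⟩ := hτ
      let τ' : T ⟶ x := fpHom τ (𝟙 _) (hf (a := T) (b := x) (𝟙 ((FibCat.fp (FibCat.toSelf 𝒳) (FibCat.toSelf 𝒴)).p.obj x)) τ (𝟙 _) hτ1 (IsHomLift.id (snd_p x)))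
      haveI : (FibCat.fp (FibCat.toSelf 𝒳) (FibCat.toSelf 𝒴)).p.IsHomLift (𝟙 ((FibCat.fp (FibCat.toSelf 𝒳) (FibCat.toSelf 𝒴)).p.obj x)) τ' :=
        @isHomLift_of_fst _ _ _ _ _ _ _ _ _ _ _ (𝟙 ((FibCat.fp (FibCat.toSelf 𝒳) (FibCat.toSelf 𝒴)).p.obj x)) τ' hτ1
      exact congrArg (fun t => t.hom.fst)
        (IsCartesian.map_uniq (FibCat.fp (FibCat.toSelf 𝒳) (FibCat.toSelf 𝒴)).p f φ ω τ' (fp_hom_ext hτ2 (Category.id_comp _)))
    · have hR : 𝒳.p.obj x.obj.fst = 𝒴.p.obj x.obj.snd := (snd_p x).symm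
      let g := 𝒴.p.map φ.hom.snd
      refine { universal_property := fun {z} ψ hψ => ?_ }
      haveI := hψ
      have hz : 𝒴.p.obj z = (FibCat.fp (FibCat.toSelf 𝒳) (FibCat.toSelf 𝒴)).p.obj x :=
        (IsHomLift.domain_eq 𝒴.p g ψ).trans (snd_p x)
      haveI hψ' : 𝒴.p.IsHomLift f ψ := by
        have e1 := IsHomLift.fac 𝒴.p f φ.hom.snd
        rw [e1]
        haveI : 𝒴.p.IsHomLift g ψ := hψ
        exact inferInstanceAs (𝒴.p.IsHomLift (eqToHom _ ≫ g ≫ eqToHom _) ψ)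
      let T : (FibCat.fp (FibCat.toSelf 𝒳) (FibCat.toSelf 𝒴)).obj :=
        fpObj x.obj.fst z (eqToIso hz.symm) rfl
          (IsHomLift.eqToHom_domain_lift_id (p := 𝟭 C) hz.symm rfl)
      let ω : T ⟶ y := fpHom φ.hom.fst ψ (hf (a := T) (b := y) f φ.hom.fst ψ hφ1 hψ')
      haveI : (FibCat.fp (FibCat.toSelf 𝒳) (FibCat.toSelf 𝒴)).p.IsHomLift f ω :=
        @isHomLift_of_fst _ _ _ _ _ _ _ _ _ _ _ f ω hφ1
      let χ := IsCartesian.map (FibCat.fp (FibCat.toSelf 𝒳) (FibCat.toSelf 𝒴)).p f φ ω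
      have hχ : 𝒴.p.IsHomLift (𝟙 (𝒴.p.obj x.obj.snd)) χ.hom.snd := by
        have h0 := isHomLift_snd (𝟙 ((FibCat.fp (FibCat.toSelf 𝒳) (FibCat.toSelf 𝒴)).p.obj x)) χ
        rw [← snd_p x] at h0
        exact h0
      refine ⟨χ.hom.snd, ⟨hχ, congrArg (fun t => t.hom.snd) (IsCartesian.fac (FibCat.fp (FibCat.toSelf 𝒳) (FibCat.toSelf 𝒴)).p f φ ω)⟩, fun τ hτ => ?_⟩
      obtain ⟨hτ1, hτ2⟩ := hτ
      have hτ1' : 𝒴.p.IsHomLift (𝟙 ((FibCat.fp (FibCat.toSelf 𝒳) (FibCat.toSelf 𝒴)).p.obj x)) τ := by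
        rw [← snd_p x]; exact hτ1
      let τ' : T ⟶ x := fpHom (𝟙 _) τ (hf (a := T) (b := x) (𝟙 ((FibCat.fp (FibCat.toSelf 𝒳) (FibCat.toSelf 𝒴)).p.obj x)) (𝟙 _) τ (IsHomLift.id rfl) hτ1')
      haveI : (FibCat.fp (FibCat.toSelf 𝒳) (FibCat.toSelf 𝒴)).p.IsHomLift (𝟙 ((FibCat.fp (FibCat.toSelf 𝒳) (FibCat.toSelf 𝒴)).p.obj x)) τ' :=
        @isHomLift_of_snd _ _ _ _ _ _ _ _ _ _ _ (𝟙 ((FibCat.fp (FibCat.toSelf 𝒳) (FibCat.toSelf 𝒴)).p.obj x)) τ' hτ1'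
      exact congrArg (fun t => t.hom.snd)
        (IsCartesian.map_uniq (FibCat.fp (FibCat.toSelf 𝒳) (FibCat.toSelf 𝒴)).p f φ ω τ' (fp_hom_ext (Category.id_comp _) hτ2))
  · rintro ⟨h1, h2⟩
    haveI := h1; haveI := h2
    haveI : 𝒳.p.IsCartesian f φ.hom.fst := h1
    haveI h2' : 𝒴.p.IsCartesian f φ.hom.snd := by
      have e := IsHomLift.fac' 𝒴.p f φ.hom.snd
      refine { universal_property := fun {z} ψ hψ => ?_ }
      haveI := hψ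
      haveI : 𝒴.p.IsHomLift (𝒴.p.map φ.hom.snd) ψ := by
        rw [e]
        exact inferInstanceAs (𝒴.p.IsHomLift (eqToHom _ ≫ f ≫ eqToHom _) ψ)
      obtain ⟨χ, ⟨hc, hc'⟩, hu⟩ :=
        IsCartesian.universal_property (p := 𝒴.p) (f := 𝒴.p.map φ.hom.snd) (φ := φ.hom.snd) ψ
      rw [snd_p x] at hc
      refine ⟨χ, ⟨hc, hc'⟩, fun τ ⟨t1, t2⟩ => hu τ ⟨?_, t2⟩⟩
      rw [snd_p x]; exact t1
    refine { universal_property := fun {z} ψ hψ => ?_ }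
    haveI := hψ
    haveI := isHomLift_fst f ψ
    haveI := isHomLift_snd f ψ
    let a := IsCartesian.map 𝒳.p f φ.hom.fst ψ.hom.fst
    let b := IsCartesian.map 𝒴.p f φ.hom.snd ψ.hom.snd
    refine ⟨fpHom a b (hf (a := z) (b := x) (𝟙 ((FibCat.fp (FibCat.toSelf 𝒳) (FibCat.toSelf 𝒴)).p.obj x)) a b (IsCartesian.map_isHomLift 𝒳.p f φ.hom.fst ψ.hom.fst) (IsCartesian.map_isHomLift 𝒴.p f φ.hom.snd ψ.hom.snd)),
      ⟨@isHomLift_of_fst _ _ _ _ _ _ _ _ _ _ _ _ _ (IsCartesian.map_isHomLift 𝒳.p f φ.hom.fst ψ.hom.fst),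
        fp_hom_ext (IsCartesian.fac 𝒳.p f φ.hom.fst ψ.hom.fst) (IsCartesian.fac 𝒴.p f φ.hom.snd ψ.hom.snd)⟩, fun τ hτ => ?_⟩
    obtain ⟨t1, t2⟩ := hτ
    haveI := t1
    haveI := isHomLift_fst (𝟙 ((FibCat.fp (FibCat.toSelf 𝒳) (FibCat.toSelf 𝒴)).p.obj x)) τ
    haveI := isHomLift_snd (𝟙 ((FibCat.fp (FibCat.toSelf 𝒳) (FibCat.toSelf 𝒴)).p.obj x)) τ
    exact fp_hom_ext (IsCartesian.map_uniq 𝒳.p f φ.hom.fst ψ.hom.fst τ.hom.fst (congrArg (fun t => t.hom.fst) t2))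
      (IsCartesian.map_uniq 𝒴.p f φ.hom.snd ψ.hom.snd τ.hom.snd (congrArg (fun t => t.hom.snd) t2))

end Groth.Agent.S5142
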