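import Groth.Statements.S5143
import Groth.Agent.Lib.FC16.Fp

set_option autoImplicit false
open CategoryTheory
universe u v u₂ v₂
open FibCat

namespace Groth.Agent.S5143
open CategoryTheory.Functor Groth.Agent.FC16
set_option linter.style.haveILetI false
set_option linter.unusedVariables false
set_option backward.isDefEq.respectTransparency false
set_option backward.isDefEq.respectTransparency.types false


/-- The fibre product over C of two fibred (resp. prefibred) categories over C is fibred (resp.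
prefibred); fibred and prefibred are Mathlib's notions for the structure functors, and the fibre
product is the 2-fibre product over C of the two structure functors. -/
theorem result {C : Type u} [Category.{v} C] {𝒳 𝒴 : BasedCategory.{v₂, u₂} C} :
    (𝒳.p.IsFibered → 𝒴.p.IsFibered → (FibCat.fp (FibCat.toSelf 𝒳) (FibCat.toSelf 𝒴)).p.IsFibered) ∧
      (𝒳.p.IsPreFibered → 𝒴.p.IsPreFibered → (FibCat.fp (FibCat.toSelf 𝒳) (FibCat.toSelf 𝒴)).p.IsPreFibered) := by
  constructor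
  · intro _ _
    exact fp_isFibered (presCart_of_isFibGrpd selfOver_isFibGrpd _) (presCart_of_isFibGrpd selfOver_isFibGrpd _)
  · intro _ _
    refine ⟨fun {y R} f => ?_⟩
    obtain ⟨a', a, ha⟩ := IsPreFibered.exists_isCartesian 𝒳.p (fst_p y) f
    obtain ⟨b', b, hb⟩ := IsPreFibered.exists_isCartesian 𝒴.p (snd_p y) f
    have hA : 𝒳.p.obj a' = R := IsHomLift.domain_eq 𝒳.p f a
    have hB : 𝒴.p.obj b' = R := IsHomLift.domain_eq 𝒴.p f b
    have hf : ∀ {a b : (FibCat.fp (FibCat.toSelf 𝒳) (FibCat.toSelf 𝒴)).obj} {R S : C} (f : R ⟶ S)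
      (α : a.obj.fst ⟶ b.obj.fst) (β : a.obj.snd ⟶ b.obj.snd), 𝒳.p.IsHomLift f α → 𝒴.p.IsHomLift f β →
      (FibCat.toSelf 𝒳).map α ≫ b.obj.iso.hom = a.obj.iso.hom ≫ (FibCat.toSelf 𝒴).map β := by
        intro a b R S f α β h1 h2
        haveI := h1; haveI := h2
        haveI := iso_lift a (U := R) (IsHomLift.domain_eq 𝒳.p f α)
        haveI := iso_lift b (U := S) (IsHomLift.codomain_eq 𝒳.p f α)
        exact selfOver_hom_ext f _ _
    let T : (FibCat.fp (FibCat.toSelf 𝒳) (FibCat.toSelf 𝒴)).obj :=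
      fpObj a' b' (eqToIso (hA.trans hB.symm)) hA
        (IsHomLift.eqToHom_domain_lift_id (p := 𝟭 C) (hA.trans hB.symm) hA)
    let ω : T ⟶ y := fpHom a b (hf (a := T) (b := y) f a b ha.toIsHomLift hb.toIsHomLift)
    refine ⟨T, ω, ?_⟩
    haveI : (FibCat.fp (FibCat.toSelf 𝒳) (FibCat.toSelf 𝒴)).p.IsHomLift f ω :=
      @isHomLift_of_fst _ _ _ _ _ _ _ _ _ _ _ f ω ha.toIsHomLift
    refine { universal_property := fun {z} ψ hψ => ?_ }
    haveI := hψ; haveI := ha; haveI := hb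
    haveI := isHomLift_fst f ψ
    haveI := isHomLift_snd f ψ
    let c := IsCartesian.map 𝒳.p f a ψ.hom.fst
    let d := IsCartesian.map 𝒴.p f b ψ.hom.snd
    have hc : 𝒳.p.IsHomLift (𝟙 R) c := IsCartesian.map_isHomLift 𝒳.p f a ψ.hom.fst
    refine ⟨fpHom c d (hf (a := z) (b := T) (𝟙 R) c d hc (IsCartesian.map_isHomLift 𝒴.p f b ψ.hom.snd)),
      ⟨@isHomLift_of_fst _ _ _ _ _ _ _ _ _ _ _ _ _ hc,
        fp_hom_ext (IsCartesian.fac 𝒳.p f a ψ.hom.fst) (IsCartesian.fac 𝒴.p f b ψ.hom.snd)⟩,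
      fun τ hτ => ?_⟩
    obtain ⟨t1, t2⟩ := hτ
    haveI := t1
    haveI : 𝒳.p.IsHomLift (𝟙 R) τ.hom.fst := isHomLift_fst (𝟙 R) τ
    haveI : 𝒴.p.IsHomLift (𝟙 R) τ.hom.snd := isHomLift_snd (𝟙 R) τ
    exact fp_hom_ext (IsCartesian.map_uniq 𝒳.p f a ψ.hom.fst τ.hom.fst (congrArg (fun t => t.hom.fst) t2))
      (IsCartesian.map_uniq 𝒴.p f b ψ.hom.snd τ.hom.snd (congrArg (fun t => t.hom.snd) t2))

end Groth.Agent.S5143
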