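import Groth.Statements.S5144
import Groth.Agent.Lib.FC16.Basic

set_option autoImplicit false
open CategoryTheory
universe u v u₂ v₂
open FibCat

namespace Groth.Agent.S5144
open CategoryTheory.Functor Groth.Agent.FC16 Opposite
set_option linter.style.haveILetI false
set_option linter.unusedVariables false
set_option backward.isDefEq.respectTransparency false
set_option backward.isDefEq.respectTransparency.types false

universe w₁ w₂ w₃ w₄

lemma lift_op {A : Type w₁} [Category.{w₂} A] {X : Type w₃} [Category.{w₄} X] {p : X ⥤ A} {R S : A}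
    (f : R ⟶ S) {a b : X} (φ : a ⟶ b) (h : p.IsHomLift f φ) : p.op.IsHomLift f.op φ.op := by
  cases h
  exact CategoryTheory.IsHomLift.map p.op φ.op

lemma lift_unop {A : Type w₁} [Category.{w₂} A] {X : Type w₃} [Category.{w₄} X] {p : X ⥤ A} {R S : Aᵒᵖ}
    (f : R ⟶ S) {a b : Xᵒᵖ} (φ : a ⟶ b) (h : p.op.IsHomLift f φ) : p.IsHomLift f.unop φ.unop := by
  cases h
  exact CategoryTheory.IsHomLift.map p φ.unop


/-- If p : 𝒳 ⥤ C is both prefibred and co-prefibred (its opposite functor is prefibred), then p is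
fibred if and only if it is co-fibred (its opposite functor is fibred). Prefibred and fibred are
Mathlib's notions, which are the source's. -/
theorem result {C : Type u} [Category.{v} C] {𝒳 : Type u₂} [Category.{v₂} 𝒳]
    (p : 𝒳 ⥤ C) [p.IsPreFibered] [p.op.IsPreFibered] : p.IsFibered ↔ p.op.IsFibered := by
  constructor
  · intro _
    refine IsFibered.of_exists_isStronglyCartesian fun a R f => ?_
    obtain ⟨b, ψ, hψ⟩ := IsPreFibered.exists_isCartesian p.op (rfl : p.op.obj a = _) f
    haveI := hψ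
    refine ⟨b, ψ, { universal_property' := fun {z} g φ hφ => ?_ }⟩
    have hψ' : p.IsHomLift f.unop ψ.unop := lift_unop f ψ hψ.toIsHomLift
    have hφ' : p.IsHomLift (f.unop ≫ g.unop) φ.unop := lift_unop (g ≫ f) φ hφ
    obtain ⟨D, l, hl⟩ := exists_isStronglyCartesian (p := p) (rfl : p.obj z.unop = _) g.unop
    haveI := hl; haveI := hφ'
    let μ := IsStronglyCartesian.map p g.unop l (g := f.unop) (f' := f.unop ≫ g.unop) rfl φ.unop
    have fμ : μ ≫ l = φ.unop :=
      IsStronglyCartesian.fac p g.unop l (rfl : f.unop ≫ g.unop = f.unop ≫ g.unop) φ.unop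
    haveI hμ : p.op.IsHomLift f μ.op := lift_op f.unop μ inferInstance
    let χ := IsCartesian.map p.op f ψ μ.op
    have fχ : χ ≫ ψ = μ.op := IsCartesian.fac ..
    haveI hl' : p.op.IsHomLift g l.op := lift_op g.unop l hl.toIsHomLift
    refine ⟨l.op ≫ χ, ⟨?_, ?_⟩, fun τ hτ => ?_⟩
    · have : p.op.IsHomLift (g ≫ 𝟙 R) (l.op ≫ χ) := inferInstance
      simpa using this
    · rw [Category.assoc, fχ, ← op_comp, fμ, Quiver.Hom.op_unop]
    · obtain ⟨h1, h2⟩ := hτ
      haveI ht : p.IsHomLift g.unop τ.unop := lift_unop g τ h1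
      let σ := IsCartesian.map p g.unop l τ.unop
      have fσ : σ ≫ l = τ.unop := IsCartesian.fac ..
      haveI : p.IsHomLift (𝟙 R.unop) σ := IsCartesian.map_isHomLift ..
      haveI : p.op.IsHomLift (𝟙 R) σ.op := lift_op (𝟙 R.unop) σ inferInstance
      haveI := hψ'
      have e : ψ.unop ≫ σ = μ := by
        apply IsStronglyCartesian.ext p g.unop l f.unop
        rw [Category.assoc, fσ, fμ, ← h2]
        rfl
      have e2 : σ.op = χ := IsCartesian.map_uniq p.op f ψ μ.op σ.op (by
        rw [← e, op_comp, Quiver.Hom.op_unop])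
      rw [← e2, ← op_comp, fσ, Quiver.Hom.op_unop]
  · intro _
    refine IsFibered.of_exists_isStronglyCartesian fun a R f => ?_
    obtain ⟨b, ψ, hψ⟩ := IsPreFibered.exists_isCartesian p (rfl : p.obj a = _) f
    haveI := hψ
    refine ⟨b, ψ, { universal_property' := fun {z} g φ hφ => ?_ }⟩
    have hψ' : p.op.IsHomLift f.op ψ.op := lift_op f ψ hψ.toIsHomLift
    have hφ' : p.op.IsHomLift (f.op ≫ g.op) φ.op := lift_op (g ≫ f) φ hφ
    obtain ⟨D, l, hl⟩ := exists_isStronglyCartesian (p := p.op) (rfl : p.op.obj (op z) = _) g.op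
    haveI := hl; haveI := hφ'
    let μ := IsStronglyCartesian.map p.op g.op l (g := f.op) (f' := f.op ≫ g.op) rfl φ.op
    have fμ : μ ≫ l = φ.op :=
      IsStronglyCartesian.fac p.op g.op l (rfl : f.op ≫ g.op = f.op ≫ g.op) φ.op
    haveI hμ : p.IsHomLift f μ.unop := lift_unop f.op μ inferInstance
    let χ := IsCartesian.map p f ψ μ.unop
    have fχ : χ ≫ ψ = μ.unop := IsCartesian.fac ..
    haveI hl' : p.IsHomLift g l.unop := lift_unop g.op l hl.toIsHomLift
    refine ⟨l.unop ≫ χ, ⟨?_, ?_⟩, fun τ hτ => ?_⟩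
    · have : p.IsHomLift (g ≫ 𝟙 R) (l.unop ≫ χ) := inferInstance
      simpa using this
    · rw [Category.assoc, fχ, ← unop_comp, fμ, Quiver.Hom.unop_op]
    · obtain ⟨h1, h2⟩ := hτ
      haveI ht : p.op.IsHomLift g.op τ.op := lift_op g τ h1
      let σ := IsCartesian.map p.op g.op l τ.op
      have fσ : σ ≫ l = τ.op := IsCartesian.fac ..
      haveI : p.op.IsHomLift (𝟙 (op R)) σ := IsCartesian.map_isHomLift ..
      haveI : p.IsHomLift (𝟙 R) σ.unop := lift_unop (𝟙 (op R)) σ inferInstance
      haveI := hψ'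
      have e : ψ.op ≫ σ = μ := by
        apply IsStronglyCartesian.ext p.op g.op l f.op
        rw [Category.assoc, fσ, fμ, ← op_comp, h2]
      have e2 : σ.unop = χ := IsCartesian.map_uniq p f ψ μ.unop σ.unop (by
        rw [← e, unop_comp, Quiver.Hom.unop_op])
      rw [← e2, ← unop_comp, fσ, Quiver.Hom.unop_op]

end Groth.Agent.S5144
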