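import Groth.Statements.S5151
import Groth.Agent.Lib.Depth.More
-- import your own Groth.Agent.* helpers here

set_option autoImplicit false
universe u
open LocCoh

namespace Groth.Agent.S5151

/-- Let A be a Noetherian ring, I an ideal and M a finite A-module with IM ≠ M. Every weakly M-regular
sequence of elements of I can be extended to a maximal one (one after which no element of I is
M-regular on the quotient), and any maximal weakly M-regular sequence of elements of I has length
equal to the I-depth of M. (The published statement does not assume IM ≠ M; without it the first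
assertion fails: over ℤ with I = (2) and M = ℤ/3 the element 2 is M-regular with M/2M = 0, after
which every element of I is regular on the zero module, so no weakly M-regular sequence of elements
of I is maximal, while the I-depth is infinite. With IM ≠ M every weakly M-regular sequence in I is
M-regular and the I-depth is finite.) -/
theorem result (A : Type u) [CommRing A] [IsNoetherianRing A] (I : Ideal A) (M : Type u) [AddCommGroup M] [Module A M] [Module.Finite A M] (hIM : I • (⊤ : Submodule A M) ≠ ⊤) : (∀ rs : List A, RingTheory.Sequence.IsWeaklyRegular M rs → (∀ r ∈ rs, r ∈ I) → ∃ rs' : List A, rs <+: rs' ∧ RingTheory.Sequence.IsWeaklyRegular M rs' ∧ (∀ r ∈ rs', r ∈ I) ∧ ∀ r ∈ I, ¬ RingTheory.Sequence.IsWeaklyRegular M (rs' ++ [r])) ∧ (∀ rs : List A, RingTheory.Sequence.IsWeaklyRegular M rs → (∀ r ∈ rs, r ∈ I) → (∀ r ∈ I, ¬ RingTheory.Sequence.IsWeaklyRegular M (rs ++ [r])) → (rs.length : ℕ∞) = LocCoh.idealDepth I M) := by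
  exact ⟨fun rs h hI => Groth.Agent.DepthLib.exists_maximal_extension hIM h hI,
    fun rs h hI hmax => Groth.Agent.DepthLib.length_eq_idealDepth_of_maximal h hI hIM hmax⟩

end Groth.Agent.S5151
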