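import Groth.Statements.S5153
import Groth.Agent.Lib.LocCoh.HartComp27
-- import your own Groth.Agent.* helpers here

set_option autoImplicit false
universe u
open AlgebraicGeometry
open LocCoh

namespace Groth.Agent.S5153

/-- Let X be a locally Noetherian scheme and Y = X − U a closed subset such that depth O_{X,x} ≥ 2 for
every x ∈ Y. Then the inclusion U → X induces a bijection on sets of connected components. -/
theorem result (X : Scheme.{u}) [IsLocallyNoetherian X] (U : X.Opens) (h : ∀ x : X, x ∉ (U : Set X) → (2 : ℕ∞) ≤ LocCoh.depth (X.presheaf.stalk x) (X.presheaf.stalk x)) : Function.Bijective (Continuous.connectedComponentsMap (continuous_subtype_val : Continuous (fun x : U => (x : X)))) := by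
  exact Groth.Agent.LocCohLib.connectedComponentsMap_bijective U h

end Groth.Agent.S5153
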