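import Groth.Statements.S5154
import Groth.Agent.Lib.LocCoh.EquidimS2_27
-- import your own Groth.Agent.* helpers here

set_option autoImplicit false
universe u
open LocCoh

namespace Groth.Agent.S5154

/-- Let A be a Noetherian local ring which is catenary and such that depth A_p ≥ 2 for every prime p
with dim A_p ≥ 2. Then all irreducible components of Spec A have dimension dim A: for every minimal
prime p, dim A/p = dim A. -/
theorem result (A : Type u) [CommRing A] [IsLocalRing A] [IsNoetherianRing A] (hc : CAlg.IsCatenary A) (h : ∀ p : PrimeSpectrum A, (2 : ℕ∞) ≤ p.asIdeal.height → (2 : ℕ∞) ≤ LocCoh.depth (Localization.AtPrime p.asIdeal) (Localization.AtPrime p.asIdeal)) (p : Ideal A) (hp : p ∈ minimalPrimes A) : ringKrullDim (A ⧸ p) = ringKrullDim A := by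
  exact Groth.Agent.LocCohLib.ringKrullDim_quotient_minimalPrime hc h p hp

end Groth.Agent.S5154
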