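import Groth.Statements.S5156
import Groth.Agent.Lib.InjHull.Coextend
-- import your own Groth.Agent.* helpers here

set_option autoImplicit false
universe u
open Matlis

namespace Groth.Agent.S5156

/-- Let A and B be Noetherian local rings with B a finite A-algebra, and E an injective hull of the
residue field of A (a dualizing module for A). Then Hom_A(B, E), as a B-module through the action on
the source, is an injective hull of the residue field of B (a dualizing module for B). -/
theorem result (A B : Type u) [CommRing A] [IsLocalRing A] [IsNoetherianRing A] [CommRing B] [IsLocalRing B] [IsNoetherianRing B] [Algebra A B] [Module.Finite A B] (E : Type u) [AddCommGroup E] [Module A E] (f : IsLocalRing.ResidueField A →ₗ[A] E) (hf : InjHull.IsInjectiveHull f) : ∃ g : IsLocalRing.ResidueField B →ₗ[B] (ModuleCat.coextendScalars (algebraMap A B)).obj (ModuleCat.of A E), InjHull.IsInjectiveHull g := by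
  let mA := IsLocalRing.maximalIdeal A
  let mB := IsLocalRing.maximalIdeal B
  -- a power of `m_B` lies in `m_A B`
  have hle : mB ≤ (mA.map (algebraMap A B)).radical := by
    rw [Ideal.radical_eq_sInf, le_sInf_iff]
    rintro q ⟨hq, hqp⟩
    have : (q.comap (algebraMap A B)) = mA := by
      refine le_antisymm (IsLocalRing.le_maximalIdeal (Ideal.comap_ne_top _ hqp.ne_top)) (Ideal.map_le_iff_le_comap.1 hq)
    have hmax : q.IsMaximal := Ideal.isMaximal_of_isIntegral_of_isMaximal_comap q
      (this ▸ (inferInstance : mA.IsMaximal))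
    exact (IsLocalRing.eq_maximalIdeal hmax).ge
  obtain ⟨c, hc⟩ := Ideal.exists_pow_le_of_le_radical_of_fg hle (IsNoetherian.noetherian mB)
  have hinj := Groth.Agent.InjHullLib.injective_coextend (A := A) (B := B) hf.isInjective
  have hΘ := Groth.Agent.InjHullLib.coextendToHom_bijective (A := A) (B := B) (E := E)
  have : Module.Finite A (IsLocalRing.ResidueField B) :=
    Module.Finite.of_surjective (IsScalarTower.toAlgHom A B (IsLocalRing.ResidueField B)).toLinearMap IsLocalRing.residue_surjective
  obtain ⟨g, hg, hsoc⟩ := Groth.Agent.InjHullLib.exists_residueMap_of_forms hf Groth.Agent.InjHullLib.coextendToHom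
    (fun s x b => Groth.Agent.InjHullLib.coextendToHom_smul x s b) hΘ.1 (fun φ _ => hΘ.2 φ)
  refine ⟨g, Groth.Agent.InjHullLib.isInjectiveHull_of_socle hinj (fun x => ?_) g hg hsoc⟩
  let φ := Groth.Agent.InjHullLib.coextendToHom x
  obtain ⟨n, s, hs⟩ := Module.Finite.exists_fin (R := A) (M := B)
  choose N hN using fun i => Groth.Agent.InjHullLib.exists_pow_smul_eq_zero hf (φ (s i))
  let K := Finset.univ.sup N
  have hkill : ∀ a ∈ mA ^ K, ∀ b : B, a • φ b = 0 := by
    intro a ha b
    have hb : b ∈ Submodule.span A (Set.range s) := hs.ge trivial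
    induction hb using Submodule.span_induction with
    | mem y hy =>
      obtain ⟨i, rfl⟩ := hy
      exact hN i a (Ideal.pow_le_pow_right (Finset.le_sup (f := N) (Finset.mem_univ i)) ha)
    | zero => rw [map_zero, smul_zero]
    | add p q _ _ hp hq => rw [map_add, smul_add, hp, hq, add_zero]
    | smul r p _ hp => rw [map_smul, smul_comm, hp, smul_zero]
  refine ⟨c * K, fun r hr => hΘ.1 (LinearMap.ext fun b => ?_)⟩
  rw [Groth.Agent.InjHullLib.coextendToHom_smul, map_zero, LinearMap.zero_apply]
  have hmem : r ∈ (mA ^ K).map (algebraMap A B) := by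
    rw [pow_mul] at hr
    rw [Ideal.map_pow]
    exact Ideal.pow_right_mono hc K hr
  have : ∀ b : B, φ (b * r) = 0 := by
    refine Submodule.span_induction (p := fun r _ => ∀ b : B, φ (b * r) = 0) ?_ (fun b => by rw [mul_zero, map_zero])
      (fun p q _ _ hp hq b => by rw [mul_add, map_add, hp, hq, add_zero])
      (fun t p _ hp b => by rw [smul_eq_mul, ← mul_assoc]; exact hp _) hmem
    rintro _ ⟨a, ha, rfl⟩ b
    rw [mul_comm, ← Algebra.smul_def, map_smul, hkill a ha b]
  exact this b

end Groth.Agent.S5156
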