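import Groth.Statements.S5157
import Groth.Agent.Lib.InjHull.Change
import Groth.Agent.Lib.InjHull.Socle

set_option autoImplicit false
universe u
open Matlis

namespace Groth.Agent.S5157

/-- Let A be a Noetherian local ring, a an ideal with A/a local (i.e. a ≠ A) and E an injective hull of
the residue field of A. Then the annihilator of a in E, E[a] = {e | a e = 0}, is an injective hull
of the residue field of A/a over A/a. -/
theorem result (A : Type u) [CommRing A] [IsLocalRing A] [IsNoetherianRing A] (a : Ideal A) [IsLocalRing (A ⧸ a)] (E : Type u) [AddCommGroup E] [Module A E] (f : IsLocalRing.ResidueField A →ₗ[A] E) (hf : InjHull.IsInjectiveHull f) : ∃ g : IsLocalRing.ResidueField (A ⧸ a) →ₗ[A ⧸ a] (LocCoh.torsionBy a E), InjHull.IsInjectiveHull g := by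
  let κ := IsLocalRing.ResidueField A
  have ha : a ≤ IsLocalRing.maximalIdeal A := by
    refine IsLocalRing.le_maximalIdeal fun h => ?_
    subst h
    exact one_ne_zero (α := A ⧸ (⊤ : Ideal A)) (Ideal.Quotient.eq_zero_iff_mem.2 (Submodule.mem_top (x := (1 : A))))
  have hT : Module.Injective (A ⧸ a) (LocCoh.torsionBy a E) := Groth.Agent.InjHullLib.injective_torsionBySet hf.isInjective
  have hmax : IsLocalRing.maximalIdeal (A ⧸ a) = (IsLocalRing.maximalIdeal A).map (Ideal.Quotient.mk a) :=
    (IsLocalRing.eq_maximalIdeal (Ideal.IsMaximal.map_of_surjective_of_ker_le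
      Ideal.Quotient.mk_surjective (by rwa [Ideal.mk_ker]))).symm
  have hpt : LocCoh.IsPowerTorsion (IsLocalRing.maximalIdeal (A ⧸ a)) (LocCoh.torsionBy a E) := fun x => by
    obtain ⟨n, hn⟩ := Groth.Agent.InjHullLib.isPowerTorsion_hull (m := IsLocalRing.maximalIdeal A) hf x.1
    refine ⟨n, fun r hr => ?_⟩
    rw [hmax, ← Ideal.map_pow] at hr
    obtain ⟨r', hr', rfl⟩ := (Ideal.mem_map_iff_of_surjective _ Ideal.Quotient.mk_surjective).1 hr
    exact Subtype.ext (hn r' hr')
  have hrange : LinearMap.range f ≤ LocCoh.torsionBy a E := fun x hx => by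
    rw [Groth.Agent.InjHullLib.mem_torsion_iff]
    intro r hr
    exact Groth.Agent.InjHullLib.mem_torsion_iff.1 (Groth.Agent.InjHullLib.range_residueMap_le f hx) r (ha hr)
  have hlen : Module.length (A ⧸ a) (Submodule.torsionBySet (A ⧸ a) (LocCoh.torsionBy a E)
      (IsLocalRing.maximalIdeal (A ⧸ a) : Set (A ⧸ a))) = 1 := by
    rw [← Module.length_eq_of_surjective (R := A ⧸ a) (S := A) Ideal.Quotient.mk_surjective]
    let j : IsLocalRing.ResidueField A →ₗ[A] (Submodule.torsionBySet (A ⧸ a) (LocCoh.torsionBy a E)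
        (IsLocalRing.maximalIdeal (A ⧸ a) : Set (A ⧸ a))) :=
      { toFun := fun c => ⟨⟨f c, hrange ⟨c, rfl⟩⟩, Groth.Agent.InjHullLib.mem_torsion_iff.2 fun r hr => by
          rw [hmax] at hr
          obtain ⟨r', hr', rfl⟩ := (Ideal.mem_map_iff_of_surjective _ Ideal.Quotient.mk_surjective).1 hr
          exact Subtype.ext ((map_smul f r' c).symm.trans (by rw [Groth.Agent.InjHullLib.residue_smul_eq_zero hr', map_zero]; rfl))⟩
        map_add' := fun x y => Subtype.ext (Subtype.ext (map_add f x y))
        map_smul' := fun r x => Subtype.ext (Subtype.ext (map_smul f r x)) }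
    have hj : Function.Bijective j := by
      refine ⟨fun x y h => hf.injective (congrArg (fun z => ((z.1 : LocCoh.torsionBy a E) : E)) h), fun z => ?_⟩
      have hz : (z.1 : E) ∈ Submodule.torsionBySet A E (IsLocalRing.maximalIdeal A : Set A) :=
        Groth.Agent.InjHullLib.mem_torsion_iff.2 fun r hr => congrArg Subtype.val
          (Groth.Agent.InjHullLib.mem_torsion_iff.1 z.2 (Ideal.Quotient.mk a r) (by rw [hmax]; exact Ideal.mem_map_of_mem _ hr))
      rw [Groth.Agent.InjHullLib.torsion_eq_range (m := IsLocalRing.maximalIdeal A) hf.toIsEssentialInj] at hz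
      obtain ⟨c, hc⟩ := hz
      exact ⟨c, Subtype.ext (Subtype.ext hc)⟩
    rw [← (LinearEquiv.ofBijective j hj).length_eq]
    have : IsSimpleModule A (IsLocalRing.ResidueField A) :=
      isSimpleModule_iff_quot_maximal.2 ⟨_, IsLocalRing.maximalIdeal.isMaximal A, ⟨LinearEquiv.refl A _⟩⟩
    exact Module.length_eq_one A _
  obtain ⟨g, hg, hsoc⟩ := Groth.Agent.InjHullLib.exists_residueMap_of_length_one hlen
  exact ⟨g, Groth.Agent.InjHullLib.isInjectiveHull_of_socle hT hpt g hg hsoc⟩

end Groth.Agent.S5157
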