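import Groth.Statements.S5159
import Mathlib
import Groth.Agent.S0342
import Groth.Agent.Lib.ExtRegular
import Groth.Agent.Lib.LocCoh.ExtCompare
import Groth.Agent.Lib.Goren.Basic
import Groth.Agent.Lib.RegLoc.Basic
-- import your own Groth.Agent.* helpers here

set_option autoImplicit false
universe u
open CategoryTheory Opposite
open Dual

namespace Groth.Agent.S5159

theorem subsingleton_and_length (A : Type u) [CommRing A] [IsRegularLocalRing A] (n : ℕ)
    (hn : ringKrullDim A = n) (M : Type u) [AddCommGroup M] [Module A M] (hM : IsFiniteLength A M) :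
    (∀ i : ℕ, i ≠ n → Subsingleton (Abelian.Ext (ModuleCat.of A M) (ModuleCat.of A A) i)) ∧
      Module.length A (Abelian.Ext (ModuleCat.of A M) (ModuleCat.of A A) n) = Module.length A M := by
  have := Groth.Agent.S0342.result A
  obtain ⟨-, hinj, -⟩ := GorenLib.gorenstein_of_dim (S := A) hn
  have hgt : ∀ (X : ModuleCat.{u} A) (i : ℕ), n < i →
      Subsingleton (Abelian.Ext X (ModuleCat.of A A) i) := fun X i hi =>
    HasInjectiveDimensionLT.subsingleton (ModuleCat.of A A) (n + 1) i hi X
  obtain ⟨x, hx⟩ := RegLoc.exists_fin_generators A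
  have hxn : (IsLocalRing.maximalIdeal A).spanFinrank = n := by
    have := IsRegularLocalRing.spanFinrank_maximalIdeal (R := A)
    rw [hn] at this
    exact_mod_cast this
  obtain ⟨xs, hlen, hreg, hof⟩ : ∃ xs : List A, xs.length = n ∧
      RingTheory.Sequence.IsWeaklyRegular A xs ∧ Ideal.ofList xs = IsLocalRing.maximalIdeal A :=
    ⟨List.ofFn x, (List.length_ofFn ..).trans hxn,
      (RegLoc.isRegular_of_span_range _ A x hx rfl).toIsWeaklyRegular,
      (congrArg Ideal.span (by ext a; simp)).trans hx⟩
  induction hM with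
  | of_subsingleton =>
    rename_i M _ _ _
    have hz : Limits.IsZero (ModuleCat.of A M) := ModuleCat.isZero_of_subsingleton _
    have hs : ∀ i, Subsingleton (Abelian.Ext (ModuleCat.of A M) (ModuleCat.of A A) i) := fun i =>
      subsingleton_of_forall_eq 0 fun e => by
        rw [← Abelian.Ext.mk₀_id_comp e, hz.eq_of_src (𝟙 _) 0, Abelian.Ext.mk₀_zero,
          Abelian.Ext.zero_comp]
    exact ⟨fun i _ => hs i, by rw [@Module.length_eq_zero _ _ _ _ _ (hs n), Module.length_eq_zero]⟩
  | of_simple_quotient hN ih =>
    rename_i M _ _ N _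
    let S : ShortComplex (ModuleCat.{u} A) := ShortComplex.mk (ModuleCat.ofHom N.subtype)
      (ModuleCat.ofHom N.mkQ) (by ext z; exact (Submodule.Quotient.mk_eq_zero N).mpr z.2)
    have hS : S.ShortExact :=
      { exact := by
          rw [ShortComplex.moduleCat_exact_iff]
          intro z hz
          exact ⟨⟨z, (Submodule.Quotient.mk_eq_zero N).mp hz⟩, rfl⟩
        mono_f := (ModuleCat.mono_iff_injective _).mpr N.injective_subtype
        epi_g := (ModuleCat.epi_iff_surjective _).mpr N.mkQ_surjective }
    -- the simple quotient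
    obtain ⟨e, hsimple⟩ : ∃ _ : (M ⧸ N) ≃ₗ[A] IsLocalRing.ResidueField A, True := by
      obtain ⟨m, hm, ⟨e⟩⟩ := (isSimpleModule_iff_quot_maximal (R := A) (M := M ⧸ N)).mp inferInstance
      obtain rfl := IsLocalRing.eq_maximalIdeal hm
      exact ⟨e, trivial⟩
    obtain ⟨⟨eH⟩, hlt⟩ := ExtRegular.ext_of_regular_killed (M ⧸ N) xs
      (fun r hr z => by
        apply e.injective
        rw [map_smul, map_zero, Algebra.smul_def, IsLocalRing.ResidueField.algebraMap_eq,
          (IsLocalRing.residue_eq_zero_iff r).mpr (by rw [← hof]; exact Ideal.subset_span hr),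
          zero_mul]) A hreg
    rw [hlen] at eH hlt
    have hQ : ∀ i, i ≠ n → Subsingleton (Abelian.Ext (ModuleCat.of A (M ⧸ N)) (ModuleCat.of A A) i) :=
      fun i hi => (lt_or_gt_of_ne hi).elim (hlt i) (hgt _ i)
    have hQn : Module.length A (Abelian.Ext (ModuleCat.of A (M ⧸ N)) (ModuleCat.of A A) n) = 1 := by
      let t : (A ⧸ (Ideal.ofList xs • (⊤ : Submodule A A))) ≃ₗ[A]
          IsLocalRing.ResidueField A :=
        Submodule.quotEquivOfEq _ _ (by rw [smul_eq_mul, Ideal.mul_top, hof])
      let c : (IsLocalRing.ResidueField A →ₗ[A] IsLocalRing.ResidueField A) ≃ₗ[A]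
          IsLocalRing.ResidueField A :=
        { toFun := fun φ => φ 1
          map_add' := fun _ _ => rfl
          map_smul' := fun _ _ => rfl
          invFun := fun z => LinearMap.mulRight A z
          left_inv := fun φ => by
            ext y
            obtain ⟨a, rfl⟩ := IsLocalRing.residue_surjective y
            show IsLocalRing.residue A a * φ 1 = φ (IsLocalRing.residue A a)
            rw [← IsLocalRing.ResidueField.algebraMap_eq, ← Algebra.smul_def, ← map_smul,
              Algebra.smul_def, mul_one]
          right_inv := fun z => one_mul z }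
      rw [(eH.trans ((e.arrowCongr t).trans c)).length_eq]
      haveI : IsSimpleModule A (IsLocalRing.ResidueField A) := isSimpleModule_iff_quot_maximal.mpr
        ⟨IsLocalRing.maximalIdeal A, inferInstance, ⟨LinearEquiv.refl _ _⟩⟩
      exact Module.length_eq_one A _
    refine ⟨fun i hi => subsingleton_of_forall_eq 0 fun z => ?_, ?_⟩
    · obtain ⟨w, hw⟩ := Abelian.Ext.contravariant_sequence_exact₂ hS (ModuleCat.of A A) z
        (@Subsingleton.elim _ (ih.1 i hi) _ _)
      rw [← hw, show w = 0 from @Subsingleton.elim _ (hQ i hi) _ _, Abelian.Ext.comp_zero]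
    · let g' : Abelian.Ext (ModuleCat.of A (M ⧸ N)) (ModuleCat.of A A) n →ₗ[A]
          Abelian.Ext (ModuleCat.of A M) (ModuleCat.of A A) n :=
        { toFun := fun z => (Abelian.Ext.mk₀ S.g).comp z (zero_add n)
          map_add' := fun z w => Abelian.Ext.comp_add _ z w _
          map_smul' := fun r z => Abelian.Ext.comp_smul _ z _ r }
      let f' : Abelian.Ext (ModuleCat.of A M) (ModuleCat.of A A) n →ₗ[A]
          Abelian.Ext (ModuleCat.of A N) (ModuleCat.of A A) n :=
        { toFun := fun z => (Abelian.Ext.mk₀ S.f).comp z (zero_add n)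
          map_add' := fun z w => Abelian.Ext.comp_add _ z w _
          map_smul' := fun r z => Abelian.Ext.comp_smul _ z _ r }
      have hginj : Function.Injective g' := (injective_iff_map_eq_zero g').mpr fun z hz => by
        rcases Nat.eq_zero_or_pos n with h0 | hpos
        · subst h0
          obtain ⟨φ, rfl⟩ := (Abelian.Ext.mk₀_bijective _ _).2 z
          have hz' : Abelian.Ext.mk₀ (S.g ≫ φ) = 0 := (Abelian.Ext.mk₀_comp_mk₀ _ _).symm.trans hz
          have h1 : S.g ≫ φ = 0 := (Abelian.Ext.mk₀_bijective _ _).1 (by rw [hz', Abelian.Ext.mk₀_zero])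
          haveI : Epi S.g := hS.epi_g
          rw [(cancel_epi S.g).mp (h1.trans (Limits.comp_zero).symm), Abelian.Ext.mk₀_zero]
        · obtain ⟨m, rfl⟩ : ∃ m, n = 1 + m := ⟨n - 1, by omega⟩
          obtain ⟨w, hw⟩ := Abelian.Ext.contravariant_sequence_exact₃ hS (ModuleCat.of A A) z hz
            (n₀ := m) rfl
          rw [← hw, show w = 0 from @Subsingleton.elim _ (ih.1 m (by omega)) _ _, Abelian.Ext.comp_zero]
      have hfs : Function.Surjective f' := fun z => by
        have hz : hS.extClass.comp z (rfl : 1 + n = 1 + n) = 0 :=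
          @Subsingleton.elim _ (hQ (1 + n) (by omega)) _ _
        exact Abelian.Ext.contravariant_sequence_exact₁ hS (ModuleCat.of A A) z rfl hz
      have hex : Function.Exact g' f' := fun z => by
        constructor
        · exact fun hz => Abelian.Ext.contravariant_sequence_exact₂ hS (ModuleCat.of A A) z hz
        · rintro ⟨w, rfl⟩
          show (Abelian.Ext.mk₀ S.f).comp ((Abelian.Ext.mk₀ S.g).comp w (zero_add n)) (zero_add n) = 0
          rw [← Abelian.Ext.comp_assoc_of_second_deg_zero, Abelian.Ext.mk₀_comp_mk₀, S.zero,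
            Abelian.Ext.mk₀_zero, Abelian.Ext.zero_comp]
      rw [Module.length_eq_add_of_exact g' f' hginj hfs hex, hQn, ih.2,
        Module.length_eq_add_of_exact N.subtype N.mkQ N.injective_subtype N.mkQ_surjective
          (LinearMap.exact_subtype_mkQ N), Module.length_eq_one A (M ⧸ N), add_comm]

/-- Let A be a regular local ring of dimension n and M an A-module of finite length. Then Ext^i_A(M, A)
= 0 for i ≠ n and length Ext^n_A(M, A) = length M (the functor Ext^n_A(−, A) is dualizing). -/
theorem result (A : Type u) [CommRing A] [IsRegularLocalRing A] (n : ℕ) (hn : ringKrullDim A = n) (M : Type u) [AddCommGroup M] [Module A M] (hM : IsFiniteLength A M) : (∀ i : ℕ, i ≠ n → Subsingleton (((Ext A (ModuleCat.{u} A) i).obj (op (ModuleCat.of A M))).obj (ModuleCat.of A A))) ∧ Module.length A (((Ext A (ModuleCat.{u} A) n).obj (op (ModuleCat.of A M))).obj (ModuleCat.of A A)) = Module.length A M := by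
  obtain ⟨h1, h2⟩ := subsingleton_and_length A n hn M hM
  let E := fun i => (LocCohLib.extIso (n := i) (ProjectiveResolution.of (ModuleCat.of A M))
    (ModuleCat.of A A)).toLinearEquiv
  refine ⟨fun i hi => ?_, ?_⟩
  · haveI := h1 i hi
    exact (E i).injective.subsingleton
  · rw [(E n).length_eq]
    exact h2

end Groth.Agent.S5159
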