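import Groth.Statements.S5163
import Mathlib.RingTheory.Support
import Mathlib.RingTheory.Ideal.AssociatedPrime.Basic
import Mathlib.RingTheory.Regular.LinearMap

set_option autoImplicit false
universe u
open LocCoh

namespace Groth.Agent.S5163

/-- For modules over a Noetherian ring. Let P be a finite A-module and H any A-module with Supp H ⊆ Supp
P. If Hom_A(P, H) = 0 then H = 0. (The published lemma is stated over an arbitrary prescheme; its
proof uses that a nonzero module has an associated prime, so the ring is taken Noetherian here.) -/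
theorem result (A : Type u) [CommRing A] [IsNoetherianRing A] (P H : Type u) [AddCommGroup P] [Module A P] [Module.Finite A P] [AddCommGroup H] [Module A H] (hsupp : Module.support A H ⊆ Module.support A P) (hhom : Subsingleton (P →ₗ[A] H)) : Subsingleton H := by
  by_contra hns
  rw [not_subsingleton_iff_nontrivial] at hns
  obtain ⟨p, hp⟩ := associatedPrimes.nonempty A H
  obtain ⟨hpp, h, hh⟩ := (isAssociatedPrime_iff (R := A) (M := H)).1 hp
  have hr : ∀ r : A, r ∈ p ↔ r • h = 0 := fun r => by rw [hh, Submodule.mem_colon_singleton, Submodule.mem_bot]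
  have hmem : (⟨p, hpp⟩ : PrimeSpectrum A) ∈ Module.support A P :=
    hsupp (Module.mem_support_iff'.2 ⟨h, fun r hrp e => hrp ((hr r).2 e)⟩)
  let ι : (A ⧸ p) →ₗ[A] H := Submodule.liftQ p (LinearMap.toSpanSingleton A H h) fun r hr' => (hr r).1 hr'
  have hι : Function.Injective ι := by
    rw [injective_iff_map_eq_zero]
    intro z hz
    obtain ⟨r, rfl⟩ := Submodule.Quotient.mk_surjective p z
    exact (Submodule.Quotient.mk_eq_zero p).2 ((hr r).2 hz)
  have hsub : Subsingleton (P →ₗ[A] A ⧸ p) := ⟨fun φ ψ => LinearMap.ext fun y =>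
    hι (LinearMap.congr_fun (Subsingleton.elim (ι ∘ₗ φ) (ι ∘ₗ ψ)) y)⟩
  obtain ⟨x, hx, hreg⟩ := IsSMulRegular.subsingleton_linearMap_iff.mp hsub
  have hxp : x ∈ p := Module.mem_support_iff_of_finite.1 hmem hx
  refine one_ne_zero (α := A ⧸ p) (hreg ?_)
  change x • Submodule.Quotient.mk (1 : A) = x • (0 : A ⧸ p)
  rw [smul_zero, ← Submodule.Quotient.mk_smul, Submodule.Quotient.mk_eq_zero, smul_eq_mul, mul_one]
  exact hxp

end Groth.Agent.S5163
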