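import Groth.Statements.S5166
import Groth.Agent.Lib.Depth.PrimeAvoid
-- import your own Groth.Agent.* helpers here

set_option autoImplicit false
universe u
open LocCoh

namespace Groth.Agent.S5166

/-- In its local form at a point y ∈ Y (A = O_{X,y}). Let A be a Noetherian local ring and I ≠ A an
ideal contained in no minimal prime of A. Then some prime p ⊉ I has dim A/p = 1. -/
theorem result (A : Type u) [CommRing A] [IsLocalRing A] [IsNoetherianRing A] (I : Ideal A) (hI : I ≠ ⊤) (hdense : ∀ q ∈ minimalPrimes A, ¬ I ≤ q) : ∃ p : PrimeSpectrum A, ¬ I ≤ p.asIdeal ∧ ringKrullDim (A ⧸ p.asIdeal) = 1 := by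
  obtain ⟨q₀, hq₀⟩ : (minimalPrimes A).Nonempty := (Set.nonempty_coe_sort.1 (Ideal.nonempty_minimalPrimes bot_ne_top))
  obtain ⟨p, ⟨hp, hpI⟩, hmax⟩ := wellFounded_gt.has_min {p : Ideal A | p.IsPrime ∧ ¬ I ≤ p}
    ⟨q₀, hq₀.isPrime, hdense q₀ hq₀⟩
  have hbig : ∀ q : Ideal A, q.IsPrime → p < q → I ≤ q := fun q hq h =>
    by_contra fun hI' => hmax q ⟨hq, hI'⟩ h
  have hpm : p < IsLocalRing.maximalIdeal A :=
    lt_of_le_of_ne (IsLocalRing.le_maximalIdeal hp.ne_top) fun h => hpI (h ▸ IsLocalRing.le_maximalIdeal hI)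
  obtain ⟨a, haI, hap⟩ := SetLike.not_le_iff_exists.1 hpI
  have hnone : ∀ q : Ideal A, q.IsPrime → p < q → q = IsLocalRing.maximalIdeal A := by
    intro q hq hpq
    by_contra hne
    obtain ⟨t, ht, hpt, -, hat⟩ := Groth.Agent.DepthLib.exists_prime_between_not_mem hpm
      ⟨q, hq, hpq, lt_of_le_of_ne (IsLocalRing.le_maximalIdeal hq.ne_top) hne⟩
      (IsLocalRing.le_maximalIdeal hI haI) hap
    exact hat (hbig t ht hpt haI)
  refine ⟨⟨p, hp⟩, hpI, ?_⟩
  have : IsLocalRing (A ⧸ p) := .of_surjective' (Ideal.Quotient.mk p) Ideal.Quotient.mk_surjective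
  have hsur : Function.Surjective (Ideal.Quotient.mk p) := Ideal.Quotient.mk_surjective
  have hprimes : ∀ Q : Ideal (A ⧸ p), Q.IsPrime → Q = ⊥ ∨ Q = IsLocalRing.maximalIdeal (A ⧸ p) := by
    intro Q hQ
    by_cases h : Q.comap (Ideal.Quotient.mk p) = p
    · exact Or.inl (by rw [← Ideal.map_comap_of_surjective _ hsur Q, h, Ideal.map_quotient_self])
    · refine Or.inr (IsLocalRing.eq_maximalIdeal ?_)
      have h2 := hnone _ (Ideal.comap_isPrime _ Q) (lt_of_le_of_ne
        (Ideal.mk_ker.ge.trans (Ideal.comap_mono bot_le)) (Ne.symm h))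
      rw [← Ideal.map_comap_of_surjective _ hsur Q, h2]
      refine (Ideal.map_eq_top_or_isMaximal_of_surjective _ hsur inferInstance).resolve_left ?_
      rw [← h2, Ideal.map_comap_of_surjective _ hsur]
      exact hQ.ne_top
  have : IsLocalHom (Ideal.Quotient.mk p) := .of_surjective _ hsur
  have hne : IsLocalRing.maximalIdeal (A ⧸ p) ≠ ⊥ := by
    intro h
    obtain ⟨x, hxm, hxp⟩ := SetLike.exists_of_lt hpm
    have : Ideal.Quotient.mk p x ∈ IsLocalRing.maximalIdeal (A ⧸ p) :=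
      (IsLocalRing.mem_maximalIdeal _).2 fun hu =>
        (IsLocalRing.mem_maximalIdeal _).1 hxm (IsLocalHom.map_nonunit x hu)
    rw [h, Ideal.mem_bot, Ideal.Quotient.eq_zero_iff_mem] at this
    exact hxp this
  have hbot : (⊥ : Ideal (A ⧸ p)).IsPrime := Ideal.isPrime_bot
  rw [← IsLocalRing.maximalIdeal_height_eq_ringKrullDim, show (1 : WithBot ℕ∞) = ((1 : ℕ∞) : WithBot ℕ∞) from rfl,
    WithBot.coe_inj]
  refine le_antisymm ?_ ?_
  · rw [show (1 : ℕ∞) = ((1 : ℕ) : ℕ∞) from Nat.cast_one.symm, Ideal.height_le_iff]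
    intro J hJ hlt
    rw [Nat.cast_one, Order.lt_one_iff, Ideal.height_eq_zero_iff,
      IsDomain.minimalPrimes_eq_singleton_bot, Set.mem_singleton_iff]
    exact (hprimes J hJ).resolve_right hlt.ne
  · exact Order.one_le_iff_pos.2 (lt_of_le_of_lt zero_le
      (Ideal.height_strict_mono_of_isPrime (bot_lt_iff_ne_bot.2 hne)))

end Groth.Agent.S5166
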