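import Groth.Statements.S5168
import Mathlib.RingTheory.Filtration
import Mathlib.Algebra.Module.Injective
-- import your own Groth.Agent.* helpers here

set_option autoImplicit false
universe u
open InjHull

namespace Groth.Agent.S5168

/-- Let A be a Noetherian ring, J an ideal and H a J-power torsion A-module. Then H is injective if and
only if Hom_A(−, H) is exact on finite A-modules killed by a power of J, i.e. every linear map to H
from a submodule of such a module M extends to M. -/
theorem result (A : Type u) [CommRing A] [IsNoetherianRing A] (J : Ideal A) (H : Type u) [AddCommGroup H] [Module A H] (hH : LocCoh.IsPowerTorsion J H) : Module.Injective A H ↔ ∀ (M : Type u) [AddCommGroup M] [Module A M], Module.Finite A M → (∃ k : ℕ, (J ^ k) • (⊤ : Submodule A M) = ⊥) → ∀ (N : Submodule A M) (g : N →ₗ[A] H), ∃ g' : M →ₗ[A] H, g'.comp N.subtype = g := by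
  classical
  refine ⟨fun h M _ _ _ _ N g => (Module.Baer.iff_injective.2 h).extension_property N.subtype N.injective_subtype g, fun hext => ?_⟩
  refine Module.Baer.iff_injective.1 fun a g => ?_
  obtain ⟨s, hs⟩ := (inferInstance : IsNoetherian A a).noetherian ⊤
  choose k hk using hH
  let K := s.sup fun x => k (g x)
  have hg : ∀ r ∈ J ^ K, ∀ x : a, g (r • x) = 0 := by
    intro r hr x
    have hle : (⊤ : Submodule A a) ≤ LinearMap.ker (r • g) := by
      rw [← hs, Submodule.span_le]
      intro y hy
      exact hk (g y) r (Ideal.pow_le_pow_right (Finset.le_sup (f := fun x => k (g x)) hy) hr)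
    rw [map_smul]
    exact LinearMap.mem_ker.1 (hle (x := x) trivial)
  obtain ⟨c, hc⟩ := Ideal.exists_pow_inf_eq_pow_smul J (a : Submodule A A)
  have hAR : (J ^ (K + c) • (⊤ : Submodule A A)) ⊓ a ≤ J ^ K • (a : Submodule A A) := by
    rw [hc (K + c) (Nat.le_add_left c K), Nat.add_sub_cancel]
    exact Submodule.smul_mono le_rfl inf_le_right
  let n := K + c
  let q : a →ₗ[A] A ⧸ J ^ n := Submodule.mkQ (J ^ n) ∘ₗ a.subtype
  have hker : LinearMap.ker q.rangeRestrict ≤ LinearMap.ker g := by
    rintro ⟨x, hx⟩ hq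
    rw [LinearMap.ker_rangeRestrict, LinearMap.mem_ker] at hq
    have hxn : x ∈ J ^ n := (Submodule.Quotient.mk_eq_zero _).1 hq
    have hmem : x ∈ (J ^ n • (⊤ : Submodule A A)) ⊓ a := by
      refine ⟨?_, hx⟩
      rw [smul_eq_mul, Ideal.mul_top]
      exact hxn
    have hmem2 := hAR hmem
    rw [show J ^ K • (a : Submodule A A) = (J ^ K • (⊤ : Submodule A a)).map a.subtype by
      rw [Submodule.map_smul'', Submodule.map_top, Submodule.range_subtype]] at hmem2
    obtain ⟨y, hy, hyx⟩ := hmem2
    rw [show (⟨x, hx⟩ : a) = y from Subtype.ext hyx.symm, LinearMap.mem_ker]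
    refine Submodule.smul_induction_on hy (fun r hr m _ => hg r hr m) fun y z hy hz => ?_
    rw [map_add, hy, hz, add_zero]
  let e := q.rangeRestrict.quotKerEquivOfSurjective q.surjective_rangeRestrict
  obtain ⟨g', hg'⟩ := hext (A ⧸ J ^ n) inferInstance ⟨n, by
    rw [eq_bot_iff]
    refine Submodule.smul_le.2 fun r hr m _ => (Submodule.mem_bot A).2 ?_
    obtain ⟨m, rfl⟩ := Submodule.Quotient.mk_surjective (J ^ n) m
    rw [← Submodule.Quotient.mk_smul, Submodule.Quotient.mk_eq_zero]
    exact Ideal.mul_mem_right m _ hr⟩ (LinearMap.range q) ((Submodule.liftQ _ g hker) ∘ₗ e.symm.toLinearMap)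
  refine ⟨g' ∘ₗ Submodule.mkQ (J ^ n), fun x hx => ?_⟩
  have h1 := LinearMap.congr_fun hg' (q.rangeRestrict ⟨x, hx⟩)
  refine h1.trans ?_
  have h2 : e.symm (q.rangeRestrict ⟨x, hx⟩) = Submodule.Quotient.mk ⟨x, hx⟩ := by
    rw [LinearEquiv.symm_apply_eq]; rfl
  rw [LinearMap.comp_apply, LinearEquiv.coe_coe, h2]
  rfl

end Groth.Agent.S5168
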