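import Groth.Statements.S5171
import Groth.Agent.Lib.Depth.CM
import Groth.Agent.Lib.LocCoh.Vanishing
-- import your own Groth.Agent.* helpers here

set_option autoImplicit false
universe u
open LocCoh

namespace Groth.Agent.S5171

/-- Let A be a Noetherian ring, J an ideal, n ≥ 0 and G a finite Cohen–Macaulay A-module (each
localization G_p is zero or Cohen–Macaulay). Then H^i_J(G) = 0 for i < n if and only if codim(V(J) ∩
Supp G, Supp G) ≥ n, i.e. dim Supp(G_p) ≥ n for every p ∈ V(J) ∩ Supp G. -/
theorem result (A : Type u) [CommRing A] [IsNoetherianRing A] (J : Ideal A) (G : Type u) [AddCommGroup G] [Module A G] [Module.Finite A G] (hCM : ∀ p : PrimeSpectrum A, Subsingleton (LocalizedModule p.asIdeal.primeCompl G) ∨ LocCoh.IsCohenMacaulayModule (Localization.AtPrime p.asIdeal) (LocalizedModule p.asIdeal.primeCompl G)) (n : ℕ) : (∀ i : ℕ, i < n → Subsingleton (LocCoh.H J i G)) ↔ ∀ p : PrimeSpectrum A, J ≤ p.asIdeal → p ∈ Module.support A G → (n : WithBot ℕ∞) ≤ Module.supportDim (Localization.AtPrime p.asIdeal) (LocalizedModule p.asIdeal.primeCompl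 G) := by
  have key := Groth.Agent.LocCohLib.vanishing_below_iff_of_support_eq (I := J)
    (G := ModuleCat.of A G) (A ⧸ J) (Groth.Agent.DepthLib.support_quotient J) n
  rw [key, ← Groth.Agent.DepthLib.natCast_le_idealDepth_iff,
    Groth.Agent.DepthLib.natCast_le_idealDepth_iff_forall_localized]
  refine ⟨fun h p hp hs => ?_, fun h p hp => ?_⟩
  · rcases hCM p with h0 | h0
    · exact absurd h0 (not_subsingleton_iff_nontrivial.2 hs)
    · rw [h0]
      exact WithBot.coe_le_coe.2 (h p hp)
  · rcases hCM p with h0 | h0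
    · rw [LocCoh.depth, Groth.Agent.DepthLib.idealDepth_of_smul_top_eq_top
        (Subsingleton.elim _ _)]
      exact le_top
    · have hs : p ∈ Module.support A G := Groth.Agent.DepthLib.nontrivial_of_isCohenMacaulayModule h0
      have h1 := h p hp hs
      rw [h0] at h1
      exact WithBot.coe_le_coe.1 h1


end Groth.Agent.S5171
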