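import Groth.Statements.S5172
import Groth.Agent.Lib.LocCoh.CodimOne27
-- import your own Groth.Agent.* helpers here

set_option autoImplicit false
universe u
open LocCoh

namespace Groth.Agent.S5172

/-- Let A be a Noetherian ring which is a quotient of a regular ring, I an ideal, M a finite A-module
and n ≥ 0; c(p) = codim(V(p) ∩ V(I), V(p)). Then depth M_p > n − c(p) for all primes p ⊉ I if and
only if depth M_p ≥ n for all primes p ⊉ I with c(p) = 1. -/
theorem result (R : Type u) [CommRing R] [IsRegularRing R] (A : Type u) [CommRing A] [IsNoetherianRing A] (π : R →+* A) (hπ : Function.Surjective π) (I : Ideal A) (M : Type u) [AddCommGroup M] [Module A M] [Module.Finite A M] (n : ℕ) : (∀ p : PrimeSpectrum A, ¬ I ≤ p.asIdeal → (n : ℕ∞) < LocCoh.depth (Localization.AtPrime p.asIdeal) (LocalizedModule p.asIdeal.primeCompl M) + SGA2.relCodim I p) ↔ (∀ p : PrimeSpectrum A, ¬ I ≤ p.asIdeal → SGA2.relCodim I p = 1 → (n : ℕ∞) ≤ LocCoh.depth (Localization.AtPrime p.asIdeal) (LocalizedModule p.asIdeal.primeCompl M)) := by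
  refine ⟨fun h p hp hc => ?_, fun h p hp => Groth.Agent.LocCohLib.depth_add_relCodim_of_codim_one I M h p hp⟩
  have h1 := h p hp
  rw [hc] at h1
  exact ENat.lt_add_one_iff' (ENat.natCast_ne_top n) |>.1 h1

end Groth.Agent.S5172
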