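import Groth.Statements.S5175
import Groth.Agent.Lib.InjHull.Coextend
-- import your own Groth.Agent.* helpers here

set_option autoImplicit false
universe u
open Matlis

namespace Groth.Agent.S5175

/-- Let k₀ be a field and A a Noetherian local k₀-algebra with [k : k₀] finite, k the residue field.
Then the topological dual A' = colim_n Hom_{k₀}(A/m^n, k₀), i.e. the submodule of Hom_{k₀}(A, k₀) of
forms killing some power of m (A acting through the source), is an injective hull of k (it is the
dualizing module of A). -/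
theorem result (k₀ : Type u) [Field k₀] (A : Type u) [CommRing A] [IsLocalRing A] [IsNoetherianRing A] [Algebra k₀ A] [Module.Finite k₀ (A ⧸ IsLocalRing.maximalIdeal A)] : ∃ f : IsLocalRing.ResidueField A →ₗ[A] ↥(⨆ n : ℕ, Submodule.torsionBySet A ((ModuleCat.coextendScalars (algebraMap k₀ A)).obj (ModuleCat.of k₀ k₀)) ((IsLocalRing.maximalIdeal A ^ n : Ideal A) : Set A)), InjHull.IsInjectiveHull f := by
  let X := (ModuleCat.coextendScalars (algebraMap k₀ A)).obj (ModuleCat.of k₀ k₀)
  let m := IsLocalRing.maximalIdeal A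
  let T : Submodule A X := ⨆ n : ℕ, Submodule.torsionBySet A X ((m ^ n : Ideal A) : Set A)
  show ∃ f : IsLocalRing.ResidueField A →ₗ[A] T, InjHull.IsInjectiveHull f
  -- `k₀` is the hull of its residue field
  let e : IsLocalRing.ResidueField k₀ ≃ₗ[k₀] k₀ :=
    (LinearEquiv.ofBijective (IsScalarTower.toAlgHom k₀ k₀ (IsLocalRing.ResidueField k₀)).toLinearMap
      ⟨fun a b h => (IsLocalRing.residue k₀).injective h, IsLocalRing.residue_surjective⟩).symm
  have hE : InjHull.IsInjectiveHull e.toLinearMap :=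
    ⟨Groth.Agent.InjHullLib.isEssentialInj_linearEquiv e, Module.Baer.iff_injective.1 fun I g => by
      rcases Ideal.eq_bot_or_top I with rfl | rfl
      · exact ⟨0, fun x hx => by
          have : (⟨x, hx⟩ : (⊥ : Ideal k₀)) = 0 := Subsingleton.elim _ _
          rw [this, map_zero]; rfl⟩
      · exact ⟨g ∘ₗ Submodule.topEquiv.symm.toLinearMap, fun x hx => rfl⟩⟩
  have hinj : Module.Injective A X := Groth.Agent.InjHullLib.injective_coextend hE.isInjective
  have hT : Module.Injective A T := Groth.Agent.InjHullLib.injective_powTors hinj m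
  have hpt : LocCoh.IsPowerTorsion m T := fun x => by
    obtain ⟨n, hn⟩ := Groth.Agent.InjHullLib.mem_powTors_iff.1 x.2
    exact ⟨n, fun r hr => Subtype.ext (hn r hr)⟩
  have hΘ := Groth.Agent.InjHullLib.coextendToHom_bijective (A := k₀) (B := A) (E := k₀)
  have : Module.Finite k₀ (IsLocalRing.ResidueField A) := ‹Module.Finite k₀ (A ⧸ IsLocalRing.maximalIdeal A)›
  let Θ := (Groth.Agent.InjHullLib.coextendToHom (A := k₀) (B := A) (E := k₀)).comp T.subtype.toAddMonoidHom
  have hsur : ∀ φ : A →ₗ[k₀] k₀, (∀ r ∈ m, φ r = 0) → ∃ x : T, Θ x = φ := by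
    intro φ hφ
    obtain ⟨x, hx⟩ := hΘ.2 φ
    have hmem : x ∈ Groth.Agent.InjHullLib.powTors m X := by
      refine Groth.Agent.InjHullLib.mem_powTors_iff.2 ⟨1, fun r hr => hΘ.1 (LinearMap.ext fun b => ?_)⟩
      rw [Groth.Agent.InjHullLib.coextendToHom_smul, hx, map_zero, LinearMap.zero_apply]
      exact hφ _ (Ideal.mul_mem_left _ b (by simpa using hr))
    exact ⟨⟨x, hmem⟩, hx⟩
  obtain ⟨g, hg, hsoc⟩ := Groth.Agent.InjHullLib.exists_residueMap_of_forms hE Θ
    (fun s x b => Groth.Agent.InjHullLib.coextendToHom_smul _ s b) (hΘ.1.comp Subtype.val_injective) hsur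
  exact ⟨g, Groth.Agent.InjHullLib.isInjectiveHull_of_socle hT hpt g hg hsoc⟩

end Groth.Agent.S5175
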