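import Groth.Statements.S5178
import Groth.Agent.Lib.CI2.AvramovCI
import Groth.Agent.Lib.CI2.Regular
import Groth.Agent.Lib.Compl.Dim

set_option autoImplicit false
set_option backward.isDefEq.respectTransparency.types false
universe u
open CInt

namespace Groth.Agent.S5178

/-- Let A be a Noetherian local ring of dimension d, and let the completion of A be presented as B/I
with B a regular local ring of dimension e and I an ideal whose minimal number of generators is q,
so that e − q is the geometric depth of A (this number does not depend on the presentation). Then e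
− q ≤ d, and equality holds if and only if A is a complete intersection, i.e. its completion is a
regular local ring modulo an ideal generated by a regular sequence. -/
theorem result (A : Type u) [CommRing A] [IsLocalRing A] [IsNoetherianRing A] (B : Type u) [CommRing B] [IsRegularLocalRing B] (I : Ideal B) (hpres : Nonempty (AdicCompletion (IsLocalRing.maximalIdeal A) A ≃+* B ⧸ I)) (d e : ℕ) (hd : ringKrullDim A = (d : WithBot ℕ∞)) (he : ringKrullDim B = (e : WithBot ℕ∞)) : (e : ℤ) - (I.spanFinrank : ℤ) ≤ (d : ℤ) ∧ ((e : ℤ) - (I.spanFinrank : ℤ) = (d : ℤ) ↔ Pi1.IsCompleteIntersection A) := by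
  classical
  obtain ⟨φ⟩ := hpres
  haveI : IsNoetherianRing (AdicCompletion (IsLocalRing.maximalIdeal A) A) :=
    Groth.Agent.Compl.isNoetherianRing_maximalIdeal_adicCompletion A
  have hI : I ≠ ⊤ := by
    intro h
    haveI : Subsingleton (B ⧸ I) := Ideal.Quotient.subsingleton_iff.mpr h
    haveI : Subsingleton (AdicCompletion (IsLocalRing.maximalIdeal A) A) := φ.toEquiv.subsingleton
    exact not_subsingleton (AdicCompletion (IsLocalRing.maximalIdeal A) A) inferInstance
  haveI : IsLocalRing (B ⧸ I) := Groth.Agent.RegLoc.isLocalRing_quotient hI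
  haveI : LocCoh.IsCohenMacaulayLocalRing B :=
    Groth.Agent.DepthLib.isCohenMacaulayLocalRing_of_isRegularLocalRing
  have hdim : ringKrullDim (B ⧸ I) = (d : WithBot ℕ∞) := by
    rw [← ringKrullDim_eq_of_ringEquiv φ, Groth.Agent.Compl.ringKrullDim_maximalIdeal_adicCompletion, hd]
  have hk : e ≤ d + I.spanFinrank := by
    have h := ringKrullDim_le_ringKrullDim_quotient_add_spanFinrank I
      ((IsLocalRing.le_maximalIdeal hI).trans_eq (IsLocalRing.ringJacobson_eq_maximalIdeal (R := B)).symm)
    rw [he, hdim] at h
    exact_mod_cast h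
  have hci : Pi1.IsCompleteIntersection A ↔ I.spanFinrank + d ≤ e := by
    rw [← Groth.Agent.CI2.ci_cpl_iff (A := A)]
    have h1 : Pi1.IsCompleteIntersection (EGA4.Cpl A) ↔ Pi1.IsCompleteIntersection (B ⧸ I) :=
      ⟨Groth.Agent.CI2.ci_congr φ, Groth.Agent.CI2.ci_congr φ.symm⟩
    rw [h1, Groth.Agent.CI2.isCompleteIntersection_quotient_iff I hI,
      Groth.Agent.CI2.isRegularIdeal_iff_spanFinrank I hI, hdim, he]
    exact_mod_cast Iff.rfl
  refine ⟨by omega, ?_⟩
  rw [hci]
  omega

end Groth.Agent.S5178
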