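import Groth.Statements.S5179
import Groth.Agent.Lib.GeomDepth2.Flat
import Groth.Agent.Lib.Compl.Dim

set_option autoImplicit false
set_option backward.isDefEq.respectTransparency.types false
universe u
open CInt

namespace Groth.Agent.S5179

/-- Let A → A' be a flat local homomorphism of Noetherian local rings such that m_A A' is the maximal
ideal of A' and the residue field of A' is a separable extension of the residue field k of A
(separable in the sense that it is formally smooth over k; so A' ⊗_A k is a field separable over k).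
Present the completions as Â ≅ B/I and Â' ≅ B'/I' with B, B' regular local rings of dimensions e,
e'. Then e − μ(I) = e' − μ(I'), μ denoting the minimal number of generators: A and A' have the same
geometric depth. -/
theorem result (A A' : Type u) [CommRing A] [IsLocalRing A] [IsNoetherianRing A] [CommRing A'] [IsLocalRing A'] [IsNoetherianRing A'] [Algebra A A'] [IsLocalHom (algebraMap A A')] [Module.Flat A A'] (hmax : Ideal.map (algebraMap A A') (IsLocalRing.maximalIdeal A) = IsLocalRing.maximalIdeal A') (hsep : Algebra.FormallySmooth (IsLocalRing.ResidueField A) (IsLocalRing.ResidueField A')) (B B' : Type u) [CommRing B] [IsRegularLocalRing B] [CommRing B'] [IsRegularLocalRing B'] (I : Ideal B) (I' : Ideal B') (hpres : Nonempty (AdicCompletion (IsLocalRing.maximalIdeal A) A ≃+* B ⧸ I)) (hpres' : Nonempty (AdicCompletion (IsLocalRing.maximalIdeal A') A' ≃+* B' ⧸ I')) (e e' : ℕ) (he : ringKrullDim B = (e : WithBot ℕ∞)) (he' : ringKrullDim B' = (e' : WithBot ℕ∞)) : (e : ℤ) - (I.spanFinrank : ℤ) = (e' : ℤ) - (I'.spanFinrank : ℤ) := by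
  classical
  obtain ⟨φ⟩ := hpres
  obtain ⟨φ'⟩ := hpres'
  haveI : IsNoetherianRing (AdicCompletion (IsLocalRing.maximalIdeal A) A) :=
    Groth.Agent.Compl.isNoetherianRing_maximalIdeal_adicCompletion A
  haveI : IsNoetherianRing (AdicCompletion (IsLocalRing.maximalIdeal A') A') :=
    Groth.Agent.Compl.isNoetherianRing_maximalIdeal_adicCompletion A'
  obtain ⟨x, hx⟩ := Groth.Agent.GeomDepth2.exists_fin_gens (IsLocalRing.maximalIdeal A)
  obtain ⟨r, hr, hmin⟩ := Groth.Agent.GeomDepth2.exists_min x hx
  obtain ⟨a1, a2, a3, a4⟩ := Groth.Agent.GeomDepth2.min_map (AdicCompletion (IsLocalRing.maximalIdeal A) A)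
    AdicCompletion.maximalIdeal_eq_map.symm x hx rfl hr hmin
  obtain ⟨b1, b2, b3, b4⟩ := Groth.Agent.GeomDepth2.min_map A' hmax x hx rfl hr hmin
  obtain ⟨c1, c2, c3, c4⟩ := Groth.Agent.GeomDepth2.min_map (AdicCompletion (IsLocalRing.maximalIdeal A') A')
    AdicCompletion.maximalIdeal_eq_map.symm _ b1 b2 b3 b4
  have h1 : (IsLocalRing.maximalIdeal B).spanFinrank = e := by
    have := IsRegularLocalRing.spanFinrank_maximalIdeal (R := B)
    rw [he] at this
    exact_mod_cast this
  have h2 : (IsLocalRing.maximalIdeal B').spanFinrank = e' := by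
    have := IsRegularLocalRing.spanFinrank_maximalIdeal (R := B')
    rw [he'] at this
    exact_mod_cast this
  let g : B →+* AdicCompletion (IsLocalRing.maximalIdeal A) A := (φ.symm : _ →+* _).comp (Ideal.Quotient.mk I)
  let g' : B' →+* AdicCompletion (IsLocalRing.maximalIdeal A') A' := (φ'.symm : _ →+* _).comp (Ideal.Quotient.mk I')
  have hg : RingHom.ker g = I := by
    ext b
    simp [g, RingHom.mem_ker, Ideal.Quotient.eq_zero_iff_mem]
  have hg' : RingHom.ker g' = I' := by
    ext b
    simp [g', RingHom.mem_ker, Ideal.Quotient.eq_zero_iff_mem]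
  have k1 := Groth.Agent.GeomDepth2.deficiency e B g (φ.symm.surjective.comp Ideal.Quotient.mk_surjective) h1 _ a1 a2 a3 a4
  have k2 := Groth.Agent.GeomDepth2.deficiency e' B' g' (φ'.symm.surjective.comp Ideal.Quotient.mk_surjective) h2 _ c1 c2 c3 c4
  rw [hg] at k1
  rw [hg'] at k2
  exact k1.trans k2.symm

end Groth.Agent.S5179
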