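import Groth.Statements.S5183
import Groth.Agent.Lib.PureLift25.Main
-- import your own Groth.Agent.* helpers here

set_option autoImplicit false
universe u
open CategoryTheory CategoryTheory.Limits AlgebraicGeometry
open Pi1

namespace Groth.Agent.S5183

/-- Let A be a Noetherian local ring which is a quotient of a regular local ring, t an A-regular element
of the maximal ideal such that A is separated and complete for the (t)-adic topology, and assume
depth A_p ≥ 2 for every prime ideal p with dim A/p = 1. If B = A/tA is pure, i.e. the pair (Spec B,
closed point) is pure: for every open V of Spec B restriction of finite étale covers from V to V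
minus the closed point is an equivalence of categories, then A is pure. -/
theorem result (A : Type u) [CommRing A] [IsLocalRing A] [IsNoetherianRing A] (hq : ∃ (B : Type u) (_ : CommRing B) (_ : IsRegularLocalRing B) (φ : B →+* A), Function.Surjective φ) (t : A) (ht : t ∈ IsLocalRing.maximalIdeal A) (hreg : IsSMulRegular A t) [IsAdicComplete (Ideal.span {t}) A] (hdepth : ∀ p : Ideal A, ∀ _ : p.IsPrime, ringKrullDim (A ⧸ p) = 1 → (2 : ℕ∞) ≤ LocCoh.depth (Localization.AtPrime p) (Localization.AtPrime p)) [IsLocalRing (A ⧸ Ideal.span {t})] (hB : SGA2.IsPurePair (Spec (CommRingCat.of (A ⧸ Ideal.span {t}))) (FEt.puncturedSpec (A ⧸ Ideal.span {t}))) : SGA2.IsPurePair (Spec (CommRingCat.of A)) (FEt.puncturedSpec A) := by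
  obtain ⟨R, _, _, π, hπ⟩ := hq
  haveI := Groth.Agent.PureLift25.restrict_punctured_isEquivalence hB
  haveI := Groth.Agent.PureLift25.restrict_isEquivalence_of_quotient t ht
    (Groth.Agent.PureLift25.exists_kill_H π hπ hdepth ht 1 (by omega))
    (Groth.Agent.PureLift25.exists_kill_H π hπ hdepth ht 2 le_rfl)
  exact Groth.Agent.PureLift25.isPurePair_punctured A

end Groth.Agent.S5183
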