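import Groth.Statements.S5186
import Groth.Agent.Lib.CohMopB.Bounded

set_option autoImplicit false
universe u
open CategoryTheory CategoryTheory.Limits AlgebraicGeometry
open Coherent

namespace Groth.Agent.S5186

theorem isZero_rightDerived_of_injective {X S : Scheme.{u}} {f : X ⟶ S} [HasInjectiveResolutions X.Modules]
    [(Scheme.Modules.pushforward f).Additive] (J : X.Modules) [Injective J] (q : ℕ) (hq : 0 < q) :
    IsZero (((Scheme.Modules.pushforward f).rightDerived q).obj J) := by
  obtain ⟨q, rfl⟩ : ∃ p, q = p + 1 := ⟨q - 1, by omega⟩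
  exact (Scheme.Modules.pushforward f).isZero_rightDerived_obj_injective_succ q J

/-- Let f : X → S be a proper morphism of schemes with S locally Noetherian, U an open subset of X with
inclusion g : U → X, h = f ∘ g : U → S, F an O_U-module and n ≥ 0. If the higher direct images R^i
g_*(F) are coherent O_X-modules for all i ≤ n, then the higher direct images R^i h_*(F) are coherent
O_S-modules for all i ≤ n. (The existence of injective resolutions in the module categories is
carried as instance arguments.) -/
theorem result {X S : Scheme.{u}} (f : X ⟶ S) [IsProper f] [IsLocallyNoetherian S] (U : X.Opens) [HasInjectiveResolutions (U : Scheme.{u}).Modules] [HasInjectiveResolutions X.Modules] (F : (U : Scheme.{u}).Modules) (n : ℕ) (hg : ∀ i : ℕ, i ≤ n → Coh.IsCoh ((Coh.Rpush U.ι i).obj F)) (i : ℕ) (hi : i ≤ n) : Coh.IsCoh ((Coh.Rpush (U.ι ≫ f) i).obj F) := by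
  haveI : IsLocallyNoetherian X := LocallyOfFiniteType.isLocallyNoetherian f
  haveI : PreservesFiniteLimits (Scheme.Modules.pushforward f) :=
    haveI : PreservesLimitsOfSize.{0, 0} (Scheme.Modules.pushforward f) :=
      (Scheme.Modules.pullbackPushforwardAdjunction f).rightAdjoint_preservesLimits
    PreservesLimitsOfSize.preservesFiniteLimits _
  let I := injectiveResolution F
  let P := Scheme.Modules.pushforward f
  let K := ((Scheme.Modules.pushforward U.ι).mapHomologicalComplex (ComplexShape.up ℕ)).obj I.cocomplex
  have hinj : ∀ m, Injective (K.X m) := fun m => by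
    haveI := I.injective m
    exact Injective.injective_of_adjoint (Scheme.Modules.restrictAdjunction U.ι) (I.cocomplex.X m)
  have hH : ∀ m ≤ i, Groth.Agent.CohMop.DCohObj P (K.homology m) := fun m hm j => by
    refine Groth.Agent.CohFound.isCoh_rpush f ?_ j
    exact Groth.Agent.CohMop.isCoh_of_iso (I.isoRightDerivedObj (Scheme.Modules.pushforward U.ι) m) (hg m (hm.trans hi))
  refine Groth.Agent.CohMop.isCoh_of_iso (I.isoRightDerivedObj (Scheme.Modules.pushforward (U.ι ≫ f)) i ≪≫
    (HomologicalComplex.homologyFunctor _ _ i).mapIso
      ((Functor.mapHomologicalComplexCompIso (Scheme.Modules.pushforwardComp U.ι f) (ComplexShape.up ℕ)).symm.app _)).symm ?_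
  exact Groth.Agent.CohMop.isCoh_homology_map_le P K
    (fun m q hq => @isZero_rightDerived_of_injective X S f _ _ (K.X m) (hinj m) q hq) i hH

end Groth.Agent.S5186
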