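import Groth.Statements.S5189
import Groth.Agent.Lib.BCInj6.Edge
import Groth.Agent.Lib.EtLocCoh19.Global

set_option autoImplicit false
universe u
open CategoryTheory CategoryTheory.Limits AlgebraicGeometry Opposite
open EtDepth

namespace Groth.Agent.S5189

/-- For an abelian sheaf. Let X be a scheme, j : U → X an open immersion with closed complement Y, F an
abelian sheaf on the small étale site of X and n ≥ 0, and suppose the Y-étale depth of F is ≥ n (the
local cohomology sheaves H^p_Y(F) vanish for p < n). Then the edge homomorphism H^n_Y(X, F) → H^0(X,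
H^n_Y(F)) of the spectral sequence of the composite functor Γ(X, −) ∘ Γ_Y, from the n-th local
cohomology group to the group of global sections of the n-th local cohomology sheaf, is an
isomorphism. -/
theorem result {X U : Scheme.{u}} (j : U ⟶ X) [IsOpenImmersion j] [EtCoh.BCCont j] (F : EtCoh.Ab X) (n : ℕ) (h : EtDepth.DepthGE j F n) : IsIso (RDer.edgeOut (EtDual.secSupp j) (sheafToPresheaf X.smallEtaleTopology AddCommGrpCat.{u+1} ⋙ (evaluation X.Etaleᵒᵖ AddCommGrpCat.{u+1}).obj (op (EtCoh.top X))) n F) := by
  exact Groth.Agent.BCInj6.isIso_edgeOut (EtDual.secSupp j) _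
    (fun I hI => @Groth.Agent.EtLocCoh19.acy_secSupp _ _ j _ I hI) F n h

end Groth.Agent.S5189
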