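import Groth.Statements.S5190
import Groth.Agent.Lib.ComplFormalH7.Main

set_option autoImplicit false
universe u
open CategoryTheory CategoryTheory.Limits AlgebraicGeometry
open Formal

namespace Groth.Agent.S5190

/-- For a general closed subset T of Spec A. Let A be a Noetherian ring which is a quotient of a regular
ring, t an element of A such that A is separated and complete for the t-adic topology, I an ideal
with T = V(I), X = Spec A − T (the union of the basic opens D(f), f ∈ I), and F a coherent
O_X-module on which multiplication by t is injective. Assume that for every point x of X such that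
codim(cl(x) ∩ T, cl(x)) = 1, closures taken in Spec A, the stalk F_x has depth ≥ n + 1 over O_{X,x}.
Then the canonical map H^i(X, F) → lim_k H^i(X, F/t^(k+1)F) is bijective for i < n and injective for
i = n. -/
theorem result (R : Type u) [CommRing R] [IsRegularRing R] (A : Type u) [CommRing A] [IsNoetherianRing A] (π : R →+* A) (hπ : Function.Surjective π) (t : A) [IsAdicComplete (Ideal.span {t}) A] (I : Ideal A) (F : (↑(⨆ f : ↥I, (Spec (CommRingCat.of A)).basicOpen ((Scheme.ΓSpecIso (CommRingCat.of A)).inv f.1)) : Scheme.{u}).Modules) (hF : Coh.IsCoh F) (hreg : Mono (Formal.smulMod A F t)) (n : ℕ) (hdepth : ∀ x : (↑(⨆ f : ↥I, (Spec (CommRingCat.of A)).basicOpen ((Scheme.ΓSpecIso (CommRingCat.of A)).inv f.1)) : Scheme.{u}), SGA2.relCodim I ((⨆ f : ↥I, (Spec (CommRingCat.of A)).basicOpen ((Scheme.ΓSpecIso (CommRingCat.of A)).inv f.1)).ι.base x) = 1 → ((n + 1 : ℕ) : ℕ∞) ≤ LocCoh.depth ((↑(⨆ f : ↥I, (Spec (CommRingCat.of A)).basicOpen ((Scheme.ΓSpecIso (CommRingCat.of A)).inv f.1)) : Scheme.{u}).presheaf.stalk x) (F.presheaf.stalk x)) (i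 : ℕ) : (i < n → Function.Bijective (Formal.toHHlim (Ideal.span {t}) F i)) ∧ (i = n → Function.Injective (Formal.toHHlim (Ideal.span {t}) F i)) := by
  open Groth.Agent.ComplFormalH7 in
  exact toHHlim_of_depth R π hπ t I (iSup_basicOpen_eq I) F hF hreg n
    (fun x q hq hpq => hdepth x (relCodim_eq_one (fun hle => ((SetLike.ext_iff.1 (iSup_basicOpen_eq I) _).1 x.2) hle) hq hpq)) i

end Groth.Agent.S5190
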