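import Groth.Statements.S5192
import Groth.Agent.Lib.NFlatFormalH7.Lef

set_option autoImplicit false
universe u
open CategoryTheory CategoryTheory.Limits AlgebraicGeometry
open LefX

namespace Groth.Agent.S5192

/-- Normal flatness assumed along all of X_0. Let A be a Noetherian ring which is a quotient of a
regular ring, J an ideal such that A is separated and complete for the J-adic topology, X = Spec A,
X_0 = V(J), I an ideal with Y = V(I), U = X − Y (the union of the D(f), f ∈ I) and U_0 = U ∩ X_0.
Assume: (a) every J^n/J^(n+1) is flat over A/J (X normally flat along X_0); (b) for every prime p ⊇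
I + J the local ring (A/J)_p has depth ≥ 3; (c) for every prime p ⊇ I not containing J, A_p has
depth ≥ 3. Then (1) for every finite locally free O_U-module D the map Hom(D, O_U) → lim_n Hom(D,
O_U/J^(n+1)O_U) is bijective (completion along U_0 is fully faithful on finite locally free
modules), and (2) every levelwise finite locally free system of coherent modules on the completion
of U along U_0 is isomorphic to the completion of a coherent O_U-module. (The published statement
asks normal flatness only at the points of Y ∩ X_0; this row assumes it along all of X_0.) -/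
theorem result (R : Type u) [CommRing R] [IsRegularRing R] (A : Type u) [CommRing A] [IsNoetherianRing A] (π : R →+* A) (hπ : Function.Surjective π) (J : Ideal A) [IsAdicComplete J A] (I : Ideal A) (ha : ∀ n : ℕ, Module.Flat (A ⧸ J) (↥(J ^ n) ⧸ (J • (⊤ : Submodule A ↥(J ^ n))))) (hb : ∀ p : Ideal A, ∀ _ : p.IsPrime, I ≤ p → J ≤ p → (3 : ℕ∞) ≤ LocCoh.depth (Localization.AtPrime p) (Localization.AtPrime p ⧸ J.map (algebraMap A (Localization.AtPrime p)))) (hc : ∀ p : Ideal A, ∀ _ : p.IsPrime, I ≤ p → ¬ J ≤ p → (3 : ℕ∞) ≤ LocCoh.depth (Localization.AtPrime p) (Localization.AtPrime p)) : (∀ D : (↑(⨆ f : ↥I, (Spec (CommRingCat.of A)).basicOpen ((Scheme.ΓSpecIso (CommRingCat.of A)).inv f.1)) : Scheme.{u}).Modules, FlatMod.IsFinLocFree D → Lef.HomToFormalBijective ((Spec.map (CommRingCat.ofHom (Ideal.Quotient.mk J))).ker.comap (⨆ f : ↥I, (Spec (CommRingCat.of A)).basicOpen ((Scheme.ΓSpecIso (CommRingCat.of A)).inv f.1)).ι) D) ∧ (∀ 𝔐 : FSch.ModSys (FSch.completionAlong (↑(⨆ f : ↥I, (Spec (CommRingCat.of A)).basicOpen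 ((Scheme.ΓSpecIso (CommRingCat.of A)).inv f.1)) : Scheme.{u}) ((Spec.map (CommRingCat.ofHom (Ideal.Quotient.mk J))).ker.comap (⨆ f : ↥I, (Spec (CommRingCat.of A)).basicOpen ((Scheme.ΓSpecIso (CommRingCat.of A)).inv f.1)).ι)), LefX.LevelwiseFinLocFree 𝔐 → ∃ F : (↑(⨆ f : ↥I, (Spec (CommRingCat.of A)).basicOpen ((Scheme.ΓSpecIso (CommRingCat.of A)).inv f.1)) : Scheme.{u}).Modules, Coh.IsCoh F ∧ Nonempty (FSch.completionMod ((Spec.map (CommRingCat.ofHom (Ideal.Quotient.mk J))).ker.comap (⨆ f : ↥I, (Spec (CommRingCat.of A)).basicOpen ((Scheme.ΓSpecIso (CommRingCat.of A)).inv f.1)).ι) F ≅ 𝔐)) := by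
  open Groth.Agent in
  exact NFlatFormalH7.lef_and_algebraization ha
    (NFlatFormalH7.idealDepth_quotient_of_local I J 3 fun p hIp hJp => hb p.asIdeal p.isPrime hIp hJp)
    (ComplFormalH7.iSup_basicOpen_eq I)

end Groth.Agent.S5192
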