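import Groth.Statements.S5195
import Groth.Agent.Lib.EnriquesSeveri11.Lef
import Groth.Agent.Lib.FlatDepth.FibreStalk

set_option autoImplicit false
set_option backward.isDefEq.respectTransparency false
universe u
open CategoryTheory CategoryTheory.Limits AlgebraicGeometry
open Lef

namespace Groth.Agent.S5195

/-- For the structure sheaf, with the key step of its proof made explicit. Let A be a Noetherian ring, X
a proper A-scheme and 𝓘 a quasi-coherent ideal whose ideal module is invertible with ample inverse L
(Y = V(𝓘) is an ample effective Cartier divisor), and let Z be a closed subset of X not meeting Y.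
Then (1) every point of Z is closed in its fibre over Spec A (indeed Z is finite over A, being
proper and contained in the affine X − Y); and (2) if moreover X is flat over A and for every s the
fibre X_s has depth ≥ n at each of its closed points, then the local ring O_{X,z} has depth ≥ n at
every point z of Z. (The published statement allows any coherent module flat over the base whose
fibres have depth ≥ n at closed points; this row takes the structure sheaf.) -/
theorem result (A : Type u) [CommRing A] [IsNoetherianRing A] (X : Scheme.{u}) [X.Over (Spec (CommRingCat.of A))] [IsProper (X ↘ Spec (CommRingCat.of A))] (𝓘 : X.IdealSheafData) (L : X.Modules) (hL : ClSub.IsInverseOf L (ClSub.idealMod 𝓘)) (hamp : CohB1.IsAmple L) (Z : Set X) (hZ : IsClosed Z) (hZY : Disjoint Z (𝓘.support : Set X)) (n : ℕ) : (∀ z : X, z ∈ Z → IsClosed ({((X ↘ Spec (CommRingCat.of A))).asFiber z} : Set ↥(((X ↘ Spec (CommRingCat.of A))).fiber (((X ↘ Spec (CommRingCat.of A))).base z)))) ∧ (Flat (X ↘ Spec (CommRingCat.of A)) → (∀ x : X, IsClosed ({((X ↘ Spec (CommRingCat.of A))).asFiber x} : Set ↥(((X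 ↘ Spec (CommRingCat.of A))).fiber (((X ↘ Spec (CommRingCat.of A))).base x))) → (n : ℕ∞) ≤ LocCoh.depth ↑(CInt.fiberStalk (X ↘ Spec (CommRingCat.of A)) x) ↑(CInt.fiberStalk (X ↘ Spec (CommRingCat.of A)) x)) → ∀ z : X, z ∈ Z → (n : ℕ∞) ≤ LocCoh.depth (X.presheaf.stalk z) (X.presheaf.stalk z)) := by
  obtain ⟨e⟩ := hL
  let f := X ↘ Spec (CommRingCat.of A)
  have hG := Groth.Agent.ES11.isAffineOpen_compl_support f e hamp
  have h1 : ∀ z : X, z ∈ Z → IsClosed ({f.asFiber z} : Set ↥(f.fiber (f.base z))) := by
    intro z hz
    letI : (f.fiber (f.base z)).Over (Spec (CommRingCat.of ((Spec (CommRingCat.of A)).residueField (f.base z)))) :=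
      ⟨f.fiberToSpecResidueField (f.base z)⟩
    haveI : IsProper ((f.fiber (f.base z)) ↘
        Spec (CommRingCat.of ((Spec (CommRingCat.of A)).residueField (f.base z)))) :=
      MorphismProperty.pullback_snd _ _ (inferInstanceAs (IsProper f))
    haveI : IsAffineHom (f.fiberι (f.base z)) := MorphismProperty.pullback_fst _ _ inferInstance
    refine Groth.Agent.ES11.isClosed_singleton_of_subset_affine
      (k := ((Spec (CommRingCat.of A)).residueField (f.base z))) (hG.preimage (f.fiberι (f.base z)))
      (hZ.preimage (f.fiberι (f.base z)).continuous) (Set.preimage_mono fun w hw hw' => hZY.le_bot ⟨hw, hw'⟩) ?_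
    rw [Set.mem_preimage, f.fiberι_asFiber]
    exact hz
  refine ⟨h1, fun hflat hd z hz => ?_⟩
  haveI : AlgebraicGeometry.IsNoetherian X := Groth.Agent.CohFound.isNoetherian_of_isProper f
  haveI : Flat f := hflat
  rw [(Groth.Agent.FlatDepth.stalk_invariants f z).1]
  exact (hd z (h1 z hz)).trans le_add_self

end Groth.Agent.S5195
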