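import Groth.Statements.S5196
import Mathlib
import Groth.Agent.Lib.FibDim14.BaseChange

set_option autoImplicit false
universe u
open CategoryTheory CategoryTheory.Limits AlgebraicGeometry Opposite
open EtDepth

namespace Groth.Agent.S5196

section Aux

open AlgebraicGeometry CategoryTheory Limits IsLocalRing Groth.Agent.FibDim14

set_option maxHeartbeats 1000000
set_option backward.isDefEq.respectTransparency.types false

variable {A A' : Type u} [CommRing A] [CommRing A'] [IsLocalRing A] [IsLocalRing A'] [IsNoetherianRing A]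
  [IsNoetherianRing A'] [Algebra A A'] [Module.FaithfullyFlat A A']

lemma comap_maximal (hfib : ∀ q : Ideal A', ∀ _ : q.IsPrime, q.comap (algebraMap A A') = IsLocalRing.maximalIdeal A →
    q = IsLocalRing.maximalIdeal A') :
    (maximalIdeal A').comap (algebraMap A A') = maximalIdeal A := by
  obtain ⟨P, hP⟩ := PrimeSpectrum.comap_surjective_of_faithfullyFlat (B := A')
    (⟨maximalIdeal A, inferInstance⟩ : PrimeSpectrum A)
  have h := congrArg PrimeSpectrum.asIdeal hP
  rw [← hfib P.asIdeal P.isPrime h]
  exact h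

lemma dim_quot_le (hfib : ∀ q : Ideal A', ∀ _ : q.IsPrime, q.comap (algebraMap A A') = IsLocalRing.maximalIdeal A →
    q = IsLocalRing.maximalIdeal A') (s' : Ideal A') [s'.IsPrime] :
    ringKrullDim (A' ⧸ s') ≤ ringKrullDim (A ⧸ s'.comap (algebraMap A A')) := by
  let s := s'.comap (algebraMap A A')
  let R := A ⧸ s
  let B := A' ⧸ s'
  haveI : s'.LiesOver s := ⟨rfl⟩
  haveI : IsLocalRing R := IsLocalRing.of_surjective' (Ideal.Quotient.mk s) Ideal.Quotient.mk_surjective
  haveI : IsLocalRing B := IsLocalRing.of_surjective' (Ideal.Quotient.mk s') Ideal.Quotient.mk_surjective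
  haveI : IsLocalHom (Ideal.Quotient.mk s) := IsLocalHom.of_surjective _ Ideal.Quotient.mk_surjective
  haveI : IsLocalHom (Ideal.Quotient.mk s') := IsLocalHom.of_surjective _ Ideal.Quotient.mk_surjective
  have hm : (maximalIdeal B).comap (algebraMap R B) = maximalIdeal R := by
    ext r
    obtain ⟨r, rfl⟩ := Ideal.Quotient.mk_surjective r
    have h : r ∈ (maximalIdeal A').comap (algebraMap A A') ↔ r ∈ maximalIdeal A := by rw [comap_maximal hfib]
    show Ideal.Quotient.mk s' (algebraMap A A' r) ∈ maximalIdeal B ↔ Ideal.Quotient.mk s r ∈ maximalIdeal R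
    rw [← Ideal.mem_comap (f := Ideal.Quotient.mk s'), IsLocalRing.maximalIdeal_comap,
      ← Ideal.mem_comap (f := Ideal.Quotient.mk s), IsLocalRing.maximalIdeal_comap]
    exact h
  haveI : (maximalIdeal B).LiesOver (maximalIdeal R) := ⟨hm.symm⟩
  have key := Ideal.height_le_height_add_of_liesOver (maximalIdeal R) (maximalIdeal B)
  have h0 : ((maximalIdeal B).map (Ideal.Quotient.mk ((maximalIdeal R).map (algebraMap R B)))).height = 0 := by
    have hle : (maximalIdeal R).map (algebraMap R B) ≤ maximalIdeal B :=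
      Ideal.map_le_iff_le_comap.mpr hm.ge
    haveI : ((maximalIdeal B).map (Ideal.Quotient.mk ((maximalIdeal R).map (algebraMap R B)))).IsPrime :=
      Ideal.map_isPrime_of_surjective Ideal.Quotient.mk_surjective (by rw [Ideal.mk_ker]; exact hle)
    rw [Ideal.height_eq_zero_iff]
    refine ⟨⟨inferInstance, bot_le⟩, fun Q hQ hQle => ?_⟩
    haveI := hQ.1
    let Q1 : Ideal B := Q.comap (Ideal.Quotient.mk _)
    haveI : Q1.IsPrime := inferInstanceAs (Q.comap (Ideal.Quotient.mk _)).IsPrime
    let Q2 : Ideal A' := Q1.comap (Ideal.Quotient.mk s')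
    have hQ2le : Q1 ≤ maximalIdeal B := IsLocalRing.le_maximalIdeal (Ideal.IsPrime.ne_top inferInstance)
    have hQ2 : Q2 = maximalIdeal A' := by
      refine hfib Q2 inferInstance (le_antisymm (IsLocalRing.le_maximalIdeal (Ideal.IsPrime.ne_top inferInstance)) ?_)
      intro r hr
      show Ideal.Quotient.mk ((maximalIdeal R).map (algebraMap R B)) (Ideal.Quotient.mk s' (algebraMap A A' r)) ∈ Q
      have : Ideal.Quotient.mk s' (algebraMap A A' r) ∈ (maximalIdeal R).map (algebraMap R B) :=
        Ideal.mem_map_of_mem (algebraMap R B) (x := Ideal.Quotient.mk s r)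
          (fun hu => (IsLocalRing.mem_maximalIdeal r).mp hr (isUnit_of_map_unit _ _ hu))
      rw [Ideal.Quotient.eq_zero_iff_mem.mpr this]
      exact zero_mem _
    intro z hz
    obtain ⟨z, rfl⟩ := Ideal.Quotient.mk_surjective z
    obtain ⟨a, rfl⟩ := Ideal.Quotient.mk_surjective z
    show a ∈ Q2
    rw [hQ2]
    intro hu
    have h3 := (hu.map (Ideal.Quotient.mk s')).map (Ideal.Quotient.mk ((maximalIdeal R).map (algebraMap R B)))
    exact (Ideal.map_isPrime_of_surjective Ideal.Quotient.mk_surjective
      (by rw [Ideal.mk_ker]; exact hle) : ((maximalIdeal B).map (Ideal.Quotient.mk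
        ((maximalIdeal R).map (algebraMap R B)))).IsPrime).ne_top (Ideal.eq_top_of_isUnit_mem _ hz h3)
  rw [h0, add_zero] at key
  rw [← IsLocalRing.maximalIdeal_height_eq_ringKrullDim, ← IsLocalRing.maximalIdeal_height_eq_ringKrullDim]
  exact WithBot.coe_le_coe.mpr key

lemma exists_dim_quot_eq (hfib : ∀ q : Ideal A', ∀ _ : q.IsPrime, q.comap (algebraMap A A') = IsLocalRing.maximalIdeal A →
    q = IsLocalRing.maximalIdeal A') (s : Ideal A) [s.IsPrime] :
    ∃ s' : Ideal A', ∃ _ : s'.IsPrime, s'.comap (algebraMap A A') = s ∧ ringKrullDim (A' ⧸ s') = ringKrullDim (A ⧸ s) := by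
  haveI : IsLocalRing (A ⧸ s) := IsLocalRing.of_surjective' (Ideal.Quotient.mk s) Ideal.Quotient.mk_surjective
  let e := Ideal.primeSpectrumQuotientOrderIsoZeroLocus s
  obtain ⟨l0, hl0, hlen⟩ := (maximalIdeal (A ⧸ s)).exists_ltSeries_length_eq_height
  let l : LTSeries (PrimeSpectrum A) := l0.map (PrimeSpectrum.comap (Ideal.Quotient.mk s))
    (RingHom.strictMono_comap_of_surjective Ideal.Quotient.mk_surjective)
  haveI : IsLocalHom (Ideal.Quotient.mk s) := IsLocalHom.of_surjective _ Ideal.Quotient.mk_surjective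
  have hlast : l.last.asIdeal = maximalIdeal A := by
    simp only [l, LTSeries.last_map, hl0, PrimeSpectrum.comap_asIdeal]
    exact IsLocalRing.maximalIdeal_comap _
  haveI : (maximalIdeal A').LiesOver l.last.asIdeal := ⟨hlast.trans (comap_maximal hfib).symm⟩
  obtain ⟨L, hLlen, -, hLmap⟩ := Ideal.exists_ltSeries_of_hasGoingDown l (maximalIdeal A')
  -- the head of the lifted series
  have hLhead : PrimeSpectrum.comap (algebraMap A A') L.head = l.head := by
    rw [← L.toList_getElem_zero_eq_head, ← l.toList_getElem_zero_eq_head,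
      ← List.getElem_of_eq hLmap (i := 0) (by simp), List.getElem_map]
  have hsl : s ≤ l.head.asIdeal := by
    intro a ha
    simp only [l, LTSeries.head_map, PrimeSpectrum.comap_asIdeal, Ideal.mem_comap]
    rw [Ideal.Quotient.eq_zero_iff_mem.mpr ha]
    exact zero_mem _
  haveI : Algebra.HasGoingDown A A' := Algebra.HasGoingDown.of_flat
  haveI : L.head.asIdeal.LiesOver l.head.asIdeal := ⟨(congrArg PrimeSpectrum.asIdeal hLhead).symm⟩
  obtain ⟨s', hs'le, hs'p, hs'o⟩ := Ideal.exists_ideal_le_liesOver_of_le (p := s) (q := l.head.asIdeal)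
    L.head.asIdeal hsl
  haveI := hs'p
  have hs' : s'.comap (algebraMap A A') = s := hs'o.over.symm
  refine ⟨s', hs'p, hs', le_antisymm (hs' ▸ dim_quot_le hfib s') ?_⟩
  rw [← IsLocalRing.maximalIdeal_height_eq_ringKrullDim, ← hlen, ringKrullDim_quotient]
  have hge : ((l0.length : ℕ) : WithBot ℕ∞) ≤ (Order.coheight L.head : WithBot ℕ∞) := by
    have h := Order.length_le_coheight_head (p := L)
    rw [hLlen, show l.length = l0.length from rfl] at h
    exact_mod_cast h
  refine le_trans hge ?_
  rw [Order.coheight_eq_krullDim_Ici]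
  exact Order.krullDim_le_of_strictMono
    (fun q : Set.Ici L.head => (⟨q.1, SetLike.coe_subset_coe.mpr (hs'le.trans q.2)⟩ : PrimeSpectrum.zeroLocus (s' : Set A')))
    fun _ _ h => h

end Aux


/-- Let A → A' be a faithfully flat homomorphism of Noetherian local rings whose fibre over the closed
point of Spec A is the single closed point of Spec A' (the only prime of A' over m_A is m_{A'}), f :
X → Spec A a morphism locally of finite type, X' = X ×_A A' with projections h : X' → X and f' : X'
→ Spec A'. For a point x' of X' put x = h(x'), s = f(x), s' = f'(x'). Then trdeg(κ(x')/κ(s')) ≤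
trdeg(κ(x)/κ(s)) and dim A'/p_{s'} ≤ dim A/p_s, so that δ(x') ≤ δ(x) for δ(x) = trdeg(κ(x)/κ(s)) +
dim cl(s), with equality exactly when both inequalities are equalities; and for every point x of X
there is a point x' of X' over x for which both are equalities. -/
theorem result (A A' : Type u) [CommRing A] [CommRing A'] [IsLocalRing A] [IsLocalRing A'] [IsNoetherianRing A] [IsNoetherianRing A'] [Algebra A A'] [Module.FaithfullyFlat A A'] (hfib : ∀ q : Ideal A', ∀ _ : q.IsPrime, q.comap (algebraMap A A') = IsLocalRing.maximalIdeal A → q = IsLocalRing.maximalIdeal A') (X : Scheme.{u}) (f : X ⟶ (Spec (CommRingCat.of A))) [LocallyOfFiniteType f] : (∀ x' : ↥(pullback f (Spec.map (CommRingCat.ofHom (algebraMap A A')))), @Algebra.trdeg ↑((Spec (CommRingCat.of A')).residueField ((pullback.snd f (Spec.map (CommRingCat.ofHom (algebraMap A A')))).base x')) ↑((pullback f (Spec.map (CommRingCat.ofHom (algebraMap A A')))).residueField x') _ _ ((pullback.snd f (Spec.map (CommRingCat.ofHom (algebraMap A A')))).residueFieldMap x').hom.toAlgebra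 ≤ @Algebra.trdeg ↑((Spec (CommRingCat.of A)).residueField (f.base ((pullback.fst f (Spec.map (CommRingCat.ofHom (algebraMap A A')))).base x'))) ↑(X.residueField ((pullback.fst f (Spec.map (CommRingCat.ofHom (algebraMap A A')))).base x')) _ _ (f.residueFieldMap ((pullback.fst f (Spec.map (CommRingCat.ofHom (algebraMap A A')))).base x')).hom.toAlgebra ∧ ringKrullDim (A' ⧸ ((pullback.snd f (Spec.map (CommRingCat.ofHom (algebraMap A A')))).base x').asIdeal) ≤ ringKrullDim (A ⧸ (f.base ((pullback.fst f (Spec.map (CommRingCat.ofHom (algebraMap A A')))).base x')).asIdeal)) ∧ (∀ x : X, ∃ x' : ↥(pullback f (Spec.map (CommRingCat.ofHom (algebraMap A A')))), (pullback.fst f (Spec.map (CommRingCat.ofHom (algebraMap A A')))).base x' = x ∧ @Algebra.trdeg ↑((Spec (CommRingCat.of A')).residueField ((pullback.snd f (Spec.map (CommRingCat.ofHom (algebraMap A A')))).base x')) ↑((pullback f (Spec.map (CommRingCat.ofHom (algebraMap A A')))).residueField x') _ _ ((pullback.snd f (Spec.map (CommRingCat.ofHom (algebraMap A A')))).residueFieldMap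 x').hom.toAlgebra = @Algebra.trdeg ↑((Spec (CommRingCat.of A)).residueField (f.base ((pullback.fst f (Spec.map (CommRingCat.ofHom (algebraMap A A')))).base x'))) ↑(X.residueField ((pullback.fst f (Spec.map (CommRingCat.ofHom (algebraMap A A')))).base x')) _ _ (f.residueFieldMap ((pullback.fst f (Spec.map (CommRingCat.ofHom (algebraMap A A')))).base x')).hom.toAlgebra ∧ ringKrullDim (A' ⧸ ((pullback.snd f (Spec.map (CommRingCat.ofHom (algebraMap A A')))).base x').asIdeal) = ringKrullDim (A ⧸ (f.base ((pullback.fst f (Spec.map (CommRingCat.ofHom (algebraMap A A')))).base x')).asIdeal)) := by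
  let g := Spec.map (CommRingCat.ofHom (algebraMap A A'))
  have hsq : IsPullback (pullback.fst f g) (pullback.snd f g) f g := IsPullback.of_hasPullback f g
  haveI : LocallyOfFiniteType (pullback.snd f g) := MorphismProperty.pullback_snd _ _ inferInstance
  have hpt : ∀ x', f.base ((pullback.fst f g).base x') = g.base ((pullback.snd f g).base x') := fun x' => by
    rw [← Scheme.Hom.comp_apply, hsq.w, Scheme.Hom.comp_apply]
  refine ⟨fun x' => ⟨?_, ?_⟩, fun x => ?_⟩
  · show Groth.Agent.FibDim14.rdeg (pullback.snd f g) x' ≤ Groth.Agent.FibDim14.rdeg f ((pullback.fst f g).base x')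
    rw [Groth.Agent.FibDim14.rdeg_eq_rd, Groth.Agent.FibDim14.rdeg_eq_rd]
    exact Nat.cast_le.mpr (Groth.Agent.FibDim14.rd_baseChange_le hsq x')
  · rw [hpt]
    exact dim_quot_le hfib _
  · obtain ⟨s', hs'p, hs', hd⟩ := exists_dim_quot_eq hfib (show PrimeSpectrum A from f.base x).asIdeal
    let p : ↥(Spec (CommRingCat.of A')) := (⟨s', hs'p⟩ : PrimeSpectrum A')
    have hp : f.base x = g.base p := (PrimeSpectrum.ext hs').symm
    obtain ⟨x', h1, h2, h3⟩ := Groth.Agent.FibDim14.exists_over_rd_eq hsq x p hp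
    refine ⟨x', h1, ?_, ?_⟩
    · show Groth.Agent.FibDim14.rdeg (pullback.snd f g) x' = Groth.Agent.FibDim14.rdeg f ((pullback.fst f g).base x')
      rw [Groth.Agent.FibDim14.rdeg_eq_rd, Groth.Agent.FibDim14.rdeg_eq_rd, h3, ← h1]
    · rw [h2]
      show ringKrullDim (A' ⧸ s') = ringKrullDim (A ⧸ (f.base ((pullback.fst f g).base x')).asIdeal)
      rw [h1]
      exact hd

end Groth.Agent.S5196
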