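import Groth.Statements.S5198
import Groth.Agent.Lib.DeltaFib27.Geom
import Groth.Agent.Lib.DeltaFib27.Alg

set_option backward.isDefEq.respectTransparency.types false

set_option autoImplicit false
universe u
open CategoryTheory CategoryTheory.Limits AlgebraicGeometry Opposite
open EtDepth

namespace Groth.Agent.S5198

section Aux

open Order Groth.Agent.VarDim

/-- The height of a prime in the fibre ring is at most the codimension of the point in the fibre. -/
lemma height_le_coheight_fiber {A A' : Type u} [CommRing A] [CommRing A'] [Algebra A A']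
    (s : PrimeSpectrum A) (s' : PrimeSpectrum A') (hs : s'.asIdeal.comap (algebraMap A A') = s.asIdeal)
    (g : Spec (CommRingCat.of A') ⟶ Spec (CommRingCat.of A))
    (hg : g = Spec.map (CommRingCat.ofHom (algebraMap A A')))
    (t : g.fiber (s : ↥(Spec (CommRingCat.of A)))) (ht : g.fiberι _ t = s') :
    (s'.asIdeal.map (Ideal.Quotient.mk (s.asIdeal.map (algebraMap A A')))).height ≤ coheight t := by
  let J : Ideal A' := s.asIdeal.map (algebraMap A A')
  have hJ : J ≤ s'.asIdeal := Ideal.map_le_iff_le_comap.2 hs.ge
  haveI : (s'.asIdeal.map (Ideal.Quotient.mk J)).IsPrime :=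
    Ideal.map_isPrime_of_surjective Ideal.Quotient.mk_surjective (by rw [Ideal.mk_ker]; exact hJ)
  let T : PrimeSpectrum (A' ⧸ J) := ⟨s'.asIdeal.map (Ideal.Quotient.mk J), inferInstance⟩
  let c : PrimeSpectrum (A' ⧸ J) → PrimeSpectrum A' := PrimeSpectrum.comap (Ideal.Quotient.mk J)
  have hc : StrictMono c := RingHom.strictMono_comap_of_surjective Ideal.Quotient.mk_surjective
  have hcT : c T = s' := PrimeSpectrum.ext (by
    show (s'.asIdeal.map (Ideal.Quotient.mk J)).comap (Ideal.Quotient.mk J) = s'.asIdeal
    rw [Ideal.comap_map_of_surjective _ Ideal.Quotient.mk_surjective, ← RingHom.ker_eq_comap_bot,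
      Ideal.mk_ker, sup_eq_left.2 hJ])
  rw [show (s'.asIdeal.map (Ideal.Quotient.mk J)).height = height T from PrimeSpectrum.height_eq_orderHeight T]
  refine height_le fun p hp => ?_
  have hmem : ∀ i, g (c (p i)) = (s : ↥(Spec (CommRingCat.of A))) := fun i => by
    subst hg
    refine PrimeSpectrum.ext (le_antisymm ?_ ?_)
    · show (c (p i)).asIdeal.comap (algebraMap A A') ≤ s.asIdeal
      rw [← hs, ← hcT, ← hp]
      exact Ideal.comap_mono (hc.monotone (p.monotone (Fin.le_last i)))
    · show s.asIdeal ≤ (c (p i)).asIdeal.comap (algebraMap A A')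
      intro x hx
      show Ideal.Quotient.mk J (algebraMap A A' x) ∈ (p i).asIdeal
      rw [Ideal.Quotient.eq_zero_iff_mem.2 (Ideal.mem_map_of_mem _ hx)]
      exact zero_mem _
  let ψ : Fin (p.length + 1) → g.fiber (s : ↥(Spec (CommRingCat.of A))) := fun i =>
    (g.fiberHomeo _).symm ⟨c (p i), hmem i⟩
  have hψ : ∀ i, g.fiberι _ (ψ i) = c (p i) := fun i => g.fiberι_fiberHomeo_symm _ _
  let L : LTSeries (g.fiber (s : ↥(Spec (CommRingCat.of A)))) := ⟨p.length, fun i => ψ i.rev, fun i => by
    show ψ i.castSucc.rev < ψ i.succ.rev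
    have hlt : p i.succ.rev < p i.castSucc.rev := p.strictMono (by rw [Fin.rev_lt_rev]; exact i.castSucc_lt_succ)
    refine lt_iff_specializes_and_ne.2 ⟨?_, fun e => ?_⟩
    · rw [← (g.fiberι _).isEmbedding.isInducing.specializes_iff, hψ, hψ]
      exact (PrimeSpectrum.le_iff_specializes _ _).1 (hc hlt).le
    · have := hψ i.castSucc.rev
      rw [e, hψ] at this
      exact (hc hlt).ne this⟩
  refine length_le_coheight (p := L) (le_of_eq ?_)
  refine (g.fiberι _).isEmbedding.injective ?_
  show g.fiberι _ t = g.fiberι _ (ψ (Fin.rev 0))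
  rw [hψ, ht, Fin.rev_zero, ← hcT, ← hp]
  rfl

end Aux

/-- Over affine bases. Let A → A' be a faithfully flat homomorphism of Noetherian rings with A
Cohen–Macaulay and A' catenary, T = V(I) ⊆ Spec A and T' = V(I') ⊆ Spec A' closed subsets with T'
mapping into T, f : X → Spec A locally of finite type, X' = X ×_A A' with projections h : X' → X and
f' : X' → Spec A'. For a point x' of X' put x = h(x'), s = f(x), s' = f'(x'), and let δ_T(x) =
trdeg(κ(x)/κ(s)) + codim(cl(s) ∩ T, cl(s)), δ_{T'}(x') likewise, assuming cl(s') meets T' (so both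
codimensions are finite). Then δ_T(x) − δ_{T'}(x') ≤ dim h_{x'}^{-1}(x), the dimension of the local
ring at x' of the fibre of h over x; written additively with the five quantities pinned to natural
numbers. (The published statement assumes A and A' only catenary. In that generality it fails: for a
two-dimensional catenary Noetherian local domain A whose completion A' has a one-dimensional
irreducible component, with T and T' the closed points, X = Spec A and x' the generic point of that
component, the left side is 2 and the right side is 1. The published proof uses additivity of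
codimension inside the preimage of cl(s) in Spec A', which needs the irreducible components of Spec
A' through a point not to have smaller local dimension than Spec A at the image point; flatness
gives this when A is Cohen–Macaulay, the hypothesis this row takes, and A is then catenary.) -/
theorem result (A A' : Type u) [CommRing A] [CommRing A'] [IsNoetherianRing A] [IsNoetherianRing A'] (hcm : LocCoh.IsCohenMacaulayRing A) (hcat' : CAlg.IsCatenary A') [Algebra A A'] [Module.FaithfullyFlat A A'] (I : Ideal A) (I' : Ideal A') (hTT : ∀ q : PrimeSpectrum A', I' ≤ q.asIdeal → I ≤ q.asIdeal.comap (algebraMap A A')) (X : Scheme.{u}) (f : X ⟶ (Spec (CommRingCat.of A))) [LocallyOfFiniteType f] (x' : ↥(pullback f (Spec.map (CommRingCat.ofHom (algebraMap A A'))))) (r r' a b e : ℕ) (hr : @Algebra.trdeg ↑((Spec (CommRingCat.of A)).residueField (f.base ((pullback.fst f (Spec.map (CommRingCat.ofHom (algebraMap A A')))).base x'))) ↑(X.residueField ((pullback.fst f (Spec.map (CommRingCat.ofHom (algebraMap A A')))).base x')) _ _ (f.residueFieldMap ((pullback.fst f (Spec.map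 (CommRingCat.ofHom (algebraMap A A')))).base x')).hom.toAlgebra = r) (hr' : @Algebra.trdeg ↑((Spec (CommRingCat.of A')).residueField ((pullback.snd f (Spec.map (CommRingCat.ofHom (algebraMap A A')))).base x')) ↑((pullback f (Spec.map (CommRingCat.ofHom (algebraMap A A')))).residueField x') _ _ ((pullback.snd f (Spec.map (CommRingCat.ofHom (algebraMap A A')))).residueFieldMap x').hom.toAlgebra = r') (ha : SGA2.relCodim I (f.base ((pullback.fst f (Spec.map (CommRingCat.ofHom (algebraMap A A')))).base x')) = a) (hb : SGA2.relCodim I' ((pullback.snd f (Spec.map (CommRingCat.ofHom (algebraMap A A')))).base x') = b) (he : ringKrullDim ↑(CInt.fiberStalk (pullback.fst f (Spec.map (CommRingCat.ofHom (algebraMap A A')))) x') = (e : WithBot ℕ∞)) : r + a ≤ r' + b + e := by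
  classical
  let g := Spec.map (CommRingCat.ofHom (algebraMap A A'))
  have hsq : IsPullback (pullback.fst f g) (pullback.snd f g) f g := IsPullback.of_hasPullback f g
  haveI : LocallyOfFiniteType (pullback.snd f g) := MorphismProperty.pullback_snd _ _ inferInstance
  have hpt : f ((pullback.fst f g) x') = g ((pullback.snd f g) x') := by
    rw [← Scheme.Hom.comp_apply, hsq.w, Scheme.Hom.comp_apply]
  let s : PrimeSpectrum A := f ((pullback.fst f g) x')
  let s' : PrimeSpectrum A' := (pullback.snd f g) x'
  have hs : s'.asIdeal.comap (algebraMap A A') = s.asIdeal := (congrArg PrimeSpectrum.asIdeal hpt).symm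
  let t := (g.fiberHomeo (f ((pullback.fst f g) x'))).symm ⟨(pullback.snd f g) x', hpt.symm⟩
  have ht : g.fiberι _ t = (pullback.snd f g) x' := g.fiberι_fiberHomeo_symm _ _
  have hA := DeltaFib27.relCodim_le_add hcm hcat' I I' hTT s s' hs a b ha hb
  have hN := height_le_coheight_fiber s s' hs g rfl t ht
  have hG := DeltaFib27.coheight_add_rd_le hsq x' t ht
  have h1 : FibDim14.rd f ((pullback.fst f g) x') = r := by
    have h := FibDim14.rdeg_eq_rd f ((pullback.fst f g) x')
    exact Nat.cast_inj.1 (h.symm.trans hr)
  have h2 : FibDim14.rd (pullback.snd f g) x' = r' := by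
    have h := FibDim14.rdeg_eq_rd (pullback.snd f g) x'
    exact Nat.cast_inj.1 (h.symm.trans hr')
  have h3 : Order.coheight ((pullback.fst f g).asFiber x') = (e : ℕ∞) := by
    have h := ringKrullDim_stalk_eq_coheight ((pullback.fst f g).asFiber x')
    exact WithBot.coe_inj.1 (h.symm.trans he)
  rw [h1, h2, h3] at hG
  obtain ⟨N, hNeq⟩ := ENat.ne_top_iff_exists.1 (show Order.coheight t ≠ ⊤ from fun htop => by
    rw [htop, top_add] at hG
    exact absurd hG (not_le.2 (lt_top_iff_ne_top.2 (WithTop.add_ne_top.2 ⟨ENat.natCast_ne_top _, ENat.natCast_ne_top _⟩))))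
  rw [← hNeq] at hN hG
  have hA' : (a : ℕ∞) ≤ (b : ℕ∞) + (N : ℕ∞) := hA.trans (add_le_add le_rfl hN)
  norm_cast at hA' hG
  omega

end Groth.Agent.S5198
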