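import Groth.Statements.S5204
import Groth.Agent.Lib.DescCat8.Basic

set_option autoImplicit false
open CategoryTheory CategoryTheory.Limits
universe w v₁ u₁
open DescCat

namespace Groth.Agent.S5204


/-- In a category with pullbacks: if `u` and `v` are effective epimorphisms and `v` is a universal
epimorphism (all its base changes are epimorphisms), then the composite `v ≫ u` is an effective
epimorphism. -/
theorem result {C : Type u₁} [Category.{v₁} C] [HasPullbacks C]
    {U T S : C} (v : U ⟶ T) (u : T ⟶ S) [EffectiveEpi u] [EffectiveEpi v]
    (hv : MorphismProperty.universally (MorphismProperty.epimorphisms C) v) :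
    EffectiveEpi (v ≫ u) := by
  exact Groth.Agent.DescCat8.effectiveEpi_comp v u hv


end Groth.Agent.S5204
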