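import Groth.Statements.S5208

set_option autoImplicit false
open CategoryTheory CategoryTheory.Limits
universe w v₁ u₁
open DescCat

namespace Groth.Agent.S5208


/-- The strong form established in its proof: if `u : T ⟶ S` admits a section and `T ×_S T` exists, then
for every presheaf of sets `F` the diagram `F(S) → F(T) ⇉ F(T ×_S T)` is exact. In particular `u` is
an effective epimorphism. -/
theorem result {C : Type u₁} [Category.{v₁} C]
    {T S : C} (u : T ⟶ S) [IsSplitEpi u] [HasPullback u u] (F : Cᵒᵖ ⥤ Type w) :
    Function.Injective (F.map u.op) ∧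
      ∀ y : F.obj (Opposite.op T),
        F.map (pullback.fst u u).op y = F.map (pullback.snd u u).op y →
          y ∈ Set.range (F.map u.op) := by
  refine ⟨fun a b h => ?_, fun y hy => ⟨F.map (section_ u).op y, ?_⟩⟩
  · have h' := congrArg (F.map (section_ u).op) h
    simp only [← ConcreteCategory.comp_apply, ← F.map_comp, ← op_comp, IsSplitEpi.id, op_id, F.map_id,
      ConcreteCategory.id_apply] at h'
    exact h'
  · have hw : (u ≫ section_ u) ≫ u = (𝟙 T) ≫ u := by rw [Category.assoc, IsSplitEpi.id, Category.comp_id, Category.id_comp]
    have h' := congrArg (F.map (pullback.lift (u ≫ section_ u) (𝟙 T) hw).op) hy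
    simp only [← ConcreteCategory.comp_apply, ← F.map_comp, ← op_comp, pullback.lift_fst, pullback.lift_snd,
      op_id, F.map_id, ConcreteCategory.id_apply] at h' ⊢
    exact h'


end Groth.Agent.S5208
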