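import Groth.Statements.S5209
import Groth.Agent.Lib.DescCat8.Basic

set_option autoImplicit false
open CategoryTheory CategoryTheory.Limits
universe w v₁ u₁
open DescCat

namespace Groth.Agent.S5209


/-- In a category with pullbacks, let `f : S' ⟶ S` be a universal effective epimorphism, that is, a
morphism all of whose base changes are effective epimorphisms. Then a morphism `g` over `S` is an
isomorphism (resp. a monomorphism) if and only if its base change along `f` is. -/
theorem result {C : Type u₁} [Category.{v₁} C] [HasPullbacks C]
    {S' S : C} (f : S' ⟶ S) (hf : (MorphismProperty.universally (fun (A B : C) (p : A ⟶ B) => EffectiveEpi p)) f) {X Y : Over S} (g : X ⟶ Y) :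
    (IsIso g ↔ IsIso ((Over.pullback f).map g)) ∧ (Mono g ↔ Mono ((Over.pullback f).map g)) := by
  have hsq : IsPullback ((Over.pullback f).map g).left (pullback.fst X.hom f) (pullback.fst Y.hom f) g.left := by
    have h1 : IsPullback (pullback.fst X.hom f) (((Over.pullback f).map g).left ≫ pullback.snd Y.hom f)
        (g.left ≫ Y.hom) f := by
      convert IsPullback.of_hasPullback X.hom f using 1
      · exact pullback.lift_snd _ _ _
      · exact Over.w g
    exact (IsPullback.of_bot h1 (pullback.lift_fst _ _ _).symm (IsPullback.of_hasPullback Y.hom f)).flip
  have hq := Groth.Agent.DescCat8.UEE_pullback_fst hf Y.hom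
  refine ⟨⟨fun h => inferInstance, fun h => ?_⟩, ⟨fun h => ?_, fun h => ?_⟩⟩
  · haveI := h
    haveI : IsIso ((Over.pullback f).map g).left :=
      inferInstanceAs (IsIso ((Over.forget S').map ((Over.pullback f).map g)))
    haveI : IsIso g.left := Groth.Agent.DescCat8.isIso_of_isPullback hsq hq
    haveI : IsIso ((Over.forget S).map g) := inferInstanceAs (IsIso g.left)
    exact isIso_of_reflects_iso g (Over.forget S)
  · haveI := h
    exact (Over.pullback f).map_mono g
  · haveI := h
    haveI : Mono ((Over.pullback f).map g).left := Over.mono_left_of_mono _
    haveI : Mono g.left := Groth.Agent.DescCat8.mono_of_isPullback hsq hq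
    exact Over.mono_of_mono_left g


end Groth.Agent.S5209
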