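import Groth.Statements.S5211
import Groth.Agent.Lib.DescCat8.Basic

set_option autoImplicit false
open CategoryTheory CategoryTheory.Limits
universe w v₁ u₁
open DescCat

namespace Groth.Agent.S5211


/-- In a category with pullbacks: if `f : S' ⟶ S` is a universal effective epimorphism and the canonical
map `S' ×_S S' ⟶ S' ×_T S'` induced by `g : S ⟶ T` is an isomorphism, then `g` is a monomorphism. -/
theorem result {C : Type u₁} [Category.{v₁} C] [HasPullbacks C]
    {S' S T : C} (f : S' ⟶ S) (hf : (MorphismProperty.universally (fun (A B : C) (p : A ⟶ B) => EffectiveEpi p)) f) (g : S ⟶ T)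
    [IsIso (pullback.mapDesc f f g)] : Mono g := by
  refine ⟨fun {Z} g₁ g₂ h => ?_⟩
  obtain ⟨Z', q, a₁, a₂, hq, h1, h2⟩ :=
    Groth.Agent.DescCat8.exists_epi_lift (Groth.Agent.DescCat8.universally_epi_of_UEE hf) g₁ g₂
  rw [← cancel_epi q, ← h1, ← h2]
  have w : a₁ ≫ f ≫ g = a₂ ≫ f ≫ g := by rw [reassoc_of% h1, reassoc_of% h2, h]
  have e1 := pullback.lift_fst a₁ a₂ w
  have e2 := pullback.lift_snd a₁ a₂ w
  have key : pullback.fst (f ≫ g) (f ≫ g) ≫ f = pullback.snd (f ≫ g) (f ≫ g) ≫ f := by
    rw [← cancel_epi (pullback.mapDesc f f g)]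
    rw [pullback.mapDesc, pullback.map, pullback.lift_fst_assoc, pullback.lift_snd_assoc]
    simp [pullback.condition]
  have e3 := congrArg (pullback.lift a₁ a₂ w ≫ ·) key
  simp only [reassoc_of% e1, reassoc_of% e2] at e3
  exact e3


end Groth.Agent.S5211
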