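import Groth.Statements.S5212
import Mathlib.LinearAlgebra.Charpoly.BaseChange
import Mathlib.LinearAlgebra.Determinant
import Mathlib.RingTheory.Ideal.Over
import Mathlib.RingTheory.TensorProduct.Finite
import Mathlib.RingTheory.LocalRing.ResidueField.Ideal

set_option autoImplicit false
universe u
open GrpQ

namespace Groth.Agent.S5212

open TensorProduct

/-- For `A'` finite and free as an `A`-module, a prime `p` of `A` and `a ∈ A'`, the element `a` belongs
to some prime of `A'` lying over `p` if and only if its norm belongs to `p`. (The published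
statement allows `A'` projective of constant rank over `A`; this row takes `A'` free, where the norm
is the determinant of multiplication.) -/
theorem result {A A' : Type u} [CommRing A] [CommRing A'] [Algebra A A']
    [Module.Free A A'] [Module.Finite A A'] (p : Ideal A) [p.IsPrime] (a : A') :
    (∃ q : Ideal A', q.IsPrime ∧ q.LiesOver p ∧ a ∈ q) ↔ Algebra.norm A a ∈ p := by
  classical
  let κ := p.ResidueField
  have hdet : Algebra.norm κ ((1 : κ) ⊗ₜ[A] a) = algebraMap A κ (Algebra.norm A a) := by
    rw [Algebra.norm_apply, Algebra.norm_apply, ← Algebra.baseChange_lmul, LinearMap.det_baseChange]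
  have hker : Algebra.norm A a ∈ p ↔ Algebra.norm κ ((1 : κ) ⊗ₜ[A] a) = 0 := by
    rw [hdet, ← RingHom.mem_ker, Ideal.ker_algebraMap_residueField]
  rw [hker]
  constructor
  · rintro ⟨q, hq, hover, haq⟩
    by_contra hne
    have hu : IsUnit ((1 : κ) ⊗ₜ[A] a) := by
      have h1 : IsUnit (Algebra.lmul κ (κ ⊗[A] A') ((1 : κ) ⊗ₜ[A] a)) :=
        (LinearMap.isUnit_iff_isUnit_det _).mpr (isUnit_iff_ne_zero.mpr (by rwa [Algebra.norm_apply] at hne))
      exact (Algebra.lmul_isUnit_iff).mp h1
    let e : κ ⊗[A] A' →ₐ[A] q.ResidueField :=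
      Algebra.TensorProduct.lift (Ideal.ResidueField.mapₐ p q (Algebra.ofId A A') hover.over) (IsScalarTower.toAlgHom A A' q.ResidueField) (fun x y => Commute.all _ _)
    have h0 : e ((1 : κ) ⊗ₜ[A] a) = 0 := by
      simpa [e, ← RingHom.mem_ker, Ideal.ker_algebraMap_residueField] using haq
    exact (hu.map e).ne_zero h0
  · intro h
    have hu : ¬ IsUnit ((1 : κ) ⊗ₜ[A] a) := fun hu => (hu.map (Algebra.norm κ)).ne_zero h
    obtain ⟨Q, hQ, haQ⟩ := exists_max_ideal_of_mem_nonunits hu
    have := hQ.isPrime
    refine ⟨Q.comap (Algebra.TensorProduct.includeRight : A' →ₐ[A] κ ⊗[A] A'), inferInstance, ⟨?_⟩, haQ⟩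
    ext x
    have : Algebra.TensorProduct.includeRight (R := A) (A := κ) (algebraMap A A' x) = algebraMap κ (κ ⊗[A] A') (algebraMap A κ x) := by
      rw [AlgHom.commutes, ← IsScalarTower.algebraMap_apply]
    rw [Ideal.under_def, Ideal.mem_comap, Ideal.mem_comap, this]
    conv_lhs => rw [← Ideal.ker_algebraMap_residueField p, RingHom.mem_ker]
    constructor
    · intro h
      change algebraMap A κ x = 0 at h
      simp [h]
    · intro h
      by_contra hne
      exact hQ.ne_top (Q.eq_top_of_isUnit_mem h ((isUnit_iff_ne_zero.mpr hne).map _))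

end Groth.Agent.S5212
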