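import Groth.Statements.S5213
import Mathlib.Algebra.Module.Submodule.Union
import Mathlib.LinearAlgebra.Determinant
import Mathlib.LinearAlgebra.Matrix.NonsingularInverse
import Mathlib.LinearAlgebra.Dimension.Free
import Mathlib.RingTheory.Ideal.Quotient.Basic
import Mathlib.Algebra.Module.Torsion.Basic
import Mathlib.LinearAlgebra.FiniteDimensional.Lemmas
import Mathlib.LinearAlgebra.Dimension.OrzechProperty

set_option autoImplicit false
universe u
open GrpQ

namespace Groth.Agent.S5213

open IsLocalRing in
theorem exists_forall_notMem_of_residue {B N : Type*} [CommRing B] [IsLocalRing B]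
    [Infinite (IsLocalRing.ResidueField B)] [AddCommGroup N] [Module B N] {ι : Type*} [Finite ι]
    (P : ι → Submodule B N) (hP : ∀ i, maximalIdeal B • (⊤ : Submodule B N) ≤ P i)
    (h : ∀ i, P i ≠ ⊤) : ∃ x, ∀ i, x ∉ P i := by
  let I := maximalIdeal B
  let Q := N ⧸ (I • (⊤ : Submodule B N))
  haveI : Infinite (B ⧸ I) := ‹Infinite (IsLocalRing.ResidueField B)›
  letI : Field (B ⧸ I) := Ideal.Quotient.field I
  let π : N →ₗ[B] Q := Submodule.mkQ _
  let p : ι → Submodule (B ⧸ I) Q := fun i ↦
    { carrier := (P i).map π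
      add_mem' := fun ha hb ↦ ((P i).map π).add_mem ha hb
      zero_mem' := ((P i).map π).zero_mem
      smul_mem' := fun c x hx ↦ by
        obtain ⟨b, rfl⟩ := Ideal.Quotient.mk_surjective c
        exact ((P i).map π).smul_mem b hx }
  obtain ⟨x, hx⟩ := Submodule.exists_forall_notMem_of_forall_ne_top p fun i hi ↦ h i <| by
    rw [eq_top_iff]
    intro n _
    have : π n ∈ p i := hi ▸ Submodule.mem_top
    obtain ⟨m, hm, e⟩ := this
    have : m - n ∈ I • (⊤ : Submodule B N) := (Submodule.Quotient.eq _).1 e
    have := (P i).sub_mem hm (hP i this)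
    simpa using this
  obtain ⟨n, rfl⟩ := Submodule.mkQ_surjective _ x
  exact ⟨n, fun i hn ↦ hx i ⟨n, hn, rfl⟩⟩

/-- Let `B` be a local ring with infinite residue field, `A` a semi-local ring, `B → A` a ring map
carrying the maximal ideal of `B` into the Jacobson radical of `A`, `M` a finite free `A`-module and
`N` a `B`-submodule of `M` generating `M` as an `A`-module. Then `N` contains a basis of `M` over
`A`. -/
theorem result {B A M : Type u} [CommRing B] [CommRing A]
    [IsLocalRing B] [Infinite (IsLocalRing.ResidueField B)] [Algebra B A]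
    [Finite (MaximalSpectrum A)]
    (hBA : (IsLocalRing.maximalIdeal B).map (algebraMap B A) ≤ (⊥ : Ideal A).jacobson)
    [AddCommGroup M] [Module A M] [Module B M] [IsScalarTower B A M]
    [Module.Free A M] [Module.Finite A M]
    (N : Submodule B M) (hN : Submodule.span A (N : Set M) = ⊤) :
    ∃ b : Module.Basis (Fin (Module.finrank A M)) A M, ∀ i, b i ∈ N := by
  rcases subsingleton_or_nontrivial A with hA | hA
  · haveI : Subsingleton M := Module.subsingleton A M
    refine ⟨Module.Basis.mk (v := fun _ ↦ (0 : M)) linearIndependent_of_subsingleton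
      (fun x _ ↦ Subsingleton.elim 0 x ▸ Submodule.zero_mem _), fun i ↦ ?_⟩
    rw [Subsingleton.elim (Module.Basis.mk _ _ i) 0]
    exact N.zero_mem
  set r := Module.finrank A M
  let e := Module.finBasis A M
  let k : MaximalSpectrum A → Type u := fun m ↦ A ⧸ m.asIdeal
  letI : ∀ m, Field (k m) := fun m ↦ Ideal.Quotient.field m.asIdeal
  let φ : ∀ m, M → (Fin r → k m) := fun m x i ↦ Ideal.Quotient.mk m.asIdeal (e.equivFun x i)
  have φ_add : ∀ m x y, φ m (x + y) = φ m x + φ m y := fun m x y ↦ by
    funext i; simp [φ]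
  have φ_smul : ∀ m (a : A) x, φ m (a • x) = Ideal.Quotient.mk m.asIdeal a • φ m x := fun m a x ↦ by
    funext i; simp [φ]
  have hspan : ∀ m, Submodule.span (k m) (φ m '' (N : Set M)) = ⊤ := fun m ↦ by
    rw [eq_top_iff]
    intro y _
    choose a ha using fun i ↦ Ideal.Quotient.mk_surjective (I := m.asIdeal) (y i)
    have hy : φ m (e.equivFun.symm a) = y := by
      funext i; simp only [φ, LinearEquiv.apply_symm_apply]; exact ha i
    have key : ∀ x ∈ Submodule.span A (N : Set M), φ m x ∈ Submodule.span (k m) (φ m '' (N : Set M)) := by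
      intro x hx
      induction hx using Submodule.span_induction with
      | mem x hx => exact Submodule.subset_span ⟨x, hx, rfl⟩
      | zero =>
        have : φ m 0 = 0 := by funext i; simp [φ]
        rw [this]; exact Submodule.zero_mem _
      | add x y _ _ hx hy => rw [φ_add]; exact Submodule.add_mem _ hx hy
      | smul a x _ hx => rw [φ_smul]; exact Submodule.smul_mem _ _ hx
    rw [← hy]
    exact key _ (hN ▸ Submodule.mem_top)
  have hstep : ∀ j : ℕ, j ≤ r → ∃ v : Fin j → M, (∀ i, v i ∈ N) ∧
      ∀ m, j ≤ Module.finrank (k m) (Submodule.span (k m) (Set.range fun i ↦ φ m (v i))) := by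
    intro j
    induction j with
    | zero => exact fun _ ↦ ⟨Fin.elim0, fun i ↦ i.elim0, fun m ↦ Nat.zero_le _⟩
    | succ j ih =>
      intro hj
      obtain ⟨v, hv, hd⟩ := ih (Nat.le_of_succ_le hj)
      let T : ∀ m, Submodule (k m) (Fin r → k m) :=
        fun m ↦ Submodule.span (k m) (Set.range fun i ↦ φ m (v i))
      let P : {m // T m ≠ ⊤} → Submodule B N := fun m ↦
        { carrier := {n | φ m.1 (n : M) ∈ T m.1}
          add_mem' := fun {a b} ha hb ↦ by
            show φ m.1 ((a : M) + b) ∈ T m.1
            rw [φ_add]; exact (T m.1).add_mem ha hb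
          zero_mem' := by
            show φ m.1 (0 : M) ∈ T m.1
            have : φ m.1 0 = 0 := by funext i; simp [φ]
            rw [this]; exact (T m.1).zero_mem
          smul_mem' := fun b n hn ↦ by
            show φ m.1 (b • (n : M)) ∈ T m.1
            rw [← IsScalarTower.algebraMap_smul A b (n : M), φ_smul]
            exact (T m.1).smul_mem _ hn }
      obtain ⟨n, hn⟩ := exists_forall_notMem_of_residue P (fun m ↦ Submodule.smul_le.2 fun b hb n _ ↦ by
          show φ m.1 (b • (n : M)) ∈ T m.1
          have hbm : algebraMap B A b ∈ m.1.asIdeal := by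
            have := hBA (Ideal.mem_map_of_mem _ hb)
            rw [Ideal.jacobson, Submodule.mem_sInf] at this
            exact this m.1.asIdeal ⟨bot_le, m.1.isMaximal⟩
          rw [← IsScalarTower.algebraMap_smul A b (n : M), φ_smul, Ideal.Quotient.eq_zero_iff_mem.2 hbm,
            zero_smul]
          exact (T m.1).zero_mem)
        fun m hm ↦ m.2 <| by
          rw [eq_top_iff, ← hspan m.1, Submodule.span_le]
          rintro _ ⟨x, hx, rfl⟩
          exact (Submodule.eq_top_iff'.1 hm ⟨x, hx⟩)
      refine ⟨Fin.snoc v (n : M), fun i ↦ ?_, fun m ↦ ?_⟩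
      · refine Fin.lastCases ?_ (fun i ↦ ?_) i <;> simp [hv]
      · let T' := Submodule.span (k m) (Set.range fun i ↦ φ m ((Fin.snoc v (n : M) : Fin (j + 1) → M) i))
        have hle : T m ≤ T' := Submodule.span_le.2 fun x ⟨i, hi⟩ ↦
          Submodule.subset_span ⟨i.castSucc, by simpa using hi⟩
        show j + 1 ≤ Module.finrank (k m) T'
        by_cases hT : T m = ⊤
        · have : T' = ⊤ := eq_top_iff.2 (hT ▸ hle)
          rw [this, finrank_top, Module.finrank_fin_fun]
          exact hj
        · have hlt : T m < T' := lt_of_le_of_ne hle fun he ↦ hn ⟨m, hT⟩ <| by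
            show φ m (n : M) ∈ T m
            rw [he]
            exact Submodule.subset_span ⟨Fin.last j, by simp⟩
          exact Nat.succ_le_of_lt (lt_of_le_of_lt (hd m) (Submodule.finrank_lt_finrank_of_lt hlt))
  obtain ⟨v, hv, hd⟩ := hstep r le_rfl
  have hdet : IsUnit (e.det v) := by
    by_contra hu
    obtain ⟨I, hI, hmem⟩ := Ideal.exists_le_maximal _ (by
      rwa [Ne, Ideal.span_singleton_eq_top] : Ideal.span {e.det v} ≠ ⊤)
    let m : MaximalSpectrum A := ⟨I, hI⟩
    let X : Matrix (Fin r) (Fin r) (k m) := Matrix.of fun i j ↦ φ m (v i) j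
    have hX : LinearIndependent (k m) X.row := by
      rw [linearIndependent_iff_card_le_finrank_span, Fintype.card_fin]
      exact hd m
    have := (Matrix.isUnit_iff_isUnit_det X).1 (Matrix.linearIndependent_rows_iff_isUnit.1 hX)
    have hX' : X = ((Ideal.Quotient.mk I).mapMatrix (e.toMatrix v)).transpose := by
      ext i j; simp [X, φ, Module.Basis.toMatrix_apply]; rfl
    rw [hX', Matrix.det_transpose, ← RingHom.map_det, ← Module.Basis.det_apply,
      Ideal.Quotient.eq_zero_iff_mem.2 (hmem (Ideal.mem_span_singleton_self _))] at this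
    exact not_isUnit_zero this
  obtain ⟨hli, hsp⟩ := (Module.Basis.is_basis_iff_det e).2 hdet
  exact ⟨Module.Basis.mk hli hsp.ge, fun i ↦ by rw [Module.Basis.mk_apply]; exact hv i⟩

end Groth.Agent.S5213
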