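import Groth.Statements.S5214
import Groth.Agent.Lib.DescCat8.Basic

set_option autoImplicit false
open CategoryTheory CategoryTheory.Limits
universe w v₁ u₁
open DescCat

namespace Groth.Agent.S5214


/-- In a category with pullbacks and binary products: the product `u × u'` of two universal effective
epimorphisms (morphisms all of whose base changes are effective epimorphisms) is a universal
effective epimorphism. -/
theorem result {C : Type u₁} [Category.{v₁} C] [HasPullbacks C] [HasBinaryProducts C]
    {X Y X' Y' : C} (u : X ⟶ Y) (u' : X' ⟶ Y')
    (hu : (MorphismProperty.universally (fun (A B : C) (p : A ⟶ B) => EffectiveEpi p)) u) (hu' : (MorphismProperty.universally (fun (A B : C) (p : A ⟶ B) => EffectiveEpi p)) u') :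
    (MorphismProperty.universally (fun (A B : C) (p : A ⟶ B) => EffectiveEpi p)) (prod.map u u') := by
  rw [show prod.map u u' = prod.map u (𝟙 X') ≫ prod.map (𝟙 Y) u' by simp]
  exact Groth.Agent.DescCat8.UEE_comp
    (MorphismProperty.of_isPullback (IsPullback.of_prod_fst_with_id u X') hu)
    (MorphismProperty.of_isPullback (Groth.Agent.DescCat8.isPullback_id_prod_map Y u') hu')


end Groth.Agent.S5214
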