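import Groth.Statements.S5215
import Groth.Agent.Lib.DescCat8.Basic

set_option autoImplicit false
open CategoryTheory CategoryTheory.Limits
universe w v₁ u₁
open DescCat

namespace Groth.Agent.S5215


/-- In a category with pullbacks: for a universally effective equivalence relation `p₁, p₂ : R ⇉ X` with
quotient map `π : X ⟶ X/R` and a morphism `g` out of the quotient, `g` is a monomorphism if and only
if `R` is the kernel pair of `π ≫ g`. -/
theorem result {C : Type u₁} [Category.{v₁} C] [HasPullbacks C]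
    {R X Z : C} {p₁ p₂ : R ⟶ X} (e : UniversallyEffectiveEquivalenceRelation p₁ p₂)
    (f : X ⟶ Z) (g : e.B ⟶ Z) (hg : e.π ≫ g = f) :
    Mono g ↔ IsKernelPair f p₁ p₂ := by
  subst hg
  refine ⟨fun h => ?_, fun h => ?_⟩
  · exact IsPullback.mk' (by rw [reassoc_of% e.isKernelPair.w]) (fun T φ φ' h1 h2 => e.isKernelPair.hom_ext h1 h2)
      fun T a b hab => ⟨e.isKernelPair.lift a b (by rwa [← cancel_mono g, Category.assoc, Category.assoc]),
        e.isKernelPair.lift_fst _ _ _, e.isKernelPair.lift_snd _ _ _⟩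
  · refine ⟨fun {Z} g₁ g₂ hgg => ?_⟩
    obtain ⟨Z', q, a₁, a₂, hq, h1, h2⟩ := Groth.Agent.DescCat8.exists_epi_lift
      (Groth.Agent.DescCat8.universally_epi_of_UEE e.universally_effectiveEpi_π) g₁ g₂
    have w : a₁ ≫ e.π ≫ g = a₂ ≫ e.π ≫ g := by rw [reassoc_of% h1, reassoc_of% h2, hgg]
    rw [← cancel_epi q, ← h1, ← h2, ← h.lift_fst a₁ a₂ w, Category.assoc, e.isKernelPair.w, ← Category.assoc,
      h.lift_snd]


end Groth.Agent.S5215
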