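import Groth.Statements.S5220


set_option autoImplicit false
open CategoryTheory CategoryTheory.Limits
universe w v₁ u₁
open GrpQ

namespace Groth.Agent.S5220

/-- In a category with pullbacks: let `d₀ d₁ : X₁ ⇉ X₀` admit a common section and let `f₀ : Y₀ ⟶ X₀` be
an effective epimorphism which is also a universal epimorphism. For the inverse-image pair `Y₁ :=
(Y₀ ×_{X₀,d₁} X₁) ×_{d₀,X₀} Y₀ ⇉ Y₀`, every morphism out of `Y₀` equalized by the two projections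
descends uniquely to a morphism out of `X₀` equalized by `d₀, d₁`. (Only the common section of the
groupoid structure is used.) -/
theorem result {C : Type u₁} [Category.{v₁} C] [HasPullbacks C]
    {X₁ X₀ Y₀ : C} (d₀ d₁ : X₁ ⟶ X₀) (s : X₀ ⟶ X₁) (hs₀ : s ≫ d₀ = 𝟙 X₀) (hs₁ : s ≫ d₁ = 𝟙 X₀)
    (f₀ : Y₀ ⟶ X₀) [EffectiveEpi f₀]
    (hf : MorphismProperty.universally (MorphismProperty.epimorphisms C) f₀)
    {T : C} (g : Y₀ ⟶ T)
    (hg : (pullback.fst (pullback.snd f₀ d₁ ≫ d₀) f₀ ≫ pullback.fst f₀ d₁) ≫ g =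
      pullback.snd (pullback.snd f₀ d₁ ≫ d₀) f₀ ≫ g) :
    ∃! h : X₀ ⟶ T, d₁ ≫ h = d₀ ≫ h ∧ f₀ ≫ h = g := by
  let q₁ := pullback.snd f₀ d₁
  let a₁ := pullback.fst (q₁ ≫ d₀) f₀
  have hker : ∀ {Z : C} (a b : Z ⟶ Y₀), a ≫ f₀ = b ≫ f₀ → a ≫ g = b ≫ g := by
    intro Z a b hab
    let w : Z ⟶ pullback f₀ d₁ := pullback.lift a (a ≫ f₀ ≫ s) (by simp [hs₁])
    let w' : Z ⟶ pullback (pullback.snd f₀ d₁ ≫ d₀) f₀ := pullback.lift w b (by rw [← hab]; simp only [w, pullback.lift_snd_assoc, Category.assoc, hs₀, Category.comp_id])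
    have h2 := congrArg (w' ≫ ·) hg
    simp only [w', Category.assoc, pullback.lift_fst_assoc, pullback.lift_snd_assoc] at h2
    simpa [w, pullback.lift_fst_assoc] using h2
  let h := EffectiveEpi.desc f₀ g hker
  have hh : f₀ ≫ h = g := EffectiveEpi.fac f₀ g hker
  refine ⟨h, ⟨?_, hh⟩, fun h' hh' => EffectiveEpi.uniq f₀ g hker h' hh'.2⟩
  have : Epi q₁ := hf _ _ _ (IsPullback.of_hasPullback f₀ d₁).flip
  have : Epi a₁ := by
    refine ⟨fun u v huv => ?_⟩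
    let P := pullback d₀ f₀
    have hP : IsPullback (pullback.fst d₀ f₀) (pullback.snd d₀ f₀) d₀ f₀ := IsPullback.of_hasPullback _ _
    have hbig : IsPullback (pullback.fst (q₁ ≫ d₀) f₀) (pullback.snd (q₁ ≫ d₀) f₀) (q₁ ≫ d₀) f₀ :=
      IsPullback.of_hasPullback _ _
    have : Epi (pullback.fst (q₁ ≫ d₀) f₀) := hf _ _ _ hbig
    exact (cancel_epi _).mp huv
  rw [← cancel_epi q₁, ← cancel_epi a₁]
  calc a₁ ≫ q₁ ≫ d₁ ≫ h = (a₁ ≫ pullback.fst f₀ d₁) ≫ f₀ ≫ h := by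
        simp only [Category.assoc, q₁, ← pullback.condition_assoc]
    _ = pullback.snd (q₁ ≫ d₀) f₀ ≫ g := by rw [hh]; exact hg
    _ = a₁ ≫ q₁ ≫ d₀ ≫ h := by
        rw [← hh, ← Category.assoc, ← pullback.condition]
        simp only [a₁, Category.assoc]

end Groth.Agent.S5220
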