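import Groth.Statements.S5221
import Groth.Agent.S5220

set_option autoImplicit false
open CategoryTheory CategoryTheory.Limits
universe w v₁ u₁
open GrpQ

namespace Groth.Agent.S5221

lemma desc_compat {C : Type u₁} [Category.{v₁} C] [HasPullbacks C]
    {X₁ X₀ Y₀ : C} (d₀ d₁ : X₁ ⟶ X₀) (s : X₀ ⟶ X₁) (hs₀ : s ≫ d₀ = 𝟙 X₀) (hs₁ : s ≫ d₁ = 𝟙 X₀)
    (f₀ : Y₀ ⟶ X₀) [EffectiveEpi f₀]
    (hf : MorphismProperty.universally (MorphismProperty.epimorphisms C) f₀)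
    {T : C} (g : Y₀ ⟶ T)
    (hg : (pullback.fst (pullback.snd f₀ d₁ ≫ d₀) f₀ ≫ pullback.fst f₀ d₁) ≫ g =
      pullback.snd (pullback.snd f₀ d₁ ≫ d₀) f₀ ≫ g) :
    ∃! h : X₀ ⟶ T, d₁ ≫ h = d₀ ≫ h ∧ f₀ ≫ h = g :=
  Groth.Agent.S5220.result d₀ d₁ s hs₀ hs₁ f₀ hf g hg


/-- Existence part: in a category with pullbacks: with `d₀ d₁ : X₁ ⇉ X₀` admitting a common section and
`f₀ : Y₀ ⟶ X₀` an effective and universal epimorphism, the pair `(d₀, d₁)` has a coequalizer if and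
only if its inverse-image pair on `Y₀` has one. -/
theorem result {C : Type u₁} [Category.{v₁} C] [HasPullbacks C]
    {X₁ X₀ Y₀ : C} (d₀ d₁ : X₁ ⟶ X₀) (s : X₀ ⟶ X₁) (hs₀ : s ≫ d₀ = 𝟙 X₀) (hs₁ : s ≫ d₁ = 𝟙 X₀)
    (f₀ : Y₀ ⟶ X₀) [EffectiveEpi f₀]
    (hf : MorphismProperty.universally (MorphismProperty.epimorphisms C) f₀) :
    HasCoequalizer d₁ d₀ ↔
      HasCoequalizer (pullback.fst (pullback.snd f₀ d₁ ≫ d₀) f₀ ≫ pullback.fst f₀ d₁)
        (pullback.snd (pullback.snd f₀ d₁ ≫ d₀) f₀) := by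
  have hcomp : (pullback.fst (pullback.snd f₀ d₁ ≫ d₀) f₀ ≫ pullback.fst f₀ d₁) ≫ f₀ =
      pullback.fst (pullback.snd f₀ d₁ ≫ d₀) f₀ ≫ pullback.snd f₀ d₁ ≫ d₁ := by
    rw [Category.assoc, pullback.condition]
  have hf' : Epi f₀ := inferInstance
  constructor
  · intro _
    let π := coequalizer.π d₁ d₀
    refine HasColimit.mk ⟨Cofork.ofπ (f₀ ≫ π) ?_, Cofork.IsColimit.mk' _ fun c => ?_⟩
    · rw [← Category.assoc, hcomp, ← pullback.condition_assoc]
      simp only [Category.assoc, π, coequalizer.condition]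
    · have h := desc_compat d₀ d₁ s hs₀ hs₁ f₀ hf c.π c.condition
      refine ⟨coequalizer.desc h.choose h.choose_spec.1.1, ?_, fun {m} hm => ?_⟩
      · show (f₀ ≫ π) ≫ coequalizer.desc h.choose h.choose_spec.1.1 = c.π
        rw [Category.assoc, coequalizer.π_desc]; exact h.choose_spec.1.2
      · change (f₀ ≫ π) ≫ m = c.π at hm
        refine coequalizer.hom_ext (f := d₁) (g := d₀) ?_
        rw [coequalizer.π_desc]
        exact h.choose_spec.2 _ ⟨by simp [π, coequalizer.condition_assoc], by rw [← hm, Category.assoc]⟩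
  · intro _
    let a := pullback.fst (pullback.snd f₀ d₁ ≫ d₀) f₀ ≫ pullback.fst f₀ d₁
    let b := pullback.snd (pullback.snd f₀ d₁ ≫ d₀) f₀
    obtain ⟨h, ⟨h1, h2⟩, huniq⟩ := desc_compat d₀ d₁ s hs₀ hs₁ f₀ hf (coequalizer.π a b) (coequalizer.condition a b)
    refine HasColimit.mk ⟨Cofork.ofπ h h1, Cofork.IsColimit.mk' _ fun c => ?_⟩
    have hc : a ≫ f₀ ≫ c.π = b ≫ f₀ ≫ c.π := by
      rw [← Category.assoc a, hcomp]
      show _ = pullback.snd _ _ ≫ f₀ ≫ c.π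
      rw [← pullback.condition_assoc]
      simp only [Category.assoc, c.condition]
    refine ⟨coequalizer.desc (f₀ ≫ c.π) hc, ?_, fun {m} hm => ?_⟩
    · show h ≫ coequalizer.desc (f₀ ≫ c.π) hc = c.π
      rw [← cancel_epi f₀, ← Category.assoc, h2, coequalizer.π_desc]
    · change h ≫ m = c.π at hm
      refine coequalizer.hom_ext (f := a) (g := b) ?_
      rw [coequalizer.π_desc, ← h2, Category.assoc, hm]

end Groth.Agent.S5221
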