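import Groth.Statements.S5222
import Mathlib.CategoryTheory.Monoidal.Cartesian.Grp

set_option autoImplicit false
open CategoryTheory CategoryTheory.Limits MonoidalCategory
universe v₁ u₁
open DescCat

namespace Groth.Agent.S5222
open MonObj CartesianMonoidalCategory SemiCartesianMonoidalCategory MonoidalCategory
open scoped CategoryTheory.MonObj



open MonObj CartesianMonoidalCategory SemiCartesianMonoidalCategory in
/-- In a cartesian monoidal category with pullbacks: for a homomorphism `f : G ⟶ G'` of group objects
with kernel `K = G ×_{G'} e`, the pair `G × K ⇉ G` given by the projection and by multiplication is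
the kernel pair of `f`. -/
theorem result {C : Type u₁} [Category.{v₁} C]
    [CartesianMonoidalCategory C] [HasPullbacks C]
    {G G' : C} [GrpObj G] [GrpObj G'] (f : G ⟶ G') [IsMonHom f] :
    IsKernelPair f (fst G (pullback f η[G']))
      ((G ◁ pullback.fst f η[G']) ≫ μ[G]) := by
  have hm : (G ◁ pullback.fst f η[G']) ≫ μ[G] = fst G _ * (snd G _ ≫ pullback.fst f η[G']) := by
    rw [Hom.mul_def]
    congr 1
    exact CartesianMonoidalCategory.hom_ext _ _ (by simp) (by simp)
  have hk : ∀ {Z : C} (x : Z ⟶ pullback f η[G']), (x ≫ pullback.fst f η[G']) ≫ f = 1 := by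
    intro Z x
    rw [Category.assoc, pullback.condition, ← Category.assoc, Hom.one_def,
      toUnit_unique (x ≫ pullback.snd f η[G']) (toUnit Z)]
  rw [hm]
  refine IsPullback.mk' ?_ (fun T φ φ' h1 h2 => ?_) fun T a b hab => ?_
  · rw [MonObj.mul_comp, hk, _root_.mul_one]
  · rw [MonObj.comp_mul, MonObj.comp_mul, h1, _root_.mul_right_inj, ← Category.assoc, ← Category.assoc] at h2
    refine CartesianMonoidalCategory.hom_ext _ _ h1 (pullback.hom_ext h2 (toUnit_unique _ _))
  · have w : (a⁻¹ * b) ≫ f = toUnit T ≫ η[G'] := by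
      rw [MonObj.mul_comp, GrpObj.inv_comp, hab, inv_mul_cancel, Hom.one_def]
    refine ⟨CartesianMonoidalCategory.lift a (pullback.lift (a⁻¹ * b) (toUnit T) w), lift_fst _ _, ?_⟩
    rw [MonObj.comp_mul, lift_fst, lift_snd_assoc, pullback.lift_fst, mul_inv_cancel_left]


end Groth.Agent.S5222
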