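import Groth.Statements.S5223
import Groth.Agent.Lib.FlatH4.FlatComp
import Groth.Agent.Lib.H12.FlatComp

set_option autoImplicit false
open CategoryTheory CategoryTheory.Limits AlgebraicGeometry
universe u
open GrpQ

namespace Groth.Agent.S5223

set_option backward.isDefEq.respectTransparency.types false

/-- In a cartesian square of schemes `F₂ = F₁ ×_{X₀} X₁` whose bottom map `u : X₁ ⟶ X₀` is flat, the
base-changed map `d' : F₂ ⟶ X₁` is flat at a point `x` if and only if `d : F₁ ⟶ X₀` is flat at the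
image of `x` in `F₁`. -/
theorem result {F₂ F₁ X₁ X₀ : Scheme.{u}}
    {v : F₂ ⟶ F₁} {d' : F₂ ⟶ X₁} {d : F₁ ⟶ X₀} {u : X₁ ⟶ X₀}
    (h : IsPullback v d' d u) [Flat u] (x : F₂) :
    (d'.stalkMap x).hom.Flat ↔ (d.stalkMap (v.base x)).hom.Flat := by
  refine ⟨fun hx => ?_, fun hx => Groth.Agent.FlatH4.flat_stalkMap_baseChange h.flip x hx⟩
  haveI : Flat v := MorphismProperty.of_isPullback (P := @Flat) h.flip ‹_›
  refine Groth.Agent.H12.flat_stalkMap_of_comp v d x (Flat.stalkMap v x) ?_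
  have e : ((d' ≫ u).stalkMap x).hom.Flat := by
    rw [Scheme.Hom.stalkMap_comp]
    exact RingHom.Flat.comp (Flat.stalkMap u (d' x)) hx
  have key : ∀ (a b : F₂ ⟶ X₀), a = b → (a.stalkMap x).hom.Flat → (b.stalkMap x).hom.Flat := by
    rintro a b rfl ha; exact ha
  exact key _ _ h.w.symm e

end Groth.Agent.S5223
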