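import Groth.Statements.S5225
import Groth.Agent.Lib.GrpQuot.QuotEtale

set_option autoImplicit false
open CategoryTheory CategoryTheory.Limits AlgebraicGeometry
universe u
open GrpQ

namespace Groth.Agent.S5225

open Groth.Agent.GrpQuot.QuotEtale
set_option backward.isDefEq.respectTransparency.types false

/-- For the étale topology: let `s, t : R ⇉ U` be an equivalence relation of schemes over `S` with `s`
étale and surjective. A morphism `q : U ⟶ Y` over `S` is an étale surjective quotient with kernel
pair `R` if and only if `q` identifies `h_Y` with the étale quotient sheaf `U/R`. -/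
theorem result {S : Scheme.{u}} {R U Y : Over S} (s t : R ⟶ U)
    [IsEquivalenceRelation s t] [Etale s.left] [Surjective s.left]
    (q : U ⟶ Y) :
    (IsKernelPair q s t ∧ Etale q.left ∧ Surjective q.left) ↔
      QuotSh.IsQuotient Scheme.etalePrecoverage s t q := by
  refine ⟨fun ⟨hk, he, hs⟩ ↦ ?_, fun h ↦ ⟨isKernelPair_of_isQuotient h,
    (etale_surjective_of_isQuotient h).1, (etale_surjective_of_isQuotient h).2⟩⟩
  haveI := he
  haveI := hs
  refine isQuotient_of_cover hk (GrothendieckTopology.overEquiv_symm_mem_over _ Y _ ?_)
  refine Precoverage.generate_mem_toGrothendieck ?_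
  rw [← Presieve.ofArrows_pUnit.{0}]
  exact (q.left.cover (P := @Etale) he).mem₀

end Groth.Agent.S5225
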