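import Groth.Statements.S5226
import Groth.Agent.Lib.ShfCatH13.Sub

set_option autoImplicit false
open CategoryTheory CategoryTheory.Limits
universe w v₁ u₁
open ShfCat

namespace Groth.Agent.S5226

/-- For sheaves of sets on a site with sheafification: if `R ⇉ X` is an equivalence relation with
(universally effective) quotient `X/R` and `Y ⊆ X` is a subsheaf with induced relation `R_Y`, then
the canonical map `Y/R_Y ⟶ X/R` is a monomorphism. Here `R_Y` is built as the iterated pullback of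
`R` along `Y ⟶ X` on both sides. -/
theorem result {C : Type u₁} [Category.{v₁} C]
    (J : GrothendieckTopology C) [HasSheafify J (Type w)]
    {R X Y : Sheaf J (Type w)} {p₁ p₂ : R ⟶ X} (e : UniversallyEffectiveEquivalenceRelation p₁ p₂)
    (ι : Y ⟶ X) [Mono ι]
    [HasCoequalizer (pullback.fst (pullback.fst p₁ ι ≫ p₂) ι ≫ pullback.snd p₁ ι)
      (pullback.snd (pullback.fst p₁ ι ≫ p₂) ι)]
    (g : coequalizer (pullback.fst (pullback.fst p₁ ι ≫ p₂) ι ≫ pullback.snd p₁ ι)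
      (pullback.snd (pullback.fst p₁ ι ≫ p₂) ι) ⟶ e.B)
    (hg : coequalizer.π _ _ ≫ g = ι ≫ e.π) :
    Mono g := by
  refine ⟨fun {Z} x y hxy => ?_⟩
  obtain ⟨Z₁, s, a, hs, hsa⟩ := ShfCatH13.exists_local_lift (coequalizer.π _ _) x
  obtain ⟨Z₂, t, b, ht, htb⟩ := ShfCatH13.exists_local_lift (coequalizer.π _ _) (s ≫ y)
  have hab : (t ≫ a ≫ ι) ≫ e.π = (b ≫ ι) ≫ e.π := by
    simp only [Category.assoc, ← hg]
    rw [← reassoc_of% hsa, ← reassoc_of% htb, hxy]
  let r := e.isKernelPair.lift _ _ hab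
  let r₁ := pullback.lift r (t ≫ a) (show r ≫ p₁ = (t ≫ a) ≫ ι by
    rw [IsKernelPair.lift_fst, Category.assoc])
  let r₂ := pullback.lift r₁ b (show r₁ ≫ pullback.fst p₁ ι ≫ p₂ = b ≫ ι by
    rw [pullback.lift_fst_assoc, IsKernelPair.lift_snd])
  have hc : t ≫ a ≫ coequalizer.π (pullback.fst (pullback.fst p₁ ι ≫ p₂) ι ≫ pullback.snd p₁ ι)
      (pullback.snd (pullback.fst p₁ ι ≫ p₂) ι) = b ≫ coequalizer.π _ _ := by
    have h := r₂ ≫= coequalizer.condition (pullback.fst (pullback.fst p₁ ι ≫ p₂) ι ≫ pullback.snd p₁ ι)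
      (pullback.snd (pullback.fst p₁ ι ≫ p₂) ι)
    have e1 : r₂ ≫ pullback.fst (pullback.fst p₁ ι ≫ p₂) ι = r₁ := pullback.lift_fst _ _ _
    have e2 : r₂ ≫ pullback.snd (pullback.fst p₁ ι ≫ p₂) ι = b := pullback.lift_snd _ _ _
    have e3 : r₁ ≫ pullback.snd p₁ ι = t ≫ a := pullback.lift_snd _ _ _
    rw [Category.assoc, reassoc_of% e1, reassoc_of% e3, reassoc_of% e2] at h
    exact h
  rw [← cancel_epi s, ← cancel_epi t, hsa, htb, hc]

end Groth.Agent.S5226
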