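import Groth.Statements.S5227
import Groth.Agent.Lib.ShfCatH13.Sub

set_option autoImplicit false
open CategoryTheory CategoryTheory.Limits
universe w v₁ u₁
open ShfCat

namespace Groth.Agent.S5227

/-- For sheaves of sets on a site with sheafification: for an equivalence relation `R ⇉ X` with
(universally effective) quotient `π : X ⟶ X/R`, inverse image along `π` is a bijection from the
subsheaves of `X/R` onto the subsheaves of `X` stable under `R` (those whose two inverse images in
`R` agree). -/
theorem result {C : Type u₁} [Category.{v₁} C]
    (J : GrothendieckTopology C) [HasSheafify J (Type w)]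
    {R X : Sheaf J (Type w)} {p₁ p₂ : R ⟶ X} (e : UniversallyEffectiveEquivalenceRelation p₁ p₂) :
    Function.Injective (Subobject.pullback e.π).obj ∧
      Set.range (Subobject.pullback e.π).obj =
        {Y : Subobject X | (Subobject.pullback p₁).obj Y = (Subobject.pullback p₂).obj Y} := by
  haveI : Epi e.π := ⟨fun a b h => Cofork.IsColimit.hom_ext e.isCoequalizer h⟩
  refine ⟨ShfCatH13.pullback_injective e.π, Set.ext fun Y => ⟨?_, fun hY => ?_⟩⟩
  · rintro ⟨K, rfl⟩
    refine ShfCatH13.eq_of_factors_iff _ _ fun Z x => ?_
    rw [pullback_factors_iff, pullback_factors_iff, pullback_factors_iff, pullback_factors_iff,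
      Category.assoc, Category.assoc, e.isKernelPair.w]
  · refine ⟨ShfCatH13.img (Y.arrow ≫ e.π), ShfCatH13.pullback_img e.π Y fun Z a y hay hy => ?_⟩
    have h1 : ((Subobject.pullback p₂).obj Y).Factors (e.isKernelPair.lift a y hay) := by
      rw [pullback_factors_iff, IsKernelPair.lift_snd]
      exact hy
    rw [← hY, pullback_factors_iff, IsKernelPair.lift_fst] at h1
    exact h1

end Groth.Agent.S5227
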