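import Groth.Statements.S5228
import Groth.Agent.Lib.CoalgH23.Criteria

set_option autoImplicit false
universe w u
open HopfRep

namespace Groth.Agent.S5228

open scoped Groth.Agent.CoalgH23
open Groth.Agent.CoalgH23 WithConv

/-- Over an affine base, in comodule form: for a representation `V` of a diagonalizable group `D(M)`
over a commutative ring `k` (a `k[M]`-comodule), every sub-representation which is a direct summand
as a `k`-module is a direct summand as a representation. (The published statement: a short exact
sequence of quasi-coherent `D(M)`-modules that splits as a sequence of modules splits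
equivariantly.) -/
theorem result {k : Type u} [CommRing k] {M : Type u} [CommGroup M]
    (V : Type w) [AddCommGroup V] [Module k V] [HopfRep.Comod k (MonoidAlgebra k M) V]
    (W : Submodule k V) (hW : HopfRep.IsSubcomod (k := k) (A := MonoidAlgebra k M) W)
    (hsplit : ∃ W' : Submodule k V, IsCompl W W') :
    ∃ W'' : Submodule k V, HopfRep.IsSubcomod (k := k) (A := MonoidAlgebra k M) W'' ∧ IsCompl W W'' := by
  classical
  let l : MonoidAlgebra k M →ₗ[k] k := (Finsupp.lapply 1).comp (MonoidAlgebra.coeffLinearEquiv k).toLinearMap
  have hs : ∀ (m : M) (r : k), l (MonoidAlgebra.single m r) = if m = 1 then r else 0 := fun m r => by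
    simp [l, Finsupp.single_apply]
  refine exists_isCompl_of_integral (l := l) (by rw [MonoidAlgebra.one_def, hs, if_pos rfl]) (fun y => ?_) W hW hsplit
  refine LinearMap.congr_fun (?_ : (TensorProduct.lid k _).toLinearMap ∘ₗ l.rTensor _ ∘ₗ CoalgebraStruct.comul (R := k) =
    Algebra.linearMap k (MonoidAlgebra k M) ∘ₗ l) y
  refine MonoidAlgebra.lhom_ext' fun m => LinearMap.ext_ring ?_
  simp only [LinearMap.comp_apply, LinearEquiv.coe_coe, Algebra.linearMap_apply, MonoidAlgebra.comul_single,
    CommSemiring.comul_apply, TensorProduct.map_tmul, MonoidAlgebra.lsingle_apply, LinearMap.rTensor_tmul,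
    TensorProduct.lid_tmul, hs]
  by_cases hm : m = 1
  · subst hm
    simp [MonoidAlgebra.one_def, Algebra.algebraMap_eq_smul_one]
  · simp [hm]

end Groth.Agent.S5228
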