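import Groth.Statements.S5231
import Mathlib.CategoryTheory.Sites.Over
import Mathlib.CategoryTheory.Sites.Limits

set_option autoImplicit false
open CategoryTheory
universe w v₁ u₁
open ShfCat

namespace Groth.Agent.S5231

/-- (iii) ⇒ (i): a morphism `f` of sheaves of sets on a site is a monomorphism (resp. an epimorphism) as
soon as, for every object `S`, the morphisms `T ⟶ S` over which the restriction of `f` to the
induced site `C/T` is a monomorphism (resp. an epimorphism) form a covering sieve. No sheafification
is assumed. (The published statement also treats isomorphisms in the same way; that case is left out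
here.) -/
theorem result {C : Type u₁} [Category.{v₁} C]
    (J : GrothendieckTopology C) {F G : Sheaf J (Type w)} (f : F ⟶ G) :
    ((∀ S : C, ∃ R : Sieve S, R ∈ J S ∧ ∀ ⦃T : C⦄ (g : T ⟶ S), R g →
        Mono ((J.overPullback (Type w) T).map f)) → Mono f) ∧
    ((∀ S : C, ∃ R : Sieve S, R ∈ J S ∧ ∀ ⦃T : C⦄ (g : T ⟶ S), R g →
        Epi ((J.overPullback (Type w) T).map f)) → Epi f) := by
  refine ⟨fun h => ?_, fun h => ?_⟩
  · haveI : Mono ((sheafToPresheaf J (Type w)).map f) := by
      rw [NatTrans.mono_iff_mono_app]
      intro U
      rw [mono_iff_injective]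
      intro a b hab
      obtain ⟨R, hR, hg⟩ := h U.unop
      refine ((Presieve.IsSheaf.isSeparated ((isSheaf_iff_isSheaf_of_type J F.obj).1 F.property)) R hR).ext
        fun T g hgR => ?_
      haveI := hg g hgR
      have hm : Mono ((sheafToPresheaf (J.over T) (Type w)).map ((J.overPullback (Type w) T).map f)) :=
        inferInstance
      rw [NatTrans.mono_iff_mono_app] at hm
      refine (mono_iff_injective (f.hom.app (Opposite.op T))).1 (hm (Opposite.op (Over.mk (𝟙 T)))) ?_
      exact (ConcreteCategory.congr_hom (f.hom.naturality g.op) a).trans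
        ((congrArg (G.obj.map g.op) hab).trans (ConcreteCategory.congr_hom (f.hom.naturality g.op) b).symm)
    exact (sheafToPresheaf J (Type w)).mono_of_mono_map this
  · refine ⟨fun {H} a b hab => ?_⟩
    refine Sheaf.hom_ext (NatTrans.ext (funext fun U => ?_))
    refine ConcreteCategory.hom_ext _ _ fun x => ?_
    obtain ⟨R, hR, hg⟩ := h U.unop
    refine ((Presieve.IsSheaf.isSeparated ((isSheaf_iff_isSheaf_of_type J H.obj).1 H.property)) R hR).ext
      fun T g hgR => ?_
    haveI := hg g hgR
    have hT : (J.overPullback (Type w) T).map a = (J.overPullback (Type w) T).map b := by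
      rw [← cancel_epi ((J.overPullback (Type w) T).map f), ← Functor.map_comp, hab, Functor.map_comp]
    have hT' := ConcreteCategory.congr_hom
      (congrArg (fun t => t.hom.app (Opposite.op (Over.mk (𝟙 T)))) hT) (G.obj.map g.op x)
    exact (ConcreteCategory.congr_hom (a.hom.naturality g.op) x).symm.trans
      (hT'.trans (ConcreteCategory.congr_hom (b.hom.naturality g.op) x))

end Groth.Agent.S5231
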