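import Groth.Statements.S5232
import Groth.Agent.Lib.AlgSpace.Affine
import Groth.Agent.Lib.AlgSpace.AffineDescent
import Groth.Agent.Lib.AlgSpace.Glue
import Groth.Agent.Lib.AlgSpace.SliceQuot
import Groth.Agent.Lib.AlgSpace.QCQS

set_option autoImplicit false
open CategoryTheory CategoryTheory.Limits AlgebraicGeometry
universe u
open GrpQ

namespace Groth.Agent.S5232

open AlgSp Groth.Agent.AlgSpace CategoryTheory.Limits
set_option backward.isDefEq.respectTransparency.types false
set_option maxHeartbeats 1600000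


/-- On the big fppf site of a scheme `S`, in the case where the local representing objects are affine
over the cover (so that the canonical descent datum is effective): if `Z` is an fppf sheaf over `S`
and, for an fppf cover `S' ⟶ S`, the sheaf `Z ×_S S'` is represented over `S'` by a scheme affine
over `S'`, then `Z` is represented by a scheme affine over `S`. -/
theorem result {S S' : Scheme.{u}} (f : S' ⟶ S)
    [Flat f] [Surjective f] [LocallyOfFinitePresentation f]
    (Z : QuotSh.Sh Scheme.fppfPrecoverage S)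
    (T' : Over S) (a : T' ⟶ Over.mk f) [IsAffineHom a.left]
    (φ : QuotSh.rep Scheme.fppfPrecoverage T' ≅ Z ⨯ QuotSh.rep Scheme.fppfPrecoverage (Over.mk f))
    (hφ : φ.hom ≫ prod.snd = QuotSh.repMap Scheme.fppfPrecoverage a) :
    ∃ T : Over S, IsAffineHom T.hom ∧ Nonempty (QuotSh.rep Scheme.fppfPrecoverage T ≅ Z) := by
  let π : Z ⟶ (yon S).obj (Over.mk (𝟙 S)) := isTerminalBase.from Z
  let eT := QuotSh.repIsoUliftYoneda Scheme.fppfPrecoverage T'
  let eS := QuotSh.repIsoUliftYoneda Scheme.fppfPrecoverage (Over.mk f)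
  let f' : Over.mk f ⟶ Over.mk (𝟙 S) := Over.mkIdTerminal.from _
  -- the pullback of `Z` to the cover
  have sq1 : IsPullback (eT.inv ≫ φ.hom ≫ prod.fst) ((yon S).map a) π ((yon S).map f') := by
    have sq0 : IsPullback (prod.fst : Z ⨯ QuotSh.rep Scheme.fppfPrecoverage (Over.mk f) ⟶ Z)
        prod.snd π (eS.hom ≫ (yon S).map f') :=
      by
        have h := IsPullback.of_is_product
          (prodIsProd Z (QuotSh.rep Scheme.fppfPrecoverage (Over.mk f))) isTerminalBase
        rwa [isTerminalBase.hom_ext (eS.hom ≫ (yon S).map f') (isTerminalBase.from _)]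
    refine IsPullback.of_iso sq0 (φ.symm ≪≫ eT) (Iso.refl _) eS (Iso.refl _) ?_ ?_ ?_ ?_
    · simp
    · rw [Iso.trans_hom, Category.assoc, Iso.symm_hom, Iso.eq_inv_comp]
      have h := repIso_naturality a
      rw [Iso.comp_inv_eq] at h
      rw [h, ← hφ]
      simp [eT, eS]
    · simp
    · simp
  -- affine models over affine opens
  have hloc : ∀ t : ↥S, ∃ (O : S.Opens), t ∈ O ∧ ∃ (A : Over S)
      (i : A ⟶ Over.mk (O.ι ≫ 𝟙 S)) (fst : (yon S).obj A ⟶ Z), IsAffine A.left ∧ IsAffineOpen O ∧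
      IsPullback fst ((yon S).map i) π ((yon S).map (overArrow (U := Over.mk (𝟙 S)) O.ι)) := by
    intro t
    obtain ⟨O, hO, ht, -⟩ := exists_isAffineOpen_mem_and_subset (X := S) (x := t) (U := ⊤) trivial
    refine ⟨O, ht, ?_⟩
    let ZO : Over S := Over.mk (O.ι ≫ 𝟙 S)
    haveI : IsAffine ZO.left := hO
    let Q : Over S := Over.mk ((f ⁻¹ᵁ O).ι ≫ f)
    let q : Q ⟶ ZO := Over.homMk (f ∣_ O)
      (by change _ ≫ O.ι ≫ 𝟙 S = _; rw [Category.comp_id, morphismRestrict_ι]; rfl)
    haveI : Surjective q.left := IsZariskiLocalAtTarget.restrict ‹Surjective f› O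
    haveI : Flat q.left := IsZariskiLocalAtTarget.restrict ‹Flat f› O
    haveI : LocallyOfFinitePresentation q.left :=
      IsZariskiLocalAtTarget.restrict ‹LocallyOfFinitePresentation f› O
    obtain ⟨V, j, hV, hj, hjq⟩ := exists_affine_refinement q q.left.isOpenMap
    haveI : Flat (j ≫ q).left := inferInstanceAs (Flat (j.left ≫ q.left))
    haveI : LocallyOfFinitePresentation (j ≫ q).left :=
      inferInstanceAs (LocallyOfFinitePresentation (j.left ≫ q.left))
    let jf : V ⟶ Over.mk f := Over.homMk (j.left ≫ (f ⁻¹ᵁ O).ι)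
      (by simpa [Q] using Over.w j)
    haveI : IsAffineHom (pullback.snd a jf).left :=
      MorphismProperty.of_isPullback ((IsPullback.of_hasPullback a jf).map (Over.forget S)) ‹_›
    haveI : IsAffine (pullback a jf).left := isAffine_of_isAffineHom (pullback.snd a jf).left
    have sq2 := ((IsPullback.of_hasPullback a jf).map (yon S)).paste_horiz sq1
    have e : (yon S).map jf ≫ (yon S).map f' =
        (yon S).map (j ≫ q) ≫ (yon S).map (overArrow (U := Over.mk (𝟙 S)) O.ι) :=
      isTerminalBase.hom_ext _ _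
    rw [e] at sq2
    haveI : IsAffine (Over.mk (O.ι ≫ (Over.mk (𝟙 S)).hom)).left := hO
    obtain ⟨A, i, fst, h, hA, sqA, -⟩ := exists_affine_of_cover π
      ((yon S).map (overArrow (U := Over.mk (𝟙 S)) O.ι)) (j ≫ q) (pullback.snd a jf) _ sq2
    exact ⟨A, i, fst, hA, hO, sqA⟩
  obtain ⟨G, ⟨e⟩⟩ := exists_iso_yon_of_zariski π fun t => by
    obtain ⟨O, ht, A, i, fst, -, -, sq⟩ := hloc t
    exact ⟨O, ht, A, i, fst, sq⟩
  refine ⟨G, ?_, ⟨QuotSh.repIsoUliftYoneda Scheme.fppfPrecoverage G ≪≫ e⟩⟩
  choose O hO A i fst hA hO' sq using hloc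
  have hcov : ⨆ t, O t = ⊤ := top_le_iff.1 fun x _ => TopologicalSpace.Opens.mem_iSup.2 ⟨x, hO x⟩
  rw [IsZariskiLocalAtTarget.iff_of_iSup_eq_top (P := @IsAffineHom) O hcov]
  intro t
  haveI : IsAffine (O t).toScheme := hO' t
  haveI : IsAffine (Over.mk ((O t).ι ≫ 𝟙 S)).left := hO' t
  haveI := hA t
  let g : G ⟶ Over.mk (𝟙 S) := Over.mkIdTerminal.from _
  let ot : Over.mk ((O t).ι ≫ 𝟙 S) ⟶ Over.mk (𝟙 S) := overArrow (U := Over.mk (𝟙 S)) (O t).ι
  obtain ⟨k, hk⟩ := (yon S).map_surjective (fst t ≫ e.inv)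
  have sq' : IsPullback k (i t) g ot := by
    apply IsPullback.of_map (yon S)
    · exact Over.mkIdTerminal.hom_ext _ _
    · rw [hk]
      exact IsPullback.of_iso (sq t) (Iso.refl _) e.symm (Iso.refl _) (Iso.refl _) (by simp) (by simp)
        (isTerminalBase.hom_ext _ _) (by simp [ot])
  have sq'' := sq'.map (Over.forget S)
  haveI : IsAffineHom (i t).left := isAffineHom_of_isAffine (i t).left
  have hg : g.left = G.hom := by simpa using Over.w g
  have sq3 : IsPullback k.left (i t).left G.hom (O t).ι := by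
    have h := sq''
    simp only [Over.forget_map] at h
    rw [hg] at h
    exact h
  refine (MorphismProperty.arrow_mk_iso_iff @IsAffineHom ?_).2 ‹IsAffineHom (i t).left›
  exact Arrow.isoMk ((isPullback_morphismRestrict G.hom (O t)).flip.isoIsPullback _ _ sq3)
    (Iso.refl _) (by simp)

end Groth.Agent.S5232
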