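import Groth.Statements.S5233
import Groth.Agent.Lib.GrpQuot.SubDesc

set_option autoImplicit false
open CategoryTheory CategoryTheory.Limits AlgebraicGeometry
universe u
open GrpQ

namespace Groth.Agent.S5233

open Groth.Agent.GrpQuot.SubDesc

/-- For schemes, with (M) the faithfully flat quasi-compact morphisms and (N) the closed immersions: if
`π : X ⟶ X'` is flat, surjective and quasi-compact (so `X' = X/R` for its kernel pair `R ⇉ X`), then
`Y' ↦ π⁻¹(Y')` is a bijection from closed subschemes of `X'` onto the closed subschemes of `X`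
stable under `R`. -/
theorem result {X X' : Scheme.{u}} (π : X ⟶ X')
    [Flat π] [Surjective π] [QuasiCompact π] :
    Set.BijOn (Subobject.pullback π).obj
      {Y' : Subobject X' | IsClosedImmersion Y'.arrow}
      {Y : Subobject X | IsClosedImmersion Y.arrow ∧
        (Subobject.pullback (pullback.fst π π)).obj Y = (Subobject.pullback (pullback.snd π π)).obj Y} := by
  refine ⟨fun A hA ↦ ?_, fun A hA B hB hAB ↦ ?_, fun B hB ↦ ?_⟩
  · haveI : IsClosedImmersion A.arrow := hA
    refine ⟨(pullback_obj_arrow π A).1, ?_⟩
    rw [← Subobject.pullback_comp, ← Subobject.pullback_comp, pullback.condition]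
  · haveI : IsClosedImmersion A.arrow := hA
    haveI : IsClosedImmersion B.arrow := hB
    haveI := (pullback_obj_arrow π A).1
    haveI := (pullback_obj_arrow π B).1
    have e := (subobject_eq_iff_ker _ _).1 hAB
    rw [(pullback_obj_arrow π A).2, (pullback_obj_arrow π B).2] at e
    have e' := congrArg (fun I : X.IdealSheafData ↦ I.map π) e
    simp only [map_comap_of_flat_surjective] at e'
    exact (subobject_eq_iff_ker A B).2 e'
  · obtain ⟨hB1, hB2⟩ := hB
    haveI : IsClosedImmersion B.arrow := hB1
    haveI h1 := (pullback_obj_arrow (pullback.fst π π) B).1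
    haveI h2 := (pullback_obj_arrow (pullback.snd π π) B).1
    have e := (subobject_eq_iff_ker _ _).1 hB2
    rw [(pullback_obj_arrow _ B).2, (pullback_obj_arrow _ B).2] at e
    obtain ⟨hA, hker⟩ := mk_subschemeι_arrow (B.arrow.ker.map π)
    haveI := hA
    refine ⟨Subobject.mk (B.arrow.ker.map π).subschemeι, hA, ?_⟩
    haveI := (pullback_obj_arrow π (Subobject.mk (B.arrow.ker.map π).subschemeι)).1
    rw [subobject_eq_iff_ker, (pullback_obj_arrow π _).2, hker, comap_map_of_comap_eq π _ e]

end Groth.Agent.S5233
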