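import Groth.Statements.S5234
import Mathlib.AlgebraicGeometry.Morphisms.LocalFlatDescent
import Mathlib.AlgebraicGeometry.Morphisms.FlatDescent
import Groth.Agent.Lib.AlgSpDescent.SchemeSource
import Groth.Agent.Lib.Desc.Over
-- import your own Groth.Agent.* helpers here

set_option autoImplicit false
open CategoryTheory CategoryTheory.Limits AlgebraicGeometry MonoidalCategory
universe u
open RedSub

namespace Groth.Agent.S5234

open CartesianMonoidalCategory SemiCartesianMonoidalCategory in
/-- (ii) ⇔ (iii), for schemes with the fppf topology: let `G` be an `S`-group scheme which is faithfully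
flat and locally of finite presentation over `S`, acting on `X` so that `X` is formally principal
homogeneous. Then `X` is a torsor (its structure map is faithfully flat and locally of finite
presentation) if and only if `X` has a point over some faithfully flat, locally finitely presented
`S' ⟶ S`. -/
theorem result {S : Scheme.{u}} {G X : Over S} [GrpObj G]
    (a : AlgGrp.Action G X)
    [Flat G.hom] [Surjective G.hom] [LocallyOfFinitePresentation G.hom]
    (hX : IsIso (lift a.act (snd G X))) :
    RedSub.IsTorsor a ↔
      ∃ S' : Over S, Surjective S'.hom ∧ Flat S'.hom ∧ LocallyOfFinitePresentation S'.hom ∧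
        Nonempty (S' ⟶ X) := by
  constructor
  · intro h
    exact ⟨X, h.1, h.2.1, h.2.2.1, ⟨𝟙 X⟩⟩
  · rintro ⟨S', hs1, hs2, hs3, ⟨x⟩⟩
    have := hX
    let p₁ : G ⊗ S' ⟶ X := (G ◁ x) ≫ a.act
    have hi1 : inv (lift a.act (snd G X)) ≫ snd G X = snd X X := by rw [IsIso.inv_comp_eq, lift_snd]
    have hi2 : inv (lift a.act (snd G X)) ≫ a.act = fst X X := by rw [IsIso.inv_comp_eq, lift_fst]
    have hsq : IsPullback p₁ (snd G S') (toUnit X) (toUnit S') := by
      refine IsPullback.of_isLimit' ⟨toUnit_unique _ _⟩ (Limits.PullbackCone.IsLimit.mk _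
        (fun c => lift (lift c.fst (c.snd ≫ x) ≫ inv (lift a.act (snd G X)) ≫ fst G X) c.snd)
        (fun c => ?_) (fun c => lift_snd _ _) (fun c m h1 h2 => ?_))
      · have e : lift c.fst (c.snd ≫ x) ≫ inv (lift a.act (snd G X)) ≫ snd G X = c.snd ≫ x := by
          rw [hi1, lift_snd]
        change _ ≫ (G ◁ x) ≫ a.act = c.fst
        rw [lift_whiskerLeft_assoc]
        have e2 : lift (lift c.fst (c.snd ≫ x) ≫ inv (lift a.act (snd G X)) ≫ fst G X) (c.snd ≫ x) =
            lift c.fst (c.snd ≫ x) ≫ inv (lift a.act (snd G X)) :=
          CartesianMonoidalCategory.hom_ext _ _ (by simp) (by rw [lift_snd, Category.assoc, e])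
        rw [e2, Category.assoc, hi2, lift_fst]
      · refine CartesianMonoidalCategory.hom_ext _ _ ?_ (by rw [h2, lift_snd])
        rw [lift_fst, ← h1, ← h2]
        have e3 : lift (m ≫ p₁) ((m ≫ snd G S') ≫ x) = (m ≫ (G ◁ x)) ≫ lift a.act (snd G X) := by
          rw [comp_lift, Category.assoc m (G ◁ x) a.act, Category.assoc m (G ◁ x) (snd G X), whiskerLeft_snd,
            Category.assoc]
        rw [e3, Category.assoc, IsIso.hom_inv_id_assoc, Category.assoc, whiskerLeft_fst]
    have hl : IsPullback p₁.left (snd G S').left X.hom S'.hom := by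
      have h := hsq.map (Over.forget S)
      have e1 : (toUnit X).left = X.hom := by simpa using Over.w (toUnit X)
      have e2 : (toUnit S').left = S'.hom := by simpa using Over.w (toUnit S')
      simp only [Over.forget_map, e1, e2] at h
      exact h
    have hsnd1 : Surjective (snd G S').left := by rw [Over.snd_left]; exact MorphismProperty.pullback_snd _ _ ‹Surjective G.hom›
    have hsnd2 : Flat (snd G S').left := by rw [Over.snd_left]; exact MorphismProperty.pullback_snd _ _ ‹Flat G.hom›
    have hsnd3 : LocallyOfFinitePresentation (snd G S').left := by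
      rw [Over.snd_left]; exact MorphismProperty.pullback_snd _ _ ‹LocallyOfFinitePresentation G.hom›
    have hfst1 : Surjective p₁.left := MorphismProperty.of_isPullback hl.flip hs1
    have hfst2 : Flat p₁.left := MorphismProperty.of_isPullback hl.flip hs2
    refine ⟨?_, ?_, ?_, hX⟩
    · have : Surjective (p₁.left ≫ X.hom) := by rw [hl.w]; infer_instance
      exact Surjective.of_comp p₁.left X.hom
    · have : Flat (p₁.left ≫ X.hom) := by rw [hl.w]; infer_instance
      exact AlgSpDescent.flat_of_comp_flat_surjective p₁.left X.hom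
    · exact MorphismProperty.of_isPullback_of_descendsAlong
        (Q := @Surjective ⊓ @Flat ⊓ @LocallyOfFinitePresentation) hl.flip ⟨⟨hs1, hs2⟩, hs3⟩ hsnd3

end Groth.Agent.S5234
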