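import Groth.Statements.S5235
import Groth.Agent.Lib.GrpQuot.SubDesc

set_option autoImplicit false
open CategoryTheory CategoryTheory.Limits AlgebraicGeometry
universe u
open GrpQ

namespace Groth.Agent.S5235

open Groth.Agent.GrpQuot.SubDesc

/-- For schemes, with (M) the faithfully flat quasi-compact morphisms and (N) the open immersions: if `π
: X ⟶ X'` is flat, surjective and quasi-compact, then `Y' ↦ π⁻¹(Y')` is a bijection from open
subschemes of `X'` onto the open subschemes of `X` stable under the kernel pair of `π`. -/
theorem result {X X' : Scheme.{u}} (π : X ⟶ X')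
    [Flat π] [Surjective π] [QuasiCompact π] :
    Set.BijOn (Subobject.pullback π).obj
      {Y' : Subobject X' | IsOpenImmersion Y'.arrow}
      {Y : Subobject X | IsOpenImmersion Y.arrow ∧
        (Subobject.pullback (pullback.fst π π)).obj Y = (Subobject.pullback (pullback.snd π π)).obj Y} := by
  refine ⟨fun A hA ↦ ?_, fun A hA B hB hAB ↦ ?_, fun B hB ↦ ?_⟩
  · haveI : IsOpenImmersion A.arrow := hA
    refine ⟨(range_pullback_obj_arrow π A).1, ?_⟩
    rw [← Subobject.pullback_comp, ← Subobject.pullback_comp, pullback.condition]
  · haveI : IsOpenImmersion A.arrow := hA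
    haveI : IsOpenImmersion B.arrow := hB
    haveI := (range_pullback_obj_arrow π A).1
    haveI := (range_pullback_obj_arrow π B).1
    have e := (subobject_eq_iff_range _ _).1 hAB
    rw [(range_pullback_obj_arrow π A).2, (range_pullback_obj_arrow π B).2] at e
    exact (subobject_eq_iff_range A B).2 (π.surjective.preimage_injective e)
  · obtain ⟨hB1, hB2⟩ := hB
    haveI : IsOpenImmersion B.arrow := hB1
    haveI h1 := (range_pullback_obj_arrow (pullback.fst π π) B).1
    haveI h2 := (range_pullback_obj_arrow (pullback.snd π π) B).1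
    have e := (subobject_eq_iff_range _ _).1 hB2
    rw [(range_pullback_obj_arrow _ B).2, (range_pullback_obj_arrow _ B).2] at e
    obtain ⟨ho, hsat⟩ := isOpen_image_of_saturated π B.arrow.isOpenEmbedding.isOpen_range e
    let V : X'.Opens := ⟨_, ho⟩
    obtain ⟨hA, hrange⟩ := range_mk_arrow V.ι
    haveI := hA
    refine ⟨Subobject.mk V.ι, hA, ?_⟩
    haveI := (range_pullback_obj_arrow π (Subobject.mk V.ι)).1
    rw [subobject_eq_iff_range, (range_pullback_obj_arrow π _).2, hrange, Scheme.Opens.range_ι]
    exact hsat

end Groth.Agent.S5235
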