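import Groth.Statements.S5238
import Groth.Agent.S1375
import Mathlib.AlgebraicGeometry.Sites.SheafQuasiCompact

set_option autoImplicit false
open CategoryTheory AlgebraicGeometry
universe w u
open GrpQ

namespace Groth.Agent.S5238

open CategoryTheory.Limits AlgebraicGeometry.Scheme
set_option backward.isDefEq.respectTransparency.types false

/-- flat, locally of finite presentation, locally quasi-finite -/
abbrev Q : MorphismProperty Scheme.{u} :=
  @Flat ⊓ @LocallyOfFinitePresentation ⊓ @LocallyQuasiFinite

theorem fppfTopology_eq : fppfTopology.{u} = propQCTopology Q := by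
  refine le_antisymm ?_ ?_
  · rw [fppfTopology, Precoverage.toGrothendieck_le_iff_le_toPrecoverage]
    refine Precoverage.le_of_zeroHypercover fun S 𝒰 => ?_
    rw [GrothendieckTopology.mem_toPrecoverage_iff]
    haveI : Precoverage.Small.{u} fppfPrecoverage.{u} := by unfold fppfPrecoverage; infer_instance
    let 𝒱 : Scheme.Cover.{u} (Scheme.precoverage
      (@Flat ⊓ @LocallyOfFinitePresentation : MorphismProperty Scheme.{u})) S :=
      Precoverage.ZeroHypercover.restrictIndexOfSmall.{u} 𝒰
    let g := Sigma.desc 𝒱.f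
    haveI : Flat g := IsZariskiLocalAtSource.sigmaDesc (P := @Flat) fun i => (𝒱.map_prop i).1
    haveI : LocallyOfFinitePresentation g :=
      IsZariskiLocalAtSource.sigmaDesc (P := @LocallyOfFinitePresentation)
        fun i => (𝒱.map_prop i).2
    haveI : Surjective g := ⟨fun s => by
      obtain ⟨i, x, hx⟩ := 𝒱.exists_eq s
      exact ⟨Sigma.ι 𝒱.X i x, by
        rw [← hx]; exact congrArg (fun m : 𝒱.X i ⟶ S => m x) (Sigma.ι_desc 𝒱.f i)⟩⟩
    obtain ⟨T, h, hf, hp, hq, hs, hloc⟩ := Groth.Agent.S1375.result g
    choose V r hV hr using hloc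
    let I := T × 𝒱.I₀
    let W : I → T.Opens := fun k => (V k.1).ι ''ᵁ (r k.1 ⁻¹ᵁ (Sigma.ι 𝒱.X k.2).opensRange)
    have hW : Presieve.ofArrows (fun k => (W k).toScheme) (fun k => (W k).ι ≫ h) ∈
        propQCPrecoverage Q S := by
      have hmem : Presieve.ofArrows (fun k => (W k).toScheme) (fun k => (W k).ι ≫ h) ∈
          Scheme.precoverage Q S := by
        rw [Scheme.ofArrows_mem_precoverage_iff]
        refine ⟨fun s => ?_, fun k => ⟨⟨?_, ?_⟩, ?_⟩⟩
        · obtain ⟨t, rfl⟩ := h.surjective s
          obtain ⟨i, x, hx⟩ := (sigmaOpenCover 𝒱.X).exists_eq (r t ⟨t, hV t⟩)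
          exact ⟨(t, i), ⟨t, ⟨⟨t, hV t⟩, ⟨x, hx⟩, rfl⟩⟩, rfl⟩
        · infer_instance
        · infer_instance
        · infer_instance
      exact ⟨precoverage_le_qcPrecoverage_of_isOpenMap
        (fun X Y f ⟨⟨_, _⟩, _⟩ => f.isOpenMap) _ hmem, hmem⟩
    refine GrothendieckTopology.superset_covering _ ?_ (Precoverage.generate_mem_toGrothendieck hW)
    rw [Sieve.generate_le_iff]
    rintro _ _ ⟨k⟩
    have hle : W k ≤ V k.1 := by
      rintro x ⟨y, -, rfl⟩; exact y.2
    let w : (W k).toScheme ⟶ (V k.1).toScheme := T.homOfLE hle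
    have hw : Set.range (w ≫ r k.1) ⊆ Set.range (Sigma.ι 𝒱.X k.2) := by
      rintro _ ⟨x, rfl⟩
      obtain ⟨y, hy, hyx⟩ := x.2
      have e : w x = y := by
        apply (V k.1).ι.isOpenEmbedding.injective
        exact (congrArg (fun m : (W k).toScheme ⟶ T => m x) (T.homOfLE_ι hle)).trans hyx.symm
      change r k.1 (w x) ∈ _
      rw [e]; exact hy
    refine ⟨_, IsOpenImmersion.lift (Sigma.ι 𝒱.X k.2) (w ≫ r k.1) hw, 𝒱.f k.2, ?_, ?_⟩
    · exact ⟨Precoverage.ZeroHypercover.Small.restrictFun 𝒰 k.2⟩
    rw [← Sigma.ι_desc 𝒱.f k.2, IsOpenImmersion.lift_fac_assoc, Category.assoc]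
    change w ≫ r k.1 ≫ g = _
    rw [hr, ← Category.assoc, Scheme.homOfLE_ι]
  · exact Precoverage.toGrothendieck_mono
      (propQCPrecoverage_le_precoverage.trans (precoverage_mono fun _ _ _ h => h.1))


/-- A presheaf of sets on schemes is a sheaf for the fppf topology (the topology generated by jointly
surjective families of flat morphisms locally of finite presentation) if and only if it is a Zariski
sheaf and satisfies the sheaf condition for every single morphism of affine schemes `T ⟶ S` which is
flat, surjective, locally of finite presentation and locally quasi-finite. (Between affine schemes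
such a morphism is faithfully flat, of finite presentation and quasi-finite; that these quasi-finite
covers suffice rests on the existence of quasi-finite flat quasi-sections of flat surjective
morphisms locally of finite presentation.) -/
theorem result (F : Scheme.{u}ᵒᵖ ⥤ Type w) :
    Presheaf.IsSheaf Scheme.fppfTopology F ↔
      Presheaf.IsSheaf Scheme.zariskiTopology F ∧
        ∀ (T S : Scheme.{u}) [IsAffine T] [IsAffine S] (f : T ⟶ S)
          [Flat f] [Surjective f] [LocallyOfFinitePresentation f] [LocallyQuasiFinite f],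
          Presieve.IsSheafFor F (Presieve.singleton f) := by
  rw [isSheaf_iff_isSheaf_of_type, isSheaf_iff_isSheaf_of_type]
  refine ⟨fun hF => ⟨?_, fun T S _ _ f _ _ _ _ => ?_⟩, fun ⟨hz, h⟩ => ?_⟩
  · exact Presieve.isSheaf_of_le _
      (Precoverage.toGrothendieck_mono Scheme.zariskiPrecoverage_le_fppfPrecoverage) hF
  · exact (Presieve.isSheafFor_iff_generate _).2
      (hF _ (Precoverage.generate_mem_toGrothendieck f.singleton_mem_fppfPrecoverage))
  · haveI : MorphismProperty.IsMultiplicative Q.{u} :=
      { id_mem := fun X => ⟨⟨inferInstance, inferInstance⟩, inferInstance⟩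
        comp_mem := fun f g hf hg => by
          obtain ⟨⟨_, _⟩, _⟩ := hf; obtain ⟨⟨_, _⟩, _⟩ := hg
          exact ⟨⟨inferInstance, inferInstance⟩, inferInstance⟩ }
    rw [fppfTopology_eq, isSheaf_type_propQCTopology_iff]
    refine ⟨hz, fun {R S} f hf hs => ?_⟩
    obtain ⟨⟨_, _⟩, _⟩ := hf
    exact h _ _ (Spec.map f)

end Groth.Agent.S5238
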