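import Groth.Statements.S5252
import Groth.Agent.Lib.MultType.FlatIso
import Groth.Agent.Lib.MultType.Field

set_option autoImplicit false
universe u
open TensorProduct SGA3b
open SGA3b

namespace Groth.Agent.S5252

/-- Let A be an Artinian local ring with residue field k and H = Spec C an affine A-group with C flat
and of finite type over A, whose closed fibre Spec (k ⊗ C) is a k-group of multiplicative type. Then
H is of multiplicative type and isotrivial. (Affine group schemes over an affine base are taken in
Hopf-algebra form; base change is the tensor product; a homomorphism of groups Spec A ⟶ Spec C is a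
bialgebra map C → A.) -/
theorem result (A : Type u) [CommRing A] [IsArtinianRing A] [IsLocalRing A]
    (C : Type u) [CommRing C] [HopfAlgebra A C] [Module.Flat A C] (hft : Algebra.FiniteType A C)
    (h0 : IsMultType (IsLocalRing.ResidueField A) (IsLocalRing.ResidueField A ⊗[A] C)) :
    IsMultType A C ∧ IsIsotrivial A C := by
  have hft0 : Algebra.FiniteType (IsLocalRing.ResidueField A) (IsLocalRing.ResidueField A ⊗[A] C) :=
    Algebra.FiniteType.baseChange (IsLocalRing.ResidueField A)
  have hm : IsNilpotent (IsLocalRing.maximalIdeal A) := by
    rw [← IsLocalRing.jacobson_eq_maximalIdeal (⊥ : Ideal A) bot_ne_top]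
    exact IsArtinianRing.isNilpotent_jacobson_bot
  have h1 := Groth.Agent.MultTypeLib.isIsotrivial_of_flat (R := A) (A := C)
    (I := IsLocalRing.maximalIdeal A) hm
    (Groth.Agent.MultTypeLib.isIsotrivial_of_field hft0 h0)
  exact ⟨Groth.Agent.MultTypeLib.isMultType_of_isIsotrivial h1, h1⟩

end Groth.Agent.S5252
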