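import Groth.Statements.S5253
import Groth.Agent.Lib.QFTorsion20.Basic

set_option autoImplicit false
universe u
open TensorProduct SGA3b
open SGA3b

namespace Groth.Agent.S5253

/-- Let R be a ring and G = Spec C a commutative affine R-group (C cocommutative) with C of finite
presentation and quasi-finite over R. Then there is an integer n > 0 such that n·id_G = 0: the
endomorphism of C corresponding to the n-th power map is the one corresponding to the unit
homomorphism, c ↦ ε(c)·1. (Affine group schemes over an affine base are taken in Hopf-algebra form;
base change is the tensor product; a homomorphism of groups Spec A ⟶ Spec C is a bialgebra map C →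
A.) -/
theorem result (R : Type u) [CommRing R] (C : Type u) [CommRing C] [HopfAlgebra R C]
    [Coalgebra.IsCocomm R C] (hfp : Algebra.FinitePresentation R C) [Algebra.QuasiFinite R C] :
    ∃ n : ℕ, 0 < n ∧ ∀ c : C, powConv R C n c = algebraMap R C (Coalgebra.counit c) := by
  haveI := hfp
  obtain ⟨n, hn, h⟩ := Groth.Agent.QFTorsion.exists_pow_eq_one (R := R) (C := C)
  refine ⟨n, hn, fun c => ?_⟩
  show (WithConv.toConv (AlgHom.id R C) ^ n).ofConv c = _
  rw [h, AlgHom.convOne_apply]


end Groth.Agent.S5253
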