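import Groth.Statements.S5255
import Groth.Agent.Lib.MTRigid29.NormalCentral

set_option autoImplicit false
open CategoryTheory MonoidalCategory CartesianMonoidalCategory MonObj GrpObj AlgebraicGeometry
universe u
open SGA3x

namespace Groth.Agent.S5255

/-- Let K be an S-group locally of finite type over S whose fibres are connected, and i : H ⟶ K a
subgroup scheme of multiplicative type and of finite type which is normal in K. Then H is central in
K: for every S-scheme X, every X-point of K commutes with (the image of) every X-point of H. -/
theorem result {S : Scheme.{u}} (K H : Over S) [GrpObj K] [GrpObj H]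
    [LocallyOfFiniteType K.hom] (hconn : ∀ s : S, ConnectedSpace ↥(Limits.pullback K.hom (S.fromSpecResidueField s)))
    (i : H ⟶ K) [IsMonHom i] [Mono i] (hH : SGA3x.IsMultTypeFT H) (hn : AlgGrp.IsNormalHom i) :
    ∀ (X : Over S) (k : X ⟶ K) (h : X ⟶ H), k * (h ≫ i) = (h ≫ i) * k := by
  exact fun X k h => MTRigid29.central_of_normal hconn i hH hn X k h

end Groth.Agent.S5255
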