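import Groth.Statements.S5256
import Groth.Agent.Lib.MTRigid29.Central
import Groth.Agent.Lib.MTRigid29.TrivGlobal
import Groth.Agent.Lib.MTRigid29.ActionFibres

set_option autoImplicit false
set_option backward.isDefEq.respectTransparency false
set_option backward.isDefEq.respectTransparency.types false
open CategoryTheory MonoidalCategory CartesianMonoidalCategory MonObj GrpObj AlgebraicGeometry
universe u
open SGA3x

namespace Groth.Agent.S5256

/-- Let u : H ⟶ G be a homomorphism of S-groups, with H of multiplicative type and of finite type and G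
of finite presentation over S (locally of finite presentation, quasi-compact and quasi-separated).
If for every s ∈ S the homomorphism u_s : H_s ⟶ G_s induced on the fibres at s is central (every
point of G_s commutes with the image of every point of H_s), then u is central. -/
theorem result {S : Scheme.{u}} (H G : Over S) [GrpObj H] [GrpObj G]
    (hH : SGA3x.IsMultTypeFT H) [LocallyOfFinitePresentation G.hom] [QuasiCompact G.hom] [QuasiSeparated G.hom]
    (u : H ⟶ G) [IsMonHom u]
    (hfib : ∀ (s : S) (X : Over (Spec (S.residueField s))) (g : X ⟶ Red.bc (S.fromSpecResidueField s) G)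
      (h : X ⟶ Red.bc (S.fromSpecResidueField s) H),
      g * (h ≫ (Over.pullback (S.fromSpecResidueField s)).map u) = (h ≫ (Over.pullback (S.fromSpecResidueField s)).map u) * g) :
    ∀ (X : Over S) (g : X ⟶ G) (h : X ⟶ H), g * (h ≫ u) = (h ≫ u) * g := by
  intro X g h
  have key := MTRigid29.action_trivial_fibres H G (MTRigid29.isMT_of_ft hH) (MTRigid29.conjAction u)
    fun s Y q h' x => by
      show lift h' x ≫ MTRigid29.conjHom u = x
      rw [MTRigid29.lift_conjHom]
      let r := S.fromSpecResidueField s
      let Y' : Over (Spec (S.residueField s)) := Over.mk q.left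
      let e : Y ≅ (Over.map r).obj Y' := Over.isoMk (Iso.refl _) (by simpa [Y', r] using Over.w q)
      obtain ⟨a, ha⟩ := DiagGL.fl_surjective r G (T := Y') (e.inv ≫ x)
      obtain ⟨b, hb⟩ := DiagGL.fl_surjective r H (T := Y') (e.inv ≫ h')
      have h1 := congrArg (DiagGL.fl r G) (hfib s Y' a b)
      rw [DiagGL.fl_mul, DiagGL.fl_mul, DiagGL.fl_comp_map, ha, hb] at h1
      have h2 := congrArg (e.hom ≫ ·) h1
      simp only [MonObj.comp_mul, Category.assoc, Iso.hom_inv_id_assoc] at h2
      rw [← h2, mul_inv_cancel_right]
  have h3 := congrArg (lift h g ≫ ·) key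
  simp only [lift_snd] at h3
  rw [show (MTRigid29.conjAction u).act = MTRigid29.conjHom u from rfl, MTRigid29.lift_conjHom] at h3
  exact (mul_inv_eq_iff_eq_mul.1 h3).symm

end Groth.Agent.S5256
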