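import Groth.Statements.S5263
import Groth.Agent.Lib.MTRigid29.HomCases
import Groth.Agent.Lib.MTRigid29.Descends

set_option autoImplicit false
open CategoryTheory MonoidalCategory CartesianMonoidalCategory MonObj GrpObj AlgebraicGeometry
universe u
open SGA3x

namespace Groth.Agent.S5263

set_option backward.isDefEq.respectTransparency false
set_option backward.isDefEq.respectTransparency.types false
set_option maxSynthPendingDepth 3
open CategoryTheory.Limits Groth.Agent.MTRigid29 Groth.Agent.DiagGL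

/-- Let G and H be S-groups of multiplicative type which are finite over S. Then the functor of group
homomorphisms from G to H is representable by an S-scheme which is finite and etale over S (with its
universal family of homomorphisms). -/
theorem result {S : Scheme.{u}} (G H : Over S) [GrpObj G] [GrpObj H]
    (hG : SGA3x.IsMultTypeFT G) [IsFinite G.hom] (hH : SGA3x.IsMultTypeFT H) [IsFinite H.hom] :
    ∃ (A : Over S) (υ : G ⊗ A ⟶ H), AutFam.RepresentsHom G H A υ ∧ IsFinite A.hom ∧ Etale A.hom := by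
  obtain ⟨κ₁, V₁, f₁, hf₁, hV₁, -⟩ := exists_cover_of_fpqc (show TwC.Locally S TwC.Topology.fpqc (fun U g =>
    ∃ (M : Type) (_ : AddCommGroup M), AddGroup.FG M ∧
      Nonempty (Grp.mk (Red.bc g G) ≅ Grp.mk (Red.DS U M))) from hG)
  obtain ⟨κ₂, V₂, f₂, hf₂, hV₂, -⟩ := exists_cover_of_fpqc (show TwC.Locally S TwC.Topology.fpqc (fun U g =>
    ∃ (M : Type) (_ : AddCommGroup M), AddGroup.FG M ∧
      Nonempty (Grp.mk (Red.bc g H) ≅ Grp.mk (Red.DS U M))) from hH)
  choose M₁ _ hM₁ e₁ using fun i => (hV₁ i).2.2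
  choose M₂ _ hM₂ e₂ using fun i => (hV₂ i).2.2
  have hfin₁ : ∀ i, Finite (M₁ i) := fun i => by
    haveI := (hV₁ i).2.1
    haveI : IsFinite (Red.bc (f₁ i) G).hom := inferInstanceAs (IsFinite (pullback.snd G.hom (f₁ i)))
    exact finite_of_chars_isFinite ((charsDS (V₁ i) (M₁ i)).transport (e₁ i).some)
  have hfin₂ : ∀ j, Finite (M₂ j) := fun j => by
    haveI := (hV₂ j).2.1
    haveI : IsFinite (Red.bc (f₂ j) H).hom := inferInstanceAs (IsFinite (pullback.snd H.hom (f₂ j)))
    exact finite_of_chars_isFinite ((charsDS (V₂ j) (M₂ j)).transport (e₂ j).some)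
  let f : ∀ p : Σ _ : κ₁, κ₂, pullback (f₁ p.1) (f₂ p.2) ⟶ S := fun p => pullback.fst (f₁ p.1) (f₂ p.2) ≫ f₁ p.1
  have hf : Presieve.ofArrows (fun p : Σ _ : κ₁, κ₂ => pullback (f₁ p.1) (f₂ p.2)) f ∈ Scheme.fpqcPrecoverage S :=
    exists_common_cover f₁ f₂ hf₁ hf₂
  obtain ⟨A, U, hA, hP⟩ := exists_representsHom_of_cover f hf G H (@IsFinite ⊓ @Etale) (fun p => by
      let C₁ : Chars (M₁ p.1) (Red.bc (f p) G) := charsComp (f₁ p.1) (pullback.fst (f₁ p.1) (f₂ p.2)) G
        (((charsDS (V₁ p.1) (M₁ p.1)).transport (e₁ p.1).some).baseChange _ _)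
      let C₂' : Chars (M₂ p.2) (Red.bc (pullback.snd (f₁ p.1) (f₂ p.2) ≫ f₂ p.2) H) :=
        charsComp (f₂ p.2) (pullback.snd (f₁ p.1) (f₂ p.2)) H
          (((charsDS (V₂ p.2) (M₂ p.2)).transport (e₂ p.2).some).baseChange _ _)
      rw [← pullback.condition] at C₂'
      haveI := hM₂ p.2
      obtain ⟨υ, hυ, -⟩ := exists_representsHom_split C₁ C₂'
      haveI := hfin₁ p.1
      haveI := hfin₂ p.2
      haveI : Finite (M₂ p.2 →+ M₁ p.1) := Finite.of_injective (fun a => (a : M₂ p.2 → M₁ p.1)) DFunLike.coe_injective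
      exact ⟨_, υ, hυ, isFinite_const, etale_const⟩)
    (fun E hE => SchDesc12.isEffective_of_isAffineHom hf fun p => haveI := (hE p).1; inferInstance)
  haveI : MorphismProperty.DescendsAlong @IsFinite (@Surjective ⊓ @Flat ⊓ @QuasiCompact) :=
    FpqcDesc.descendsAlong_isFinite
  exact ⟨A, U, hA, prop_of_fpqc_cover f hf @IsFinite A.hom fun p => (hP p).1,
    prop_of_fpqc_cover f hf @Etale A.hom fun p => (hP p).2⟩

end Groth.Agent.S5263
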