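import Groth.Statements.S5266
import Groth.Agent.Lib.MTRigid29.TwConstProps
import Groth.Agent.Lib.MTRigid29.HomDual

set_option autoImplicit false
open CategoryTheory MonoidalCategory CartesianMonoidalCategory MonObj GrpObj AlgebraicGeometry
universe u
open SGA3x

namespace Groth.Agent.S5266

set_option backward.isDefEq.respectTransparency false
set_option backward.isDefEq.respectTransparency.types false
set_option maxSynthPendingDepth 3
open CategoryTheory.Limits Groth.Agent.MTRigid29

/-- Let R be a twisted constant S-scheme (fpqc-locally on S isomorphic to a constant scheme, the index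
set being allowed to vary) and Z a closed subscheme of R which is quasi-compact over S. Then Z is
finite over S. -/
theorem result {S : Scheme.{u}} (R : Over S) (hR : TwC.IsTwConst TwC.Topology.fpqc R)
    {Z : Scheme.{u}} (z : Z ⟶ R.left) [IsClosedImmersion z] [QuasiCompact (z ≫ R.hom)] :
    IsFinite (z ≫ R.hom) := by
  obtain ⟨κ, V, f, hf, hV, -⟩ := exists_cover_of_fpqc hR
  haveI : MorphismProperty.DescendsAlong @IsFinite (@Surjective ⊓ @Flat ⊓ @QuasiCompact) :=
    FpqcDesc.descendsAlong_isFinite
  refine prop_of_fpqc_cover f hf @IsFinite _ fun k => ?_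
  obtain ⟨I, ⟨e⟩⟩ := (hV k).2.2
  let l : pullback (z ≫ R.hom) (f k) ⟶ (Red.bc (f k) R).left :=
    pullback.lift (pullback.fst _ _ ≫ z) (pullback.snd _ _) (by rw [Category.assoc, pullback.condition])
  have h2 : l ≫ pullback.snd R.hom (f k) = pullback.snd _ _ := pullback.lift_snd _ _ _
  have sql : IsPullback (pullback.fst (z ≫ R.hom) (f k)) l z (pullback.fst R.hom (f k)) :=
    IsPullback.of_bot (by rw [h2]; exact IsPullback.of_hasPullback (z ≫ R.hom) (f k))
      (pullback.lift_fst _ _ _).symm (IsPullback.of_hasPullback R.hom (f k))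
  haveI : IsClosedImmersion l := MorphismProperty.of_isPullback sql ‹IsClosedImmersion z›
  haveI : IsIso e.hom.left := (inferInstance : IsIso ((Over.forget _).map e.hom))
  have hhom : (l ≫ e.hom.left) ≫ (TwC.const (V k) I).hom = pullback.snd (z ≫ R.hom) (f k) := by
    rw [Category.assoc, Over.w e.hom]
    exact h2
  haveI : QuasiCompact ((l ≫ e.hom.left) ≫ (TwC.const (V k) I).hom) := by
    rw [hhom]; infer_instance
  rw [← hhom]
  exact isFinite_of_closed_const (l ≫ e.hom.left)

end Groth.Agent.S5266
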