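import Groth.Statements.S5267
import Groth.Agent.Lib.MTRigid29.TwConstClopen

set_option autoImplicit false
open CategoryTheory MonoidalCategory CartesianMonoidalCategory MonObj GrpObj AlgebraicGeometry
universe u
open SGA3x

namespace Groth.Agent.S5267

/-- Let S be a locally Noetherian connected scheme, P a quasi-isotrivial twisted constant S-scheme
(etale-locally on S isomorphic to a constant scheme) and Z an open and closed subscheme of P such
that for some s ∈ S the fibre Z_s is finite. Then Z is finite over S. -/
theorem result {S : Scheme.{u}} [IsLocallyNoetherian S] [ConnectedSpace S]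
    (P : Over S) (hP : TwC.IsTwConst TwC.Topology.etale P)
    {Z : Scheme.{u}} (z : Z ⟶ P.left) [IsOpenImmersion z] [IsClosedImmersion z]
    (hs : ∃ s : S, Set.Finite ((z ≫ P.hom).base ⁻¹' {s})) :
    IsFinite (z ≫ P.hom) := by
  exact Groth.Agent.MTRigid29.isFinite_of_clopen_twConst P hP z hs

end Groth.Agent.S5267
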