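import Groth.Statements.S5268
import Groth.Agent.Lib.MTRigid29.TwConstUnibranch

set_option autoImplicit false
open CategoryTheory MonoidalCategory CartesianMonoidalCategory MonObj GrpObj AlgebraicGeometry
universe u
open SGA3x

namespace Groth.Agent.S5268

set_option backward.isDefEq.respectTransparency false
set_option backward.isDefEq.respectTransparency.types false
set_option maxSynthPendingDepth 3
open CategoryTheory.Limits Groth.Agent.MTRigid29 Groth.Agent.EtHull15

/-- Let S be a locally Noetherian scheme all of whose local rings are geometrically unibranch, and P a
quasi-isotrivial twisted constant S-scheme (etale-locally on S isomorphic to a constant scheme).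
Then every connected component of P is open, and as an open subscheme of P it is finite over S. -/
theorem result {S : Scheme.{u}} [IsLocallyNoetherian S]
    (hS : ∀ s : S, CAlg2.IsGeomUnibranch (S.presheaf.stalk s))
    (P : Over S) (hP : TwC.IsTwConst TwC.Topology.etale P) (x : P.left) :
    ∃ U : P.left.Opens, (U : Set P.left) = connectedComponent x ∧ IsFinite (U.ι ≫ P.hom) := by
  haveI := (etale_of_twConst P hP).2
  have hfin : ∀ (Z : Scheme.{u}) (f : Z ⟶ S), Etale f → LocFinGen Z := fun Z f hf => by
    haveI := hf
    haveI : IsLocallyNoetherian Z := LocallyOfFiniteType.isLocallyNoetherian f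
    exact locFinGen_of_noetherian Z
  have huni := isUnibranch_of_etale P.hom hS
  obtain ⟨l, hl, hlx, -⟩ := exists_unique_isGen x (huni x)
  obtain ⟨U, hUl, -, hUf⟩ := isFinite_closure hS hfin P hP hl
  refine ⟨U, hUl.trans (Set.Subset.antisymm ?_ ?_), hUf⟩
  · exact isConnected_singleton.closure.subset_connectedComponent (specializes_iff_mem_closure.1 hlx)
  · exact (isClopen_closure huni (hfin _ P.hom inferInstance) hl).connectedComponent_subset
      (specializes_iff_mem_closure.1 hlx)

end Groth.Agent.S5268
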