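import Groth.Statements.S5270
import Groth.Agent.Lib.MultType.Adic
-- import your own Groth.Agent.* helpers here

set_option autoImplicit false
universe u
open TensorProduct SGA3b
open SGA3b

namespace Groth.Agent.S5270

/-- Injectivity of the map to formal homomorphisms. Let A be a Noetherian ring, separated and complete
for the I-adic topology, H = Spec B an isotrivial A-group of multiplicative type and G = Spec C an
affine A-group. If two homomorphisms H ⟶ G, given by bialgebra maps φ, ψ : C → B, have the same
reduction modulo I^(n+1) for every n ≥ 0, then φ = ψ. (Affine group schemes over an affine base are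
taken in Hopf-algebra form; base change is the tensor product; a homomorphism of groups Spec A ⟶
Spec C is a bialgebra map C → A.) -/
theorem result (A : Type u) [CommRing A] [IsNoetherianRing A] (I : Ideal A) [IsAdicComplete I A]
    (B : Type u) [CommRing B] [HopfAlgebra A B] (hH : IsIsotrivial A B)
    (C : Type u) [CommRing C] [HopfAlgebra A C] (φ ψ : C →ₐc[A] B)
    (h : ∀ (n : ℕ) (c : C), (1 : A ⧸ I ^ (n + 1)) ⊗ₜ[A] (φ c) = (1 : A ⧸ I ^ (n + 1)) ⊗ₜ[A] (ψ c)) :
    φ = ψ := by
  obtain ⟨S⟩ := Groth.Agent.MultTypeLib.exists_splitting hH
  exact S.bialgHom_ext h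

end Groth.Agent.S5270
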