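import Groth.Statements.S5274
import Groth.Agent.Lib.MTRigid29.HomLocus

set_option autoImplicit false
open CategoryTheory MonoidalCategory CartesianMonoidalCategory MonObj GrpObj AlgebraicGeometry
universe u
open SGA3x

namespace Groth.Agent.S5274

/-- Let u : G ⟶ H be a homomorphism of S-groups of multiplicative type and of finite type. Then the set
U of points s ∈ S such that u_s : G_s ⟶ H_s is a monomorphism is open and closed in S, and the
homomorphism G|_U ⟶ H|_U induced above U is a monomorphism. -/
theorem result {S : Scheme.{u}} (G H : Over S) [GrpObj G] [GrpObj H]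
    (hG : SGA3x.IsMultTypeFT G) (hH : SGA3x.IsMultTypeFT H) (u : G ⟶ H) [IsMonHom u] :
    ∃ U : S.Opens, IsClosed (U : Set S) ∧
      (∀ s : S, s ∈ U ↔ Mono ((Over.pullback (S.fromSpecResidueField s)).map u).left) ∧
      Mono ((Over.pullback U.ι).map u).left := by
  exact MTRigid29.exists_clopen_locus (MorphismProperty.monomorphisms Scheme.{u}) u MTRigid29.charCrit_mono (MTRigid29.isMT_of_ft hG) hH

end Groth.Agent.S5274
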