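import Groth.Statements.S5278
import Mathlib.AlgebraicGeometry.Morphisms.QuasiFinite
import Mathlib.AlgebraicGeometry.Morphisms.UniversallyOpen
import Mathlib.AlgebraicGeometry.Morphisms.Etale

-- import your own Groth.Agent.* helpers here

set_option autoImplicit false
open CategoryTheory AlgebraicGeometry
universe u
open SGA3x

namespace Groth.Agent.S5278

/-- Let X be a connected scheme, f : X' ⟶ X a finite etale morphism and x a point of X. Then every
connected component of X' meets the fibre of f over x; equivalently the map from the connected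
components of the fibre (or of the geometric fibre) to those of X' is surjective. -/
theorem result {X X' : Scheme.{u}} [ConnectedSpace X] (f : X' ⟶ X)
    [IsFinite f] [Etale f] (x : X) (c : X') :
    ∃ x' : X', f.base x' = x ∧ x' ∈ connectedComponent c := by
  classical
  have hfin : (f.base ⁻¹' {x}).Finite := f.finite_preimage_singleton x
  let T : Set (Set X') := {U | IsClopen U ∧ c ∈ U}
  obtain ⟨n, ⟨U, hU, rfl⟩, hmin⟩ : ∃ n, n ∈ (fun U => (f.base ⁻¹' {x} ∩ U).ncard) '' T ∧
      ∀ m ∈ (fun U => (f.base ⁻¹' {x} ∩ U).ncard) '' T, n ≤ m := by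
    have hne : ((fun U => (f.base ⁻¹' {x} ∩ U).ncard) '' T).Nonempty :=
      Set.Nonempty.image _ ⟨Set.univ, isClopen_univ, trivial⟩
    exact ⟨sInf ((fun U => (f.base ⁻¹' {x} ∩ U).ncard) '' T), Nat.sInf_mem hne,
      fun m hm => Nat.sInf_le hm⟩
  have hsurj : ∀ A : Set X', IsClopen A → A.Nonempty → ∃ y ∈ A, f.base y = x := by
    intro A hA hne
    have h : IsClopen (f.base '' A) := ⟨f.isClosedMap _ hA.1, f.isOpenMap _ hA.2⟩
    rcases isClopen_iff.1 h with he | he
    · exact absurd (Set.image_eq_empty.1 he) hne.ne_empty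
    · obtain ⟨y, hy, hyx⟩ : x ∈ f.base '' A := he ▸ trivial
      exact ⟨y, hy, hyx⟩
  obtain ⟨y, hy, hyx⟩ := hsurj U hU.1 ⟨c, hU.2⟩
  refine ⟨y, hyx, ?_⟩
  have hconn : _root_.IsPreconnected U := by
    rw [isPreconnected_iff_subset_of_disjoint]
    intro u v hu hv hsub hdis
    by_contra! hh
    have hcl : ∀ u v : Set X', IsOpen u → IsOpen v → U ⊆ u ∪ v → U ∩ (u ∩ v) = ∅ →
        IsClopen (U ∩ u) := by
      intro u v hu hv hsub hdis
      refine ⟨?_, hU.1.2.inter hu⟩
      have : U ∩ u = U \ v := by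
        ext z
        refine ⟨fun hz => ⟨hz.1, fun hzv => ?_⟩, fun hz => ⟨hz.1, (hsub hz.1).resolve_right hz.2⟩⟩
        exact (Set.eq_empty_iff_forall_notMem.1 hdis z) ⟨hz.1, hz.2, hzv⟩
      rw [this]
      exact hU.1.1.sdiff hv
    have hsub' : U ⊆ v ∪ u := hsub.trans (Set.union_comm u v).le
    have hdis' : U ∩ (v ∩ u) = ∅ := by rw [Set.inter_comm v u]; exact hdis
    wlog hc : c ∈ u generalizing u v
    · exact this v u hv hu hsub' hdis' hh.symm hsub hdis ((hsub hU.2).resolve_left hc)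
    obtain ⟨z, hzU, hzu⟩ := Set.not_subset.1 hh.1
    obtain ⟨w, hw, hwx⟩ := hsurj (U ∩ v) (hcl v u hv hu hsub' hdis') ⟨z, hzU, (hsub hzU).resolve_left hzu⟩
    refine not_lt.2 (hmin _ ⟨U ∩ u, ⟨hcl u v hu hv hsub hdis, hU.2, hc⟩, rfl⟩)
      (Set.ncard_lt_ncard ⟨fun a ha => ⟨ha.1, ha.2.1⟩, fun h => ?_⟩ (hfin.subset Set.inter_subset_left))
    exact (Set.eq_empty_iff_forall_notMem.1 hdis w) ⟨hw.1, (h ⟨hwx, hw.1⟩).2.2, hw.2⟩
  exact hconn.subset_connectedComponent hU.2 hy

end Groth.Agent.S5278
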