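import Groth.Statements.S5284
import Groth.Agent.Lib.MTRigid29.Graph

set_option autoImplicit false
open CategoryTheory MonoidalCategory CartesianMonoidalCategory MonObj GrpObj AlgebraicGeometry
universe u
open SGA3x

namespace Groth.Agent.S5284

/-- Let G be an S-group of multiplicative type (fpqc-locally on S isomorphic, as a group, to
diagonalisable groups D(M), M allowed to vary and taken in Type 0) acting on an S-scheme X which is
affine over S, the action being free (a point g of G fixing a point x of X is the unit). Then the
graph morphism G ×_S X ⟶ X ×_S X, (g, x) ↦ (g·x, x), is a closed immersion; and for every section σ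
of X over S the orbit morphism G ⟶ X, g ↦ g·σ, is a closed immersion. -/
theorem result {S : Scheme.{u}} (G X : Over S) [GrpObj G]
    (hG : TwC.Locally S TwC.Topology.fpqc (fun S' f => ∃ (M : Type) (_ : AddCommGroup M), Nonempty (Grp.mk (Red.bc f G) ≅ Grp.mk (Red.DS S' M)))) (hX : IsAffineHom X.hom) (a : AlgGrp.Action G X)
    (hfree : ∀ (Y : Over S) (g : Y ⟶ G) (x : Y ⟶ X), lift g x ≫ a.act = x → g = 1) :
    IsClosedImmersion (lift a.act (snd G X)).left ∧
      ∀ σ : 𝟙_ (Over S) ⟶ X, IsClosedImmersion (a.orbitMap σ).left := by
  haveI := hX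
  exact ⟨MTRigid29.isClosedImmersion_graph hG a hfree,
    MTRigid29.isClosedImmersion_orbitMap a (MTRigid29.isClosedImmersion_graph hG a hfree)⟩

end Groth.Agent.S5284
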