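import Groth.Statements.S5291
import Groth.Agent.Lib.MultType.Conj
-- import your own Groth.Agent.* helpers here

set_option autoImplicit false
universe u
open TensorProduct SGA3b
open SGA3b

namespace Groth.Agent.S5291

/-- Let R be a ring, I a nilpotent ideal of R, u : H₁ ⟶ H₂ a homomorphism of R-groups of multiplicative
type (H₁ = Spec A₁, H₂ = Spec A₂, u given by the bialgebra map α : A₂ → A₁), G = Spec C an affine
R-group with C smooth over R, v : H₁ ⟶ G a homomorphism (bialgebra map β : C → A₁) and w₀ : H₂,₀ ⟶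
G₀ a homomorphism over R/I (bialgebra map γ₀ : C₀ → A₂,₀) with w₀ ∘ u₀ = v₀ (the reduction of α
composed with γ₀ is the reduction of β). Then there is a homomorphism w : H₂ ⟶ G (bialgebra map γ :
C → A₂) lifting w₀ with w ∘ u = v, i.e. α ∘ γ = β. (The published statement says that the map of
homomorphism functors w ↦ w ∘ u is formally smooth, for any smooth S-group G; this row states the
lifting property this means over an affine base, for G affine.) (Affine group schemes over an affine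
base are taken in Hopf-algebra form; base change is the tensor product; a homomorphism of groups
Spec A ⟶ Spec C is a bialgebra map C → A.) -/
theorem result (R : Type u) [CommRing R] (I : Ideal R) (hI : IsNilpotent I)
    (A₁ : Type u) [CommRing A₁] [HopfAlgebra R A₁] (h₁ : IsMultType R A₁)
    (A₂ : Type u) [CommRing A₂] [HopfAlgebra R A₂] (h₂ : IsMultType R A₂) (α : A₂ →ₐc[R] A₁)
    (C : Type u) [CommRing C] [HopfAlgebra R C] [Algebra.Smooth R C] (β : C →ₐc[R] A₁)
    (γ₀ : ((R ⧸ I) ⊗[R] C) →ₐc[R ⧸ I] ((R ⧸ I) ⊗[R] A₂))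
    (h0 : ∀ c : C, Algebra.TensorProduct.map (AlgHom.id (R ⧸ I) (R ⧸ I)) (α : A₂ →ₐ[R] A₁) (γ₀ ((1 : R ⧸ I) ⊗ₜ[R] c)) =
      (1 : R ⧸ I) ⊗ₜ[R] (β c)) :
    ∃ γ : C →ₐc[R] A₂, (∀ c : C, γ₀ ((1 : R ⧸ I) ⊗ₜ[R] c) = (1 : R ⧸ I) ⊗ₜ[R] (γ c)) ∧ ∀ c : C, α (γ c) = β c := by
  obtain ⟨j₁, hj₁⟩ := Groth.Agent.MultTypeLib.exists_isInt_of_isMultType h₁
  obtain ⟨j₂, hj₂⟩ := Groth.Agent.MultTypeLib.exists_isInt_of_isMultType h₂
  obtain ⟨γ₁, hγ₁⟩ := Groth.Agent.MultTypeLib.exists_bialgHom_lift I hj₂ hI γ₀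
  have hx := Groth.Agent.MultTypeLib.isGrpHom_bialgHom β
  have hy := Groth.Agent.MultTypeLib.isGrpHom_bialgHom (α.comp γ₁)
  have hclose : ∀ c, (β : C →ₐ[R] A₁) c - ((α.comp γ₁ : C →ₐc[R] A₁) : C →ₐ[R] A₁) c ∈
      Groth.Agent.MultTypeLib.KT I A₁ := by
    intro c
    rw [Groth.Agent.MultTypeLib.sub_mem_KT_iff_one_tmul_eq]
    refine (h0 c).symm.trans ?_
    rw [hγ₁ c]
    rfl
  obtain ⟨g, hg, hβ⟩ := Groth.Agent.MultTypeLib.exists_conj_of_mod_nilpotent hj₁ hI hx hy hclose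
  have hz := (Groth.Agent.MultTypeLib.isGrpHom_bialgHom γ₁).conj g
  obtain ⟨γ, hγ⟩ := hz.exists_bialgHom
  refine ⟨γ, fun c => ?_, fun c => ?_⟩
  · rw [hγ₁ c]
    have hc : ∀ c, (Groth.Agent.MultTypeLib.cst A₂ g).ofConv c -
        (1 : WithConv (C →ₐ[R] A₂)).ofConv c ∈ Groth.Agent.MultTypeLib.KT I A₂ := by
      intro c
      show algebraMap R A₂ (g.ofConv c) - algebraMap R A₂ (Coalgebra.counit c) ∈ _
      rw [← map_sub, Algebra.algebraMap_eq_smul_one]
      exact Submodule.smul_mem_smul (hg c) trivial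
    have h1 := (Groth.Agent.MultTypeLib.postComp_eq_of_sub_mem _ _).mpr hc
    have h2 := congrArg (Groth.Agent.MultTypeLib.postComp
      (Algebra.TensorProduct.includeRight (R := R) (A := R ⧸ I))) hγ
    simp only [map_mul, map_inv, h1, map_one] at h2
    have h3 := h2.trans (Groth.Agent.MultTypeLib.one_conj
      (G := WithConv (C →ₐ[R] (R ⧸ I) ⊗[R] A₂)) _)
    exact (DFunLike.congr_fun (congrArg WithConv.ofConv h3) c).symm
  · have h2 := congrArg (Groth.Agent.MultTypeLib.postComp (α : A₂ →ₐ[R] A₁)) hγ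
    simp only [map_mul, map_inv, Groth.Agent.MultTypeLib.postComp_cst] at h2
    exact DFunLike.congr_fun (congrArg WithConv.ofConv (h2.trans hβ.symm)) c

end Groth.Agent.S5291
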