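import Groth.Statements.S5292
import Groth.Agent.Lib.MTRigid29.HomCases

set_option autoImplicit false
open CategoryTheory MonoidalCategory CartesianMonoidalCategory MonObj GrpObj AlgebraicGeometry
universe u
open SGA3x

namespace Groth.Agent.S5292

set_option backward.isDefEq.respectTransparency false
set_option backward.isDefEq.respectTransparency.types false
set_option maxSynthPendingDepth 3
open CategoryTheory.Limits Groth.Agent.MTRigid29 Groth.Agent.DiagGL

/-- Let R be a commutative twisted constant S-group (fpqc-locally on S isomorphic, as a group, to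
constant groups M_{S'}, the groups M allowed to vary and taken in Type 0, like the character groups
of the conclusion). Then the functor D_S(R) = Hom_{S-gr}(R, G_m) is representable: there is an
S-group D with a universal family of characters R ×_S D ⟶ G_{m,S}, multiplicative in the D-variable
as well (the group law of D is the pointwise product of characters), and D is of multiplicative type
(fpqc-locally on S isomorphic, as a group, to diagonalisable groups D(M), M allowed to vary and
taken in Type 0). -/
theorem result {S : Scheme.{u}} (R : Over S) [GrpObj R]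
    (hR : TwC.Locally S TwC.Topology.fpqc (fun S' f => ∃ (M : Type) (_ : Group M) (e : Red.bc f R ≅ TwC.const S' M),
      TwC.IsConstGrp M (Red.bc f R) e))
    (hcomm : ∀ (X : Over S) (a b : X ⟶ R), a * b = b * a) :
    ∃ (D : Over S) (_ : GrpObj D) (υ : R ⊗ D ⟶ Red.Gm S), AutFam.RepresentsHom R (Red.Gm S) D υ ∧
      (∀ (X : Over S) (r : X ⟶ R) (a b : X ⟶ D), lift r (a * b) ≫ υ = (lift r a ≫ υ) * (lift r b ≫ υ)) ∧
      TwC.Locally S TwC.Topology.fpqc (fun S' f => ∃ (M : Type) (_ : AddCommGroup M), Nonempty (Grp.mk (Red.bc f D) ≅ Grp.mk (Red.DS S' M))) := by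
  obtain ⟨κ, V, f, hf, hV, hLoc⟩ := exists_cover_of_fpqc hR
  have key : ∀ k, ∃ (M : Type) (_ : CommGroup M) (e : Red.bc (f k) R ≅ TwC.const (V k) M),
      TwC.IsConstGrp M (Red.bc (f k) R) e := by
    intro k
    obtain ⟨-, ⟨v⟩, M, inst, e, he⟩ := hV k
    have hc : ∀ a b : M, a * b = b * a := by
      intro a b
      have h : TwC.pt (V k) M (a * b) ≫ e.inv = TwC.pt (V k) M (b * a) ≫ e.inv := by
        rw [← he, ← he]
        exact fl_injective (f k) R (by rw [fl_mul, fl_mul, hcomm])
      rw [cancel_mono] at h
      have h1 := piece_toUnit_pt (T := 𝟙_ (Over (V k))) (a * b) v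
      rw [h] at h1
      exact eq_of_mem_piece _ h1 (piece_toUnit_pt (T := 𝟙_ (Over (V k))) (b * a) v)
    exact ⟨M, { inst with mul_comm := hc }, e, he⟩
  choose M _ e he using key
  let C : ∀ k, Chars ℤ (Red.bc (f k) (Red.Gm S)) := fun k => (charsDS S ℤ).baseChange (f k) (Red.Gm S)
  choose υ hυ hmulυ using fun k => exists_representsHom_const (e k) (he k) (C k)
  obtain ⟨D, U, hD, -⟩ := exists_representsHom_of_cover f hf R (Red.Gm S) @IsAffineHom
    (fun k => ⟨_, υ k, hυ k, isAffineHom_DS (V k) (Additive (M k))⟩)
    (fun E hE => SchDesc12.isEffective_of_isAffineHom hf hE)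
  obtain ⟨inst, hmul⟩ := exists_grpObj_rep hD fun X a b => comm_of_chars (charsDS S ℤ) a b
  refine ⟨D, inst, U, hD, hmul, hLoc _ fun k => ⟨Additive (M k), inferInstance, ?_⟩⟩
  obtain ⟨w, hw, -⟩ := grpIso_of_representsHom (representsHom_bc (f k) hD) (isMulParam_bcFam hmul (f k))
    (hυ k) (hmulυ k)
  exact ⟨Grp.mkIso' w⟩

end Groth.Agent.S5292
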