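import Groth.Statements.S5293
import Groth.Agent.Lib.MTRigid29.HomCases

set_option autoImplicit false
open CategoryTheory MonoidalCategory CartesianMonoidalCategory MonObj GrpObj AlgebraicGeometry
universe u
open SGA3x

namespace Groth.Agent.S5293

set_option backward.isDefEq.respectTransparency false
set_option backward.isDefEq.respectTransparency.types false
set_option maxSynthPendingDepth 3
open CategoryTheory.Limits Groth.Agent.MTRigid29 Groth.Agent.DiagGL

/-- Let H be a quasi-isotrivial S-group of multiplicative type (etale-locally on S isomorphic, as a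
group, to diagonalisable groups D(M), M allowed to vary and taken in Type 0). Then the functor
D_S(H) = Hom_{S-gr}(H, G_m) is representable: there is an S-group D with a universal family of
characters H ×_S D ⟶ G_{m,S}, multiplicative in the D-variable as well (the group law of D is the
pointwise product of characters), and D is a quasi-isotrivial twisted constant S-group
(etale-locally on S a constant group). -/
theorem result {S : Scheme.{u}} (H : Over S) [GrpObj H]
    (hH : TwC.Locally S TwC.Topology.etale (fun S' f => ∃ (M : Type) (_ : AddCommGroup M), Nonempty (Grp.mk (Red.bc f H) ≅ Grp.mk (Red.DS S' M)))) :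
    ∃ (D : Over S) (_ : GrpObj D) (υ : H ⊗ D ⟶ Red.Gm S), AutFam.RepresentsHom H (Red.Gm S) D υ ∧
      (∀ (X : Over S) (h : X ⟶ H) (a b : X ⟶ D), lift h (a * b) ≫ υ = (lift h a ≫ υ) * (lift h b ≫ υ)) ∧
      TwC.IsTwConstGrp TwC.Topology.etale D := by
  obtain ⟨V, f, hf, hV, hLoc⟩ := exists_cover_of_etale hH
  have hEt : ∀ k, Etale (f k) := fun k => (hV k).1
  choose M _ e using fun k => (hV k).2.2
  let CH : ∀ k, Chars (M k) (Red.bc (f k) H) := fun k => (charsDS (V k) (M k)).transport (e k).some
  let C : ∀ k, Chars ℤ (Red.bc (f k) (Red.Gm S)) := fun k => (charsDS S ℤ).baseChange (f k) (Red.Gm S)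
  choose υ hυ hval using fun k => exists_representsHom_split (CH k) (C k)
  obtain ⟨D, U, hD, -⟩ := exists_representsHom_of_cover f hf H (Red.Gm S) (@Etale ⊓ @IsSeparated)
    (fun k => ⟨_, υ k, hυ k, etale_const, isSeparated_const⟩)
    (fun E hE => SchDesc12.isEffective_of_lqf hf (fun k => by haveI := hEt k; infer_instance) (fun k => (hE k).2)
      (fun k => haveI := (hE k).1; SchDesc12.locallyQuasiFinite_of_etale _)
      (fun k => haveI := (hE k).1; inferInstance))
  obtain ⟨inst, hmul⟩ := exists_grpObj_rep hD fun X a b => comm_of_chars (charsDS S ℤ) a b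
  refine ⟨D, inst, U, hD, hmul, hLoc _ fun k => ?_⟩
  obtain ⟨instW, hmulW⟩ := exists_grpObj_rep (hυ k) fun X a b => comm_of_chars (C k) a b
  obtain ⟨w, hw, -⟩ := grpIso_of_representsHom (representsHom_bc (f k) hD) (isMulParam_bcFam hmul (f k))
    (hυ k) hmulW
  let J : ULift.{u} (Multiplicative (ℤ →+ M k)) ≃ (ℤ →+ M k) := Equiv.ulift.trans Multiplicative.toAdd
  refine ⟨ULift.{u} (Multiplicative (ℤ →+ M k)), inferInstance, w ≪≫ constEquiv J.symm, fun a b => ?_⟩
  simp only [Iso.trans_inv, constEquiv, Equiv.symm_symm, ← Category.assoc, pt_constMap, ← MonObj.mul_comp]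
  rw [pt_mul_of_split (CH k) (C k) (hυ k) (hval k) hmulW]
  rfl

end Groth.Agent.S5293
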