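import Groth.Statements.S5295
import Groth.Agent.Lib.MTRigid29.NhdCentral
import Groth.Agent.Lib.MTRigid29.ActionFibres
import Groth.Agent.Lib.MTRigid29.TransporterRep
import Groth.Agent.Lib.MTRigid29.TrivGlobal
-- import your own Groth.Agent.* helpers here

set_option autoImplicit false
set_option backward.isDefEq.respectTransparency false
set_option backward.isDefEq.respectTransparency.types false
open CategoryTheory MonoidalCategory CartesianMonoidalCategory MonObj GrpObj AlgebraicGeometry
universe u
open SGA3x

namespace Groth.Agent.S5295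

/-- Let u : H ⟶ G be a homomorphism of S-groups, with H of multiplicative type and of finite type and G
of finite presentation over S (locally of finite presentation, quasi-compact, quasi-separated) with
connected fibres, and let s ∈ S be a point such that u_s : H_s ⟶ G_s is central. Then there is an
open neighbourhood U of s such that the homomorphism H|_U ⟶ G|_U induced by u is central: for every
S-scheme X lying over U, every X-point of G commutes with the image of every X-point of H. -/
theorem result {S : Scheme.{u}} (H G : Over S) [GrpObj H] [GrpObj G]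
    (hH : SGA3x.IsMultTypeFT H) [LocallyOfFinitePresentation G.hom] [QuasiCompact G.hom] [QuasiSeparated G.hom]
    (hconn : ∀ t : S, ConnectedSpace ↥(Limits.pullback G.hom (S.fromSpecResidueField t)))
    (u : H ⟶ G) [IsMonHom u] (s : S)
    (hs : ∀ (X : Over (Spec (S.residueField s))) (g : X ⟶ Red.bc (S.fromSpecResidueField s) G)
      (h : X ⟶ Red.bc (S.fromSpecResidueField s) H),
      g * (h ≫ (Over.pullback (S.fromSpecResidueField s)).map u) = (h ≫ (Over.pullback (S.fromSpecResidueField s)).map u) * g) :
    ∃ U : S.Opens, s ∈ U ∧ ∀ (X : Over S) (q : X ⟶ Over.mk U.ι) (g : X ⟶ G) (h : X ⟶ H),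
      g * (h ≫ u) = (h ≫ u) * g := by
  obtain ⟨U, hsU, hU⟩ := MTRigid29.exists_nhd_central_fibres H G (MTRigid29.isMT_of_ft hH) hconn u s
    fun Y q h g => by
      let r := S.fromSpecResidueField s
      let Y' : Over (Spec (S.residueField s)) := Over.mk q.left
      let e : Y ≅ (Over.map r).obj Y' := Over.isoMk (Iso.refl _) (by simpa [Y', r] using Over.w q)
      obtain ⟨a, ha⟩ := DiagGL.fl_surjective r G (T := Y') (e.inv ≫ g)
      obtain ⟨b, hb⟩ := DiagGL.fl_surjective r H (T := Y') (e.inv ≫ h)
      have h1 := congrArg (DiagGL.fl r G) (hs Y' a b)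
      rw [DiagGL.fl_mul, DiagGL.fl_mul, DiagGL.fl_comp_map, ha, hb] at h1
      have h2 := congrArg (e.hom ≫ ·) h1
      simpa only [MonObj.comp_mul, Category.assoc, Iso.hom_inv_id_assoc] using h2.symm
  refine ⟨U, hsU, fun X q g h => ?_⟩
  have hK : ∀ {U' : Scheme.{u}} (j : U' ⟶ S) [IsOpenImmersion j], (∀ v : U', j v ∈ U) →
      ∀ (T : Over U') (g : T ⟶ Red.bc j G) (h : T ⟶ Red.bc j H),
        (h ≫ (Over.pullback j).map u) * g = g * (h ≫ (Over.pullback j).map u) := by
    intro U' j _ hj T g h
    haveI := MTRigid29.isMonHom_map u j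
    haveI : LocallyOfFiniteType (Red.bc j G).hom := inferInstanceAs (LocallyOfFiniteType (Limits.pullback.snd G.hom j))
    have key := MTRigid29.action_trivial_fibres (Red.bc j H) (Red.bc j G) (MTRigid29.isMT_bc (MTRigid29.isMT_of_ft hH) j)
      (MTRigid29.conjAction ((Over.pullback j).map u)) fun v Y p h' g' => by
        show lift h' g' ≫ MTRigid29.conjHom ((Over.pullback j).map u) = g'
        rw [MTRigid29.lift_conjHom, mul_inv_eq_iff_eq_mul]
        apply DiagGL.fl_injective j G
        rw [DiagGL.fl_mul, DiagGL.fl_mul, DiagGL.fl_comp_map]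
        refine hU (j v) (hj v) _ (Over.homMk (p.left ≫ Spec.map (j.residueFieldMap v)) ?_) _ _
        show (p.left ≫ Spec.map (j.residueFieldMap v)) ≫ S.fromSpecResidueField (j v) = Y.hom ≫ j
        rw [← Over.w p, Category.assoc, Scheme.Hom.SpecMap_residueFieldMap_fromSpecResidueField, Category.assoc]
        rfl
    have h3 := congrArg (lift h g ≫ ·) key
    simp only [lift_snd] at h3
    rw [show (MTRigid29.conjAction ((Over.pullback j).map u)).act = MTRigid29.conjHom ((Over.pullback j).map u) from rfl,
      MTRigid29.lift_conjHom] at h3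
    exact mul_inv_eq_iff_eq_mul.1 h3
  let X' : Over (U : Scheme.{u}) := Over.mk q.left
  let e : X ≅ (Over.map U.ι).obj X' := Over.isoMk (Iso.refl _) (by simpa [X'] using Over.w q)
  obtain ⟨a, ha⟩ := DiagGL.fl_surjective U.ι G (T := X') (e.inv ≫ g)
  obtain ⟨b, hb⟩ := DiagGL.fl_surjective U.ι H (T := X') (e.inv ≫ h)
  have h1 := congrArg (DiagGL.fl U.ι G) (hK U.ι (fun v => v.2) X' a b)
  rw [DiagGL.fl_mul, DiagGL.fl_mul, DiagGL.fl_comp_map, ha, hb] at h1
  have h2 := congrArg (e.hom ≫ ·) h1
  simpa only [MonObj.comp_mul, Category.assoc, Iso.hom_inv_id_assoc] using h2.symm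

end Groth.Agent.S5295
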