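import Groth.Statements.S5297
import Groth.Agent.Lib.MTRigid29.Transporter

set_option autoImplicit false
open CategoryTheory MonoidalCategory CartesianMonoidalCategory MonObj GrpObj AlgebraicGeometry
universe u
open SGA3x

namespace Groth.Agent.S5297

/-- In the lifting form that formal smoothness of the transporter means. Let S = Spec R be affine, J a
nilpotent ideal of R and S₀ = Spec (R/J); let G be an S-group smooth over S, k : K ⟶ G a
sub-group-scheme (a homomorphism which is an immersion) with K smooth over S or of multiplicative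
type, H an S-group of multiplicative type (fpqc-locally on S isomorphic, as a group, to
diagonalisable groups D(M), M allowed to vary and taken in Type 0), u : H ⟶ G a homomorphism, and g₀
an S₀-valued point of G such that int(g₀) ∘ u takes the points of H defined over S₀-schemes into K.
Then g₀ lifts to an S-point g of G such that int(g) ∘ u factors through K on all points. -/
theorem result {R : Type u} [CommRing R] (J : Ideal R) (hJ : IsNilpotent J)
    (G K H : Over (Spec (CommRingCat.of R))) [GrpObj G] [GrpObj K] [GrpObj H] (hG : Smooth G.hom)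
    (k : K ⟶ G) [IsMonHom k] [IsImmersion k.left]
    (hK : Smooth K.hom ∨ TwC.Locally (Spec (CommRingCat.of R)) TwC.Topology.fpqc (fun S' f => ∃ (M : Type) (_ : AddCommGroup M), Nonempty (Grp.mk (Red.bc f K) ≅ Grp.mk (Red.DS S' M))))
    (hH : TwC.Locally (Spec (CommRingCat.of R)) TwC.Topology.fpqc (fun S' f => ∃ (M : Type) (_ : AddCommGroup M), Nonempty (Grp.mk (Red.bc f H) ≅ Grp.mk (Red.DS S' M))))
    (u : H ⟶ G) [IsMonHom u] (g₀ : (Over.mk (Spec.map (CommRingCat.ofHom (Ideal.Quotient.mk J))) : Over (Spec (CommRingCat.of R))) ⟶ G)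
    (h0 : ∀ (X : Over (Spec (CommRingCat.of R))) (p : X ⟶ (Over.mk (Spec.map (CommRingCat.ofHom (Ideal.Quotient.mk J))) : Over (Spec (CommRingCat.of R)))) (h : X ⟶ H),
      ∃ x : X ⟶ K, (p ≫ g₀) * (h ≫ u) * (p ≫ g₀)⁻¹ = x ≫ k) :
    ∃ g : 𝟙_ (Over (Spec (CommRingCat.of R))) ⟶ G, toUnit (Over.mk (Spec.map (CommRingCat.ofHom (Ideal.Quotient.mk J))) : Over (Spec (CommRingCat.of R))) ≫ g = g₀ ∧
      ∀ (X : Over (Spec (CommRingCat.of R))) (h : X ⟶ H), ∃ x : X ⟶ K, (toUnit X ≫ g) * (h ≫ u) * (toUnit X ≫ g)⁻¹ = x ≫ k := by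
  obtain ⟨A, _, _, j, hj, ⟨e⟩⟩ := MTRigid29.exists_model_affine hH
  haveI : Mono k := Over.mono_of_mono_left k
  exact MTRigid29.exists_transporter_lift e hj hJ hG k hK u g₀ h0

end Groth.Agent.S5297
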