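import Groth.Statements.S5302
import Groth.Agent.Lib.MTRigid29.CentralDesc

set_option autoImplicit false
open CategoryTheory MonoidalCategory CartesianMonoidalCategory MonObj GrpObj AlgebraicGeometry
universe u
open SGA3x

namespace Groth.Agent.S5302

/-- Case of an fpqc covering, the example the source names: Let H be an S-group of multiplicative type
and of finite type, G an S-group separated and of finite presentation over S (locally of finite
presentation, quasi-compact, quasi-separated), and π : S' ⟶ S a flat surjective morphism which is an
fpqc covering (every affine open of S is the image of a quasi-compact open of S') with geometrically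
connected fibres. Let u' : H' ⟶ G' be a central homomorphism between the base changes to S' (u'(h)
commutes with every point of G'). Then there is exactly one homomorphism of S-groups u : H ⟶ G whose
base change to S' is u'. -/
theorem result {S S' : Scheme.{u}} (H G : Over S) [GrpObj H] [GrpObj G]
    (hH : SGA3x.IsMultTypeFT H) [IsSeparated G.hom] [LocallyOfFinitePresentation G.hom] [QuasiCompact G.hom] [QuasiSeparated G.hom]
    (π : S' ⟶ S) [Flat π] [Surjective π]
    (hcov : ∀ V : S.Opens, IsAffineOpen V → ∃ W : S'.Opens, IsCompact (W : Set S') ∧ π.base '' (W : Set S') = (V : Set S))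
    (hconn : ∀ s : S, ConnectedSpace ↥(Limits.pullback π (Red.geomPt s)))
    (u' : Red.bc π H ⟶ Red.bc π G) [IsMonHom u']
    (hc : ∀ (X : Over S') (g : X ⟶ Red.bc π G) (h : X ⟶ Red.bc π H), g * (h ≫ u') = (h ≫ u') * g) :
    ∃! u : H ⟶ G, IsMonHom u ∧ (Over.pullback π).map u = u' := by
  exact MTRigid29.existsUnique_descent π u' hH hconn hc hcov

end Groth.Agent.S5302
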