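import Groth.Statements.S5305
import Groth.Agent.Lib.MTRigid29.TransporterSection

set_option autoImplicit false
open CategoryTheory MonoidalCategory CartesianMonoidalCategory MonObj GrpObj AlgebraicGeometry
universe u
open SGA3x

namespace Groth.Agent.S5305

/-- (ii) ⇒ (i): Let H be an S-group of multiplicative type and of finite type, G an S-group smooth and
affine over S, and u₁, u₂ : H ⟶ G two homomorphisms. Suppose that for every s ∈ S, writing s̄ for
the spectrum of an algebraic closure of κ(s), the homomorphisms u₁ and u₂ restricted to points over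
s̄ are conjugate by a point of G with values in s̄. Then u₁ and u₂ are conjugate locally for the
etale topology: every point of S is in the image of an etale S' ⟶ S over which there is an S'-point
g of G ×_S S' with u₂ = int(g) ∘ u₁ on points. -/
theorem result {S : Scheme.{u}} (H G : Over S) [GrpObj H] [GrpObj G]
    (hH : SGA3x.IsMultTypeFT H) (hG : Smooth G.hom) (hGa : IsAffineHom G.hom) (u₁ u₂ : H ⟶ G) [IsMonHom u₁] [IsMonHom u₂]
    (hgeom : ∀ s : S, ∃ g : Over.mk (Red.geomPt s) ⟶ G, ∀ (X : Over S) (p : X ⟶ Over.mk (Red.geomPt s)) (h : X ⟶ H),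
      h ≫ u₂ = (p ≫ g) * (h ≫ u₁) * (p ≫ g)⁻¹) :
    TwC.Locally S TwC.Topology.etale (fun S' f => ∃ g : 𝟙_ (Over S') ⟶ Red.bc f G,
      ∀ (X : Over S') (h : X ⟶ Red.bc f H),
        h ≫ (Over.pullback f).map u₂ = (toUnit X ≫ g) * (h ≫ (Over.pullback f).map u₁) * (toUnit X ≫ g)⁻¹) := by
  exact fun s => MTRigid29.exists_etale_conj_hom hH hG hGa u₁ u₂ s (hgeom s)

end Groth.Agent.S5305
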