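import Groth.Statements.S5307
import Groth.Agent.Lib.MTRigid29.CentralSubDesc

set_option autoImplicit false
open CategoryTheory MonoidalCategory CartesianMonoidalCategory MonObj GrpObj AlgebraicGeometry
universe u
open SGA3x

namespace Groth.Agent.S5307

set_option backward.isDefEq.respectTransparency false
set_option backward.isDefEq.respectTransparency.types false
set_option maxSynthPendingDepth 3
open CategoryTheory.Limits Groth.Agent.MTRigid29

/-- The case of an fpqc covering. Let G be an S-group separated and of finite presentation over S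
(locally of finite presentation, quasi-compact, quasi-separated), π : S' ⟶ S a flat surjective
morphism which is an fpqc covering (every affine open of S is the image of a quasi-compact open of
S') with geometrically connected fibres, and j' : H' ⟶ G ×_S S' a central sub-group-scheme (a
homomorphism which is an immersion, every point of G ×_S S' commuting with every point of H') of
multiplicative type and of finite type. Then there is a sub-group-scheme j : H ⟶ G of multiplicative
type and of finite type with H ×_S S' = H' as subgroups of G ×_S S' (an isomorphism compatible with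
the inclusions), and any two such subgroups of G coincide (are isomorphic compatibly with their
inclusions). -/
theorem result {S S' : Scheme.{u}} (G : Over S) [GrpObj G]
    [IsSeparated G.hom] [LocallyOfFinitePresentation G.hom] [QuasiCompact G.hom] [QuasiSeparated G.hom]
    (π : S' ⟶ S) [Flat π] [Surjective π]
    (hcov : ∀ V : S.Opens, IsAffineOpen V → ∃ W : S'.Opens, IsCompact (W : Set S') ∧ π.base '' (W : Set S') = (V : Set S))
    (hconn : ∀ s : S, ConnectedSpace ↥(Limits.pullback π (Red.geomPt s)))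
    (H' : Over S') [GrpObj H'] (hH' : SGA3x.IsMultTypeFT H') (j' : H' ⟶ Red.bc π G) [IsMonHom j'] [IsImmersion j'.left]
    (hc : ∀ (X : Over S') (g : X ⟶ Red.bc π G) (h : X ⟶ H'), g * (h ≫ j') = (h ≫ j') * g) :
    (∃ (H : Over S) (_ : GrpObj H) (j : H ⟶ G), IsMonHom j ∧ IsImmersion j.left ∧ SGA3x.IsMultTypeFT H ∧
      ∃ φ : Red.bc π H ≅ H', φ.hom ≫ j' = (Over.pullback π).map j) ∧
    (∀ (H₁ H₂ : Over S) [GrpObj H₁] [GrpObj H₂] (j₁ : H₁ ⟶ G) (j₂ : H₂ ⟶ G) [IsMonHom j₁] [IsMonHom j₂]
      [IsImmersion j₁.left] [IsImmersion j₂.left],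
      (∃ φ₁ : Red.bc π H₁ ≅ H', φ₁.hom ≫ j' = (Over.pullback π).map j₁) →
      (∃ φ₂ : Red.bc π H₂ ≅ H', φ₂.hom ≫ j' = (Over.pullback π).map j₂) →
      ∃ ψ : H₁ ≅ H₂, ψ.hom ≫ j₂ = j₁) := by
  refine ⟨exists_descent_subgroup j' hH' hc hconn hcov, ?_⟩
  rintro H₁ H₂ _ _ j₁ j₂ _ _ _ _ ⟨φ₁, h₁⟩ ⟨φ₂, h₂⟩
  obtain ⟨u, hu⟩ := exists_fac_of_bc_eq j₁ j₂ hcov (φ₁.hom ≫ φ₂.inv)
    (by rw [Category.assoc, ← h₂, Iso.inv_hom_id_assoc, h₁])
  obtain ⟨v, hv⟩ := exists_fac_of_bc_eq j₂ j₁ hcov (φ₂.hom ≫ φ₁.inv)
    (by rw [Category.assoc, ← h₁, Iso.inv_hom_id_assoc, h₂])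
  haveI : Mono j₁ := Over.mono_of_mono_left j₁
  haveI : Mono j₂ := Over.mono_of_mono_left j₂
  exact ⟨⟨u, v, (cancel_mono j₁).1 (by rw [Category.assoc, hv, hu, Category.id_comp]),
    (cancel_mono j₂).1 (by rw [Category.assoc, hu, hv, Category.id_comp])⟩, hu⟩

end Groth.Agent.S5307
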