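import Groth.Statements.S5308
import Groth.Agent.Lib.MTRigid29.TwConstClopen

set_option autoImplicit false
open CategoryTheory MonoidalCategory CartesianMonoidalCategory MonObj GrpObj AlgebraicGeometry
universe u
open SGA3x

namespace Groth.Agent.S5308

set_option backward.isDefEq.respectTransparency false
set_option backward.isDefEq.respectTransparency.types false
set_option maxSynthPendingDepth 3
open CategoryTheory.Limits Groth.Agent.MTRigid29

/-- (i) ⇒ (ii). Let R be a commutative twisted constant S-group which is isotrivial (it becomes a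
constant group over the open and closed pieces of one finite etale surjective S' ⟶ S). Then R is a
union of open and closed subschemes which are quasi-compact, indeed finite, over S: every point of R
has an open and closed neighbourhood U in R with U ⟶ S finite. -/
theorem result {S : Scheme.{u}} (R : Over S) [GrpObj R]
    (hcomm : ∀ (X : Over S) (a b : X ⟶ R), a * b = b * a) (hR : TwC.IsTwConstGrp TwC.Topology.finiteEtale R) (x : R.left) :
    ∃ U : R.left.Opens, x ∈ U ∧ IsClosed (U : Set R.left) ∧ IsFinite (U.ι ≫ R.hom) := by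
  obtain ⟨S', π, hfin, het, hsurj, hloc⟩ := hR
  haveI := hfin; haveI := het; haveI := hsurj
  choose U hU hUc M instM e he using hloc
  let g : ∀ s, (U s : Scheme.{u}) ⟶ S := fun s => (U s).ι ≫ π
  have hπ : Presieve.ofArrows (fun _ : PUnit.{u + 1} => S') (fun _ => π) ∈ Scheme.fpqcPrecoverage S := by
    rw [Presieve.ofArrows_pUnit]
    exact Scheme.Hom.singleton_mem_fpqcPrecoverage π
  have hfam : Presieve.ofArrows (fun s => (U s : Scheme.{u})) g ∈ Scheme.fpqcPrecoverage S := by
    refine Scheme.fppfPrecoverage_le_fpqcPrecoverage _ ((Scheme.ofArrows_mem_precoverage_iff _).2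
      ⟨fun t => ?_, fun s => ⟨inferInstance, inferInstance⟩⟩)
    obtain ⟨s', hs'⟩ := π.surjective t
    exact ⟨s', ⟨s', hU s'⟩, hs'⟩
  have hsnd : ∀ s, IsSeparated (pullback.snd R.hom (g s)) ∧ Etale (pullback.snd R.hom (g s)) := fun s => by
    rw [← show (e s).hom.left ≫ (TwC.const (U s : Scheme.{u}) (M s)).hom = pullback.snd R.hom (g s) from
      Over.w (e s).hom]
    haveI : IsIso (e s).hom.left := (inferInstance : IsIso ((Over.forget _).map (e s).hom))
    exact ⟨(MorphismProperty.cancel_left_of_respectsIso @IsSeparated _ _).2 isSeparated_const,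
      (MorphismProperty.cancel_left_of_respectsIso @Etale _ _).2 etale_const⟩
  haveI : MorphismProperty.DescendsAlong @IsSeparated (@Surjective ⊓ @Flat ⊓ @QuasiCompact) :=
    FpqcDesc.descendsAlong_isSeparated
  haveI : IsSeparated R.hom := prop_of_fpqc_cover g hfam @IsSeparated R.hom fun s => (hsnd s).1
  haveI : Etale R.hom := prop_of_fpqc_cover g hfam @Etale R.hom fun s => (hsnd s).2
  obtain ⟨s', hs'⟩ := π.surjective (R.hom x)
  let u : (U s' : Scheme.{u}) := ⟨s', hU s'⟩
  obtain ⟨p, hp, -⟩ := Scheme.Pullback.exists_preimage_pullback (f := R.hom) (g := g s') x u hs'.symm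
  obtain ⟨m, hm⟩ := mem_piece_self (e s').hom p
  let ιm := Sigma.ι (fun _ : M s' => (U s' : Scheme.{u})) m
  haveI : IsClosedImmersion (U s').ι := IsClosedImmersion.of_isPreimmersion _ (by
    rw [Scheme.Opens.range_ι]; exact hUc s')
  haveI hιm : IsClosedImmersion ιm := IsClosedImmersion.of_isPreimmersion _ (by
    rw [← isOpen_compl_iff, isOpen_iff_forall_mem_open]
    intro z hz
    obtain ⟨b, w, hw⟩ := (sigmaOpenCover (fun _ : M s' => (U s' : Scheme.{u}))).exists_eq z
    refine ⟨Set.range (Sigma.ι (fun _ : M s' => (U s' : Scheme.{u})) b), fun y hy hy' => ?_,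
      (Sigma.ι (fun _ : M s' => (U s' : Scheme.{u})) b).isOpenEmbedding.isOpen_range, w, hw⟩
    have hbm : b ≠ m := fun h => hz (by subst h; exact ⟨w, hw⟩)
    exact (disjoint_iff_inf_le.1 (disjoint_opensRange_sigmaι (fun _ : M s' => (U s' : Scheme.{u})) b m hbm)
      (x := y) ⟨hy, hy'⟩).elim)
  haveI : IsIso (e s').inv.left := (inferInstance : IsIso ((Over.forget _).map (e s').inv))
  let q' : (U s' : Scheme.{u}) ⟶ R.left := (ιm ≫ (e s').inv.left) ≫ pullback.fst R.hom (g s')
  haveI : IsFinite (pullback.fst R.hom (g s')) := MorphismProperty.pullback_fst _ _ (inferInstance : IsFinite (g s'))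
  haveI : Etale (pullback.fst R.hom (g s')) := MorphismProperty.pullback_fst _ _ (inferInstance : Etale (g s'))
  haveI : IsFinite q' := inferInstance
  haveI : Etale q' := inferInstance
  let W : R.left.Opens := ⟨Set.range q', q'.isOpenMap.isOpen_range⟩
  refine ⟨W, ?_, q'.isClosedMap.isClosed_range, ?_⟩
  · obtain ⟨w, hw⟩ := hm
    refine ⟨w, ?_⟩
    show pullback.fst R.hom (g s') ((e s').inv.left (ιm w)) = x
    rw [show ιm w = (e s').hom.left p from hw, ← Scheme.Hom.comp_apply, ← Over.comp_left, (e s').hom_inv_id]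
    exact hp
  · let r : (U s' : Scheme.{u}) ⟶ W.toScheme := IsOpenImmersion.lift W.ι q' (by rw [Scheme.Opens.range_ι]; rfl)
    haveI : Surjective r := ⟨fun y => by
      obtain ⟨w, hw⟩ := y.2
      refine ⟨w, W.ι.isOpenEmbedding.injective ?_⟩
      rw [← Scheme.Hom.comp_apply, IsOpenImmersion.lift_fac]
      exact hw⟩
    have hrg : r ≫ W.ι ≫ R.hom = g s' := by
      rw [← Category.assoc, IsOpenImmersion.lift_fac]
      show ((ιm ≫ (e s').inv.left) ≫ pullback.fst R.hom (g s')) ≫ R.hom = g s'
      rw [Category.assoc, pullback.condition, Category.assoc, ← Category.assoc (e s').inv.left,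
        show (e s').inv.left ≫ pullback.snd R.hom (g s') = (TwC.const (U s' : Scheme.{u}) (M s')).hom from
          Over.w (e s').inv, ← Category.assoc,
        show ιm ≫ (TwC.const (U s' : Scheme.{u}) (M s')).hom = 𝟙 _ from Sigma.ι_desc _ m, Category.id_comp]
    haveI : UniversallyClosed (r ≫ W.ι ≫ R.hom) := by rw [hrg]; infer_instance
    haveI : UniversallyClosed (W.ι ≫ R.hom) := UniversallyClosed.of_comp_surjective r _
    haveI : LocallyQuasiFinite (W.ι ≫ R.hom) := SchDesc12.locallyQuasiFinite_of_etale _
    haveI : IsProper (W.ι ≫ R.hom) := {}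
    exact IsFinite.of_isProper_of_locallyQuasiFinite _

end Groth.Agent.S5308
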