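import Groth.Prelude.Def_SGA3x
import Mathlib.AlgebraicGeometry.Morphisms.FiniteType
import Mathlib.AlgebraicGeometry.Morphisms.FinitePresentation
import Mathlib.AlgebraicGeometry.Morphisms.QuasiSeparated
import Mathlib.AlgebraicGeometry.ResidueField
import Mathlib.AlgebraicGeometry.Morphisms.ClosedImmersion
import Mathlib.AlgebraicGeometry.Noetherian
import Mathlib.AlgebraicGeometry.Morphisms.QuasiFinite
import Mathlib.AlgebraicGeometry.Morphisms.Immersion
import Mathlib.RingTheory.Ideal.Quotient.Operations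
import Groth.Agent.Lib.FiltSub3
-- import your own Groth.Agent.* helpers here

namespace SGA3x
end SGA3x

set_option autoImplicit false
open CategoryTheory MonoidalCategory CartesianMonoidalCategory MonObj GrpObj AlgebraicGeometry
universe u
open CategoryTheory.Limits
open SGA3x

namespace Groth.Agent.S5309

/-- Let S be a Noetherian scheme, f : X ⟶ S quasi-finite (locally quasi-finite, of finite type), and
(X_i) an increasing filtered family of subschemes of X (immersions x_i : X_i ⟶ X indexed by a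
directed preorder, x_i factoring through x_j for i ≤ j) such that for every s ∈ S and every n ≥ 0
there is an index i for which the base change of x_i to Spec (O_{S,s}/𝔪_s^(n+1)) is an isomorphism
onto X ×_S Spec (O_{S,s}/𝔪_s^(n+1)). Then x_i is an isomorphism for some i. -/
theorem result {S X : Scheme.{u}} [IsNoetherian S] (f : X ⟶ S)
    [LocallyQuasiFinite f] [LocallyOfFiniteType f] [QuasiCompact f]
    {D : Type u} [Preorder D] [IsDirected D (fun a b => a ≤ b)] [Nonempty D]
    (Xi : D → Scheme.{u}) (x : ∀ i, Xi i ⟶ X) (hx : ∀ i, IsImmersion (x i))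
    (hmono : ∀ i j, i ≤ j → ∃ t : Xi i ⟶ Xi j, t ≫ x j = x i)
    (h : ∀ (s : S) (n : ℕ), ∃ i : D,
      IsIso (pullback.snd (x i) (pullback.fst f
        (Spec.map (CommRingCat.ofHom (Ideal.Quotient.mk (IsLocalRing.maximalIdeal (S.presheaf.stalk s) ^ (n + 1)))) ≫ S.fromSpecStalk s)))) :
    ∃ i : D, IsIso (x i) := by
  haveI : IsLocallyNoetherian X := LocallyOfFiniteType.isLocallyNoetherian f
  haveI : CompactSpace X := QuasiCompact.compactSpace_of_compactSpace f
  haveI : IsNoetherian X := {}
  have hlift : ∀ (p : X) (N : ℕ), ∃ i, ∀ j, i ≤ j → ∃ l, l ≫ x j =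
      Spec.map (CommRingCat.ofHom (Ideal.Quotient.mk
        ((IsLocalRing.maximalIdeal (S.presheaf.stalk (f.base p)) ^ (N + 1)).map (f.stalkMap p).hom))) ≫
        X.fromSpecStalk p := by
    intro p N
    obtain ⟨i, hi⟩ := h (f.base p) N
    refine ⟨i, fun j hij => ?_⟩
    obtain ⟨t, ht⟩ := hmono i j hij
    set M := IsLocalRing.maximalIdeal (S.presheaf.stalk (f.base p)) ^ (N + 1)
    let a : CommRingCat.of (S.presheaf.stalk (f.base p) ⧸ M) ⟶
        CommRingCat.of (X.presheaf.stalk p ⧸ M.map (f.stalkMap p).hom) :=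
      CommRingCat.ofHom (Ideal.quotientMap _ (f.stalkMap p).hom Ideal.le_comap_map)
    let g := Spec.map (CommRingCat.ofHom (Ideal.Quotient.mk (M.map (f.stalkMap p).hom))) ≫
      X.fromSpecStalk p
    have hg : g ≫ f = Spec.map a ≫
        (Spec.map (CommRingCat.ofHom (Ideal.Quotient.mk M)) ≫ S.fromSpecStalk (f.base p)) := by
      simp only [g, Category.assoc, ← Scheme.SpecMap_stalkMap_fromSpecStalk]
      rw [← Spec.map_comp_assoc, ← Spec.map_comp_assoc]
      rfl
    let e := pullback.lift g (Spec.map a) hg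
    refine ⟨e ≫ inv (pullback.snd (x i) (pullback.fst f _)) ≫ pullback.fst (x i) (pullback.fst f _) ≫ t, ?_⟩
    simp only [Category.assoc, ht, pullback.condition, IsIso.inv_hom_id_assoc]
    exact pullback.lift_fst _ _ _
  have hrange : Monotone fun i => Set.range (x i).base := by
    intro i j hij
    obtain ⟨t, ht⟩ := hmono i j hij
    rintro _ ⟨w, rfl⟩
    exact ⟨t.base w, by rw [← Scheme.Hom.comp_apply, ht]⟩
  obtain ⟨i₀, hi₀⟩ := FiltSub3.exists_eq_univ (X := X) (fun i => Set.range (x i).base) hrange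
    (fun i => by haveI := hx i; exact (x i).isLocallyClosed_range) (fun p => by
      obtain ⟨i, hi⟩ := hlift p 0
      set J := (IsLocalRing.maximalIdeal (S.presheaf.stalk (f.base p)) ^ (0 + 1)).map (f.stalkMap p).hom
      obtain ⟨l, hl⟩ := hi i le_rfl
      have hJ : J ≤ IsLocalRing.maximalIdeal (X.presheaf.stalk p) := by
        rw [Ideal.map_le_iff_le_comap]
        exact (Ideal.pow_le_self (by omega)).trans (fun a ha => map_nonunit (f.stalkMap p).hom a ha)
      haveI : Nontrivial (X.presheaf.stalk p ⧸ J) :=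
        Ideal.Quotient.nontrivial_iff.mpr fun h => (IsLocalRing.maximalIdeal.isMaximal _).ne_top
          (top_le_iff.mp (h ▸ hJ))
      haveI : IsLocalRing (X.presheaf.stalk p ⧸ J) :=
        IsLocalRing.of_surjective' _ Ideal.Quotient.mk_surjective
      haveI := IsLocalHom.of_surjective _ (Ideal.Quotient.mk_surjective (I := J))
      refine ⟨i, l.base (IsLocalRing.closedPoint (X.presheaf.stalk p ⧸ J)), ?_⟩
      show (l ≫ x i).base _ = p
      erw [hl]
      show (X.fromSpecStalk p).base ((Spec.map _).base _) = p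
      have hc : (Spec.map (CommRingCat.ofHom (Ideal.Quotient.mk J))).base
          (IsLocalRing.closedPoint (X.presheaf.stalk p ⧸ J)) = IsLocalRing.closedPoint _ :=
        IsLocalRing.comap_closedPoint (Ideal.Quotient.mk J)
      erw [hc]
      exact X.fromSpecStalk_closedPoint)
  have hcl : ∀ i, i₀ ≤ i → IsClosedImmersion (x i) := by
    intro i hi
    haveI := hx i
    refine IsClosedImmersion.of_isPreimmersion (x i) ?_
    have h1 : Set.range (x i).base = Set.univ := top_le_iff.mp ((le_of_eq hi₀.symm).trans (hrange hi))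
    convert isClosed_univ (X := X)
  have hker : ∀ V : X.affineOpens, ∃ i, i₀ ≤ i ∧ (x i).ker.ideal V = ⊥ := by
    intro V
    have hVa : IsAffineOpen V.1 := V.2
    let D' := {i : D // i₀ ≤ i}
    haveI : Nonempty D' := ⟨⟨i₀, le_rfl⟩⟩
    haveI : IsDirected D' (fun a b => a ≤ b) := ⟨fun a b => by
      obtain ⟨c, hac, hbc⟩ := exists_ge_ge a.1 b.1
      exact ⟨⟨c, a.2.trans hac⟩, hac, hbc⟩⟩
    haveI : IsNoetherianRing Γ(X, V.1) := IsLocallyNoetherian.component_noetherian V
    obtain ⟨i, hi⟩ := FiltSub3.exists_eq_bot (B := Γ(X, V.1)) (fun i : D' => (x i.1).ker.ideal V)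
      (fun a b hab => by
        obtain ⟨t, ht⟩ := hmono a.1 b.1 hab
        show (x b.1).ker.ideal V ≤ (x a.1).ker.ideal V
        rw [← ht]
        exact Scheme.Hom.le_ker_comp t (x b.1) V)
      (fun q hq N => by
        let y : PrimeSpectrum Γ(X, V.1) := ⟨q, hq⟩
        set p := hVa.fromSpec.base y with hp
        have hpV : p ∈ V.1 := by
          have : p ∈ Set.range hVa.fromSpec.base := ⟨y, rfl⟩
          rwa [IsAffineOpen.range_fromSpec] at this
        obtain ⟨i, hi⟩ := hlift p N
        obtain ⟨j, hij, h0j⟩ := exists_ge_ge i i₀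
        refine ⟨⟨j, h0j⟩, fun b hb => ?_⟩
        obtain ⟨l, hl⟩ := hi j hij
        haveI := hcl j h0j
        have hmem := FiltSub3.germ_mem_of_factor (x j) p _ l hl V hpV b hb
        letI := (X.presheaf.germ V.1 p hpV).hom.toAlgebra
        haveI : IsLocalization.AtPrime (X.presheaf.stalk p) q := hVa.isLocalization_stalk' y hpV
        have hle : (IsLocalRing.maximalIdeal (S.presheaf.stalk (f.base p)) ^ (N + 1)).map (f.stalkMap p).hom
            ≤ (q ^ N).map (algebraMap Γ(X, V.1) (X.presheaf.stalk p)) := by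
          rw [Ideal.map_pow, Ideal.map_pow, IsLocalization.AtPrime.map_eq_maximalIdeal q (X.presheaf.stalk p)]
          exact (Ideal.pow_le_pow_right (Nat.le_succ N)).trans (Ideal.pow_right_mono
            ((Ideal.map_le_iff_le_comap (K := IsLocalRing.maximalIdeal (X.presheaf.stalk p))).mpr (fun a ha => map_nonunit (f.stalkMap p).hom a ha)) N)
        have h2 : algebraMap Γ(X, V.1) (X.presheaf.stalk p) b ∈
            (q ^ N).map (algebraMap Γ(X, V.1) (X.presheaf.stalk p)) := hle hmem
        rw [IsLocalization.algebraMap_mem_map_algebraMap_iff q.primeCompl] at h2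
        exact h2)
    exact ⟨i.1, i.2, hi⟩
  choose iV hiV0 hiV using hker
  obtain ⟨U, hU, hUf⟩ : ∃ U : Set X.affineOpens, U.Finite ∧ (⨆ V ∈ U, V.1) = (⊤ : X.Opens) := by
    obtain ⟨s, hs⟩ := isCompact_univ.elim_finite_subcover (fun V : X.affineOpens => (V.1 : Set X))
      (fun V => V.1.2) (fun p _ => by
        obtain ⟨_, ⟨V, hV, rfl⟩, hpV, -⟩ :=
          X.isBasis_affineOpens.exists_subset_of_mem_open (Set.mem_univ p) isOpen_univ
        exact Set.mem_iUnion.mpr ⟨⟨V, hV⟩, hpV⟩)
    refine ⟨↑s, s.finite_toSet, top_le_iff.mp fun p _ => ?_⟩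
    obtain ⟨V, hV, hpV⟩ := Set.mem_iUnion₂.mp (hs (Set.mem_univ p))
    exact TopologicalSpace.Opens.mem_iSup.mpr ⟨V, TopologicalSpace.Opens.mem_iSup.mpr ⟨hV, hpV⟩⟩
  haveI : Finite U := hU.to_subtype
  obtain ⟨m, hm⟩ := Finite.exists_le (fun V : U => iV V.1)
  obtain ⟨k, hk₀, hkm⟩ := exists_ge_ge i₀ m
  haveI := hcl k hk₀
  refine ⟨k, IsClosedImmersion.isIso_iff_ker_eq_bot.mpr ?_⟩
  refine Scheme.IdealSheafData.ext_of_iSup_eq_top (fun V : U => V.1) ?_ fun V => ?_
  · rw [iSup_subtype]
    exact hUf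
  · rw [Scheme.IdealSheafData.ideal_bot, Pi.bot_apply, eq_bot_iff, ← hiV V.1]
    obtain ⟨t, ht⟩ := hmono (iV V.1) k ((hm V).trans hkm)
    rw [← ht]
    exact Scheme.Hom.le_ker_comp t (x k) V.1

end Groth.Agent.S5309
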