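import Groth.Statements.S5310
import Groth.Agent.Lib.GrpLocus20.MaxOpen

set_option autoImplicit false
universe u
open CategoryTheory CategoryTheory.Limits MonoidalCategory CartesianMonoidalCategory MonObj GrpObj AlgebraicGeometry
open SGA3

namespace Groth.Agent.S5310

/-- Let u : G → H be a homomorphism of S-group schemes, with G or H flat over S and G or H locally of
finite presentation over S. Let P be one of the properties 'flat and locally of finite
presentation', 'smooth', 'etale', and let V be the largest open subscheme of G on which the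
restriction of u has P. Then the image U of V in S is open and V is an open subgroup scheme of G
over U: V contains the unit point of every fibre of G that it meets, V is stable under the inversion
of G, and the product of a point of G ×_S G whose two projections lie in V lies in V. -/
theorem result (S : Scheme.{u}) (G H : Over S) [GrpObj G] [GrpObj H]
    (u : G ⟶ H) [IsMonHom u]
    (hfl : Flat G.hom ∨ Flat H.hom) (hfp : LocallyOfFinitePresentation G.hom ∨ LocallyOfFinitePresentation H.hom)
    (P : MorphismProperty Scheme.{u})
    (hP : (∀ (X Y : Scheme.{u}) (f : X ⟶ Y), P f ↔ (Flat f ∧ LocallyOfFinitePresentation f)) ∨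
      (∀ (X Y : Scheme.{u}) (f : X ⟶ Y), P f ↔ Smooth f) ∨ (∀ (X Y : Scheme.{u}) (f : X ⟶ Y), P f ↔ Etale f))
    (V : G.left.Opens) (hV : P (V.ι ≫ u.left)) (hmax : ∀ W : G.left.Opens, P (W.ι ≫ u.left) → W ≤ V) :
    IsOpen (G.hom.base '' (V : Set G.left)) ∧
    (∀ g ∈ V, ∀ p : ↥(𝟙_ (Over S)).left, (𝟙_ (Over S)).hom.base p = G.hom.base g → η[G].left.base p ∈ V) ∧
    (∀ g ∈ V, ι[G].left.base g ∈ V) ∧
    (∀ z : ↥(G ⊗ G).left, (fst G G).left.base z ∈ V → (snd G G).left.base z ∈ V → μ[G].left.base z ∈ V) := by
  let Q : MorphismProperty Scheme.{u} := @Flat ⊓ @LocallyOfFinitePresentation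
  have hQ : Q ≤ @UniversallyOpen := fun X Y f h => by
    haveI := h.1; haveI := h.2; infer_instance
  have hfV : ∀ (_ : Flat (V.ι ≫ u.left)) (_ : LocallyOfFinitePresentation (V.ι ≫ u.left)), Q (V.ι ≫ G.hom) := by
    intro h1 h2
    have e : V.ι ≫ G.hom = (V.ι ≫ u.left) ≫ H.hom := by rw [Category.assoc, Over.w u]
    refine ⟨?_, ?_⟩
    · rcases hfl with h | h
      · infer_instance
      · rw [e]; infer_instance
    · rcases hfp with h | h
      · infer_instance
      · rw [e]; infer_instance
  rcases hP with h | h | h
  · obtain rfl : P = Q := by ext X Y f; exact h X Y f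
    exact Groth.Agent.GrpLocus20.subgroup u Q Q (fun j _ f hf => by
      haveI := hf.1; haveI := hf.2; exact ⟨inferInstance, inferInstance⟩) hQ Groth.Agent.GrpLocus20.descendsAlong_flat V hV (hfV hV.1 hV.2) hmax
  · obtain rfl : P = @Smooth := by ext X Y f; exact h X Y f
    exact Groth.Agent.GrpLocus20.subgroup u @Smooth Q (fun j _ f hf => by
      haveI := hf; infer_instance) hQ Groth.Agent.GrpLocus20.descendsAlong_smooth V hV (by haveI := hV; exact hfV inferInstance inferInstance) hmax
  · obtain rfl : P = @Etale := by ext X Y f; exact h X Y f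
    exact Groth.Agent.GrpLocus20.subgroup u @Etale Q (fun j _ f hf => by
      haveI := hf; infer_instance) hQ Groth.Agent.GrpLocus20.descendsAlong_etale V hV (by haveI := hV; exact hfV inferInstance inferInstance) hmax


end Groth.Agent.S5310
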