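import Groth.Statements.S5317
import Groth.Agent.Lib.GrpLocus20.Basic

set_option autoImplicit false
universe u
open CategoryTheory CategoryTheory.Limits MonoidalCategory CartesianMonoidalCategory MonObj GrpObj AlgebraicGeometry
open SGA3

namespace Groth.Agent.S5317

/-- Let u : G → H be a homomorphism of S-group schemes which is universally injective (for instance a
monomorphism), with G flat and locally of finite presentation over S and H locally of finite type
over S. Then the set U of points s of S such that u_s : G_s → H_s is an open immersion is open in S,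
and the restriction of u over every open of S contained in U is an open immersion. -/
theorem result (S : Scheme.{u}) (G H : Over S) [GrpObj G] [GrpObj H]
    (u : G ⟶ H) [IsMonHom u] [UniversallyInjective u.left]
    [Flat G.hom] [LocallyOfFinitePresentation G.hom] [LocallyOfFiniteType H.hom] :
    IsOpen {s : S | IsOpenImmersion ((Over.pullback (S.fromSpecResidueField s)).map u).left} ∧
    ∀ W : S.Opens, (W : Set S) ⊆ {s : S | IsOpenImmersion ((Over.pullback (S.fromSpecResidueField s)).map u).left} → IsOpenImmersion ((G.hom ⁻¹ᵁ W).ι ≫ u.left) := by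
  have hset : {s : S | IsOpenImmersion ((Over.pullback (S.fromSpecResidueField s)).map u).left} =
      {s : S | Etale ((Over.pullback (S.fromSpecResidueField s)).map u).left} := by
    ext s
    rw [Set.mem_ofPred_eq, Set.mem_ofPred_eq, Groth.Agent.FibreLocus.isOpenImmersion_iff_etale_and_universallyInjective]
    exact and_iff_left (MorphismProperty.of_isPullback (Groth.Agent.GrpFin20.isPullback_map _ u) inferInstance)
  have h : {x : G.left | ∃ W : G.left.Opens, x ∈ W ∧ Etale (W.ι ≫ u.left)} = G.hom.base ⁻¹' {s : S | Etale ((Over.pullback (S.fromSpecResidueField s)).map u).left} :=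
    Set.ext fun x => Groth.Agent.GrpLocus20.etale_iff u x
  rw [hset]
  refine ⟨Groth.Agent.GrpLocus20.isOpen_of_eq_preimage (Groth.Agent.GrpLocus20.isOpen_setOf_nhd u.left @Etale) h, fun W hW => ?_⟩
  rw [Groth.Agent.FibreLocus.isOpenImmersion_iff_etale_and_universallyInjective]
  refine ⟨Groth.Agent.GrpAtPt20.of_forall_nhd @Etale _ fun x => ?_, MorphismProperty.comp_mem @UniversallyInjective _ _ inferInstance inferInstance⟩
  obtain ⟨W', hxW', hW'⟩ := h.ge (show x.1 ∈ G.hom.base ⁻¹' _ from hW x.2)
  refine ⟨(G.hom ⁻¹ᵁ W).ι ⁻¹ᵁ W', hxW', ?_⟩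
  rw [← Category.assoc, ← morphismRestrict_ι, Category.assoc]
  infer_instance


end Groth.Agent.S5317
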