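import Groth.Statements.S5321
import Groth.Agent.Lib.GrpUnr20.Basic
import Groth.Agent.Lib.FibreLocus.Apps

set_option autoImplicit false
universe u
open CategoryTheory CategoryTheory.Limits MonoidalCategory CartesianMonoidalCategory MonObj GrpObj AlgebraicGeometry
open SGA3

namespace Groth.Agent.S5321

/-- Consider a morphism π : X → S admitting a section ε, and assume the map of underlying spaces of π is
closed. Fix a point s of S, and suppose that on some open neighbourhood of ε(s) the morphism π is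
locally of finite presentation, and that the fibre X_s → Spec κ(s) is an isomorphism. Under these
assumptions one can find an open subset U of S containing s such that π restricts to an isomorphism
π⁻¹(U) → U (consequently ε restricted to U is an isomorphism onto π⁻¹(U)). -/
theorem result (X S : Scheme.{u}) (π : X ⟶ S) (ε : S ⟶ X) (hε : ε ≫ π = 𝟙 S)
    (hcl : IsClosedMap π.base) (s : S)
    (hfp : ∃ W : X.Opens, ε.base s ∈ W ∧ LocallyOfFinitePresentation (W.ι ≫ π))
    (hs : IsIso (π.fiberToSpecResidueField s)) :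
    ∃ U : S.Opens, s ∈ U ∧ IsIso (π ∣_ U) := by
  obtain ⟨W, hεW, hWfp⟩ := hfp
  haveI := hWfp
  have hπε : ∀ p, π.base (ε.base p) = p := fun p => by
    rw [← Scheme.Hom.comp_apply, hε]; rfl
  have hsing : ∀ x, π.base x = s → x = ε.base s := fun x hx => by
    haveI := hs
    obtain ⟨a, ha⟩ : x ∈ Set.range (π.fiberι s) := by rw [Scheme.Hom.range_fiberι]; exact hx
    obtain ⟨b, hb⟩ : ε.base s ∈ Set.range (π.fiberι s) := by rw [Scheme.Hom.range_fiberι]; exact hπε s
    haveI : Subsingleton ↥(π.fiber s) := (π.fiberToSpecResidueField s).homeomorph.injective.subsingleton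
    rw [← ha, ← hb, Subsingleton.elim a b]
  let f := W.ι ≫ π
  have hfib : FormallyUnramified (f.fiberToSpecResidueField s) := by
    haveI := hs
    let r := Limits.pullback.fst π (S.fromSpecResidueField s)
    have sq := (isPullback_morphismRestrict r W).paste_vert (IsPullback.of_hasPullback π (S.fromSpecResidueField s))
    show FormallyUnramified (Limits.pullback.snd f (S.fromSpecResidueField s))
    rw [← sq.isoPullback_inv_snd]
    exact (MorphismProperty.cancel_left_of_respectsIso @FormallyUnramified _ _).2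
      (MorphismProperty.comp_mem @FormallyUnramified _ _ inferInstance
        (inferInstanceAs (FormallyUnramified (π.fiberToSpecResidueField s))))
  obtain ⟨V, hV0, hV⟩ := Groth.Agent.FibreLocus.unrPt_of_mem_fibSet f (𝟙 S) ⟨ε.base s, hεW⟩
    ((Groth.Agent.FibreLocus.forall_fibSet_id_iff Groth.Agent.FibreLocus.isPtLocal_unrPt f s).1
      ((Groth.Agent.FibreLocus.forall_unrPt_iff _).2 hfib) _ (hπε s))
  let O : X.Opens := W.ι ''ᵁ V
  have hO0 : ε.base s ∈ O := ⟨_, hV0, rfl⟩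
  haveI : IsOpenImmersion (V.ι ≫ W.ι) := inferInstance
  have hOfu : FormallyUnramified (O.ι ≫ π) ∧ LocallyOfFiniteType (O.ι ≫ π) := by
    have e : O = (V.ι ≫ W.ι).opensRange := TopologicalSpace.Opens.ext (by
      simp only [Scheme.Hom.coe_opensRange, Scheme.Hom.comp_base, TopCat.hom_comp, ContinuousMap.coe_comp,
        Set.range_comp, Scheme.Opens.range_ι]; rfl)
    rw [e, ← Scheme.Hom.isoOpensRange_inv_comp (V.ι ≫ W.ι), Category.assoc, Category.assoc]
    refine ⟨(MorphismProperty.cancel_left_of_respectsIso @FormallyUnramified _ _).2 hV,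
      (MorphismProperty.cancel_left_of_respectsIso @LocallyOfFiniteType _ _).2 inferInstance⟩
  let U1 : S.Opens := ⟨(π.base '' (O : Set X)ᶜ)ᶜ, (hcl _ O.2.isClosed_compl).isOpen_compl⟩
  have hU1O : π ⁻¹ᵁ U1 ≤ O := fun x hx => by_contra fun h => hx ⟨x, h, rfl⟩
  have hsU1 : s ∈ U1 := fun ⟨x, hx, hxs⟩ => hx (hsing x hxs ▸ hO0)
  let t : U1.toScheme ⟶ (π ⁻¹ᵁ U1).toScheme := IsOpenImmersion.lift (π ⁻¹ᵁ U1).ι (U1.ι ≫ ε) (by
    rintro _ ⟨p, rfl⟩
    rw [Scheme.Opens.range_ι]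
    show π.base ((U1.ι ≫ ε).base p) ∈ U1
    rw [Scheme.Hom.comp_apply, hπε]
    exact p.2)
  have htι : t ≫ (π ⁻¹ᵁ U1).ι = U1.ι ≫ ε := IsOpenImmersion.lift_fac _ _ _
  have ht : t ≫ (π ∣_ U1) = 𝟙 _ := by
    rw [← cancel_mono U1.ι, Category.assoc, morphismRestrict_ι, reassoc_of% htι, hε, Category.comp_id, Category.id_comp]
  haveI : FormallyUnramified (π ∣_ U1) ∧ LocallyOfFiniteType (π ∣_ U1) := by
    have e1 : (π ∣_ U1) ≫ U1.ι = X.homOfLE hU1O ≫ (O.ι ≫ π) := by
      rw [morphismRestrict_ι, Scheme.homOfLE_ι_assoc]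
    haveI := hOfu.1
    haveI := hOfu.2
    haveI h1 : FormallyUnramified ((π ∣_ U1) ≫ U1.ι) := by
      rw [e1]; exact MorphismProperty.comp_mem @FormallyUnramified _ _ inferInstance hOfu.1
    haveI h2 : LocallyOfFiniteType ((π ∣_ U1) ≫ U1.ι) := by rw [e1]; infer_instance
    exact ⟨FormallyUnramified.of_comp (π ∣_ U1) U1.ι,
      locallyOfFiniteType_of_comp (π ∣_ U1) U1.ι⟩
  have hh := this
  haveI := hh.1
  haveI := hh.2
  haveI : IsOpenImmersion t := Groth.Agent.GrpUnr20.isOpenImmersion_section _ t ht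
  let R : X.Opens := (π ⁻¹ᵁ U1).ι ''ᵁ t.opensRange
  let U : S.Opens := U1 ⊓ ⟨(π.base '' (R : Set X)ᶜ)ᶜ, (hcl _ R.2.isClosed_compl).isOpen_compl⟩
  refine ⟨U, ⟨hsU1, fun ⟨x, hx, hxs⟩ => hx ?_⟩, ?_⟩
  · rw [hsing x hxs]
    refine ⟨t ⟨s, hsU1⟩, ⟨_, rfl⟩, ?_⟩
    show (t ≫ (π ⁻¹ᵁ U1).ι).base _ = _
    rw [htι]; rfl
  let t' : U.toScheme ⟶ (π ⁻¹ᵁ U).toScheme := IsOpenImmersion.lift (π ⁻¹ᵁ U).ι (U.ι ≫ ε) (by
    rintro _ ⟨p, rfl⟩
    rw [Scheme.Opens.range_ι]
    show π.base ((U.ι ≫ ε).base p) ∈ U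
    rw [Scheme.Hom.comp_apply, hπε]
    exact p.2)
  have ht'ι : t' ≫ (π ⁻¹ᵁ U).ι = U.ι ≫ ε := IsOpenImmersion.lift_fac _ _ _
  have ht' : t' ≫ (π ∣_ U) = 𝟙 _ := by
    rw [← cancel_mono U.ι, Category.assoc, morphismRestrict_ι, reassoc_of% ht'ι, hε, Category.comp_id, Category.id_comp]
  haveI : IsOpenImmersion t' := by
    haveI : IsOpenImmersion (t' ≫ (π ⁻¹ᵁ U).ι) := by
      rw [ht'ι, ← Scheme.homOfLE_ι S (inf_le_left : U ≤ U1), Category.assoc, ← htι]
      infer_instance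
    exact IsOpenImmersion.of_comp t' (π ⁻¹ᵁ U).ι
  haveI : Surjective t' := ⟨fun x => by
    have hx : x.1 ∈ R := by_contra fun h => x.2.2 ⟨x.1, h, rfl⟩
    obtain ⟨y, ⟨p, rfl⟩, hy⟩ := hx
    have hp : (ε.base p.1) = x.1 := by
      rw [← hy]
      show _ = (t ≫ (π ⁻¹ᵁ U1).ι).base p
      rw [htι]; rfl
    have hpU : p.1 ∈ U := by
      have := x.2
      rw [← hp] at this
      show p.1 ∈ U
      rwa [← hπε p.1]
    refine ⟨⟨p.1, hpU⟩, Subtype.ext ?_⟩
    rw [← hp]
    show (t' ≫ (π ⁻¹ᵁ U).ι).base _ = _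
    rw [ht'ι]; rfl⟩
  haveI : IsIso t' := Groth.Agent.FibreLocus.isIso_iff_isOpenImmersion_and_surjective t' |>.2 ⟨inferInstance, ‹Surjective t'›.surj⟩
  haveI : IsIso (t' ≫ (π ∣_ U)) := by rw [ht']; infer_instance
  exact IsIso.of_isIso_comp_left t' (π ∣_ U)


end Groth.Agent.S5321
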