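import Groth.Statements.S5324
import Groth.Agent.Lib.GrpNeutral20.Div

set_option autoImplicit false
universe u
open CategoryTheory CategoryTheory.Limits MonoidalCategory CartesianMonoidalCategory MonObj GrpObj AlgebraicGeometry
open SGA3

namespace Groth.Agent.S5324

/-- Let G be an S-group scheme whose fibres G_s are locally of finite type over κ(s) and connected. Then
G is quasi-compact over S. -/
theorem result (S : Scheme.{u}) (G : Over S) [GrpObj G]
    (hG : ∀ s : S, LocallyOfFiniteType (G.hom.fiberToSpecResidueField s))
    (hconn : ∀ s : S, _root_.IsConnected (G.hom.base ⁻¹' {s})) : QuasiCompact G.hom := by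
  rw [quasiCompact_iff_forall_isAffineOpen]
  intro V hV
  let f := V.ι
  letI : GrpObj (Red.bc f G) := Functor.grpObjObj
  haveI : CompactSpace V.toScheme := isCompact_iff_compactSpace.1 hV.isCompact
  haveI : IsAffine V.toScheme := hV
  have hG' : ∀ v : V.toScheme, LocallyOfFiniteType ((Red.bc f G).hom.fiberToSpecResidueField v) := fun v => by
    haveI := hG (f v)
    have sq := (IsPullback.of_hasPullback G.hom (S.fromSpecResidueField (f v)))
    have big := (IsPullback.of_hasPullback (Red.bc f G).hom (V.toScheme.fromSpecResidueField v)).paste_horiz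
      (IsPullback.of_hasPullback G.hom f)
    rw [← Scheme.Hom.SpecMap_residueFieldMap_fromSpecResidueField] at big
    exact MorphismProperty.of_isPullback (P := @LocallyOfFiniteType)
      (IsPullback.of_right (h₁₁ := Limits.pullback.lift _ _ (big.w.trans (Category.assoc _ _ _).symm))
        (h₁₂ := Limits.pullback.fst G.hom (S.fromSpecResidueField (f v)))
        (by rw [Limits.pullback.lift_fst]; exact big) (Limits.pullback.lift_snd _ _ _) sq) (hG (f v))
  obtain ⟨U, hU, hsub⟩ := Groth.Agent.GrpNeutral20.exists_isCompact_open (Red.bc f G) hG'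
  have huniv : (U : Set (Red.bc f G).left) = Set.univ := Set.eq_univ_of_forall fun x => hsub (by
    rw [Groth.Agent.GrpNeutral20.neutralSet_bc G f]
    show Limits.pullback.fst G.hom f x ∈ SGA3x.neutralSet G
    rw [Groth.Agent.GrpNeutral20.mem_iff, (hconn _).isPreconnected.connectedComponentIn (Groth.Agent.GrpNeutral20.unit_over G _)]
    exact rfl)
  rw [huniv] at hU
  have hr : (G.hom ⁻¹ᵁ V : Set G.left) = Set.range (Limits.pullback.fst G.hom f) := by
    rw [Scheme.Pullback.range_fst, Scheme.Opens.range_ι]
    rfl
  show IsCompact ((G.hom ⁻¹ᵁ V : G.left.Opens) : Set G.left)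
  rw [hr, ← Set.image_univ]
  exact hU.image (Limits.pullback.fst G.hom f).continuous


end Groth.Agent.S5324
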