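import Groth.Statements.S5326
import Groth.Agent.Lib.GrpNeutral20.Cons
import Groth.Agent.Lib.GrpNeutral20.Repr
import Groth.Agent.Lib.Nis27.ConstrCompact

set_option autoImplicit false
universe u
open CategoryTheory CategoryTheory.Limits MonoidalCategory CartesianMonoidalCategory MonObj GrpObj AlgebraicGeometry
open SGA3

namespace Groth.Agent.S5326

/-- Let G be an S-group scheme locally of finite presentation over S, and suppose the neutral component
subfunctor of G is representable: there is a monomorphism i : G⁰ → G of S-schemes such that a point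
g : T → G factors through i exactly when the image of the underlying map of g lies in the union of
the neutral components of the fibres G_s. Then i is an open immersion and G⁰ is quasi-compact over
S. -/
theorem result (S : Scheme.{u}) (G : Over S) [GrpObj G]
    [LocallyOfFinitePresentation G.hom] (G0 : Over S) (i : G0 ⟶ G) [Mono i]
    (hrep : ∀ (T : Over S) (g : T ⟶ G), (∃ z : T ⟶ G0, z ≫ i = g) ↔ Set.range g.left.base ⊆ SGA3x.neutralSet G) :
    IsOpenImmersion i.left ∧ QuasiCompact G0.hom := by
  haveI hmono : Mono i.left := inferInstanceAs (Mono ((Over.forget S).map i))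
  have hrep' : ∀ (T : Scheme.{u}) (g : T ⟶ G.left), (∃ z, z ≫ i.left = g) ↔ Set.range g ⊆ SGA3x.neutralSet G := by
    intro T g
    have h := hrep (Over.mk (g ≫ G.hom)) (Over.homMk g rfl)
    refine ⟨fun ⟨z, hz⟩ => h.1 ⟨Over.homMk z (by simp [← hz, Over.w i]), by ext; exact hz⟩, fun hr => ?_⟩
    obtain ⟨z, hz⟩ := h.2 hr
    exact ⟨z.left, congrArg (fun φ => φ.left) hz⟩
  haveI : IsOpenImmersion i.left := Groth.Agent.GrpNeutral20.isOpenImmersion_of_represents i.left _
    (Groth.Agent.GrpNeutral20.isIndConstructible G) hrep'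
  refine ⟨inferInstance, ?_⟩
  have hrange : Set.range i.left = SGA3x.neutralSet G := by
    refine Set.Subset.antisymm ((hrep' _ i.left).1 ⟨𝟙 _, Category.id_comp _⟩) fun x hx => ?_
    obtain ⟨z, hz⟩ := (hrep' _ (G.left.fromSpecResidueField x)).2 (by
      rw [Scheme.range_fromSpecResidueField]; exact Set.singleton_subset_iff.2 hx)
    exact ⟨z (IsLocalRing.closedPoint _), by rw [← Scheme.Hom.comp_apply, hz]; exact Scheme.fromSpecResidueField_apply x _⟩
  choose V Z D M hsV hV hZ hD hM hDM hrD using Groth.Agent.GrpNeutral20.exists_chart G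
  refine (IsZariskiLocalAtTarget.iff_of_iSup_eq_top (P := @QuasiCompact) V
    (top_le_iff.1 fun s _ => TopologicalSpace.Opens.mem_iSup.2 ⟨s, hsV s⟩)).2 fun s => ?_
  haveI := hZ s
  haveI : IsAffine (V s).toScheme := hV s
  have hc : IsCompact ((G0.hom ⁻¹ᵁ V s : G0.left.Opens) : Set G0.left) := by
    rw [i.left.isOpenEmbedding.isEmbedding.isCompact_iff, show i.left '' ((G0.hom ⁻¹ᵁ V s : G0.left.Opens) : Set G0.left) = D s '' M s by
      rw [hDM, ← hrange, Set.inter_comm, ← Set.image_preimage_eq_inter_range]
      congr 1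
      ext w
      show G0.hom w ∈ V s ↔ G.hom (i.left w) ∈ V s
      rw [← Scheme.Hom.comp_apply, Over.w i]]
    exact (Groth.Agent.Nis27.isCompact_constructible (hM s)).image (D s).continuous
  haveI : CompactSpace (G0.hom ⁻¹ᵁ V s).toScheme := isCompact_iff_compactSpace.1 hc
  exact quasiCompact_of_compactSpace _


end Groth.Agent.S5326
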