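import Groth.Statements.S5332
import Groth.Agent.Lib.GrpNeutral20.Orbit
import Groth.Agent.Lib.GrpNeutral20.Sep
import Groth.Agent.Lib.GrpNeutral20.UnivOpen

set_option autoImplicit false
universe u
open CategoryTheory CategoryTheory.Limits MonoidalCategory CartesianMonoidalCategory MonObj GrpObj AlgebraicGeometry
open SGA3

namespace Groth.Agent.S5332

/-- Let G be an S-group scheme locally of finite presentation over S and universally open over S on some
open containing the unit section, acting on an S-scheme X so that the morphism G ×_S X → X ×_S X,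
(g, x) ↦ (gx, x), is surjective. Suppose that for every point s of S the fibre X_s is locally of
finite type over κ(s) and there is an open subscheme U of X, separated over S, whose fibre U_s is
dense in X_s. Then X is separated over S. -/
theorem result (S : Scheme.{u}) (G X : Over S) [GrpObj G] [LocallyOfFinitePresentation G.hom]
    (hGo : ∃ W : G.left.Opens, (∀ p : ↥(𝟙_ (Over S)).left, η[G].left.base p ∈ W) ∧ UniversallyOpen (W.ι ≫ G.hom))
    (a : AlgGrp.Action G X) (hΦ : Surjective (lift a.act (snd G X)).left)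
    (hft : ∀ s : S, LocallyOfFiniteType (X.hom.fiberToSpecResidueField s))
    (hU : ∀ s : S, ∃ U : X.left.Opens, IsSeparated (U.ι ≫ X.hom) ∧
      X.hom.base ⁻¹' {s} ⊆ closure ((U : Set X.left) ∩ X.hom.base ⁻¹' {s})) :
    IsSeparated X.hom := by
  obtain ⟨W, hW, hWo⟩ := hGo
  have hWat : ∀ x ∈ W, EGA43.IsUnivOpenAt G.hom x := by
    intro x hxW Y' g x' hx' O hO
    let j : Limits.pullback (W.ι ≫ G.hom) g ⟶ Limits.pullback G.hom g :=
      Limits.pullback.map _ _ _ _ W.ι (𝟙 _) (𝟙 _) (by simp) (by simp)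
    obtain ⟨q, rfl⟩ : x' ∈ Set.range j := by
      rw [Scheme.Pullback.range_map]
      exact ⟨⟨⟨x, hxW⟩, hx'.symm⟩, ⟨_, rfl⟩⟩
    have e : j ≫ Limits.pullback.snd G.hom g = Limits.pullback.snd (W.ι ≫ G.hom) g := by
      exact (Limits.pullback.lift_snd _ _ _).trans (Category.comp_id _)
    have h1 := (Limits.pullback.snd (W.ι ≫ G.hom) g).isOpenMap.image_mem_nhds
      (j.continuous.continuousAt.preimage_mem_nhds hO)
    show _ ∈ nhds (Limits.pullback.snd G.hom g (j q))
    rw [← Scheme.Hom.comp_apply, e]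
    refine Filter.mem_of_superset h1 ?_
    rintro _ ⟨r, hr, rfl⟩
    exact ⟨j r, hr, by rw [← Scheme.Hom.comp_apply, e]⟩
  have hconst : ∀ s : S, ∃ O ∈ nhds s, ∀ t ∈ O, topologicalKrullDim ↥(G.hom ⁻¹' {t}) = topologicalKrullDim ↥(G.hom ⁻¹' {s}) :=
    fun s => GrpNeutral20.const_of_univOpen G s W (hW s) (fun x _ _ hxW => hWat x hxW)
  have hdim : IsLocallyConstant (fun s : S => topologicalKrullDim ↥(G.hom ⁻¹' {s})) := by
    rw [IsLocallyConstant.iff_eventually_eq]
    intro s
    obtain ⟨O, hO, hOc⟩ := hconst s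
    exact Filter.eventually_of_mem hO hOc
  apply GrpNeutral20.isSeparated_of_common_opens
  intro q
  obtain ⟨U, hUs, hUd⟩ := hU (X.hom (Limits.pullback.fst X.hom X.hom q))
  obtain ⟨V, hV, hVs⟩ := GrpNeutral20.isSeparated_actSet a
    (GrpNeutral20.constDimGen_of_isLocallyConstant G hdim)
    (fun x hx => GrpNeutral20.univOpen_of_const G (G.hom x) (hconst _) hx rfl) U hUs
  have e : X.hom (Limits.pullback.snd X.hom X.hom q) = X.hom (Limits.pullback.fst X.hom X.hom q) := by
    rw [← Scheme.Hom.comp_apply, ← Scheme.Hom.comp_apply, Limits.pullback.condition]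
  refine ⟨V, hVs, ?_, ?_⟩
  · show Limits.pullback.fst X.hom X.hom q ∈ (V : Set X.left)
    rw [hV]
    exact GrpNeutral20.mem_actSet_of_dense a hΦ _ (hft _) U hUd
  · show Limits.pullback.snd X.hom X.hom q ∈ (V : Set X.left)
    rw [hV]
    refine GrpNeutral20.mem_actSet_of_dense a hΦ _ (hft _) U ?_
    rw [e]
    exact hUd


end Groth.Agent.S5332
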