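import Groth.Statements.S5333
import Groth.Agent.Lib.RedSep.Basic

set_option autoImplicit false
universe u
open CategoryTheory CategoryTheory.Limits MonoidalCategory CartesianMonoidalCategory MonObj GrpObj AlgebraicGeometry
open SGA3

namespace Groth.Agent.S5333

/-- (i) ⟺ (iii) ⟺ (iv'): let f : X → S be a morphism of schemes. Then X is separated over S if and only
if for every reduced scheme T and every two morphisms T → X with the same composite to S which agree
on a dense open subscheme of T are equal; and X is separated over S if and only if every two points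
of X in the same fibre over S lie in a common open subscheme of X which is separated over S. -/
theorem result (X S : Scheme.{u}) (f : X ⟶ S) :
    (IsSeparated f ↔ ∀ (T : Scheme.{u}) [IsReduced T] (g₁ g₂ : T ⟶ X) (U : T.Opens), g₁ ≫ f = g₂ ≫ f →
      Dense (U : Set T) → U.ι ≫ g₁ = U.ι ≫ g₂ → g₁ = g₂) ∧
    (IsSeparated f ↔ ∀ x₁ x₂ : X, f.base x₁ = f.base x₂ →
      ∃ V : X.Opens, x₁ ∈ V ∧ x₂ ∈ V ∧ IsSeparated (V.ι ≫ f)) := by
  have key : IsClosed (Set.range (pullback.diagonal f).base) → IsSeparated f := fun h =>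
    ⟨IsClosedImmersion.of_isPreimmersion _ h⟩
  refine ⟨⟨fun hf T _ g₁ g₂ U h hU hUg => ?_, fun h => key ?_⟩, ⟨fun hf x₁ x₂ _ => ?_, fun h => key ?_⟩⟩
  · haveI : IsDominant U.ι := ⟨by rw [DenseRange, Scheme.Opens.range_ι]; exact hU⟩
    exact ext_of_isDominant_of_isSeparated f h U.ι hUg
  · set Δ := pullback.diagonal f with hΔ
    let Z : TopologicalSpace.Closeds ↥(pullback f f) := TopologicalSpace.Closeds.closure (Set.range Δ.base)
    let T := (Scheme.IdealSheafData.vanishingIdeal Z).subscheme
    let i : T ⟶ pullback f f := (Scheme.IdealSheafData.vanishingIdeal Z).subschemeι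
    haveI : IsReduced T := RedSepLib.isReduced_vanishingIdeal_subscheme Z
    have hi : Set.range i.base = closure (Set.range Δ.base) := by
      rw [Scheme.IdealSheafData.range_subschemeι]; simp [Z]
    let U : T.Opens := i ⁻¹ᵁ Δ.coborderRange
    have hU : ∀ t, t ∈ U ↔ i.base t ∈ Set.range Δ.base := by
      intro t
      have ht : i.base t ∈ closure (Set.range Δ.base) := hi ▸ ⟨t, rfl⟩
      constructor
      · intro hu
        rw [← coborder_inter_closure (s := Set.range Δ.base)]
        exact ⟨hu, ht⟩
      · exact fun hu => subset_coborder hu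
    have hd : Dense (U : Set T) := fun t => by
      rw [i.isEmbedding.isInducing.closure_eq_preimage_closure_image]
      have : Set.range Δ.base ⊆ i.base '' (U : Set T) := by
        intro z hz
        obtain ⟨t, rfl⟩ : z ∈ Set.range i.base := hi ▸ subset_closure hz
        exact ⟨t, (hU t).mpr hz, rfl⟩
      exact closure_mono this (hi ▸ ⟨t, rfl⟩)
    let v : (U : Scheme) ⟶ (Δ.coborderRange : Scheme) := IsOpenImmersion.lift Δ.coborderRange.ι (U.ι ≫ i) (by
      rintro _ ⟨t, rfl⟩
      rw [Scheme.Opens.range_ι]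
      exact t.2)
    have hv : v ≫ Δ.coborderRange.ι = U.ι ≫ i := IsOpenImmersion.lift_fac _ _ _
    obtain ⟨w, hw⟩ := RedSepLib.exists_lift_of_range_subset v Δ.liftCoborder (by
      rintro _ ⟨t, rfl⟩
      obtain ⟨x, hx⟩ := (hU t.1).mp t.2
      refine ⟨x, Δ.coborderRange.ι.isEmbedding.injective ?_⟩
      rw [← Scheme.Hom.comp_apply, ← Scheme.Hom.comp_apply, hv, Scheme.Hom.liftCoborder_ι, Scheme.Hom.comp_apply]
      exact hx)
    have hwΔ : w ≫ Δ = U.ι ≫ i := by
      rw [← Δ.liftCoborder_ι, ← Category.assoc, hw, hv]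
    have heq : i ≫ pullback.fst f f = i ≫ pullback.snd f f := by
      refine h T _ _ U (by simp [pullback.condition]) hd ?_
      rw [← Category.assoc, ← Category.assoc, ← hwΔ]
      simp [hΔ]
    have hiΔ : i = (i ≫ pullback.fst f f) ≫ Δ := by
      apply pullback.hom_ext
      · simp [hΔ]
      · simp [hΔ, ← heq]
    refine isClosed_of_closure_subset fun z hz => ?_
    obtain ⟨t, rfl⟩ : z ∈ Set.range i.base := hi ▸ hz
    exact ⟨(i ≫ pullback.fst f f).base t, by rw [← Scheme.Hom.comp_apply, ← hiΔ]⟩
  · exact ⟨⊤, trivial, trivial, inferInstance⟩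
  · refine isClosed_of_closure_subset fun z hz => ?_
    obtain ⟨V, h1, h2, hV⟩ := h ((pullback.fst f f).base z) ((pullback.snd f f).base z) (by
      rw [← Scheme.Hom.comp_apply, ← Scheme.Hom.comp_apply, pullback.condition])
    let m := pullback.map (V.ι ≫ f) (V.ι ≫ f) f f V.ι V.ι (𝟙 S) (by simp) (by simp)
    obtain ⟨w, hw⟩ : z ∈ Set.range m.base := by
      rw [Scheme.Pullback.range_map, Scheme.Opens.range_ι]
      exact ⟨h1, h2⟩
    have hcomm : pullback.diagonal (V.ι ≫ f) ≫ m = V.ι ≫ pullback.diagonal f := by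
      apply pullback.hom_ext <;> rw [Category.assoc] <;> simp only [m, pullback.lift_fst, pullback.lift_snd, pullback.diagonal_fst_assoc, pullback.diagonal_snd_assoc, Category.assoc, pullback.diagonal_fst, pullback.diagonal_snd, Category.comp_id]
    have hpre : m.base ⁻¹' Set.range (pullback.diagonal f).base ⊆ Set.range (pullback.diagonal (V.ι ≫ f)).base := by
      rintro y ⟨x, hx⟩
      have hxV : x ∈ V := by
        have : (pullback.fst f f).base (m.base y) = x := by
          rw [← hx, ← Scheme.Hom.comp_apply, pullback.diagonal_fst]; rfl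
        rw [← this, ← Scheme.Hom.comp_apply, pullback.lift_fst, Scheme.Hom.comp_apply]
        exact (Scheme.Opens.range_ι V).le ⟨_, rfl⟩
      refine ⟨⟨x, hxV⟩, m.isEmbedding.injective ?_⟩
      rw [← Scheme.Hom.comp_apply, hcomm, Scheme.Hom.comp_apply]
      exact hx
    have hwc : w ∈ closure (m.base ⁻¹' Set.range (pullback.diagonal f).base) := by
      rw [← m.isOpenEmbedding.isOpenMap.preimage_closure_eq_closure_preimage m.continuous]
      show m.base w ∈ closure _
      rw [hw]; exact hz
    have hclosed : IsClosed (Set.range (pullback.diagonal (V.ι ≫ f)).base) :=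
      (pullback.diagonal (V.ι ≫ f)).isClosedEmbedding.isClosed_range
    obtain ⟨v, hv⟩ := hclosed.closure_subset (closure_mono hpre hwc)
    refine ⟨V.ι.base v, ?_⟩
    rw [← Scheme.Hom.comp_apply, ← hcomm, Scheme.Hom.comp_apply, hv, hw]

end Groth.Agent.S5333
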