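import Groth.Statements.S5334
import Groth.Agent.Lib.GrpNeutral20.ActOpen
import Groth.Agent.Lib.GrpNeutral20.UnivOpen

set_option autoImplicit false
universe u
open CategoryTheory CategoryTheory.Limits MonoidalCategory CartesianMonoidalCategory MonObj GrpObj AlgebraicGeometry
open SGA3

namespace Groth.Agent.S5334

/-- Let G be an S-group scheme locally of finite presentation over S such that s ↦ dim G_s is locally
constant on S, acting on an S-scheme X, and let U be an open subscheme of X separated over S. Let
G⁰·U be the image under the action G ×_S X → X of the set of points whose projection to G lies in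
the union G⁰ of the neutral components of the fibres and whose projection to X lies in U. Then G⁰·U
is open in X and the open subscheme it carries is separated over S. -/
theorem result (S : Scheme.{u}) (G X : Over S) [GrpObj G]
    [LocallyOfFinitePresentation G.hom]
    (hdim : IsLocallyConstant (fun s : S => topologicalKrullDim ↥(G.hom.base ⁻¹' {s})))
    (a : AlgGrp.Action G X) (U : X.left.Opens) (hU : IsSeparated (U.ι ≫ X.hom)) :
    ∃ V : X.left.Opens, (V : Set X.left) =
        a.act.left.base '' {z : ↥(G ⊗ X).left | (fst G X).left.base z ∈ SGA3x.neutralSet G ∧ (snd G X).left.base z ∈ U} ∧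
      IsSeparated (V.ι ≫ X.hom) := by
  have hc : ∀ s : S, ∃ W ∈ nhds s, ∀ t ∈ W, topologicalKrullDim ↥(G.hom ⁻¹' {t}) = topologicalKrullDim ↥(G.hom ⁻¹' {s}) :=
    fun s => ⟨_, (hdim.isOpen_fiber (topologicalKrullDim ↥(G.hom ⁻¹' {s}))).mem_nhds rfl, fun t ht => ht⟩
  exact GrpNeutral20.isSeparated_actSet a (GrpNeutral20.constDimGen_of_isLocallyConstant G hdim)
    (fun x hx => GrpNeutral20.univOpen_of_const G (G.hom x) (hc _) hx rfl) U hU


end Groth.Agent.S5334
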