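import Groth.Statements.S5335
import Groth.Agent.Lib.GrpFin20.Open
import Groth.Agent.Lib.GrpQuot20.Group

set_option autoImplicit false
universe u
open CategoryTheory CategoryTheory.Limits MonoidalCategory CartesianMonoidalCategory MonObj GrpObj AlgebraicGeometry
open SGA3

namespace Groth.Agent.S5335

/-- Let A be a local artinian ring and f : X' → X, g : Y' → Y two quasi-compact dominant morphisms of
schemes over A. Then the product morphism f ×_A g : X' ×_A Y' → X ×_A Y is dominant (and
quasi-compact). -/
theorem result (A : Type u) [CommRing A] [IsArtinianRing A] [IsLocalRing A] (X X' Y Y' : Over (Spec (CommRingCat.of A)))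
    (f : X' ⟶ X) (g : Y' ⟶ Y) [QuasiCompact f.left] [QuasiCompact g.left]
    (hf : DenseRange f.left.base) (hg : DenseRange g.left.base) :
    DenseRange (f ⊗ₘ g).left.base ∧ QuasiCompact (f ⊗ₘ g).left := by
  let k := IsLocalRing.ResidueField A
  let i : Spec (CommRingCat.of k) ⟶ Spec (CommRingCat.of A) :=
    Spec.map (CommRingCat.ofHom (IsLocalRing.residue A))
  haveI : IsClosedImmersion i := IsClosedImmersion.spec_of_surjective _ IsLocalRing.residue_surjective
  haveI : Surjective i := ⟨fun y => ⟨IsLocalRing.closedPoint k, Subsingleton.elim (α := PrimeSpectrum A) _ _⟩⟩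
  haveI := Thick4.universallyOpen_of_surjective_closedImmersion i
  have huo : ∀ Z : Over (Spec (CommRingCat.of A)), UniversallyOpen Z.hom := fun Z => by
    haveI : UniversallyOpen (Limits.pullback.fst Z.hom i ≫ Z.hom) := by
      rw [Limits.pullback.condition]; infer_instance
    exact Thick4.universallyOpen_of_comp_surjective (Limits.pullback.fst Z.hom i) Z.hom
  have key : ∀ (P Q P' Q' : Scheme.{u}) (t : P ⟶ Q) (l : P ⟶ P') (r : Q ⟶ Q') (b : P' ⟶ Q'),
      IsPullback t l r b → UniversallyOpen r → DenseRange b.base → DenseRange t.base := by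
    intro P Q P' Q' t l r b sq hr hb
    have : Set.range t.base = r.base ⁻¹' Set.range b.base := by
      ext y
      constructor
      · rintro ⟨x, rfl⟩
        exact ⟨l x, by simp only [← Scheme.Hom.comp_apply, sq.w]⟩
      · rintro ⟨x, hx⟩
        obtain ⟨z, hz, -⟩ := Scheme.exists_preimage_of_isPullback sq y x hx.symm
        exact ⟨z, hz⟩
    rw [DenseRange, this]
    exact Dense.preimage hb r.isOpenMap
  have sq1 := (GrpQuot20.isPullback_whiskerRight' Y' f).map (Over.forget _)
  have sq2 := (GrpQuot20.isPullback_whiskerLeft' X g).map (Over.forget _)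
  haveI := huo X
  haveI := huo Y'
  have h1 : DenseRange (f ▷ Y').left.base :=
    key _ _ _ _ _ _ _ _ sq1 (inferInstanceAs (UniversallyOpen (Limits.pullback.fst X.hom Y'.hom))) hf
  have h2 : DenseRange (X ◁ g).left.base :=
    key _ _ _ _ _ _ _ _ sq2 (inferInstanceAs (UniversallyOpen (Limits.pullback.snd X.hom Y.hom))) hg
  haveI : QuasiCompact (f ▷ Y').left := MorphismProperty.of_isPullback sq1.flip ‹QuasiCompact f.left›
  haveI : QuasiCompact (X ◁ g).left := MorphismProperty.of_isPullback sq2.flip ‹QuasiCompact g.left›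
  rw [MonoidalCategory.tensorHom_def, Over.comp_left]
  refine ⟨?_, inferInstance⟩
  rw [Scheme.Hom.comp_base, TopCat.coe_comp]
  exact DenseRange.comp h2 h1 (X ◁ g).left.continuous

end Groth.Agent.S5335
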