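import Groth.Statements.S5337
import Groth.Agent.Lib.GrpAtPt20.Props

set_option autoImplicit false
universe u
open CategoryTheory CategoryTheory.Limits MonoidalCategory CartesianMonoidalCategory MonObj GrpObj AlgebraicGeometry
open SGA3

namespace Groth.Agent.S5337

/-- Quasi-finite, unramified, smooth and etale cases: let A be a local artinian ring, G an A-group
scheme which is flat and locally of finite type over A, and u : G → H a homomorphism of A-group
schemes. If u is locally quasi-finite (resp. unramified, that is formally unramified and locally of
finite presentation, resp. smooth, resp. etale) on some nonempty open subscheme of G, then u is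
locally quasi-finite (resp. unramified, resp. smooth, resp. etale). (Here u is automatically locally
of finite type.) -/
theorem result (A : Type u) [CommRing A] [IsArtinianRing A] [IsLocalRing A] (G H : Over (Spec (CommRingCat.of A))) [GrpObj G] [GrpObj H]
    [Flat G.hom] [LocallyOfFiniteType G.hom] (u : G ⟶ H) [IsMonHom u] (W : G.left.Opens) (hW : (W : Set G.left).Nonempty) :
    (LocallyQuasiFinite (W.ι ≫ u.left) → LocallyQuasiFinite u.left) ∧
    (FormallyUnramified (W.ι ≫ u.left) → LocallyOfFinitePresentation (W.ι ≫ u.left) →
      FormallyUnramified u.left ∧ LocallyOfFinitePresentation u.left) ∧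
    (Smooth (W.ι ≫ u.left) → Smooth u.left) ∧ (Etale (W.ι ≫ u.left) → Etale u.left) := by
  haveI : Subsingleton (Spec (CommRingCat.of A)) := ⟨fun x y => Subsingleton.elim (α := PrimeSpectrum A) x y⟩
  haveI : LocallyOfFinitePresentation G.hom := inferInstance
  haveI : LocallyOfFiniteType (u.left ≫ H.hom) := by rw [Over.w]; infer_instance
  haveI : LocallyOfFiniteType u.left := locallyOfFiniteType_of_comp u.left H.hom
  exact ⟨Groth.Agent.GrpAtPt20.locallyQuasiFinite_of_open u W hW,
    fun h1 h2 => ⟨Groth.Agent.GrpAtPt20.formallyUnramified_of_open u W hW h1,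
      Groth.Agent.GrpAtPt20.lfp_of_open u W hW h2⟩,
    Groth.Agent.GrpAtPt20.smooth_of_open u W hW, Groth.Agent.GrpAtPt20.etale_of_open u W hW⟩


end Groth.Agent.S5337
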