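import Groth.Statements.S5338
import Groth.Agent.Lib.Deform4
import Groth.Agent.Lib.AlgSpDescent.NilpotentRing

set_option autoImplicit false
universe u
open CategoryTheory CategoryTheory.Limits MonoidalCategory CartesianMonoidalCategory MonObj GrpObj AlgebraicGeometry
open SGA3

namespace Groth.Agent.S5338

/-- Let A → B → C be homomorphisms of commutative rings and n a nilpotent ideal of A; write nB and nC
for the extended ideals. (i) If C/nC is a (B/nB)-algebra of finite type, then C is a B-algebra of
finite type. (ii) If moreover C is flat over A and C/nC is a (B/nB)-algebra of finite presentation,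
then C is a B-algebra of finite presentation. -/
theorem result (A B C : Type u) [CommRing A] [CommRing B] [CommRing C]
    [Algebra A B] [Algebra B C] [Algebra A C] [IsScalarTower A B C] (n : Ideal A) (hn : IsNilpotent n) :
    (Algebra.FiniteType (B ⧸ n.map (algebraMap A B)) (C ⧸ (n.map (algebraMap A B)).map (algebraMap B C)) →
      Algebra.FiniteType B C) ∧
    (Module.Flat A C →
      Algebra.FinitePresentation (B ⧸ n.map (algebraMap A B)) (C ⧸ (n.map (algebraMap A B)).map (algebraMap B C)) →
      Algebra.FinitePresentation B C) := by
  obtain ⟨m, hm⟩ := hn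
  have hft : Algebra.FiniteType (B ⧸ n.map (algebraMap A B)) (C ⧸ (n.map (algebraMap A B)).map (algebraMap B C)) →
      Algebra.FiniteType B C := fun h => by
    refine RingHom.finiteType_algebraMap.1
      (Groth.Agent.AlgSpDescent.finiteType_of_nilpotent (J := n.map (algebraMap A B)) (m := m) ?_ ?_)
    · rw [← Ideal.map_pow, ← Ideal.map_pow, hm]
      simp
    · exact RingHom.finiteType_algebraMap.2 h
  refine ⟨hft, fun hfl h => ?_⟩
  haveI := hfl
  obtain ⟨d, π, hπ⟩ := Algebra.FiniteType.iff_quotient_mvPolynomial''.1 (hft inferInstance)
  letI : Algebra (MvPolynomial (Fin d) B) C := π.toRingHom.toAlgebra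
  haveI : IsScalarTower B (MvPolynomial (Fin d) B) C := IsScalarTower.of_algHom π
  haveI : IsScalarTower A (MvPolynomial (Fin d) B) C := IsScalarTower.of_algebraMap_eq fun a => by
    rw [IsScalarTower.algebraMap_apply A B C, IsScalarTower.algebraMap_apply A B (MvPolynomial (Fin d) B)]
    exact (π.commutes _).symm
  refine Groth.Agent.Deform4.fp_of_surjective_of_tensor (P := MvPolynomial (Fin d) B) hπ n ⟨m, hm⟩ ?_
  let J := n.map (algebraMap A B)
  have e := ((Algebra.TensorProduct.quotIdealMapEquivTensorQuot C J).restrictScalars B).trans
    (Algebra.TensorProduct.comm B C (B ⧸ J))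
  exact Algebra.FinitePresentation.equiv (e.extendScalarsOfSurjective (S := B ⧸ J) Ideal.Quotient.mk_surjective)


end Groth.Agent.S5338
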