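import Groth.Statements.S5342
import Groth.Agent.Lib.AbSchRigid22.Basic

set_option autoImplicit false
universe u
open CategoryTheory CategoryTheory.Limits MonoidalCategory CartesianMonoidalCategory MonObj GrpObj AlgebraicGeometry
open SGA3

namespace Groth.Agent.S5342

/-- Let X and Y be connected schemes over a field k such that X has a k-rational point (a section of X →
Spec k). Then X ×_k Y is connected. -/
theorem result (k : Type u) [Field k] (X Y : Scheme.{u})
    (f : X ⟶ Spec (CommRingCat.of k)) (g : Y ⟶ Spec (CommRingCat.of k)) [ConnectedSpace X] [ConnectedSpace Y]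
    (x : Spec (CommRingCat.of k) ⟶ X) (hx : x ≫ f = 𝟙 _) : ConnectedSpace ↥(pullback f g) := by
  haveI : GeometricallyConnected (x ≫ f) := by rw [hx]; exact Groth.Agent.AbSchRigid22.geometricallyConnected_id _
  haveI : GeometricallyConnected f :=
    Groth.Agent.GeomIrr.geometricallyConnected_of_hom f x (IsLocalRing.closedPoint k)
  haveI : Subsingleton ↥(Spec (CommRingCat.of k)) := inferInstanceAs (Subsingleton (PrimeSpectrum k))
  haveI : UniversallyOpen (Limits.pullback.snd f g) := inferInstance
  have h := (Limits.pullback.snd f g).isConnected_preimage (Limits.pullback.snd f g).isOpenMap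
    isConnected_univ isClosed_univ
  rw [Set.preimage_univ] at h
  exact connectedSpace_iff_univ.mpr h

end Groth.Agent.S5342
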