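import Groth.Statements.S5343
import Mathlib.RingTheory.Ideal.IdempotentFG
import Mathlib.LinearAlgebra.Basis.Basic

set_option autoImplicit false
universe u
open CategoryTheory CategoryTheory.Limits MonoidalCategory CartesianMonoidalCategory MonObj GrpObj AlgebraicGeometry
open SGA3

namespace Groth.Agent.S5343

/-- Let R be a commutative ring and B a commutative R-algebra which is projective as an R-module. Then
the image of Spec B → Spec R is an open and closed subset of Spec R. (The published statement
concerns a quasi-coherent algebra on any scheme which is a direct summand of a free module; this row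
is the affine case.) -/
theorem result (R B : Type u) [CommRing R] [CommRing B] [Algebra R B] [Module.Projective R B] :
    IsClopen (Set.range (PrimeSpectrum.comap (algebraMap R B))) := by
  obtain ⟨i, hi⟩ := (Module.projective_def'.1 ‹Module.Projective R B›)
  have hcoord : ∀ b : B, (i b).sum (fun e c => c • e) = b := fun b => by
    have := LinearMap.congr_fun hi b
    simpa [Finsupp.linearCombination_apply] using this
  classical
  let I : Ideal R := Ideal.span (Set.range fun e : B => i 1 e)
  have hfg : I.FG := by
    refine ⟨(i 1).support.image (fun e => i 1 e), le_antisymm (Ideal.span_mono ?_) (Ideal.span_le.2 ?_)⟩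
    · intro x hx
      obtain ⟨e, -, rfl⟩ := Finset.mem_image.1 hx
      exact ⟨e, rfl⟩
    · rintro _ ⟨e, rfl⟩
      by_cases he : e ∈ (i 1).support
      · exact Ideal.subset_span (Finset.mem_image.2 ⟨e, he, rfl⟩)
      · show i 1 e ∈ _
        rw [Finsupp.notMem_support_iff.1 he]; exact Submodule.zero_mem _
  have h1 : (1 : B) ∈ I.map (algebraMap R B) := by
    rw [← hcoord 1]
    refine Submodule.sum_mem _ fun e _ => ?_
    simp only [Algebra.smul_def]
    exact Ideal.mul_mem_right _ _ (Ideal.mem_map_of_mem _ (Ideal.subset_span ⟨e, rfl⟩))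
  have htr : ∀ (g : B →ₗ[R] R) (b : B), g b ∈ I := by
    intro g b
    rw [show g b = g ((i 1).sum (fun e c => c • (e * b))) by
      congr 1
      conv_lhs => rw [← _root_.one_mul b, ← hcoord 1, Finsupp.sum, Finset.sum_mul]
      exact Finset.sum_congr rfl fun e _ => smul_mul_assoc _ _ _, map_finsuppSum]
    exact Submodule.sum_mem _ fun e _ => by
      dsimp only
      rw [map_smul]
      exact I.mul_mem_right _ (Ideal.subset_span ⟨e, rfl⟩)
  have hidem : IsIdempotentElem I := by
    refine le_antisymm Ideal.mul_le_right (Ideal.span_le.2 ?_)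
    rintro _ ⟨e, rfl⟩
    show i 1 e ∈ I * I
    let g : B →ₗ[R] R := (Finsupp.lapply e).comp i
    rw [show i 1 e = g ((i 1).sum (fun e c => c • e)) by rw [hcoord]; rfl, map_finsuppSum]
    exact Submodule.sum_mem _ fun e' _ => by
      dsimp only
      rw [map_smul]
      exact Ideal.mul_mem_mul (Ideal.subset_span ⟨e', rfl⟩) (htr g e')
  obtain ⟨ε, hε, hI⟩ := (Ideal.isIdempotentElem_iff_of_fg I hfg).1 hidem
  have hrange : Set.range (PrimeSpectrum.comap (algebraMap R B)) = (PrimeSpectrum.basicOpen ε : Set (PrimeSpectrum R)) := by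
    ext P
    rw [SetLike.mem_coe, PrimeSpectrum.mem_basicOpen]
    constructor
    · rintro ⟨Q, rfl⟩ hmem
      refine Q.2.ne_top ((Ideal.eq_top_iff_one _).2 (Ideal.map_le_iff_le_comap.2 ?_ h1))
      rw [hI, Ideal.span_le, Set.singleton_subset_iff]
      exact hmem
    · intro hP
      suffices hk : RingHom.ker (algebraMap R B) ≤ P.asIdeal ∧
          (P.asIdeal.map (algebraMap R B)).comap (algebraMap R B) ≤ P.asIdeal by
        obtain ⟨Q, hQ, hPQ, hQP⟩ := Ideal.exists_le_prime_disjoint (P.asIdeal.map (algebraMap R B))
          (P.asIdeal.primeCompl.map (algebraMap R B))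
          (Set.disjoint_left.2 fun x hx hx' => by
            obtain ⟨y, hy, rfl⟩ := Submonoid.mem_map.1 hx'
            exact hy (hk.2 hx))
        refine ⟨⟨Q, hQ⟩, PrimeSpectrum.ext (le_antisymm ?_ ?_)⟩
        · intro x hx
          by_contra hxP
          exact Set.disjoint_left.1 hQP hx (Submonoid.mem_map_of_mem _ hxP)
        · intro x hx
          exact hPQ (Ideal.mem_map_of_mem _ hx)
      have key : (P.asIdeal.map (algebraMap R B)).comap (algebraMap R B) ≤ P.asIdeal := by
        intro x hx
        have h2 : ∀ b ∈ P.asIdeal.map (algebraMap R B), ∀ g : B →ₗ[R] R, g b ∈ P.asIdeal := by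
          intro b hb g
          replace hb : b ∈ (P.asIdeal • ⊤ : Submodule R B) := by
            rw [Ideal.smul_top_eq_map]; exact hb
          refine Submodule.smul_induction_on hb (fun r hr y _ => ?_) (fun y z hy hz => ?_)
          · rw [map_smul]; exact P.asIdeal.mul_mem_right _ hr
          · rw [map_add]; exact P.asIdeal.add_mem hy hz
        have h3 : ε ∈ I := hI ▸ Ideal.mem_span_singleton_self ε
        have h4 : x * ε ∈ P.asIdeal := by
          refine Submodule.span_induction (p := fun y _ => x * y ∈ P.asIdeal) ?_ (by simp)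
            (fun a b _ _ ha hb => by rw [mul_add]; exact P.asIdeal.add_mem ha hb)
            (fun c a _ ha => by rw [smul_eq_mul, mul_left_comm]; exact P.asIdeal.mul_mem_left _ ha) h3
          rintro _ ⟨e, rfl⟩
          have := h2 _ hx ((Finsupp.lapply e).comp i)
          rwa [Algebra.algebraMap_eq_smul_one, map_smul, smul_eq_mul] at this
        exact (P.2.mem_or_mem h4).resolve_right hP
      exact ⟨fun x hx => key (by rw [Ideal.mem_comap, RingHom.mem_ker.1 hx]; exact Submodule.zero_mem _), key⟩
  rw [hrange]
  exact PrimeSpectrum.isClopen_iff.2 ⟨ε, hε, rfl⟩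

end Groth.Agent.S5343
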