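import Groth.Statements.S5346
import Groth.Agent.Lib.LftDesc20.Immersion

set_option autoImplicit false
universe u
open CategoryTheory CategoryTheory.Limits MonoidalCategory CartesianMonoidalCategory MonObj GrpObj AlgebraicGeometry
open SGA3

namespace Groth.Agent.S5346

/-- Let A be a local artinian ring with residue field k and i : Spec k → Spec A the closed point. (i) If
X is an A-scheme whose base change X ⊗_A k is locally of finite type (resp. of finite type) over k,
then X is locally of finite type (resp. of finite type) over A. (ii) If u : X → Y is a morphism of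
A-schemes whose base change u ⊗_A k is an immersion (resp. a closed immersion), then u is an
immersion (resp. a closed immersion). -/
theorem result (A : Type u) [CommRing A] [IsArtinianRing A] [IsLocalRing A] (X Y : Over (Spec (CommRingCat.of A))) (u : X ⟶ Y) :
    letI i : Spec (CommRingCat.of (IsLocalRing.ResidueField A)) ⟶ (Spec (CommRingCat.of A)) := Spec.map (CommRingCat.ofHom (IsLocalRing.residue A))
    (LocallyOfFiniteType (pullback.snd X.hom i) → LocallyOfFiniteType X.hom) ∧
    (LocallyOfFiniteType (pullback.snd X.hom i) → QuasiCompact (pullback.snd X.hom i) → QuasiCompact X.hom) ∧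
    (IsImmersion ((Over.pullback i).map u).left → IsImmersion u.left) ∧
    (IsClosedImmersion ((Over.pullback i).map u).left → IsClosedImmersion u.left) := by
  let i : Spec (CommRingCat.of (IsLocalRing.ResidueField A)) ⟶ Spec (CommRingCat.of A) :=
    Spec.map (CommRingCat.ofHom (IsLocalRing.residue A))
  haveI : IsClosedImmersion i := IsClosedImmersion.spec_of_surjective _ IsLocalRing.residue_surjective
  haveI : Surjective i := ⟨fun y => ⟨IsLocalRing.closedPoint _, Subsingleton.elim (α := PrimeSpectrum A) _ _⟩⟩
  have hh : ∀ Z : Over (Spec (CommRingCat.of A)), IsHomeomorph (Limits.pullback.fst Z.hom i).base := fun Z =>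
    isHomeomorph_iff_isEmbedding_surjective.2 ⟨(Limits.pullback.fst Z.hom i).isClosedEmbedding.isEmbedding,
      (Limits.pullback.fst Z.hom i).surjective⟩
  have sq := Groth.Agent.GrpFin20.isPullback_map i u
  have hbase : ∀ x, u.left.base ((Limits.pullback.fst X.hom i).base x) =
      (Limits.pullback.fst Y.hom i).base (((Over.pullback i).map u).left.base x) := fun x => by
    exact congrArg (fun f => f.base x) sq.w
  have hpre : IsPreimmersion ((Over.pullback i).map u).left → IsPreimmersion u.left := by
    intro h
    haveI : SurjectiveOnStalks ((Over.pullback (Spec.map (CommRingCat.ofHom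
        (algebraMap A (A ⧸ IsLocalRing.maximalIdeal A))))).map u).left :=
      (inferInstance : SurjectiveOnStalks ((Over.pullback i).map u).left)
    haveI := Groth.Agent.LftDesc20.surjectiveOnStalks_of_closedFibre A u
    refine { isEmbedding := ?_ }
    have he : u.left.base = (Limits.pullback.fst Y.hom i).base ∘ ((Over.pullback i).map u).left.base ∘
        (hh X).homeomorph.symm := by
      ext x
      obtain ⟨z, rfl⟩ := (hh X).surjective x
      simp only [Function.comp_apply]
      rw [show (hh X).homeomorph.symm ((Limits.pullback.fst X.hom i).base z) = z from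
        (hh X).homeomorph.symm_apply_apply z]
      exact hbase z
    show Topology.IsEmbedding u.left.base
    rw [he]
    exact (hh Y).isEmbedding.comp (((Over.pullback i).map u).left.isEmbedding.comp (hh X).homeomorph.symm.isEmbedding)
  have hrange : Set.range u.left.base =
      (hh Y).homeomorph '' Set.range ((Over.pullback i).map u).left.base := by
    ext y
    constructor
    · rintro ⟨x, rfl⟩
      obtain ⟨z, rfl⟩ := (hh X).surjective x
      exact ⟨_, ⟨z, rfl⟩, (hbase z).symm⟩
    · rintro ⟨_, ⟨z, rfl⟩, rfl⟩
      exact ⟨_, hbase z⟩
  refine ⟨fun h => Groth.Agent.LftDesc20.lft_of_closedFibre A X.hom, fun _ h => ?_, fun h => ?_, fun h => ?_⟩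
  · haveI : CompactSpace ↥(Limits.pullback X.hom i) := (quasiCompact_iff_compactSpace _).1 h
    haveI : CompactSpace X.left := (hh X).surjective.compactSpace (hh X).continuous
    exact (quasiCompact_iff_compactSpace _).2 inferInstance
  · haveI := hpre inferInstance
    refine { isLocallyClosed_range := ?_ }
    show IsLocallyClosed (Set.range u.left.base)
    rw [hrange]
    exact ((Over.pullback i).map u).left.isLocallyClosed_range.image (hh Y).homeomorph.isInducing
      (by rw [(hh Y).homeomorph.surjective.range_eq]; exact isClosed_univ.isLocallyClosed)
  · haveI := hpre inferInstance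
    refine IsClosedImmersion.of_isPreimmersion _ ?_
    show IsClosed (Set.range u.left.base)
    rw [hrange]
    exact (hh Y).homeomorph.isClosedMap _ ((Over.pullback i).map u).left.isClosedEmbedding.isClosed_range


end Groth.Agent.S5346
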