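import Groth.Statements.S5348
import Groth.Agent.Lib.GrpHomog20.Apps
import Groth.Agent.Lib.GrpFin20.Basic

set_option autoImplicit false
universe u
open CategoryTheory CategoryTheory.Limits MonoidalCategory CartesianMonoidalCategory MonObj GrpObj AlgebraicGeometry
open SGA3

namespace Groth.Agent.S5348

/-- Let G be a group scheme over a field k (not assumed of finite type) acting on a k-scheme X so that
the morphism G ×_k X → X ×_k X, (g, x) ↦ (gx, x), is surjective. (i) For every field extension K of
k, every point of X ⊗_k K lies in exactly one irreducible component of X ⊗_k K. (iv) If x is a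
k-rational point of X and C the irreducible component of X containing x, then for every field
extension K of k the inverse image of C in X ⊗_k K is irreducible. -/
theorem result (k : Type u) [Field k] (G X : Over (Spec (CommRingCat.of k))) [GrpObj G] (a : AlgGrp.Action G X) (hΦ : Surjective (lift a.act (snd G X)).left) :
    (∀ (K : Type u) [Field K] [Algebra k K] (z : ↥(pullback X.hom (Spec.map (CommRingCat.ofHom (algebraMap k K))))),
      ∃! C, C ∈ irreducibleComponents ↥(pullback X.hom (Spec.map (CommRingCat.ofHom (algebraMap k K)))) ∧ z ∈ C) ∧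
    (∀ (x : 𝟙_ (Over (Spec (CommRingCat.of k))) ⟶ X) (pt : ↥(𝟙_ (Over (Spec (CommRingCat.of k)))).left) (C : Set X.left),
      C ∈ irreducibleComponents ↥X.left → x.left.base pt ∈ C →
      ∀ (K : Type u) [Field K] [Algebra k K],
        IsIrreducible ((pullback.fst X.hom (Spec.map (CommRingCat.ofHom (algebraMap k K)))).base ⁻¹' C)) := by
  refine ⟨fun K _ _ z => ?_, fun x pt C hC hxC K _ _ => ?_⟩
  · let F := CategoryTheory.Over.pullback (Spec.map (CommRingCat.ofHom (algebraMap k K)))
    letI : GrpObj (F.obj G) := CategoryTheory.Functor.grpObjObj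
    refine GrpHomog20.existsUnique_component (G := F.obj G) (X := F.obj X) (OrbitTop19.mapAction F a) ?_ z
    have e : lift (OrbitTop19.mapAction F a).act (snd (F.obj G) (F.obj X)) ≫ CategoryTheory.Functor.LaxMonoidal.μ F X X =
        CategoryTheory.Functor.LaxMonoidal.μ F G X ≫ F.map (lift a.act (snd G X)) := by
      rw [← CategoryTheory.Functor.Monoidal.μ_snd, show (OrbitTop19.mapAction F a).act =
        CategoryTheory.Functor.LaxMonoidal.μ F G X ≫ F.map a.act from rfl, ← comp_lift, Category.assoc,
        CategoryTheory.Functor.Monoidal.lift_μ]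
    haveI : ∀ A B : CategoryTheory.Over (Spec (CommRingCat.of k)),
        IsIso (CategoryTheory.Functor.LaxMonoidal.μ F A B).left := fun A B =>
      inferInstanceAs (IsIso ((CategoryTheory.Over.forget _).mapIso (CategoryTheory.Functor.Monoidal.μIso F A B)).hom)
    haveI : Surjective (F.map (lift a.act (snd G X))).left :=
      MorphismProperty.of_isPullback (P := @Surjective) (GrpFin20.isPullback_map _ (lift a.act (snd G X))) hΦ
    have e' := congrArg (fun φ => φ.left) e
    simp only [CategoryTheory.Over.comp_left] at e'
    have hs : Surjective ((CategoryTheory.Functor.LaxMonoidal.μ F G X).left ≫ (F.map (lift a.act (snd G X))).left) :=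
      inferInstance
    rw [← e'] at hs
    exact (MorphismProperty.cancel_right_of_respectsIso @Surjective _ _).1 hs
  · haveI : Subsingleton ↥(Spec (CommRingCat.of k)) := inferInstanceAs (Subsingleton (PrimeSpectrum k))
    obtain rfl : pt = (IsLocalRing.closedPoint k : Spec (CommRingCat.of k)) := @Subsingleton.elim ↥(Spec (CommRingCat.of k)) _ _ _
    obtain ⟨M, hM, rfl⟩ := GrpHomog20.exists_isMaxPt_of_mem_irreducibleComponents hC
    exact GrpHomog20.isIrreducible_preimage a hΦ x hM (specializes_iff_mem_closure.2 hxC) K


end Groth.Agent.S5348
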