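import Groth.Statements.S5350
import Groth.Agent.Lib.GrpHomog20.Apps

set_option autoImplicit false
universe u
open CategoryTheory CategoryTheory.Limits MonoidalCategory CartesianMonoidalCategory MonObj GrpObj AlgebraicGeometry
open SGA3

namespace Groth.Agent.S5350

/-- Let G be a group scheme over a field k (not assumed of finite type) acting on a k-scheme X so that G
×_k X → X ×_k X, (g, x) ↦ (gx, x), is surjective; let C⁰ be an irreducible component of G containing
the unit point and U an open subset of X. Let C⁰·U be the image under the action of the set of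
points of G ×_k X whose projections lie in C⁰ and in U. Then (i) C⁰·U is open in X and equals the
union of the irreducible components of X whose generic point lies in U; (ii) if U is retrocompact in
X then C⁰·U is the closure of U (so is open and closed). -/
theorem result (k : Type u) [Field k] (G X : Over (Spec (CommRingCat.of k))) [GrpObj G] (a : AlgGrp.Action G X) (hΦ : Surjective (lift a.act (snd G X)).left)
    (pt : ↥(𝟙_ (Over (Spec (CommRingCat.of k)))).left) (C0 : Set G.left) (hC0 : C0 ∈ irreducibleComponents ↥G.left)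
    (he : η[G].left.base pt ∈ C0) (U : X.left.Opens) :
    letI V : Set X.left := a.act.left.base '' {z : ↥(G ⊗ X).left | (fst G X).left.base z ∈ C0 ∧ (snd G X).left.base z ∈ U}
    IsOpen V ∧ V = ⋃₀ {Z : Set X.left | Z ∈ irreducibleComponents ↥X.left ∧ ∃ ξ ∈ U, closure {ξ} = Z} ∧
    (IsRetrocompact (U : Set X.left) → V = closure (U : Set X.left)) := by
  haveI : Subsingleton ↥(Spec (CommRingCat.of k)) := inferInstanceAs (Subsingleton (PrimeSpectrum k))
  obtain rfl : pt = (IsLocalRing.closedPoint k : Spec (CommRingCat.of k)) := @Subsingleton.elim ↥(Spec (CommRingCat.of k)) _ _ _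
  obtain ⟨M₀, hM₀, rfl⟩ := GrpHomog20.exists_isMaxPt_of_mem_irreducibleComponents hC0
  have hM₀e := specializes_iff_mem_closure.2 he
  refine ⟨GrpHomog20.isOpen_translates hM₀ hM₀e a hΦ U, ?_, fun hU => ?_⟩
  · ext x
    obtain ⟨M, hM, hMx⟩ := FlatH4.exists_isMaxPt_specializes x
    refine (GrpHomog20.mem_translates_iff hM₀ hM₀e a hΦ U hM hMx).trans ⟨fun hMU => ?_, ?_⟩
    · exact ⟨closure {M}, ⟨GrpHomog20.closure_mem_irreducibleComponents hM, M, hMU, rfl⟩, hMx.mem_closure⟩
    · rintro ⟨Z, ⟨hZ, ξ, hξU, rfl⟩, hxZ⟩
      obtain ⟨M', hM', hM'Z⟩ := GrpHomog20.exists_isMaxPt_of_mem_irreducibleComponents hZ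
      obtain rfl : M' = ξ := IsGenericPoint.eq (hM'Z : IsGenericPoint M' _) (rfl : IsGenericPoint ξ _)
      rw [GrpHomog20.eq_of_isMaxPt a hΦ hM hM' hMx (specializes_iff_mem_closure.2 hxZ)]
      exact hξU
  · haveI : QuasiCompact U.ι := by
      refine (quasiCompact_iff U.ι).2 fun O hOo hOc => ?_
      rw [U.ι.isEmbedding.isCompact_iff, Set.image_preimage_eq_inter_range, Scheme.Opens.range_ι, Set.inter_comm]
      exact hU hOc hOo
    exact GrpHomog20.translates_eq_closure hM₀ hM₀e a hΦ U


end Groth.Agent.S5350
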