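import Groth.Statements.S5354
import Groth.Agent.Lib.GrpHomog20.Apps

set_option autoImplicit false
universe u
open CategoryTheory CategoryTheory.Limits MonoidalCategory CartesianMonoidalCategory MonObj GrpObj AlgebraicGeometry
open SGA3

namespace Groth.Agent.S5354

/-- Let G be a group scheme over a field k (not assumed of finite type). For every point x of G there is
a point z of G ×_k G with product x whose two projections are maximal points of G (generic points of
irreducible components). -/
theorem result (k : Type u) [Field k] (G : Over (Spec (CommRingCat.of k))) [GrpObj G] (x : G.left) :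
    ∃ z : ↥(G ⊗ G).left, μ[G].left.base z = x ∧
      closure {(fst G G).left.base z} ∈ irreducibleComponents ↥G.left ∧
      closure {(snd G G).left.base z} ∈ irreducibleComponents ↥G.left := by
  obtain ⟨K, _, _, y, p, hp⟩ := GrpHomog20.exists_geom_pt G x
  let T : CategoryTheory.Over (Spec (CommRingCat.of k)) := CategoryTheory.Over.mk y
  haveI : Subsingleton T.left := inferInstanceAs (Subsingleton (PrimeSpectrum K))
  haveI := GrpHomog20.flat_snd y G
  obtain ⟨η₀, hη₀, -⟩ := FlatH4.exists_isMaxPt_specializes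
    ((lift (𝟙 T) (1 : T ⟶ G)).left (IsLocalRing.closedPoint K : Spec (CommRingCat.of K)))
  let φ : T ⊗ G ⟶ T ⊗ G := lift (fst T G) ((fst T G ≫ p) * (snd T G)⁻¹)
  let ψ : T ⊗ G ⟶ T ⊗ G := lift (fst T G) ((snd T G)⁻¹ * (fst T G ≫ p))
  have hφψ : φ ≫ ψ = 𝟙 _ := by
    apply CartesianMonoidalCategory.hom_ext <;> simp [φ, ψ, MonObj.comp_mul, GrpObj.comp_inv, mul_assoc]
  have hψφ : ψ ≫ φ = 𝟙 _ := by
    apply CartesianMonoidalCategory.hom_ext <;> simp [φ, ψ, MonObj.comp_mul, GrpObj.comp_inv, mul_assoc]
  refine ⟨(lift ((fst T G ≫ p) * (snd T G)⁻¹) (snd T G)).left η₀, ?_, ?_, ?_⟩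
  · rw [← GrpHomog20.hap, ← Hom.mul_def, inv_mul_cancel_right, GrpHomog20.hap, ← hp]
    congr 1
    exact Subsingleton.elim (α := T.left) _ _
  · rw [← GrpHomog20.hap, lift_fst]
    have hm := (GrpHomog20.isMaxPt_map_iso φ ψ hφψ hψφ hη₀).map_of_flat (snd T G).left
    rw [← GrpHomog20.hap, lift_snd] at hm
    exact GrpHomog20.closure_mem_irreducibleComponents hm
  · rw [← GrpHomog20.hap, lift_snd]
    exact GrpHomog20.closure_mem_irreducibleComponents (hη₀.map_of_flat (snd T G).left)


end Groth.Agent.S5354
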