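import Groth.Statements.S5357
import Groth.Agent.Lib.GrpTrans20.Transporter

set_option autoImplicit false
universe u
open CategoryTheory CategoryTheory.Limits MonoidalCategory CartesianMonoidalCategory MonObj GrpObj AlgebraicGeometry
open SGA3

namespace Groth.Agent.S5357

/-- Let G be a group scheme over a field k, X a k-scheme and u, v : X → G two morphisms of k-schemes.
Then the transporter of u into v, the subfunctor of G whose points with values in S' are the g such
that g u(x) g⁻¹ = v(x) for every S'' → S' and every point x of X with values in S'', is represented
by a closed subscheme of G. (For u = v this says that the centralizer of u is represented by a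
closed subscheme of G; that it is a subgroup scheme is not stated here.) -/
theorem result (k : Type u) [Field k] (G X : Over (Spec (CommRingCat.of k))) [GrpObj G]
    (u v : X ⟶ G) :
    ∃ (T : Over (Spec (CommRingCat.of k))) (t : T ⟶ G), IsClosedImmersion t.left ∧
      ∀ (S' : Over (Spec (CommRingCat.of k))) (g : S' ⟶ G), (∃ z : S' ⟶ T, z ≫ t = g) ↔
        ∀ (S'' : Over (Spec (CommRingCat.of k))) (s : S'' ⟶ S') (x : S'' ⟶ X), (s ≫ g) * (x ≫ u) * (s ≫ g)⁻¹ = x ≫ v := by
  exact GrpTrans20.exists_transporter u v

end Groth.Agent.S5357
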