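import Groth.Statements.S5358
import Groth.Agent.Lib.GrpTrans20.Subschemes

set_option autoImplicit false
universe u
open CategoryTheory CategoryTheory.Limits MonoidalCategory CartesianMonoidalCategory MonObj GrpObj AlgebraicGeometry
open SGA3

namespace Groth.Agent.S5358

/-- Let G be a group scheme over a field k, y' : Y' → G an immersion and y : Y → G a closed immersion.
(ii) The transporter of Y' into Y, whose points with values in S' are the g such that conjugation by
g carries every point of Y' (after any base change S'' → S') into Y, is represented by a closed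
subscheme of G; if y' is also a closed immersion, so is the strict transporter (g Y' g⁻¹ = Y
functorially). (iii) For every subgroup scheme h : H → G (a homomorphism which is an immersion), the
normalizer of H in G is represented by a closed subscheme of G. -/
theorem result (k : Type u) [Field k] (G Y Y' : Over (Spec (CommRingCat.of k))) [GrpObj G]
    (y : Y ⟶ G) [IsClosedImmersion y.left] (y' : Y' ⟶ G) [IsImmersion y'.left] :
    (∃ (T : Over (Spec (CommRingCat.of k))) (t : T ⟶ G), IsClosedImmersion t.left ∧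
      ∀ (S' : Over (Spec (CommRingCat.of k))) (g : S' ⟶ G), (∃ z : S' ⟶ T, z ≫ t = g) ↔
        ∀ (S'' : Over (Spec (CommRingCat.of k))) (s : S'' ⟶ S') (x : S'' ⟶ Y'),
          ∃ x' : S'' ⟶ Y, (s ≫ g) * (x ≫ y') * (s ≫ g)⁻¹ = x' ≫ y) ∧
    (IsClosedImmersion y'.left →
      ∃ (T : Over (Spec (CommRingCat.of k))) (t : T ⟶ G), IsClosedImmersion t.left ∧
      ∀ (S' : Over (Spec (CommRingCat.of k))) (g : S' ⟶ G), (∃ z : S' ⟶ T, z ≫ t = g) ↔
        ((∀ (S'' : Over (Spec (CommRingCat.of k))) (s : S'' ⟶ S') (x : S'' ⟶ Y'),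
          ∃ x' : S'' ⟶ Y, (s ≫ g) * (x ≫ y') * (s ≫ g)⁻¹ = x' ≫ y) ∧
        (∀ (S'' : Over (Spec (CommRingCat.of k))) (s : S'' ⟶ S') (x' : S'' ⟶ Y),
          ∃ x : S'' ⟶ Y', (s ≫ g)⁻¹ * (x' ≫ y) * (s ≫ g) = x ≫ y'))) ∧
    (∀ (H : Over (Spec (CommRingCat.of k))) [GrpObj H] (h : H ⟶ G) [IsMonHom h] [IsImmersion h.left],
      ∃ (N : Over (Spec (CommRingCat.of k))) (_ : GrpObj N) (n : N ⟶ G), IsClosedImmersion n.left ∧
        Red.IsNormalizerOf h n) := by
  refine ⟨GrpTrans20.exists_transporter_subscheme y y', fun h => ?_, ?_⟩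
  · haveI := h
    exact GrpTrans20.exists_strict_transporter y y'
  · intro H _ h _ _
    exact GrpTrans20.exists_normalizer h

end Groth.Agent.S5358
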