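import Groth.Statements.S5359
import Groth.Agent.Lib.MonoEndo20.OverEndo

set_option autoImplicit false
universe u
open CategoryTheory CategoryTheory.Limits MonoidalCategory CartesianMonoidalCategory MonObj GrpObj AlgebraicGeometry
open SGA3

namespace Groth.Agent.S5359

/-- Let G be an S-group scheme and u : X → G a monomorphism of S-schemes with X of finite presentation
over S. If a point g : T → G is such that, for every T' → T and every point x of X with values in
T', the conjugate g x g⁻¹ is again a point of X, then the same holds for g⁻¹: the transporter of X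
into X coincides with the strict transporter (the normalizer of X). -/
theorem result (S : Scheme.{u}) (G X : Over S) [GrpObj G] (u : X ⟶ G) [Mono u]
    [LocallyOfFinitePresentation X.hom] [QuasiCompact X.hom] [QuasiSeparated X.hom]
    (T : Over S) (g : T ⟶ G)
    (hg : ∀ (T' : Over S) (t : T' ⟶ T) (x : T' ⟶ X), ∃ x' : T' ⟶ X, (t ≫ g) * (x ≫ u) * (t ≫ g)⁻¹ = x' ≫ u) :
    ∀ (T' : Over S) (t : T' ⟶ T) (x : T' ⟶ X), ∃ x' : T' ⟶ X, (t ≫ g)⁻¹ * (x ≫ u) * (t ≫ g) = x' ≫ u := by
  intro T' t x
  obtain ⟨x₀, hx₀⟩ := hg (T ⊗ X) (fst T X) (snd T X)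
  let φ : T ⊗ X ⟶ T ⊗ X := lift (fst T X) x₀
  haveI : Mono φ := ⟨fun {Z} a b hab => by
    have h1 : a ≫ fst T X = b ≫ fst T X := by
      have := congrArg (fun m => m ≫ fst T X) hab
      simpa [φ] using this
    have h2 : a ≫ x₀ = b ≫ x₀ := by
      have := congrArg (fun m => m ≫ snd T X) hab
      simpa [φ] using this
    have ha := congrArg (fun m => a ≫ m) hx₀
    have hb := congrArg (fun m => b ≫ m) hx₀
    simp only [MonObj.comp_mul, GrpObj.comp_inv, ← Category.assoc] at ha hb
    rw [h1, h2, ← hb] at ha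
    have h3 : a ≫ snd T X ≫ u = b ≫ snd T X ≫ u := by
      simp only [← Category.assoc]
      exact mul_left_cancel (mul_right_cancel ha)
    apply CartesianMonoidalCategory.hom_ext
    · exact h1
    · rw [← cancel_mono u, Category.assoc, Category.assoc]
      exact h3⟩
  haveI : IsIso φ := MonoEndo20.isIso_of_mono_over_fst φ (lift_fst _ _)
  let y := lift t x ≫ inv φ
  have hy1 : y ≫ fst T X = t := by
    rw [show y ≫ fst T X = lift t x ≫ inv φ ≫ (φ ≫ fst T X) by simp [y, φ]]
    simp
  have hy2 : y ≫ x₀ = x := by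
    rw [show y ≫ x₀ = lift t x ≫ inv φ ≫ (φ ≫ snd T X) by simp [y, φ]]
    simp
  refine ⟨y ≫ snd T X, ?_⟩
  have hy := congrArg (fun m => y ≫ m) hx₀
  simp only [MonObj.comp_mul, GrpObj.comp_inv, ← Category.assoc, hy1, hy2] at hy
  rw [← hy]
  simp only [_root_.mul_assoc, inv_mul_cancel_left, inv_mul_cancel, _root_.mul_one]


end Groth.Agent.S5359
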