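import Groth.Statements.S5360
import Groth.Agent.Lib.MonoEndo20.OverEndo

set_option autoImplicit false
universe u
open CategoryTheory CategoryTheory.Limits MonoidalCategory CartesianMonoidalCategory MonObj GrpObj AlgebraicGeometry
open SGA3

namespace Groth.Agent.S5360

/-- Let G be an S-scheme of finite presentation over S with an associative composition law m : G ×_S G →
G such that for every S-scheme S' and every point g of G with values in S' the left and right
translations by g are injective on G(S'), and such that G has an S-point. Then G is an S-group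
scheme: there is a group object structure on G over S whose multiplication is m. -/
theorem result (S : Scheme.{u}) (G : Over S)
    [LocallyOfFinitePresentation G.hom] [QuasiCompact G.hom] [QuasiSeparated G.hom]
    (m : G ⊗ G ⟶ G) (hassoc : (m ▷ G) ≫ m = (α_ G G G).hom ≫ (G ◁ m) ≫ m)
    (hl : ∀ (T : Over S) (g : T ⟶ G), Function.Injective (fun x : T ⟶ G => lift g x ≫ m))
    (hr : ∀ (T : Over S) (g : T ⟶ G), Function.Injective (fun x : T ⟶ G => lift x g ≫ m))
    (e : 𝟙_ (Over S) ⟶ G) :
    ∃ inst : GrpObj G, inst.mul = m := by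
  classical
  have hassoc' : ∀ (T : Over S) (x y z : T ⟶ G),
      lift (lift x y ≫ m) z ≫ m = lift x (lift y z ≫ m) ≫ m := by
    intro T x y z
    have := congrArg (fun h => lift (lift x y) z ≫ h) hassoc
    simpa [← Category.assoc] using this
  have surjl : ∀ (T : Over S) (g y : T ⟶ G), ∃ x : T ⟶ G, lift g x ≫ m = y := by
    intro T g y
    let φ : T ⊗ G ⟶ T ⊗ G := lift (fst T G) ((g ▷ G) ≫ m)
    haveI : Mono φ := ⟨fun {Z} a b hab => by
      have h1 : a ≫ fst T G = b ≫ fst T G := by
        have := congrArg (fun h => h ≫ fst T G) hab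
        simpa [φ] using this
      have h2 : a ≫ (g ▷ G) ≫ m = b ≫ (g ▷ G) ≫ m := by
        have := congrArg (fun h => h ≫ snd T G) hab
        simpa [φ] using this
      have key : ∀ c : Z ⟶ T ⊗ G, c ≫ (g ▷ G) ≫ m = lift (c ≫ fst T G ≫ g) (c ≫ snd T G) ≫ m := by
        intro c
        rw [← Category.assoc]
        congr 1
        apply CartesianMonoidalCategory.hom_ext <;> simp
      rw [key, key, reassoc_of% h1] at h2
      apply CartesianMonoidalCategory.hom_ext
      · exact h1
      · exact hl _ _ h2⟩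
    haveI : IsIso φ := MonoEndo20.isIso_of_mono_over_fst φ (lift_fst _ _)
    refine ⟨lift (𝟙 T) y ≫ inv φ ≫ snd T G, ?_⟩
    have h1 : lift (𝟙 T) y ≫ inv φ ≫ fst T G = 𝟙 T := by
      rw [show inv φ ≫ fst T G = inv φ ≫ φ ≫ fst T G by simp [φ]]
      simp
    have h2 : lift (𝟙 T) y ≫ inv φ ≫ (g ▷ G) ≫ m = y := by
      rw [show inv φ ≫ (g ▷ G) ≫ m = inv φ ≫ φ ≫ snd T G by simp [φ]]
      simp
    calc lift g (lift (𝟙 T) y ≫ inv φ ≫ snd T G) ≫ m
        = lift ((lift (𝟙 T) y ≫ inv φ ≫ fst T G) ≫ g) (lift (𝟙 T) y ≫ inv φ ≫ snd T G) ≫ m := by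
          rw [h1, Category.id_comp]
      _ = lift (𝟙 T) y ≫ inv φ ≫ (g ▷ G) ≫ m := by
          simp only [← Category.assoc]
          congr 1
          apply CartesianMonoidalCategory.hom_ext <;> simp
      _ = y := h2
  have cl : ∀ (T : Over S) (g x y : T ⟶ G), lift g x ≫ m = lift g y ≫ m → x = y :=
    fun T g x y h => hl T g h
  have cr : ∀ (T : Over S) (g x y : T ⟶ G), lift x g ≫ m = lift y g ≫ m → x = y :=
    fun T g x y h => hr T g h
  obtain ⟨ε, hε⟩ := surjl _ e e
  have one_mul' : ∀ (T : Over S) (x : T ⟶ G), lift (toUnit T ≫ ε) x ≫ m = x := by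
    intro T x
    apply cl T (toUnit T ≫ e)
    rw [← hassoc']
    congr 2
    rw [← comp_lift, Category.assoc, hε]
  have mul_one' : ∀ (T : Over S) (x : T ⟶ G), lift x (toUnit T ≫ ε) ≫ m = x := by
    intro T x
    apply cr T x
    rw [hassoc', one_mul']
  obtain ⟨i, hi⟩ := surjl G (𝟙 G) (toUnit G ≫ ε)
  have hi' : lift i (𝟙 G) ≫ m = toUnit G ≫ ε := by
    apply cl G (𝟙 G)
    rw [← hassoc', hi, one_mul', mul_one']
  refine ⟨{ one := ε, mul := m, mul_assoc := hassoc, one_mul := ?_, mul_one := ?_,
            inv := i, left_inv := hi', right_inv := hi }, rfl⟩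
  · have := one_mul' (𝟙_ (Over S) ⊗ G) (snd _ _)
    rw [show (ε ▷ G) = lift (toUnit _ ≫ ε) (snd (𝟙_ (Over S)) G) from ?_]
    · rw [this, leftUnitor_hom]
    · apply CartesianMonoidalCategory.hom_ext
      · simp only [whiskerRight_fst, lift_fst]
        congr 1
      · simp
  · have := mul_one' (G ⊗ 𝟙_ (Over S)) (fst _ _)
    rw [show (G ◁ ε) = lift (fst G (𝟙_ (Over S))) (toUnit _ ≫ ε) from ?_]
    · rw [this, rightUnitor_hom]
    · apply CartesianMonoidalCategory.hom_ext
      · simp
      · simp only [whiskerLeft_snd, lift_snd]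
        congr 1
        exact toUnit_unique _ _


end Groth.Agent.S5360
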