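import Groth.Statements.S5362
import Groth.Agent.Lib.GrpGen20.Generated
import Groth.Agent.Lib.GrpGen20.DomSurj
import Groth.Agent.Lib.AbRigid.SmoothGI

set_option autoImplicit false
universe u
open CategoryTheory CategoryTheory.Limits MonoidalCategory CartesianMonoidalCategory MonObj GrpObj AlgebraicGeometry
open SGA3

namespace Groth.Agent.S5362

/-- Let G be a group scheme locally of finite type over a field k, and a : A → G, b : B → G two closed
subgroup schemes which are smooth and of finite type over k, such that B normalizes A (conjugating a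
point of A by a point of B gives a point of A). Let i : Γ → G be the smallest closed subgroup scheme
of G through which both a and b factor. Then Γ is reduced and its underlying set is A·B, the image
of A ×_k B under (x, y) ↦ a(x) b(y). -/
theorem result (k : Type u) [Field k] (G A B : Over (Spec (CommRingCat.of k))) [GrpObj G] [GrpObj A] [GrpObj B]
    [LocallyOfFiniteType G.hom] (a : A ⟶ G) [IsMonHom a] [IsClosedImmersion a.left] (b : B ⟶ G) [IsMonHom b]
    [IsClosedImmersion b.left] [Smooth A.hom] [QuasiCompact A.hom] [Smooth B.hom] [QuasiCompact B.hom]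
    (hN : ∀ (T : Over (Spec (CommRingCat.of k))) (y : T ⟶ B) (x : T ⟶ A), ∃ x' : T ⟶ A, (y ≫ b) * (x ≫ a) * (y ≫ b)⁻¹ = x' ≫ a)
    (Γ : Over (Spec (CommRingCat.of k))) [GrpObj Γ] (i : Γ ⟶ G) [IsMonHom i] [IsClosedImmersion i.left]
    (ha : ∃ a' : A ⟶ Γ, a' ≫ i = a) (hb : ∃ b' : B ⟶ Γ, b' ≫ i = b)
    (hmin : ∀ (Γ' : Over (Spec (CommRingCat.of k))) (_ : GrpObj Γ') (i' : Γ' ⟶ G), IsMonHom i' → IsClosedImmersion i'.left →
        (∃ a'' : A ⟶ Γ', a'' ≫ i' = a) → (∃ b'' : B ⟶ Γ', b'' ≫ i' = b) → ∃ j : Γ ⟶ Γ', j ≫ i' = i) :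
    IsReduced Γ.left ∧ Set.range i.left.base = Set.range ((a ⊗ₘ b) ≫ μ[G]).left.base := by
  let P : Over (Spec (CommRingCat.of k)) := A ⊗ B
  let m : P ⟶ G := (a ⊗ₘ b) ≫ μ[G]
  have hm : m = (fst A B ≫ a) * (snd A B ≫ b) := by rw [Hom.mul_def, lift_fst_comp_snd_comp]
  let R : Set G.left := Set.range m.left
  haveI : Smooth P.hom := inferInstanceAs (Smooth (Limits.pullback.fst A.hom B.hom ≫ A.hom))
  haveI : GeometricallyReduced P.hom := AbRigid.geometricallyReduced_of_smooth P.hom
  haveI : QuasiCompact P.hom := inferInstanceAs (QuasiCompact (Limits.pullback.fst A.hom B.hom ≫ A.hom))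
  haveI := AbRigid.isSeparated_of_grpObj G
  haveI : QuasiCompact m.left := by
    haveI : QuasiCompact (m.left ≫ G.hom) := by rw [Over.w m]; infer_instance
    exact QuasiCompact.of_comp m.left G.hom
  have hfac : ∀ {T : Over (Spec (CommRingCat.of k))} (x : T ⟶ A) (y : T ⟶ B), lift x y ≫ m = (x ≫ a) * (y ≫ b) := by
    intro T x y
    rw [hm]; simp [MonObj.comp_mul]
  have hpt : ∀ {T : Over (Spec (CommRingCat.of k))} (p : T ⟶ P), p ≫ m = ((p ≫ fst A B) ≫ a) * ((p ≫ snd A B) ≫ b) := by
    intro T p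
    rw [hm, MonObj.comp_mul, Category.assoc, Category.assoc]
  have hR : AbRigid.MulStable R := by
    rintro q ⟨t, ht⟩ ⟨t', ht'⟩
    have hq : q ∈ Set.range (m ⊗ₘ m).left := by
      rw [Over.tensorHom_left, Scheme.Pullback.range_map]
      exact ⟨⟨t, ht⟩, ⟨t', ht'⟩⟩
    obtain ⟨w, rfl⟩ := hq
    obtain ⟨x', hx'⟩ := hN (P ⊗ P) (fst P P ≫ snd A B) (snd P P ≫ fst A B)
    refine ⟨(lift ((fst P P ≫ fst A B) * x') ((fst P P ≫ snd A B) * (snd P P ≫ snd A B))).left w, ?_⟩
    rw [← AbRigid.left_comp_apply, ← AbRigid.left_comp_apply]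
    congr 2
    rw [hfac, MonObj.mul_comp, MonObj.mul_comp, ← hx', ← lift_fst_comp_snd_comp, ← Hom.mul_def, hpt, hpt]
    group
  have hinv : ∀ x ∈ R, ι[G].left x ∈ R := by
    rintro _ ⟨t, rfl⟩
    obtain ⟨x', hx'⟩ := hN P (snd A B)⁻¹ (fst A B)⁻¹
    refine ⟨(lift x' (snd A B)⁻¹).left t, ?_⟩
    rw [← AbRigid.left_comp_apply, ← AbRigid.left_comp_apply]
    congr 2
    rw [hfac, ← hx', GrpObj.inv_comp, GrpObj.inv_comp, ← Hom.inv_def, hm]
    group
  have hone : η[G].left (IsLocalRing.closedPoint k) ∈ R :=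
    ⟨(lift η[A] η[B]).left (IsLocalRing.closedPoint k), by
      rw [← AbRigid.left_comp_apply, hfac, IsMonHom.one_hom, IsMonHom.one_hom]
      congr 2
      rw [show η[G] = (1 : 𝟙_ (Over (Spec (CommRingCat.of k))) ⟶ G) by
        rw [Hom.one_def, toUnit_unique (toUnit _) (𝟙 _), Category.id_comp], _root_.one_mul]⟩
  have hgen : GrpGen20.genSet m ⊆ R := by
    rintro x ⟨T, g, hg, t, rfl⟩
    induction hg with
    | base => exact ⟨t, rfl⟩
    | one =>
      rw [Subsingleton.elim (α := Spec (CommRingCat.of k)) t (IsLocalRing.closedPoint k)]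
      exact hone
    | @inv T g _ ih =>
      rw [Hom.inv_def, AbRigid.left_comp_apply]
      exact hinv _ (ih t)
    | @mul T T' g g' _ _ ih ih' =>
      rw [Hom.mul_def, AbRigid.left_comp_apply]
      refine hR _ ?_ ?_
      · rw [← AbRigid.left_comp_apply, lift_fst, AbRigid.left_comp_apply]; exact ih _
      · rw [← AbRigid.left_comp_apply, lift_snd, AbRigid.left_comp_apply]; exact ih' _
  obtain ⟨Z, hZ, iz, hiz, hizc, ⟨g, hg⟩, hZgr, hZr, hZmin⟩ := GrpGen20.exists_generated m
  haveI := hiz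
  haveI := hizc
  haveI : Mono iz := Over.mono_of_mono_left iz
  haveI : Mono i := Over.mono_of_mono_left i
  have hclR : Set.range iz.left = closure R :=
    hZr.trans (Set.Subset.antisymm (closure_mono hgen) (closure_mono fun x hx => ⟨_, _, GrpGen20.Word.base, hx⟩))
  haveI : QuasiCompact g.left := by
    haveI : QuasiCompact (g.left ≫ iz.left) := by rw [← Over.comp_left, hg]; infer_instance
    exact QuasiCompact.of_comp g.left iz.left
  have hdense : DenseRange g.left.base := by
    intro z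
    rw [iz.left.isClosedEmbedding.isInducing.closure_eq_preimage_closure_image, Set.mem_preimage, ← Set.range_comp]
    have : Set.range (iz.left.base ∘ g.left.base) = R := by
      show _ = Set.range m.left
      rw [← hg]; rfl
    rw [this, ← hclR]
    exact ⟨z, rfl⟩
  have huniv : iz.left.base ⁻¹' R = Set.univ := by
    refine GrpGen20.eq_univ_of_mulStable ?_ fun M hM => ?_
    · intro q h1 h2
      show iz.left _ ∈ R
      rw [← AbRigid.left_comp_apply, IsMonHom.mul_hom, AbRigid.left_comp_apply]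
      refine hR _ ?_ ?_
      · rw [← AbRigid.left_comp_apply, tensorHom_fst, AbRigid.left_comp_apply]; exact h1
      · rw [← AbRigid.left_comp_apply, tensorHom_snd, AbRigid.left_comp_apply]; exact h2
    · obtain ⟨t, ht⟩ := H12.exists_specializes_of_mem_closure_range g.left M (hdense.closure_range ▸ trivial)
      rw [Set.mem_preimage, ← hM _ ht, ← AbRigid.left_comp_apply, hg]
      exact ⟨t, rfl⟩
  obtain ⟨j, hj⟩ := hmin Z hZ iz hiz hizc
    ⟨lift (𝟙 A) 1 ≫ g, by rw [Category.assoc, hg, hfac, Category.id_comp, MonObj.one_comp, _root_.mul_one]⟩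
    ⟨lift 1 (𝟙 B) ≫ g, by rw [Category.assoc, hg, hfac, Category.id_comp, MonObj.one_comp, _root_.one_mul]⟩
  obtain ⟨a', ha'⟩ := ha
  obtain ⟨b', hb'⟩ := hb
  obtain ⟨l, hl⟩ := hZmin Γ inferInstance i inferInstance inferInstance
    ⟨(fst A B ≫ a') * (snd A B ≫ b'), by rw [MonObj.mul_comp, Category.assoc, Category.assoc, ha', hb', hm]⟩
  have e1 : j ≫ l = 𝟙 Γ := by rw [← cancel_mono i, Category.assoc, hl, hj, Category.id_comp]
  have e2 : l ≫ j = 𝟙 Z := by rw [← cancel_mono iz, Category.assoc, hj, hl, Category.id_comp]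
  haveI : IsIso j.left := ((Over.forget _).mapIso ⟨j, l, e1, e2⟩).isIso_hom
  haveI : IsReduced Z.left := GrpGen20.isReduced_of_geomReduced Z.hom
  refine ⟨isReduced_of_isOpenImmersion j.left, ?_⟩
  show Set.range i.left = R
  rw [← hj, Over.comp_left, Scheme.Hom.comp_base, TopCat.coe_comp, Set.range_comp, Set.range_eq_univ.2 j.left.surjective,
    Set.image_univ]
  refine Set.Subset.antisymm (fun x ⟨z, hz⟩ => hz ▸ (huniv.ge trivial : z ∈ iz.left.base ⁻¹' R)) (subset_closure.trans hclR.ge)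

end Groth.Agent.S5362
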