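import Groth.Statements.S5363
import Groth.Agent.Lib.GrpTrans20.Transporter

set_option autoImplicit false
universe u
open CategoryTheory CategoryTheory.Limits MonoidalCategory CartesianMonoidalCategory MonObj GrpObj AlgebraicGeometry
open SGA3

namespace Groth.Agent.S5363

/-- Let G be a group scheme over a field k and g a k-rational point of G. Then the smallest closed
subgroup scheme Γ of G through which g factors (the closed subgroup generated by g) is commutative. -/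
theorem result (k : Type u) [Field k] (G : Over (Spec (CommRingCat.of k))) [GrpObj G]
    (g : 𝟙_ (Over (Spec (CommRingCat.of k))) ⟶ G) (Γ : Over (Spec (CommRingCat.of k))) [GrpObj Γ] (i : Γ ⟶ G) [IsMonHom i] [IsClosedImmersion i.left]
    (hf : ∃ f' : 𝟙_ (Over (Spec (CommRingCat.of k))) ⟶ Γ, f' ≫ i = g)
    (hmin : ∀ (Γ' : Over (Spec (CommRingCat.of k))) (_ : GrpObj Γ') (i' : Γ' ⟶ G), IsMonHom i' → IsClosedImmersion i'.left →
        (∃ f'' : 𝟙_ (Over (Spec (CommRingCat.of k))) ⟶ Γ', f'' ≫ i' = g) → ∃ j : Γ ⟶ Γ', j ≫ i' = i) :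
    IsCommMonObj Γ := by
  haveI : Mono i := Over.mono_of_mono_left i
  obtain ⟨f', hf'⟩ := hf
  have key : ∀ (C : Over (Spec (CommRingCat.of k))) (hC : GrpObj C) (c : C ⟶ Γ), IsMonHom c → IsClosedImmersion c.left →
      (∃ f'', f'' ≫ c = f') → ∀ (T : Over (Spec (CommRingCat.of k))) (g : T ⟶ Γ), ∃ z, z ≫ c = g := by
    intro C hC c hc1 hc2 hc3 T g
    haveI := hc1
    haveI := hc2
    haveI : IsClosedImmersion (c ≫ i).left := by rw [Over.comp_left]; infer_instance
    obtain ⟨f'', hf''⟩ := hc3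
    obtain ⟨j, hj⟩ := hmin C hC (c ≫ i) inferInstance inferInstance ⟨f'', by rw [← Category.assoc, hf'', hf']⟩
    exact ⟨g ≫ j, by rw [← cancel_mono i, Category.assoc, Category.assoc, hj]⟩
  obtain ⟨C1, hC1, c1, h11, h12, h13⟩ := GrpTrans20.exists_centralizer f'
  have hcent : ∀ (T : Over (Spec (CommRingCat.of k))) (g : T ⟶ Γ) (x : T ⟶ 𝟙_ _), g * (x ≫ f') = (x ≫ f') * g := by
    intro T g x
    obtain ⟨z, hz⟩ := key C1 hC1 c1 h11 h12 ((h13 _ f').2 fun S'' s x => by
      rw [toUnit_unique x s]) T g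
    simpa using (h13 T g).1 ⟨z, hz⟩ T (𝟙 T) x
  obtain ⟨C2, hC2, c2, h21, h22, h23⟩ := GrpTrans20.exists_centralizer (𝟙 Γ)
  have hcomm : ∀ (T : Over (Spec (CommRingCat.of k))) (g h : T ⟶ Γ), g * h = h * g := by
    intro T g h
    obtain ⟨z, hz⟩ := key C2 hC2 c2 h21 h22 ((h23 _ f').2 fun S'' s x => by
      rw [Category.comp_id]; exact (hcent S'' x s).symm) T g
    simpa using (h23 T g).1 ⟨z, hz⟩ T (𝟙 T) h
  constructor
  show (β_ Γ Γ).hom ≫ μ[Γ] = μ[Γ]
  have h := hcomm _ (snd Γ Γ) (fst Γ Γ)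
  rw [Hom.mul_def, Hom.mul_def, lift_fst_snd, Category.id_comp] at h
  rw [← h]
  congr 1

end Groth.Agent.S5363
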