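import Groth.Statements.S5364
import Groth.Agent.Lib.GrpTrans20.NormalCore

set_option autoImplicit false
universe u
open CategoryTheory CategoryTheory.Limits MonoidalCategory CartesianMonoidalCategory MonObj GrpObj AlgebraicGeometry
open SGA3

namespace Groth.Agent.S5364

/-- Let G be a group scheme over a field k and a : A → G, b : B → G two closed subgroup schemes which
are geometrically reduced over k and normal in G. Let i : Γ → G be the commutator subgroup scheme
(A, B): the smallest closed subgroup scheme of G through which the morphism A ×_k B → G, (x, y) ↦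
a(x) b(y) a(x)⁻¹ b(y)⁻¹, factors. Then Γ is normal in G. (The published statement also covers
characteristic subgroups; this row states the case of normal subgroups only.) -/
theorem result (k : Type u) [Field k] (G A B : Over (Spec (CommRingCat.of k))) [GrpObj G] [GrpObj A] [GrpObj B]
    (a : A ⟶ G) [IsMonHom a] [IsClosedImmersion a.left] (b : B ⟶ G) [IsMonHom b] [IsClosedImmersion b.left]
    [GeometricallyReduced A.hom] [GeometricallyReduced B.hom] (hA : AlgGrp.IsNormalHom a) (hB : AlgGrp.IsNormalHom b)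
    (Γ : Over (Spec (CommRingCat.of k))) [GrpObj Γ] (i : Γ ⟶ G) [IsMonHom i] [IsClosedImmersion i.left]
    (hf : ∃ f' : A ⊗ B ⟶ Γ, f' ≫ i = (((fst A B) ≫ a) * ((snd A B) ≫ b) * ((fst A B) ≫ a)⁻¹ * ((snd A B) ≫ b)⁻¹))
    (hmin : ∀ (Γ' : Over (Spec (CommRingCat.of k))) (_ : GrpObj Γ') (i' : Γ' ⟶ G), IsMonHom i' → IsClosedImmersion i'.left →
        (∃ f'' : A ⊗ B ⟶ Γ', f'' ≫ i' = (((fst A B) ≫ a) * ((snd A B) ≫ b) * ((fst A B) ≫ a)⁻¹ * ((snd A B) ≫ b)⁻¹)) → ∃ j : Γ ⟶ Γ', j ≫ i' = i) :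
    AlgGrp.IsNormalHom i := by
  obtain ⟨C, hC, c, hc1, hc2, hiff⟩ := GrpTrans20.exists_normalCore i
  obtain ⟨f', hf'⟩ := hf
  haveI : Mono i := Over.mono_of_mono_left i
  obtain ⟨j, hj⟩ := hmin C hC c hc1 hc2 ((hiff _ _).2 fun S'' s x => by
    obtain ⟨x₁, h₁⟩ := hA S'' x (s ≫ fst A B)
    obtain ⟨y₁, h₂⟩ := hB S'' x (s ≫ snd A B)
    refine ⟨lift x₁ y₁ ≫ f', ?_⟩
    rw [Category.assoc, hf']
    simp only [MonObj.comp_mul, GrpObj.comp_inv, lift_fst_assoc, lift_snd_assoc, ← h₁, ← h₂, Category.assoc]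
    group)
  intro T g n
  obtain ⟨b, hb⟩ := (hiff T (n ≫ i)).1 ⟨n ≫ j, by rw [Category.assoc, hj]⟩ T (𝟙 T) g
  exact ⟨b, by rw [← hb, Category.id_comp]⟩

end Groth.Agent.S5364
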