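import Groth.Statements.S5365
import Groth.Agent.Lib.GrpGen20.CommBound

set_option autoImplicit false
universe u
open CategoryTheory CategoryTheory.Limits MonoidalCategory CartesianMonoidalCategory MonObj GrpObj AlgebraicGeometry
open SGA3

namespace Groth.Agent.S5365

/-- Let G be a group scheme locally of finite type over a field k, a : A → G and b : B → G two closed
subgroup schemes which are geometrically reduced over k, and i : Γ → G the commutator subgroup
scheme (A, B), the smallest closed subgroup scheme through which (x, y) ↦ a(x) b(y) a(x)⁻¹ b(y)⁻¹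
factors. Suppose either (a) A and B are normal in G and of finite type over k, or (b) A is connected
and B is of finite type over k. Then Γ is of finite type over k, and in case (b) Γ is connected.
(The published statement also asserts that this subgroup represents the fppf sheaf generated by
commutators and describes its neutral component; this row states only the finiteness and
connectedness assertions.) -/
theorem result (k : Type u) [Field k] (G A B : Over (Spec (CommRingCat.of k))) [GrpObj G] [GrpObj A] [GrpObj B]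
    [LocallyOfFiniteType G.hom]
    (a : A ⟶ G) [IsMonHom a] [IsClosedImmersion a.left] (b : B ⟶ G) [IsMonHom b] [IsClosedImmersion b.left]
    [GeometricallyReduced A.hom] [GeometricallyReduced B.hom] [QuasiCompact B.hom]
    (hcase : (AlgGrp.IsNormalHom a ∧ AlgGrp.IsNormalHom b ∧ QuasiCompact A.hom) ∨ ConnectedSpace A.left)
    (Γ : Over (Spec (CommRingCat.of k))) [GrpObj Γ] (i : Γ ⟶ G) [IsMonHom i] [IsClosedImmersion i.left]
    (hf : ∃ f' : A ⊗ B ⟶ Γ, f' ≫ i = (((fst A B) ≫ a) * ((snd A B) ≫ b) * ((fst A B) ≫ a)⁻¹ * ((snd A B) ≫ b)⁻¹))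
    (hmin : ∀ (Γ' : Over (Spec (CommRingCat.of k))) (_ : GrpObj Γ') (i' : Γ' ⟶ G), IsMonHom i' → IsClosedImmersion i'.left →
        (∃ f'' : A ⊗ B ⟶ Γ', f'' ≫ i' = (((fst A B) ≫ a) * ((snd A B) ≫ b) * ((fst A B) ≫ a)⁻¹ * ((snd A B) ≫ b)⁻¹)) → ∃ j : Γ ⟶ Γ', j ≫ i' = i) :
    QuasiCompact Γ.hom ∧ (ConnectedSpace A.left → ConnectedSpace Γ.left) := by
  haveI : LocallyOfFiniteType A.hom := by rw [← Over.w a]; infer_instance
  haveI : LocallyOfFiniteType B.hom := by rw [← Over.w b]; infer_instance
  haveI : QuasiCompact A.hom := by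
    rcases hcase with ⟨-, -, h⟩ | h
    · exact h
    · haveI := h; exact GrpGen20.quasiCompact_of_connected A
  haveI : LocallyOfFiniteType (A ⊗ B).hom :=
    inferInstanceAs (LocallyOfFiniteType (Limits.pullback.fst A.hom B.hom ≫ A.hom))
  haveI : QuasiCompact (A ⊗ B).hom := inferInstanceAs (QuasiCompact (Limits.pullback.fst A.hom B.hom ≫ A.hom))
  haveI : GeometricallyReduced (A ⊗ B).hom := GrpGen20.geometricallyReduced_tensorObj _ _
  let f : A ⊗ B ⟶ G := GrpGen20.commHom a b
  obtain ⟨Z, hZ, iz, hiz, hizc, hfz, -, hZr, -⟩ := GrpGen20.exists_generated f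
  obtain ⟨j, hj⟩ := hmin Z hZ iz hiz hizc hfz
  have h1 : Set.range i.left ⊆ closure (⋃ m, GrpGen20.wordSet f m) := by
    refine Set.Subset.trans ?_ (closure_mono (GrpGen20.genSet_subset_iUnion f))
    rw [← hZr, ← hj]
    rintro _ ⟨w, rfl⟩
    exact ⟨j.left w, by rw [AbRigid.left_comp_apply]⟩
  have hconn : ConnectedSpace A.left → ∃ (n : ℕ) (W : Set G.left), IsIrreducible W ∧
      W ⊆ closure (GrpGen20.wordSet f n) ∧ ∀ m, GrpGen20.wordSet f m ⊆ closure W := fun h => by
    haveI := h
    haveI := GrpGen20.geometricallyConnected_of_connected A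
    exact GrpGen20.exists_bound_commHom_connected a b
  obtain ⟨n, hn⟩ : ∃ n, ∀ m, GrpGen20.wordSet f m ⊆ closure (GrpGen20.wordSet f n) := by
    rcases hcase with ⟨ha, hb, -⟩ | h
    · exact GrpGen20.exists_bound_commHom_normal a b ha hb
    · obtain ⟨n, W, -, hWn, hW⟩ := hconn h
      exact ⟨n, fun m => (hW m).trans (closure_minimal hWn isClosed_closure)⟩
  have hr := GrpGen20.range_eq_wordSet f i hf n
    (h1.trans (closure_minimal (Set.iUnion_subset hn) isClosed_closure))
  refine ⟨HasAffineProperty.iff_of_isAffine.mpr ?_, fun h => ?_⟩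
  · refine ⟨?_⟩
    rw [i.left.isEmbedding.isCompact_iff, Set.image_univ, hr]
    exact GrpGen20.isCompact_wordSet f _
  · obtain ⟨n', W, hWi, hWn, hW⟩ := hconn h
    have hrW : Set.range i.left = closure W := by
      refine Set.Subset.antisymm (h1.trans (closure_minimal (Set.iUnion_subset hW) isClosed_closure)) ?_
      exact closure_minimal (hWn.trans (closure_minimal (GrpGen20.wordSet_subset_range f i hf n')
        i.left.isClosedEmbedding.isClosed_range)) i.left.isClosedEmbedding.isClosed_range
    have hc : _root_.IsConnected (Set.univ : Set Γ.left) := by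
      refine ⟨⟨η[Γ].left (IsLocalRing.closedPoint k), trivial⟩, ?_⟩
      rw [← i.left.isEmbedding.isInducing.isPreconnected_image, Set.image_univ, hrW]
      exact hWi.closure.isConnected.isPreconnected
    exact connectedSpace_iff_univ.2 hc


end Groth.Agent.S5365
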