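import Groth.Statements.S5368
import Groth.Agent.Lib.SolvLocus20.Loci

set_option autoImplicit false
universe u
open CategoryTheory CategoryTheory.Limits MonoidalCategory CartesianMonoidalCategory MonObj GrpObj AlgebraicGeometry
open SGA3

namespace Groth.Agent.S5368

/-- Let G be an S-group scheme which is smooth, quasi-compact and separated over S. Then the set of
points s of S such that the geometric fibre of G at s is a nilpotent group is closed in S. (The
solvable case is a separate row.) -/
theorem result (S : Scheme.{u}) (G : Over S) [GrpObj G]
    [Smooth G.hom] [QuasiCompact G.hom] [IsSeparated G.hom] :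
    IsClosed {s : S | AGF.IsNilpotentGrp (Red.geomFibre s G)} := by
  exact SolvLocus20.isClosed_nilpotent G

end Groth.Agent.S5368
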