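import Groth.Statements.S5370
import Groth.Agent.Lib.GrpQuot20.OverQuot

set_option autoImplicit false
universe u
open CategoryTheory CategoryTheory.Limits MonoidalCategory CartesianMonoidalCategory MonObj GrpObj AlgebraicGeometry
open SGA3

namespace Groth.Agent.S5370

/-- Let u : G' → G be a monomorphism of S-group schemes and p : G → G'' a morphism of S-schemes which is
covering for the fpqc topology (some Z → G'' which is flat, surjective, with every affine open of
G'' the image of a quasi-compact open of Z, factors through p) and such that the square (g, h) ↦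
g·u(h), first projection G ×_S G' → G, p, p is cartesian, so that G'' represents the fpqc quotient
sheaf G/G'. Then: (ix) if G is reduced, G'' is reduced; (xi) G' is flat over S if and only if p is
flat, and in that case G'' is flat over S if and only if G is flat over S. -/
theorem result (S : Scheme.{u}) (G G' G'' : Over S) [GrpObj G] [GrpObj G']
    (u : G' ⟶ G) [IsMonHom u] [Mono u] (p : G ⟶ G'')
    (hcov : (∃ (Z : Scheme.{u}) (q : Z ⟶ G''.left) (r : Z ⟶ G.left), r ≫ p.left = q ∧ Surjective q ∧ Flat q ∧
        ∀ V : G''.left.Opens, IsAffineOpen V → ∃ W : Z.Opens, IsCompact (W : Set Z) ∧ q.base '' (W : Set Z) = (V : Set G''.left)))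
    (hsq : IsPullback ((G ◁ u) ≫ μ[G]) (fst G G') p p) :
    (IsReduced G.left → IsReduced G''.left) ∧
    (Flat G'.hom ↔ Flat p.left) ∧ (Flat p.left → (Flat G''.hom ↔ Flat G.hom)) := by
  obtain ⟨Z, q, r, hr, hqs, hflat, hq⟩ := hcov
  haveI : Surjective (r ≫ p.left) := hr ▸ hqs
  haveI : Flat (r ≫ p.left) := hr ▸ hflat
  haveI : Surjective p.left := GrpQuot20.surjective_of_cover_factor p.left r
  refine ⟨fun _ => GrpQuot20.isReduced_of_cover_factor p.left r, ⟨fun hG' => ?_, fun hp => ?_⟩, fun hp => ⟨fun h => ?_, fun h => ?_⟩⟩
  · haveI := hflat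
    haveI := hqs
    have hs : IsPullback ((G ◁ u) ≫ μ[G]).left (fst G G').left p.left p.left := hsq.map (Over.forget S)
    haveI hfst : Flat (fst G G').left := by
      have := hG'
      exact MorphismProperty.pullback_fst (P := @Flat) G.hom G'.hom hG'
    haveI : Flat (Limits.pullback.fst p.left p.left) := by
      rw [← MorphismProperty.cancel_left_of_respectsIso (P := @Flat) hs.flip.isoPullback.hom, hs.flip.isoPullback_hom_fst]
      exact hfst
    refine GrpQuot20.flat_of_flat_pullback_fst p.left q ?_
    subst hr
    rw [← Category.id_comp (Limits.pullback.fst (r ≫ p.left) p.left), ← (pullbackRightPullbackFstIso p.left p.left r).inv_hom_id,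
      Category.assoc, pullbackRightPullbackFstIso_hom_fst]
    infer_instance
  · have hu' := (GrpQuot20.isPullback_unit u p hsq).map (Over.forget S)
    have h := MorphismProperty.of_isPullback (P := @Flat) hu' hp
    have e : (toUnit G').left = G'.hom := (Category.comp_id _).symm.trans (Over.w (toUnit G'))
    rw [← e]
    exact h
  · haveI := h
    haveI := hp
    rw [← Over.w p]
    infer_instance
  · haveI := hp
    haveI : Flat (p.left ≫ G''.hom) := by rw [Over.w p]; exact h
    exact H12.flat_of_flat_comp_refined p.left G''.hom p.left (𝟙 _) (Category.id_comp _)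

end Groth.Agent.S5370
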