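import Groth.Statements.S5374
import Groth.Agent.Lib.MTRigid29.GenericTransporter
-- import your own Groth.Agent.* helpers here

set_option autoImplicit false
set_option backward.isDefEq.respectTransparency.types false
universe u
open CategoryTheory CategoryTheory.Limits MonoidalCategory CartesianMonoidalCategory MonObj GrpObj AlgebraicGeometry
open SGA3

namespace Groth.Agent.S5374

/-- The transporter of two morphisms; the centralizer of a morphism is the case u = v: let S be an
integral scheme, G an S-group scheme of finite presentation, Y an S-scheme of finite presentation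
and u, v : Y → G two morphisms of S-schemes. Then there is a nonempty open subscheme S' of S such
that, after base change to S', the transporter of u into v (points g with g u(y) g⁻¹ = v(y) for all
points y of Y after any base change) is represented by a closed subscheme of G_{S'} of finite
presentation over S'. (The published statement also treats, over the same open, the transporter and
the strict transporter of two subschemes and the normalizer of a subscheme; this row treats the
transporter of two morphisms only.) -/
theorem result (S : Scheme.{u}) [IsIntegral S] (G Y : Over S) [GrpObj G]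
    [LocallyOfFinitePresentation G.hom] [QuasiCompact G.hom] [QuasiSeparated G.hom]
    [LocallyOfFinitePresentation Y.hom] [QuasiCompact Y.hom] [QuasiSeparated Y.hom] (u v : Y ⟶ G) :
    ∃ U : S.Opens, (U : Set S).Nonempty ∧
      ∃ (T : Over (U : Scheme.{u})) (t : T ⟶ Red.bc U.ι G), IsClosedImmersion t.left ∧
        LocallyOfFinitePresentation T.hom ∧ QuasiCompact T.hom ∧ QuasiSeparated T.hom ∧
        ∀ (S' : Over (U : Scheme.{u})) (g : S' ⟶ Red.bc U.ι G), (∃ z : S' ⟶ T, z ≫ t = g) ↔
          ∀ (S'' : Over (U : Scheme.{u})) (s : S'' ⟶ S') (y : S'' ⟶ Red.bc U.ι Y),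
            (s ≫ g) * (y ≫ (Over.pullback U.ι).map u) * (s ≫ g)⁻¹ = y ≫ (Over.pullback U.ι).map v := by
  obtain ⟨U, hgU, hU, hsep, T, t, ht, hfp, hT⟩ := MTRigid29.exists_open_transporter G Y u v
  haveI := hsep; haveI := ht
  haveI : QuasiCompact (Red.bc U.ι G).hom := inferInstanceAs (QuasiCompact (CategoryTheory.Limits.pullback.snd G.hom U.ι))
  refine ⟨U, ⟨_, hgU⟩, T, t, ht, hfp, ?_, ?_, hT⟩ <;> rw [← Over.w t] <;> infer_instance

end Groth.Agent.S5374
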