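import Groth.Statements.S5377
import Mathlib.RingTheory.RingHom.FaithfullyFlat
import Mathlib.RingTheory.Flat.EquationalCriterion
import Mathlib.Algebra.Category.Ring.FilteredColimits

set_option autoImplicit false
universe u
open CategoryTheory CategoryTheory.Limits MonoidalCategory CartesianMonoidalCategory MonObj GrpObj AlgebraicGeometry
open SGA3

namespace Groth.Agent.S5377

/-- Let (C_i → A_i)_i be a filtered direct system of homomorphisms of commutative rings, each of which
is faithfully flat. Then the induced homomorphism colim C_i → colim A_i is faithfully flat. -/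
theorem result (J : Type u) [SmallCategory J] [IsFiltered J]
    (C A : J ⥤ CommRingCat.{u}) (φ : C ⟶ A) (h : ∀ j : J, (φ.app j).hom.FaithfullyFlat) :
    (colimMap φ).hom.FaithfullyFlat := by
  classical
  set ψ := (colimMap φ).hom
  have nat : ∀ (j : J) (c : C.obj j), ψ (colimit.ι C j c) = colimit.ι A j (φ.app j c) := by
    intro j c
    exact congrArg (fun q => q.hom c) (ι_colimMap φ j)
  have natAB : ∀ {j k : J} (u : j ⟶ k) (c : C.obj j), φ.app k (C.map u c) = A.map u (φ.app j c) := by
    intro j k u c
    exact congrArg (fun q => q.hom c) (φ.naturality u)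
  have pushC : ∀ {j k : J} (u : j ⟶ k) (c : C.obj j), colimit.ι C k (C.map u c) = colimit.ι C j c :=
    fun u c => congrArg (fun q => q.hom c) (colimit.w C u)
  have pushA : ∀ {j k : J} (u : j ⟶ k) (c : A.obj j), colimit.ι A k (A.map u c) = colimit.ι A j c :=
    fun u c => congrArg (fun q => q.hom c) (colimit.w A u)
  letI := ψ.toAlgebra
  have hflat : Module.Flat (colimit C : CommRingCat) (colimit A : CommRingCat) := by
    rw [Module.Flat.iff_forall_isTrivialRelation]
    intro l f x hfx
    choose jf cf hcf using fun i => Concrete.colimit_exists_rep C (f i)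
    choose jx cx hcx using fun i => Concrete.colimit_exists_rep A (x i)
    obtain ⟨S, hS⟩ := IsFiltered.sup_objs_exists (Finset.univ.image jf ∪ Finset.univ.image jx)
    let uf := fun i => (hS (X := jf i) (by simp)).some
    let ux := fun i => (hS (X := jx i) (by simp)).some
    have h0 : colimit.ι A S (∑ i, φ.app S (C.map (uf i) (cf i)) * A.map (ux i) (cx i)) = colimit.ι A S 0 := by
      rw [map_sum, map_zero, ← hfx]
      refine Finset.sum_congr rfl fun i _ => ?_
      rw [map_mul, ← nat, pushC, pushA, hcx, hcf]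
      rfl
    obtain ⟨k, u, v, huv⟩ := Concrete.colimit_exists_of_rep_eq A _ _ h0
    rw [map_zero, map_sum] at huv
    letI := (φ.app k).hom.toAlgebra
    haveI : Module.FaithfullyFlat (C.obj k) (A.obj k) := h k
    have hrel : ∑ i, C.map u (C.map (uf i) (cf i)) • A.map u (A.map (ux i) (cx i)) = 0 := by
      rw [← huv]
      refine Finset.sum_congr rfl fun i _ => ?_
      rw [map_mul, ← natAB]
      rfl
    obtain ⟨m, a, y, hy, ha⟩ := Module.Flat.iff_forall_isTrivialRelation.mp inferInstance hrel
    refine ⟨m, fun i j => colimit.ι C k (a i j), fun j => colimit.ι A k (y j), fun i => ?_, fun j => ?_⟩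
    · have e := congrArg (colimit.ι A k).hom (hy i)
      rw [map_sum, pushA, pushA, hcx] at e
      rw [e]
      refine Finset.sum_congr rfl fun j _ => ?_
      show colimit.ι A k (φ.app k (a i j) * y j) = ψ (colimit.ι C k (a i j)) * colimit.ι A k (y j)
      rw [map_mul, nat]
    · have e := congrArg (colimit.ι C k).hom (ha j)
      rw [map_sum, map_zero] at e
      rw [← e]
      refine Finset.sum_congr rfl fun i _ => ?_
      show f i * colimit.ι C k (a i j) = colimit.ι C k (_ * a i j)
      rw [map_mul, pushC, pushC, hcf]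
  refine @Module.FaithfullyFlat.mk _ _ _ _ _ hflat ?_
  intro m hm hcon
  rw [Ideal.smul_top_eq_map] at hcon
  have h1 : (1 : (colimit A : CommRingCat)) ∈ Ideal.map ψ m := by
    have h : (1 : (colimit A : CommRingCat)) ∈ Submodule.restrictScalars (colimit C : CommRingCat) (Ideal.map ψ m) := by
      rw [show Ideal.map ψ m = Ideal.map (algebraMap _ _) m from rfl, hcon]; trivial
    exact h
  let q := fun j : J => Ideal.comap (colimit.ι C j).hom m
  have hq : ∀ {j k : J} (u : j ⟶ k), (Ideal.map (φ.app j).hom (q j)).map (A.map u).hom ≤ Ideal.map (φ.app k).hom (q k) := by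
    intro j k u
    rw [Ideal.map_le_iff_le_comap, Ideal.map_le_iff_le_comap]
    intro c hc
    show A.map u (φ.app j c) ∈ Ideal.map (φ.app k).hom (q k)
    rw [← natAB]
    refine Ideal.mem_map_of_mem _ ?_
    show colimit.ι C k (C.map u c) ∈ m
    rw [pushC]; exact hc
  have key : ∀ x ∈ Ideal.map ψ m, ∃ (j : J) (a : A.obj j), colimit.ι A j a = x ∧ a ∈ Ideal.map (φ.app j).hom (q j) := by
    intro x hx
    induction hx using Submodule.span_induction with
    | mem x hx =>
      obtain ⟨c, hc, rfl⟩ := hx
      obtain ⟨j, c', rfl⟩ := Concrete.colimit_exists_rep C c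
      exact ⟨j, φ.app j c', (nat j c').symm, Ideal.mem_map_of_mem _ hc⟩
    | zero => exact ⟨IsFiltered.nonempty.some, 0, map_zero _, zero_mem _⟩
    | add x y _ _ hx hy =>
      obtain ⟨j, a, rfl, ha⟩ := hx
      obtain ⟨k, b, rfl, hb⟩ := hy
      exact ⟨IsFiltered.max j k, A.map (IsFiltered.leftToMax j k) a + A.map (IsFiltered.rightToMax j k) b,
        by rw [map_add, pushA, pushA],
        add_mem (hq _ (Ideal.mem_map_of_mem _ ha)) (hq _ (Ideal.mem_map_of_mem _ hb))⟩
    | smul r x _ hx =>
      obtain ⟨j, a, rfl, ha⟩ := hx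
      obtain ⟨k, b, rfl⟩ := Concrete.colimit_exists_rep A r
      exact ⟨IsFiltered.max j k, A.map (IsFiltered.rightToMax j k) b * A.map (IsFiltered.leftToMax j k) a,
        by rw [map_mul, pushA, pushA]; rfl,
        Ideal.mul_mem_left _ _ (hq _ (Ideal.mem_map_of_mem _ ha))⟩
  obtain ⟨j, a, ha1, ha⟩ := key 1 h1
  obtain ⟨k, u, v, huv⟩ := Concrete.colimit_exists_of_rep_eq A a (1 : A.obj j) (ha1.trans (map_one _).symm)
  have htop : (1 : A.obj k) ∈ Ideal.map (φ.app k).hom (q k) := by
    have h' := hq u (Ideal.mem_map_of_mem _ ha)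
    rw [huv, map_one] at h'
    exact h'
  have hqk : q k ≠ ⊤ := Ideal.comap_ne_top _ hm.ne_top
  obtain ⟨M, hM, hle⟩ := Ideal.exists_le_maximal _ hqk
  obtain ⟨P, hP⟩ := (RingHom.FaithfullyFlat.iff_flat_and_comap_surjective.mp (h k)).2 ⟨M, hM.isPrime⟩
  apply P.isPrime.ne_top
  rw [Ideal.eq_top_iff_one]
  refine (Ideal.map_le_iff_le_comap.mpr ?_ : Ideal.map (φ.app k).hom (q k) ≤ P.asIdeal) htop
  exact hle.trans (congrArg PrimeSpectrum.asIdeal hP).ge

end Groth.Agent.S5377
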