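import Groth.Statements.S5378
import Groth.Agent.Lib.AntiAff20.Hull
import Groth.Agent.Lib.GrpGen20.DomSurj

set_option autoImplicit false
universe u
open CategoryTheory CategoryTheory.Limits MonoidalCategory CartesianMonoidalCategory MonObj GrpObj AlgebraicGeometry
open SGA3

namespace Groth.Agent.S5378

/-- Let k be a field, G a k-group scheme of finite type, G' an affine k-group scheme (not necessarily of
finite type) and u : G → G' a homomorphism. Then u factors as a homomorphism p : G → C which is
surjective and flat (C is the quotient of G by the kernel of u) followed by a homomorphism i : C →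
G' which is a closed immersion; in particular C is affine. If moreover u induces an injective map on
global sections, then i is an isomorphism (so G' is of finite type and u is faithfully flat). -/
theorem result (k : Type u) [Field k] (G G' : Over (Spec (CommRingCat.of k))) [GrpObj G] [GrpObj G']
    [LocallyOfFiniteType G.hom] [QuasiCompact G.hom] [IsAffine G'.left] (u : G ⟶ G') [IsMonHom u] :
    ∃ (C : Over (Spec (CommRingCat.of k))) (_ : GrpObj C) (p : G ⟶ C) (i : C ⟶ G'), IsMonHom p ∧ IsMonHom i ∧
      p ≫ i = u ∧ Surjective p.left ∧ Flat p.left ∧ IsClosedImmersion i.left ∧ IsAffine C.left ∧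
      (Function.Injective u.left.appTop.hom → IsIso i) := by
  haveI : QuasiSeparated G.hom := AlgGrpBasic19.quasiSeparatedSpace
  haveI : CompactSpace G.left := QuasiCompact.compactSpace_of_compactSpace G.hom
  haveI : QuasiSeparatedSpace G.left := quasiSeparatedSpace_of_quasiSeparated G.hom
  haveI : QuasiCompact u.left := inferInstance
  obtain ⟨C, hC, i, p, hi, hp, hpi, hci, hker, hqc, hsurj⟩ := GrpGen20.exists_image u
  haveI := hi; haveI := hp; haveI := hci
  haveI : IsAffine C.left := isAffine_of_isAffineHom i.left
  haveI : IsSchemeTheoreticallyDominant p.left := ⟨hker⟩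
  haveI := hqc
  have hinj : Function.Injective p.left.appTop := p.left.app_injective ⊤
  obtain ⟨A, cA, hA, ⟨e⟩⟩ := HopfPts19.exists_model C
  let e' : AntiAff20.HX (k := k) A ≅ C := (Grp.forget _).mapIso e
  haveI : IsMonHom e'.inv := e.inv.hom.isMonHom_hom
  haveI : IsIso e'.inv.left := ((Over.forget _).mapIso e').isIso_inv
  haveI : IsIso e'.inv.left.appTop := inferInstanceAs (IsIso (e'.inv.left.app ⊤))
  haveI := AntiAff20.finiteType_of_injective (p ≫ e'.inv) (by
    rw [Over.comp_left, Scheme.Hom.comp_appTop]
    exact hinj.comp (ConcreteCategory.bijective_of_isIso e'.inv.left.appTop).1)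
  haveI : LocallyOfFiniteType (AntiAff20.HX (k := k) A).hom := by
    show LocallyOfFiniteType (Spec.map (CommRingCat.ofHom (algebraMap k A)))
    rw [HasRingHomProperty.Spec_iff (P := @LocallyOfFiniteType), CommRingCat.hom_ofHom, RingHom.finiteType_algebraMap]
    infer_instance
  haveI : LocallyOfFiniteType C.hom := by rw [← Over.w e'.inv]; infer_instance
  obtain ⟨h1, h2⟩ := AntiAff20.surjective_flat_of_injective_appTop p hinj
  refine ⟨C, hC, p, i, hp, hi, hpi, h1, h2, hci, ‹_›, fun hu => ?_⟩
  have h3 : Function.Injective i.left.appTop := by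
    intro a b hab
    refine hu ?_
    rw [← hpi, Over.comp_left, Scheme.Hom.comp_appTop]
    exact congrArg p.left.appTop hab
  haveI : IsSchemeTheoreticallyDominant i.left := AntiAff20.schDominant_of_injective i.left h3
  haveI : IsIso i.left := by
    obtain ⟨-, hsur⟩ := isClosedImmersion_iff_isAffineHom.mp hci
    haveI : IsIso i.left.appTop := (ConcreteCategory.isIso_iff_bijective _).mpr ⟨h3, hsur ⊤ (isAffineOpen_top _)⟩
    have h := Scheme.isoSpec_hom_naturality i.left
    haveI : IsIso (Spec.map i.left.appTop) := inferInstance
    rw [show i.left = C.left.isoSpec.hom ≫ Spec.map i.left.appTop ≫ G'.left.isoSpec.inv by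
      rw [← Category.assoc, h, Category.assoc, Iso.hom_inv_id, Category.comp_id]]
    infer_instance
  haveI : IsIso ((Over.forget _).map i) := ‹IsIso i.left›
  exact isIso_of_reflects_iso i (Over.forget _)


end Groth.Agent.S5378
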