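import Groth.Statements.S5380
import Groth.Agent.Lib.FlatLG20.Basic
import Mathlib.RingTheory.Flat.TorsionFree

set_option autoImplicit false
universe u
open CategoryTheory CategoryTheory.Limits MonoidalCategory CartesianMonoidalCategory MonObj GrpObj AlgebraicGeometry
open SGA3
open scoped TensorProduct

namespace Groth.Agent.S5380

/-- Let R be a discrete valuation ring with uniformizer π, A a flat commutative R-algebra and M an
A-module which is flat over R. Suppose that M/πM is a flat module over A/πA and that M ⊗_R K is a
flat module over A ⊗_R K, K the fraction field of R (equivalently, M[1/π] is flat over A[1/π], the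
form used here). Then M is a flat A-module. -/
theorem result (R : Type u) [CommRing R] [IsDomain R] [IsDiscreteValuationRing R]
    (π : R) (hπ : Irreducible π) (A : Type u) [CommRing A] [Algebra R A] [Module.Flat R A]
    (M : Type u) [AddCommGroup M] [Module A M] [Module R M] [IsScalarTower R A M] [Module.Flat R M]
    (h1 : Module.Flat (A ⧸ Ideal.span {algebraMap R A π}) (M ⧸ (Ideal.span {algebraMap R A π} • (⊤ : Submodule A M))))
    (h2 : Module.Flat (Localization.Away (algebraMap R A π)) (LocalizedModule (Submonoid.powers (algebraMap R A π)) M)) :
    Module.Flat A M := by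
  have hr : IsSMulRegular R π := fun x y h => mul_left_cancel₀ hπ.ne_zero h
  have reg : ∀ (N : Type u) [AddCommGroup N] [Module A N] [Module R N] [IsScalarTower R A N] [Module.Flat R N],
      IsSMulRegular N (algebraMap R A π) := by
    intro N _ _ _ _ _
    have h : IsSMulRegular N π := fun x y hxy => smul_right_injective N hπ.ne_zero hxy
    intro x y hxy
    refine h ?_
    simpa [IsScalarTower.algebraMap_smul] using hxy
  let e := TensorProduct.quotTensorEquivQuotSMul M (Ideal.span {algebraMap R A π})
  let e' : ((A ⧸ Ideal.span {algebraMap R A π}) ⊗[A] M) ≃ₗ[A ⧸ Ideal.span {algebraMap R A π}]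
      (M ⧸ (Ideal.span {algebraMap R A π} • (⊤ : Submodule A M))) :=
    LinearEquiv.extendScalarsOfSurjective Ideal.Quotient.mk_surjective e
  haveI := Module.Flat.of_linearEquiv e'
  haveI := h2
  exact FlatLG20.flat_of_regular (algebraMap R A π) (reg A) (reg M)

end Groth.Agent.S5380
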