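import Groth.Statements.S5381
import Mathlib.RingTheory.Flat.TorsionFree

set_option autoImplicit false
universe u
open CategoryTheory CategoryTheory.Limits MonoidalCategory CartesianMonoidalCategory MonObj GrpObj AlgebraicGeometry
open SGA3

namespace Groth.Agent.S5381

/-- For S the spectrum of a Dedekind domain R: let X be a scheme which is flat, quasi-compact and
quasi-separated over R. Then the ring of global sections Γ(X, O_X) is a flat R-module. (The
published remark takes S locally noetherian and regular of dimension 1 and also observes, when S is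
local with closed point s and uniformizer π, that Γ(X, O_X)/πΓ(X, O_X) → Γ(X_s, O_{X_s}) is
injective; this row takes S the spectrum of a Dedekind domain and omits the injectivity.) -/
theorem result (R : Type u) [CommRing R] [IsDedekindDomain R]
    (X : Scheme.{u}) (f : X ⟶ Spec (CommRingCat.of R)) [Flat f] [QuasiCompact f] [QuasiSeparated f] :
    letI := ((Scheme.ΓSpecIso (CommRingCat.of R)).inv ≫ f.appTop).hom.toAlgebra
    Module.Flat R Γ(X, ⊤) := by
  letI := ((Scheme.ΓSpecIso (CommRingCat.of R)).inv ≫ f.appTop).hom.toAlgebra
  haveI : Module.IsTorsionFree R Γ(X, ⊤) := by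
    rw [Module.isTorsionFree_iff_smul_eq_zero]
    intro r m hm
    by_cases hr : r = 0
    · exact Or.inl hr
    refine Or.inr ?_
    apply TopCat.Sheaf.eq_of_locally_eq' X.sheaf (fun V : X.affineOpens => (V : X.Opens)) ⊤
      (fun V => homOfLE le_top) (by rw [iSup_affineOpens_eq_top X]) 
    intro V
    let φ := f.appLE ⊤ V.1 le_top
    have hφ : φ.hom.Flat := HasRingHomProperty.appLE @Flat f ‹_› ⟨⊤, isAffineOpen_top _⟩ V le_top
    let a := (Scheme.ΓSpecIso (CommRingCat.of R)).inv.hom r
    have ha : a ≠ 0 := fun h => hr ((Scheme.ΓSpecIso (CommRingCat.of R)).symm.commRingCatIsoToRingEquiv.injective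
      (h.trans (map_zero _).symm))
    haveI : IsDomain Γ(Spec (CommRingCat.of R), ⊤) :=
      MulEquiv.isDomain R (Scheme.ΓSpecIso (CommRingCat.of R)).commRingCatIsoToRingEquiv.toMulEquiv
    algebraize [φ.hom]
    set x := (X.presheaf.map (homOfLE (le_top : V.1 ≤ ⊤)).op).hom m with hx
    have hz : φ.hom a * x = 0 := by
      have h : (f.appTop.hom a) * m = 0 := hm
      have h' := congrArg (X.presheaf.map (homOfLE (le_top : V.1 ≤ ⊤)).op).hom h
      rw [map_mul, map_zero] at h'
      exact h'
    have hz' : a • x = 0 := by rw [Algebra.smul_def]; exact hz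
    have := (smul_eq_zero.mp hz').resolve_left ha
    exact this.trans (map_zero _).symm
  infer_instance

end Groth.Agent.S5381
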