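import Groth.Statements.S5383
import Groth.Agent.Lib.Unibr4.GoDown

set_option autoImplicit false
universe u
open CategoryTheory CategoryTheory.Limits MonoidalCategory CartesianMonoidalCategory MonObj GrpObj AlgebraicGeometry
open SGA3

set_option backward.isDefEq.respectTransparency.types false

namespace Groth.Agent.S5383

/-- (i) let A ⊆ B be domains with B integral over A, and q a prime of B such that the local ring of A at
p = q ∩ A is unibranch; then Spec B → Spec A is open at q (it maps neighbourhoods of q to
neighbourhoods of p). (ii) Let f : X → Y be a dominant morphism of irreducible schemes which is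
locally of finite type, x a point of X isolated in its fibre (f quasi-finite at x) such that the
local ring of Y at f(x) is unibranch; then f is open at x. -/
theorem result :
    (∀ (A B : Type u) [CommRing A] [IsDomain A] [CommRing B] [IsDomain B] [Algebra A B],
      Function.Injective (algebraMap A B) → Algebra.IsIntegral A B →
      ∀ q : PrimeSpectrum B, CAlg2.IsUnibranch (Localization.AtPrime (q.asIdeal.comap (algebraMap A B))) →
        EGA43.IsOpenAt (PrimeSpectrum.comap (algebraMap A B)) q) ∧
    (∀ (X Y : Scheme.{u}) (f : X ⟶ Y) [IrreducibleSpace X] [IrreducibleSpace Y] [LocallyOfFiniteType f],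
      DenseRange f.base → ∀ x : X, (nhdsWithin x (f.base ⁻¹' {f.base x})) = pure x →
        CAlg2.IsUnibranch (Y.presheaf.stalk (f.base x)) → EGA43.IsOpenAt f.base x) := by
  constructor
  · intro A B _ _ _ _ _ hinj hint q hq
    haveI := hint
    haveI := hq.1
    let p := q.asIdeal.comap (algebraMap A B)
    haveI : q.asIdeal.IsPrime := q.2
    have hB := Unibr4.ub_NB (R := A) (A := Localization.AtPrime p) p hq
      (Unibr4.nhd_of_irreducible p hq.1 (by rw [nilradical_eq_zero]; exact Ideal.isPrime_bot))
    refine Unibr4.isOpenAt_of_integral hB q.asIdeal ⊥ bot_le rfl ?_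
    intro a ha
    have h0 : algebraMap A B a = 0 := ha
    rw [hinj (h0.trans (map_zero _).symm)]
    exact zero_mem _
  · intro X Y f _ _ _ hd x hx hy
    have hqf : f.QuasiFiniteAt x := by
      rw [Scheme.Hom.quasiFiniteAt_iff_isOpen_singleton_asFiber, ← (f.fiberHomeo (f x)).isOpen_image]
      simp only [Set.image_singleton, Scheme.Hom.asFiber, Homeomorph.apply_symm_apply]
      rw [isOpen_iff_mem_nhds]
      rintro _ rfl
      rw [nhds_subtype, Filter.mem_comap]
      have h1 : ({x} : Set X) ∈ nhdsWithin x (f.base ⁻¹' {f.base x}) := by rw [hx]; exact Filter.mem_pure.2 rfl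
      rw [mem_nhdsWithin] at h1
      obtain ⟨u, hu, hxu, hsub⟩ := h1
      exact ⟨u, hu.mem_nhds hxu, fun z hz => Subtype.ext (hsub ⟨hz, z.2⟩)⟩
    refine Unibr4.isOpenAt f x (genericPoint X) (Or.inr inferInstance) hy ((genericPoint_spec X).specializes trivial) ?_ hqf
    rw [Unibr4.apply_genericPoint f hd]
    exact Unibr4.max_of_irreducible

end Groth.Agent.S5383
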