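import Groth.Statements.S5384
import Groth.Agent.Lib.AbRigid.GrpTop
import Mathlib.RingTheory.Artinian.Ring

set_option autoImplicit false
universe u
open CategoryTheory CategoryTheory.Limits MonoidalCategory CartesianMonoidalCategory MonObj GrpObj AlgebraicGeometry
open SGA3

namespace Groth.Agent.S5384

/-- Let A be a local artinian ring, G an A-group scheme and u : H → G a homomorphism of A-group schemes
which is an immersion (a subgroup scheme; no finiteness is assumed). Then u is a closed immersion. -/
theorem result (A : Type u) [CommRing A] [IsArtinianRing A] [IsLocalRing A] (G H : Over (Spec (CommRingCat.of A))) [GrpObj G] [GrpObj H]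
    (u : H ⟶ G) [IsMonHom u] [IsImmersion u.left] : IsClosedImmersion u.left := by
  let k := IsLocalRing.ResidueField A
  let i : Spec (CommRingCat.of k) ⟶ Spec (CommRingCat.of A) :=
    Spec.map (CommRingCat.ofHom (IsLocalRing.residue A))
  haveI : IsClosedImmersion i := IsClosedImmersion.spec_of_surjective _ IsLocalRing.residue_surjective
  haveI : Surjective i := ⟨fun y => ⟨IsLocalRing.closedPoint k, Subsingleton.elim (α := PrimeSpectrum A) _ _⟩⟩
  let F := Over.pullback i
  letI : GrpObj (F.obj G) := Functor.grpObjObj
  letI : GrpObj (F.obj H) := Functor.grpObjObj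
  haveI : IsMonHom (F.map u) := inferInstance
  haveI : IsImmersion (F.map u).left := MorphismProperty.overPullbackMap (P := @IsImmersion) i u ‹_›
  haveI : IsClosedImmersion (F.map u).left := AbRigid.isClosedImmersion_of_isImmersion (F.map u)
  refine IsClosedImmersion.of_isPreimmersion _ ?_
  let π := pullback.fst G.hom i
  let π' := pullback.fst H.hom i
  have hc : (F.map u).left ≫ π = π' ≫ u.left := pullback.lift_fst _ _ _
  have : Set.range u.left.base = π.base '' Set.range (F.map u).left.base := by
    ext y; constructor
    · rintro ⟨x, rfl⟩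
      obtain ⟨x', rfl⟩ := π'.surjective x
      exact ⟨_, ⟨x', rfl⟩, by rw [← Scheme.Hom.comp_apply, hc, Scheme.Hom.comp_apply]⟩
    · rintro ⟨_, ⟨x', rfl⟩, rfl⟩
      exact ⟨π'.base x', by rw [← Scheme.Hom.comp_apply, ← hc, Scheme.Hom.comp_apply]⟩
  rw [this]
  exact π.isClosedMap _ (F.map u).left.isClosedEmbedding.isClosed_range

end Groth.Agent.S5384
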