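import Groth.Statements.S5385
import Groth.Agent.Lib.Cohen.CMLocus
import Groth.Agent.Lib.Cohen.Structure
import Groth.Agent.Lib.GrpCM20.Basic
import Groth.Agent.Lib.CIUnmixed6.Basic

set_option autoImplicit false
universe u
open CategoryTheory CategoryTheory.Limits MonoidalCategory CartesianMonoidalCategory MonObj GrpObj AlgebraicGeometry
open SGA3

namespace Groth.Agent.S5385

/-- Let A be an artinian ring and X a nonempty scheme locally of finite type over A. Then X has a closed
point whose local ring is Cohen–Macaulay. -/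
theorem result (A : Type u) [CommRing A] [IsArtinianRing A] (X : Scheme.{u})
    (f : X ⟶ Spec (CommRingCat.of A)) [LocallyOfFiniteType f] [Nonempty X] :
    ∃ x : X, IsClosed ({x} : Set X) ∧ LocCoh.IsCohenMacaulayLocalRing (X.presheaf.stalk x) := by
  haveI : JacobsonSpace X := LocallyOfFiniteType.jacobsonSpace f
  obtain ⟨w⟩ := ‹Nonempty X›
  suffices ∃ O : Set X, IsOpen O ∧ O.Nonempty ∧
      ∀ x ∈ O, LocCoh.IsCohenMacaulayLocalRing (X.presheaf.stalk x) by
    obtain ⟨O, hO, hne, h⟩ := this
    obtain ⟨x, hxO, hxc⟩ := nonempty_inter_closedPoints hne hO.isLocallyClosed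
    exact ⟨x, hxc, h x hxO⟩
  -- a local open piece of the base
  let p : PrimeSpectrum A := f w
  haveI : Finite (PrimeSpectrum A) := inferInstance
  have hsingle : IsOpen ({p} : Set (PrimeSpectrum A)) := isOpen_discrete _
  obtain ⟨_, ⟨e, rfl⟩, hep, heU⟩ :=
    PrimeSpectrum.isTopologicalBasis_basic_opens.exists_subset_of_mem_open (Set.mem_singleton p) hsingle
  let A' := Localization.Away e
  let j : Spec (CommRingCat.of A') ⟶ Spec (CommRingCat.of A) :=
    Spec.map (CommRingCat.ofHom (algebraMap A A'))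
  haveI : IsOpenImmersion j := IsOpenImmersion.of_isLocalization e
  haveI : IsArtinianRing A' := inferInstance
  obtain ⟨p', hp'⟩ : p ∈ Set.range (PrimeSpectrum.comap (algebraMap A A')) := by
    rw [PrimeSpectrum.localization_away_comap_range A' e]; exact hep
  haveI hsub : Subsingleton (PrimeSpectrum A') := ⟨fun a b => by
    apply PrimeSpectrum.localization_comap_injective A' (Submonoid.powers e)
    have h : ∀ c : PrimeSpectrum A', PrimeSpectrum.comap (algebraMap A A') c = p := fun c => by
      exact heU ((PrimeSpectrum.localization_away_comap_range A' e).subset ⟨c, rfl⟩)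
    rw [h a, h b]⟩
  haveI : IsLocalRing A' := IsLocalRing.of_unique_max_ideal ⟨p'.asIdeal, IsArtinianRing.isMaximal_of_isPrime _,
    fun M hM => congrArg PrimeSpectrum.asIdeal (hsub.elim ⟨M, hM.isPrime⟩ p')⟩
  haveI : IsAdicComplete (IsLocalRing.maximalIdeal A') A' := by
    obtain ⟨m, hm⟩ := IsArtinianRing.isNilpotent_jacobson_bot (R := A')
    rw [IsLocalRing.jacobson_eq_maximalIdeal _ bot_ne_top] at hm
    have hbot : ∀ x : A', x ∈ (IsLocalRing.maximalIdeal A' ^ m • ⊤ : Submodule A' A') → x = 0 := by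
      intro x hx
      rwa [hm, Ideal.zero_eq_bot, Submodule.bot_smul, Submodule.mem_bot] at hx
    exact
      { haus' := fun x hx => hbot x (SModEq.sub_mem.1 (hx m) |> fun h => by simpa using h)
        prec' := fun g hg => ⟨g m, fun n => by
          rcases le_or_gt n m with h | h
          · exact hg h
          · have := hbot _ (SModEq.sub_mem.1 (hg h.le))
            rw [sub_eq_zero] at this
            rw [this]; exact SModEq.rfl⟩ }
  obtain ⟨R, _, _, g, hg⟩ := Groth.Agent.Cohen.exists_regular_surjection A'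
  -- a chart
  let pr := Limits.pullback.fst f j
  obtain ⟨w', hw', -⟩ := Scheme.Pullback.exists_preimage_pullback (f := f) (g := j) w p' hp'.symm
  obtain ⟨V, hV, hwV, -⟩ := exists_isAffineOpen_mem_and_subset (X := Limits.pullback f j) (x := w') (U := ⊤) trivial
  haveI : Nonempty V := ⟨⟨w', hwV⟩⟩
  let φ : A' →+* Γ(Limits.pullback f j, V) := (Spec.preimage (hV.fromSpec ≫ Limits.pullback.snd f j)).hom
  have hft : φ.FiniteType := by
    have h : LocallyOfFiniteType (Spec.map (CommRingCat.ofHom φ)) := by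
      rw [show Spec.map (CommRingCat.ofHom φ) = hV.fromSpec ≫ Limits.pullback.snd f j from Spec.map_preimage _]
      infer_instance
    exact (HasRingHomProperty.Spec_iff (P := @LocallyOfFiniteType)).1 h
  haveI : IsRegularRing R := Groth.Agent.CIUnmixed6.isRegularRing_of_local R
  algebraize [φ, g]
  haveI : Algebra.FiniteType A' Γ(Limits.pullback f j, V) := hft
  obtain ⟨n, π, hπ⟩ := Algebra.FiniteType.iff_quotient_mvPolynomial''.1 (inferInstance : Algebra.FiniteType A' Γ(Limits.pullback f j, V))
  have hopen := Groth.Agent.Cohen.isOpen_cmLocus_of_quotient_regular (MvPolynomial (Fin n) R) _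
    (π.toRingHom.comp (MvPolynomial.map g)) (hπ.comp (MvPolynomial.map_surjective g hg))
  haveI : IsNoetherianRing Γ(Limits.pullback f j, V) := Algebra.FiniteType.isNoetherianRing A' _
  haveI : Nontrivial Γ(Limits.pullback f j, V) := by
    have hz : Nonempty (PrimeSpectrum Γ(Limits.pullback f j, V)) := ⟨hV.primeIdealOf ⟨w', hwV⟩⟩
    exact PrimeSpectrum.nonempty_iff_nontrivial.1 hz
  obtain ⟨q, hq⟩ := Ideal.exists_minimalPrimes_le (bot_le : (⊥ : Ideal Γ(Limits.pullback f j, V)) ≤ (hV.primeIdealOf ⟨w', hwV⟩).asIdeal)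
  haveI : q.IsPrime := hq.1.1.1
  let e' := hV.fromSpec ≫ pr
  let C : Set (PrimeSpectrum Γ(Limits.pullback f j, V)) :=
    {z | LocCoh.IsCohenMacaulayLocalRing (Localization.AtPrime z.asIdeal)}
  refine ⟨e' '' C, e'.isOpenEmbedding.isOpenMap _ hopen, ⟨e' ⟨q, inferInstance⟩, ⟨⟨q, inferInstance⟩, ?_, rfl⟩⟩, ?_⟩
  · refine Groth.Agent.GrpCM20.isCM_of_dim_zero _ ?_
    rw [IsLocalization.AtPrime.ringKrullDim_eq_height q, Ideal.height_eq_zero_iff.2 hq.1]
    rfl
  · rintro _ ⟨z, hz, rfl⟩
    refine (Groth.Agent.FibreCM5.isCM_stalk_openImmersion_iff e' z).1 ?_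
    exact (Groth.Agent.FibreCM5.isCM_stalk_Spec_iff _ z).2 hz


end Groth.Agent.S5385
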