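import Groth.Statements.S5387
import Groth.Agent.Lib.AbRigid.FibreTranslate
import Mathlib.AlgebraicGeometry.AlgClosed.Basic

set_option autoImplicit false
universe u
open CategoryTheory CategoryTheory.Limits MonoidalCategory CartesianMonoidalCategory MonObj GrpObj AlgebraicGeometry
open SGA3

namespace Groth.Agent.S5387

/-- Let k be an algebraically closed field, G a group scheme locally of finite type over k and x a
closed point of G. Then the local ring of G at x is isomorphic to the local ring of G at the unit
point (an isomorphism is induced by a translation; this row asserts the existence of an isomorphism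
of rings). -/
theorem result (k : Type u) [Field k] [IsAlgClosed k] (G : Over (Spec (CommRingCat.of k))) [GrpObj G]
    [LocallyOfFiniteType G.hom] (pt : ↥(𝟙_ (Over (Spec (CommRingCat.of k)))).left) (x : G.left) (hx : IsClosed ({x} : Set G.left)) :
    Nonempty (G.left.presheaf.stalk (η[G].left.base pt) ≅ G.left.presheaf.stalk x) := by
  let a : 𝟙_ (Over (Spec (CommRingCat.of k))) ⟶ G :=
    Over.homMk (pointOfClosedPoint G.hom x hx) (pointOfClosedPoint_comp G.hom x hx)
  haveI : Subsingleton ↥(Spec (CommRingCat.of k)) := inferInstance
  have hpt : pt = AbRigid.pt₀ k :=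
    Subsingleton.elim (α := ↥(Spec (CommRingCat.of k))) pt (AbRigid.pt₀ k)
  have h1 : (AbRigid.ltr a).left.base ((η[G]).left.base (AbRigid.pt₀ k)) = x := by
    rw [← AbRigid.ltrHomeo_apply, AbRigid.ltrHomeo_unit]
    exact pointOfClosedPoint_apply G.hom x hx _
  haveI : IsIso (AbRigid.ltr a).left :=
    inferInstanceAs (IsIso ((Over.forget _).mapIso (AbRigid.ltrIso a)).hom)
  subst hpt
  exact ⟨(asIso ((AbRigid.ltr a).left.stalkMap ((η[G]).left.base (AbRigid.pt₀ k)))).symm ≪≫
    G.left.presheaf.stalkCongr (Inseparable.of_eq h1)⟩

end Groth.Agent.S5387
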