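import Groth.Statements.S5388
import Groth.Agent.Lib.GrpSmooth19.Basic
import Groth.Agent.Lib.AbRigid.Isogeny

set_option autoImplicit false
universe u
open CategoryTheory CategoryTheory.Limits MonoidalCategory CartesianMonoidalCategory MonObj GrpObj AlgebraicGeometry
open SGA3

namespace Groth.Agent.S5388

/-- Let G be a group scheme locally of finite type over a field k, e its unit point and K a perfect
extension field of k. If K ⊗_k O_{G,e} is a reduced ring, then G is smooth over k. (The published
statement is for a group flat and locally of finite type over a local artinian ring, with K the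
perfect closure of the residue field; this row is the case of a base field, with K any perfect
extension.) -/
theorem result (k : Type u) [Field k] (G : Over (Spec (CommRingCat.of k))) [GrpObj G]
    [LocallyOfFiniteType G.hom] (pt : ↥(𝟙_ (Over (Spec (CommRingCat.of k)))).left) (K : Type u) [Field K] [Algebra k K] [PerfectField K] :
    letI := ((Scheme.ΓSpecIso (CommRingCat.of k)).inv ≫ G.hom.appTop ≫ G.left.presheaf.germ ⊤ (η[G].left.base pt) trivial).hom.toAlgebra
    IsReduced (TensorProduct k K (G.left.presheaf.stalk (η[G].left.base pt))) → Smooth G.hom := by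
  letI := ((Scheme.ΓSpecIso (CommRingCat.of k)).inv ≫ G.hom.appTop ≫ G.left.presheaf.germ ⊤ (η[G].left.base pt) trivial).hom.toAlgebra
  intro hred
  let α : CommRingCat.of k ⟶ G.left.presheaf.stalk (η[G].left.base pt) :=
    (Scheme.ΓSpecIso (CommRingCat.of k)).inv ≫ G.hom.appTop ≫ G.left.presheaf.germ ⊤ (η[G].left.base pt) trivial
  letI alg : Algebra k (G.left.presheaf.stalk (η[G].left.base pt)) := α.hom.toAlgebra
  haveI : _root_.IsReduced (TensorProduct k K (G.left.presheaf.stalk (η[G].left.base pt))) := hred
  let φ := Spec.map (CommRingCat.ofHom (algebraMap k K))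
  let c := pullback.fst G.hom φ
  have hG : G.hom = G.left.toSpecΓ ≫ Spec.map G.hom.appTop ≫ Spec.map (Scheme.ΓSpecIso (CommRingCat.of k)).inv := by
    rw [← Scheme.toSpecΓ_naturality_assoc, ← Scheme.isoSpec_Spec_inv, Scheme.toSpecΓ]
    simp
  have hA : G.left.fromSpecStalk (η[G].left.base pt) ≫ G.hom = Spec.map (CommRingCat.ofHom (algebraMap k (G.left.presheaf.stalk (η[G].left.base pt)))) := by
    rw [hG, Scheme.fromSpecStalk_toSpecΓ_assoc, ← Spec.map_comp, ← Spec.map_comp, Category.assoc]
    congr 1
  let q := pullback.snd (G.left.fromSpecStalk (η[G].left.base pt)) c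
  let i : pullback (G.left.fromSpecStalk (η[G].left.base pt)) c ≅
      Spec (CommRingCat.of (TensorProduct k (G.left.presheaf.stalk (η[G].left.base pt)) K)) :=
    pullbackRightPullbackFstIso G.hom φ (G.left.fromSpecStalk (η[G].left.base pt)) ≪≫
      pullback.congrHom hA rfl ≪≫ pullbackSpecIso k (G.left.presheaf.stalk (η[G].left.base pt)) K
  haveI : _root_.IsReduced (TensorProduct k (G.left.presheaf.stalk (η[G].left.base pt)) K) :=
    isReduced_of_injective (Algebra.TensorProduct.comm k (G.left.presheaf.stalk (η[G].left.base pt)) K).toRingHom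
      (Algebra.TensorProduct.comm k (G.left.presheaf.stalk (η[G].left.base pt)) K).injective
  haveI : IsReduced (Spec (CommRingCat.of (TensorProduct k (G.left.presheaf.stalk (η[G].left.base pt)) K))) := inferInstance
  haveI : IsReduced (pullback (G.left.fromSpecStalk (η[G].left.base pt)) c) := isReduced_of_isOpenImmersion i.hom
  haveI : Nonempty ↥(Spec (CommRingCat.of (TensorProduct k (G.left.presheaf.stalk (η[G].left.base pt)) K))) :=
    inferInstanceAs (Nonempty (PrimeSpectrum _))
  let t : ↥(pullback (G.left.fromSpecStalk (η[G].left.base pt)) c) := i.inv.base (Classical.arbitrary _)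
  haveI : Flat (G.left.fromSpecStalk (η[G].left.base pt)) := AbRigid.flat_fromSpecStalk (η[G].left.base pt)
  haveI : Flat q := MorphismProperty.pullback_snd _ _ inferInstance
  haveI : IsPreimmersion q := MorphismProperty.pullback_snd _ _ inferInstance
  have hinj : Function.Injective (q.stalkMap t) := by
    algebraize [(q.stalkMap t).hom]
    haveI : Module.FaithfullyFlat ((pullback G.hom φ).presheaf.stalk (q t))
        ((pullback (G.left.fromSpecStalk (η[G].left.base pt)) c).presheaf.stalk t) :=
      @Module.FaithfullyFlat.of_flat_of_isLocalHom _ _ _ _ _ _ _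
        (Flat.stalkMap q t) (q.toLRSHom.prop t)
    exact ‹RingHom.FaithfullyFlat _›.injective
  exact GrpSmooth19.smooth_of_isReduced_stalk_baseChange G K (q t)
    (isReduced_of_injective (q.stalkMap t).hom hinj)

end Groth.Agent.S5388
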