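import Groth.Statements.S5389
import Groth.Agent.Lib.GrpLocus20.MaxTarget
import Groth.Agent.Lib.AbRigid.Shear
import Groth.Agent.Lib.GrpNeutral20.Basic

set_option autoImplicit false
universe u
open CategoryTheory CategoryTheory.Limits MonoidalCategory CartesianMonoidalCategory MonObj GrpObj AlgebraicGeometry
open SGA3

namespace Groth.Agent.S5389

/-- Let P be a property of morphisms of schemes which is local on the target for the fpqc topology
(stable under base change, Zariski-local on the target, and descending along flat surjective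
quasi-compact morphisms). Let u : G → H be a homomorphism of S-group schemes with G flat and
universally open over S, W the largest open subscheme of H over which the restriction of u has P,
and V = u⁻¹(W). Then the image U of V in S is open and V is an open subgroup scheme of G over U: V
contains the unit point of every fibre of G that it meets, V is stable under the inversion of G, and
the product of a point of G ×_S G whose two projections lie in V lies in V. -/
theorem result (P : MorphismProperty Scheme.{u}) [P.IsStableUnderBaseChange] [IsZariskiLocalAtTarget P]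
    [P.DescendsAlong (@Flat ⊓ @Surjective ⊓ @QuasiCompact)]
    (S : Scheme.{u}) (G H : Over S) [GrpObj G] [GrpObj H] (u : G ⟶ H) [IsMonHom u] [Flat G.hom] [UniversallyOpen G.hom]
    (W : H.left.Opens) (hW : P (u.left ∣_ W)) (hmax : ∀ W' : H.left.Opens, P (u.left ∣_ W') → W' ≤ W) :
    letI V : G.left.Opens := u.left ⁻¹ᵁ W
    IsOpen (G.hom.base '' (V : Set G.left)) ∧
    (∀ g ∈ V, ∀ p : ↥(𝟙_ (Over S)).left, (𝟙_ (Over S)).hom.base p = G.hom.base g → η[G].left.base p ∈ V) ∧
    (∀ g ∈ V, ι[G].left.base g ∈ V) ∧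
    (∀ z : ↥(G ⊗ G).left, (fst G G).left.base z ∈ V → (snd G G).left.base z ∈ V → μ[G].left.base z ∈ V) := by
  let q : G ⊗ G ⟶ G ⊗ H := G ◁ u
  let σ : G ⊗ H ⟶ H := (AbRigid.shear u).hom ≫ snd G H
  obtain ⟨W₁, hW₁, hmax₁⟩ := GrpLocus20.exists_maxTarget (P := P) q.left
  have sq₀ := AbRigid.isPullback_whiskerLeft u G
  have w : (AbRigid.shear (𝟙 G)).hom ≫ q = q ≫ (AbRigid.shear u).hom := by
    apply CartesianMonoidalCategory.hom_ext
    · simp [q, AbRigid.shear]
    · simp only [q, AbRigid.shear, Category.assoc, lift_snd, whiskerLeft_snd, MonObj.comp_mul, whiskerLeft_fst_assoc,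
        lift_snd_assoc, Category.comp_id]
      rw [MonObj.mul_comp]
  have sq₁ : IsPullback ((AbRigid.shear (𝟙 G)).hom ≫ snd G G) q u σ :=
    (IsPullback.of_horiz_isIso ⟨w⟩).paste_horiz sq₀
  haveI hFs : Flat (snd G H).left := inferInstanceAs (Flat (Limits.pullback.snd G.hom H.hom))
  haveI hUs : UniversallyOpen (snd G H).left := inferInstanceAs (UniversallyOpen (Limits.pullback.snd G.hom H.hom))
  haveI : IsIso (AbRigid.shear u).hom.left :=
    inferInstanceAs (IsIso ((CategoryTheory.Over.forget S).mapIso (AbRigid.shear u)).hom)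
  haveI : Flat σ.left := inferInstanceAs (Flat ((AbRigid.shear u).hom.left ≫ (snd G H).left))
  have hσo : IsOpenMap σ.left :=
    ((snd G H).left.isOpenMap.comp (AbRigid.shear u).hom.left.homeomorph.isOpenMap :)
  have h0 := GrpLocus20.maxTarget_eq u.left (snd G H).left (snd G H).left.isOpenMap (snd G G).left q.left
    (sq₀.map (CategoryTheory.Over.forget S)) W hW hmax W₁ hW₁ hmax₁
  have h1 := GrpLocus20.maxTarget_eq u.left σ.left hσo ((AbRigid.shear (𝟙 G)).hom ≫ snd G G).left q.left
    (sq₁.map (CategoryTheory.Over.forget S)) W hW hmax W₁ hW₁ hmax₁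
  have inv : ∀ z : (G ⊗ H).left, σ.left z ∈ W ↔ (snd G H).left z ∈ W := fun z => by
    constructor
    · intro hz
      exact (h0 ▸ h1.symm ▸ hz : z ∈ (snd G H).left ⁻¹ᵁ W)
    · intro hz
      exact (h1 ▸ h0.symm ▸ hz : z ∈ σ.left ⁻¹ᵁ W)
  have hσ : ∀ {T : CategoryTheory.Over S} (a : T ⟶ G) (b : T ⟶ H), lift a b ≫ σ = (a ≫ u) * b := by
    intro T a b
    simp [σ, AbRigid.shear, MonObj.comp_mul]
  have hone : ∀ g : G.left, u.left g ∈ W → u.left (η[G].left (G.hom g)) ∈ W := by
    intro g hg
    have h := (inv ((lift ι[G] u).left g)).2 (by rw [← GrpNeutral20.hap, lift_snd]; exact hg)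
    rw [← GrpNeutral20.hap, hσ, GrpObj.inv_hom, GrpObj.inv_eq_inv, GrpObj.comp_inv, Category.comp_id, inv_mul_cancel,
      Hom.one_def] at h
    rw [← GrpNeutral20.hap, IsMonHom.one_hom u]
    rw [GrpNeutral20.hap] at h
    exact h
  refine ⟨G.hom.isOpenMap _ (u.left ⁻¹ᵁ W).2, fun g hg p hp => ?_, fun g hg => ?_, fun z _ hz2 => ?_⟩
  · have e : p = G.hom g := hp
    rw [e]
    exact hone g hg
  · have h := (inv ((lift ι[G] (toUnit G ≫ η[H])).left g)).2 (by
      rw [← GrpNeutral20.hap, lift_snd, ← IsMonHom.one_hom u, GrpNeutral20.hap, GrpNeutral20.hap]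
      exact hone g hg)
    rw [← GrpNeutral20.hap, hσ, ← Hom.one_def, _root_.mul_one, GrpNeutral20.hap] at h
    exact h
  · have h := (inv (q.left z)).2 (by
      rw [← GrpNeutral20.hap, whiskerLeft_snd, GrpNeutral20.hap]
      exact hz2)
    rw [← GrpNeutral20.hap] at h
    have e : q ≫ σ = μ[G] ≫ u := by
      have : q = lift (fst G G) (snd G G ≫ u) := by
        apply CartesianMonoidalCategory.hom_ext <;> simp [q]
      rw [this, hσ, ← MonObj.mul_comp, Hom.mul_def, lift_fst_snd, Category.id_comp]
    rw [e] at h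
    show u.left (μ[G].left z) ∈ W
    rw [← GrpNeutral20.hap]
    exact h


end Groth.Agent.S5389
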