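import Groth.Statements.S5390
import Groth.Agent.Lib.GrpLocus20.MaxTarget

set_option autoImplicit false
universe u
open CategoryTheory CategoryTheory.Limits MonoidalCategory CartesianMonoidalCategory MonObj GrpObj AlgebraicGeometry
open SGA3

namespace Groth.Agent.S5390

/-- Let P be a property of morphisms of schemes which is local on the target for the fpqc topology
(stable under base change, Zariski-local on the target, descending along flat surjective
quasi-compact morphisms). Let f : X → Y be a morphism, g : Y' → Y a flat morphism whose underlying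
map is open, and f' : X ×_Y Y' → Y' the base change. If W is the largest open of Y over which f has
P and W₁' the largest open of Y' over which f' has P, then W₁' = g⁻¹(W). -/
theorem result (P : MorphismProperty Scheme.{u}) [P.IsStableUnderBaseChange] [IsZariskiLocalAtTarget P]
    [P.DescendsAlong (@Flat ⊓ @Surjective ⊓ @QuasiCompact)]
    (X Y Y' : Scheme.{u}) (f : X ⟶ Y) (g : Y' ⟶ Y) [Flat g] (hg : IsOpenMap g.base)
    (W : Y.Opens) (hW : P (f ∣_ W)) (hmax : ∀ W₀ : Y.Opens, P (f ∣_ W₀) → W₀ ≤ W)
    (W₁ : Y'.Opens) (hW₁ : P (pullback.snd f g ∣_ W₁)) (hmax₁ : ∀ W₀ : Y'.Opens, P (pullback.snd f g ∣_ W₀) → W₀ ≤ W₁) :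
    W₁ = g ⁻¹ᵁ W := by
  exact GrpLocus20.maxTarget_eq f g hg (Limits.pullback.fst f g) (Limits.pullback.snd f g)
    (IsPullback.of_hasPullback f g) W hW hmax W₁ hW₁ hmax₁


end Groth.Agent.S5390
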