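import Groth.Statements.S5391
import Groth.Agent.Lib.QSect20.Component

set_option autoImplicit false
universe u
open CategoryTheory CategoryTheory.Limits MonoidalCategory CartesianMonoidalCategory MonObj GrpObj AlgebraicGeometry
open SGA3

namespace Groth.Agent.S5391

/-- Let f : X → S be a morphism locally of finite presentation, s a point of S and x a point of the
fibre X_s = f⁻¹(s) which is closed in it. Suppose f is universally open at the generic point z of
some irreducible component Z of the fibre X_s containing x, with the local dimension of X_s at x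
equal to dim Z. Then there are an affine scheme S', an etale morphism w : S' → S, a finite
surjective morphism of finite presentation π : S'' → S', and a morphism h : S'' → X with h f = π w,
such that exactly one point s'' of S'' lies over s, h(s'') = x, and h induces an isomorphism κ(x) ≅
κ(s''). -/
theorem result (X S : Scheme.{u}) (f : X ⟶ S) [LocallyOfFinitePresentation f]
    (s : S) (x : X) (hxs : f.base x = s) (hx : IsClosed ((Subtype.val : ↥(f.base ⁻¹' {s}) → X) ⁻¹' {x}))
    (Z : Set ↥(f.base ⁻¹' {s})) (hZ : Z ∈ irreducibleComponents ↥(f.base ⁻¹' {s})) (hxZ : x ∈ (Subtype.val '' Z))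
    (z : X) (hz : z ∈ Subtype.val '' Z ∧ Subtype.val '' Z ⊆ closure {z}) (hopen : EGA43.IsUnivOpenAt f z)
    (hdim : FlatMor.localDim ↥(f.base ⁻¹' {s}) ⟨x, hxs⟩ = topologicalKrullDim ↥Z) :
    ∃ (S' S'' : Scheme.{u}) (_ : IsAffine S') (w : S' ⟶ S) (π : S'' ⟶ S') (h : S'' ⟶ X),
      Etale w ∧ IsFinite π ∧ Surjective π ∧ LocallyOfFinitePresentation π ∧ h ≫ f = π ≫ w ∧
      ∃ s'' : S'', (π ≫ w).base ⁻¹' {s} = {s''} ∧ h.base s'' = x ∧ IsIso (h.residueFieldMap s'') := by
  subst hxs
  obtain ⟨hzx, hzf, hmax, hd⟩ := Groth.Agent.QSect20.component_generic f Z hZ hxZ hz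
  refine Groth.Agent.QSect20.exists_quasiSection f ?_ hzx hzf hmax hopen ?_
  · intro x' hx' hsp
    have h1 := Specializes.mem_closed (x := (⟨x, rfl⟩ : ↥(f.base ⁻¹' {f.base x})))
      (y := (⟨x', hx'⟩ : ↥(f.base ⁻¹' {f.base x}))) ((subtype_specializes_iff _ _).2 hsp) hx rfl
    exact h1
  · rw [Groth.Agent.FibDim14.fibreDimAt_eq_localDim_preimage]
    exact hdim.trans hd

end Groth.Agent.S5391
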