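import Groth.Statements.S5392
import Groth.Agent.Lib.PureSmooth29.ConnFibres

set_option autoImplicit false
set_option backward.isDefEq.respectTransparency false
set_option backward.isDefEq.respectTransparency.types false
universe u
open CategoryTheory CategoryTheory.Limits MonoidalCategory CartesianMonoidalCategory MonObj GrpObj AlgebraicGeometry
open SGA3

namespace Groth.Agent.S5392

/-- Let X be an S-group scheme which is smooth and of finite presentation over S with connected fibres,
Y an S-group scheme of finite presentation over S and i : Y → X a homomorphism which is a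
monomorphism. Then there is a closed immersion t : T → S, locally of finite presentation, such that
a morphism g : S' → S factors through t exactly when the base change of i along g is an isomorphism. -/
theorem result (S : Scheme.{u}) (X Y : Over S) [GrpObj X] [GrpObj Y]
    [Smooth X.hom] [QuasiCompact X.hom] [QuasiSeparated X.hom]
    (hconn : ∀ s : S, _root_.IsConnected (X.hom.base ⁻¹' {s}))
    [LocallyOfFinitePresentation Y.hom] [QuasiCompact Y.hom] [QuasiSeparated Y.hom]
    (i : Y ⟶ X) [IsMonHom i] [Mono i] :
    ∃ (T : Scheme.{u}) (t : T ⟶ S), IsClosedImmersion t ∧ LocallyOfFinitePresentation t ∧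
      ∀ (S' : Scheme.{u}) (g : S' ⟶ S),
        (∃ g' : S' ⟶ T, g' ≫ t = g) ↔ IsIso ((Over.pullback g).map i) := by
  obtain ⟨T, t, ht, hfp, hrep⟩ := PureSmooth29.exists_closed_subgroup i
    (PureSmooth29.neutralSet_eq_univ (PureSmooth29.connectedSpace_fibre X.hom hconn))
  exact ⟨T, t, ht, hfp, fun S' g => (hrep S' g).trans (PureSmooth29.fac_iff_isIso_map i g)⟩

end Groth.Agent.S5392
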