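import Groth.Statements.S5393
import Groth.Agent.S5260
import Groth.Agent.S5326
import Groth.Agent.S5327
import Groth.Agent.Lib.FlatH4.FibreCritScheme
import Groth.Agent.Lib.SchBasic.Basic
-- import your own Groth.Agent.* helpers here

set_option autoImplicit false
universe u
open CategoryTheory CategoryTheory.Limits MonoidalCategory CartesianMonoidalCategory MonObj GrpObj AlgebraicGeometry
open SGA3

namespace Groth.Agent.S5393

theorem flat_iso_comp {A B C : Scheme.{u}} (e : A ≅ B) (g : B ⟶ C) (hg : Flat g) : Flat (e.hom ≫ g) :=
  inferInstance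

/-- Let G be an S-group scheme locally of finite presentation and quasi-separated over S, H an S-group
scheme smooth and of finite presentation over S with connected fibres, u : H → G a homomorphism
which is a monomorphism, n : N → G the normalizer of H in G (a closed subgroup scheme) and j : H → N
the homomorphism with j n = u. The following are equivalent: (i) j is an open immersion; (ii) H
represents the neutral component of N: a point g : T → N factors through j exactly when the image of
its underlying map lies in the union of the neutral components of the fibres of N; (iii) for every s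
in S, the fibre j_s : H_s → N_s is an open immersion whose image is the neutral component of N_s.
(The published statement asks H only to be smooth over S with connected fibres; this row also asks H
quasi-compact and quasi-separated over S, the hypotheses under which the normalizer is shown to be
representable.) -/
theorem result (S : Scheme.{u}) (G H N : Over S) [GrpObj G] [GrpObj H] [GrpObj N]
    [LocallyOfFinitePresentation G.hom] [QuasiSeparated G.hom] [Smooth H.hom] [QuasiCompact H.hom] [QuasiSeparated H.hom]
    (hconn : ∀ s : S, _root_.IsConnected (H.hom.base ⁻¹' {s})) (u : H ⟶ G) [IsMonHom u] [Mono u]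
    (n : N ⟶ G) [IsClosedImmersion n.left] (hN : Red.IsNormalizerOf u n) (j : H ⟶ N) [IsMonHom j] (hj : j ≫ n = u) :
    (IsOpenImmersion j.left ↔
      ∀ (T : Over S) (g : T ⟶ N), (∃ h : T ⟶ H, h ≫ j = g) ↔ Set.range g.left.base ⊆ SGA3x.neutralSet N) ∧
    (IsOpenImmersion j.left ↔
      ∀ s : S, IsOpenImmersion ((Over.pullback (S.fromSpecResidueField s)).map j).left ∧
        j.left.base '' (H.hom.base ⁻¹' {s}) = SGA3x.neutralSet N ∩ N.hom.base ⁻¹' {s}) := by
  have huniv : SGA3x.neutralSet H = Set.univ := Groth.Agent.PureSmooth29.neutralSet_eq_univ fun s => by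
    haveI : ConnectedSpace ↥(H.hom ⁻¹' {s}) := Subtype.connectedSpace (hconn s)
    exact (H.hom.fiberHomeo s).symm.surjective.connectedSpace (H.hom.fiberHomeo s).symm.continuous
  obtain ⟨N', hG', n', hn', hcl, hfp⟩ := Groth.Agent.S5260.result G H (fun s => by
    haveI : ConnectedSpace ↥(H.hom ⁻¹' {s}) := Subtype.connectedSpace (hconn s)
    exact (H.hom.fiberHomeo s).symm.surjective.connectedSpace (H.hom.fiberHomeo s).symm.continuous) u
  haveI := hN.2.1
  haveI := hn'.2.1
  obtain ⟨a, ha⟩ := (hn'.2.2 N n).2 ((hN.2.2 N n).1 ⟨𝟙 _, Category.id_comp _⟩)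
  obtain ⟨b, hb⟩ := (hN.2.2 N' n').2 ((hn'.2.2 N' n').1 ⟨𝟙 _, Category.id_comp _⟩)
  haveI : IsIso a := ⟨⟨b, by rw [← cancel_mono n, Category.assoc, hb, ha, Category.id_comp],
    by rw [← cancel_mono n', Category.assoc, ha, hb, Category.id_comp]⟩⟩
  haveI : LocallyOfFinitePresentation n.left := by
    haveI : IsIso a.left := inferInstanceAs (IsIso ((Over.forget S).map a))
    rw [← ha, Over.comp_left]; infer_instance
  haveI : LocallyOfFinitePresentation N.hom := by rw [← Over.w n]; infer_instance
  haveI : Mono j := by haveI : Mono (j ≫ n) := hj ▸ ‹Mono u›; exact mono_of_mono j n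
  have hrange : IsOpenImmersion j.left → Set.range j.left = SGA3x.neutralSet N := fun h => by
    obtain ⟨h1, h2⟩ := Groth.Agent.S5327.result S N H (Groth.Agent.GrpNeutral20.lft_fibres N) j
    rw [huniv, Set.image_univ] at h2
    exact h2
  refine ⟨⟨fun h T g => ⟨?_, fun hg => ?_⟩, fun h => (Groth.Agent.S5326.result S N H j h).1⟩,
    ⟨fun h s => ⟨?_, ?_⟩, fun h => ?_⟩⟩
  · rintro ⟨z, rfl⟩
    rw [← hrange h]
    rintro _ ⟨t, rfl⟩
    exact ⟨z.left t, rfl⟩
  · rw [← hrange h] at hg
    exact ⟨Over.homMk (IsOpenImmersion.lift j.left g.left hg) (by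
      rw [← Over.w j, ← Category.assoc, IsOpenImmersion.lift_fac, Over.w g]),
      Over.OverMorphism.ext (IsOpenImmersion.lift_fac _ _ _)⟩
  · exact MorphismProperty.baseChange_map (P := @IsOpenImmersion) (S.fromSpecResidueField s) j h
  · rw [← hrange h]
    ext y
    constructor
    · rintro ⟨x, hx, rfl⟩
      exact ⟨⟨x, rfl⟩, show N.hom (j.left x) = s by rw [← Scheme.Hom.comp_apply, Over.w j]; exact hx⟩
    · rintro ⟨⟨x, rfl⟩, hx⟩
      exact ⟨x, show H.hom x = s by rw [← Over.w j, Scheme.Hom.comp_apply]; exact hx, rfl⟩
  · haveI : LocallyOfFinitePresentation (j.left ≫ N.hom) := by rw [Over.w j]; infer_instance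
    haveI : LocallyOfFinitePresentation j.left :=
      Groth.Agent.SchBasic.locallyOfFinitePresentation_of_comp j.left N.hom
    haveI : Mono j.left := inferInstanceAs (Mono ((Over.forget S).map j))
    haveI : Flat j.left := (Flat.iff_flat_stalkMap _).2 fun x => by
      let s := H.hom x
      let r := S.fromSpecResidueField s
      obtain ⟨z, hz, -⟩ := Scheme.Pullback.exists_preimage_pullback (f := j.left ≫ N.hom) (g := r) x
        (IsLocalRing.closedPoint (S.residueField s) : Spec (S.residueField s))
        (by rw [Over.w j]; exact (Scheme.fromSpecResidueField_apply s _).symm)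
      haveI : Smooth (j.left ≫ N.hom) := by rw [Over.w j]; infer_instance
      haveI := (h s).1
      haveI : Flat (Groth.Agent.FlatH4.fibreMapAt' j.left N.hom r) := by
        have e : Groth.Agent.FlatH4.fibreMapAt' j.left N.hom r =
            (pullback.congrHom (Over.w j) rfl).hom ≫ ((Over.pullback r).map j).left := by
          refine pullback.hom_ext ?_ ?_
          · refine (pullback.lift_fst _ _ _).trans (Eq.symm ?_)
            refine (Category.assoc _ _ _).trans ((congrArg ((pullback.congrHom (Over.w j) rfl).hom ≫ ·) (pullback.lift_fst _ _ _)).trans ?_)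
            rw [← Category.assoc, pullback.congrHom_hom, pullback.lift_fst, Category.comp_id]
            rfl
          · refine (pullback.lift_snd _ _ _).trans (Eq.symm ?_)
            refine (Category.assoc _ _ _).trans ((congrArg ((pullback.congrHom (Over.w j) rfl).hom ≫ ·) (pullback.lift_snd _ _ _)).trans ?_)
            rw [pullback.congrHom_hom]
            exact pullback.lift_snd _ _ _
        rw [e]
        exact flat_iso_comp _ _ (inferInstance : Flat ((Over.pullback (S.fromSpecResidueField s)).map j).left)
      have := Groth.Agent.FlatH4.flat_of_flat_fibreMapAt' j.left N.hom r z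
        ((Flat.iff_flat_stalkMap _).1 inferInstance _) ((Flat.iff_flat_stalkMap _).1 ‹_› z)
      exact hz ▸ this
    exact IsOpenImmersion.of_flat_of_mono j.left

end Groth.Agent.S5393
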