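import Groth.Statements.S5394
import Groth.Agent.Lib.GrpGen20.BoundedField
import Groth.Agent.Lib.GeomIrr18.Comp
import Groth.Agent.Lib.DiagGL.Chars
import Groth.Agent.S0591
import Mathlib.AlgebraicGeometry.Morphisms.Flat
import Mathlib.AlgebraicGeometry.Morphisms.FinitePresentation

set_option autoImplicit false
universe u
open CategoryTheory CategoryTheory.Limits MonoidalCategory CartesianMonoidalCategory MonObj GrpObj AlgebraicGeometry
open SGA3

namespace Groth.Agent.S5394

/-- Let G be an S-group scheme which is flat and locally of finite presentation over S and f : X → G a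
morphism of S-schemes with X locally of finite presentation over S. Suppose that for every point s
of S and every maximal point g of the fibre G_s (generic point of an irreducible component) there is
a point x of X with f(x) = g at which f is flat. Let V be the open subscheme of X where f is flat.
Then the morphism V ×_S V → G, (x, y) ↦ f(x)·f(y), is flat, locally of finite presentation and
surjective; in particular X ×_S X → G, (x, y) ↦ f(x)·f(y), is covering for the fppf topology. (The
published statement does not assume G flat over S and asserts only the covering property; this row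
assumes G flat over S, as the flatness step of the printed proof does, and concludes the flat,
locally finitely presented, surjective form that proof establishes. Without flatness of G the
flatness conclusion fails, e.g. for the identity of the closed subgroup tx = 0 of the additive group
over k[t].) -/
theorem result (S : Scheme.{u}) (G X : Over S) [GrpObj G] [LocallyOfFinitePresentation G.hom] [Flat G.hom]
    [LocallyOfFinitePresentation X.hom] (f : X ⟶ G)
    (hf : ∀ (s : S) (g : ↥(G.hom.base ⁻¹' {s})), closure {g} ∈ irreducibleComponents ↥(G.hom.base ⁻¹' {s}) →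
      ∃ x : X.left, f.left.base x = g.1 ∧ (f.left.stalkMap x).hom.Flat)
    (V : X.left.Opens) (hV : (V : Set X.left) = {x : X.left | (f.left.stalkMap x).hom.Flat}) :
    letI fV : Over.mk (V.ι ≫ X.hom) ⟶ G := Over.homMk (V.ι ≫ f.left) ((Category.assoc _ _ _).trans (congrArg (V.ι ≫ ·) (Over.w f)))
    Flat ((fV ⊗ₘ fV) ≫ μ[G]).left ∧ LocallyOfFinitePresentation ((fV ⊗ₘ fV) ≫ μ[G]).left ∧
      Surjective ((fV ⊗ₘ fV) ≫ μ[G]).left := by
  let fV : Over.mk (V.ι ≫ X.hom) ⟶ G := Over.homMk (V.ι ≫ f.left) ((Category.assoc _ _ _).trans (congrArg (V.ι ≫ ·) (Over.w f)))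
  show Flat ((fV ⊗ₘ fV) ≫ μ[G]).left ∧ LocallyOfFinitePresentation ((fV ⊗ₘ fV) ≫ μ[G]).left ∧
    Surjective ((fV ⊗ₘ fV) ≫ μ[G]).left
  haveI : Flat fV.left := by
    refine Flat.of_stalkMap _ fun v => ?_
    show ((V.ι ≫ f.left).stalkMap v).hom.Flat
    rw [Scheme.Hom.stalkMap_comp]
    exact RingHom.Flat.comp ((Set.ext_iff.1 hV _).1 v.2) (Flat.stalkMap V.ι v)
  haveI : LocallyOfFinitePresentation f.left := by
    haveI : LocallyOfFinitePresentation (f.left ≫ G.hom) := by rw [Over.w]; infer_instance
    exact SchBasic.locallyOfFinitePresentation_of_comp f.left G.hom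
  haveI : LocallyOfFinitePresentation fV.left := inferInstanceAs (LocallyOfFinitePresentation (V.ι ≫ f.left))
  haveI : Flat (fV ⊗ₘ fV).left := by
    rw [Over.tensorHom_left]
    exact MorphismProperty.pullbackMap (P := @Flat) ‹Flat fV.left› ‹Flat fV.left› (Over.w fV).symm (Over.w fV).symm
  haveI : LocallyOfFinitePresentation (fV ⊗ₘ fV).left := by
    rw [Over.tensorHom_left]
    exact MorphismProperty.pullbackMap (P := @LocallyOfFinitePresentation) ‹LocallyOfFinitePresentation fV.left›
      ‹LocallyOfFinitePresentation fV.left› (Over.w fV).symm (Over.w fV).symm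
  let sh : G ⊗ G ≅ G ⊗ G :=
    { hom := lift (fst G G) (fst G G * snd G G)
      inv := lift (fst G G) ((fst G G)⁻¹ * snd G G)
      hom_inv_id := by
        apply CartesianMonoidalCategory.hom_ext
        · simp
        · rw [Category.assoc, lift_snd, MonObj.comp_mul, GrpObj.comp_inv, lift_fst, lift_snd, Category.id_comp,
            inv_mul_cancel_left]
      inv_hom_id := by
        apply CartesianMonoidalCategory.hom_ext
        · simp
        · rw [Category.assoc, lift_snd, MonObj.comp_mul, lift_fst, lift_snd, Category.id_comp, mul_inv_cancel_left] }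
  have hμ : μ[G] = sh.hom ≫ snd G G := by
    simp only [sh, lift_snd]
    rw [Hom.mul_def, lift_fst_snd, Category.id_comp]
  haveI : IsIso sh.hom.left := ((Over.forget _).mapIso sh).isIso_hom
  haveI : Flat μ[G].left := by
    rw [hμ, Over.comp_left]
    haveI : Flat (snd G G).left := inferInstanceAs (Flat (Limits.pullback.snd G.hom G.hom))
    infer_instance
  haveI : LocallyOfFinitePresentation μ[G].left := by
    rw [hμ, Over.comp_left]
    haveI : LocallyOfFinitePresentation (snd G G).left :=
      inferInstanceAs (LocallyOfFinitePresentation (Limits.pullback.snd G.hom G.hom))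
    infer_instance
  refine ⟨by rw [Over.comp_left]; infer_instance, by rw [Over.comp_left]; infer_instance, ⟨fun g => ?_⟩⟩
  let s : S := G.hom g
  let σ := S.fromSpecResidueField s
  let H : Over (Spec (CommRingCat.of (S.residueField s))) := Red.bc σ G
  letI : GrpObj H := inferInstanceAs (GrpObj ((Over.pullback σ).obj G))
  let π : H.left ⟶ G.left := Limits.pullback.fst G.hom σ
  have hrange : Set.range π = G.hom ⁻¹' {s} := G.hom.range_fiberι s
  obtain ⟨x, hx⟩ : g ∈ Set.range π := hrange ▸ rfl
  obtain ⟨q, h1, h2, hq⟩ := GrpGen20.exists_maxPt_pair (k := S.residueField s) (H := H) x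
  have hmax : ∀ M : H.left, FlatH4.IsMaxPt M → π M ∈ Set.range fV.left := by
    intro M hM
    let e := G.hom.fiberHomeo s
    have hc : closure {e M} ∈ irreducibleComponents ↥(G.hom.base ⁻¹' {s}) := by
      have h := GeomIrr.closure_mem_of_isMaximalPt (α := ↥(G.hom.fiber s)) (x := M) hM
      refine ⟨isIrreducible_singleton.closure, fun Z hZ hle => ?_⟩
      have hZ' : IsIrreducible (e ⁻¹' Z) := by
        rw [← Homeomorph.image_symm]
        exact hZ.image _ e.symm.continuous.continuousOn
      have hle' : closure {M} ⊆ e ⁻¹' Z := by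
        intro y hy
        refine hle ?_
        exact (specializes_iff_mem_closure.1 ((specializes_iff_mem_closure.2 hy).map e.continuous))
      intro z hz
      obtain ⟨y, rfl⟩ := e.surjective z
      exact specializes_iff_mem_closure.1 ((specializes_iff_mem_closure.2 (h.2 hZ' hle' hz)).map e.continuous)
    obtain ⟨v, hv, hvf⟩ := hf s (e M) hc
    exact ⟨⟨v, (Set.ext_iff.1 hV v).2 hvf⟩, hv⟩
  let a := DiagGL.fl σ G (fst H H)
  let b := DiagGL.fl σ G (snd H H)
  have hl : ∀ {T : Over (Spec (S.residueField s))} (y : T ⟶ H), (DiagGL.fl σ G y).left = y.left ≫ π := by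
    intro T y
    simp [DiagGL.fl, Adjunction.homEquiv_counit, Over.mapPullbackAdj_counit_app, π]
  have hr : (lift a b).left q ∈ Set.range (fV ⊗ₘ fV).left := by
    rw [Over.tensorHom_left]
    erw [Scheme.Pullback.range_map]
    refine ⟨?_, ?_⟩
    · show (fst G G).left ((lift a b).left q) ∈ Set.range fV.left
      rw [← Scheme.Hom.comp_apply, ← Over.comp_left, lift_fst]
      show (DiagGL.fl σ G (fst H H)).left q ∈ _
      rw [hl, Scheme.Hom.comp_apply]
      exact hmax _ h1
    · show (snd G G).left ((lift a b).left q) ∈ Set.range fV.left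
      rw [← Scheme.Hom.comp_apply, ← Over.comp_left, lift_snd]
      show (DiagGL.fl σ G (snd H H)).left q ∈ _
      rw [hl, Scheme.Hom.comp_apply]
      exact hmax _ h2
  obtain ⟨w, hw⟩ := hr
  refine ⟨w, ?_⟩
  rw [Over.comp_left, Scheme.Hom.comp_apply, hw, ← Scheme.Hom.comp_apply, ← Over.comp_left, ← Hom.mul_def,
    show a * b = DiagGL.fl σ G μ[H] by
      rw [← DiagGL.fl_mul]
      rw [Hom.mul_def, lift_fst_snd, Category.id_comp]]
  rw [hl, Scheme.Hom.comp_apply, hq]
  exact hx


end Groth.Agent.S5394
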