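import Groth.Statements.S5395
import Groth.Agent.Lib.AbRigid.GrpTop

set_option autoImplicit false
universe u
open CategoryTheory CategoryTheory.Limits MonoidalCategory CartesianMonoidalCategory MonObj GrpObj AlgebraicGeometry
open SGA3

namespace Groth.Agent.S5395

/-- Let k be an algebraically closed field, G a group scheme locally of finite type over k, and A, B two
ind-constructible subsets of G. Let A·B be the image under the multiplication of the set of points
of G ×_k G whose two projections lie in A and B. Then every closed point z of G lying in A·B is the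
product of a closed point of G ×_k G whose two projections lie in A and B (and are then closed
points): the rational points of A·B are the products of rational points of A and of B. -/
theorem result (k : Type u) [Field k] [IsAlgClosed k] (G : Over (Spec (CommRingCat.of k))) [GrpObj G]
    [LocallyOfFiniteType G.hom] (A B : Set G.left) (hA : ProCons.IsIndConstructible A) (hB : ProCons.IsIndConstructible B)
    (z : G.left) (hz : IsClosed ({z} : Set G.left))
    (hzAB : z ∈ μ[G].left.base '' {w : ↥(G ⊗ G).left | (fst G G).left.base w ∈ A ∧ (snd G G).left.base w ∈ B}) :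
    ∃ w : ↥(G ⊗ G).left, IsClosed ({w} : Set ↥(G ⊗ G).left) ∧ (fst G G).left.base w ∈ A ∧ (snd G G).left.base w ∈ B ∧
      μ[G].left.base w = z := by
  have hlc : ∀ {α : Type u} [TopologicalSpace α] (T : Set α), Topology.IsConstructible T →
      (∀ a ∈ T, ∃ L, IsLocallyClosed L ∧ a ∈ L ∧ L ⊆ T) ∧ (∀ a ∈ Tᶜ, ∃ L, IsLocallyClosed L ∧ a ∈ L ∧ L ⊆ Tᶜ) := by
    intro α _ T hT
    induction hT using Topology.IsConstructible.empty_union_induction with
    | open_retrocompact U hU _ =>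
      exact ⟨fun a ha => ⟨U, hU.isLocallyClosed, ha, subset_rfl⟩, fun a ha => ⟨Uᶜ, hU.isClosed_compl.isLocallyClosed, ha, subset_rfl⟩⟩
    | union s _ t _ hs ht =>
      refine ⟨?_, fun a ha => ?_⟩
      · rintro a (ha | ha)
        · obtain ⟨L, h1, h2, h3⟩ := hs.1 a ha
          exact ⟨L, h1, h2, h3.trans Set.subset_union_left⟩
        · obtain ⟨L, h1, h2, h3⟩ := ht.1 a ha
          exact ⟨L, h1, h2, h3.trans Set.subset_union_right⟩
      · rw [Set.compl_union] at ha ⊢
        obtain ⟨L, h1, h2, h3⟩ := hs.2 a ha.1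
        obtain ⟨L', h1', h2', h3'⟩ := ht.2 a ha.2
        exact ⟨L ∩ L', h1.inter h1', ⟨h2, h2'⟩, Set.inter_subset_inter h3 h3'⟩
    | compl s _ hs => exact ⟨hs.2, by rw [compl_compl]; exact hs.1⟩
  have hloc : ∀ (E : Set G.left), ProCons.IsIndConstructible E → ∀ a ∈ E, ∃ L, IsLocallyClosed L ∧ a ∈ L ∧ L ⊆ E := by
    intro E hE a ha
    obtain ⟨U, hU, haU, 𝒮, h𝒮, heq⟩ := hE a
    obtain ⟨T, hT, haT⟩ := (heq ▸ (show (⟨a, haU⟩ : ↥U) ∈ Subtype.val ⁻¹' E from ha) : (⟨a, haU⟩ : ↥U) ∈ ⋃₀ 𝒮)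
    obtain ⟨V, hV, hVo, hVc⟩ := h𝒮 T hT ⟨a, haU⟩
    obtain ⟨L, hL, haL, hLT⟩ := (hlc _ hVc).1 ⟨⟨a, haU⟩, mem_of_mem_nhds hV⟩ haT
    refine ⟨Subtype.val '' (Subtype.val '' L), ?_, ⟨⟨a, haU⟩, ⟨⟨⟨a, haU⟩, mem_of_mem_nhds hV⟩, haL, rfl⟩, rfl⟩, ?_⟩
    · refine (hL.image Topology.IsInducing.subtypeVal ?_).image Topology.IsInducing.subtypeVal ?_
      · rw [Subtype.range_coe]; exact hVo.isLocallyClosed
      · rw [Subtype.range_coe]; exact hU.isLocallyClosed
    · rintro _ ⟨_, ⟨y, hy, rfl⟩, rfl⟩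
      exact (heq.ge ⟨T, hT, hLT hy⟩ : (y : ↥U) ∈ Subtype.val ⁻¹' E)
  obtain ⟨w, ⟨hwA, hwB⟩, hwz⟩ := hzAB
  obtain ⟨L, hL, haL, hLA⟩ := hloc A hA _ hwA
  obtain ⟨L', hL', hbL, hLB⟩ := hloc B hB _ hwB
  haveI : LocallyOfFiniteType (G ⊗ G).hom :=
    inferInstanceAs (LocallyOfFiniteType (Limits.pullback.fst G.hom G.hom ≫ G.hom))
  haveI : JacobsonSpace (G ⊗ G).left := LocallyOfFiniteType.jacobsonSpace (G ⊗ G).hom
  obtain ⟨v, ⟨⟨h1, h2⟩, h3⟩, hv⟩ := nonempty_inter_closedPoints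
    (Z := ((fst G G).left.base ⁻¹' L ∩ (snd G G).left.base ⁻¹' L') ∩ μ[G].left.base ⁻¹' {z})
    ⟨w, ⟨haL, hbL⟩, hwz⟩
    (((hL.preimage (fst G G).left.continuous).inter (hL'.preimage (snd G G).left.continuous)).inter
      (hz.preimage μ[G].left.continuous).isLocallyClosed)
  exact ⟨v, hv, hLA h1, hLB h2, h3⟩

end Groth.Agent.S5395
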