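import Groth.Statements.S5397
import Groth.Agent.Lib.GrpNeutral20.Homog
import Groth.Agent.Lib.GrpNeutral20.Sep
import Groth.Agent.Lib.GrpNeutral20.UnivOpen

set_option autoImplicit false
universe u
open CategoryTheory CategoryTheory.Limits MonoidalCategory CartesianMonoidalCategory MonObj GrpObj AlgebraicGeometry
open SGA3

namespace Groth.Agent.S5397

/-- Let G be an S-group scheme locally of finite presentation over S and universally open over S on some
open containing the unit section, acting on an S-scheme X so that G ×_S X → X ×_S X, (g, x) ↦ (gx,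
x), is surjective, and suppose every fibre X_s is a quasi-separated and connected space. Then X is
separated over S; and if there is an open subscheme V of X, quasi-compact over S, meeting every
nonempty fibre X_s, then X is quasi-compact over S. (The published statement concludes that X is
quasi-compact over S without the open V; for a local scheme S whose punctured spectrum is not
quasi-compact, the trivial group acting on the disjoint union of the closed point and the punctured
spectrum satisfies every hypothesis and is not quasi-compact over S, so the open V is required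
here.) -/
theorem result (S : Scheme.{u}) (G X : Over S) [GrpObj G]
    [LocallyOfFinitePresentation G.hom]
    (hGo : ∃ W : G.left.Opens, (∀ p : ↥(𝟙_ (Over S)).left, η[G].left.base p ∈ W) ∧ UniversallyOpen (W.ι ≫ G.hom))
    (a : AlgGrp.Action G X) (hΦ : Surjective (lift a.act (snd G X)).left)
    (hqs : ∀ s : S, QuasiSeparatedSpace ↥(X.hom.base ⁻¹' {s}))
    (hconn : ∀ s : S, _root_.IsPreconnected (X.hom.base ⁻¹' {s})) :
    IsSeparated X.hom ∧
    ((∃ V : X.left.Opens, QuasiCompact (V.ι ≫ X.hom) ∧
        ∀ s : S, (X.hom.base ⁻¹' {s}).Nonempty → ((V : Set X.left) ∩ X.hom.base ⁻¹' {s}).Nonempty) →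
      QuasiCompact X.hom) := by
  obtain ⟨W, hW, hWo⟩ := hGo
  have hWat : ∀ x ∈ W, EGA43.IsUnivOpenAt G.hom x := by
    intro x hxW Y' g x' hx' O hO
    let j : Limits.pullback (W.ι ≫ G.hom) g ⟶ Limits.pullback G.hom g :=
      Limits.pullback.map _ _ _ _ W.ι (𝟙 _) (𝟙 _) (by simp) (by simp)
    obtain ⟨q, rfl⟩ : x' ∈ Set.range j := by
      rw [Scheme.Pullback.range_map]
      exact ⟨⟨⟨x, hxW⟩, hx'.symm⟩, ⟨_, rfl⟩⟩
    have e : j ≫ Limits.pullback.snd G.hom g = Limits.pullback.snd (W.ι ≫ G.hom) g :=
      (Limits.pullback.lift_snd _ _ _).trans (Category.comp_id _)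
    have h1 := (Limits.pullback.snd (W.ι ≫ G.hom) g).isOpenMap.image_mem_nhds
      (j.continuous.continuousAt.preimage_mem_nhds hO)
    show _ ∈ nhds (Limits.pullback.snd G.hom g (j q))
    rw [← Scheme.Hom.comp_apply, e]
    refine Filter.mem_of_superset h1 ?_
    rintro _ ⟨r, hr, rfl⟩
    exact ⟨j r, hr, by rw [← Scheme.Hom.comp_apply, e]⟩
  have hconst : ∀ s : S, ∃ O ∈ nhds s, ∀ t ∈ O, topologicalKrullDim ↥(G.hom ⁻¹' {t}) = topologicalKrullDim ↥(G.hom ⁻¹' {s}) :=
    fun s => GrpNeutral20.const_of_univOpen G s W (hW s) (fun x _ _ hxW => hWat x hxW)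
  have hdim : IsLocallyConstant (fun s : S => topologicalKrullDim ↥(G.hom ⁻¹' {s})) := by
    rw [IsLocallyConstant.iff_eventually_eq]
    intro s
    obtain ⟨O, hO, hOc⟩ := hconst s
    exact Filter.eventually_of_mem hO hOc
  have hd := GrpNeutral20.constDimGen_of_isLocallyConstant G hdim
  refine ⟨GrpNeutral20.isSeparated_of_common_opens X.hom fun q => ?_, ?_⟩
  · obtain ⟨U, hxU, hUs⟩ := GrpNeutral20.exists_isSeparated_nhd X.hom (Limits.pullback.fst X.hom X.hom q)
    obtain ⟨V, hV, hVs⟩ := GrpNeutral20.isSeparated_actSet a hd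
      (fun x hx => GrpNeutral20.univOpen_of_const G (G.hom x) (hconst _) hx rfl) U hUs
    have e : X.hom (Limits.pullback.snd X.hom X.hom q) = X.hom (Limits.pullback.fst X.hom X.hom q) := by
      rw [← Scheme.Hom.comp_apply, ← Scheme.Hom.comp_apply, Limits.pullback.condition]
    have hsub := GrpNeutral20.fibre_subset_actSet a hΦ _ (hqs _) (hconn _) hd U hxU rfl
    exact ⟨V, hVs, show _ ∈ (V : Set X.left) from hV ▸ hsub rfl, show _ ∈ (V : Set X.left) from hV ▸ hsub e⟩
  · rintro ⟨V, hV, hVmeet⟩
    rw [quasiCompact_iff_forall_isAffineOpen]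
    intro A hA
    haveI : IsAffine A.toScheme := hA
    haveI : LocallyOfFinitePresentation (Red.bc A.ι G).hom :=
      inferInstanceAs (LocallyOfFinitePresentation (Limits.pullback.snd G.hom A.ι))
    obtain ⟨U, hUc, hNU⟩ := GrpNeutral20.exists_isCompact_open (Red.bc A.ι G)
      (fun t => inferInstanceAs (LocallyOfFiniteType (Limits.pullback.snd _ _)))
    let gU : U.toScheme ⟶ A.toScheme := U.ι ≫ Limits.pullback.snd G.hom A.ι
    let V' : Scheme.{u} := Limits.pullback (V.ι ≫ X.hom) A.ι
    let gV : V' ⟶ A.toScheme := Limits.pullback.snd (V.ι ≫ X.hom) A.ι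
    haveI : CompactSpace U.toScheme := isCompact_iff_compactSpace.1 hUc
    haveI := hV
    haveI : QuasiCompact gV := MorphismProperty.pullback_snd _ _ hV
    haveI : CompactSpace ↥(Limits.pullback gU gV) :=
      QuasiCompact.compactSpace_of_compactSpace (Limits.pullback.fst gU gV)
    let k : Limits.pullback gU gV ⟶ (G ⊗ X).left :=
      Limits.pullback.map gU gV G.hom X.hom (U.ι ≫ Limits.pullback.fst G.hom A.ι)
        (Limits.pullback.fst (V.ι ≫ X.hom) A.ι ≫ V.ι) A.ι
        (by simp only [gU, Category.assoc, Limits.pullback.condition])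
        (by simp only [gV, Category.assoc, Limits.pullback.condition])
    have e : ((X.hom ⁻¹ᵁ A : X.left.Opens) : Set X.left) = (a.act.left '' Set.range k) := by
      refine Set.Subset.antisymm (fun x hx => ?_) ?_
      · obtain ⟨x₁, hx₁V, hx₁s⟩ := hVmeet (X.hom x) ⟨x, rfl⟩
        obtain ⟨z, ⟨hz1, hz2⟩, hzx⟩ :=
          GrpNeutral20.fibre_subset_actSet a hΦ _ (hqs _) (hconn _) hd V hx₁V hx₁s (show X.hom x = X.hom x from rfl)
        refine ⟨z, ?_, hzx⟩
        have hzA : (G ⊗ X).hom z ∈ A := by
          rw [← CategoryTheory.Over.w a.act, Scheme.Hom.comp_apply, hzx]; exact hx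
        have hgA : G.hom ((fst G X).left z) ∈ A := by
          rw [← Scheme.Hom.comp_apply, CategoryTheory.Over.w (fst G X)]; exact hzA
        have hxA : X.hom ((snd G X).left z) ∈ A := by
          rw [← Scheme.Hom.comp_apply, CategoryTheory.Over.w (snd G X)]; exact hzA
        rw [Scheme.Pullback.range_map]
        refine ⟨?_, ?_⟩
        · obtain ⟨g', hg', -⟩ := Scheme.Pullback.exists_preimage_pullback (f := G.hom) (g := A.ι)
            ((fst G X).left z) ⟨_, hgA⟩ rfl
          exact ⟨⟨g', hNU (by rw [GrpNeutral20.neutralSet_bc]; show Limits.pullback.fst G.hom A.ι g' ∈ SGA3x.neutralSet G; rw [hg']; exact hz1)⟩, hg'⟩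
        · obtain ⟨v', hv', -⟩ := Scheme.Pullback.exists_preimage_pullback (f := V.ι ≫ X.hom) (g := A.ι)
            ⟨(snd G X).left z, hz2⟩ ⟨_, hxA⟩ rfl
          exact ⟨v', by rw [Scheme.Hom.comp_apply, hv']; rfl⟩
      · rintro _ ⟨_, ⟨q, rfl⟩, rfl⟩
        show X.hom (a.act.left (k q)) ∈ A
        rw [← Scheme.Hom.comp_apply (f := a.act.left), CategoryTheory.Over.w a.act, ← Scheme.Hom.comp_apply,
          ← CategoryTheory.Over.w (fst G X), ← Category.assoc,
          show k ≫ (fst G X).left = Limits.pullback.fst gU gV ≫ U.ι ≫ Limits.pullback.fst G.hom A.ι from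
            Limits.pullback.lift_fst _ _ _]
        simp only [Category.assoc, Limits.pullback.condition]
        exact (Limits.pullback.snd G.hom A.ι (U.ι (Limits.pullback.fst gU gV q))).2
    rw [e]
    exact (isCompact_range k.continuous).image a.act.left.continuous


end Groth.Agent.S5397
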