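import Groth.Statements.S5399
import Groth.Agent.Lib.ExtFibre20.Main

set_option autoImplicit false
universe u
open CategoryTheory CategoryTheory.Limits MonoidalCategory CartesianMonoidalCategory MonObj GrpObj AlgebraicGeometry
open SGA3

namespace Groth.Agent.S5399

/-- Let G be a nonempty scheme of finite type over a field k, K a field extension of k, π : G ⊗_k K → G
the projection and W a dense open subset of G ⊗_k K. Then the set U of points g of G such that W
contains every maximal point of the fibre π⁻¹(g) (every point whose closure in π⁻¹(g) is an
irreducible component of π⁻¹(g)) is open and dense in G. -/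
theorem result (k : Type u) [Field k] (K : Type u) [Field K] [Algebra k K]
    (G : Scheme.{u}) (f : G ⟶ Spec (CommRingCat.of k)) [LocallyOfFiniteType f] [QuasiCompact f] [Nonempty G]
    (W : (pullback f (Spec.map (CommRingCat.ofHom (algebraMap k K)))).Opens)
    (hW : Dense (W : Set ↥(pullback f (Spec.map (CommRingCat.ofHom (algebraMap k K)))))) :
    letI π := (pullback.fst f (Spec.map (CommRingCat.ofHom (algebraMap k K)))).base
    letI U : Set G := {g : G | ∀ z : ↥(π ⁻¹' {g}), closure {z} ∈ irreducibleComponents ↥(π ⁻¹' {g}) → z.1 ∈ W}
    IsOpen U ∧ Dense U := by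
  exact ExtFibre20.isOpen_and_dense f W hW


end Groth.Agent.S5399
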