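import Groth.Statements.S5400
import Groth.Agent.S5326
import Groth.Agent.S4761
import Groth.Agent.Lib.GrpNeutral20.Cons
import Groth.Agent.Lib.Descend.Stage

set_option autoImplicit false
universe u
open CategoryTheory CategoryTheory.Limits MonoidalCategory CartesianMonoidalCategory MonObj GrpObj AlgebraicGeometry
open SGA3

namespace Groth.Agent.S5400

/-- Let S be the limit of a cofiltered system (S_i) of quasi-compact quasi-separated schemes with affine
transition morphisms, j an index and G_j an S_j-group scheme of finite presentation; put G = G_j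
×_{S_j} S. Then the neutral component subfunctor of G is representable (there is a monomorphism G⁰ →
G through which a point factors exactly when its image lies in the union of the neutral components
of the fibres) if and only if there is an index i over j such that the neutral component of G_j
×_{S_j} S_i is representable. -/
theorem result {I : Type u} [SmallCategory I] [IsCofiltered I]
    (D : I ⥤ Scheme.{u}) (c : Limits.Cone D) (hc : Limits.IsLimit c)
    [∀ (i i' : I) (f : i ⟶ i'), IsAffineHom (D.map f)] [∀ i, CompactSpace (D.obj i)] [∀ i, QuasiSeparatedSpace (D.obj i)]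
    (j : I) (Gj : Over (D.obj j)) [GrpObj Gj]
    [LocallyOfFinitePresentation Gj.hom] [QuasiCompact Gj.hom] [QuasiSeparated Gj.hom] :
    (∃ (G0 : Over c.pt) (i0 : G0 ⟶ Red.bc (c.π.app j) Gj), Mono i0 ∧
      ∀ (T : Over c.pt) (g : T ⟶ Red.bc (c.π.app j) Gj), (∃ z : T ⟶ G0, z ≫ i0 = g) ↔
        Set.range g.left.base ⊆ SGA3x.neutralSet (Red.bc (c.π.app j) Gj)) ↔
    ∃ (i : I) (f : i ⟶ j) (G0 : Over (D.obj i)) (i0 : G0 ⟶ Red.bc (D.map f) Gj), Mono i0 ∧
      ∀ (T : Over (D.obj i)) (g : T ⟶ Red.bc (D.map f) Gj), (∃ z : T ⟶ G0, z ≫ i0 = g) ↔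
        Set.range g.left.base ⊆ SGA3x.neutralSet (Red.bc (D.map f) Gj) := by
  have key : ∀ {S : Scheme.{u}} (G : Over S) [GrpObj G] [LocallyOfFinitePresentation G.hom],
      (∃ (G0 : Over S) (i0 : G0 ⟶ G), Mono i0 ∧
        ∀ (T : Over S) (g : T ⟶ G), (∃ z : T ⟶ G0, z ≫ i0 = g) ↔ Set.range g.left.base ⊆ SGA3x.neutralSet G) ↔
      IsOpen (SGA3x.neutralSet G) := by
    intro S G _ _
    constructor
    · rintro ⟨G0, i0, hm, hrep⟩
      haveI := hm
      haveI := (Groth.Agent.S5326.result S G G0 i0 hrep).1
      have hrange : Set.range i0.left = SGA3x.neutralSet G := by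
        refine Set.Subset.antisymm ((hrep _ i0).1 ⟨𝟙 _, Category.id_comp _⟩) fun x hx => ?_
        obtain ⟨z, hz⟩ := (hrep (CategoryTheory.Over.mk (G.left.fromSpecResidueField x ≫ G.hom))
          (CategoryTheory.Over.homMk (G.left.fromSpecResidueField x) rfl)).2 (by
            show Set.range (G.left.fromSpecResidueField x) ⊆ _
            rw [Scheme.range_fromSpecResidueField]; exact Set.singleton_subset_iff.2 hx)
        refine ⟨z.left (IsLocalRing.closedPoint (G.left.residueField x) : Spec (G.left.residueField x)), ?_⟩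
        rw [← GrpNeutral20.hap, hz]
        exact Scheme.fromSpecResidueField_apply x _
      rw [← hrange]
      exact i0.left.isOpenEmbedding.isOpen_range
    · intro ho
      let U : G.left.Opens := ⟨_, ho⟩
      let i0 : CategoryTheory.Over.mk (U.ι ≫ G.hom) ⟶ G := CategoryTheory.Over.homMk U.ι rfl
      haveI : Mono i0 := by
        haveI : Mono ((CategoryTheory.Over.forget S).map i0) := inferInstanceAs (Mono U.ι)
        exact (CategoryTheory.Over.forget S).mono_of_mono_map inferInstance
      refine ⟨_, i0, inferInstance, fun T g => ⟨?_, fun hr => ?_⟩⟩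
      · rintro ⟨z, rfl⟩ _ ⟨w, rfl⟩
        rw [GrpNeutral20.hap]
        exact (z.left w).2
      · refine ⟨CategoryTheory.Over.homMk (IsOpenImmersion.lift U.ι g.left (by rw [Scheme.Opens.range_ι]; exact hr)) ?_, ?_⟩
        · show IsOpenImmersion.lift U.ι g.left _ ≫ U.ι ≫ G.hom = T.hom
          rw [IsOpenImmersion.lift_fac_assoc, CategoryTheory.Over.w g]
        · apply CategoryTheory.Over.OverMorphism.ext
          exact IsOpenImmersion.lift_fac _ _ _
  haveI : ∀ {S' : Scheme.{u}} (f : S' ⟶ D.obj j), LocallyOfFinitePresentation (Red.bc f Gj).hom := fun f =>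
    inferInstanceAs (LocallyOfFinitePresentation (Limits.pullback.snd Gj.hom f))
  haveI : CompactSpace Gj.left := QuasiCompact.compactSpace_of_compactSpace Gj.hom
  let O := CategoryTheory.Over.forget j
  let D' := O ⋙ D
  let c' := c.whisker O
  have hc' : Limits.IsLimit c' := (CategoryTheory.Functor.Initial.isLimitWhiskerEquiv O c).symm hc
  let t := Descend.overT D j
  have hq : ∀ k, c'.π.app k ≫ t.app k = c.π.app j := fun k => c.w k.hom
  have hP := IsPullback.of_hasPullback Gj.hom (c.π.app j)
  let c₁ := Descend.pbCone D' t Gj.hom c' hq hP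
  let top : CategoryTheory.Over j := CategoryTheory.Over.mk (𝟙 j)
  haveI : QuasiSeparated (Red.bc (D.map top.hom) Gj).hom :=
    inferInstanceAs (QuasiSeparated (Limits.pullback.snd Gj.hom (D.map top.hom)))
  have hlim : ∀ k : CategoryTheory.Over j, SGA3x.neutralSet (Red.bc (c.π.app j) Gj) =
      c₁.π.app k ⁻¹' SGA3x.neutralSet (Red.bc (D.map k.hom) Gj) := by
    intro k
    rw [GrpNeutral20.neutralSet_bc, GrpNeutral20.neutralSet_bc]
    exact congrArg (fun φ : Limits.pullback Gj.hom (c.π.app j) ⟶ Gj.left => φ ⁻¹' SGA3x.neutralSet Gj)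
      (Descend.pbCone_fst D' t Gj.hom c' hq hP k).symm
  constructor
  · intro h
    have ho := (key _).1 h
    rw [hlim top] at ho
    obtain ⟨k, φ, hk⟩ := (Groth.Agent.S4761.result (Descend.pbDiagram D' t Gj.hom) c₁
      (Descend.pbIsLimit D' t Gj.hom c' hq hP hc') top _ (GrpNeutral20.isConstructible (Red.bc (D.map top.hom) Gj))).1 ho
    refine ⟨k.left, k.hom, (key _).2 ?_⟩
    rw [GrpNeutral20.neutralSet_bc]
    rw [GrpNeutral20.neutralSet_bc] at hk
    exact Eq.mpr (congrArg IsOpen (congrArg (fun ψ : Limits.pullback Gj.hom (D.map k.hom) ⟶ Gj.left => ψ ⁻¹' SGA3x.neutralSet Gj)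
      (Descend.pbMap_fst D' t Gj.hom φ).symm)) hk
  · rintro ⟨i, f, h⟩
    have ho := (key _).1 h
    refine (key _).2 ?_
    rw [hlim (CategoryTheory.Over.mk f)]
    exact ho.preimage (c₁.π.app (CategoryTheory.Over.mk f)).continuous


end Groth.Agent.S5400
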