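import Groth.Statements.S5401
import Groth.Agent.S4787
import Groth.Agent.Lib.GrpNeutral20.Cons
import Groth.Agent.Lib.ConsH13.IndCons

set_option autoImplicit false
universe u
open CategoryTheory CategoryTheory.Limits MonoidalCategory CartesianMonoidalCategory MonObj GrpObj AlgebraicGeometry
open SGA3

namespace Groth.Agent.S5401

/-- Let S₀ be a scheme, (S_i) a cofiltered system of quasi-compact quasi-separated S₀-schemes with
affine transition morphisms and S its limit, and G an S₀-group scheme locally of finite presentation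
over S₀. Write G⁰(T), for an S₀-scheme T, for the set of S₀-morphisms T → G whose image lies in the
union of the neutral components of the fibres of G. Then the canonical map colim G⁰(S_i) → G⁰(S) is
surjective: every element of G⁰(S) is the restriction of an element of G⁰(S_i) for some i. (The
published statement asserts that this map is bijective; its injectivity holds for S₀-morphisms to
any scheme locally of finite type over S₀ and is not stated here. The published setting takes S₀
quasi-compact and quasi-separated and the S_i affine over S₀; this row allows any cofiltered system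
of quasi-compact quasi-separated S₀-schemes with affine transition morphisms.) -/
theorem result {I : Type u} [SmallCategory I] [IsCofiltered I]
    (D : I ⥤ Scheme.{u}) (c : Limits.Cone D) (hc : Limits.IsLimit c)
    [∀ (i i' : I) (f : i ⟶ i'), IsAffineHom (D.map f)] [∀ i, CompactSpace (D.obj i)] [∀ i, QuasiSeparatedSpace (D.obj i)]
    (S₀ : Scheme.{u}) (q : ∀ i, D.obj i ⟶ S₀) (hq : ∀ (i i' : I) (f : i ⟶ i'), D.map f ≫ q i' = q i)
    (qlim : c.pt ⟶ S₀) (hqlim : ∀ i, c.π.app i ≫ q i = qlim)
    (G : Over S₀) [GrpObj G] [LocallyOfFinitePresentation G.hom] :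
    ∀ u : c.pt ⟶ G.left, u ≫ G.hom = qlim → Set.range u.base ⊆ SGA3x.neutralSet G →
      ∃ (i : I) (ui : D.obj i ⟶ G.left), ui ≫ G.hom = q i ∧ Set.range ui.base ⊆ SGA3x.neutralSet G ∧ c.π.app i ≫ ui = u := by
  intro u hu hr
  let t : D ⟶ (CategoryTheory.Functor.const I).obj S₀ :=
    { app := q, naturality := fun i i' f => by simp [hq i i' f] }
  obtain ⟨i₀, g, hg, hgq⟩ := Scheme.exists_π_app_comp_eq_of_locallyOfFinitePresentation D t G.hom c hc u (by
    ext i
    simp [t, hqlim, hu])
  let O := CategoryTheory.Over.forget i₀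
  let D' := O ⋙ D
  let c' := c.whisker O
  have hc' : Limits.IsLimit c' := (CategoryTheory.Functor.Initial.isLimitWhiskerEquiv O c).symm hc
  haveI : ∀ (i j : CategoryTheory.Over i₀) (f : i ⟶ j), IsAffineHom (D'.map f) := fun i j f =>
    inferInstanceAs (IsAffineHom (D.map f.left))
  let top : CategoryTheory.Over i₀ := CategoryTheory.Over.mk (𝟙 i₀)
  haveI : CompactSpace (D'.obj top) := inferInstanceAs (CompactSpace (D.obj i₀))
  let F : ∀ i : CategoryTheory.Over i₀, Set (D'.obj i) := fun i => (D.map i.hom ≫ g) ⁻¹' SGA3x.neutralSet G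
  obtain ⟨i, -, hi⟩ := (Groth.Agent.S4787.result D' c' hc' top (fun _ => Set.univ) F
    (fun i x => ⟨Set.univ, isOpen_univ, trivial, ∅, fun T hT => absurd hT (Set.notMem_empty T), by simp⟩)
    (fun i => ConsH13.isIndConstructible_preimage _ (GrpNeutral20.isIndConstructible G))
    (fun i j φ x _ => trivial) (fun i j φ x hx => by
      show (D.map i.hom ≫ g) x ∈ SGA3x.neutralSet G
      rw [← CategoryTheory.Over.w φ, D.map_comp, Category.assoc, Scheme.Hom.comp_apply]
      exact hx)).1 (fun x _ => Set.mem_iUnion.2 ⟨top, by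
        show (D.map (𝟙 i₀) ≫ g) (c.π.app i₀ x) ∈ SGA3x.neutralSet G
        rw [D.map_id, Category.id_comp, ← Scheme.Hom.comp_apply, hg]
        exact hr ⟨x, rfl⟩⟩)
  refine ⟨i.left, D.map i.hom ≫ g, ?_, ?_, ?_⟩
  · rw [Category.assoc, hgq]
    exact hq _ _ _
  · rintro _ ⟨x, rfl⟩
    exact hi i (𝟙 i) trivial
  · rw [← Category.assoc, c.w, hg]


end Groth.Agent.S5401
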