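import Groth.Statements.S5402
import Groth.Agent.Lib.QSect20.Translate

set_option autoImplicit false
universe u
open CategoryTheory CategoryTheory.Limits MonoidalCategory CartesianMonoidalCategory MonObj GrpObj AlgebraicGeometry
open SGA3

namespace Groth.Agent.S5402

/-- Let G be an S-group scheme locally of finite presentation over S and universally open over S on some
open containing the unit section, acting on an S-scheme X so that G ×_S X → X ×_S X, (g, x) ↦ (gx,
x), is surjective. Let U be an open subset of X, s a point of S such that the fibre X_s is locally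
of finite type over κ(s) and U ∩ X_s is dense in X_s, and A a finite set of points of X_s. Then
there are morphisms S'' → S' → S, the first finite and surjective and the second etale, with exactly
one point of S'' lying over s, and an S-morphism h : S'' → G, such that for every point z of X ×_S
S'' whose image in X lies in A, the image in X of the translate h·z lies in U. -/
theorem result (S : Scheme.{u}) (G X : Over S) [GrpObj G]
    [LocallyOfFinitePresentation G.hom]
    (hGo : ∃ W : G.left.Opens, (∀ p : ↥(𝟙_ (Over S)).left, η[G].left.base p ∈ W) ∧ UniversallyOpen (W.ι ≫ G.hom))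
    (a : AlgGrp.Action G X) (hΦ : Surjective (lift a.act (snd G X)).left)
    (U : X.left.Opens) (s : S) (hft : LocallyOfFiniteType (X.hom.fiberToSpecResidueField s))
    (hdense : X.hom.base ⁻¹' {s} ⊆ closure ((U : Set X.left) ∩ X.hom.base ⁻¹' {s}))
    (A : Set X.left) (hA : A.Finite) (hAs : A ⊆ X.hom.base ⁻¹' {s}) :
    ∃ (S' S'' : Scheme.{u}) (w : S' ⟶ S) (π : S'' ⟶ S') (h : Over.mk (π ≫ w) ⟶ G),
      Etale w ∧ IsFinite π ∧ Surjective π ∧ (∃ s₀ : S'', (π ≫ w).base ⁻¹' {s} = {s₀}) ∧
      ∀ z : ↥(X ⊗ Over.mk (π ≫ w)).left, (fst X (Over.mk (π ≫ w))).left.base z ∈ A →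
        (lift (snd X (Over.mk (π ≫ w)) ≫ h) (fst X (Over.mk (π ≫ w))) ≫ a.act).left.base z ∈ U := by
  obtain ⟨W, hW, hWopen⟩ := hGo
  haveI := hft
  obtain ⟨g, z, hgs, hgcl, hzg, hzs, hzW, hzmax, hdim, hgood⟩ :=
    Groth.Agent.QSect20.exists_translating_point G X a hΦ U s hdense A hA hAs W hW
  have hopen : EGA43.IsUnivOpenAt G.hom z :=
    Groth.Agent.EGA43Top.isUnivOpenAt_of_comp (f := W.ι) (g := G.hom) (x := (⟨z, hzW⟩ : (W : Scheme.{u})))
      (Groth.Agent.Unibr4.isUnivOpenAt_of_universallyOpen (W.ι ≫ G.hom) _)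
  obtain ⟨S', S'', -, w, π, h, hw, hπ, hπs, -, hcomp, s₀, hs₀, hh, -⟩ :=
    Groth.Agent.QSect20.exists_quasiSection G.hom hgcl hzg (hzs.trans hgs.symm) hzmax hopen hdim
  rw [hgs] at hs₀
  refine ⟨S', S'', w, π, Over.homMk h hcomp, hw, hπ, hπs, ⟨s₀, hs₀⟩, fun z' hz' => ?_⟩
  rw [Groth.Agent.QSect20.left_apply]
  have h0 : (snd X (Over.mk (π ≫ w))).left z' = s₀ := by
    have h1 : (π ≫ w) ((snd X (Over.mk (π ≫ w))).left z') = s := by
      have e1 := congrArg (fun m => m z') (Over.w (snd X (Over.mk (π ≫ w))))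
      have e2 := congrArg (fun m => m z') (Over.w (fst X (Over.mk (π ≫ w))))
      exact e1.trans (e2.symm.trans (hAs hz'))
    have h2 : (snd X (Over.mk (π ≫ w))).left z' ∈ ({s₀} : Set S'') := hs₀ ▸ h1
    exact h2
  refine hgood _ ?_ ?_
  · rw [← Groth.Agent.QSect20.left_apply, lift_fst, Groth.Agent.QSect20.left_apply, h0]
    exact hh
  · rw [← Groth.Agent.QSect20.left_apply, lift_snd]
    exact hz'

end Groth.Agent.S5402
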