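import Groth.Statements.S5403
import Groth.Agent.Lib.GrpHomog20.Apps

set_option autoImplicit false
universe u
open CategoryTheory CategoryTheory.Limits MonoidalCategory CartesianMonoidalCategory MonObj GrpObj AlgebraicGeometry
open SGA3

namespace Groth.Agent.S5403

/-- Let G be a group scheme over a field k (not assumed of finite type) acting on a quasi-separated
k-scheme X so that G ×_k X → X ×_k X, (g, x) ↦ (gx, x), is surjective, and let x be a k-rational
point of X and C the connected component of X containing x. Then the orbit morphism g ↦ g·x maps the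
irreducible component of G containing the unit point (the underlying set of the neutral component
G⁰) onto C, and for every field extension K of k the inverse image of C in X ⊗_k K is irreducible. -/
theorem result (k : Type u) [Field k] (G X : Over (Spec (CommRingCat.of k)))
    [GrpObj G] [QuasiSeparatedSpace X.left] (a : AlgGrp.Action G X) (hΦ : Surjective (lift a.act (snd G X)).left)
    (x : 𝟙_ (Over (Spec (CommRingCat.of k))) ⟶ X) (pt : ↥(𝟙_ (Over (Spec (CommRingCat.of k)))).left)
    (C0 : Set G.left) (hC0 : C0 ∈ irreducibleComponents ↥G.left) (he : η[G].left.base pt ∈ C0) :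
    (a.orbitMap x).left.base '' C0 = connectedComponent (x.left.base pt) ∧
    ∀ (K : Type u) [Field K] [Algebra k K],
      IsIrreducible ((pullback.fst X.hom (Spec.map (CommRingCat.ofHom (algebraMap k K)))).base ⁻¹' connectedComponent (x.left.base pt)) := by
  haveI : Subsingleton ↥(Spec (CommRingCat.of k)) := inferInstanceAs (Subsingleton (PrimeSpectrum k))
  obtain rfl : pt = (IsLocalRing.closedPoint k : Spec (CommRingCat.of k)) := @Subsingleton.elim ↥(Spec (CommRingCat.of k)) _ _ _
  obtain ⟨M₀, hM₀, rfl⟩ := GrpHomog20.exists_isMaxPt_of_mem_irreducibleComponents hC0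
  have hM₀e := specializes_iff_mem_closure.2 he
  obtain ⟨M, hM, hMx⟩ := FlatH4.exists_isMaxPt_specializes (x.left (IsLocalRing.closedPoint k : Spec (CommRingCat.of k)))
  have hC := GrpHomog20.connectedComponent_eq_closure hM₀ hM₀e a hΦ hM hMx
  refine ⟨Set.Subset.antisymm ?_ fun z hz => ?_, fun K _ _ => ?_⟩
  · refine (isIrreducible_singleton.closure.isPreirreducible.isPreconnected.image _
      (a.orbitMap x).left.continuous.continuousOn).subset_connectedComponent ⟨_, he, ?_⟩
    rw [← GrpHomog20.hap, AlgGrp.Action.orbitMap, comp_lift_assoc, Category.comp_id, ← Category.assoc,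
      comp_toUnit, CartesianMonoidalCategory.toUnit_unit, Category.id_comp, MonObj.one_eq_one,
      AlgGrpBasic19.act_one]
  · rw [hC] at hz
    obtain ⟨g, hg, hgz⟩ := GrpHomog20.exists_orbitMap_eq hM₀ hM₀e a hΦ x hM hMx (specializes_iff_mem_closure.2 hz)
    exact ⟨g, hg.mem_closure, hgz⟩
  · rw [hC]
    exact GrpHomog20.isIrreducible_preimage a hΦ x hM hMx K


end Groth.Agent.S5403
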