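import Groth.Statements.S5415
import Groth.Agent.Lib.AbRigid.Shear
import Groth.Agent.Lib.FpqcDesc.Basic

set_option autoImplicit false
universe u
open CategoryTheory MonoidalCategory CartesianMonoidalCategory MonObj GrpObj AlgebraicGeometry CategoryTheory.Limits
open SGA3x

namespace Groth.Agent.S5415

set_option backward.isDefEq.respectTransparency.types false

theorem isPullback_torsor {C : Type*} [Category C] [CartesianMonoidalCategory C] {G G' G'' H : C}
    [GrpObj G] [GrpObj G''] [GrpObj H] (p : G ⟶ G'') [IsMonHom p] (i : G' ⟶ G)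
    (hker : IsPullback i (toUnit G') p η[G'']) (u : G ⟶ H) [IsMonHom u] :
    IsPullback (fst G G' * (snd G G' ≫ i)) ((G ◁ (i ≫ u)) ≫ (Groth.Agent.AbRigid.shear u).hom)
      (lift p u) (p ▷ H) := by
  have hi : i ≫ p = (1 : G' ⟶ G'') := by rw [hker.w, Hom.one_def]
  have hb : (G ◁ (i ≫ u)) ≫ (Groth.Agent.AbRigid.shear u).hom =
      lift (fst G G') ((fst G G' ≫ u) * (snd G G' ≫ i ≫ u)) := by
    apply CartesianMonoidalCategory.hom_ext
    · simp [Groth.Agent.AbRigid.shear]
    · simp [Groth.Agent.AbRigid.shear, MonObj.comp_mul]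
  rw [hb]
  have h0 : snd G G' ≫ i ≫ p = 1 := by rw [hi, MonObj.comp_one]
  have hp : (fst G G' * (snd G G' ≫ i)) ≫ p = fst G G' ≫ p := by
    rw [MonObj.mul_comp, Category.assoc, h0, _root_.mul_one]
  have hw : (fst G G' * (snd G G' ≫ i)) ≫ lift p u =
      lift (fst G G') ((fst G G' ≫ u) * (snd G G' ≫ i ≫ u)) ≫ (p ▷ H) := by
    apply CartesianMonoidalCategory.hom_ext
    · simp [hp]
    · simp [MonObj.mul_comp]
  have hk : ∀ s : PullbackCone (lift p u) (p ▷ H), ((s.snd ≫ fst G H)⁻¹ * s.fst) ≫ p = 1 := fun s => by
    have h := congrArg (· ≫ fst G'' H) s.condition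
    simp only [Category.assoc, lift_fst, whiskerRight_fst] at h
    rw [MonObj.mul_comp, GrpObj.inv_comp, Category.assoc, ← h, inv_mul_cancel]
  refine IsPullback.of_isLimit' ⟨hw⟩ (PullbackCone.IsLimit.mk _
    (fun s => lift (s.snd ≫ fst G H) (hker.lift ((s.snd ≫ fst G H)⁻¹ * s.fst) (toUnit _)
      (by rw [hk s, Hom.one_def]))) ?_ ?_ ?_)
  · intro s
    rw [MonObj.comp_mul, lift_snd_assoc, IsPullback.lift_fst, lift_fst, mul_inv_cancel_left]
  · intro s
    have h := congrArg (· ≫ snd G'' H) s.condition
    simp only [Category.assoc, lift_snd, whiskerRight_snd] at h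
    apply CartesianMonoidalCategory.hom_ext
    · rw [Category.assoc, lift_fst, lift_fst]
    · rw [Category.assoc, lift_snd, MonObj.comp_mul, lift_fst_assoc, lift_snd_assoc, IsPullback.lift_fst_assoc,
        MonObj.mul_comp, GrpObj.inv_comp, mul_inv_cancel_left, h]
  · intro s m h1 h2
    have e1 : m ≫ fst G G' = s.snd ≫ fst G H := by
      have h := congrArg (· ≫ fst G H) h2
      simpa only [Category.assoc, lift_fst] using h
    apply CartesianMonoidalCategory.hom_ext
    · rw [lift_fst, e1]
    · rw [lift_snd]
      apply hker.hom_ext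
      · rw [IsPullback.lift_fst, ← h1, MonObj.comp_mul, e1, inv_mul_cancel_left, Category.assoc]
      · exact toUnit_unique _ _

/-- Let G be an S-group scheme of finite presentation over S, p : G → G'' a homomorphism which is
surjective, flat and locally of finite presentation onto an S-group scheme G'' proper and of finite
presentation over S, and i : G' → G its kernel, with G' flat and of finite presentation over S. Let
H be an S-group scheme which is of finite presentation over S, or locally of finite presentation
over a locally Noetherian S, and u : G → H a homomorphism. If the restriction u ∘ i of u to G' is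
proper, then u is proper. -/
theorem result (S : Scheme.{u}) (G G' G'' : Over S) [GrpObj G] [GrpObj G'] [GrpObj G'']
    [QuasiCompact G.hom] [QuasiSeparated G.hom] [LocallyOfFinitePresentation G.hom]
    [IsProper G''.hom] [LocallyOfFinitePresentation G''.hom]
    [Flat G'.hom] [QuasiCompact G'.hom] [QuasiSeparated G'.hom] [LocallyOfFinitePresentation G'.hom]
    (p : G ⟶ G'') [IsMonHom p] [Surjective p.left] [Flat p.left] [LocallyOfFinitePresentation p.left]
    (i : G' ⟶ G) [IsMonHom i] (hker : AlgGrp.IsKernel i p)
    (H : Over S) [GrpObj H] [LocallyOfFinitePresentation H.hom]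
    (hH : (QuasiCompact H.hom ∧ QuasiSeparated H.hom) ∨ IsLocallyNoetherian S)
    (u : G ⟶ H) [IsMonHom u] (hu : IsProper (i ≫ u).left) : IsProper u.left := by
  have hT := (isPullback_torsor p i hker u).map (Over.forget S)
  have hL : IsProper (G ◁ (i ≫ u)).left :=
    MorphismProperty.of_isPullback (P := @IsProper)
      ((Groth.Agent.AbRigid.isPullback_whiskerLeft (i ≫ u) G).map (Over.forget S)) hu
  have : IsIso (Groth.Agent.AbRigid.shear u).hom.left :=
    inferInstanceAs (IsIso ((Over.forget S).map (Groth.Agent.AbRigid.shear u).hom))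
  have hb : IsProper ((G ◁ (i ≫ u)) ≫ (Groth.Agent.AbRigid.shear u).hom).left := by
    rw [Over.comp_left]
    infer_instance
  have hq : (@Surjective ⊓ @Flat ⊓ @LocallyOfFinitePresentation : MorphismProperty Scheme.{u}) (p ▷ H).left :=
    MorphismProperty.of_isPullback ((Groth.Agent.AbRigid.isPullback_whiskerRight p H).map (Over.forget S))
      ⟨⟨(inferInstance : Surjective p.left), (inferInstance : Flat p.left)⟩, (inferInstance : LocallyOfFinitePresentation p.left)⟩
  haveI := Groth.Agent.FpqcDesc.descendsAlong_isProper.{u}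
  have hf : IsProper (lift p u).left :=
    MorphismProperty.of_isPullback_of_descendsAlong (P := @IsProper)
      (Q := (@Surjective ⊓ @Flat ⊓ @LocallyOfFinitePresentation : MorphismProperty Scheme.{u})) hT.flip hq hb
  have hsnd : IsProper (snd G'' H).left := inferInstanceAs (IsProper (pullback.snd G''.hom H.hom))
  have e : u.left = (lift p u).left ≫ (snd G'' H).left := by rw [← Over.comp_left, lift_snd]
  rw [e]
  infer_instance

end Groth.Agent.S5415
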