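import Groth.Statements.S5416
import Groth.Agent.Lib.QuotFlat20.Basic

set_option autoImplicit false
universe u
open CategoryTheory MonoidalCategory CartesianMonoidalCategory MonObj GrpObj AlgebraicGeometry CategoryTheory.Limits
open SGA3x

namespace Groth.Agent.S5416

/-- Let G be an S-group scheme locally of finite presentation over S acting on an S-scheme X, ξ a
section of X over S, and h : H → G the stabilizer of ξ (the cartesian square of the orbit map of ξ
against ξ), assumed flat over S. Suppose X is locally of finite type over S, or S locally
Noetherian. Then the homogeneous space G/H is representable: there are an S-scheme Q, locally of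
finite presentation over S, and q : G → Q representing the fppf quotient of G by H, and the orbit
map g ↦ g · ξ factors as q followed by a monomorphism Q → X. -/
theorem result (S : Scheme.{u}) (G X : Over S) [GrpObj G] [LocallyOfFinitePresentation G.hom] (a : AlgGrp.Action G X)
    (ξ : 𝟙_ (Over S) ⟶ X) (H : Over S) [GrpObj H] (h : H ⟶ G) [IsMonHom h]
    (hH : IsPullback h (toUnit H) (a.orbitMap ξ) ξ) [Flat H.hom]
    (hX : LocallyOfFiniteType X.hom ∨ IsLocallyNoetherian S) :
    ∃ (Q : Over S) (q : G ⟶ Q), RedSub.IsQuotient h q ∧ LocallyOfFinitePresentation Q.hom ∧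
      ∃ m : Q ⟶ X, Mono m ∧ q ≫ m = a.orbitMap ξ := by
  exact QuotFlat20.exists_orbitQuotient a ξ h hH ‹Flat H.hom› hX


end Groth.Agent.S5416
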