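import Groth.Statements.S5420
import Groth.Agent.Lib.TorusCentr19.Fixed
-- import your own Groth.Agent.* helpers here

set_option autoImplicit false
universe u
open CategoryTheory MonoidalCategory CartesianMonoidalCategory MonObj GrpObj AlgebraicGeometry CategoryTheory.Limits
open Red

namespace Groth.Agent.S5420

set_option linter.style.haveILetI false
set_option backward.isDefEq.respectTransparency.types false


/-- Let S be a scheme, Q an S-torus acting on an S-group scheme H by group automorphisms (on points, q ·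
(h h') = (q · h)(q · h')), with H separated and smooth over S. (i) The functor of invariants H^Q
(points of H fixed by all points of Q after any base change) is representable by a closed subscheme
F of H which is smooth over S. (ii) If moreover H is affine over S with connected fibres, then F is
affine over S with connected fibres. -/
theorem result (S : Scheme.{u}) (Q H : Over S) [GrpObj Q] [GrpObj H] (hQ : Red.IsTorus Q)
    [IsSeparated H.hom] [Smooth H.hom] (a : AlgGrp.Action Q H)
    (hmul : ∀ (X : Over S) (q : X ⟶ Q) (h h' : X ⟶ H),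
      lift q (h * h') ≫ a.act = (lift q h ≫ a.act) * (lift q h' ≫ a.act)) :
    ∃ (F : Over S) (f : F ⟶ H), IsClosedImmersion f.left ∧ Smooth F.hom ∧
      (∀ (X : Over S) (h : X ⟶ H), (∃ x : X ⟶ F, x ≫ f = h) ↔
        ∀ (X' : Over S) (g : X' ⟶ X) (q : X' ⟶ Q), lift q (g ≫ h) ≫ a.act = g ≫ h) ∧
      (IsAffineHom H.hom → (∀ s : S, _root_.IsConnected (H.hom.base ⁻¹' {s})) →
        IsAffineHom F.hom ∧ ∀ s : S, _root_.IsConnected (F.hom.base ⁻¹' {s})) := by
  classical
  have hmt : MTRigid29.IsMT Q := MTRigid29.isMT_of_ft (MTRigid29.isMultTypeFT_of_torus hQ)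
  obtain ⟨C, c, hc, -, hC⟩ := MTRigid29.exists_fixed_locus Q H hmt a
  haveI := hc
  let F : Over S := Over.mk (c ≫ H.hom)
  let f : F ⟶ H := Over.homMk c rfl
  haveI : IsClosedImmersion f.left := hc
  haveI : Mono f := Over.mono_of_mono_left f
  have hF : ∀ (X : Over S) (h : X ⟶ H), (∃ x : X ⟶ F, x ≫ f = h) ↔
      ∀ (X' : Over S) (g : X' ⟶ X) (q : X' ⟶ Q), lift q (g ≫ h) ≫ a.act = g ≫ h := fun X h => by
    rw [← hC X h]
    refine ⟨fun ⟨x, hx⟩ => ⟨x.left, congrArg CommaMorphism.left hx⟩, fun ⟨y, hy⟩ => ?_⟩
    exact ⟨Over.homMk y (by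
      show y ≫ c ≫ H.hom = X.hom
      rw [← Category.assoc, hy]; exact Over.w h), Over.OverMorphism.ext hy⟩
  refine ⟨F, f, hc, MTRigid29.smooth_fixed Q H hmt a c hC, hF, fun haff hconn => ⟨?_, fun s => ?_⟩⟩
  · haveI := haff
    exact inferInstanceAs (IsAffineHom (c ≫ H.hom))
  · haveI := haff
    exact TorusCentr19.isConnected_fibre_fixed hQ hconn a hmul f hF s

end Groth.Agent.S5420
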