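import Groth.Statements.S5421
import Groth.Agent.Lib.RankOne16.CharSurj
import Groth.Agent.Lib.Descend.PointLocal
-- import your own Groth.Agent.* helpers here

set_option autoImplicit false
universe u
open CategoryTheory MonoidalCategory CartesianMonoidalCategory MonObj GrpObj AlgebraicGeometry CategoryTheory.Limits
open Red

namespace Groth.Agent.S5421

set_option linter.style.haveILetI false
set_option backward.isDefEq.respectTransparency.types false


/-- Let T be an S-torus and α : T → G_{m,S} a character. The following are equivalent: (i) for every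
point s of S the character induced on the geometric fibre at s is not the trivial character; (ii)
for every morphism S' → S with S' non-empty the base change of α is not the trivial character; (iii)
α is faithfully flat (flat and surjective). -/
theorem result (S : Scheme.{u}) (T : Over S) [GrpObj T] (hT : Red.IsTorus T) (α : T ⟶ Red.Gm S) [IsMonHom α] :
    ((∀ s : S, (Over.pullback (Red.geomPt s)).map α ≠ 1) ↔
      (∀ (S' : Scheme.{u}) (g : S' ⟶ S), Nonempty ↥S' → (Over.pullback g).map α ≠ 1)) ∧
    ((∀ s : S, (Over.pullback (Red.geomPt s)).map α ≠ 1) ↔ (Flat α.left ∧ Surjective α.left)) := by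
  classical
  open DiagGL MTRigid29 RankOne16 in
  have h13 : (∀ s : S, (Over.pullback (Red.geomPt s)).map α ≠ 1) → Flat α.left ∧ Surjective α.left := by
    intro hα
    obtain ⟨S', f, hf, hs, hP⟩ := exists_mapP_char hT α hα
    let q := ((Over.pullback f).map α).left
    haveI : Flat q := hP.1
    haveI : Surjective q := hP.2
    haveI : Flat (pullback.fst T.hom f) := MorphismProperty.pullback_fst _ _ hf
    haveI : Surjective (pullback.fst T.hom f) := MorphismProperty.pullback_fst _ _ hs
    haveI : Flat (pullback.fst (Red.Gm S).hom f) := MorphismProperty.pullback_fst _ _ hf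
    haveI : Surjective (pullback.fst (Red.Gm S).hom f) := MorphismProperty.pullback_fst _ _ hs
    have hsq : pullback.fst T.hom f ≫ α.left = q ≫ pullback.fst (Red.Gm S).hom f :=
      (pullback.lift_fst _ _ _).symm
    haveI hfl : Flat (pullback.fst T.hom f ≫ α.left) := by rw [hsq]; infer_instance
    haveI : Surjective (pullback.fst T.hom f ≫ α.left) := by rw [hsq]; infer_instance
    refine ⟨Flat.of_stalkMap _ fun t => ?_, Surjective.of_comp (pullback.fst T.hom f) α.left⟩
    obtain ⟨w, rfl⟩ := (pullback.fst T.hom f).surjective t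
    exact Descend.flat_stalkMap_of_comp (pullback.fst T.hom f) α.left w (Flat.stalkMap _ w) (Flat.stalkMap _ w)
  open DiagGL MTRigid29 RankOne16 in
  have h32 : Surjective α.left → ∀ (S' : Scheme.{u}) (g : S' ⟶ S), Nonempty ↥S' →
      (Over.pullback g).map α ≠ 1 := by
    intro hsα S' g hne h1
    obtain ⟨s'⟩ := hne
    let K := AlgebraicClosure (S'.residueField s')
    let x : Spec (CommRingCat.of K) ⟶ S' := Red.geomPt s'
    obtain ⟨a, ha⟩ := Infinite.exists_notMem_finset ({0, 1} : Finset K)
    simp only [Finset.mem_insert, Finset.mem_singleton, not_or] at ha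
    let eK : Γ((kPt (x ≫ g)).left, ⊤) ≃+* K :=
      (Scheme.ΓSpecIso (CommRingCat.of K)).commRingCatIsoToRingEquiv
    let z : (Γ((kPt (x ≫ g)).left, ⊤))ˣ :=
      Units.map eK.symm.toRingHom.toMonoidHom (Units.mk0 a ha.1)
    let p : kPt (x ≫ g) ⟶ Red.Gm S := GmPts.ptOfUnit z
    let W := pullback p.left α.left
    let Xs : Over S' := Over.mk (pullback.fst p.left α.left ≫ x)
    let X : Over S := (Over.map g).obj Xs
    let e : X ⟶ kPt (x ≫ g) := Over.homMk (pullback.fst p.left α.left) (by simp [X, Xs])
    let t : X ⟶ T := Over.homMk (pullback.snd p.left α.left) (by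
      show pullback.snd p.left α.left ≫ T.hom = (pullback.fst p.left α.left ≫ x) ≫ g
      rw [← Over.w α, ← Category.assoc, ← pullback.condition]
      refine (Category.assoc _ p.left _).trans ((congrArg (fun w => pullback.fst p.left α.left ≫ w) (Over.w p)).trans ?_)
      exact (Category.assoc _ _ _).symm)
    have hte : t ≫ α = e ≫ p := Over.OverMorphism.ext pullback.condition.symm
    obtain ⟨x', hx'⟩ := fl_surjective g T (T := Xs) t
    have e1 : ∀ {S₁ S₂ : Scheme.{u}} (ψ : S₂ ⟶ S₁) (G : Over S₁) [GrpObj G] (A : Over S₂),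
        fl ψ G (1 : A ⟶ Red.bc ψ G) = 1 := fun ψ G _ A => by
      have := fl_mul ψ G (1 : A ⟶ Red.bc ψ G) 1
      rw [_root_.one_mul] at this
      exact left_eq_mul.1 this
    have h2 := congrArg (fl g (Red.Gm S)) (congrArg (fun w => x' ≫ w) h1)
    simp only [MonObj.comp_one] at h2
    rw [fl_comp_map, hx', e1, hte] at h2
    have h3 := congrArg GmPts.unitOfPt h2
    rw [GmPts.unitOfPt_one, GmPts.unitOfPt_comp, GmPts.unitOfPt_ptOfUnit] at h3
    haveI : Surjective (pullback.fst p.left α.left) := MorphismProperty.pullback_fst _ _ hsα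
    obtain ⟨w, -⟩ := (pullback.fst p.left α.left).surjective (IsLocalRing.closedPoint K)
    haveI : Nonempty (⊤ : X.left.Opens) := ⟨⟨w, trivial⟩⟩
    haveI : Nontrivial Γ(X.left, ⊤) := Scheme.component_nontrivial X.left ⊤
    let ρ : Γ((kPt (x ≫ g)).left, ⊤) →+* Γ(X.left, ⊤) := e.left.appTop.hom
    have hρ : Function.Injective (ρ.comp eK.symm.toRingHom) := RingHom.injective _
    refine ha.2 (hρ ?_)
    show ρ (eK.symm a) = ρ (eK.symm 1)
    rw [map_one, map_one]
    exact congrArg Units.val h3
  have h21 : (∀ (S' : Scheme.{u}) (g : S' ⟶ S), Nonempty ↥S' → (Over.pullback g).map α ≠ 1) →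
      ∀ s : S, (Over.pullback (Red.geomPt s)).map α ≠ 1 :=
    fun h s => h _ _ ⟨(IsLocalRing.closedPoint (AlgebraicClosure (S.residueField s)) :
      Spec (CommRingCat.of (AlgebraicClosure (S.residueField s))))⟩
  exact ⟨⟨fun h => h32 (h13 h).2, h21⟩, ⟨h13, fun h => h21 (h32 h.2)⟩⟩

end Groth.Agent.S5421
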