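import Groth.Statements.S5423
import Groth.Agent.Lib.UnipPt29.Basic
import Groth.Agent.Lib.CoalgH23.Coef
import Groth.Agent.Lib.CoalgH23.Filtration
import Mathlib.RingTheory.Jacobson.Ring
import Mathlib.RingTheory.Nullstellensatz
import Mathlib.LinearAlgebra.Trace
import Mathlib.LinearAlgebra.Eigenspace.Triangularizable

set_option autoImplicit false
universe u
open TensorProduct
open SGA3t2b

namespace Groth.Agent.S5423

/-- Let k be an algebraically closed field and A a reduced finitely generated commutative Hopf algebra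
over k (a smooth affine algebraic k-group G). Then G is unipotent (every non-zero finite-dimensional
representation has a non-zero fixed vector) if and only if every element of G(k) is unipotent, i.e.
every k-point g : A → k acts on every finite-dimensional comodule V by an endomorphism g_V with g_V
− 1 nilpotent. -/
theorem result (k : Type u) [Field k] [IsAlgClosed k] (A : Type u) [CommRing A] [HopfAlgebra k A] [Algebra.FiniteType k A]
    [IsReduced A] :
    HopfRep.IsUnipotent k A ↔
      ∀ (g : A →ₐ[k] k) (V : Type u) [AddCommGroup V] [Module k V] [HopfRep.Comod k A V],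
        Module.Finite k V → IsNilpotent (HopfRep.Comod.act k A V g - LinearMap.id) := by
  classical
  refine ⟨fun hU g V _ _ _ hV => ⟨_, UnipPt29.isNilpotent_act_sub_one hU g _ V le_rfl⟩, fun hpt => ?_⟩
  intro V _ _ _ _ _
  open Groth.Agent.CoalgH23 in
  have sep : ∀ c : A, (∀ h : A →ₐ[k] k, h c = 0) → c = 0 := by
    intro c hc
    by_contra hne
    haveI : IsJacobsonRing A := isJacobsonRing_of_finiteType (A := k) (B := A)
    have hj : Ideal.jacobson (⊥ : Ideal A) = ⊥ :=
      IsJacobsonRing.out (inferInstance : IsJacobsonRing A) (Ideal.isRadical_bot_iff.2 inferInstance)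
    obtain ⟨m, hm, hcm⟩ : ∃ m : Ideal A, m.IsMaximal ∧ c ∉ m := by
      by_contra hno
      push Not at hno
      have : c ∈ Ideal.jacobson (⊥ : Ideal A) := Submodule.mem_sInf.2 fun m hm => hno m hm.2
      rw [hj] at this
      exact hne this
    haveI := hm
    letI := Ideal.Quotient.field m
    haveI : Module.Finite k (A ⧸ m) := finite_of_finite_type_of_isJacobsonRing k (A ⧸ m)
    let e : (A ⧸ m) ≃ₐ[k] k := (AlgEquiv.ofBijective (Algebra.ofId k (A ⧸ m))
      ⟨(algebraMap k (A ⧸ m)).injective, IsAlgClosed.algebraMap_bijective_of_isIntegral.2⟩).symm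
    have := hc (e.toAlgHom.comp (Ideal.Quotient.mkₐ k m))
    apply hcm
    rw [← Ideal.Quotient.eq_zero_iff_mem]
    exact e.injective (this.trans (map_zero e).symm)
  open Groth.Agent.CoalgH23 in
  obtain ⟨E, -, hEs, hEf⟩ := exists_simple_le (k := k) (C := A) (V := V)
    (M := ⊤) (fun h => not_subsingleton V (Submodule.subsingleton_iff _ |>.1 (subsingleton_of_bot_eq_top h.symm)))
  let E₀ : Submodule k V := E.restrictScalars k
  haveI : Module.Finite k E₀ := hEf
  haveI : Nontrivial E₀ := IsSimpleModule.nontrivial (WithConv (A →ₗ[k] k)) E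
  open Groth.Agent.CoalgH23 in
  let ρ : WithConv (A →ₗ[k] k) → Module.End k E₀ := fun r =>
    { toFun := fun y => ⟨r • (y : V), E.smul_mem r y.2⟩
      map_add' := fun y z => Subtype.ext (smul_add r (y : V) (z : V))
      map_smul' := fun c y => Subtype.ext (by
        show r • (c • (y : V)) = c • (r • (y : V))
        rw [smul_def, smul_def, map_smul, map_smul]) }
  open Groth.Agent.CoalgH23 in
  have hscalar : ∀ φ : Module.End (WithConv (A →ₗ[k] k)) E, ∃ c : k, ∀ x : E, (φ x : V) = c • (x : V) := by
    intro φ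
    let φk : Module.End k E₀ :=
      { toFun := fun y => ⟨(φ ⟨y.1, y.2⟩ : V), (φ ⟨y.1, y.2⟩).2⟩
        map_add' := fun y z => Subtype.ext (congrArg Subtype.val (map_add φ ⟨y.1, y.2⟩ ⟨z.1, z.2⟩) :)
        map_smul' := fun c y => Subtype.ext (by
          have h := congrArg Subtype.val (map_smul φ (algebraMap k (WithConv (A →ₗ[k] k)) c) ⟨y.1, y.2⟩)
          have e : ((algebraMap k (WithConv (A →ₗ[k] k)) c) • (⟨y.1, y.2⟩ : E)) = ⟨c • (y.1 : V), E₀.smul_mem c y.2⟩ :=
            Subtype.ext (algebraMap_smul' (V := V) c y.1)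
          rw [e] at h
          exact h.trans (algebraMap_smul' (V := V) c _)) }
    obtain ⟨c, hc⟩ := Module.End.exists_eigenvalue φk
    obtain ⟨x, hx, hx0⟩ := hc.exists_hasEigenvector
    refine ⟨c, fun y => sub_eq_zero.1 ?_⟩
    let ψ : Module.End (WithConv (A →ₗ[k] k)) E :=
      { toFun := fun y => ⟨(φ y : V) - c • (y : V), sub_mem (φ y).2 (E₀.smul_mem c y.2)⟩
        map_add' := fun y z => Subtype.ext (by
          show (φ (y + z) : V) - c • ((y : V) + z) = ((φ y : V) - c • (y : V)) + ((φ z : V) - c • (z : V))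
          rw [map_add, Submodule.coe_add, smul_add]; abel)
        map_smul' := fun r y => Subtype.ext (by
          show (φ (r • y) : V) - c • (r • (y : V)) = r • ((φ y : V) - c • (y : V))
          rw [map_smul, smul_sub, Submodule.coe_smul]
          congr 1
          rw [smul_def, smul_def, map_smul, map_smul]) }
    have : ψ = 0 := by
      by_contra h
      have hz : ψ ⟨x.1, x.2⟩ = ψ 0 := by
        rw [map_zero]
        exact Subtype.ext (sub_eq_zero.2 (congrArg Subtype.val (Module.End.mem_eigenspace_iff.1 hx) :))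
      have hh := @LinearMap.bijective_of_ne_zero (WithConv (A →ₗ[k] k)) _ E _ _ E _ _ inferInstance inferInstance ψ h
      have hinj : Function.Injective ψ := hh.1
      have hx' := congrArg (fun z : E => (z : V)) (hinj hz)
      exact hx0 (Subtype.ext hx')
    exact congrArg Subtype.val (LinearMap.congr_fun this y)
  open Groth.Agent.CoalgH23 in
  have hdense : ∀ f : Module.End k E₀, ∃ r, ρ r = f := by
    intro f
    let fE : E → E := fun y => ⟨(f ⟨y.1, y.2⟩ : V), (f ⟨y.1, y.2⟩).2⟩
    let F : Module.End (Module.End (WithConv (A →ₗ[k] k)) E) E :=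
      { toFun := fE
        map_add' := fun y z => Subtype.ext (congrArg Subtype.val (map_add f ⟨y.1, y.2⟩ ⟨z.1, z.2⟩) :)
        map_smul' := fun φ y => Subtype.ext (by
          obtain ⟨c, hc⟩ := hscalar φ
          have e : (⟨(φ y).1, (φ y).2⟩ : E₀) = c • (⟨y.1, y.2⟩ : E₀) := Subtype.ext (hc y)
          show (f ⟨(φ y).1, (φ y).2⟩ : V) = (φ (fE y) : V)
          refine ((congrArg (fun z : E₀ => (f z : V)) e).trans ?_).trans (hc (fE y)).symm
          simp only [map_smul, Submodule.coe_smul]
          rfl) }
    let b := Module.Free.chooseBasis k E₀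
    haveI : Fintype (Module.Free.ChooseBasisIndex k E₀) := Fintype.ofFinite _
    obtain ⟨r, hr⟩ := jacobson_density F (Finset.univ.image fun i => (⟨(b i).1, (b i).2⟩ : E))
    refine ⟨r, b.ext fun i => ?_⟩
    have h := hr _ (Finset.mem_image_of_mem _ (Finset.mem_univ i))
    exact Subtype.ext (congrArg Subtype.val h).symm
  open Groth.Agent.CoalgH23 in
  let pt : WithConv (A →ₐ[k] k) → WithConv (A →ₗ[k] k) := fun g => WithConv.toConv g.ofConv.toLinearMap
  open Groth.Agent.CoalgH23 in
  have hnil : ∀ g, IsNilpotent (ρ (pt g) - 1) := by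
    intro g
    obtain ⟨n, hn⟩ := hpt g.ofConv V inferInstance
    refine ⟨n, LinearMap.ext fun y => Subtype.ext ?_⟩
    have key : ∀ (j : ℕ) (y : E₀), (((ρ (pt g) - 1) ^ j) y : V) =
        ((HopfRep.Comod.act k A V g.ofConv - LinearMap.id : Module.End k V) ^ j) (y : V) := by
      intro j
      induction j with
      | zero => intro y; rfl
      | succ j ih => intro y; rw [pow_succ, pow_succ, Module.End.mul_apply, Module.End.mul_apply, ih]; rfl
    rw [key, hn]
    rfl
  open Groth.Agent.CoalgH23 in
  have htr : ∀ g, LinearMap.trace k E₀ (ρ (pt g)) = Module.finrank k E₀ := by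
    intro g
    have h := (LinearMap.isNilpotent_trace_of_isNilpotent (hnil g)).eq_zero
    rw [map_sub, LinearMap.trace_one, sub_eq_zero] at h
    exact h
  open Groth.Agent.CoalgH23 in
  have hone : ∀ g, ρ (pt g) = 1 := by
    intro g
    let b := Module.Free.chooseBasis k E₀
    haveI : Fintype (Module.Free.ChooseBasisIndex k E₀) := Fintype.ofFinite _
    have hall : ∀ f : Module.End k E₀, LinearMap.trace k E₀ ((ρ (pt g) - 1) * f) = 0 := by
      intro f
      obtain ⟨r, rfl⟩ := hdense f
      choose ext hext using fun i => ((b.coord i) ∘ₗ (ρ (pt g) - 1)).exists_extend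
      let c : A := ∑ i, lslice (ext i) (HopfRep.Comod.coact (k := k) (A := A) ((b i : E₀) : V))
      have hc : ∀ r : WithConv (A →ₗ[k] k), LinearMap.trace k E₀ ((ρ (pt g) - 1) * ρ r) = r.ofConv c := by
        intro r
        rw [LinearMap.trace_eq_matrix_trace k b, Matrix.trace, map_sum]
        refine Finset.sum_congr rfl fun i _ => ?_
        rw [Matrix.diag_apply, LinearMap.toMatrix_apply, apply_lslice]
        exact (LinearMap.congr_fun (hext i) (ρ r (b i))).symm
      rw [hc, sep c fun h => ?_, map_zero]
      have h1 := hc (pt (WithConv.toConv h))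
      rw [sub_mul, one_mul, map_sub] at h1
      have e : ρ (pt g) * ρ (pt (WithConv.toConv h)) = ρ (pt (g * WithConv.toConv h)) := by
        refine LinearMap.ext fun y => ?_
        refine Subtype.ext ?_
        show pt g • pt (WithConv.toConv h) • (y : V) = pt (g * WithConv.toConv h) • (y : V)
        rw [smul_smul]
        congr 1
      rw [e, htr, htr, sub_self] at h1
      exact h1.symm
    refine sub_eq_zero.1 (LinearMap.ext fun y => ?_)
    by_contra hne
    obtain ⟨φ, hφ, -⟩ := Submodule.exists_le_ker_of_notMem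
      (show (ρ (pt g) - 1) y ∉ (⊥ : Submodule k E₀) from fun h => hne ((Submodule.mem_bot k).1 h))
    have h := hall (φ.smulRight y)
    rw [show (ρ (pt g) - 1) * φ.smulRight y = φ.smulRight ((ρ (pt g) - 1) y) from
      LinearMap.ext fun z => by simp, LinearMap.trace_smulRight] at h
    exact hφ h
  obtain ⟨e, he⟩ := exists_ne (0 : E₀)
  open Groth.Agent.CoalgH23 in
  refine (Submodule.ne_bot_iff _).2 ⟨(e : V), mem_fixedPts_iff'.2 fun χ => ?_, fun h => he (Subtype.ext h)⟩
  open Groth.Agent.CoalgH23 in
  refine sub_eq_zero.1 ((Module.forall_dual_apply_eq_zero_iff k _).1 fun φ => ?_)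
  open Groth.Agent.CoalgH23 in
  have hc0 := sep (lslice φ (HopfRep.Comod.coact (k := k) (A := A) (e : V)) - φ (e : V) • 1) fun h => by
    have h1 : ((ρ (pt (WithConv.toConv h)) e : E₀) : V) = (e : V) := by rw [hone]; rfl
    rw [map_sub, map_smul, map_one, smul_eq_mul, mul_one, sub_eq_zero]
    show h.toLinearMap _ = _
    rw [apply_lslice]
    exact congrArg φ h1
  open Groth.Agent.CoalgH23 in
  rw [sub_eq_zero] at hc0
  open Groth.Agent.CoalgH23 in
  rw [map_sub φ, map_smul φ (χ.ofConv 1), smul_eq_mul, sub_eq_zero, smul_def, ← apply_lslice, hc0, map_smul,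
    smul_eq_mul, mul_comm]

end Groth.Agent.S5423
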