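import Groth.Statements.S5425
import Groth.Agent.Lib.UnipPts20.Pts
import Groth.Agent.S2968

set_option autoImplicit false
universe u
open TensorProduct
open SGA3t2b

namespace Groth.Agent.S5425

/-- (i) ⟺ (iv) ⟺ (v): let k be a field of characteristic p > 0 with algebraic closure k̄, and A a
finitely generated commutative Hopf algebra over k with no idempotents other than 0 and 1 (a
connected affine algebraic group G). Then the following are equivalent: (i) G is unipotent
(fixed-vector form); (iv) G_{k̄} contains no closed subgroup isomorphic to μ_p; (v) the Lie algebra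
of G is a unipotent p-Lie algebra: for every ε-derivation D : A → k some p^n-fold convolution power
of D (n > 0) vanishes. -/
theorem result (k : Type u) [Field k] (p : ℕ) [Fact p.Prime] [CharP k p] (A : Type u) [CommRing A] [HopfAlgebra k A]
    [Algebra.FiniteType k A] (hconn : ∀ e : A, IsIdempotentElem e → e = 0 ∨ e = 1) :
    (HopfRep.IsUnipotent k A ↔
      ¬ ∃ φ : (AlgebraicClosure k ⊗[k] A) →ₐc[AlgebraicClosure k]
        MonoidAlgebra (AlgebraicClosure k) (Multiplicative (ZMod p)), Function.Surjective φ) ∧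
    (HopfRep.IsUnipotent k A ↔
      ∀ D : LieHopf.Lie k A, ∃ n : ℕ, 0 < n ∧
        LieHopf.convPow (D.toLinearMap.restrictScalars k ∘ₗ LinearMap.id) (p ^ n) = 0) := by
  let K := AlgebraicClosure k
  haveI : CharP K p := charP_of_injective_algebraMap (algebraMap k K).injective p
  have h7 := Groth.Agent.S7951.result k K A
  have hUD : HopfRep.IsUnipotent k A →
      ∀ D : LieHopf.Lie k A, ∃ n : ℕ, 0 < n ∧
        LieHopf.convPow (D.toLinearMap.restrictScalars k ∘ₗ LinearMap.id) (p ^ n) = 0 :=
    fun hU D => Groth.Agent.S2968.result p hU D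
  have hnoU : (¬ ∃ φ : K ⊗[k] A →ₐc[K] MonoidAlgebra K (Multiplicative (ZMod p)), Function.Surjective φ) →
      HopfRep.IsUnipotent k A := fun hno => by
    refine h7.2 (Groth.Agent.MuCrit20.isUnipotent_of_ptsUnip_lieNil p _ ?_
      (Groth.Agent.MuCrit20.lieNil_of_no_mu p hno))
    exact Groth.Agent.UnipPts20.ptsUnip_of_no_mu p (K ⊗[k] A)
      (Groth.Agent.UnipPts20.idem_baseChange (Bialgebra.counitAlgHom k A) hconn K) hno
  refine ⟨⟨fun hU => (Groth.Agent.S5426.result K (K ⊗[k] A)).1 (h7.1 hU) p Fact.out, hnoU⟩,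
    ⟨hUD, fun hD => hnoU ?_⟩⟩
  exact Groth.Agent.UnipPts20.no_mu_of_lieNil p (Groth.Agent.UnipPts20.lieNil_of_lie p hD) K

end Groth.Agent.S5425
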