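import Groth.Statements.S5426
import Groth.Agent.Lib.MuCrit20.Main
import Groth.Agent.Lib.UnipConst20.Basic

set_option autoImplicit false
universe u
open TensorProduct
open SGA3t2b

namespace Groth.Agent.S5426

/-- Let k be an algebraically closed field and A a finitely generated commutative Hopf algebra over k.
Then G = Spec A is unipotent (fixed-vector form) if and only if for every prime n there is no closed
subgroup of G isomorphic to μ_n (no surjective bialgebra map from A onto the group algebra k[ℤ/n]).
(The published statement is for an arbitrary algebraic group; this row treats affine groups only,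
and a unipotent group is affine.) -/
theorem result (k : Type u) [Field k] [IsAlgClosed k] (A : Type u) [CommRing A] [HopfAlgebra k A] [Algebra.FiniteType k A] :
    HopfRep.IsUnipotent k A ↔
      ∀ n : ℕ, n.Prime → (¬ ∃ φ : A →ₐc[k] MonoidAlgebra k (Multiplicative (ZMod n)), Function.Surjective φ) := by
  constructor
  · rintro hU n hn ⟨φ, hφ⟩
    haveI : Fact (1 < n) := ⟨hn.one_lt⟩
    let t : MonoidAlgebra k (Multiplicative (ZMod n)) :=
      MonoidAlgebra.single (Multiplicative.ofAdd (1 : ZMod n)) 1
    have hg : IsGroupLikeElem k t := MonoidAlgebra.isGroupLikeElem_single_one (R := k) _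
    have h1 := Groth.Agent.UnipConst20.eq_one_of_isGroupLikeElem k
      (Groth.Agent.UnipExt20.isUnipotent_of_surjective φ hφ hU) hg
    rw [MonoidAlgebra.one_def] at h1
    simpa using (MonoidAlgebra.single_left_inj (one_ne_zero (α := k))).1 h1
  · intro h
    by_contra hU
    obtain ⟨r, hr, φ, hφ⟩ := Groth.Agent.MuCrit20.exists_mu_of_not_isUnipotent A hU
    exact h r hr ⟨φ, hφ⟩


end Groth.Agent.S5426
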