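import Groth.Statements.S5427
import Mathlib.RingTheory.SimpleModule.Basic
import Mathlib.RingTheory.Int.Basic
import Mathlib.Data.ZMod.QuotientRing
-- import your own Groth.Agent.* helpers here

set_option autoImplicit false
universe u
open CategoryTheory MonoidalCategory CartesianMonoidalCategory MonObj GrpObj AlgebraicGeometry CategoryTheory.Limits
open Red

namespace Groth.Agent.S5427

/-- Let S be a scheme and G = D_S(M) a diagonalizable S-group of finite type, M a non-trivial finitely
generated commutative group. Then there are a prime number r and a closed subgroup of G isomorphic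
to (μ_r)_S: a homomorphism of S-groups D_S(ℤ/r) → D_S(M) which is a closed immersion. -/
theorem result (S : Scheme.{u}) (M : Type) [AddCommGroup M] [AddGroup.FG M] [Nontrivial M] :
    ∃ (r : ℕ) (_ : r.Prime) (j : Red.DS S (ZMod r) ⟶ Red.DS S M), IsMonHom j ∧ IsClosedImmersion j.left := by
  haveI : Module.Finite ℤ M := Module.Finite.iff_addGroup_fg.mpr ‹_›
  obtain ⟨N, hN, -⟩ := (eq_top_or_exists_le_coatom (⊥ : Submodule ℤ M)).resolve_left bot_ne_top
  haveI : IsSimpleModule ℤ (M ⧸ N) := isSimpleModule_iff_isCoatom.mpr hN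
  obtain ⟨I, hI, ⟨eI⟩⟩ := isSimpleModule_iff_quot_maximal.mp (inferInstance : IsSimpleModule ℤ (M ⧸ N))
  obtain ⟨z, rfl⟩ := (IsPrincipalIdealRing.principal I).principal
  have hz0 : z ≠ 0 := fun h => Ring.ne_bot_of_isMaximal_of_not_isField hI Int.not_isField (by simp [h])
  have hr : z.natAbs.Prime := Int.prime_iff_natAbs_prime.mp
    ((Ideal.span_singleton_prime hz0).mp hI.isPrime)
  let q : M →+ ZMod z.natAbs := (Int.quotientSpanEquivZMod z).toAddEquiv.toAddMonoidHom.comp
    (eI.toLinearMap.comp N.mkQ).toAddMonoidHom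
  have hq : Function.Surjective q :=
    (Int.quotientSpanEquivZMod z).surjective.comp (eI.surjective.comp N.mkQ_surjective)
  let φ : MonoidAlgebra (ULift.{u} ℤ) (Multiplicative M) →ₐc[ULift.{u} ℤ]
      MonoidAlgebra (ULift.{u} ℤ) (Multiplicative (ZMod z.natAbs)) :=
    MonoidAlgebra.mapDomainBialgHom (ULift.{u} ℤ) q.toMultiplicative
  let g := (bialgSpec (CommRingCat.of (ULift.{u} ℤ))).map (Quiver.Hom.op (CommBialgCat.ofHom φ))
  let f : Red.diag (ULift.{u} ℤ) (ZMod z.natAbs) ⟶ Red.diag (ULift.{u} ℤ) M := g.hom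
  haveI : IsMonHom f := g.isMonHom_hom
  haveI : IsClosedImmersion f.left := by
    refine IsClosedImmersion.spec_of_surjective (CommRingCat.ofHom φ.toAlgHom.toRingHom) ?_
    intro y
    induction y using MonoidAlgebra.induction_linear with
    | zero => exact ⟨0, map_zero _⟩
    | add a b ha hb =>
      obtain ⟨a, rfl⟩ := ha
      obtain ⟨b, rfl⟩ := hb
      exact ⟨a + b, map_add _ a b⟩
    | single m c =>
      obtain ⟨n, hn⟩ := hq m.toAdd
      exact ⟨MonoidAlgebra.single (Multiplicative.ofAdd n) c, by simp [φ, hn]⟩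
  exact ⟨z.natAbs, hr, (Over.pullback (Limits.IsTerminal.from specULiftZIsTerminal S)).map f, inferInstance,
    MorphismProperty.overPullbackMap (P := @IsClosedImmersion) _ f inferInstance⟩

end Groth.Agent.S5427
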