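import Groth.Statements.S5429
import Groth.Agent.Lib.SectConj28.Main

set_option autoImplicit false
set_option linter.style.haveILetI false
universe u
open TensorProduct
open SGA3

namespace Groth.Agent.S5429

/-- Hopf form: let k be an algebraically closed field, A a finitely generated commutative Hopf algebra
(an algebraic group E), ψ : B → A an injective bialgebra map from a diagonalizable finitely
generated Hopf algebra B (the quotient H of multiplicative type), J the Hopf ideal generated by the
image of the augmentation ideal of B (the kernel U), with U = Spec (A/J) unipotent in the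
fixed-vector sense. Suppose H is smooth (B reduced) or U is smooth (A/J reduced). If r′, r″ : A → B
are two bialgebra retractions of ψ (two liftings H′, H″ of H in E), then there is a k-point u of E
lying in U (an algebra map u : A → k killing J) such that r″ = u · r′ · u⁻¹ as points of E with
values in B (triple convolution of u, r′ and u composed with the antipode). -/
theorem result (k : Type u) [Field k] [IsAlgClosed k] (A B : Type u) [CommRing A] [HopfAlgebra k A] [Algebra.FiniteType k A] [CommRing B] [HopfAlgebra k B]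
    [Algebra.FiniteType k B] (hB : SGA3b.IsDiag k B) (ψ : B →ₐc[k] A) (hψ : Function.Injective ψ)
    (J : Ideal A) [J.IsHopfIdeal k] (hJ : J = Ideal.map (ψ : B →+* A) (RingHom.ker (Bialgebra.counitAlgHom k B)))
    (hU : HopfRep.IsUnipotent k (A ⧸ J))
    (hsm : IsReduced B ∨ IsReduced (A ⧸ J)) (r' r'' : A →ₐc[k] B)
    (hr' : r'.comp ψ = BialgHom.id k B) (hr'' : r''.comp ψ = BialgHom.id k B) :
    ∃ u : A →ₐ[k] k, (∀ a ∈ J, u a = 0) ∧
      (r'' : A →ₐ[k] B) = Dyn.conv3 k A ((Algebra.ofId k B).comp u) (r' : A →ₐ[k] B)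
        (((Algebra.ofId k B).comp u).comp (HopfAlgebra.antipodeAlgHom k A)) := by
  obtain ⟨M, _, ⟨e⟩⟩ := hB
  let ψ' : MonoidAlgebra k M →ₐc[k] A := ψ.comp (e.symm : MonoidAlgebra k M →ₐc[k] B)
  have hψ' : Function.Injective ψ' := hψ.comp e.symm.injective
  have hmap : J = Ideal.map (ψ' : MonoidAlgebra k M →+* A)
      (RingHom.ker (Bialgebra.counitAlgHom k (MonoidAlgebra k M))) := by
    rw [hJ]
    refine le_antisymm (Ideal.map_le_iff_le_comap.2 fun b hb => ?_) (Ideal.map_le_iff_le_comap.2 fun x hx => ?_)
    · have he : e b ∈ RingHom.ker (Bialgebra.counitAlgHom k (MonoidAlgebra k M)) :=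
        (CoalgHomClass.counit_comp_apply e b).trans hb
      have h := Ideal.mem_map_of_mem (ψ' : MonoidAlgebra k M →+* A) he
      rw [show (ψ' : MonoidAlgebra k M →+* A) (e b) = ψ b from congrArg ψ (e.symm_apply_apply b)] at h
      exact h
    · exact Ideal.mem_map_of_mem (ψ : B →+* A) (show e.symm x ∈ RingHom.ker (Bialgebra.counitAlgHom k B) from
        (CoalgHomClass.counit_comp_apply e.symm x).trans hx)
  let t' : A →ₐc[k] MonoidAlgebra k M := (e : B →ₐc[k] MonoidAlgebra k M).comp r'
  let t'' : A →ₐc[k] MonoidAlgebra k M := (e : B →ₐc[k] MonoidAlgebra k M).comp r''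
  have hret : ∀ r : A →ₐc[k] B, r.comp ψ = BialgHom.id k B →
      ((e : B →ₐc[k] MonoidAlgebra k M).comp r).comp ψ' = BialgHom.id k (MonoidAlgebra k M) := by
    intro r hr
    refine BialgHom.ext fun x => ?_
    show e (r (ψ (e.symm x))) = x
    rw [show r (ψ (e.symm x)) = e.symm x from DFunLike.congr_fun hr _]
    exact e.apply_symm_apply x
  have hbot : RingHom.ker ((BialgHom.id k A : A →ₐc[k] A) : A →ₐ[k] A) = ⊥ :=
    eq_bot_iff.2 fun a ha => ha
  have hinv : IsReduced (MonoidAlgebra k M) ∨
      (RingHom.ker ((BialgHom.id k A : A →ₐc[k] A) : A →ₐ[k] A) ⊔ J).IsRadical := by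
    refine hsm.imp (fun h => ?_) fun h => ?_
    · haveI := h
      exact isReduced_of_injective e.symm e.symm.injective
    · rw [hbot, bot_sup_eq]
      exact (Ideal.isRadical_iff_quotient_reduced J).2 h
  obtain ⟨u, hu, hconj⟩ := Groth.Agent.SectConj28.isConj_of_le ψ' hψ' J hmap hU _
    (Groth.Agent.HopfFF23.isHopfIdeal_ker (BialgHom.id k A)) hinv t' t'' (hret r' hr') (hret r'' hr'')
    (fun a ha => by rw [show a = 0 from ha, map_zero]) (fun a ha => by rw [show a = 0 from ha, map_zero])
  refine ⟨u.ofConv, fun a ha => ?_, ?_⟩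
  · rw [hmap] at ha
    refine (Ideal.map_le_iff_le_comap.2 (fun c hc => ?_) : _ ≤ RingHom.ker u.ofConv) ha
    show u.ofConv (ψ' c) = 0
    refine (AlgHom.congr_fun (congrArg WithConv.ofConv hu) c).trans ?_
    show algebraMap k k (CoalgebraStruct.counit (R := k) c) = 0
    rw [show CoalgebraStruct.counit (R := k) c = 0 from hc, map_zero]
  · apply WithConv.toConv_injective
    have h := congrArg (Groth.Agent.SectConj28.post ((e.symm : MonoidAlgebra k M →ₐc[k] B) : MonoidAlgebra k M →ₐ[k] B)) hconj
    rw [map_mul, map_mul, Groth.Agent.SectConj28.post_inv] at h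
    rw [Groth.Agent.SectConj28.conv3_eq]
    have hu' : Groth.Agent.SectConj28.post ((e.symm : MonoidAlgebra k M →ₐc[k] B) : MonoidAlgebra k M →ₐ[k] B)
        (Groth.Agent.SectConj28.up (MonoidAlgebra k M) u) = WithConv.toConv ((Algebra.ofId k B).comp u.ofConv) :=
      Groth.Agent.SectConj28.comp_up _ u
    have hback : ∀ r : A →ₐc[k] B, Groth.Agent.SectConj28.post
        ((e.symm : MonoidAlgebra k M →ₐc[k] B) : MonoidAlgebra k M →ₐ[k] B)
        (WithConv.toConv (((e : B →ₐc[k] MonoidAlgebra k M).comp r : A →ₐc[k] MonoidAlgebra k M) : A →ₐ[k] MonoidAlgebra k M)) =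
          WithConv.toConv (r : A →ₐ[k] B) := by
      intro r
      apply WithConv.ofConv_injective
      exact AlgHom.ext fun a => e.symm_apply_apply (r a)
    rw [hback, hback, hu'] at h
    exact h

end Groth.Agent.S5429
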