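import Groth.Statements.S5432
import Groth.Agent.Lib.UnipConst20.Basic
import Groth.Agent.Lib.MultType.Split
import Mathlib.FieldTheory.IsAlgClosed.AlgebraicClosure

set_option autoImplicit false
universe u
open TensorProduct
open SGA3t2b

namespace Groth.Agent.S5432

/-- Let k be a field, C a finitely generated commutative Hopf algebra which is formally smooth with no
idempotents other than 0 and 1 and unipotent in the fixed-vector sense (a smooth connected unipotent
algebraic group U), and B a commutative Hopf algebra of multiplicative type (isomorphic to a group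
algebra after a faithfully flat extension of k; the group H, not assumed of finite type). Then every
morphism of k-schemes U → H is constant: every k-algebra map f : B → C satisfies f(b) = ε_C(f(b)) ·
1. -/
theorem result (k : Type u) [Field k] (C B : Type u) [CommRing C] [HopfAlgebra k C] [Algebra.FiniteType k C]
    [Algebra.FormallySmooth k C] (hconn : ∀ e : C, IsIdempotentElem e → e = 0 ∨ e = 1)
    (hU : HopfRep.IsUnipotent k C) [CommRing B] [HopfAlgebra k B]
    (hB : SGA3b.IsMultTypeConst k B) (f : B →ₐ[k] C) :
    ∀ b : B, f b = algebraMap k C (Bialgebra.counitAlgHom k C (f b)) := by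
  obtain ⟨R', _, _, hff, hd⟩ := hB
  haveI : Nontrivial R' := (FaithfulSMul.algebraMap_injective k R').nontrivial
  obtain ⟨P, hP⟩ := Ideal.exists_maximal R'
  letI := Ideal.Quotient.field P
  let K := AlgebraicClosure (R' ⧸ P)
  obtain ⟨M, _, ⟨e⟩⟩ := MultTypeLib.isDiag_baseChange R' K hd
  let F : K ⊗[k] B →ₐ[K] K ⊗[k] C := Algebra.TensorProduct.map (AlgHom.id K K) f
  have key : ∀ x : MonoidAlgebra K M, F (e.symm x) =
      algebraMap K _ (Bialgebra.counitAlgHom K (K ⊗[k] C) (F (e.symm x))) := by
    intro x
    induction x using MonoidAlgebra.induction_on with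
    | of m =>
      have hm : IsUnit (MonoidAlgebra.of K M m) := (Group.isUnit m).map _
      exact UnipConst20.unit_eq_const C K hconn hU ((hm.map e.symm).map F)
    | add x y hx hy => simp only [map_add]; rw [← hx, ← hy]
    | smul r x hx =>
      rw [map_smul, map_smul, map_smul, smul_eq_mul, map_mul, ← hx, Algebra.smul_def]
  intro b
  apply Module.FaithfullyFlat.tensorProduct_mk_injective (A := k) (B := K) C
  obtain ⟨x, hx⟩ := (EquivLike.surjective e.symm) ((1 : K) ⊗ₜ[k] b)
  have h := key x
  rw [hx] at h
  have hF : F ((1 : K) ⊗ₜ[k] b) = (1 : K) ⊗ₜ[k] f b := rfl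
  rw [hF] at h
  simpa [Algebra.TensorProduct.algebraMap_apply, Algebra.algebraMap_eq_smul_one,
    TensorProduct.tmul_smul, TensorProduct.smul_tmul', Algebra.TensorProduct.one_def] using h


end Groth.Agent.S5432
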