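import Groth.Statements.S5436
import Groth.Agent.Lib.GenExt20.Basic
import Mathlib.AlgebraicGeometry.Sites.Fpqc

set_option autoImplicit false
universe u
open CategoryTheory MonoidalCategory CartesianMonoidalCategory MonObj GrpObj AlgebraicGeometry CategoryTheory.Limits
open SGA3x

namespace Groth.Agent.S5436

set_option linter.style.haveILetI false
set_option backward.isDefEq.respectTransparency false
set_option backward.isDefEq.respectTransparency.types false
set_option maxHeartbeats 1000000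

/-- Let G be an S-group scheme, flat and locally of finite presentation over S, U an open subscheme of G
schematically dense in G relative to S, H an S-group scheme and f̄ : U → H an S-morphism. Let V be
an open of G ×_S G contained in (U ×_S U) ∩ m⁻¹(U) and schematically dense in G ×_S G relative to S,
such that for every S-scheme X and all X-points a, b of U with (a, b) in V, the product ab (a point
of U) satisfies f̄(ab) = f̄(a) f̄(b). Then there is a unique homomorphism of S-groups f : G → H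
whose restriction to U is f̄. (The published statement also covers certain sheaves of groups H for
the fppf topology that are not schemes; this row takes H a group scheme.) -/
theorem result (S : Scheme.{u}) (G H : Over S) [GrpObj G] [GrpObj H] [Flat G.hom] [LocallyOfFinitePresentation G.hom]
    (U : G.left.Opens) (hU : (∀ (S' : Scheme.{u}) (g : S' ⟶ S), CInt.IsSchematicallyDense ((pullback.fst G.hom g) ⁻¹ᵁ U)))
    (jU : Over.mk (U.ι ≫ G.hom) ⟶ G) (hjU : jU.left = U.ι) (fbar : Over.mk (U.ι ≫ G.hom) ⟶ H)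
    (V : (G ⊗ G).left.Opens) (hV : (∀ (S' : Scheme.{u}) (g : S' ⟶ S), CInt.IsSchematicallyDense ((pullback.fst (G ⊗ G).hom g) ⁻¹ᵁ V)))
    (hV1 : V ≤ (fst G G).left ⁻¹ᵁ U) (hV2 : V ≤ (snd G G).left ⁻¹ᵁ U) (hVm : V ≤ μ[G].left ⁻¹ᵁ U)
    (hmul : ∀ (X : Over S) (a b : X ⟶ Over.mk (U.ι ≫ G.hom)),
      Set.range (lift (a ≫ jU) (b ≫ jU)).left.base ⊆ (V : Set ↥(G ⊗ G).left) →
      ∃ c : X ⟶ Over.mk (U.ι ≫ G.hom), c ≫ jU = (a ≫ jU) * (b ≫ jU) ∧ c ≫ fbar = (a ≫ fbar) * (b ≫ fbar)) :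
    ∃! f : G ⟶ H, IsMonHom f ∧ jU ≫ f = fbar := by
  haveI : IsOpenImmersion jU.left := by rw [hjU]; exact inferInstanceAs (IsOpenImmersion U.ι)
  haveI : Mono jU := ⟨fun x y h => by
    ext1
    exact (cancel_mono jU.left).1 (by rw [← Over.comp_left, h, Over.comp_left])⟩
  have hr : Set.range jU.left.base = (U : Set G.left) := by rw [hjU]; exact U.range_ι
  -- multiplicativity wherever the product lies in `U`
  have key : ∀ (X : Over S) (a b c : X ⟶ (Over.mk (U.ι ≫ G.hom))), (a ≫ jU) * (b ≫ jU) = c ≫ jU →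
      c ≫ fbar = (a ≫ fbar) * (b ≫ fbar) := by
    let W0 : (G ⊗ G).left.Opens := (fst G G).left ⁻¹ᵁ U ⊓ ((snd G G).left ⁻¹ᵁ U ⊓ μ[G].left ⁻¹ᵁ U)
    let P : Over S := Over.mk (W0.ι ≫ (G ⊗ G).hom)
    let j : P ⟶ G ⊗ G := Over.homMk W0.ι rfl
    haveI : IsOpenImmersion j.left := inferInstanceAs (IsOpenImmersion W0.ι)
    have hfac : ∀ (X : Over S) (m : X ⟶ G), Set.range m.left.base ⊆ (U : Set G.left) →
        ∃ r : X ⟶ (Over.mk (U.ι ≫ G.hom)), r ≫ jU = m := by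
      intro X m hm
      rw [← hr] at hm
      refine ⟨Over.homMk (IsOpenImmersion.lift jU.left m.left hm) ?_, ?_⟩
      · rw [← Over.w jU, ← Category.assoc, IsOpenImmersion.lift_fac, Over.w]
      · ext1
        exact IsOpenImmersion.lift_fac _ _ _
    obtain ⟨A, hA⟩ := hfac P (j ≫ fst G G) (by rintro _ ⟨y, rfl⟩; exact y.2.1)
    obtain ⟨B, hB⟩ := hfac P (j ≫ snd G G) (by rintro _ ⟨y, rfl⟩; exact y.2.2.1)
    obtain ⟨C, hC⟩ := hfac P (j ≫ μ[G]) (by rintro _ ⟨y, rfl⟩; exact y.2.2.2)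
    have hCmul : C ≫ jU = (A ≫ jU) * (B ≫ jU) := by
      rw [hA, hB, hC, ← MonObj.comp_mul, Hom.mul_def, lift_fst_snd, Category.id_comp]
    have huniv : C ≫ fbar = (A ≫ fbar) * (B ≫ fbar) := by
      refine Groth.Agent.SchDense29.eq_of_group P H (W0.ι ⁻¹ᵁ V) ?_ _ _ ?_
      · intro S' g
        have h1 := Groth.Agent.GenExt20.dense_preimage
          (pullback.map (W0.ι ≫ (G ⊗ G).hom) g (G ⊗ G).hom g W0.ι (𝟙 S') (𝟙 S)
            (Category.comp_id _) (by simp)) (hV S' g)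
        rw [← Scheme.Hom.comp_preimage, pullback.lift_fst, Scheme.Hom.comp_preimage] at h1
        exact h1
      · let X : Over S := Over.mk ((W0.ι ⁻¹ᵁ V).ι ≫ P.hom)
        let v : X ⟶ P := Over.homMk (W0.ι ⁻¹ᵁ V).ι rfl
        obtain ⟨c, hc1, hc2⟩ := hmul X (v ≫ A) (v ≫ B) (by
          have e : lift ((v ≫ A) ≫ jU) ((v ≫ B) ≫ jU) = v ≫ j := by
            apply CartesianMonoidalCategory.hom_ext <;> simp [hA, hB]
          rw [e]
          rintro _ ⟨y, rfl⟩
          exact y.2)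
        have hc : c = v ≫ C := by
          rw [← cancel_mono jU, hc1, Category.assoc, Category.assoc, Category.assoc, ← MonObj.comp_mul, ← hCmul]
        have h2 : v ≫ C ≫ fbar = v ≫ ((A ≫ fbar) * (B ≫ fbar)) := by
          rw [← Category.assoc, ← hc, hc2, MonObj.comp_mul, Category.assoc, Category.assoc]
        exact congrArg CommaMorphism.left h2
    intro X a b c habc
    let l := lift (a ≫ jU) (b ≫ jU)
    have hsub : Set.range l.left.base ⊆ Set.range j.left.base := by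
      have hj : Set.range j.left.base = (W0 : Set ↥(G ⊗ G).left) := W0.range_ι
      rw [hj]
      rintro _ ⟨y, rfl⟩
      refine ⟨?_, ?_, ?_⟩
      · show (fst G G).left.base (l.left.base y) ∈ U
        rw [← Scheme.Hom.comp_apply, ← Over.comp_left, lift_fst]
        exact (Set.ext_iff.1 hr _).1 ⟨a.left.base y, rfl⟩
      · show (snd G G).left.base (l.left.base y) ∈ U
        rw [← Scheme.Hom.comp_apply, ← Over.comp_left, lift_snd]
        exact (Set.ext_iff.1 hr _).1 ⟨b.left.base y, rfl⟩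
      · show μ[G].left.base (l.left.base y) ∈ U
        rw [← Scheme.Hom.comp_apply, ← Over.comp_left, ← Hom.mul_def, habc]
        exact (Set.ext_iff.1 hr _).1 ⟨c.left.base y, rfl⟩
    let t : X ⟶ P := Over.homMk (IsOpenImmersion.lift j.left l.left hsub) (by
      rw [← Over.w j]
      exact (Category.assoc _ _ _).symm.trans ((congrArg (· ≫ (G ⊗ G).hom) (IsOpenImmersion.lift_fac j.left l.left hsub)).trans (Over.w l)))
    have ht : t ≫ j = l := Over.OverMorphism.ext (IsOpenImmersion.lift_fac j.left l.left hsub)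
    have eA : t ≫ A = a := by rw [← cancel_mono jU, Category.assoc, hA, ← Category.assoc, ht, lift_fst]
    have eB : t ≫ B = b := by rw [← cancel_mono jU, Category.assoc, hB, ← Category.assoc, ht, lift_snd]
    have eC : t ≫ C = c := by
      rw [← cancel_mono jU, Category.assoc, hC, ← Category.assoc, ht, ← Hom.mul_def, habc]
    rw [← eA, ← eB, ← eC, Category.assoc, huniv, MonObj.comp_mul, Category.assoc, Category.assoc]
  -- covers cancel
  have cancel : ∀ {T' T Y : Over S} (q : T' ⟶ T) (_ : Flat q.left) (_ : LocallyOfFinitePresentation q.left)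
      (_ : Surjective q.left) (x y : T ⟶ Y), q ≫ x = q ≫ y → x = y := by
    intro T' T Y q h1 h2 h3 x y hxy
    ext1
    exact (cancel_epi q.left).1 (by rw [← Over.comp_left, hxy, Over.comp_left])
  -- equal products have equal images
  have wd : ∀ (T : Over S) (a b c d : T ⟶ (Over.mk (U.ι ≫ G.hom))), (a ≫ jU) * (b ≫ jU) = (c ≫ jU) * (d ≫ jU) →
      (a ≫ fbar) * (b ≫ fbar) = (c ≫ fbar) * (d ≫ fbar) := by
    intro T a b c d h
    obtain ⟨T', q, e, hq1, hq2, hq3, ⟨r1, e1⟩, ⟨r2, e2⟩, ⟨r3, e3⟩, ⟨r4, e4⟩, -⟩ :=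
      Groth.Agent.GenExt20.exists_generic U hU jU hr (1 : T ⟶ G) (b ≫ jU) (d ≫ jU) ((a ≫ jU) * (b ≫ jU)) (1 : T ⟶ G)
    rw [MonObj.comp_one, _root_.one_mul] at e1
    rw [MonObj.comp_mul] at e4
    have k1 := key T' (q ≫ b) r1 r2 (by rw [e1, e2, Category.assoc])
    have k2 := key T' (q ≫ a) r2 r4 (by rw [e2, e4, Category.assoc, _root_.mul_assoc])
    have k3 := key T' (q ≫ d) r1 r3 (by rw [e1, e3, Category.assoc])
    have k4 := key T' (q ≫ c) r3 r4 (by
      rw [e3, e4, Category.assoc, ← MonObj.comp_mul, h, MonObj.comp_mul, _root_.mul_assoc])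
    refine cancel q hq1 hq2 hq3 _ _ (mul_right_cancel (b := r1 ≫ fbar) ?_)
    rw [MonObj.comp_mul, MonObj.comp_mul, _root_.mul_assoc, _root_.mul_assoc, ← Category.assoc q a,
      ← Category.assoc q b, ← Category.assoc q c, ← Category.assoc q d, ← k1, ← k3, ← k2, ← k4]
  -- every point is locally a product of two points of `U`
  have split : ∀ (T : Over S) (x : T ⟶ G), ∃ (T' : Over S) (q : T' ⟶ T) (a b : T' ⟶ (Over.mk (U.ι ≫ G.hom))), Flat q.left ∧
      LocallyOfFinitePresentation q.left ∧ Surjective q.left ∧ (a ≫ jU) * (b ≫ jU) = q ≫ x := by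
    intro T x
    obtain ⟨T', q, e, h1, h2, h3, ⟨r1, e1⟩, -, -, -, ⟨r5, e5⟩⟩ :=
      Groth.Agent.GenExt20.exists_generic U hU jU hr (1 : T ⟶ G) (1 : T ⟶ G) (1 : T ⟶ G) (1 : T ⟶ G) x
    rw [MonObj.comp_one, _root_.one_mul] at e1
    exact ⟨T', q, r1, r5, h1, h2, h3, by rw [e1, e5, mul_inv_cancel_left]⟩
  let π : (Over.mk (U.ι ≫ G.hom)) ⊗ (Over.mk (U.ι ≫ G.hom)) ⟶ G := (fst (Over.mk (U.ι ≫ G.hom)) (Over.mk (U.ι ≫ G.hom)) ≫ jU) * (snd (Over.mk (U.ι ≫ G.hom)) (Over.mk (U.ι ≫ G.hom)) ≫ jU)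
  have hπ : π = lift (fst (Over.mk (U.ι ≫ G.hom)) (Over.mk (U.ι ≫ G.hom)) ≫ jU) (snd (Over.mk (U.ι ≫ G.hom)) (Over.mk (U.ι ≫ G.hom)) ≫ jU) ≫ μ[G] := Hom.mul_def _ _
  have hμ : μ[G] = (Groth.Agent.AbRigid.shear (𝟙 G)).hom ≫ snd G G := by
    rw [← Groth.Agent.AbRigid.shear_hom_snd]; simp
  haveI : IsIso (Groth.Agent.AbRigid.shear (𝟙 G)).hom.left :=
    inferInstanceAs (IsIso ((Over.forget S).map (Groth.Agent.AbRigid.shear (𝟙 G)).hom))
  haveI hsF : Flat (snd G G).left := inferInstanceAs (Flat (pullback.snd G.hom G.hom))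
  haveI hsP : LocallyOfFinitePresentation (snd G G).left :=
    inferInstanceAs (LocallyOfFinitePresentation (pullback.snd G.hom G.hom))
  haveI hjj : IsOpenImmersion (lift (fst (Over.mk (U.ι ≫ G.hom)) (Over.mk (U.ι ≫ G.hom)) ≫ jU) (snd (Over.mk (U.ι ≫ G.hom)) (Over.mk (U.ι ≫ G.hom)) ≫ jU)).left := by
    have e : (lift (fst (Over.mk (U.ι ≫ G.hom)) (Over.mk (U.ι ≫ G.hom)) ≫ jU) (snd (Over.mk (U.ι ≫ G.hom)) (Over.mk (U.ι ≫ G.hom)) ≫ jU)).left = pullback.map (Over.mk (U.ι ≫ G.hom)).hom (Over.mk (U.ι ≫ G.hom)).hom G.hom G.hom jU.left jU.left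
        (𝟙 S) (by rw [Category.comp_id, Over.w jU]) (by rw [Category.comp_id, Over.w jU]) := by
      apply pullback.hom_ext
      · rw [pullback.lift_fst]
        exact congrArg CommaMorphism.left (lift_fst (fst (Over.mk (U.ι ≫ G.hom)) (Over.mk (U.ι ≫ G.hom)) ≫ jU) (snd (Over.mk (U.ι ≫ G.hom)) (Over.mk (U.ι ≫ G.hom)) ≫ jU))
      · rw [pullback.lift_snd]
        exact congrArg CommaMorphism.left (lift_snd (fst (Over.mk (U.ι ≫ G.hom)) (Over.mk (U.ι ≫ G.hom)) ≫ jU) (snd (Over.mk (U.ι ≫ G.hom)) (Over.mk (U.ι ≫ G.hom)) ≫ jU))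
    rw [e]
    infer_instance
  haveI : Flat π.left := by rw [hπ, hμ, Over.comp_left, Over.comp_left]; infer_instance
  haveI : LocallyOfFinitePresentation π.left := by rw [hπ, hμ, Over.comp_left, Over.comp_left]; infer_instance
  haveI : Surjective π.left := by
    refine ⟨fun g => ?_⟩
    let T : Over S := Over.mk (G.left.fromSpecResidueField g ≫ G.hom)
    let x : T ⟶ G := Over.homMk (G.left.fromSpecResidueField g) rfl
    obtain ⟨T', q, a, b, h1, h2, h3, hab⟩ := split T x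
    obtain ⟨y, -⟩ := q.left.surjective (IsLocalRing.closedPoint (G.left.residueField g))
    refine ⟨(lift a b).left.base y, ?_⟩
    rw [← Scheme.Hom.comp_apply, ← Over.comp_left]
    have e : lift a b ≫ π = q ≫ x := by simp [π, MonObj.comp_mul, hab]
    rw [e, Over.comp_left, Scheme.Hom.comp_apply]
    exact Scheme.fromSpecResidueField_apply g _
  let φ : (Over.mk (U.ι ≫ G.hom)) ⊗ (Over.mk (U.ι ≫ G.hom)) ⟶ H := (fst (Over.mk (U.ι ≫ G.hom)) (Over.mk (U.ι ≫ G.hom)) ≫ fbar) * (snd (Over.mk (U.ι ≫ G.hom)) (Over.mk (U.ι ≫ G.hom)) ≫ fbar)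
  have hdesc : ∀ {Z : Scheme.{u}} (g₁ g₂ : Z ⟶ ((Over.mk (U.ι ≫ G.hom)) ⊗ (Over.mk (U.ι ≫ G.hom))).left), g₁ ≫ π.left = g₂ ≫ π.left →
      g₁ ≫ φ.left = g₂ ≫ φ.left := by
    intro Z g₁ g₂ hg
    let T : Over S := Over.mk (g₁ ≫ ((Over.mk (U.ι ≫ G.hom)) ⊗ (Over.mk (U.ι ≫ G.hom))).hom)
    let s₁ : T ⟶ (Over.mk (U.ι ≫ G.hom)) ⊗ (Over.mk (U.ι ≫ G.hom)) := Over.homMk g₁ rfl
    let s₂ : T ⟶ (Over.mk (U.ι ≫ G.hom)) ⊗ (Over.mk (U.ι ≫ G.hom)) := Over.homMk g₂ (by
      show g₂ ≫ ((Over.mk (U.ι ≫ G.hom)) ⊗ (Over.mk (U.ι ≫ G.hom))).hom = g₁ ≫ ((Over.mk (U.ι ≫ G.hom)) ⊗ (Over.mk (U.ι ≫ G.hom))).hom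
      rw [← Over.w π, reassoc_of% hg])
    have h : s₁ ≫ π = s₂ ≫ π := by ext1; exact hg
    simp only [π, MonObj.comp_mul, ← Category.assoc] at h
    have h' := wd T _ _ _ _ h
    simp only [Category.assoc, ← MonObj.comp_mul] at h'
    exact congrArg CommaMorphism.left h'
  let f : G ⟶ H := Over.homMk (EffectiveEpi.desc π.left φ.left hdesc) (by
    rw [← cancel_epi π.left, EffectiveEpi.fac_assoc, Over.w φ, Over.w π])
  have hf : ∀ (T : Over S) (a b : T ⟶ (Over.mk (U.ι ≫ G.hom))), ((a ≫ jU) * (b ≫ jU)) ≫ f = (a ≫ fbar) * (b ≫ fbar) := by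
    intro T a b
    have e : π ≫ f = φ := by ext1; exact EffectiveEpi.fac π.left φ.left hdesc
    have e1 : (a ≫ jU) * (b ≫ jU) = lift a b ≫ π := by simp [π, MonObj.comp_mul]
    rw [e1, Category.assoc, e]
    simp [φ, MonObj.comp_mul]
  have hext : jU ≫ f = fbar := by
    obtain ⟨T', q, a, b, h1, h2, h3, hab⟩ := split (Over.mk (U.ι ≫ G.hom)) jU
    refine cancel q h1 h2 h3 _ _ ?_
    rw [← Category.assoc, ← hab, hf, key T' a b q hab]
  -- translation by points of `U`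
  have hR : ∀ (T : Over S) (g : T ⟶ G) (x : T ⟶ (Over.mk (U.ι ≫ G.hom))), (g * (x ≫ jU)) ≫ f = (g ≫ f) * (x ≫ fbar) := by
    intro T g x
    obtain ⟨T₁, q, a, b, h1, h2, h3, hab⟩ := split T g
    obtain ⟨T₂, q', e, h1', h2', h3', ⟨r1, e1⟩, ⟨r2, e2⟩, ⟨r3, e3⟩, -, ⟨r5, e5⟩⟩ :=
      Groth.Agent.GenExt20.exists_generic U hU jU hr (1 : T₁ ⟶ G) (b ≫ jU) ((a ≫ jU) * (b ≫ jU)) (1 : T₁ ⟶ G)
        (q ≫ x ≫ jU)
    rw [MonObj.comp_one, _root_.one_mul] at e1
    rw [MonObj.comp_mul] at e3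
    refine cancel q h1 h2 h3 _ _ (cancel q' h1' h2' h3' _ _ ?_)
    have eg : q' ≫ q ≫ g = ((q' ≫ a) ≫ jU) * ((q' ≫ b) ≫ jU) := by
      rw [← hab, MonObj.comp_mul, Category.assoc, Category.assoc]
    have k1 := key T₂ (q' ≫ b) r1 r2 (by rw [e1, e2, Category.assoc])
    have k2 := key T₂ (q' ≫ a) r2 r3 (by rw [e2, e3, Category.assoc, _root_.mul_assoc])
    have k3 := key T₂ r1 r5 ((q' ≫ q) ≫ x) (by rw [e1, e5, mul_inv_cancel_left, Category.assoc, Category.assoc])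
    have lhs : q' ≫ q ≫ (g * (x ≫ jU)) ≫ f = (r3 ≫ fbar) * (r5 ≫ fbar) := by
      rw [← hf, ← Category.assoc q, ← Category.assoc q', MonObj.comp_mul, MonObj.comp_mul, e3, e5, eg,
        Category.assoc, Category.assoc]
      congr 1
      rw [_root_.mul_assoc (_ * _) e, mul_inv_cancel_left]
    have rhs : q' ≫ q ≫ ((g ≫ f) * (x ≫ fbar)) =
        (((q' ≫ a) ≫ fbar) * ((q' ≫ b) ≫ fbar)) * ((r1 ≫ fbar) * (r5 ≫ fbar)) := by
      rw [← hf, ← k3, ← eg, MonObj.comp_mul, MonObj.comp_mul]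
      simp only [Category.assoc]
    rw [lhs, rhs, k2, k1]
    simp only [_root_.mul_assoc]
  have hmulf : ∀ (T : Over S) (g h : T ⟶ G), (g * h) ≫ f = (g ≫ f) * (h ≫ f) := by
    intro T g h
    obtain ⟨T', q, a, b, h1, h2, h3, hab⟩ := split T h
    refine cancel q h1 h2 h3 _ _ ?_
    rw [MonObj.comp_mul, ← Category.assoc, ← Category.assoc, ← Category.assoc, MonObj.comp_mul, ← hab, hf,
      ← _root_.mul_assoc, hR, hR, _root_.mul_assoc]
  have hone : η[G] ≫ f = η[H] := by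
    have h := hmulf (𝟙_ (Over S)) 1 1
    rw [_root_.one_mul, right_eq_mul] at h
    rw [one_eq_one, one_eq_one]
    exact h
  refine ⟨f, ⟨{ one_hom := hone, mul_hom := ?_ }, hext⟩, ?_⟩
  · have h := hmulf (G ⊗ G) (fst G G) (snd G G)
    simpa [Hom.mul_def, ← tensorHom_def, lift_fst_snd] using h
  · rintro f' ⟨hf', he'⟩
    haveI := hf'
    obtain ⟨T', q, a, b, h1, h2, h3, hab⟩ := split G (𝟙 G)
    rw [Category.comp_id] at hab
    refine cancel q h1 h2 h3 _ _ ?_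
    rw [← hab, hf, MonObj.mul_comp, Category.assoc, Category.assoc, he']

end Groth.Agent.S5436
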