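import Groth.Statements.S5439
import Groth.Agent.Lib.RetrDesc20.BaseChange

set_option autoImplicit false
universe u
open TensorProduct
open SGA3

namespace Groth.Agent.S5439

/-- Let k be a field, A a finitely generated commutative Hopf algebra (an algebraic group E), ψ : B → A
an injective bialgebra map from a finitely generated Hopf algebra B of multiplicative type (the
quotient H), J the Hopf ideal generated by the image of the augmentation ideal of B (the kernel U =
Spec (A/J)), with U unipotent in the fixed-vector sense and étale over k (A/J an étale k-algebra).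
If H is connected (B has no idempotents other than 0 and 1), then there is exactly one lifting of H
in E, i.e. exactly one bialgebra map r : A → B with r ∘ ψ = id. (The published statement also
identifies this lifting as the identity component of E; this row omits that.) -/
theorem result (k : Type u) [Field k] (A B : Type u) [CommRing A] [HopfAlgebra k A] [Algebra.FiniteType k A] [CommRing B] [HopfAlgebra k B]
    [Algebra.FiniteType k B] (hB : SGA3b.IsMultTypeConst k B) (ψ : B →ₐc[k] A) (hψ : Function.Injective ψ)
    (J : Ideal A) [J.IsHopfIdeal k] (hJ : J = Ideal.map (ψ : B →+* A) (RingHom.ker (Bialgebra.counitAlgHom k B)))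
    (hU : HopfRep.IsUnipotent k (A ⧸ J)) [Algebra.Etale k (A ⧸ J)]
    (hH : ∀ e : B, IsIdempotentElem e → e = 0 ∨ e = 1) :
    ∃! r : A →ₐc[k] B, r.comp ψ = BialgHom.id k B := by
  let K := AlgebraicClosure k
  obtain ⟨R, hR⟩ := Groth.Agent.RetrDesc20.exists_retraction_algClosed ψ K hB hψ J hJ hU
  obtain ⟨r, hr⟩ := Groth.Agent.RetrDesc20.exists_retraction_of_etale ψ K J hJ hH R hR
  refine ⟨r, hr, fun r' hr' => ?_⟩
  let ι : B →ₐ[k] K ⊗[k] B := Algebra.TensorProduct.includeRight
  have hinj : Function.Injective ι :=
    Algebra.TensorProduct.includeRight_injective (algebraMap k K).injective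
  have hconn := Groth.Agent.UnipPts20.idem_baseChange (Bialgebra.counitAlgHom k B) hH K
  let εK : K ⊗[k] B →ₐ[k] K := (Bialgebra.counitAlgHom K (K ⊗[k] B)).restrictScalars k
  have hidem : ∀ e : K ⊗[k] B, IsIdempotentElem e → εK e = 0 → e = 0 := fun e he h0 =>
    (hconn e he).resolve_right fun h1 => one_ne_zero (α := K) (by rw [← h0, h1, map_one])
  have hε : ∀ (t : A →ₐc[k] B) (a : A),
      εK (ι (t a)) = algebraMap k K (Bialgebra.counitAlgHom k A a) := fun t a => by
    show Bialgebra.counitAlgHom K (K ⊗[k] B) ((1 : K) ⊗ₜ[k] t a) = _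
    rw [Groth.Agent.RetrDesc20.counit_tmul_field, one_mul]
    exact congrArg _ (CoalgHomClass.counit_comp_apply t a)
  have key : ι.comp (r' : A →ₐ[k] B) = ι.comp (r : A →ₐ[k] B) := by
    refine Groth.Agent.RetrDesc20.eq_of_etale (K := K) ψ J hJ εK hidem _ _ (fun b => ?_) (AlgHom.ext fun a => ?_)
    · exact congrArg ι ((DFunLike.congr_fun hr' b).trans (DFunLike.congr_fun hr b).symm)
    · exact (hε r' a).trans (hε r a).symm
  exact BialgHom.ext fun a => hinj (DFunLike.congr_fun key a)

end Groth.Agent.S5439
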