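import Groth.Statements.S5441
import Groth.Agent.Lib.PerfProd19.Basic
import Groth.Agent.Lib.HopfFF23.Range
import Groth.Agent.Lib.Unip23.Primitive
import Mathlib.RingTheory.Unramified.Field
import Mathlib.RingTheory.Unramified.Finite

set_option autoImplicit false
set_option linter.style.haveILetI false
universe u
open TensorProduct
open SGA3

namespace Groth.Agent.S5441

open WithConv

/-- Two points of the group with the same image in the quotient by a local kernel agree. -/
theorem point_eq_of_comp_eq {k : Type u} [Field k] {A C : Type u} [CommRing A] [HopfAlgebra k A] [Algebra.FiniteType k A]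
    [CommRing C] [HopfAlgebra k C] (ψ : C →ₐc[k] A) (J : Ideal A) [J.IsHopfIdeal k]
    (hJ : J = Ideal.map (ψ : C →+* A) (RingHom.ker (Bialgebra.counitAlgHom k C))) [IsLocalRing (A ⧸ J)]
    {K : Type u} [Field K] [Algebra k K] (f g : A →ₐ[k] K) (h : ∀ c, f (ψ c) = g (ψ c)) : f = g := by
  let fS : A →ₐ[k] K := f.comp (HopfAlgebra.antipodeAlgHom k A)
  let d : WithConv (A →ₐ[k] K) := toConv fS * toConv g
  have hff : toConv f * toConv fS = 1 := by
    have := congrArg (fun z : WithConv (A →ₐ[k] A) => toConv (f.comp z.ofConv))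
      (Groth.Agent.Unip23.conv_mul_antipode (k := k) (A := A))
    simp only [AlgHom.comp_convMul_distrib, Groth.Agent.HopfFF23.comp_convOne] at this
    exact this
  have hdψ : d.ofConv.comp (ψ : C →ₐ[k] A) = (1 : WithConv (C →ₐ[k] K)).ofConv := by
    have hfg : g.comp (ψ : C →ₐ[k] A) = f.comp (ψ : C →ₐ[k] A) := AlgHom.ext fun c => (h c).symm
    have e0 : (HopfAlgebra.antipodeAlgHom k A).comp (ψ : C →ₐ[k] A) =
        (ψ : C →ₐ[k] A).comp (HopfAlgebra.antipodeAlgHom k C) :=
      AlgHom.ext fun c => (Groth.Agent.HopfFF23.map_antipode ψ c).symm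
    have e1 := congrArg (fun z : WithConv (C →ₐ[k] C) => toConv ((f.comp (ψ : C →ₐ[k] A)).comp z.ofConv))
      (Groth.Agent.HopfFF23.conv_antipode_mul (R := k) (C := C))
    simp only [AlgHom.comp_convMul_distrib, Groth.Agent.HopfFF23.comp_convOne] at e1
    show (toConv fS * toConv g).ofConv.comp _ = _
    rw [AlgHom.convMul_comp_bialgHom_distrib, ofConv_toConv, ofConv_toConv, hfg, AlgHom.comp_assoc, e0,
      ← AlgHom.comp_assoc]
    exact congrArg WithConv.ofConv e1
  have hJd : J ≤ RingHom.ker d.ofConv := by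
    rw [hJ]
    refine Ideal.map_le_iff_le_comap.2 fun c hc => ?_
    show d.ofConv (ψ c) = 0
    refine (AlgHom.congr_fun hdψ c).trans ?_
    show algebraMap k K (CoalgebraStruct.counit c) = 0
    rw [show CoalgebraStruct.counit (R := k) c = 0 from hc, map_zero]
  let m : Ideal (A ⧸ J) := RingHom.ker (Bialgebra.counitAlgHom k (A ⧸ J))
  have hm : m.IsMaximal := RingHom.ker_isMaximal_of_surjective _ fun x => ⟨algebraMap k _ x, by simp⟩
  haveI : IsJacobsonRing (A ⧸ J) := isJacobsonRing_of_finiteType (A := k)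
  let D : (A ⧸ J) →ₐ[k] K := Ideal.Quotient.liftₐ J d.ofConv fun a ha => hJd ha
  have hD : RingHom.ker D = m := by
    haveI : (RingHom.ker D).IsPrime := RingHom.ker_isPrime _
    have h2 : ∀ M : Ideal (A ⧸ J), M.IsMaximal → M = m := fun M hM =>
      (IsLocalRing.eq_maximalIdeal hM).trans (IsLocalRing.eq_maximalIdeal hm).symm
    refine le_antisymm ((IsLocalRing.le_maximalIdeal (RingHom.ker_ne_top _)).trans
      (IsLocalRing.eq_maximalIdeal hm).ge) ?_
    rw [← isJacobsonRing_iff.1 inferInstance _ (inferInstance : (RingHom.ker D).IsPrime).isRadical]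
    exact le_sInf fun M hM => (h2 M hM.2).ge
  have hd1 : d = 1 := by
    refine ofConv_injective (AlgHom.ext fun a => ?_)
    show d.ofConv a = algebraMap k K (CoalgebraStruct.counit a)
    have hmem : Ideal.Quotient.mk J a - algebraMap k (A ⧸ J) (CoalgebraStruct.counit (R := k) a) ∈ RingHom.ker D := by
      rw [hD]
      show Bialgebra.counitAlgHom k (A ⧸ J) _ = 0
      rw [map_sub, AlgHom.commutes]
      exact sub_self _
    have hmem' : D (Ideal.Quotient.mk J a) - D (algebraMap k (A ⧸ J) (CoalgebraStruct.counit (R := k) a)) = 0 :=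
      (map_sub D _ _).symm.trans hmem
    rw [AlgHom.commutes, sub_eq_zero] at hmem'
    exact hmem'
  have h3 : toConv g = toConv f := by
    calc toConv g = (toConv f * toConv fS) * toConv g := by rw [hff, one_mul]
      _ = toConv f * d := mul_assoc (G := WithConv (A →ₐ[k] K)) _ _ _
      _ = toConv f := by rw [hd1, mul_one]
  exact (congrArg WithConv.ofConv h3).symm

/-- The quotient maps onto the reduction of the group. -/
theorem exists_sub_isNilpotent {k : Type u} [Field k] [PerfectField k] {A C : Type u} [CommRing A] [HopfAlgebra k A]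
    [Algebra.FiniteType k A] [CommRing C] [HopfAlgebra k C] [Algebra.Etale k C] (ψ : C →ₐc[k] A)
    (hψ : Function.Injective ψ) (J : Ideal A) [J.IsHopfIdeal k]
    (hJ : J = Ideal.map (ψ : C →+* A) (RingHom.ker (Bialgebra.counitAlgHom k C))) [IsLocalRing (A ⧸ J)] (a : A) :
    ∃ c, IsNilpotent (a - ψ c) := by
  let R := A ⧸ nilradical A
  let q : A →ₐ[k] R := Ideal.Quotient.mkₐ k _
  haveI : IsReduced R := (Ideal.isRadical_iff_quotient_reduced _).1 (by
    intro x hx
    obtain ⟨n, m, hm⟩ := hx
    exact ⟨n * m, by rw [pow_mul]; exact hm⟩)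
  haveI : IsReduced C := Algebra.FormallyUnramified.isReduced_of_field k C
  haveI : Module.Finite k C := Algebra.FormallyUnramified.finite_of_free k C
  haveI : IsArtinianRing C := IsArtinianRing.of_finite k C
  haveI : IsSemisimpleRing C := IsArtinianRing.isSemisimpleRing_of_isReduced C
  let φ : C →ₐ[k] R := q.comp (ψ : C →ₐ[k] A)
  letI : Algebra C R := φ.toRingHom.toAlgebra
  haveI : IsScalarTower k C R := .of_algebraMap_eq fun x => (φ.commutes x).symm
  obtain ⟨t, ht, ht1⟩ := (Algebra.FormallyUnramified.iff_exists_tensorProduct (R := k) (S := C)).1 inferInstance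
  haveI : IsReduced (R ⊗[k] R) := Groth.Agent.PerfProd19.isReduced_tensor R R
  let T := Algebra.TensorProduct.map φ φ t
  have hx : ((q a) ⊗ₜ[k] (1 : R) - (1 : R) ⊗ₜ[k] q a) * T = 0 := by
    refine IsNilpotent.eq_zero (nilpotent_iff_mem_prime.2 fun P hP => ?_)
    by_cases hT : T ∈ P
    · exact Ideal.mul_mem_left _ _ hT
    refine Ideal.mul_mem_right _ _ ?_
    haveI := hP
    let π : R ⊗[k] R →ₐ[k] P.ResidueField := IsScalarTower.toAlgHom k (R ⊗[k] R) P.ResidueField
    have hker : ∀ z, π z = 0 → z ∈ P := fun z hz => Ideal.algebraMap_residueField_eq_zero.1 hz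
    let f := π.comp ((Algebra.TensorProduct.includeLeft : R →ₐ[k] R ⊗[k] R).comp q)
    let g := π.comp ((Algebra.TensorProduct.includeRight : R →ₐ[k] R ⊗[k] R).comp q)
    have hfg : f = g := point_eq_of_comp_eq ψ J hJ f g fun c => by
      have h1 := congrArg (fun z => π (Algebra.TensorProduct.map φ φ z)) (ht c)
      simp only [map_mul, map_zero, mul_eq_zero] at h1
      rcases h1 with h1 | h1
      · rw [map_sub, map_sub, sub_eq_zero, Algebra.TensorProduct.map_tmul, Algebra.TensorProduct.map_tmul,
          map_one] at h1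
        exact h1.symm
      · exact absurd (hker _ h1) hT
    refine hker _ ?_
    rw [map_sub]
    exact sub_eq_zero.2 (AlgHom.congr_fun hfg a)
  let Θ : R ⊗[k] R →ₐ[k] R ⊗[C] R :=
    Algebra.TensorProduct.lift ((Algebra.TensorProduct.includeLeft : R →ₐ[C] R ⊗[C] R).restrictScalars k)
      ((Algebra.TensorProduct.includeRight : R →ₐ[C] R ⊗[C] R).restrictScalars k) (fun _ _ => Commute.all _ _)
  have hΘT : Θ T = 1 := by
    have key : ∀ w : C ⊗[k] C, Θ (Algebra.TensorProduct.map φ φ w) =
        algebraMap C (R ⊗[C] R) (Algebra.TensorProduct.lmul' k w) := by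
      intro w
      induction w with
      | zero => simp
      | add u v hu hv => simp only [map_add, hu, hv]
      | tmul u v =>
        rw [Algebra.TensorProduct.map_tmul, Algebra.TensorProduct.lift_tmul, Algebra.TensorProduct.lmul'_apply_tmul,
          map_mul]
        show (φ u ⊗ₜ[C] (1 : R)) * ((1 : R) ⊗ₜ[C] φ v) = (φ u ⊗ₜ[C] (1 : R)) * (φ v ⊗ₜ[C] (1 : R))
        congr 1
        rw [show φ v = v • (1 : R) from (mul_one (φ v)).symm.trans (Algebra.smul_def v (1 : R)).symm,
          TensorProduct.smul_tmul]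
    rw [key, ht1, map_one]
  have heq : q a ⊗ₜ[C] (1 : R) = (1 : R) ⊗ₜ[C] q a := by
    have h1 := congrArg Θ hx
    rw [map_mul, hΘT, mul_one, map_zero, map_sub, Algebra.TensorProduct.lift_tmul, Algebra.TensorProduct.lift_tmul,
      sub_eq_zero] at h1
    simpa using h1
  have hinj : Function.Injective (Algebra.linearMap C R) := fun x y hxy => by
    refine sub_eq_zero.1 ((show IsNilpotent (x - y) from ?_).eq_zero)
    have h1 : IsNilpotent (ψ (x - y)) := mem_nilradical.1 (Ideal.Quotient.eq_zero_iff_mem.1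
      ((map_sub φ x y).trans (sub_eq_zero.2 hxy)))
    obtain ⟨n, hn⟩ := h1
    exact ⟨n, hψ (by rw [map_pow, hn, map_zero])⟩
  obtain ⟨L, hL⟩ : ∃ L : R →ₗ[C] C, L ∘ₗ Algebra.linearMap C R = LinearMap.id := by
    haveI : IsSemisimpleModule C R := inferInstance
    exact IsSemisimpleModule.extension_property (Algebra.linearMap C R) hinj LinearMap.id
  have hL1 : L 1 = 1 := by simpa using LinearMap.congr_fun hL 1
  have h2 := congrArg (fun z => TensorProduct.lid C R (L.rTensor R z)) heq
  simp only [LinearMap.rTensor_tmul, TensorProduct.lid_tmul, hL1, one_smul] at h2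
  refine ⟨L (q a), mem_nilradical.1 (Ideal.Quotient.eq.1 ?_)⟩
  rw [Algebra.smul_def, mul_one] at h2
  exact h2.symm


/-- Let k be a perfect field, A a finitely generated commutative Hopf algebra (an algebraic group H), ψ
: C → A an injective bialgebra map with C an étale k-algebra (the étale quotient H″), J the Hopf
ideal of A generated by the image of the augmentation ideal of C (the kernel H′ = Spec (A/J)), with
A/J a local ring (H′ radiciel). Then H″ lifts uniquely into H and the lifting is the reduced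
subgroup: there is exactly one bialgebra map r : A → C with r ∘ ψ = id, and every such r has kernel
the nilradical of A. -/
theorem result (k : Type u) [Field k] [PerfectField k] (A C : Type u) [CommRing A] [HopfAlgebra k A] [Algebra.FiniteType k A]
    [CommRing C] [HopfAlgebra k C] [Algebra.Etale k C] (ψ : C →ₐc[k] A) (hψ : Function.Injective ψ)
    (J : Ideal A) [J.IsHopfIdeal k] (hJ : J = Ideal.map (ψ : C →+* A) (RingHom.ker (Bialgebra.counitAlgHom k C)))
    [IsLocalRing (A ⧸ J)] :
    (∃! r : A →ₐc[k] C, r.comp ψ = BialgHom.id k C) ∧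
    ∀ r : A →ₐc[k] C, r.comp ψ = BialgHom.id k C → RingHom.ker (r : A →+* C) = nilradical A := by
  haveI : IsReduced C := Algebra.FormallyUnramified.isReduced_of_field k C
  haveI : IsReduced (C ⊗[k] C) := Groth.Agent.PerfProd19.isReduced_tensor C C
  have key := exists_sub_isNilpotent ψ hψ J hJ
  choose σ hσ using key
  have huniq : ∀ c c' : C, ∀ a, IsNilpotent (a - ψ c) → IsNilpotent (a - ψ c') → c = c' := fun c c' a h h' => by
    have h1 := (Commute.all _ _).isNilpotent_sub h' h
    rw [sub_sub_sub_cancel_left, ← map_sub] at h1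
    obtain ⟨n, hn⟩ := h1
    exact sub_eq_zero.1 ((show IsNilpotent (c - c') from ⟨n, hψ (by rw [map_pow, hn, map_zero])⟩).eq_zero)
  have kill : ∀ {S : Type u} [CommRing S] [IsReduced S] [Algebra k S] (F G : A →ₐ[k] S),
      (∀ c, F (ψ c) = G (ψ c)) → F = G := fun {S} _ _ _ F G h => AlgHom.ext fun a => by
    have h1 := ((hσ a).map F).eq_zero
    have h2 := ((hσ a).map G).eq_zero
    rw [map_sub, sub_eq_zero] at h1 h2
    rw [h1, h2, h]
  let r : A →ₐ[k] C :=
    { toFun := σ
      map_one' := huniq _ _ 1 (hσ 1) (by simp)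
      map_mul' := fun x y => huniq _ _ (x * y) (hσ _) (by
        rw [map_mul, show x * y - ψ (σ x) * ψ (σ y) = x * (y - ψ (σ y)) + ψ (σ y) * (x - ψ (σ x)) by ring]
        exact (Commute.all _ _).isNilpotent_add ((Commute.all _ _).isNilpotent_mul_left (hσ y))
          ((Commute.all _ _).isNilpotent_mul_left (hσ x)))
      map_zero' := huniq _ _ 0 (hσ 0) (by simp)
      map_add' := fun x y => huniq _ _ (x + y) (hσ _) (by
        rw [map_add, add_sub_add_comm]
        exact (Commute.all _ _).isNilpotent_add (hσ x) (hσ y))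
      commutes' := fun x => huniq _ _ _ (hσ _) (by
        rw [show ψ (algebraMap k C x) = algebraMap k A x from AlgHomClass.commutes ψ x, sub_self]
        exact IsNilpotent.zero) }
  have hrψ : ∀ c, r (ψ c) = c := fun c => huniq _ _ (ψ c) (hσ _) (by rw [sub_self]; exact IsNilpotent.zero)
  let rb : A →ₐc[k] C := BialgHom.ofAlgHom r (kill _ _ fun c => by
      show CoalgebraStruct.counit (R := k) (r (ψ c)) = CoalgebraStruct.counit (R := k) (ψ c)
      rw [hrψ]
      exact (CoalgHomClass.counit_comp_apply ψ c).symm) (kill _ _ fun c => by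
      show Algebra.TensorProduct.map r r (CoalgebraStruct.comul (R := k) (ψ c)) = CoalgebraStruct.comul (R := k) (r (ψ c))
      rw [hrψ, ← CoalgHomClass.map_comp_comul_apply]
      induction CoalgebraStruct.comul (R := k) c with
      | zero => simp
      | add p q hp hq => simp only [map_add, hp, hq]
      | tmul p q =>
        show r (ψ p) ⊗ₜ[k] r (ψ q) = p ⊗ₜ[k] q
        rw [hrψ, hrψ])
  refine ⟨⟨rb, BialgHom.ext fun c => hrψ c, fun r' hr' => ?_⟩, fun r' hr' => ?_⟩
  · refine BialgHom.ext fun a => ?_
    exact AlgHom.congr_fun (kill (r' : A →ₐ[k] C) r fun c => (DFunLike.congr_fun hr' c).trans (hrψ c).symm) a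
  · refine le_antisymm (fun a ha => ?_) (fun a ha => ((mem_nilradical.1 ha).map (r' : A →+* C)).eq_zero)
    have ha' : r' a = 0 := ha
    have h1 := ((hσ a).map (r' : A →ₐ[k] C)).eq_zero
    rw [map_sub, sub_eq_zero] at h1
    have h2 : σ a = 0 := (DFunLike.congr_fun hr' (σ a)).symm.trans (h1.symm.trans ha')
    have h3 := hσ a
    rw [h2, map_zero, sub_zero] at h3
    exact mem_nilradical.2 h3

end Groth.Agent.S5441
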