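import Groth.Statements.S5442
import Groth.Agent.Lib.MTRigid29.FixedSmooth
import Groth.Agent.Lib.MTRigid29.CentralizerNormalizer
-- import your own Groth.Agent.* helpers here

set_option autoImplicit false
set_option backward.isDefEq.respectTransparency.types false
universe u
open CategoryTheory MonoidalCategory CartesianMonoidalCategory MonObj GrpObj AlgebraicGeometry CategoryTheory.Limits
open SGA3x

namespace Groth.Agent.S5442

/-- Let S be a scheme, G an S-group scheme separated and smooth over S, and H an S-group of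
multiplicative type and of finite type acting on G by group automorphisms (on points, h · (g g′) =
(h · g)(h · g′)). Then the functor Z = G^H of invariants (points of G fixed by all points of H after
any base change) is representable by a closed subgroup scheme of G which is smooth over S: there are
an S-group Z and a homomorphism Z → G which is a closed immersion, with Z smooth over S, whose
points are exactly the invariant points. (The published statement allows any S-group of
multiplicative type; this row assumes it moreover of finite type.) -/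
theorem result (S : Scheme.{u}) (H G : Over S) [GrpObj H] [GrpObj G] (hH : SGA3x.IsMultTypeFT H)
    [IsSeparated G.hom] [Smooth G.hom] (a : AlgGrp.Action H G)
    (hmul : ∀ (X : Over S) (h : X ⟶ H) (g g' : X ⟶ G),
      lift h (g * g') ≫ a.act = (lift h g ≫ a.act) * (lift h g' ≫ a.act)) :
    ∃ (Z : Over S) (_ : GrpObj Z) (z : Z ⟶ G) (_ : IsMonHom z), IsClosedImmersion z.left ∧ Smooth Z.hom ∧
      ∀ (X : Over S) (g : X ⟶ G), (∃ x : X ⟶ Z, x ≫ z = g) ↔
        ∀ (X' : Over S) (f : X' ⟶ X) (h : X' ⟶ H), lift h (f ≫ g) ≫ a.act = f ≫ g := by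
  obtain ⟨C, c, hc, hfp, hC⟩ := MTRigid29.exists_fixed_locus H G (MTRigid29.isMT_of_ft hH) a
  haveI := hc
  let Z : Over S := Over.mk (c ≫ G.hom)
  let z : Z ⟶ G := Over.homMk c rfl
  haveI : Mono z.left := inferInstanceAs (Mono c)
  haveI : Mono z := ⟨fun p q h => Over.OverMorphism.ext ((cancel_mono z.left).1 (congrArg CommaMorphism.left h))⟩
  have hZ : ∀ (X : Over S) (g : X ⟶ G), (∃ x : X ⟶ Z, x ≫ z = g) ↔
      ∀ (X' : Over S) (f : X' ⟶ X) (h : X' ⟶ H), lift h (f ≫ g) ≫ a.act = f ≫ g := fun X g => by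
    refine Iff.trans ⟨fun ⟨x, hx⟩ => ⟨x.left, congrArg CommaMorphism.left hx⟩, fun ⟨x, hx⟩ => ?_⟩ (hC X g)
    have hw : x ≫ Z.hom = X.hom := by
      show x ≫ c ≫ G.hom = X.hom
      rw [← Category.assoc, hx]; exact Over.w g
    exact ⟨Over.homMk x hw, Over.OverMorphism.ext hx⟩
  have h1 : ∀ (X : Over S) (h : X ⟶ H), lift h (1 : X ⟶ G) ≫ a.act = 1 := fun X h => by
    have := hmul X h 1 1
    rw [_root_.one_mul] at this
    exact mul_eq_left.1 this.symm
  have hfix : ∀ (X : Over S) (x : X ⟶ Z) (X' : Over S) (f : X' ⟶ X) (h : X' ⟶ H),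
      lift h (f ≫ x ≫ z) ≫ a.act = f ≫ x ≫ z := fun X x => (hZ X (x ≫ z)).1 ⟨x, rfl⟩
  obtain ⟨hgrp, hmon⟩ := MTRigid29.exists_grpObj_of_subgroup z
    (fun X p q => (hZ X _).2 fun X' f h => by rw [MonObj.comp_mul, hmul, hfix X p, hfix X q])
    ((hZ _ _).2 fun X' f h => by rw [MonObj.comp_one, h1])
    (fun X p => (hZ X _).2 fun X' f h => by
      rw [GrpObj.comp_inv]
      refine eq_inv_of_mul_eq_one_left ?_
      calc (lift h (f ≫ p ≫ z)⁻¹ ≫ a.act) * (f ≫ p ≫ z)
          = (lift h (f ≫ p ≫ z)⁻¹ ≫ a.act) * (lift h (f ≫ p ≫ z) ≫ a.act) := by rw [hfix X p]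
        _ = lift h ((f ≫ p ≫ z)⁻¹ * (f ≫ p ≫ z)) ≫ a.act := (hmul _ _ _ _).symm
        _ = 1 := by rw [_root_.inv_mul_cancel, h1])
  exact ⟨Z, hgrp, z, hmon, hc, MTRigid29.smooth_fixed H G (MTRigid29.isMT_of_ft hH) a c hC, hZ⟩

end Groth.Agent.S5442
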