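import Groth.Statements.S5447
import Groth.Agent.Lib.RootD.Simple
-- import your own Groth.Agent.* helpers here

set_option autoImplicit false
open RootD

namespace Groth.Agent.S5447

/-- If every root can be written in exactly one way as an integer combination of the roots indexed by Δ
with coefficients all of the same sign, then these roots are linearly independent (so Δ is a system
of simple roots) and indivisible. -/
theorem result {ι M N : Type*} [AddCommGroup M] [AddCommGroup N]
    (P : RootPairing ι ℤ M N) [Finite ι] (Δ : Set ι)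
    (h : ∀ k : ι, ∃! c : ι →₀ ℤ, (↑c.support ⊆ Δ ∧ ((∀ j, 0 ≤ c j) ∨ (∀ j, c j ≤ 0)) ∧
      Finsupp.linearCombination ℤ P.root c = P.root k)) :
    RootD.IsSimpleSys P Δ ∧ ∀ i ∈ Δ, RootD.IsIndiv P i := by
  classical
  have hrep : ∀ k, P.root k ∈ RootD.natSpan P Δ ∨ -P.root k ∈ RootD.natSpan P Δ := by
    intro k
    obtain ⟨c, ⟨hc, hs, he⟩, -⟩ := h k
    rcases hs with hs | hs
    · exact Or.inl (Groth.Agent.RootDLib.mem_natSpan_iff_finsupp.2 ⟨c, hc, hs, he⟩)
    · refine Or.inr (Groth.Agent.RootDLib.mem_natSpan_iff_finsupp.2 ⟨-c, by simpa using hc, ?_,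
        by rw [map_neg, he]⟩)
      intro j
      simpa using hs j
  have huniq : ∀ k c d, (↑(c : ι →₀ ℤ).support ⊆ Δ) → ((∀ j, 0 ≤ c j) ∨ (∀ j, c j ≤ 0)) →
      Finsupp.linearCombination ℤ P.root c = P.root k → (↑(d : ι →₀ ℤ).support ⊆ Δ) →
      ((∀ j, 0 ≤ d j) ∨ (∀ j, d j ≤ 0)) →
      Finsupp.linearCombination ℤ P.root d = P.root k → c = d :=
    fun k c d h1 h2 h3 h4 h5 h6 => (h k).unique ⟨h1, h2, h3⟩ ⟨h4, h5, h6⟩
  have hS : RootD.IsPosSys P (RootD.posOf P Δ) := by
    refine Groth.Agent.RootDLib.isPosSys_of_closed (fun i hi hn => ?_) (fun i => ?_)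
      (fun i j k hi hj hk => ?_)
    · obtain ⟨c, hc, hc0, hce⟩ := Groth.Agent.RootDLib.mem_natSpan_iff_finsupp.1 hi
      obtain ⟨d, hd, hd0, hde⟩ := Groth.Agent.RootDLib.mem_natSpan_iff_finsupp.1 hn
      have := huniq i c (-d) hc (Or.inl hc0) hce (by simpa using hd)
        (Or.inr fun j => by simpa using hd0 j)
        (by rw [map_neg, hde, Groth.Agent.RootDLib.root_ng, neg_neg])
      refine Groth.Agent.RootDLib.root_ne_zero P i ?_
      have hc00 : c = 0 := Finsupp.ext fun j => by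
        have h1 := DFunLike.congr_fun this j
        have h2 := hc0 j
        have h3 := hd0 j
        simp at h1 h2 h3 ⊢
        omega
      rw [← hce, hc00, map_zero]
    · refine (hrep i).imp_right fun h => ?_
      change P.root _ ∈ RootD.natSpan P Δ
      rwa [Groth.Agent.RootDLib.root_ng]
    · change P.root k ∈ RootD.natSpan P Δ
      rw [hk]; exact add_mem hi hj
  have hΔ0 := Groth.Agent.RootDLib.isSimpleSys_indec hS
  set Δ0 := Groth.Agent.RootDLib.indec P (RootD.posOf P Δ) with hΔ0def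
  have hsub : Δ0 ⊆ Δ := by
    intro k hk
    obtain ⟨l, hl, hsum⟩ := (Groth.Agent.RootDLib.mem_natSpan_iff P).1 hk.1
    by_contra hkΔ
    obtain ⟨a, ha, hpos⟩ := Groth.Agent.RootDLib.exists_pairing_pos_of_form_pos P (l := l) (k := k)
      (by rw [hsum]; exact Groth.Agent.RootDLib.form_root_pos P k)
    obtain ⟨b, hb⟩ := Groth.Agent.RootDLib.sub_mem_of_pairing_pos P hpos
      (fun he => hkΔ (he ▸ hl a ha))
    refine hk.2 ⟨b, ?_, a, Groth.Agent.RootDLib.root_mem_natSpan P (hl a ha),
      by rw [hb, sub_add_cancel]⟩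
    refine (Groth.Agent.RootDLib.mem_natSpan_iff P).2
      ⟨l.erase a, fun c hc => hl c (List.mem_of_mem_erase hc), ?_⟩
    rw [hb, ← hsum, Groth.Agent.RootDLib.sum_erase P ha, add_sub_cancel_left]
  have heq : Δ0 = Δ := by
    refine hsub.antisymm fun a ha => ?_
    have hap : a ∈ RootD.posOf P Δ0 := by
      rw [Groth.Agent.RootDLib.posOf_indec hS]
      exact Groth.Agent.RootDLib.root_mem_natSpan P ha
    have := huniq a (Groth.Agent.RootDLib.coeff hΔ0 a) (Finsupp.single a 1)
      ((Groth.Agent.RootDLib.coeff_supp hΔ0 a).trans hsub)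
      (Or.inl ((Groth.Agent.RootDLib.mem_posOf_iff hΔ0).1 hap))
      (Groth.Agent.RootDLib.coeff_sum hΔ0 a)
      (by rw [Finsupp.support_single_ne_zero _ one_ne_zero]; simpa using ha)
      (Or.inl fun j => Finsupp.single_nonneg.2 zero_le_one j) (by simp)
    refine Groth.Agent.RootDLib.coeff_supp hΔ0 a ?_
    simp [this]
  rw [← heq]
  exact ⟨hΔ0, fun i hi => Groth.Agent.RootDLib.isIndiv_simple hΔ0 hi⟩

end Groth.Agent.S5447
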