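import Groth.Statements.S5450
import Groth.Agent.Lib.RootD.Simple
-- import your own Groth.Agent.* helpers here

set_option autoImplicit false
open RootD

namespace Groth.Agent.S5450

/-- A positive root (relative to a system of simple roots Δ) is simple if and only if it is not the sum
of two positive roots. -/
theorem result {ι M N : Type*} [AddCommGroup M] [AddCommGroup N]
    (P : RootPairing ι ℤ M N) [Finite ι] (Δ : Set ι) (hΔ : RootD.IsSimpleSys P Δ)
    (k : ι) (hk : k ∈ RootD.posOf P Δ) :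
    k ∈ Δ ↔ ¬ ∃ i j : ι, i ∈ RootD.posOf P Δ ∧ j ∈ RootD.posOf P Δ ∧ P.root k = P.root i + P.root j := by
  have h := Set.ext_iff.1 (Groth.Agent.RootDLib.indec_posOf hΔ) k
  rw [← h]
  simp only [Groth.Agent.RootDLib.indec, Set.mem_setOf_eq, hk, true_and]
  exact not_congr ⟨fun ⟨a, ha, b, hb, e⟩ => ⟨a, b, ha, hb, e⟩,
    fun ⟨a, b, ha, hb, e⟩ => ⟨a, ha, b, hb, e⟩⟩

end Groth.Agent.S5450
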