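import Groth.Statements.S5451
import Groth.Agent.Lib.RootD.Basic
-- import your own Groth.Agent.* helpers here

set_option autoImplicit false
open RootD

namespace Groth.Agent.S5451

/-- If a root is a positive integer combination of roots α_i, then it can be reached from 0 by
successively adding roots taken among the α_i in such a way that every partial sum is a root. -/
theorem result {ι M N : Type*} [AddCommGroup M] [AddCommGroup N]
    (P : RootPairing ι ℤ M N) [Finite ι] {n : ℕ} (a : Fin n → ι) (m : Fin n → ℕ)
    (hm : ∀ i, 0 < m i) (k : ι) (hk : P.root k = ∑ i, m i • P.root (a i)) :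
    ∃ (l : ℕ) (b : Fin l → Fin n), 0 < l ∧
      (∀ p : Fin l, ∃ j : ι, P.root j = ∑ q ∈ Finset.univ.filter (fun q : Fin l => q.val ≤ p.val), P.root (a (b q))) ∧
      P.root k = ∑ q, P.root (a (b q)) := by
  obtain ⟨L, hL, hLsum⟩ : ∃ L : List (Fin n),
      (∀ x ∈ L, True) ∧ ((L.map a).map P.root).sum = P.root k := by
    refine ⟨(List.finRange n).flatMap (fun i => List.replicate (m i) i), by simp, ?_⟩
    rw [hk, List.map_map, List.map_flatMap, List.flatMap_def, List.sum_flatten, List.map_map,
      Fin.sum_univ_def]
    congr 1
    simp [Function.comp_def]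
  obtain ⟨l', hne, hmem, hsum, hpre⟩ := Groth.Agent.RootDLib.exists_chain P hLsum
  have hb : ∀ p : Fin l'.length, ∃ i : Fin n, a i = l'[(p : ℕ)] := fun p => by
    obtain ⟨i, -, hi⟩ := List.mem_map.1 (hmem _ (List.getElem_mem p.2))
    exact ⟨i, hi⟩
  choose b hb using hb
  refine ⟨l'.length, b, List.length_pos_iff.2 hne, fun p => ?_, ?_⟩
  · obtain ⟨j, hj⟩ := hpre (p + 1) (by omega) (by omega)
    refine ⟨j, ?_⟩
    rw [hj, ← Fin.sum_univ_getElem ((l'.take (↑p + 1)).map P.root), Finset.sum_filter,
      ← Finset.sum_filter]
    refine Finset.sum_bij (fun q _ => ⟨q, by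
        have := q.2
        simp only [List.length_map, List.length_take] at this
        omega⟩) ?_ ?_ ?_ ?_
    · intro q _
      have := q.2
      simp only [List.length_map, List.length_take] at this
      simp only [Finset.mem_filter, Finset.mem_univ, true_and]
      omega
    · intro q _ q' _ h
      simpa [Fin.ext_iff] using h
    · intro q hq
      simp only [Finset.mem_filter, Finset.mem_univ, true_and] at hq
      exact ⟨⟨q, by simp; omega⟩, Finset.mem_univ _, rfl⟩
    · intro q _
      simp [hb]
  · rw [← hsum, ← Fin.sum_univ_getElem (l'.map P.root)]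
    refine Fintype.sum_equiv (finCongr (by simp)) _ _ fun q => ?_
    simp [hb]

end Groth.Agent.S5451
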