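import Groth.Statements.S5458
import Groth.Agent.Lib.RootD.Simple
-- import your own Groth.Agent.* helpers here

set_option autoImplicit false
open RootD

namespace Groth.Agent.S5458

/-- Let S be a system of positive roots with simple system Δ ⊆ S and let P' ⊇ S be a closed set of
roots; with Δ' the set of simple roots whose opposite lies in P', the set P' is the union of S and
of the roots that are non-positive integer combinations of Δ'. -/
theorem result {ι M N : Type*} [AddCommGroup M] [AddCommGroup N]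
    (P : RootPairing ι ℤ M N) [Finite ι] (S : Set ι) (hS : RootD.IsPosSys P S) (Δ : Set ι)
    (hΔ : RootD.IsSimpleSys P Δ) (hΔS : Δ ⊆ S) (P' : Set ι) (hcl : RootD.IsClosedSub P P')
    (hSP : S ⊆ P') :
    P' = S ∪ {k : ι | -P.root k ∈ RootD.natSpan P {i : ι | i ∈ Δ ∧ P.reflectionPerm i i ∈ P'}} := by
  open Groth.Agent.RootDLib in
  have hpo := posOf_eq hΔ hS hΔS
  refine Set.Subset.antisymm (fun k hk => ?_) ?_
  · by_cases hkS : k ∈ S
    · exact Or.inl hkS
    refine Or.inr ?_
    have hng : Groth.Agent.RootDLib.ng P k ∈ S := (hS.cover k).resolve_left hkS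
    suffices h : ∀ n : ℕ, ∀ p ∈ RootD.posOf P Δ, (Groth.Agent.RootDLib.ht hΔ p).toNat = n →
        Groth.Agent.RootDLib.ng P p ∈ P' →
        P.root p ∈ RootD.natSpan P {i : ι | i ∈ Δ ∧ P.reflectionPerm i i ∈ P'} by
      have := h _ _ (hpo.symm ▸ hng) rfl (by rwa [Groth.Agent.RootDLib.ng_ng])
      rwa [Groth.Agent.RootDLib.root_ng] at this
    intro n
    induction n using Nat.strong_induction_on with
    | _ n ih =>
      intro p hp hn hpn
      by_cases hpΔ : p ∈ Δ
      · exact Groth.Agent.RootDLib.root_mem_natSpan P ⟨hpΔ, hpn⟩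
      obtain ⟨i, hi, -, b, hb, he⟩ := Groth.Agent.RootDLib.exists_sub_simple hΔ hp hpΔ
      have h1 := Groth.Agent.RootDLib.ht_pos hΔ hb
      have h2 : Groth.Agent.RootDLib.ht hΔ p = Groth.Agent.RootDLib.ht hΔ b + 1 := by
        rw [← Groth.Agent.RootDLib.ht_simple hΔ hi]
        simp [Groth.Agent.RootDLib.ht, Groth.Agent.RootDLib.coeff_add hΔ he]
      have hbn : Groth.Agent.RootDLib.ng P b ∈ P' :=
        hcl hpn (hSP (hΔS hi)) (by
          rw [Groth.Agent.RootDLib.root_ng, Groth.Agent.RootDLib.root_ng, he]; abel)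
      have hin : Groth.Agent.RootDLib.ng P i ∈ P' :=
        hcl hpn (hSP (hpo ▸ hb)) (by
          rw [Groth.Agent.RootDLib.root_ng, Groth.Agent.RootDLib.root_ng, he]; abel)
      rw [he]
      exact add_mem (ih _ (by omega) b hb rfl hbn)
        (Groth.Agent.RootDLib.root_mem_natSpan P ⟨hi, hin⟩)
  · rintro k (hk | hk)
    · exact hSP hk
    · refine Groth.Agent.RootDLib.mem_of_closed P hcl ?_
      obtain ⟨l, hl, hsum⟩ := (Groth.Agent.RootDLib.mem_natSpan_iff P).1 hk
      refine (Groth.Agent.RootDLib.mem_natSpan_iff P).2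
        ⟨l.map (Groth.Agent.RootDLib.ng P), ?_, ?_⟩
      · intro a ha
        obtain ⟨b, hb, rfl⟩ := List.mem_map.1 ha
        exact (hl b hb).2
      · rw [List.map_map, ← neg_neg (P.root k), ← hsum]
        clear hl hsum
        induction l with
        | nil => simp
        | cons a t ih => simp [ih, Groth.Agent.RootDLib.root_ng, add_comm]

end Groth.Agent.S5458
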