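import Groth.Statements.S5459
import Groth.Agent.Lib.RootD.Weyl
import Groth.Agent.S5458
-- import your own Groth.Agent.* helpers here

set_option autoImplicit false
open RootD

namespace Groth.Agent.S5459

/-- A closed set of roots containing each root or its opposite is, for a suitable system of simple roots
Δ and a subset Δ' ⊆ Δ, the set of roots lying in ℕΔ ∪ (-ℕΔ'). -/
theorem result {ι M N : Type*} [AddCommGroup M] [AddCommGroup N]
    (P : RootPairing ι ℤ M N) [Finite ι] (P' : Set ι)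
    (hP2 : ∀ i : ι, i ∈ P' ∨ P.reflectionPerm i i ∈ P') (hcl : RootD.IsClosedSub P P') :
    ∃ Δ Δ' : Set ι, RootD.IsSimpleSys P Δ ∧ Δ' ⊆ Δ ∧
      P' = RootD.posOf P Δ ∪ {k : ι | -P.root k ∈ RootD.natSpan P Δ'} := by
  obtain ⟨S, hS⟩ := Groth.Agent.RootDLib.exists_isPosSys (P := P)
  obtain ⟨g, -, hg⟩ := Groth.Agent.RootDLib.exists_weyl_image_subset hS hP2 hcl
  set S' := (fun i : ι => g • i) '' S
  have hS' : RootD.IsPosSys P S' := Groth.Agent.RootDLib.isPosSys_image g hS
  have hΔ := Groth.Agent.RootDLib.isSimpleSys_indec hS'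
  refine ⟨Groth.Agent.RootDLib.indec P S',
    {i : ι | i ∈ Groth.Agent.RootDLib.indec P S' ∧ P.reflectionPerm i i ∈ P'}, hΔ, fun _ h => h.1, ?_⟩
  rw [Groth.Agent.RootDLib.posOf_indec hS']
  exact Groth.Agent.S5458.result P S' hS' _ hΔ (Groth.Agent.RootDLib.indec_subset S') P' hcl hg

end Groth.Agent.S5459
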