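import Groth.Statements.S5460
import Groth.Agent.Lib.RootD.Sub
-- import your own Groth.Agent.* helpers here

set_option autoImplicit false
open RootD

namespace Groth.Agent.S5460

/-- A set of roots R' is the trace on R of a vector subspace (every root with a positive multiple in the
span of R' lies in R') if and only if R' is the set of roots in the span of a subset Δ' of some
system of simple roots Δ. -/
theorem result {ι M N : Type*} [AddCommGroup M] [AddCommGroup N]
    (P : RootPairing ι ℤ M N) [Finite ι] (R' : Set ι) :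
    (∀ k : ι, (∃ n : ℕ, 0 < n ∧ n • P.root k ∈ Submodule.span ℤ (P.root '' R')) → k ∈ R') ↔
      ∃ Δ Δ' : Set ι, RootD.IsSimpleSys P Δ ∧ Δ' ⊆ Δ ∧ R' = RootD.inSpan P Δ' := by
  constructor
  · intro hsat
    obtain ⟨f, hf⟩ := Groth.Agent.RootDLib.exists_hom_zero_iff hsat
    obtain ⟨g, hg⟩ := Groth.Agent.RootDLib.exists_hom_root_ne_zero (P := P)
    have hS := Groth.Agent.RootDLib.isPosSys_lex (P := P) (f := f) (g := g) fun i _ => hg i
    set S := {i | 0 < f (P.root i) ∨ (f (P.root i) = 0 ∧ 0 < g (P.root i))}
    have hΔ := Groth.Agent.RootDLib.isSimpleSys_indec hS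
    refine ⟨_, {a | a ∈ Groth.Agent.RootDLib.indec P S ∧ f (P.root a) = 0}, hΔ, fun _ h => h.1, ?_⟩
    have hnn : ∀ a ∈ Groth.Agent.RootDLib.indec P S, 0 ≤ f (P.root a) := by
      intro a ha
      rcases ha.1 with h | ⟨h, -⟩
      · exact h.le
      · exact h.ge
    have key : ∀ l : List ι, (∀ a ∈ l, a ∈ Groth.Agent.RootDLib.indec P S) →
        0 ≤ f ((l.map P.root).sum) ∧
        (f ((l.map P.root).sum) = 0 → ∀ a ∈ l, f (P.root a) = 0) := by
      intro l hl
      induction l with
      | nil => simp
      | cons a t ih =>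
        obtain ⟨h1, h2⟩ := ih fun b hb => hl b (List.mem_cons_of_mem _ hb)
        have h3 := hnn a (hl a List.mem_cons_self)
        rw [List.map_cons, List.sum_cons, map_add]
        refine ⟨by linarith, fun h0 b hb => ?_⟩
        rcases List.mem_cons.1 hb with rfl | hb
        · linarith
        · exact h2 (by linarith) b hb
    have key2 : ∀ k ∈ S, f (P.root k) = 0 →
        k ∈ RootD.inSpan P {a | a ∈ Groth.Agent.RootDLib.indec P S ∧ f (P.root a) = 0} := by
      intro k hk h0
      obtain ⟨l, hl, hsum⟩ :=
        (Groth.Agent.RootDLib.mem_natSpan_iff P).1 (Groth.Agent.RootDLib.natSpan_indec hS hk)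
      exact Groth.Agent.RootDLib.natSpan_le_span P _
        ((Groth.Agent.RootDLib.mem_natSpan_iff P).2
          ⟨l, fun a ha => ⟨hl a ha, (key l hl).2 (by rw [hsum, h0]) a ha⟩, hsum⟩)
    ext k
    rw [← hf k]
    constructor
    · intro h0
      rcases hS.cover k with hk | hk
      · exact key2 k hk h0
      · have := key2 _ hk (by rw [Groth.Agent.RootDLib.root_ng, map_neg, h0, neg_zero])
        change P.root _ ∈ Submodule.span ℤ _ at this
        rw [Groth.Agent.RootDLib.root_ng, neg_mem_iff] at this
        exact this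
    · intro hk
      have : ∀ x ∈ Submodule.span ℤ
          (P.root '' {a | a ∈ Groth.Agent.RootDLib.indec P S ∧ f (P.root a) = 0}), f x = 0 := by
        intro x hx
        induction hx using Submodule.span_induction with
        | mem y hy => obtain ⟨a, ha, rfl⟩ := hy; exact ha.2
        | zero => exact map_zero f
        | add y z _ _ hy hz => rw [map_add, hy, hz, add_zero]
        | smul z y _ hy => rw [map_zsmul, hy, smul_zero]
      exact this _ hk
  · rintro ⟨Δ, Δ', hΔ, hsub, rfl⟩ k ⟨n, hn, h⟩
    exact Groth.Agent.RootDLib.inSpan_saturated hΔ hsub hn h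

end Groth.Agent.S5460
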