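import Groth.Statements.S5464
import Groth.Agent.Lib.RootD.Sub
-- import your own Groth.Agent.* helpers here

set_option autoImplicit false
open RootD

namespace Groth.Agent.S5464

/-- Given an indivisible root α and a root γ not proportional to it, there is a system of simple roots
containing α and a simple root β of it with γ = aα + bβ, a, b ∈ ℕ. -/
theorem result {ι M N : Type*} [AddCommGroup M] [AddCommGroup N]
    (P : RootPairing ι ℤ M N) [Finite ι] (i k : ι) (hα : RootD.IsIndiv P i)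
    (hli : LinearIndependent ℤ ![P.root i, P.root k]) :
    ∃ Δ : Set ι, RootD.IsSimpleSys P Δ ∧ i ∈ Δ ∧
      ∃ j ∈ Δ, ∃ a b : ℕ, P.root k = a • P.root i + b • P.root j := by
  classical
  have tf := Groth.Agent.RootDLib.torsionFree P
  set V : Submodule ℤ M := Submodule.span ℤ (P.root '' {i, k}) with hV
  set R' : Set ι := {x | ∃ n : ℕ, 0 < n ∧ n • P.root x ∈ V} with hR'
  have hsat : ∀ x : ι, (∃ n : ℕ, 0 < n ∧ n • P.root x ∈ Submodule.span ℤ (P.root '' R')) → x ∈ R' := by
    rintro x ⟨n, hn, hx⟩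
    have : ∀ y ∈ Submodule.span ℤ (P.root '' R'), ∃ m : ℕ, 0 < m ∧ m • y ∈ V := by
      intro y hy
      induction hy using Submodule.span_induction with
      | mem z hz => obtain ⟨a, ⟨m, hm, ha⟩, rfl⟩ := hz; exact ⟨m, hm, ha⟩
      | zero => exact ⟨1, one_pos, by simp⟩
      | add a b _ _ ha hb =>
        obtain ⟨m, hm, ha⟩ := ha
        obtain ⟨l, hl, hb⟩ := hb
        refine ⟨m * l, Nat.mul_pos hm hl, ?_⟩
        rw [smul_add]
        refine add_mem ?_ ?_
        · rw [mul_comm, mul_smul]; exact nsmul_mem ha l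
        · rw [mul_smul]; exact nsmul_mem hb m
      | smul z a _ ha =>
        obtain ⟨m, hm, ha⟩ := ha
        exact ⟨m, hm, by rw [smul_comm]; exact Submodule.smul_mem _ z ha⟩
    obtain ⟨m, hm, hmx⟩ := this _ hx
    exact ⟨m * n, Nat.mul_pos hm hn, by rwa [mul_smul]⟩
  have hiV : P.root i ∈ V := Submodule.subset_span ⟨i, by simp, rfl⟩
  have hkV : P.root k ∈ V := Submodule.subset_span ⟨k, by simp, rfl⟩
  have hne : i ≠ k := by
    rintro rfl
    have := (LinearIndependent.pair_iff.1 hli 1 (-1) (by simp)).1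
    omega
  have hli' : LinearIndepOn ℤ P.root {i, k} :=
    (LinearIndepOn.pair_iff P.root hne).2 (LinearIndependent.pair_iff.1 hli)
  obtain ⟨f, hf⟩ := Groth.Agent.RootDLib.exists_hom_zero_iff hsat
  obtain ⟨h, hh⟩ := Groth.Agent.RootDLib.exists_hom_eq hli' (fun x => if x = k then 1 else 0)
  obtain ⟨g, hg⟩ := Groth.Agent.RootDLib.exists_hom_eq hli' (fun x => if x = i then 1 else 0)
  have hhi : h (P.root i) = 0 := by simpa [hne] using hh i (by simp)
  have hhk : h (P.root k) = 1 := by simpa using hh k (by simp)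
  have hgi : g (P.root i) = 1 := by simpa using hg i (by simp)
  -- elements of `R'`
  have hcomb : ∀ x ∈ R', ∃ n : ℕ, 0 < n ∧ ∃ a b : ℤ, a • P.root i + b • P.root k = n • P.root x := by
    rintro x ⟨n, hn, hx⟩
    rw [hV, Set.image_pair] at hx
    exact ⟨n, hn, Submodule.mem_span_pair.1 hx⟩
  have hprop : ∀ x ∈ R', h (P.root x) = 0 → ∃ c : ℤ, P.root x = c • P.root i := by
    intro x hx h0
    obtain ⟨n, hn, a, b, e⟩ := hcomb x hx
    have e' := congrArg h e
    rw [map_add, map_zsmul, map_zsmul, map_nsmul, h0, hhi, hhk] at e'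
    simp at e'
    subst e'
    rw [zero_smul, add_zero, ← natCast_zsmul] at e
    obtain ⟨c, rfl⟩ := Groth.Agent.RootDLib.dvd_of_smul_eq_smul P hα
      (b := (n : ℤ)) (by omega) e.symm
    rw [mul_smul] at e
    exact ⟨c, (zsmul_right_injective (by omega : (n : ℤ) ≠ 0) e).symm⟩
  set S : Set ι := {x | 0 < f (P.root x) ∨ (f (P.root x) = 0 ∧
    (0 < h (P.root x) ∨ (h (P.root x) = 0 ∧ 0 < g (P.root x))))} with hSdef
  have hgne : ∀ x, f (P.root x) = 0 → h (P.root x) = 0 → g (P.root x) ≠ 0 := by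
    intro x hx hx' h0
    obtain ⟨c, hc⟩ := hprop x ((hf x).1 hx) hx'
    rw [hc, map_zsmul, hgi] at h0
    simp at h0
    exact Groth.Agent.RootDLib.root_ne_zero P x (by rw [hc, h0, zero_smul])
  have hS : RootD.IsPosSys P S := by
    refine Groth.Agent.RootDLib.isPosSys_of_closed (fun x hx hn => ?_) (fun x => ?_)
      (fun a b c ha hb hc => ?_)
    · simp only [hSdef, Set.mem_setOf_eq, Groth.Agent.RootDLib.root_ng, map_neg, neg_eq_zero,
        Left.neg_pos_iff] at hx hn
      rcases hx with h1 | ⟨h1, h2 | ⟨h2, h3⟩⟩ <;> rcases hn with h4 | ⟨h4, h5 | ⟨h5, h6⟩⟩ <;>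
        linarith
    · simp only [hSdef, Set.mem_setOf_eq, Groth.Agent.RootDLib.root_ng, map_neg, neg_eq_zero,
        Left.neg_pos_iff]
      rcases lt_trichotomy (f (P.root x)) 0 with h1 | h1 | h1
      · exact Or.inr (Or.inl h1)
      · rcases lt_trichotomy (h (P.root x)) 0 with h2 | h2 | h2
        · exact Or.inr (Or.inr ⟨h1, Or.inl h2⟩)
        · rcases (hgne x h1 h2).lt_or_gt with h3 | h3
          · exact Or.inr (Or.inr ⟨h1, Or.inr ⟨h2, h3⟩⟩)
          · exact Or.inl (Or.inr ⟨h1, Or.inr ⟨h2, h3⟩⟩)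
        · exact Or.inl (Or.inr ⟨h1, Or.inl h2⟩)
      · exact Or.inl (Or.inl h1)
    · simp only [hSdef, Set.mem_setOf_eq] at ha hb ⊢
      rw [hc, map_add, map_add, map_add]
      rcases ha with h1 | ⟨h1, h2 | ⟨h2, h3⟩⟩ <;> rcases hb with h4 | ⟨h4, h5 | ⟨h5, h6⟩⟩
      all_goals first
        | (left; linarith)
        | (right; refine ⟨by linarith, ?_⟩; first
            | (left; linarith)
            | (right; exact ⟨by linarith, by linarith⟩))
  have hΔ := Groth.Agent.RootDLib.isSimpleSys_indec hS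
  set Δ := Groth.Agent.RootDLib.indec P S with hΔdef
  have hiR : i ∈ R' := ⟨1, one_pos, by rwa [one_smul]⟩
  have hkR : k ∈ R' := ⟨1, one_pos, by rwa [one_smul]⟩
  have hnn : ∀ x ∈ S, 0 ≤ f (P.root x) ∧ (f (P.root x) = 0 → 0 ≤ h (P.root x)) := by
    intro x hx
    rcases hx with h1 | ⟨h1, h2 | ⟨h2, -⟩⟩
    · exact ⟨h1.le, fun h0 => absurd h0 h1.ne'⟩
    · exact ⟨h1.ge, fun _ => h2.le⟩
    · exact ⟨h1.ge, fun _ => h2.ge⟩
  have hiΔ : i ∈ Δ := by
    refine ⟨Or.inr ⟨(hf i).2 hiR, Or.inr ⟨hhi, by rw [hgi]; exact one_pos⟩⟩, ?_⟩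
    rintro ⟨b, hb, c, hc, hbc⟩
    have e1 : f (P.root b) + f (P.root c) = 0 := by rw [← map_add, ← hbc]; exact (hf i).2 hiR
    have e2 : h (P.root b) + h (P.root c) = 0 := by rw [← map_add, ← hbc, hhi]
    have e3 : g (P.root b) + g (P.root c) = 1 := by rw [← map_add, ← hbc, hgi]
    have fb : f (P.root b) = 0 := by linarith [(hnn b hb).1, (hnn c hc).1]
    have fc : f (P.root c) = 0 := by linarith [(hnn b hb).1, (hnn c hc).1]
    have hb0 : h (P.root b) = 0 := by linarith [(hnn b hb).2 fb, (hnn c hc).2 fc]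
    have hc0 : h (P.root c) = 0 := by linarith [(hnn b hb).2 fb, (hnn c hc).2 fc]
    have pos : ∀ x ∈ S, f (P.root x) = 0 → h (P.root x) = 0 → 1 ≤ g (P.root x) := by
      intro x hx fx hx0
      obtain ⟨z, hz⟩ := hprop x ((hf x).1 fx) hx0
      have hgx : g (P.root x) = z := by rw [hz, map_zsmul, hgi]; simp
      have : 0 < g (P.root x) := by
        rcases hx with h1 | ⟨-, h2 | ⟨-, h2⟩⟩
        · linarith
        · linarith
        · exact h2
      rw [hgx] at this ⊢
      have hz0 : 0 < z := by exact_mod_cast this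
      exact_mod_cast hz0
    linarith [pos b hb fb hb0, pos c hc fc hc0]
  have hkS : k ∈ S := Or.inr ⟨(hf k).2 hkR, Or.inl (by rw [hhk]; exact one_pos)⟩
  have hkp : k ∈ RootD.posOf P Δ := by rw [Groth.Agent.RootDLib.posOf_indec hS]; exact hkS
  set c := Groth.Agent.RootDLib.coeff hΔ k with hc
  have hc0 := (Groth.Agent.RootDLib.mem_posOf_iff hΔ).1 hkp
  have hsupp : ∀ a ∈ c.support, a ∈ R' := by
    intro a ha
    refine (hf a).1 ?_
    have e := congrArg f (Groth.Agent.RootDLib.coeff_sum hΔ k)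
    rw [Finsupp.linearCombination_apply, map_finsuppSum, (hf k).2 hkR, Finsupp.sum] at e
    have h1 := (Finset.sum_eq_zero_iff_of_nonneg (fun b hb => by
      rw [map_zsmul, zsmul_eq_mul]
      exact mul_nonneg (by exact_mod_cast hc0 b)
        (hnn b (Groth.Agent.RootDLib.coeff_supp hΔ k hb).1).1)).1 e a ha
    rw [map_zsmul, smul_eq_zero] at h1
    exact h1.resolve_left (Finsupp.mem_support_iff.1 ha)
  obtain ⟨j, hj, hji⟩ : ∃ j ∈ c.support, j ≠ i := by
    by_contra! hcon
    have hck : c = Finsupp.single i (c i) := Finsupp.ext fun x => by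
      rcases eq_or_ne x i with rfl | hx
      · simp
      · rw [Finsupp.single_eq_of_ne hx]
        exact Finsupp.notMem_support_iff.1 fun hxs => hx (hcon x hxs)
    have e := Groth.Agent.RootDLib.coeff_sum hΔ k
    rw [← hc, hck, Finsupp.linearCombination_single] at e
    have := (LinearIndependent.pair_iff.1 hli (c i) (-1) (by rw [e]; simp)).2
    omega
  have hjΔ := Groth.Agent.RootDLib.coeff_supp hΔ k hj
  have hzero : ∀ x, x ≠ i → x ≠ j → c x = 0 := by
    intro x hxi hxj
    obtain ⟨n, hn, p, q, e⟩ := hcomb j (hsupp j hj)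
    have hsi : ↑(Finsupp.single i p + q • c).support ⊆ Δ :=
      (Finset.coe_subset.2 Finsupp.support_add).trans (by
        rw [Finset.coe_union, Set.union_subset_iff]
        exact ⟨(Finset.coe_subset.2 Finsupp.support_single_subset).trans (by simpa using hiΔ),
          (Finset.coe_subset.2 Finsupp.support_smul).trans (Groth.Agent.RootDLib.coeff_supp hΔ k)⟩)
    have h0 := Groth.Agent.RootDLib.coeff_unique hΔ hsi (d := Finsupp.single j (n : ℤ))
      ((Finset.coe_subset.2 Finsupp.support_single_subset).trans (by simpa using hjΔ))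
      (by rw [map_add, map_smul, Groth.Agent.RootDLib.coeff_sum, Finsupp.linearCombination_single,
        Finsupp.linearCombination_single, natCast_zsmul, e])
    have h1 := DFunLike.congr_fun h0 x
    have h2 := DFunLike.congr_fun h0 j
    simp [Finsupp.single_eq_of_ne hxi, Finsupp.single_eq_of_ne hxj] at h1
    simp [Finsupp.single_eq_of_ne hji] at h2
    rcases h1 with h1 | h1
    · rw [h1] at h2; simp at h2; omega
    · exact h1
  refine ⟨Δ, hΔ, hiΔ, j, hjΔ, (c i).toNat, (c j).toNat, ?_⟩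
  rw [← natCast_zsmul (P.root i), ← natCast_zsmul (P.root j), Int.toNat_of_nonneg (hc0 i),
    Int.toNat_of_nonneg (hc0 j)]
  conv_lhs => rw [← Groth.Agent.RootDLib.coeff_sum hΔ k, ← hc]
  have : c = Finsupp.single i (c i) + Finsupp.single j (c j) := Finsupp.ext fun x => by
    rcases eq_or_ne x i with rfl | hxi
    · simp [Finsupp.single_eq_of_ne hji.symm]
    · rcases eq_or_ne x j with rfl | hxj
      · simp [Finsupp.single_eq_of_ne hxi]
      · simp [Finsupp.single_eq_of_ne hxi, Finsupp.single_eq_of_ne hxj, hzero x hxi hxj]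
  conv_lhs => rw [this]
  simp [← hc]

end Groth.Agent.S5464
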