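import Groth.Statements.S5465
import Groth.Agent.Lib.RootD.Simple
import Groth.Agent.Lib.RootD.Weyl
-- import your own Groth.Agent.* helpers here

set_option autoImplicit false
open RootD

namespace Groth.Agent.S5465

/-- A map from the roots to an abelian group that is odd and additive on pairs of roots whose sum is a
root extends uniquely to a homomorphism on the lattice generated by the roots. -/
theorem result {ι M N : Type*} [AddCommGroup M] [AddCommGroup N]
    (P : RootPairing ι ℤ M N) [Finite ι] {G : Type*} [AddCommGroup G] (f : ι → G)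
    (hneg : ∀ i : ι, f (P.reflectionPerm i i) = -f i)
    (hadd : ∀ i j k : ι, P.root k = P.root i + P.root j → f k = f i + f j) :
    ∃! φ : Submodule.span ℤ (Set.range P.root) →+ G,
      ∀ i : ι, φ ⟨P.root i, Submodule.subset_span (Set.mem_range_self i)⟩ = f i := by
  obtain ⟨Δ, hΔ⟩ := Groth.Agent.RootDLib.exists_isSimpleSys (P := P)
  classical
  have hspan : ∀ x : Submodule.span ℤ (Set.range P.root), ∃ c : ι →₀ ℤ, ↑c.support ⊆ Δ ∧
      Finsupp.linearCombination ℤ P.root c = (x : M) := by
    rintro ⟨x, hx⟩
    induction hx using Submodule.span_induction with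
    | mem y hy =>
      obtain ⟨i, rfl⟩ := hy
      exact ⟨_, Groth.Agent.RootDLib.coeff_supp hΔ i, Groth.Agent.RootDLib.coeff_sum hΔ i⟩
    | zero => exact ⟨0, by simp, by simp⟩
    | add y z _ _ hy hz =>
      obtain ⟨c, hc, hce⟩ := hy
      obtain ⟨d, hd, hde⟩ := hz
      exact ⟨c + d, (Finset.coe_subset.2 Finsupp.support_add).trans (by simpa using ⟨hc, hd⟩),
        by rw [map_add, hce, hde]⟩
    | smul z y _ hy =>
      obtain ⟨c, hc, hce⟩ := hy
      exact ⟨z • c, (Finset.coe_subset.2 Finsupp.support_smul).trans hc, by rw [map_smul, hce]⟩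
  choose C hC hCe using hspan
  let φ : Submodule.span ℤ (Set.range P.root) →+ G :=
    AddMonoidHom.mk' (fun x => Finsupp.linearCombination ℤ f (C x)) fun x y => by
      rw [← map_add]
      congr 1
      exact Groth.Agent.RootDLib.coeff_unique hΔ (hC _)
        ((Finset.coe_subset.2 Finsupp.support_add).trans (by simpa using ⟨hC x, hC y⟩))
        (by rw [hCe, map_add, hCe, hCe]; rfl)
  have key : ∀ p ∈ RootD.posOf P Δ,
      Finsupp.linearCombination ℤ f (Groth.Agent.RootDLib.coeff hΔ p) = f p := by
    suffices h : ∀ n : ℕ, ∀ p ∈ RootD.posOf P Δ, (Groth.Agent.RootDLib.ht hΔ p).toNat = n →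
        Finsupp.linearCombination ℤ f (Groth.Agent.RootDLib.coeff hΔ p) = f p from
      fun p hp => h _ p hp rfl
    intro n
    induction n using Nat.strong_induction_on with
    | _ n ih =>
      intro p hp hn
      by_cases hpΔ : p ∈ Δ
      · simp [Groth.Agent.RootDLib.coeff_simple hΔ hpΔ]
      obtain ⟨i, hi, -, b, hb, he⟩ := Groth.Agent.RootDLib.exists_sub_simple hΔ hp hpΔ
      have h1 := Groth.Agent.RootDLib.ht_pos hΔ hb
      have h2 : Groth.Agent.RootDLib.ht hΔ p = Groth.Agent.RootDLib.ht hΔ b + 1 := by
        rw [← Groth.Agent.RootDLib.ht_simple hΔ hi]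
        simp [Groth.Agent.RootDLib.ht, Groth.Agent.RootDLib.coeff_add hΔ he]
      rw [Groth.Agent.RootDLib.coeff_add hΔ he, map_add, ih _ (by omega) b hb rfl,
        Groth.Agent.RootDLib.coeff_simple hΔ hi, Finsupp.linearCombination_single, one_smul,
        hadd b i p he]
  refine ⟨φ, fun i => ?_, fun ψ hψ => ?_⟩
  · change Finsupp.linearCombination ℤ f (C _) = f i
    rw [← Groth.Agent.RootDLib.coeff_eq hΔ (hC _) (hCe _)]
    by_cases hi : i ∈ RootD.posOf P Δ
    · exact key i hi
    · have := key _ ((Groth.Agent.RootDLib.not_mem_posOf_iff hΔ).1 hi)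
      rw [Groth.Agent.RootDLib.coeff_ng, map_neg, hneg, neg_inj] at this
      exact this
  · refine AddMonoidHom.ext fun x => ?_
    change ψ x = Finsupp.linearCombination ℤ f (C x)
    have hx : x = Finsupp.linearCombination ℤ
        (fun i : ι => (⟨P.root i, Submodule.subset_span (Set.mem_range_self i)⟩ :
          Submodule.span ℤ (Set.range P.root))) (C x) := by
      apply Subtype.ext
      conv_lhs => rw [← hCe x]
      simp [Finsupp.linearCombination_apply, Finsupp.sum]
    conv_lhs => rw [hx]
    simp only [Finsupp.linearCombination_apply, Finsupp.sum, map_sum, map_zsmul, hψ]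

end Groth.Agent.S5465
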