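import Groth.Statements.S5467
import Groth.Agent.Lib.RootD.Simple
-- import your own Groth.Agent.* helpers here

set_option autoImplicit false
open RootD

namespace Groth.Agent.S5467

/-- For an indivisible positive non-simple root α there is a simple root β with (β^v, α) > 0 such that
s_β(α) is positive; its order relative to Δ is then smaller than that of α by (β^v, α). -/
theorem result {ι M N : Type*} [AddCommGroup M] [AddCommGroup N]
    (P : RootPairing ι ℤ M N) [Finite ι] (Δ : Set ι) (hΔ : RootD.IsSimpleSys P Δ)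
    (k : ι) (hk : k ∈ RootD.posOf P Δ) (hkΔ : k ∉ Δ) (hind : RootD.IsIndiv P k) :
    ∃ i ∈ Δ, 0 < P.pairing k i ∧ P.reflectionPerm i k ∈ RootD.posOf P Δ := by
  obtain ⟨i, hi, hpos, -⟩ := Groth.Agent.RootDLib.exists_sub_simple hΔ hk hkΔ
  exact ⟨i, hi, hpos, Groth.Agent.RootDLib.reflect_mem_posOf hi hk (fun h => hkΔ (h ▸ hi))
    (fun h => hind i h.symm) hΔ⟩

end Groth.Agent.S5467
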