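import Groth.Statements.S5468
import Groth.Agent.Lib.RootD.Basic
-- import your own Groth.Agent.* helpers here

set_option autoImplicit false
open RootD

namespace Groth.Agent.S5468

/-- Two roots whose reflections are distinct and commute are orthogonal. -/
theorem result {ι M N : Type*} [AddCommGroup M] [AddCommGroup N]
    (P : RootPairing ι ℤ M N) [Finite ι] (i j : ι)
    (hne : P.reflection i ≠ P.reflection j) (hc : Commute (P.reflection i) (P.reflection j)) :
    P.IsOrthogonal i j := by
  rw [Groth.Agent.RootDLib.isOrthogonal_iff]
  by_contra h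
  apply hne
  have hh : P.reflection i (P.reflection j (P.root i)) = P.reflection j (P.reflection i (P.root i)) :=
    LinearEquiv.congr_fun hc (P.root i)
  have e : ((2 : ℤ) * P.pairing i j) • P.root j = (P.pairing i j * P.pairing j i) • P.root i := by
    simp only [RootPairing.reflection_apply_root, map_sub, map_smul, map_neg,
      RootPairing.reflection_apply_self, smul_sub, smul_smul, neg_sub, RootPairing.pairing_same] at hh
    rw [mul_comm (2 : ℤ), mul_smul, two_smul, smul_add]
    linear_combination (norm := module) -hh
  have := Groth.Agent.RootDLib.torsionFree P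
  have e2 : (2 : ℤ) • P.root j = P.pairing j i • P.root i := by
    apply zsmul_right_injective h
    simp only [smul_smul]
    rwa [mul_comm (P.pairing i j) 2]
  apply LinearEquiv.ext
  have x : Unit := ()
  have hq : P.pairing j i ≠ 0 := fun h0 => by
    rw [h0, zero_smul, smul_eq_zero] at e2
    exact Groth.Agent.RootDLib.root_ne_zero P j (e2.resolve_left (by norm_num))
  have ex := congrArg (fun y => P.toLinearMap y (P.coroot j)) e2
  simp only [map_smul, LinearMap.smul_apply, RootPairing.root_coroot_eq_pairing,
    RootPairing.pairing_same, smul_eq_mul] at ex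
  clear x
  have := Groth.Agent.RootDLib.torsionFree' P
  have hrefl : ∀ (a b : ι) (c : ℤ), P.root b = c • P.root a →
      ∀ x, P.reflection b x = P.reflection a x := by
    intro a b c hab x
    have hcc : c • P.coroot b = P.coroot a := P.smul_coroot_eq_of_root_eq_smul a b c hab
    have hx : P.coroot' a x = c * P.coroot' b x := by simp [← hcc]
    rw [RootPairing.reflection_apply, RootPairing.reflection_apply, hab, hx, smul_smul, mul_comm]
  have hd : (P.pairing j i).natAbs ∣ 4 := by
    have : P.pairing j i ∣ 4 := ⟨P.pairing i j, by linarith⟩
    simpa using Int.natAbs_dvd_natAbs.2 this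
  have hle := Nat.le_of_dvd (by norm_num) hd
  intro x
  rcases (show P.pairing j i = 1 ∨ P.pairing j i = -1 ∨ P.pairing j i = 2 ∨ P.pairing j i = -2 ∨
      P.pairing j i = 4 ∨ P.pairing j i = -4 by
    generalize P.pairing j i = p at hd hle hq
    rcases Int.natAbs_eq p with hp | hp <;>
      interval_cases hn : p.natAbs <;> first | omega | (norm_num at hd)) with hp | hp | hp | hp | hp | hp <;>
    rw [hp] at e2
  · exact hrefl j i 2 (by rw [e2, one_smul]) x
  · exact hrefl j i (-2) (by rw [neg_smul, e2]; simp) x
  · exact (hrefl i j 1 (by rw [one_smul]; exact zsmul_right_injective (by norm_num) e2) x).symm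
  · exact (hrefl i j (-1) (zsmul_right_injective (by norm_num : (2 : ℤ) ≠ 0)
      (by simp only [e2, smul_smul]; norm_num)) x).symm
  · exact (hrefl i j 2 (zsmul_right_injective (by norm_num : (2 : ℤ) ≠ 0)
      (by simp only [e2, smul_smul]; norm_num)) x).symm
  · exact (hrefl i j (-2) (zsmul_right_injective (by norm_num : (2 : ℤ) ≠ 0)
      (by simp only [e2, smul_smul]; norm_num)) x).symm

end Groth.Agent.S5468
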