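import Groth.Statements.S5471
import Groth.Agent.Lib.RootD.Irred
-- import your own Groth.Agent.* helpers here

set_option autoImplicit false
open RootPairing
open scoped Pointwise
open RootD

namespace Groth.Agent.S5471

/-- In a reduced irreducible root datum the ratios of squared root lengths to the minimal one form one
of the sets {1}, {1, 2}, {1, 3}. -/
theorem result {ι M N : Type*} [AddCommGroup M] [AddCommGroup N]
    (P : RootPairing ι ℤ M N) [Finite ι] [Fintype ι] [Nonempty ι] [P.IsReduced]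
    (hirr : ∀ R' : Set ι, RootD.IsClosedSub P R' → RootD.IsSymmSub P R' → RootD.IsClosedSub P R'ᶜ →
      RootD.IsSymmSub P R'ᶜ → R' = ∅ ∨ R' = Set.univ)
    (i₀ : ι) (hmin : ∀ i : ι, P.RootForm (P.root i₀) (P.root i₀) ≤ P.RootForm (P.root i) (P.root i)) :
    (∀ i : ι, P.RootForm (P.root i) (P.root i) = P.RootForm (P.root i₀) (P.root i₀) ∨
        P.RootForm (P.root i) (P.root i) = 2 * P.RootForm (P.root i₀) (P.root i₀) ∨
        P.RootForm (P.root i) (P.root i) = 3 * P.RootForm (P.root i₀) (P.root i₀)) ∧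
      ¬ ((∃ i : ι, P.RootForm (P.root i) (P.root i) = 2 * P.RootForm (P.root i₀) (P.root i₀)) ∧
          ∃ j : ι, P.RootForm (P.root j) (P.root j) = 3 * P.RootForm (P.root i₀) (P.root i₀)) := by
  simp only [← Groth.Agent.RootDLib.form_eq] at hmin ⊢
  have no4 : ∀ a b : ι, (P.pairing a b).natAbs ≠ 4 := by
    intro a b
    have h := P.pairingIn_pairingIn_mem_set_of_isCrystal_of_isRed a b
    simp only [Groth.Agent.RootDLib.pairingIn_eq, Set.mem_insert_iff, Set.mem_singleton_iff,
      Prod.mk.injEq] at h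
    omega
  have h0 := Groth.Agent.RootDLib.form_root_pos P i₀
  have ratio : ∀ i, ∃ m : ℤ, (m = 1 ∨ m = 2 ∨ m = 3) ∧
      Groth.Agent.RootDLib.form P (P.root i) (P.root i) =
        m * Groth.Agent.RootDLib.form P (P.root i₀) (P.root i₀) := by
    intro i
    obtain ⟨m, hm, he, h4⟩ := Groth.Agent.RootDLib.length_ratio_of_irred hirr hmin i
    rcases hm with h | h | h | h
    · exact ⟨m, Or.inl h, he⟩
    · exact ⟨m, Or.inr (Or.inl h), he⟩
    · exact ⟨m, Or.inr (Or.inr h), he⟩
    · obtain ⟨a, b, hab⟩ := h4 h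
      exact absurd hab (no4 a b)
  refine ⟨fun i => ?_, ?_⟩
  · obtain ⟨m, rfl | rfl | rfl, he⟩ := ratio i
    · exact Or.inl (by rw [he, one_mul])
    · exact Or.inr (Or.inl he)
    · exact Or.inr (Or.inr he)
  · rintro ⟨⟨i, hi⟩, ⟨j, hj⟩⟩
    obtain ⟨g, -, hn⟩ := Groth.Agent.RootDLib.exists_translate_norh hirr j i
    obtain ⟨m, hm, he, -⟩ := Groth.Agent.RootDLib.length_ratio_of_norh hn
      (by rw [Groth.Agent.RootDLib.form_root_smul, hi, hj]; linarith)
    rw [Groth.Agent.RootDLib.form_root_smul, hi, hj] at he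
    rcases hm with rfl | rfl | rfl | rfl <;> linarith

end Groth.Agent.S5471
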