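import Groth.Statements.S5472
import Groth.Agent.Lib.RootD.Weyl
-- import your own Groth.Agent.* helpers here

set_option autoImplicit false
open RootPairing
open scoped Pointwise
open RootD

namespace Groth.Agent.S5472

/-- Let Δ be a system of simple roots (root-only sense), γ a positive root and α, β simple roots with
(γ, α^v) > 0 and (γ, β^v) ≥ 0 (equivalently: the order of s_α(γ) along Δ is smaller than that of γ,
and the order of s_β(γ) is at most that of γ). Then for every w in the group generated by s_α and
s_β the order of w(γ) along Δ is at most that of γ, and strictly smaller unless w ∈ {1, s_β}. The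
order is the sum of the coefficients along Δ; the conclusion is stated for the coefficient vector c
of γ - w(γ) along Δ: its coefficient sum is ≥ 0, and > 0 unless w = 1 or w = s_β. -/
theorem result {ι M N : Type*} [AddCommGroup M] [AddCommGroup N]
    (P : RootPairing ι ℤ M N) [Finite ι] (Δ : Set ι) (hΔ : RootD.IsSimpleSys P Δ)
    (k i j : ι) (hk : k ∈ RootD.posOf P Δ) (hi : i ∈ Δ) (hj : j ∈ Δ)
    (hα : 0 < P.pairing k i) (hβ : 0 ≤ P.pairing k j)
    (g : P.Aut) (hg : g ∈ Subgroup.closure {Equiv.reflection P i, Equiv.reflection P j})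
    (c : ι →₀ ℤ) (hc : ↑c.support ⊆ Δ)
    (hck : Finsupp.linearCombination ℤ P.root c = P.root k - P.root (g • k)) :
    0 ≤ c.sum (fun _ a => a) ∧ (g ≠ 1 → g ≠ Equiv.reflection P j → 0 < c.sum (fun _ a => a)) := by
  classical
  set T : Set ι := {i, j} with hT
  have hTΔ : T ⊆ Δ := Set.insert_subset hi (by simpa using hj)
  rw [show ({Equiv.reflection P i, Equiv.reflection P j} : Set P.Aut) =
    (fun a : ι => Equiv.reflection P a) '' T by rw [hT, Set.image_pair]] at hg
  obtain ⟨l, hl, rfl, hmin⟩ := Groth.Agent.RootDLib.exists_minimal_word hg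
  clear hg
  set L : (ι →₀ ℤ) →ₗ[ℤ] ℤ := Finsupp.linearCombination ℤ (fun _ => (1 : ℤ)) with hL
  suffices main : ∀ l : List ι, (∀ a ∈ l, a ∈ T) → (∀ l' : List ι, (∀ a ∈ l', a ∈ T) →
      Groth.Agent.RootDLib.wprod P l' = Groth.Agent.RootDLib.wprod P l → l.length ≤ l'.length) →
      0 ≤ Groth.Agent.RootDLib.ht hΔ k -
        Groth.Agent.RootDLib.ht hΔ (Groth.Agent.RootDLib.wprod P l • k) ∧
      (i ∈ l → 0 < Groth.Agent.RootDLib.ht hΔ k -
        Groth.Agent.RootDLib.ht hΔ (Groth.Agent.RootDLib.wprod P l • k)) by
    have hc' : c = Groth.Agent.RootDLib.coeff hΔ k -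
        Groth.Agent.RootDLib.coeff hΔ (Groth.Agent.RootDLib.wprod P l • k) := by
      refine Groth.Agent.RootDLib.coeff_unique hΔ hc ((Finset.coe_subset.2 Finsupp.support_sub).trans ?_)
        (by rw [hck, map_sub, Groth.Agent.RootDLib.coeff_sum, Groth.Agent.RootDLib.coeff_sum])
      rw [Finset.coe_union, Set.union_subset_iff]
      exact ⟨Groth.Agent.RootDLib.coeff_supp hΔ _, Groth.Agent.RootDLib.coeff_supp hΔ _⟩
    have hsum : c.sum (fun _ a => a) = Groth.Agent.RootDLib.ht hΔ k -
        Groth.Agent.RootDLib.ht hΔ (Groth.Agent.RootDLib.wprod P l • k) := by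
      rw [show c.sum (fun _ a => a) = L c by simp [hL, Finsupp.linearCombination_apply], hc', map_sub]
      rfl
    obtain ⟨h1, h2⟩ := main l hl hmin
    refine ⟨hsum ▸ h1, fun hne hnej => hsum ▸ h2 ?_⟩
    by_contra hil
    have hall : ∀ a ∈ l, a = j := fun a ha => by
      rcases hl a ha with h | h
      · exact absurd (h ▸ ha) hil
      · exact h
    match l, hall, hl, hmin, hne, hnej with
    | [], _, _, _, hne, _ => exact hne rfl
    | [a], hall, _, _, _, hnej => exact hnej (by simp [hall a (by simp)])
    | a :: b :: t, hall, hl, hmin, _, _ =>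
      have := hmin t (fun x hx => hl x (by simp [hx])) (by
        rw [Groth.Agent.RootDLib.wprod_cons, Groth.Agent.RootDLib.wprod_cons, hall a (by simp),
          hall b (by simp), ← mul_assoc, Groth.Agent.RootDLib.refl_mul_self, one_mul])
      simp at this
  intro l hl hmin
  induction l using List.reverseRecOn with
  | nil => simp
  | append_singleton t a ih =>
    have ha : a ∈ T := hl a (by simp)
    have hta : ∀ x ∈ t, x ∈ T := fun x hx => hl x (List.mem_append_left _ hx)
    obtain ⟨hp, -⟩ := Groth.Agent.RootDLib.minimal_last_neg hΔ hTΔ hta ha hmin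
    obtain ⟨i1, i2⟩ := ih hta fun l' hl' he => by
      have := hmin (l' ++ [a]) (fun x hx => by
        rcases List.mem_append.1 hx with hx | hx
        · exact hl' x hx
        · simp at hx; exact hx ▸ ha) (by simp [he])
      simp at this; omega
    set w := Groth.Agent.RootDLib.wprod P t
    have e : Groth.Agent.RootDLib.ht hΔ ((w * Equiv.reflection P a) • k) =
        Groth.Agent.RootDLib.ht hΔ (w • k) - P.pairing k a * Groth.Agent.RootDLib.ht hΔ (w • a) := by
      have e1 : Groth.Agent.RootDLib.coeff hΔ ((w * Equiv.reflection P a) • k) =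
          Groth.Agent.RootDLib.coeff hΔ (w • k) -
            P.pairing k a • Groth.Agent.RootDLib.coeff hΔ (w • a) := by
        refine Groth.Agent.RootDLib.coeff_eq hΔ ((Finset.coe_subset.2 Finsupp.support_sub).trans ?_) ?_
        · rw [Finset.coe_union, Set.union_subset_iff]
          exact ⟨Groth.Agent.RootDLib.coeff_supp hΔ _,
            (Finset.coe_subset.2 Finsupp.support_smul).trans (Groth.Agent.RootDLib.coeff_supp hΔ _)⟩
        · rw [map_sub, map_smul, Groth.Agent.RootDLib.coeff_sum, Groth.Agent.RootDLib.coeff_sum,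
            ← Groth.Agent.RootDLib.smul_root, ← Groth.Agent.RootDLib.smul_root,
            ← Groth.Agent.RootDLib.smul_root, mul_smul, Equiv.reflection_smul,
            RootPairing.reflection_apply_root, smul_sub, smul_comm]
      rw [Groth.Agent.RootDLib.ht, Groth.Agent.RootDLib.ht, Groth.Agent.RootDLib.ht, e1, map_sub,
        map_smul, smul_eq_mul]
    have hpw := Groth.Agent.RootDLib.ht_pos hΔ hp
    have hka : 0 ≤ P.pairing k a := by
      rcases ha with h | h
      · rw [h]; exact hα.le
      · rw [h]; exact hβ
    rw [Groth.Agent.RootDLib.wprod_append, Groth.Agent.RootDLib.wprod_cons,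
      Groth.Agent.RootDLib.wprod_nil, mul_one, e]
    refine ⟨by nlinarith, fun hi' => ?_⟩
    rcases List.mem_append.1 hi' with h | h
    · have := i2 h; nlinarith
    · simp at h; subst h; nlinarith

end Groth.Agent.S5472
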