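import Groth.Statements.S5473
import Groth.Agent.Lib.RootD.Weyl
-- import your own Groth.Agent.* helpers here

set_option autoImplicit false
open RootD

namespace Groth.Agent.S5473

/-- If a linear map f and its transpose g induce bijections from the roots of R' onto the roots of R and
from the coroots of R onto the coroots of R' respectively (a morphism of root data in the
two-bijection sense), then the two bijections correspond: the coroot of α' is g applied to the
coroot of f(α'). -/
theorem result {ι M N ι' M' N' : Type*} [AddCommGroup M] [AddCommGroup N] [AddCommGroup M'] [AddCommGroup N']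
    (P : RootPairing ι ℤ M N) (P' : RootPairing ι' ℤ M' N') [Finite ι] [Finite ι']
    (f : M' →ₗ[ℤ] M) (g : N →ₗ[ℤ] N') (hfg : ∀ (m' : M') (n : N), P.toLinearMap (f m') n = P'.toLinearMap m' (g n))
    (e : ι' ≃ ι) (he : ∀ i' : ι', f (P'.root i') = P.root (e i'))
    (e' : ι ≃ ι') (he' : ∀ i : ι, g (P.coroot i) = P'.coroot (e' i)) :
    ∀ i' : ι', g (P.coroot (e i')) = P'.coroot i' := by
  intro i'
  obtain ⟨j, hj⟩ : ∃ j, g (P.coroot (e i')) = P'.coroot j := ⟨_, he' _⟩
  rw [hj]
  have hinj : ∀ v ∈ Submodule.span ℤ (Set.range P'.root), f v = 0 → v = 0 := by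
    intro v hv h0
    refine Groth.Agent.RootDLib.form_eq_zero_of_forall P' hv fun k => ?_
    change P'.toLinearMap v (P'.coroot k) = 0
    rw [← e'.apply_symm_apply k, ← he', ← hfg, h0, map_zero, LinearMap.zero_apply]
  have tf := Groth.Agent.RootDLib.torsionFree P'
  refine P'.injOn_dualMap_subtype_span_root_coroot (Set.mem_range_self _) (Set.mem_range_self _) ?_
  refine Module.Dual.eq_of_preReflection_mapsTo' (Set.finite_range P'.root)
    (Submodule.subset_span (Set.mem_range_self i')) ?_ ?_ ?_ (P'.mapsTo_reflection_root i')
  · change P'.toLinearMap (P'.root i') (P'.coroot j) = 2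
    rw [← hj, ← hfg, he]
    exact P.root_coroot_two _
  · rintro _ ⟨k, rfl⟩
    refine ⟨e.symm (P.reflectionPerm (e i') (e k)), ?_⟩
    set y : M' := Module.preReflection (P'.root i') (P'.toLinearMap.flip (P'.coroot j)) (P'.root k)
      with hy
    have hspan : P'.root (e.symm (P.reflectionPerm (e i') (e k))) - y ∈
        Submodule.span ℤ (Set.range P'.root) := by
      rw [hy, Module.preReflection_apply]
      exact sub_mem (Groth.Agent.RootDLib.root_mem P' _)
        (sub_mem (Groth.Agent.RootDLib.root_mem P' _)
          (Submodule.smul_mem _ _ (Groth.Agent.RootDLib.root_mem P' _)))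
    refine sub_eq_zero.1 (hinj _ hspan ?_)
    rw [map_sub, he, Equiv.apply_symm_apply, hy, Module.preReflection_apply, map_sub, map_smul,
      he, he, RootPairing.root_reflectionPerm, RootPairing.reflection_apply_root]
    change _ - (_ - P'.toLinearMap (P'.root k) (P'.coroot j) • _) = 0
    rw [← hj, ← hfg, he]
    simp
  · exact P'.coroot_root_two i'

end Groth.Agent.S5473
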