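import Groth.Statements.S5474
import Mathlib.LinearAlgebra.FreeModule.Finite.Quotient
import Groth.Agent.Lib.RootD.Basic
-- import your own Groth.Agent.* helpers here

set_option autoImplicit false
open RootD

namespace Groth.Agent.S5474

/-- Every morphism between semisimple root data is an isogeny (injective on weight lattices with finite
cokernel). -/
theorem result {ι M N ι' M' N' : Type*} [AddCommGroup M] [AddCommGroup N] [AddCommGroup M'] [AddCommGroup N']
    (P : RootPairing ι ℤ M N) (P' : RootPairing ι' ℤ M' N') [Finite ι] [Finite ι']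
    [Module.Finite ℤ M] [Module.Finite ℤ N] [Module.Finite ℤ M'] [Module.Finite ℤ N']
    (hss : Module.finrank ℤ (Submodule.span ℤ (Set.range P.root)) = Module.finrank ℤ M)
    (hss' : Module.finrank ℤ (Submodule.span ℤ (Set.range P'.root)) = Module.finrank ℤ M')
    (f : RootPairing.Hom P' P) :
    Function.Injective f.weightMap ∧ Finite (M ⧸ LinearMap.range f.weightMap) := by
  classical
  have tfM' := Groth.Agent.RootDLib.torsionFree P'
  have : Module.IsReflexive ℤ M := .of_isPerfPair P.toLinearMap
  have : Module.IsReflexive ℤ M' := .of_isPerfPair P'.toLinearMap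
  have hfin' : Finite (M' ⧸ Submodule.span ℤ (Set.range P'.root)) :=
    (Submodule.finiteQuotient_iff _).2 hss'
  refine ⟨?_, ?_⟩
  · rw [← LinearMap.ker_eq_bot, Submodule.eq_bot_iff]
    intro m hm
    rw [LinearMap.mem_ker] at hm
    set n := Nat.card (M' ⧸ Submodule.span ℤ (Set.range P'.root))
    have hn : n • m ∈ Submodule.span ℤ (Set.range P'.root) :=
      AddSubgroup.nsmul_index_mem (Submodule.span ℤ (Set.range P'.root)).toAddSubgroup m
    have h0 : n • m = 0 := by
      refine Groth.Agent.RootDLib.form_eq_zero_of_forall P' hn fun j => ?_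
      have h1 := LinearMap.congr_fun
        (RootPairing.Hom.weight_coweight_transpose_apply P' P (P.coroot (f.indexEquiv j)) f) (n • m)
      rw [RootPairing.Hom.coroot_coweightMap_apply, Equiv.symm_apply_apply] at h1
      change P.toLinearMap (f.weightMap (n • m)) (P.coroot (f.indexEquiv j)) =
        P'.toLinearMap (n • m) (P'.coroot j) at h1
      change P'.toLinearMap (n • m) (P'.coroot j) = 0
      rw [← h1, map_nsmul, hm, smul_zero, map_zero, LinearMap.zero_apply]
    rw [nsmul_eq_zero_iff] at h0
    refine h0.resolve_right ?_
    exact Nat.card_pos.ne'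
  · have hfin : Finite (M ⧸ Submodule.span ℤ (Set.range P.root)) :=
      (Submodule.finiteQuotient_iff _).2 hss
    have hle : Submodule.span ℤ (Set.range P.root) ≤ LinearMap.range f.weightMap :=
      Submodule.span_le.2 (by
        rintro _ ⟨i, rfl⟩
        exact ⟨P'.root (f.indexEquiv.symm i), by
          rw [RootPairing.Hom.root_weightMap_apply, Equiv.apply_symm_apply]⟩)
    exact Finite.of_surjective _ (Submodule.factor_surjective hle)

end Groth.Agent.S5474
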