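import Groth.Statements.S5475
import Groth.Agent.Lib.RootD.Weyl
-- import your own Groth.Agent.* helpers here

set_option autoImplicit false
open RootD

namespace Groth.Agent.S5475

/-- In an adjoint root datum every indivisible root is an indivisible element of the weight lattice. -/
theorem result {ι M N : Type*} [AddCommGroup M] [AddCommGroup N]
    (P : RootPairing ι ℤ M N) [Finite ι] (had : Submodule.span ℤ (Set.range P.root) = ⊤)
    (i : ι) (hind : RootD.IsIndiv P i) (m : M) (n : ℤ) (h : n • m = P.root i) : n = 1 ∨ n = -1 := by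
  obtain ⟨Δ, hΔ, hiΔ⟩ := Groth.Agent.RootDLib.exists_simpleSys_mem hind
  classical
  have htop : Submodule.span ℤ (P.root '' Δ) = ⊤ := by
    rw [eq_top_iff, ← had, Submodule.span_le]
    rintro _ ⟨k, rfl⟩
    rcases hΔ.mem_or_neg_mem k with h | h
    · exact Groth.Agent.RootDLib.natSpan_le_span P Δ h
    · exact neg_mem_iff.1 (Groth.Agent.RootDLib.natSpan_le_span P Δ h)
  obtain ⟨c, hc, he⟩ := (Finsupp.mem_span_image_iff_linearCombination ℤ).1
    (htop ▸ Submodule.mem_top : m ∈ Submodule.span ℤ (P.root '' Δ))
  rw [Finsupp.mem_supported] at hc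
  have h1 := Groth.Agent.RootDLib.coeff_unique hΔ (c := n • c) (d := Finsupp.single i 1)
    ((Finset.coe_subset.2 Finsupp.support_smul).trans hc)
    ((Finset.coe_subset.2 Finsupp.support_single_subset).trans (by simpa using hiΔ))
    (by rw [map_smul, he, h, Finsupp.linearCombination_single, one_smul])
  have h2 : n * c i = 1 := by simpa using DFunLike.congr_fun h1 i
  exact Int.eq_one_or_neg_one_of_mul_eq_one h2

end Groth.Agent.S5475
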