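import Groth.Statements.S5476
import Groth.Agent.Lib.RootD.Basic
-- import your own Groth.Agent.* helpers here

set_option autoImplicit false
open RootD

namespace Groth.Agent.S5476

lemma finrank_iInf_ker_add {ι M N : Type*} [Fintype ι] [AddCommGroup M] [AddCommGroup N]
    (P : RootPairing ι ℤ M N) [Module.Finite ℤ M] :
    Module.finrank ℤ (⨅ i : ι, LinearMap.ker (P.coroot' i) : Submodule ℤ M) +
      Module.finrank ℤ (Submodule.span ℤ (Set.range P.root)) = Module.finrank ℤ M := by
  have : Module.IsReflexive ℤ M := .of_isPerfPair P.toLinearMap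
  set T : M →ₗ[ℤ] Module.Dual ℤ (P.corootSpan ℤ) :=
    (Submodule.subtype _).dualMap ∘ₗ P.toLinearMap with hT
  have hker : LinearMap.ker T = ⨅ i : ι, LinearMap.ker (P.coroot' i) := by
    ext m
    simp only [LinearMap.mem_ker, Submodule.mem_iInf]
    refine ⟨fun h i => LinearMap.congr_fun h ⟨_, Submodule.subset_span ⟨i, rfl⟩⟩, fun h => ?_⟩
    refine LinearMap.ext fun ⟨y, hy⟩ => ?_
    change P.toLinearMap m y = 0
    have hle : Submodule.span ℤ (Set.range P.coroot) ≤ LinearMap.ker (P.toLinearMap m) :=
      Submodule.span_le.2 (by rintro _ ⟨i, rfl⟩; exact h i)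
    exact hle hy
  have hfin : Module.Finite ℤ (P.corootSpan ℤ) := .span_of_finite _ (Set.finite_range _)
  have hfree : Module.IsTorsionFree ℤ (P.corootSpan ℤ) := by
    have : Module.IsReflexive ℤ N := .of_isPerfPair P.flip.toLinearMap
    infer_instance
  have h1 : Module.finrank ℤ (LinearMap.range T) = Module.finrank ℤ (P.rootSpan ℤ) := by
    refine le_antisymm ?_ ?_
    · refine (Submodule.finrank_le _).trans (le_of_eq ?_)
      rw [(Module.Free.chooseBasis ℤ (P.corootSpan ℤ)).toDualEquiv.finrank_eq.symm,
        RootPairing.finrank_corootSpan_eq' P]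
    · refine LinearMap.finrank_le_finrank_of_injective
        (f := (T.rangeRestrict).comp (Submodule.subtype (P.rootSpan ℤ))) ?_
      rw [← LinearMap.ker_eq_bot, Submodule.eq_bot_iff]
      intro x hx
      refine Subtype.ext (Groth.Agent.RootDLib.form_eq_zero_of_forall P x.2 fun i => ?_)
      exact LinearMap.congr_fun (congrArg Subtype.val hx) ⟨_, Submodule.subset_span ⟨i, rfl⟩⟩
  have h2 := (LinearMap.ker T).finrank_quotient_add_finrank
  rw [T.quotKerEquivRange.finrank_eq, h1, hker] at h2
  rw [← h2, add_comm]

/-- The lattice of the coradical (weights killed by every coroot) and the lattice of the radical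
(coweights killed by every root) both have rank rgred - rgss, the rank of the weight lattice minus
the rank of the lattice generated by the roots; and the datum is semisimple (the roots span a
sublattice of full rank) if and only if the coradical lattice vanishes, if and only if the radical
lattice vanishes. -/
theorem result {ι M N : Type*} [AddCommGroup M] [AddCommGroup N]
    (P : RootPairing ι ℤ M N) [Finite ι] [Module.Finite ℤ M] [Module.Finite ℤ N] :
    (Module.finrank ℤ (⨅ i : ι, LinearMap.ker (P.coroot' i) : Submodule ℤ M) +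
        Module.finrank ℤ (Submodule.span ℤ (Set.range P.root)) = Module.finrank ℤ M) ∧
      (Module.finrank ℤ (⨅ i : ι, LinearMap.ker (P.root' i) : Submodule ℤ N) +
        Module.finrank ℤ (Submodule.span ℤ (Set.range P.root)) = Module.finrank ℤ M) ∧
      (Module.finrank ℤ (Submodule.span ℤ (Set.range P.root)) = Module.finrank ℤ M ↔
        (⨅ i : ι, LinearMap.ker (P.coroot' i) : Submodule ℤ M) = ⊥) ∧
      (Module.finrank ℤ (Submodule.span ℤ (Set.range P.root)) = Module.finrank ℤ M ↔
        (⨅ i : ι, LinearMap.ker (P.root' i) : Submodule ℤ N) = ⊥) := by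
  classical
  let _ := Fintype.ofFinite ι
  have hMN : Module.finrank ℤ N = Module.finrank ℤ M := by
    have : Module.IsReflexive ℤ M := .of_isPerfPair P.toLinearMap
    rw [P.flip.toPerfPair.finrank_eq,
      (Module.Free.chooseBasis ℤ M).toDualEquiv.finrank_eq]
  have h1 := finrank_iInf_ker_add P
  have h2 := finrank_iInf_ker_add P.flip
  rw [show Module.finrank ℤ (Submodule.span ℤ (Set.range P.flip.root)) =
    Module.finrank ℤ (P.rootSpan ℤ) from RootPairing.finrank_corootSpan_eq' P, hMN] at h2
  have h2' : Module.finrank ℤ (⨅ i : ι, LinearMap.ker (P.root' i) : Submodule ℤ N) +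
      Module.finrank ℤ (Submodule.span ℤ (Set.range P.root)) = Module.finrank ℤ M := h2
  refine ⟨h1, h2', ?_, ?_⟩
  · have : Module.IsReflexive ℤ M := .of_isPerfPair P.toLinearMap
    rw [← Submodule.finrank_eq_zero]
    omega
  · have : Module.IsReflexive ℤ N := .of_isPerfPair P.flip.toLinearMap
    rw [← Submodule.finrank_eq_zero]
    omega

end Groth.Agent.S5476
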