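import Groth.Statements.S5477
import Groth.Agent.Lib.RootD.Dual
-- import your own Groth.Agent.* helpers here

set_option autoImplicit false
open RootPairing
open scoped Pointwise
open RootD

namespace Groth.Agent.S5477

/-- An automorphism of a root datum acting trivially on the radical (u(m) - m in the rational span of
the roots for all m) is determined by its action on the roots: if it fixes every root it is the
identity. -/
theorem result {ι M N : Type*} [AddCommGroup M] [AddCommGroup N]
    (P : RootPairing ι ℤ M N) [Finite ι] (u : P.Aut)
    (hs : ∀ m : M, ∃ n : ℕ, 0 < n ∧ n • (u • m - m) ∈ Submodule.span ℤ (Set.range P.root))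
    (hfix : ∀ i : ι, u • i = i) : u = 1 := by
  refine Groth.Agent.RootDLib.aut_ext fun m => ?_
  obtain ⟨n, hn, h⟩ := hs m
  rw [one_smul]
  exact Groth.Agent.RootDLib.smul_sub_eq_zero hfix h hn

end Groth.Agent.S5477
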