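import Groth.Statements.S5478
import Groth.Agent.Lib.RootD.Dual
-- import your own Groth.Agent.* helpers here

set_option autoImplicit false
open RootPairing
open scoped Pointwise
open RootD

namespace Groth.Agent.S5478

/-- The group of automorphisms of a root datum that act trivially on the radical is finite. -/
theorem result {ι M N : Type*} [AddCommGroup M] [AddCommGroup N]
    (P : RootPairing ι ℤ M N) [Finite ι] :
    Set.Finite {u : P.Aut | ∀ m : M, ∃ n : ℕ, 0 < n ∧ n • (u • m - m) ∈ Submodule.span ℤ (Set.range P.root)} := by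
  have hroot : ∀ (u : P.Aut) (x : M), x ∈ Submodule.span ℤ (Set.range P.root) →
      u • x ∈ Submodule.span ℤ (Set.range P.root) := by
    intro u x hx
    induction hx using Submodule.span_induction with
    | mem y hy => obtain ⟨i, rfl⟩ := hy; exact Submodule.subset_span
                    ⟨u • i, (Groth.Agent.RootDLib.smul_root u i).symm⟩
    | zero => rw [smul_zero]; exact zero_mem _
    | add y z _ _ hy hz => rw [smul_add]; exact add_mem hy hz
    | smul z y _ hy => rw [smul_comm]; exact Submodule.smul_mem _ z hy
  refine Set.Finite.of_finite_image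
    (f := fun u : P.Aut => RootPairing.Equiv.indexHom P u) (Set.toFinite _) ?_
  intro u hu v hv h
  simp only [] at h
  have hfix : ∀ i : ι, (u⁻¹ * v) • i = i := fun i => by
    rw [mul_smul]
    have : u • i = v • i := congrFun (congrArg DFunLike.coe h) i
    rw [← this, inv_smul_smul]
  refine eq_of_inv_mul_eq_one (Groth.Agent.RootDLib.aut_ext fun m => ?_)
  obtain ⟨n, hn, h1⟩ := hu m
  obtain ⟨n', hn', h2⟩ := hv m
  rw [one_smul]
  refine Groth.Agent.RootDLib.smul_sub_eq_zero hfix (n := n * n') ?_ (Nat.mul_pos hn hn')
  have : (u⁻¹ * v) • m - m = u⁻¹ • ((v • m - m) - (u • m - m)) := by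
    rw [sub_sub_sub_cancel_right, smul_sub, inv_smul_smul, mul_smul]
  rw [this, smul_comm (n * n') u⁻¹]
  refine hroot _ _ ?_
  rw [smul_sub]
  refine sub_mem ?_ ?_
  · rw [mul_smul]; exact nsmul_mem h2 n
  · rw [mul_comm, mul_smul]; exact nsmul_mem h1 n'

end Groth.Agent.S5478
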