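import Groth.Statements.S5479
import Groth.Agent.Lib.RootD.Weyl
-- import your own Groth.Agent.* helpers here

set_option autoImplicit false
open RootPairing
open scoped Pointwise
open RootD

namespace Groth.Agent.S5479

/-- Aut(R) is the semidirect product of the Weyl group by the stabiliser E_Δ of a system of simple
roots: every automorphism is uniquely w · e with w ∈ W and e(Δ) = Δ. -/
theorem result {ι M N : Type*} [AddCommGroup M] [AddCommGroup N]
    (P : RootPairing ι ℤ M N) [Finite ι] (Δ : Set ι) (hΔ : RootD.IsSimpleSys P Δ) (u : P.Aut) :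
    ∃! w : P.weylGroup, (fun i : ι => ((w : P.Aut)⁻¹ * u) • i) '' Δ = Δ := by
  obtain ⟨g, hg, he⟩ := Groth.Agent.RootDLib.exists_weyl_image_simple hΔ
    (Groth.Agent.RootDLib.isSimpleSys_image u hΔ)
  refine ⟨⟨g, hg⟩, ?_, fun w hw => ?_⟩
  · simp only [mul_smul]
    rw [← Set.image_image (fun i : ι => g⁻¹ • i) (fun i : ι => u • i), ← he, Set.image_image]
    simp
  · apply Subtype.ext
    refine (eq_of_inv_mul_eq_one (Groth.Agent.RootDLib.eq_one_of_mapsTo hΔ
      (mul_mem (inv_mem w.2) hg) fun a ha => ?_))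
    obtain ⟨b, hb, hab⟩ := he.le ⟨a, ha, rfl⟩
    refine Groth.Agent.RootDLib.mem_posOf_of_mem ?_
    rw [← hw]
    refine ⟨b, hb, ?_⟩
    simp only [mul_smul] at hab ⊢
    rw [hab]

end Groth.Agent.S5479
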