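import Groth.Statements.S5480
import Groth.Agent.Lib.RootD.PMor
-- import your own Groth.Agent.* helpers here

set_option autoImplicit false
open RootD

namespace Groth.Agent.S5480

/-- For a p-morphism of reduced root data with root bijection u and radicial exponents q: (a) for all
roots α, β one has q(s_α(β)) = q(β) and u(s_α(β)) = s_{u(α)}(u(β)); (b) the exponents are invariant
under the Weyl group, q(w(α)) = q(α); (c) there is an isomorphism ū from the Weyl group of the first
datum to that of the second with ū(s_α) = s_{u(α)} and u(w(α)) = ū(w)(u(α)) for every Weyl group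
element w and every root α. -/
theorem result {ι M N ι' M' N' : Type*} [AddCommGroup M] [AddCommGroup N] [AddCommGroup M'] [AddCommGroup N']
    (P : RootPairing ι ℤ M N) (P' : RootPairing ι' ℤ M' N') [Finite ι] [Finite ι'] [P.IsReduced] [P'.IsReduced]
    (p : ℕ) (hp : 0 < p) (f : M' →ₗ[ℤ] M) (g : N →ₗ[ℤ] N')
    (hfg : ∀ (m' : M') (n : N), P.toLinearMap (f m') n = P'.toLinearMap m' (g n))
    (u : ι ≃ ι') (q : ι → ℕ) (hq : ∀ i, ∃ e : ℕ, q i = p ^ e)
    (hroot : ∀ i : ι, f (P'.root (u i)) = (q i : ℤ) • P.root i)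
    (hcoroot : ∀ i : ι, g (P.coroot i) = (q i : ℤ) • P'.coroot (u i)) :
    (∀ i j : ι, q (P.reflectionPerm i j) = q j ∧ u (P.reflectionPerm i j) = P'.reflectionPerm (u i) (u j)) ∧
      (∀ w ∈ P.weylGroup, ∀ i : ι, q (w • i) = q i) ∧
      ∃ ubar : P.weylGroup ≃* P'.weylGroup,
        (∀ i : ι, ubar (RootPairing.weylGroup.ofIdx P i) = RootPairing.weylGroup.ofIdx P' (u i)) ∧
        ∀ (w : P.weylGroup) (i : ι), u ((w : P.Aut) • i) = ((ubar w : P'.weylGroup) : P'.Aut) • u i := by
  have hq0 : ∀ i, 0 < q i := fun i => by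
    obtain ⟨e, he⟩ := hq i
    rw [he]; positivity
  have h1 := Groth.Agent.RootDLib.pmor_reflectionPerm hfg hroot hcoroot hq0
  have h2 : ∀ w ∈ P.weylGroup, ∀ i : ι, q (w • i) = q i := by
    intro w hw
    rw [Groth.Agent.RootDLib.weylGroup_eq_closure] at hw
    obtain ⟨l, -, rfl⟩ := Groth.Agent.RootDLib.exists_word hw
    clear hw
    intro i
    induction l with
    | nil => simp
    | cons a t ih =>
      rw [Groth.Agent.RootDLib.wprod_cons, mul_smul, Groth.Agent.RootDLib.refl_smul, (h1 a _).1, ih]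
  refine ⟨h1, h2, ?_⟩
  have hmem : ∀ (Q : RootPairing ι' ℤ M' N') (l : List ι'),
      Groth.Agent.RootDLib.wprod Q l ∈ Q.weylGroup := fun Q l => by
    rw [Groth.Agent.RootDLib.weylGroup_eq_closure]
    exact Groth.Agent.RootDLib.wprod_mem fun a _ => Set.mem_univ a
  have hmem0 : ∀ (l : List ι), Groth.Agent.RootDLib.wprod P l ∈ P.weylGroup := fun l => by
    rw [Groth.Agent.RootDLib.weylGroup_eq_closure]
    exact Groth.Agent.RootDLib.wprod_mem fun a _ => Set.mem_univ a
  have htrans : ∀ (l : List ι) (i : ι), u (Groth.Agent.RootDLib.wprod P l • i) =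
      Groth.Agent.RootDLib.wprod P' (l.map u) • u i := by
    intro l i
    induction l with
    | nil => simp
    | cons a t ih =>
      rw [List.map_cons, Groth.Agent.RootDLib.wprod_cons, Groth.Agent.RootDLib.wprod_cons, mul_smul,
        mul_smul, Groth.Agent.RootDLib.refl_smul, Groth.Agent.RootDLib.refl_smul, (h1 a _).2, ih]
  have hex : ∀ w : P.weylGroup, ∃ w' : P'.weylGroup,
      ∀ i, u ((w : P.Aut) • i) = (w' : P'.Aut) • u i := by
    rintro ⟨w, hw⟩
    rw [Groth.Agent.RootDLib.weylGroup_eq_closure] at hw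
    obtain ⟨l, -, rfl⟩ := Groth.Agent.RootDLib.exists_word hw
    exact ⟨⟨_, hmem P' (l.map u)⟩, htrans l⟩
  choose φ hφ using hex
  have huniq : ∀ (a b : P'.weylGroup), (∀ i, (a : P'.Aut) • u i = (b : P'.Aut) • u i) → a = b :=
    fun a b h => Subtype.ext (Groth.Agent.RootDLib.weyl_ext a.2 b.2 fun k => by simpa using h (u.symm k))
  let φh : P.weylGroup →* P'.weylGroup := MonoidHom.mk' φ fun a b => huniq _ _ fun i => by
    rw [← hφ, Subgroup.coe_mul, Subgroup.coe_mul, mul_smul, mul_smul, hφ, hφ]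
  have hbij : Function.Bijective φh := by
    refine ⟨fun a b h => Subtype.ext (Groth.Agent.RootDLib.weyl_ext a.2 b.2 fun i => ?_), fun w' => ?_⟩
    · apply u.injective
      rw [hφ, hφ]
      exact congrArg (fun x : P'.weylGroup => (x : P'.Aut) • u i) h
    · obtain ⟨w', hw'⟩ := w'
      have hw := hw'
      rw [Groth.Agent.RootDLib.weylGroup_eq_closure] at hw
      obtain ⟨l, -, hl⟩ := Groth.Agent.RootDLib.exists_word hw
      refine ⟨⟨_, hmem0 (l.map u.symm)⟩, huniq _ _ fun i => ?_⟩
      change (φ _ : P'.Aut) • u i = w' • u i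
      rw [← hφ, htrans, List.map_map, u.self_comp_symm, List.map_id, hl]
  refine ⟨MulEquiv.ofBijective φh hbij, fun i => huniq _ _ fun k => ?_, fun w i => hφ w i⟩
  change (φ _ : P'.Aut) • u k = _
  rw [← hφ]
  exact (h1 i k).2

end Groth.Agent.S5480
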