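import Groth.Statements.S5481
import Groth.Agent.Lib.RootD.PMor
import Groth.Agent.Lib.RootD.Dual
-- import your own Groth.Agent.* helpers here

set_option autoImplicit false
open RootD

namespace Groth.Agent.S5481

/-- The root bijection u of a p-morphism of reduced root data carries systems of simple roots onto
systems of simple roots and systems of positive roots onto systems of positive roots, bijectively. -/
theorem result {ι M N ι' M' N' : Type*} [AddCommGroup M] [AddCommGroup N] [AddCommGroup M'] [AddCommGroup N']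
    (P : RootPairing ι ℤ M N) (P' : RootPairing ι' ℤ M' N') [Finite ι] [Finite ι'] [P.IsReduced] [P'.IsReduced]
    (p : ℕ) (hp : 0 < p) (f : M' →ₗ[ℤ] M) (g : N →ₗ[ℤ] N')
    (hfg : ∀ (m' : M') (n : N), P.toLinearMap (f m') n = P'.toLinearMap m' (g n))
    (u : ι ≃ ι') (q : ι → ℕ) (hq : ∀ i, ∃ e : ℕ, q i = p ^ e)
    (hroot : ∀ i : ι, f (P'.root (u i)) = (q i : ℤ) • P.root i)
    (hcoroot : ∀ i : ι, g (P.coroot i) = (q i : ℤ) • P'.coroot (u i)) (Δ : Set ι) :
    (RootD.IsSimpleSys P Δ ↔ RootD.IsSimpleSys P' (u '' Δ)) ∧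
      (RootD.IsPosSys P Δ ↔ RootD.IsPosSys P' (u '' Δ)) := by
  classical
  let _ := Fintype.ofFinite ι
  have hq0 : ∀ i, 0 < q i := fun i => by
    obtain ⟨e, he⟩ := hq i
    rw [he]; positivity
  have tfM := Groth.Agent.RootDLib.torsionFree P
  have hindP : ∀ x, RootD.IsIndiv P x := fun x => by
    by_contra hc
    obtain ⟨y, -, hy⟩ := Groth.Agent.RootDLib.exists_half P hc
    exact P.nsmul_notMem_range_root (i := y) (n := 2) ⟨x, by rw [hy, ← natCast_zsmul]; rfl⟩
  have tfM' := Groth.Agent.RootDLib.torsionFree P'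
  have hindP' : ∀ x, RootD.IsIndiv P' x := fun x => by
    by_contra hc
    obtain ⟨y, -, hy⟩ := Groth.Agent.RootDLib.exists_half P' hc
    exact P'.nsmul_notMem_range_root (i := y) (n := 2) ⟨x, by rw [hy, ← natCast_zsmul]; rfl⟩
  have hung : ∀ i, u (Groth.Agent.RootDLib.ng P i) = Groth.Agent.RootDLib.ng P' (u i) := fun i =>
    (Groth.Agent.RootDLib.pmor_reflectionPerm hfg hroot hcoroot hq0 i i).2
  have hinj : ∀ v ∈ Submodule.span ℤ (Set.range P'.root), f v = 0 → v = 0 := by
    intro v hv h0
    refine Groth.Agent.RootDLib.form_eq_zero_of_forall P' hv fun k => ?_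
    have := hfg v (P.coroot (u.symm k))
    rw [h0, hcoroot, map_zero, LinearMap.zero_apply, Equiv.apply_symm_apply, map_smul, smul_eq_mul,
      eq_comm, mul_eq_zero] at this
    exact this.resolve_left (by exact_mod_cast (hq0 _).ne')
  set Q : ℕ := ∏ i, q i with hQ
  have hQ0 : 0 < Q := Finset.prod_pos fun i _ => hq0 i
  have hQd : ∀ i, ∃ r : ℕ, 0 < r ∧ Q = r * q i := fun i => by
    obtain ⟨r, hr⟩ := Finset.dvd_prod_of_mem q (Finset.mem_univ i)
    rw [← hQ, mul_comm] at hr
    exact ⟨r, Nat.pos_of_ne_zero fun h => by rw [h, zero_mul] at hr; omega, hr⟩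
  -- transport of the rational cones
  have fwd : ∀ (T : Set ι) (n : ℕ) (k : ι), n • P.root k ∈ RootD.natSpan P T → 0 < n →
      ∃ n' : ℕ, 0 < n' ∧ n' • P'.root (u k) ∈ RootD.natSpan P' (u '' T) := by
    intro T n k hk hn
    have : ∀ x ∈ RootD.natSpan P T, ∃ y ∈ RootD.natSpan P' (u '' T), f y = Q • x := by
      intro x hx
      induction hx using AddSubmonoid.closure_induction with
      | mem z hz =>
        obtain ⟨a, ha, rfl⟩ := hz
        obtain ⟨r, -, hr⟩ := hQd a
        refine ⟨r • P'.root (u a), nsmul_mem (Groth.Agent.RootDLib.root_mem_natSpan P' (Set.mem_image_of_mem u ha)) r, ?_⟩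
        rw [map_nsmul, hroot, natCast_zsmul, smul_smul, ← hr]
      | zero => exact ⟨0, zero_mem _, by simp⟩
      | add a b _ _ ha hb =>
        obtain ⟨y, hy, e⟩ := ha
        obtain ⟨z, hz, e'⟩ := hb
        exact ⟨y + z, add_mem hy hz, by rw [map_add, e, e', smul_add]⟩
    obtain ⟨y, hy, e⟩ := this _ hk
    obtain ⟨r, hr0, hr⟩ := hQd k
    refine ⟨n * r, Nat.mul_pos hn hr0, ?_⟩
    have h0 : (n * r) • P'.root (u k) - y = 0 := by
      refine hinj _ (sub_mem (nsmul_mem (Groth.Agent.RootDLib.root_mem P' _) _) ?_) ?_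
      · exact (Submodule.span_mono (Set.image_subset_range _ _)) (Groth.Agent.RootDLib.natSpan_le_span P' _ hy)
      · rw [map_sub, map_nsmul, hroot, e, natCast_zsmul, smul_smul, smul_smul, mul_assoc, ← hr,
          mul_comm, sub_self]
    rwa [sub_eq_zero.1 h0]
  have bwd : ∀ (T : Set ι) (n : ℕ) (k : ι), n • P'.root (u k) ∈ RootD.natSpan P' (u '' T) → 0 < n →
      ∃ n' : ℕ, 0 < n' ∧ n' • P.root k ∈ RootD.natSpan P T := by
    intro T n k hk hn
    have : ∀ y ∈ RootD.natSpan P' (u '' T), f y ∈ RootD.natSpan P T := by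
      intro y hy
      induction hy using AddSubmonoid.closure_induction with
      | mem z hz =>
        obtain ⟨_, ⟨a, ha, rfl⟩, rfl⟩ := hz
        rw [hroot, natCast_zsmul]
        exact nsmul_mem (Groth.Agent.RootDLib.root_mem_natSpan P ha) _
      | zero => rw [map_zero]; exact zero_mem _
      | add a b _ _ ha hb => rw [map_add]; exact add_mem ha hb
    refine ⟨n * q k, Nat.mul_pos hn (hq0 k), ?_⟩
    have := this _ hk
    rwa [map_nsmul, hroot, natCast_zsmul, smul_smul] at this
  refine ⟨⟨fun h => ?_, fun h => ?_⟩, ⟨fun h => ?_, fun h => ?_⟩⟩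
  · refine Groth.Agent.RootDLib.isSimpleSys_of_cone _ (fun i _ => hindP' i) ?_ fun k => ?_
    · refine LinearIndepOn.image_of_comp u P'.root ?_
      rw [linearIndepOn_iff']
      intro s c hs hc a ha
      have h0 : ∑ x ∈ s, (c x * q x) • P.root x = 0 := by
        have := congrArg f hc
        simp only [map_sum, map_smul, map_zero, Function.comp_apply, hroot, smul_smul] at this
        exact this
      have := linearIndepOn_iff'.1 h.linInd s _ hs h0 a ha
      exact (mul_eq_zero.1 this).resolve_right (by exact_mod_cast (hq0 a).ne')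
    · obtain ⟨k, rfl⟩ := u.surjective k
      rcases h.mem_or_neg_mem k with hk | hk
      · obtain ⟨n, hn, hk'⟩ := fwd Δ 1 k (by rwa [one_smul]) one_pos
        exact ⟨n, hn, Or.inl hk'⟩
      · obtain ⟨n, hn, hk'⟩ := fwd Δ 1 (Groth.Agent.RootDLib.ng P k)
          (by rwa [one_smul, Groth.Agent.RootDLib.root_ng]) one_pos
        rw [hung, Groth.Agent.RootDLib.root_ng] at hk'
        exact ⟨n, hn, Or.inr hk'⟩
  · refine Groth.Agent.RootDLib.isSimpleSys_of_cone _ (fun i _ => hindP i) ?_ fun k => ?_
    · rw [linearIndepOn_iff']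
      intro s c hs hc a ha
      choose r hr0 hr using hQd
      have h0 : ∑ x ∈ s.image u, (fun x' => c (u.symm x') * r (u.symm x')) x • P'.root x = 0 := by
        rw [Finset.sum_image fun _ _ _ _ e => u.injective e]
        simp only [Equiv.symm_apply_apply]
        refine hinj _ (sum_mem fun x _ => Submodule.smul_mem _ _ (Groth.Agent.RootDLib.root_mem P' _)) ?_
        rw [map_sum, ← smul_zero (Q : ℤ), ← hc, Finset.smul_sum]
        refine Finset.sum_congr rfl fun x _ => ?_
        rw [map_smul, hroot, smul_smul, smul_smul, mul_assoc, ← Nat.cast_mul, ← hr, mul_comm]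
      have := linearIndepOn_iff'.1 h.linInd (s.image u) _
        (by rw [Finset.coe_image]; exact Set.image_mono hs) h0 (u a) (Finset.mem_image_of_mem u ha)
      simp only [Equiv.symm_apply_apply, mul_eq_zero] at this
      exact this.resolve_right (by exact_mod_cast (hr0 a).ne')
    · rcases h.mem_or_neg_mem (u k) with hk | hk
      · obtain ⟨n, hn, hk'⟩ := bwd Δ 1 k (by rwa [one_smul]) one_pos
        exact ⟨n, hn, Or.inl hk'⟩
      · obtain ⟨n, hn, hk'⟩ := bwd Δ 1 (Groth.Agent.RootDLib.ng P k)
          (by rwa [one_smul, hung, Groth.Agent.RootDLib.root_ng]) one_pos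
        rw [Groth.Agent.RootDLib.root_ng] at hk'
        exact ⟨n, hn, Or.inr hk'⟩
  · refine Groth.Agent.RootDLib.isPosSys_of_closed (fun i hi hn => ?_) (fun i => ?_)
      (fun i j k hi hj hk => ?_)
    · obtain ⟨a, ha, rfl⟩ := hi
      obtain ⟨b, hb, hb'⟩ := hn
      rw [← hung, u.apply_eq_iff_eq] at hb'
      exact h.disjoint ha (hb' ▸ hb :)
    · obtain ⟨a, rfl⟩ := u.surjective i
      rcases h.cover a with ha | ha
      · exact Or.inl ⟨a, ha, rfl⟩
      · exact Or.inr ⟨_, ha, hung a⟩
    · obtain ⟨a, rfl⟩ := u.surjective k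
      obtain ⟨n, hn, h'⟩ := bwd Δ 1 a (by
        rw [one_smul, hk]
        exact add_mem (Groth.Agent.RootDLib.root_mem_natSpan P' hi)
          (Groth.Agent.RootDLib.root_mem_natSpan P' hj)) one_pos
      exact Set.mem_image_of_mem u (h.sat n hn h')
  · refine Groth.Agent.RootDLib.isPosSys_of_closed (fun i hi hn => ?_) (fun i => ?_)
      (fun i j k hi hj hk => ?_)
    · exact h.disjoint (Set.mem_image_of_mem u hi) (by
        have := Set.mem_image_of_mem u hn
        rwa [hung] at this)
    · rcases h.cover (u i) with ha | ha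
      · exact Or.inl ((Function.Injective.mem_set_image u.injective).1 ha)
      · refine Or.inr ((Function.Injective.mem_set_image u.injective).1 ?_)
        rw [hung]; exact ha
    · obtain ⟨n, hn, h'⟩ := fwd Δ 1 k (by
        rw [one_smul, hk]
        exact add_mem (Groth.Agent.RootDLib.root_mem_natSpan P hi)
          (Groth.Agent.RootDLib.root_mem_natSpan P hj)) one_pos
      exact (Function.Injective.mem_set_image u.injective).1 (h.sat n hn h')

end Groth.Agent.S5481
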