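import Groth.Statements.S5482
import Groth.Agent.Lib.RootD.Sub
import Groth.Agent.Lib.RootD.Irred
-- import your own Groth.Agent.* helpers here

set_option autoImplicit false
open RootD

namespace Groth.Agent.S5482

/-- If the roots are partitioned into two closed symmetric subsets R', R'', then with Δ' = Δ ∩ R', Δ'' =
Δ ∩ R'' for a system of simple roots Δ one has R' = R_{Δ'}, R'' = R_{Δ''}, and Δ' is orthogonal to
Δ''. -/
theorem result {ι M N : Type*} [AddCommGroup M] [AddCommGroup N]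
    (P : RootPairing ι ℤ M N) [Finite ι] (Δ : Set ι) (hΔ : RootD.IsSimpleSys P Δ) (R' : Set ι)
    (hc : RootD.IsClosedSub P R') (hs : RootD.IsSymmSub P R') (hc' : RootD.IsClosedSub P R'ᶜ)
    (hs' : RootD.IsSymmSub P R'ᶜ) :
    R' = RootD.inSpan P (Δ ∩ R') ∧ R'ᶜ = RootD.inSpan P (Δ \ R') ∧
      ∀ i ∈ Δ ∩ R', ∀ j ∈ Δ \ R', P.IsOrthogonal i j := by
  have horth : ∀ i ∈ Δ ∩ R', ∀ j ∈ Δ \ R', P.IsOrthogonal i j := fun i hi j hj =>
    by_contra fun h => hj.2 (Groth.Agent.RootDLib.mem_of_partition hc hs hc' hs' hi.2 h)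
  have hback : ∀ T : Set ι, T ⊆ Δ → ∀ Q : Set ι, RootD.IsClosedSub P Q → RootD.IsSymmSub P Q →
      T ⊆ Q → RootD.inSpan P T ⊆ Q := by
    intro T hT Q hQ hQs hTQ k hk
    have key : ∀ p, p ∈ RootD.inSpan P T → p ∈ RootD.posOf P Δ → p ∈ Q := by
      intro p hp hpp
      refine Groth.Agent.RootDLib.mem_of_closed P hQ (Groth.Agent.RootDLib.natSpan_mono P hTQ ?_)
      exact Groth.Agent.RootDLib.mem_natSpan_iff_finsupp.2 ⟨_,
        (Groth.Agent.RootDLib.mem_span_iff hΔ hT).1 hp,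
        (Groth.Agent.RootDLib.mem_posOf_iff hΔ).1 hpp, Groth.Agent.RootDLib.coeff_sum hΔ p⟩
    by_cases hkp : k ∈ RootD.posOf P Δ
    · exact key k hk hkp
    · have h1 : Groth.Agent.RootDLib.ng P k ∈ RootD.inSpan P T := by
        change P.root _ ∈ Submodule.span ℤ _
        rw [Groth.Agent.RootDLib.root_ng, neg_mem_iff]
        exact hk
      have := hQs (key _ h1 ((Groth.Agent.RootDLib.not_mem_posOf_iff hΔ).1 hkp))
      rwa [show P.reflectionPerm (Groth.Agent.RootDLib.ng P k) (Groth.Agent.RootDLib.ng P k) = k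
        from Groth.Agent.RootDLib.ng_ng P k] at this
  have hdiff : Δ \ (Δ ∩ R') = Δ \ R' := Set.diff_self_inter
  have hor := Groth.Agent.RootDLib.mem_inSpan_or hΔ (Set.inter_subset_left : Δ ∩ R' ⊆ Δ)
    (by rw [hdiff]; exact horth)
  rw [hdiff] at hor
  have b1 := hback (Δ ∩ R') Set.inter_subset_left R' hc hs Set.inter_subset_right
  have b2 := hback (Δ \ R') Set.diff_subset R'ᶜ hc' hs' (fun x hx => hx.2)
  refine ⟨Set.Subset.antisymm (fun k hk => (hor k).resolve_right fun h => b2 h hk) b1,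
    Set.Subset.antisymm (fun k hk => (hor k).resolve_left fun h => hk (b1 h)) b2, horth⟩

end Groth.Agent.S5482
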