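import Groth.Statements.S5484
import Mathlib.Analysis.Matrix.PosDef
import Mathlib.Algebra.Order.Star.Real
import Groth.Agent.Lib.RootD.Basic
-- import your own Groth.Agent.* helpers here

set_option autoImplicit false
open RootD

namespace Groth.Agent.S5484

open Classical in
/-- Every principal minor of the Cartan matrix (a_{α,β} = (α^v, β), α, β simple) is strictly positive. -/
theorem result {ι M N : Type*} [AddCommGroup M] [AddCommGroup N]
    (P : RootPairing ι ℤ M N) [Finite ι] (Δ : Finset ι) (hΔ : RootD.IsSimpleSys P (↑Δ : Set ι))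
    (Δ' : Finset ι) (hsub : Δ' ⊆ Δ) :
    0 < Matrix.det (Matrix.of fun (a b : ↥Δ') => P.pairing (b : ι) (a : ι)) := by
  classical
  let _ := Fintype.ofFinite ι
  set T : Matrix ↥Δ' ι ℤ := Matrix.of fun (a : ↥Δ') (j : ι) => P.pairing (a : ι) j
  set d : ↥Δ' → ℤ := fun a => P.RootForm (P.root (a : ι)) (P.root (a : ι))
  set C : Matrix ↥Δ' ↥Δ' ℤ := Matrix.of fun (a b : ↥Δ') => P.pairing (b : ι) (a : ι)
  have hG : Matrix.diagonal d * C = (2 : ℤ) • (T * T.transpose) := by
    ext a b
    rw [Matrix.diagonal_mul, Matrix.smul_apply, smul_eq_mul]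
    have h := Groth.Agent.RootDLib.two_form_root_root P (b : ι) (a : ι)
    rw [Groth.Agent.RootDLib.form_eq] at h
    have hT : (T * T.transpose) a b = P.RootForm (P.root (b : ι)) (P.root (a : ι)) := by
      simp [T, Matrix.mul_apply, RootPairing.rootForm_apply_apply, mul_comm]
    rw [hT, h]
    simp [C, d, mul_comm]
  have hnn : 0 ≤ (T * T.transpose).det := by
    have h1 := (Matrix.posSemidef_self_mul_conjTranspose
      (T.map (Int.cast : ℤ → ℝ))).det_nonneg
    have h2 : (T.map (Int.cast : ℤ → ℝ)) * (T.map (Int.cast : ℤ → ℝ)).conjTranspose =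
        (Int.castRingHom ℝ).mapMatrix (T * T.transpose) := by
      rw [RingHom.mapMatrix_apply, Matrix.map_mul, Matrix.conjTranspose_eq_transpose_of_trivial]
      simp [Matrix.transpose_map]
    rw [h2, ← RingHom.map_det] at h1
    simpa using h1
  have hne : (T * T.transpose).det ≠ 0 := by
    intro h0
    obtain ⟨x, hx, hx0⟩ := Matrix.exists_mulVec_eq_zero_iff.2 h0
    set v : M := ∑ a : ↥Δ', x a • P.root (a : ι) with hv
    have hv0 : v = 0 := by
      refine Groth.Agent.RootDLib.eq_zero_of_form P
        (hv ▸ sum_mem fun a _ => Submodule.smul_mem _ _ (Groth.Agent.RootDLib.root_mem P _)) ?_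
      rw [Groth.Agent.RootDLib.form_eq]
      have h3 : (P.RootForm v) v = ∑ a, x a * ((T * T.transpose).mulVec x) a := by
        simp only [hv, map_sum, map_smul, LinearMap.coe_sum, Finset.sum_apply, LinearMap.smul_apply,
          smul_eq_mul, Matrix.mulVec, dotProduct, Finset.mul_sum]
        rw [Finset.sum_comm]
        refine Finset.sum_congr rfl fun a _ => Finset.sum_congr rfl fun b _ => ?_
        simp [T, Matrix.mul_apply, RootPairing.rootForm_apply_apply, Finset.mul_sum, mul_comm,
          mul_left_comm]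
      rw [h3, hx0]; simp
    have hli : LinearIndependent ℤ (fun a : ↥Δ' => P.root (a : ι)) :=
      hΔ.linInd.mono (Finset.coe_subset.2 hsub)
    exact hx (funext fun a => Fintype.linearIndependent_iff.1 hli x hv0 a)
  have hdet := congrArg Matrix.det hG
  rw [Matrix.det_mul, Matrix.det_diagonal, Matrix.det_smul] at hdet
  have hd : 0 < ∏ a, d a := Finset.prod_pos fun a _ => by
    have := Groth.Agent.RootDLib.form_root_pos P (a : ι)
    rwa [Groth.Agent.RootDLib.form_eq] at this
  have : 0 < (∏ a, d a) * C.det := by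
    rw [hdet]; exact mul_pos (by positivity) (lt_of_le_of_ne hnn (Ne.symm hne))
  exact pos_of_mul_pos_right this hd.le

end Groth.Agent.S5484
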