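import Groth.Statements.S5486
import Groth.Agent.Lib.RootD.Basic
-- import your own Groth.Agent.* helpers here

set_option autoImplicit false
open RootD

namespace Groth.Agent.S5486

/-- For orthogonal roots α, β, the sum α + β is a root if and only if the difference α - β is. -/
theorem result {ι M N : Type*} [AddCommGroup M] [AddCommGroup N]
    (P : RootPairing ι ℤ M N) [Finite ι] (i j : ι) (h : P.IsOrthogonal i j) :
    P.root i + P.root j ∈ Set.range P.root ↔ P.root i - P.root j ∈ Set.range P.root := by
  have key : ∀ s : Bool, ∀ k, P.root k = P.root i + (if s then P.root j else -P.root j) →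
      ∃ k', P.root k' = P.root i - (if s then P.root j else -P.root j) := by
    intro s k hk
    refine ⟨P.reflectionPerm j k, ?_⟩
    cases s <;> simp [hk, RootPairing.reflection_apply_root, h.1, sub_eq_add_neg]
  constructor
  · rintro ⟨k, hk⟩; exact key true k hk
  · rintro ⟨k, hk⟩
    obtain ⟨k', hk'⟩ := key false k (by rw [hk, sub_eq_add_neg]; rfl)
    exact ⟨k', by simpa using hk'⟩

end Groth.Agent.S5486
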