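import Groth.Statements.S5487
import Groth.Agent.Lib.RootD.Basic
-- import your own Groth.Agent.* helpers here

set_option autoImplicit false
open RootD

namespace Groth.Agent.S5487

/-- For non-orthogonal roots α, β one has ℓ(α) ℓ(α^v) = ℓ(β) ℓ(β^v), where ℓ is the canonical quadratic
form of the datum and of its dual. -/
theorem result {ι M N : Type*} [AddCommGroup M] [AddCommGroup N]
    (P : RootPairing ι ℤ M N) [Finite ι] [Fintype ι] (i j : ι) (h : ¬ P.IsOrthogonal i j) :
    P.RootForm (P.root i) (P.root i) * P.CorootForm (P.coroot i) (P.coroot i) =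
      P.RootForm (P.root j) (P.root j) * P.CorootForm (P.coroot j) (P.coroot j) := by
  have hC := Groth.Agent.RootDLib.pairing_mul_form P.flip i j
  have hR := Groth.Agent.RootDLib.pairing_mul_form P i j
  rw [Groth.Agent.RootDLib.form_eq] at hC hR
  have h0 : P.pairing i j ≠ 0 := fun h' => h ((Groth.Agent.RootDLib.isOrthogonal_iff P i j).2 h')
  have h1 : P.pairing j i ≠ 0 := fun h' => h0 ((Groth.Agent.RootDLib.pairing_eq_zero_comm P j i).1 h')
  simp only [RootPairing.pairing_flip] at hC
  change P.RootForm (P.root i) (P.root i) * P.flip.RootForm (P.coroot i) (P.coroot i) =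
    P.RootForm (P.root j) (P.root j) * P.flip.RootForm (P.coroot j) (P.coroot j)
  simp only [RootPairing.flip_root] at hC
  apply mul_left_cancel₀ (mul_ne_zero h0 h1)
  generalize P.RootForm (P.root i) (P.root i) = A at *
  generalize P.RootForm (P.root j) (P.root j) = B at *
  generalize P.flip.RootForm (P.coroot i) (P.coroot i) = C at *
  generalize P.flip.RootForm (P.coroot j) (P.coroot j) = D at *
  linear_combination (-(P.pairing i j) * C) * hR - (P.pairing i j * B) * hC

end Groth.Agent.S5487
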