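import Groth.Statements.S5488
import Groth.Agent.Lib.RootD.Weyl
-- import your own Groth.Agent.* helpers here

set_option autoImplicit false
open RootPairing
open scoped Pointwise
open RootD

namespace Groth.Agent.S5488

/-- The reduced datum of indivisible roots has the same Weyl group: the reflections in indivisible roots
generate W. -/
theorem result {ι M N : Type*} [AddCommGroup M] [AddCommGroup N]
    (P : RootPairing ι ℤ M N) [Finite ι] :
    Subgroup.closure ((fun i : ι => Equiv.reflection P i) '' {i : ι | RootD.IsIndiv P i}) = P.weylGroup := by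
  refine le_antisymm (Subgroup.closure_mono (Set.image_subset_range _ _))
    ((Subgroup.closure_le _).2 ?_)
  rintro - ⟨k, rfl⟩
  by_cases hk : RootD.IsIndiv P k
  · exact Subgroup.subset_closure ⟨k, hk, rfl⟩
  · obtain ⟨j, hj, he⟩ := Groth.Agent.RootDLib.exists_half P hk
    rw [Groth.Agent.RootDLib.refl_eq_of_double he]
    exact Subgroup.subset_closure ⟨j, hj, rfl⟩

end Groth.Agent.S5488
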