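import Groth.Statements.S5489
import Groth.Agent.Lib.RootD.Basic
-- import your own Groth.Agent.* helpers here

set_option autoImplicit false
open RootD

namespace Groth.Agent.S5489

/-- If a root α, distinct from roots α_1, ..., α_n, is a non-negative rational combination of them, then
some α_l with non-zero coefficient has (α^v, α_l) > 0 and α - α_l a root. -/
theorem result {ι M N : Type*} [AddCommGroup M] [AddCommGroup N]
    (P : RootPairing ι ℤ M N) [Finite ι] {n : ℕ} (a : Fin n → ι) (m : Fin n → ℕ)
    (k : ι) (hne : ∀ l, a l ≠ k) (c : ℕ) (hc : 0 < c) (hk : c • P.root k = ∑ l, m l • P.root (a l)) :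
    ∃ l : Fin n, m l ≠ 0 ∧ 0 < P.pairing (a l) k ∧ P.root k - P.root (a l) ∈ Set.range P.root := by
  have h := congrArg (P.coroot' k) hk
  rw [map_nsmul, map_sum, nsmul_eq_mul] at h
  simp only [map_nsmul, RootPairing.root_coroot'_eq_pairing, RootPairing.pairing_same,
    nsmul_eq_mul] at h
  obtain ⟨l, -, hl⟩ : ∃ l ∈ (Finset.univ : Finset (Fin n)), 0 < (m l : ℤ) * P.pairing (a l) k := by
    by_contra! hh
    have := Finset.sum_nonpos hh
    push_cast at h this
    have hc' : (0 : ℤ) < c := by exact_mod_cast hc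
    linarith
  have hm : m l ≠ 0 := fun h0 => by simp [h0] at hl
  have hp : 0 < P.pairing (a l) k := by
    by_contra! hh
    nlinarith [Int.natCast_nonneg (m l)]
  obtain ⟨j, hj⟩ := Groth.Agent.RootDLib.sub_mem_of_pairing_pos P hp (hne l)
  exact ⟨l, hm, hp, Groth.Agent.RootDLib.ng P j,
    by rw [Groth.Agent.RootDLib.root_ng, hj, neg_sub]⟩

end Groth.Agent.S5489
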