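import Groth.Statements.S5491
import Groth.Agent.Lib.RootD.Simple
-- import your own Groth.Agent.* helpers here

set_option autoImplicit false
open RootD

namespace Groth.Agent.S5491

open Classical in
/-- With ρ^v the half-sum of the positive coroots, the order (height) of any root α relative to the
simple system equals (ρ^v, α); equivalently 2·height(α) = Σ_{β > 0} (β^v, α). -/
theorem result {ι M N : Type*} [AddCommGroup M] [AddCommGroup N]
    (P : RootPairing ι ℤ M N) [Finite ι] [Fintype ι] [P.IsReduced] (b : P.Base) (i : ι) :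
    2 * b.height i = ∑ j, if b.IsPos j then P.pairing i j else 0 := by
  have hΔ : RootD.IsSimpleSys P (↑b.support : Set ι) :=
    ⟨b.linearIndepOn_root, b.root_mem_or_neg_mem⟩
  have hht : ∀ k, b.height k = Groth.Agent.RootDLib.ht hΔ k := by
    intro k
    have hs : (Groth.Agent.RootDLib.coeff hΔ k).support ⊆ b.support :=
      Finset.coe_subset.1 (Groth.Agent.RootDLib.coeff_supp hΔ k)
    rw [RootPairing.Base.height_eq_sum (f := ⇑(Groth.Agent.RootDLib.coeff hΔ k))
      (by
        conv_lhs => rw [← Groth.Agent.RootDLib.coeff_sum hΔ k]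
        rw [Finsupp.linearCombination_apply, Finsupp.sum_of_support_subset _ hs]
        intros; simp)]
    simp only [Groth.Agent.RootDLib.ht, Finsupp.linearCombination_apply, smul_eq_mul, mul_one]
    rw [Finsupp.sum_of_support_subset _ hs]
    intros; rfl
  have hpos : ∀ k, b.IsPos k ↔ k ∈ RootD.posOf P (↑b.support : Set ι) := by
    intro k
    rw [RootPairing.Base.isPos_iff, hht]
    refine ⟨fun h => ?_, Groth.Agent.RootDLib.ht_pos hΔ⟩
    by_contra hc
    have := Groth.Agent.RootDLib.ht_pos hΔ ((Groth.Agent.RootDLib.not_mem_posOf_iff hΔ).1 hc)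
    rw [Groth.Agent.RootDLib.ht_ng] at this
    omega
  have hsimple : ∀ a ∈ b.support, (∑ j, if b.IsPos j then P.pairing a j else 0) = 2 := by
    intro a ha
    rw [← Finset.add_sum_erase _ _ (Finset.mem_univ a), if_pos (RootPairing.Base.isPos_of_mem_support ha),
      P.pairing_same]
    have hperm : ∀ j, j ≠ a → b.IsPos j → b.IsPos (P.reflectionPerm a j) ∧ P.reflectionPerm a j ≠ a := by
      intro j hja hj
      rw [hpos] at hj ⊢
      refine ⟨Groth.Agent.RootDLib.reflect_mem_posOf (Finset.mem_coe.2 ha) hj hja (fun h => ?_) hΔ,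
        fun h => ?_⟩
      · have := Groth.Agent.RootDLib.torsionFree P
        exact P.nsmul_notMem_range_root (n := 2) (i := a) ⟨j, by rw [h, ← natCast_zsmul]; rfl⟩
      · have hja' : j = Groth.Agent.RootDLib.ng P a := by rw [← P.reflectionPerm_self a j, h]
        rw [hja'] at hj
        exact (Groth.Agent.RootDLib.isPosSys_posOf hΔ).disjoint
          (Groth.Agent.RootDLib.mem_posOf_of_mem (Finset.mem_coe.2 ha)) hj
    rw [show (∑ j ∈ Finset.univ.erase a, if b.IsPos j then P.pairing a j else 0) = 0 from ?_, add_zero]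
    rw [← Finset.sum_filter]
    refine Finset.sum_involution (fun j _ => P.reflectionPerm a j) (fun j hj => ?_) (fun j hj hne h => ?_)
      (fun j hj => ?_) (fun j hj => P.reflectionPerm_self a j)
    · rw [P.pairing_reflectionPerm a a j, P.pairing_reflectionPerm_self_left, add_neg_cancel]
    · have h0 : P.pairing j a = 0 := by
        have := congrArg P.root h
        have tf := Groth.Agent.RootDLib.torsionFree P
        rw [RootPairing.root_reflectionPerm, RootPairing.reflection_apply_root, sub_eq_self,
          smul_eq_zero] at this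
        exact this.resolve_right (Groth.Agent.RootDLib.root_ne_zero P a)
      exact hne ((Groth.Agent.RootDLib.pairing_eq_zero_comm P j a).1 h0)
    · simp only [Finset.mem_filter, Finset.mem_erase, Finset.mem_univ, and_true] at hj ⊢
      exact ⟨(hperm j hj.1 hj.2).2, (hperm j hj.1 hj.2).1⟩
  set φ : M →ₗ[ℤ] ℤ := ∑ j, if b.IsPos j then P.coroot' j else 0 with hφ
  have hφa : ∀ a, φ (P.root a) = ∑ j, if b.IsPos j then P.pairing a j else 0 := by
    intro a
    rw [hφ, LinearMap.sum_apply]
    exact Finset.sum_congr rfl fun j _ => by split_ifs <;> simp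
  rw [← hφa, hht]
  conv_rhs => rw [← Groth.Agent.RootDLib.coeff_sum hΔ i]
  simp only [Groth.Agent.RootDLib.ht, Finsupp.linearCombination_apply, map_finsuppSum, smul_eq_mul,
    mul_one, Finsupp.mul_sum, map_zsmul]
  refine Finsupp.sum_congr fun a ha => ?_
  rw [hφa, hsimple a (Finset.mem_coe.1 (Groth.Agent.RootDLib.coeff_supp hΔ i ha)), mul_comm]

end Groth.Agent.S5491
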