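import Groth.Statements.S5493
import Groth.Agent.Lib.RootD.Weyl
import Groth.Agent.Lib.RootD.Irred
-- import your own Groth.Agent.* helpers here

set_option autoImplicit false
open RootD

namespace Groth.Agent.S5493

/-- Adjoint case; the simply connected case is dual: two reduced adjoint root data with systems of
simple roots Δ, Δ' and a bijection u : Δ → Δ' respecting the Cartan matrices are isomorphic through
a unique isomorphism inducing u on Δ. -/
theorem result {ι M N ι' M' N' : Type*} [AddCommGroup M] [AddCommGroup N] [AddCommGroup M'] [AddCommGroup N']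
    (P : RootPairing ι ℤ M N) (P' : RootPairing ι' ℤ M' N') [Finite ι] [Finite ι'] [P.IsReduced] [P'.IsReduced]
    (had : Submodule.span ℤ (Set.range P.root) = ⊤) (had' : Submodule.span ℤ (Set.range P'.root) = ⊤)
    (b : P.Base) (b' : P'.Base) (u : ↥b.support ≃ ↥b'.support)
    (hu : ∀ i j : ↥b.support, P.pairing (i : ι) (j : ι) = P'.pairing (u i : ι') (u j : ι')) :
    ∃! e : RootPairing.Equiv P P', ∀ i : ↥b.support, e.indexEquiv (i : ι) = (u i : ι') := by
  classical
  have tfM := Groth.Agent.RootDLib.torsionFree P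
  have tfM' := Groth.Agent.RootDLib.torsionFree P'
  have hrefM : Module.IsReflexive ℤ M := .of_isPerfPair P.toLinearMap
  have hΔ : RootD.IsSimpleSys P (↑b.support : Set ι) := ⟨b.linearIndepOn_root, b.root_mem_or_neg_mem⟩
  have hΔ' : RootD.IsSimpleSys P' (↑b'.support : Set ι') :=
    ⟨b'.linearIndepOn_root, b'.root_mem_or_neg_mem⟩
  have hsp : ⊤ ≤ Submodule.span ℤ (Set.range fun i : ↥b.support => P.root (i : ι)) := by
    rw [← had, ← b.span_int_root_support, Set.image_eq_range]
    exact le_of_eq rfl
  have hsp' : ⊤ ≤ Submodule.span ℤ (Set.range fun i : ↥b'.support => P'.root (i : ι')) := by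
    rw [← had', ← b'.span_int_root_support, Set.image_eq_range]
    exact le_of_eq rfl
  let B := Module.Basis.mk b.linearIndepOn_root hsp
  let B' := Module.Basis.mk b'.linearIndepOn_root hsp'
  let E : M ≃ₗ[ℤ] M' := B.equiv B' u
  have hB : ∀ c : ↥b.support, B c = P.root (c : ι) := fun c => Module.Basis.mk_apply _ _ c
  have hE : ∀ i : ↥b.support, E (P.root (i : ι)) = P'.root (u i : ι') := fun i => by
    have h1 : B i = P.root (i : ι) := Module.Basis.mk_apply _ _ i
    have h2 : B' (u i) = P'.root (u i : ι') := Module.Basis.mk_apply _ _ _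
    rw [← h1, ← h2]
    exact Module.Basis.equiv_apply _ _ _ _
  have hrefl : ∀ (a : ↥b.support) (m : M),
      E (P.reflection (a : ι) m) = P'.reflection (u a : ι') (E m) := by
    intro a
    suffices h : E.toLinearMap ∘ₗ (P.reflection (a : ι)).toLinearMap =
        (P'.reflection (u a : ι')).toLinearMap ∘ₗ E.toLinearMap from
      fun m => LinearMap.congr_fun h m
    refine B.ext fun c => ?_
    simp only [hB, LinearMap.comp_apply, LinearEquiv.coe_coe,
      RootPairing.reflection_apply_root, map_sub, map_smul, hE, hu]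
  have hindiv : ∀ k, RootD.IsIndiv P k := fun k => by
    by_contra hc
    obtain ⟨y, -, hy⟩ := Groth.Agent.RootDLib.exists_half P hc
    exact P.nsmul_notMem_range_root (i := y) (n := 2) ⟨k, by rw [hy, ← natCast_zsmul]; rfl⟩
  have hindiv' : ∀ k, RootD.IsIndiv P' k := fun k => by
    by_contra hc
    obtain ⟨y, -, hy⟩ := Groth.Agent.RootDLib.exists_half P' hc
    exact P'.nsmul_notMem_range_root (i := y) (n := 2) ⟨k, by rw [hy, ← natCast_zsmul]; rfl⟩
  have hmapsto : ∀ k, ∃ k', E (P.root k) = P'.root k' := by
    intro k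
    obtain ⟨g, hg, i, hi, rfl⟩ := Groth.Agent.RootDLib.exists_conj_simple hΔ (hindiv k)
    obtain ⟨l, hl, rfl⟩ := Groth.Agent.RootDLib.exists_word hg
    clear hg
    induction l with
    | nil => exact ⟨u ⟨i, hi⟩, by simpa using hE ⟨i, hi⟩⟩
    | cons a t ih =>
      obtain ⟨k', hk'⟩ := ih fun x hx => hl x (List.mem_cons_of_mem _ hx)
      refine ⟨P'.reflectionPerm (u ⟨a, hl a List.mem_cons_self⟩ : ι') k', ?_⟩
      rw [Groth.Agent.RootDLib.wprod_cons, mul_smul, Groth.Agent.RootDLib.refl_smul,
        RootPairing.root_reflectionPerm, RootPairing.root_reflectionPerm,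
        hrefl ⟨a, hl a List.mem_cons_self⟩, hk']
  choose σ hσ using hmapsto
  have hσbij : Function.Bijective σ := by
    refine ⟨fun x y h => P.root.injective (E.injective (by rw [hσ, hσ, h])), fun k' => ?_⟩
    obtain ⟨g, hg, i', hi', rfl⟩ := Groth.Agent.RootDLib.exists_conj_simple hΔ' (hindiv' k')
    obtain ⟨l, hl, rfl⟩ := Groth.Agent.RootDLib.exists_word hg
    clear hg
    induction l with
    | nil =>
      refine ⟨(u.symm ⟨i', hi'⟩ : ι), P'.root.injective ?_⟩
      rw [← hσ, hE]; simp
    | cons a t ih =>
      obtain ⟨k, hk⟩ := ih fun x hx => hl x (List.mem_cons_of_mem _ hx)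
      refine ⟨P.reflectionPerm (u.symm ⟨a, hl a List.mem_cons_self⟩ : ι) k, P'.root.injective ?_⟩
      rw [← hσ, RootPairing.root_reflectionPerm, hrefl, hσ, hk, Equiv.apply_symm_apply,
        Groth.Agent.RootDLib.wprod_cons, mul_smul, Groth.Agent.RootDLib.refl_smul,
        RootPairing.root_reflectionPerm]
  let G : N' →ₗ[ℤ] N := P.flip.toPerfPair.symm.toLinearMap ∘ₗ E.toLinearMap.dualMap ∘ₗ
    P'.flip.toPerfPair.toLinearMap
  have hG : ∀ n' m, P.toLinearMap m (G n') = P'.toLinearMap (E m) n' := fun n' m =>
    LinearMap.congr_fun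
      (P.flip.toPerfPair.apply_symm_apply (E.toLinearMap.dualMap (P'.flip.toPerfPair n'))) m
  have hGc : ∀ k, G (P'.coroot (σ k)) = P.coroot k := by
    intro k
    apply P.flip.toPerfPair.injective
    suffices h : (Submodule.span ℤ (Set.range P.root)).subtype.dualMap
        (P.flip.toPerfPair (G (P'.coroot (σ k)))) =
        (Submodule.span ℤ (Set.range P.root)).subtype.dualMap (P.coroot' k) by
      refine LinearMap.ext fun m => ?_
      have hm : m ∈ Submodule.span ℤ (Set.range P.root) := had ▸ Submodule.mem_top
      exact LinearMap.congr_fun h ⟨m, hm⟩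
    refine Module.Dual.eq_of_preReflection_mapsTo' (Set.finite_range P.root)
      (Submodule.subset_span (Set.mem_range_self k)) ?_ ?_ ?_ (P.mapsTo_reflection_root k)
    · change P.toLinearMap (P.root k) _ = 2
      rw [hG, hσ]; exact P'.root_coroot_two _
    · rintro _ ⟨j, rfl⟩
      obtain ⟨z, hz⟩ := hσbij.2 (P'.reflectionPerm (σ k) (σ j))
      refine ⟨z, E.injective ?_⟩
      rw [hσ, hz, Module.preReflection_apply, map_sub, map_smul, RootPairing.root_reflectionPerm,
        RootPairing.reflection_apply_root, hσ, hσ]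
      change _ = _ - P.toLinearMap (P.root j) (G (P'.coroot (σ k))) • _
      rw [hG, hσ]
      rfl
    · exact P.coroot_root_two k
  have hGbij : Function.Bijective G :=
    P.flip.toPerfPair.symm.bijective.comp ((E.dualMap.bijective).comp P'.flip.toPerfPair.bijective)
  let σe : ι ≃ ι' := Equiv.ofBijective σ hσbij
  let e : RootPairing.Equiv P P' :=
  { weightMap := E.toLinearMap
    coweightMap := G
    indexEquiv := σe
    weight_coweight_transpose := LinearMap.ext fun n' => LinearMap.ext fun m => (hG n' m).symm
    root_weightMap := funext fun i => hσ i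
    coroot_coweightMap := funext fun i' => by
      simp only [Function.comp_apply]
      conv_lhs => rw [← σe.apply_symm_apply i']
      exact hGc _
    bijective_weightMap := E.bijective
    bijective_coweightMap := hGbij }
  refine ⟨e, fun i => P'.root.injective ((hσ i).symm.trans (hE i)), fun e' he' => ?_⟩
  have hw : e'.weightMap = E.toLinearMap := B.ext fun i => by
    rw [hB, RootPairing.Hom.root_weightMap_apply, he', LinearEquiv.coe_coe, hE]
  refine RootPairing.Equiv.ext hw ?_ ?_
  · refine LinearMap.ext fun n' => P.flip.toPerfPair.injective (LinearMap.ext fun m => ?_)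
    have := LinearMap.congr_fun
      (RootPairing.Hom.weight_coweight_transpose_apply P P' n' e'.toHom) m
    refine this.symm.trans ?_
    change P'.toLinearMap (e'.weightMap m) n' = P.toLinearMap m (G n')
    rw [hw, hG]; rfl
  · refine Equiv.ext fun k => P'.root.injective ?_
    rw [← RootPairing.Hom.root_weightMap_apply, hw]
    exact hσ k

end Groth.Agent.S5493
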