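import Groth.Statements.S5494
import Groth.Agent.Lib.RootD.Irred
import Groth.Agent.S5482
-- import your own Groth.Agent.* helpers here

set_option autoImplicit false
open RootD

namespace Groth.Agent.S5494

/-- If a system of simple roots has no partition into two non-empty orthogonal subsets, then any two
roots are linked by a chain of roots with consecutive members non-orthogonal. -/
theorem result {ι M N : Type*} [AddCommGroup M] [AddCommGroup N]
    (P : RootPairing ι ℤ M N) [Finite ι] (Δ : Set ι) (hΔ : RootD.IsSimpleSys P Δ)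
    (hconn : ∀ Δ' : Set ι, Δ' ⊆ Δ → (∀ i ∈ Δ', ∀ j ∈ Δ \ Δ', P.IsOrthogonal i j) → Δ' = ∅ ∨ Δ' = Δ)
    (i j : ι) : Relation.ReflTransGen (fun a b : ι => ¬ P.IsOrthogonal a b) i j := by
  obtain ⟨h1, h2, h3, h4⟩ := Groth.Agent.RootDLib.component_closed_symm (P := P) i
  obtain ⟨e1, e2, e3⟩ := Groth.Agent.S5482.result P Δ hΔ _ h1 h2 h3 h4
  rcases hconn _ Set.inter_subset_left (fun a ha b hb => e3 a ha b ⟨hb.1, fun hc => hb.2 ⟨hb.1, hc⟩⟩)
    with h | h
  · have hi : i ∈ {j : ι | Relation.ReflTransGen (Groth.Agent.RootDLib.NOrth P) i j} :=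
      Relation.ReflTransGen.refl
    rw [e1, h] at hi
    have hi' : P.root i ∈ Submodule.span ℤ (P.root '' (∅ : Set ι)) := hi
    simp at hi'
    exact absurd hi' (Groth.Agent.RootDLib.root_ne_zero P i)
  · by_contra hj
    have hj' : j ∈ {j : ι | Relation.ReflTransGen (Groth.Agent.RootDLib.NOrth P) i j}ᶜ := hj
    rw [e2, Set.diff_eq_empty.2 (Set.inter_eq_left.1 h)] at hj'
    have hj'' : P.root j ∈ Submodule.span ℤ (P.root '' (∅ : Set ι)) := hj'
    simp at hj''
    exact absurd hj'' (Groth.Agent.RootDLib.root_ne_zero P j)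

end Groth.Agent.S5494
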