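import Groth.Statements.S5496
import Groth.Agent.Lib.RootD.Weyl
-- import your own Groth.Agent.* helpers here

set_option autoImplicit false
open RootPairing
open scoped Pointwise
open RootD

namespace Groth.Agent.S5496

/-- For non-proportional roots α, β let n be the least integer n > 0 with (s_α s_β)^n(α) = α and (s_α
s_β)^n(β) = β. Then the subgroup W_{α,β} generated by s_α and s_β is presented by s_α² = s_β² = (s_α
s_β)^n = 1; equivalently it has exactly 2n elements. -/
theorem result {ι M N : Type*} [AddCommGroup M] [AddCommGroup N]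
    (P : RootPairing ι ℤ M N) [Finite ι] (i j : ι) (hli : LinearIndependent ℤ ![P.root i, P.root j])
    (n : ℕ) (hn : IsLeast {m : ℕ | 0 < m ∧ ((Equiv.reflection P i * Equiv.reflection P j) ^ m) • i = i ∧
      ((Equiv.reflection P i * Equiv.reflection P j) ^ m) • j = j} n) :
    Nat.card (Subgroup.closure ({Equiv.reflection P i, Equiv.reflection P j} : Set P.Aut)) = 2 * n := by
  set r := Equiv.reflection P i * Equiv.reflection P j with hr
  set si := Equiv.reflection P i with hsi
  set sj := Equiv.reflection P j with hsj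
  have hii : si * si = 1 := Groth.Agent.RootDLib.refl_mul_self i
  have hjj : sj * sj = 1 := Groth.Agent.RootDLib.refl_mul_self j
  have hmem : ∀ w ∈ Subgroup.closure ({si, sj} : Set P.Aut), w ∈ P.weylGroup := fun w hw =>
    Subgroup.closure_mono (by
      rintro x (rfl | rfl)
      · exact ⟨i, rfl⟩
      · exact ⟨j, rfl⟩) hw
  have hspan : ∀ w ∈ Subgroup.closure ({si, sj} : Set P.Aut), ∀ m : M,
      w • m - m ∈ Submodule.span ℤ ({P.root i, P.root j} : Set M) := by
    intro w hw m
    obtain ⟨l, hl, rfl⟩ := Groth.Agent.RootDLib.exists_word (T := ({i, j} : Set ι))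
      (by rwa [Set.image_pair])
    clear hw
    induction l with
    | nil => simp
    | cons a t ih =>
      have := ih fun b hb => hl b (List.mem_cons_of_mem _ hb)
      rw [Groth.Agent.RootDLib.wprod_cons, mul_smul, Equiv.reflection_smul,
        RootPairing.reflection_apply, sub_right_comm]
      refine sub_mem this (Submodule.smul_mem _ _ (Submodule.subset_span ?_))
      rcases hl a List.mem_cons_self with h | h
      · exact Or.inl (by rw [h])
      · exact Or.inr (by rw [h]; rfl)
  have hle : Submodule.span ℤ ({P.root i, P.root j} : Set M) ≤ Submodule.span ℤ (Set.range P.root) :=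
    Submodule.span_mono (by rintro x (rfl | rfl) <;> exact ⟨_, rfl⟩)
  have hsiC : si ∈ Subgroup.closure ({si, sj} : Set P.Aut) := Subgroup.subset_closure (by simp)
  have hsjC : sj ∈ Subgroup.closure ({si, sj} : Set P.Aut) := Subgroup.subset_closure (by simp)
  have hrC : r ∈ Subgroup.closure ({si, sj} : Set P.Aut) := mul_mem hsiC hsjC
  have hord : orderOf r = n := by
    have hpow : r ^ n = 1 := by
      obtain ⟨-, hfi, hfj⟩ := hn.1
      refine Groth.Agent.RootDLib.aut_ext fun m => ?_
      rw [one_smul]
      have hd := hspan _ (pow_mem hrC n) m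
      refine sub_eq_zero.1 (Groth.Agent.RootDLib.eq_zero_of_form P (hle hd) ?_)
      obtain ⟨a, b, hab⟩ := Submodule.mem_span_pair.1 hd
      have hperp : ∀ x : ι, (r ^ n) • x = x →
          Groth.Agent.RootDLib.form P ((r ^ n) • m - m) (P.root x) = 0 := by
        intro x hx
        have h1 : P.coroot' x ((r ^ n) • m) = P.coroot' x m := by
          conv_lhs => rw [← hx]
          exact Groth.Agent.RootDLib.coroot'_smul _ _ _
        have h2 := Groth.Agent.RootDLib.two_form_root P ((r ^ n) • m - m) x
        rw [map_sub (P.coroot' x), h1, sub_self, zero_mul] at h2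
        omega
      conv_lhs => arg 2; rw [← hab]
      rw [map_add, map_smul, map_smul, hperp i hfi, hperp j hfj, smul_zero, smul_zero, add_zero]
    rw [orderOf_eq_iff hn.1.1]
    refine ⟨hpow, fun m hm hm0 h => ?_⟩
    have := hn.2 ⟨hm0, by rw [h, one_smul], by rw [h, one_smul]⟩
    omega
  have hconj : si * r * si = r⁻¹ := by
    refine eq_inv_of_mul_eq_one_left ?_
    calc si * r * si * r = (si * si) * sj * (si * si) * sj := by simp only [hr, mul_assoc]
    _ = 1 := by rw [hii, one_mul, mul_one, hjj]
  have hnot : si ∉ Subgroup.zpowers r := by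
    rintro ⟨z, hz⟩
    have hcomm : si * r = r * si := by
      simp only at hz
      rw [← hz, ← zpow_add_one, ← zpow_one_add, add_comm]
    have h2 : r = r⁻¹ := by
      rw [← hconj, hcomm, mul_assoc, hii, mul_one]
    have h3 : si = 1 ∨ si = r := by
      rcases Int.even_or_odd z with ⟨t, ht⟩ | ⟨t, ht⟩
      · left
        simp only at hz
        rw [← hz, ht, zpow_add]
        nth_rw 1 [h2]
        rw [inv_zpow, inv_mul_cancel]
      · right
        simp only at hz
        rw [← hz, ht, zpow_add_one, two_mul, zpow_add]
        nth_rw 1 [h2]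
        rw [inv_zpow, inv_mul_cancel, one_mul]
    rcases h3 with h3 | h3
    · have := congrArg (fun w : P.Aut => w • P.root i) h3
      simp only [hsi, Equiv.reflection_smul, RootPairing.reflection_apply_self, one_smul] at this
      exact Groth.Agent.RootDLib.ng_ne P i (P.root.injective (by rw [Groth.Agent.RootDLib.root_ng, this]))
    · have h4 : sj = 1 := mul_left_cancel (a := si) (by rw [mul_one]; exact h3.symm)
      have := congrArg (fun w : P.Aut => w • P.root j) h4
      simp only [hsj, Equiv.reflection_smul, RootPairing.reflection_apply_self, one_smul] at this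
      exact Groth.Agent.RootDLib.ng_ne P j (P.root.injective (by rw [Groth.Agent.RootDLib.root_ng, this]))
  have hset : (Subgroup.closure ({si, sj} : Set P.Aut) : Set P.Aut) =
      (Subgroup.zpowers r : Set P.Aut) ∪ (fun x => x * si) '' (Subgroup.zpowers r : Set P.Aut) := by
    refine Set.Subset.antisymm (fun w hw => ?_) ?_
    · have hflip : ∀ z : ℤ, si * r ^ z = r ^ (-z) * si := by
        intro z
        have h1 : si * r ^ z * si⁻¹ = (si * r * si⁻¹) ^ z := conj_zpow.symm
        rw [inv_eq_of_mul_eq_one_right hii, hconj, inv_zpow'] at h1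
        rw [← h1, mul_assoc, hii, mul_one]
      have hsjr : ∀ x : P.Aut, sj * x = si * (r * x) := fun x => by
        rw [hr, ← mul_assoc, ← mul_assoc, hii, one_mul]
      obtain ⟨l, hl, rfl⟩ := Groth.Agent.RootDLib.exists_word (T := ({i, j} : Set ι))
        (by rw [Set.image_pair]; exact hw)
      clear hw
      induction l with
      | nil => exact Or.inl ⟨0, by simp⟩
      | cons a t ih =>
        have ih := ih fun b hb => hl b (List.mem_cons_of_mem _ hb)
        rw [Groth.Agent.RootDLib.wprod_cons]
        generalize Groth.Agent.RootDLib.wprod P t = x at ih ⊢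
        rcases hl a List.mem_cons_self with h | h <;> rw [h] <;>
          rcases ih with ⟨z, rfl⟩ | ⟨_, ⟨z, rfl⟩, rfl⟩
        · exact Or.inr ⟨_, ⟨-z, rfl⟩, (hflip z).symm⟩
        · exact Or.inl ⟨-z, by
            show r ^ (-z) = si * (r ^ z * si)
            rw [← mul_assoc, hflip, mul_assoc, hii, mul_one]⟩
        · exact Or.inr ⟨_, ⟨-(z + 1), rfl⟩, by
            show r ^ (-(z + 1)) * si = sj * r ^ z
            rw [hsjr, ← hflip, add_comm, zpow_one_add]⟩
        · exact Or.inl ⟨-(z + 1), by
            show r ^ (-(z + 1)) = sj * (r ^ z * si)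
            rw [hsjr, ← mul_assoc r, ← zpow_one_add, ← mul_assoc si, hflip, add_comm, mul_assoc, hii,
              mul_one]⟩
    · rintro w (⟨z, rfl⟩ | ⟨_, ⟨z, rfl⟩, rfl⟩)
      · exact zpow_mem hrC z
      · exact mul_mem (zpow_mem hrC z) hsiC
  have hfr : (Subgroup.zpowers r : Set P.Aut).Finite := by
    rw [finite_zpowers]
    exact orderOf_pos_iff.1 (hord ▸ hn.1.1)
  have hd : Disjoint (Subgroup.zpowers r : Set P.Aut)
      ((fun x => x * si) '' (Subgroup.zpowers r : Set P.Aut)) := by
    rw [Set.disjoint_left]
    rintro w hw ⟨y, hy, rfl⟩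
    exact hnot ((Subgroup.mul_mem_cancel_left _ hy).1 hw)
  change Nat.card ↥((Subgroup.closure ({si, sj} : Set P.Aut) : Set P.Aut)) = 2 * n
  rw [hset, Nat.card_coe_set_eq, Set.ncard_union_eq hd hfr (hfr.image _),
    Set.ncard_image_of_injective _ (fun a b h => mul_right_cancel h), ← Nat.card_coe_set_eq]
  change Nat.card ↥(Subgroup.zpowers r) + Nat.card ↥(Subgroup.zpowers r) = 2 * n
  rw [Nat.card_zpowers, hord]
  omega

end Groth.Agent.S5496
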