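import Groth.Statements.S5499
import Groth.Agent.Lib.RootD.Irred
import Groth.Agent.Lib.RootD.Dual
import Groth.Agent.S5465
-- import your own Groth.Agent.* helpers here

set_option autoImplicit false
open RootD

namespace Groth.Agent.S5499

/-- For an irreducible datum, where long(α) = ℓ(α)/ℓ(α₀) with ℓ(α₀) minimal: there is a unique
homomorphism u : Γ_0(R) → M^v with u(α) = long(α) α^v for every root α. -/
theorem result {ι M N : Type*} [AddCommGroup M] [AddCommGroup N]
    (P : RootPairing ι ℤ M N) [Finite ι] [Fintype ι]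
    (hirr : ∀ R' : Set ι, RootD.IsClosedSub P R' → RootD.IsSymmSub P R' → RootD.IsClosedSub P R'ᶜ →
      RootD.IsSymmSub P R'ᶜ → R' = ∅ ∨ R' = Set.univ)
    (i₀ : ι) (hmin : ∀ i : ι, P.RootForm (P.root i₀) (P.root i₀) ≤ P.RootForm (P.root i) (P.root i)) :
    ∃! u : Submodule.span ℤ (Set.range P.root) →+ N, ∀ i : ι,
      u ⟨P.root i, Submodule.subset_span (Set.mem_range_self i)⟩ =
        (P.RootForm (P.root i) (P.root i) / P.RootForm (P.root i₀) (P.root i₀)) • P.coroot i := by
  simp only [← Groth.Agent.RootDLib.form_eq] at hmin ⊢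
  have tfN := Groth.Agent.RootDLib.torsionFree' P
  set F : ι → ℤ := fun i => Groth.Agent.RootDLib.form P (P.root i) (P.root i) with hF
  have h0 : F i₀ ≠ 0 := (Groth.Agent.RootDLib.form_root_pos P i₀).ne'
  have hdvd : ∀ i, F i₀ * (F i / F i₀) = F i := by
    intro i
    obtain ⟨m, -, hm, -⟩ := Groth.Agent.RootDLib.length_ratio_of_irred hirr hmin i
    change F i = m * F i₀ at hm
    rw [hm, Int.mul_ediv_cancel _ h0, mul_comm]
  refine Groth.Agent.S5465.result P (fun i => (F i / F i₀) • P.coroot i) (fun i => ?_) (fun i j k h => ?_)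
  · have : F (P.reflectionPerm i i) = F i := by simp [hF]
    rw [this, ← smul_neg]
    congr 1
    exact Groth.Agent.RootDLib.root_ng P.flip i
  · apply zsmul_right_injective h0
    simp only [smul_add, smul_smul, hdvd]
    apply P.flip.toPerfPair.injective
    refine LinearMap.ext fun x => ?_
    change P.toLinearMap x _ = P.toLinearMap x _
    simp only [map_add, hF, Groth.Agent.RootDLib.form_smul_coroot_eq]
    rw [h, map_add, mul_add]

end Groth.Agent.S5499
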