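import Groth.Statements.S5500
import Groth.Agent.Lib.RootD.Irred
import Groth.Agent.Lib.RootD.PMor
-- import your own Groth.Agent.* helpers here

set_option autoImplicit false
open RootD

namespace Groth.Agent.S5500

/-- For a p-morphism between irreducible reduced root data there is a rational constant k with k ·
long(u(α)) = q(α)² · long(α) for every root α; stated as the proportionality q(α)² ℓ(α) ℓ'(u β) =
q(β)² ℓ(β) ℓ'(u α) of the canonical quadratic forms. -/
theorem result {ι M N ι' M' N' : Type*} [AddCommGroup M] [AddCommGroup N] [AddCommGroup M'] [AddCommGroup N']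
    (P : RootPairing ι ℤ M N) (P' : RootPairing ι' ℤ M' N') [Finite ι] [Finite ι'] [Fintype ι] [Fintype ι'] [P.IsReduced] [P'.IsReduced]
    (hirr : ∀ R₁ : Set ι, RootD.IsClosedSub P R₁ → RootD.IsSymmSub P R₁ → RootD.IsClosedSub P R₁ᶜ →
      RootD.IsSymmSub P R₁ᶜ → R₁ = ∅ ∨ R₁ = Set.univ)
    (hirr' : ∀ R₁ : Set ι', RootD.IsClosedSub P' R₁ → RootD.IsSymmSub P' R₁ → RootD.IsClosedSub P' R₁ᶜ →
      RootD.IsSymmSub P' R₁ᶜ → R₁ = ∅ ∨ R₁ = Set.univ)
    (p : ℕ) (hp : 0 < p) (f : M' →ₗ[ℤ] M) (g : N →ₗ[ℤ] N')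
    (hfg : ∀ (m' : M') (n : N), P.toLinearMap (f m') n = P'.toLinearMap m' (g n))
    (u : ι ≃ ι') (q : ι → ℕ) (hq : ∀ i, ∃ e : ℕ, q i = p ^ e)
    (hroot : ∀ i : ι, f (P'.root (u i)) = (q i : ℤ) • P.root i)
    (hcoroot : ∀ i : ι, g (P.coroot i) = (q i : ℤ) • P'.coroot (u i)) (i j : ι) :
    ((q i : ℤ) ^ 2 * P.RootForm (P.root i) (P.root i)) * P'.RootForm (P'.root (u j)) (P'.root (u j)) =
      ((q j : ℤ) ^ 2 * P.RootForm (P.root j) (P.root j)) * P'.RootForm (P'.root (u i)) (P'.root (u i)) := by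
  simp only [← Groth.Agent.RootDLib.form_eq]
  have hq0 : ∀ i, (0 : ℤ) < q i := fun i => by
    obtain ⟨e, he⟩ := hq i
    rw [he]; positivity
  induction Groth.Agent.RootDLib.connected_of_irred hirr i j with
  | refl => rfl
  | @tail a b _ hab ih =>
    have h1 := Groth.Agent.RootDLib.pairing_mul_form P a b
    have h2 := Groth.Agent.RootDLib.pairing_mul_form P' (u a) (u b)
    have e1 := Groth.Agent.RootDLib.pmor_pairing hfg hroot hcoroot a b
    have e2 := Groth.Agent.RootDLib.pmor_pairing hfg hroot hcoroot b a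
    have hA := Groth.Agent.RootDLib.form_root_pos P' (u a)
    have hne : P.pairing a b ≠ 0 := fun h => hab ((Groth.Agent.RootDLib.isOrthogonal_iff P a b).2 h)
    have hne' : P.pairing b a ≠ 0 := fun h =>
      hne ((Groth.Agent.RootDLib.pairing_eq_zero_comm P b a).1 h)
    have hqa := hq0 a
    have hqb := hq0 b
    generalize P.pairing a b = x at h1 e1 e2 hne hne'
    generalize P.pairing b a = y at h1 e1 e2 hne hne'
    generalize P'.pairing (u a) (u b) = x' at h2 e1 e2
    generalize P'.pairing (u b) (u a) = y' at h2 e1 e2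
    generalize Groth.Agent.RootDLib.form P (P.root a) (P.root a) = A at *
    generalize Groth.Agent.RootDLib.form P (P.root b) (P.root b) = B at *
    generalize Groth.Agent.RootDLib.form P (P.root i) (P.root i) = C at *
    generalize Groth.Agent.RootDLib.form P' (P'.root (u a)) (P'.root (u a)) = A' at *
    generalize Groth.Agent.RootDLib.form P' (P'.root (u b)) (P'.root (u b)) = B' at *
    generalize Groth.Agent.RootDLib.form P' (P'.root (u i)) (P'.root (u i)) = C' at *
    generalize (q a : ℤ) = qa at *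
    generalize (q b : ℤ) = qb at *
    generalize (q i : ℤ) = qi at *
    have key : qa ^ 2 * A * B' = qb ^ 2 * B * A' := by
      apply mul_left_cancel₀ (mul_ne_zero hne' hqa.ne')
      linear_combination (qa ^ 3 * B') * (-h1) + (qa ^ 2 * B * qb) * h2
        + (qa ^ 2 * B * B') * e2 - (qa * qb * B * A') * e1
    apply mul_left_cancel₀ hA.ne'
    linear_combination B' * ih + C' * key

end Groth.Agent.S5500
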