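import Groth.Statements.S5501
import Mathlib.LinearAlgebra.FreeModule.Finite.Quotient
import Groth.Agent.Lib.RootD.Basic
-- import your own Groth.Agent.* helpers here

set_option autoImplicit false
universe u v w
open RootD

namespace Groth.Agent.S5501

/-- Adjoint case; the simply connected case is dual: a semisimple root datum R is adjoint if and only if
every isogeny R' → R is an isomorphism. -/
theorem result {ι : Type u} {M : Type v} {N : Type w} [AddCommGroup M] [AddCommGroup N]
    (P : RootPairing ι ℤ M N) [Finite ι] [Module.Finite ℤ M] [Module.Finite ℤ N]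
    (hss : Module.finrank ℤ (Submodule.span ℤ (Set.range P.root)) = Module.finrank ℤ M) :
    Submodule.span ℤ (Set.range P.root) = ⊤ ↔
      ∀ (ι' : Type u) (M' N' : Type v) [AddCommGroup M'] [AddCommGroup N'] [Finite ι']
        [Module.Finite ℤ M'] [Module.Finite ℤ N'] (P' : RootPairing ι' ℤ M' N') (f : RootPairing.Hom P' P),
        Function.Injective f.weightMap → Finite (M ⧸ LinearMap.range f.weightMap) →
          Function.Bijective f.weightMap := by
  classical
  constructor
  · intro had ι' M' N' _ _ _ _ _ P' f hf _
    refine ⟨hf, fun m => ?_⟩
    have : Submodule.span ℤ (Set.range P.root) ≤ LinearMap.range f.weightMap :=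
      Submodule.span_le.2 (by
        rintro _ ⟨i, rfl⟩
        exact ⟨P'.root (f.indexEquiv.symm i), by
          rw [RootPairing.Hom.root_weightMap_apply, Equiv.apply_symm_apply]⟩)
    exact this (had ▸ Submodule.mem_top)
  · intro h
    have : Module.IsReflexive ℤ M := .of_isPerfPair P.toLinearMap
    have hfree : Module.Free ℤ M := inferInstance
    set V : Submodule ℤ M := Submodule.span ℤ (Set.range P.root) with hV
    have hVfin : Module.Finite ℤ V := .span_of_finite _ (Set.finite_range _)
    have hVfree : Module.Free ℤ V := inferInstance
    have hVrefl : Module.IsReflexive ℤ V := inferInstance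
    let res : N →ₗ[ℤ] Module.Dual ℤ V :=
      V.subtype.dualMap ∘ₗ P.flip.toPerfPair.toLinearMap
    have hres : ∀ (n : N) (v : V), res n v = P.toLinearMap (v : M) n := fun n v => rfl
    let rootV : ι ↪ V := ⟨fun i => ⟨P.root i, Submodule.subset_span (Set.mem_range_self i)⟩,
      fun a b hab => P.root.injective (congrArg Subtype.val hab)⟩
    let corootV : ι ↪ Module.Dual ℤ V := ⟨fun i => res (P.coroot i), fun a b hab => by
      have tf := Groth.Agent.RootDLib.torsionFree P
      exact P.coroot.injective (P.injOn_dualMap_subtype_span_root_coroot ⟨a, rfl⟩ ⟨b, rfl⟩ hab)⟩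
    let P' : RootPairing ι ℤ V (Module.Dual ℤ V) :=
    { toLinearMap := Module.Dual.eval ℤ V
      root := rootV
      coroot := corootV
      root_coroot_two := fun i => P.root_coroot_two i
      reflectionPerm := P.reflectionPerm
      reflectionPerm_root := fun i j => Subtype.ext (P.reflectionPerm_root i j)
      reflectionPerm_coroot := fun i j => by
        change res (P.coroot j) - P.toLinearMap (P.root i) (P.coroot j) • res (P.coroot i) =
          res (P.coroot (P.reflectionPerm i j))
        rw [← P.reflectionPerm_coroot, map_sub, map_smul] }
    let f : RootPairing.Hom P' P :=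
    { weightMap := V.subtype
      coweightMap := res
      indexEquiv := Equiv.refl ι
      weight_coweight_transpose := by ext n v; rfl
      root_weightMap := rfl
      coroot_coweightMap := rfl }
    have hfin : Finite (M ⧸ LinearMap.range f.weightMap) := by
      change Finite (M ⧸ LinearMap.range V.subtype)
      rw [Submodule.range_subtype]
      exact (Submodule.finiteQuotient_iff _).2 hss
    have hb := h ι V (Module.Dual ℤ V) P' f Subtype.val_injective hfin
    rw [eq_top_iff]
    intro m _
    obtain ⟨v, rfl⟩ := hb.2 m
    exact v.2

end Groth.Agent.S5501
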