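import Groth.Statements.S5502
import Groth.Agent.Lib.RootD.Dual
import Groth.Agent.Lib.RootD.Sub
-- import your own Groth.Agent.* helpers here

set_option autoImplicit false
open RootD

namespace Groth.Agent.S5502

/-- If β = Σ_{α ∈ Δ} a_α α along a system of simple roots Δ, then ℓ(β) divides 2 a_α ℓ(α), and 2ℓ(β)
divides it when α^v is indivisible (ℓ the canonical quadratic form). -/
theorem result {ι M N : Type*} [AddCommGroup M] [AddCommGroup N]
    (P : RootPairing ι ℤ M N) [Finite ι] [Fintype ι] (Δ : Set ι) (hΔ : RootD.IsSimpleSys P Δ)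
    (k : ι) (c : ι →₀ ℤ) (hc : ↑c.support ⊆ Δ) (hck : Finsupp.linearCombination ℤ P.root c = P.root k)
    (i : ι) (hi : i ∈ Δ) :
    P.RootForm (P.root k) (P.root k) ∣ 2 * c i * P.RootForm (P.root i) (P.root i) ∧
      (RootD.IsIndiv P.flip i → 2 * P.RootForm (P.root k) (P.root k) ∣ 2 * c i * P.RootForm (P.root i) (P.root i)) := by
  classical
  simp only [← Groth.Agent.RootDLib.form_eq]
  have tfN := Groth.Agent.RootDLib.torsionFree' P
  have tfM := Groth.Agent.RootDLib.torsionFree P
  set D := {j : ι | ∃ a ∈ Δ, (j = a ∧ RootD.IsIndiv P.flip a) ∨ (2 : ℤ) • P.coroot j = P.coroot a}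
    with hDdef
  have hD : RootD.IsSimpleSys P.flip D := Groth.Agent.RootDLib.isSimpleSys_flip hΔ
  -- the element of `D` below each simple root
  have hsel : ∀ a ∈ Δ, ∃ d ∈ D, ∃ t : ℤ, (t = 1 ∨ t = 2) ∧ P.coroot a = t • P.coroot d ∧
      P.root d = t • P.root a ∧ (RootD.IsIndiv P.flip a → t = 1) := by
    intro a ha
    by_cases hi : RootD.IsIndiv P.flip a
    · exact ⟨a, ⟨a, ha, Or.inl ⟨rfl, hi⟩⟩, 1, Or.inl rfl, by simp, by simp, fun _ => rfl⟩
    · obtain ⟨l, -, hl⟩ := Groth.Agent.RootDLib.exists_half P.flip hi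
      exact ⟨l, ⟨a, ha, Or.inr hl.symm⟩, 2, Or.inr rfl, hl,
        (P.flip.smul_coroot_eq_of_root_eq_smul l a 2 hl).symm, fun h => absurd h hi⟩
  choose! σ hσD t ht hσc hσr htI using hsel
  obtain ⟨ψ, hψ⟩ := Groth.Agent.RootDLib.exists_hom_eq (P := P.flip) hD.linInd
    (fun d => if d = σ i then 1 else 0)
  have hψσ : ∀ a ∈ Δ, ψ (P.coroot a) = if a = i then (t i : ℚ) else 0 := by
    intro a ha
    rw [hσc a ha, map_zsmul]
    have hd : ψ (P.coroot (σ a)) = if σ a = σ i then 1 else 0 := hψ _ (hσD a ha)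
    rw [hd]
    rcases eq_or_ne a i with rfl | hne
    · simp
    · rw [if_neg hne, if_neg, smul_zero]
      intro he
      have hh := hσr a ha
      rw [he, hσr i hi] at hh
      have h0 := Groth.Agent.RootDLib.coeff_unique hΔ (c := Finsupp.single i (t i))
        (d := Finsupp.single a (t a))
        (Groth.Agent.RootDLib.supp_subset_of_natSpan hi) (Groth.Agent.RootDLib.supp_subset_of_natSpan ha)
        (by simpa using hh)
      have := DFunLike.congr_fun h0 i
      simp [Finsupp.single_eq_of_ne hne.symm] at this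
      rcases ht i hi with h | h <;> omega
  have hint : ∃ z : ℤ, ψ (P.coroot k) = z := by
    obtain ⟨e, he, hee, -⟩ := Groth.Agent.RootDLib.exists_coeff hD k
    refine ⟨e (σ i), ?_⟩
    change Finsupp.linearCombination ℤ P.coroot e = P.coroot k at hee
    rw [← hee, Finsupp.linearCombination_apply, map_finsuppSum, Finsupp.sum,
      Finset.sum_eq_single (σ i)]
    · rw [map_zsmul, show ψ (P.coroot (σ i)) = if σ i = σ i then 1 else 0 from hψ _ (hσD i hi)]
      simp
    · intro a ha hne
      rw [map_zsmul, show ψ (P.coroot a) = if a = σ i then 1 else 0 from hψ a (he ha), if_neg hne,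
        smul_zero]
    · intro h
      simp [Finsupp.notMem_support_iff.1 h]
  obtain ⟨z, hz⟩ := hint
  have key := congrArg ψ (Groth.Agent.RootDLib.form_smul_coroot_sum hΔ hck)
  have hkey : ψ (c.sum fun a w => (w * Groth.Agent.RootDLib.form P (P.root a) (P.root a)) • P.coroot a)
      = ((c i * Groth.Agent.RootDLib.form P (P.root i) (P.root i) * t i : ℤ) : ℚ) := by
    rw [map_finsuppSum, Finsupp.sum, Finset.sum_eq_single i]
    · rw [map_zsmul, hψσ i hi, if_pos rfl, zsmul_eq_mul]; push_cast; ring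
    · intro a ha hne
      rw [map_zsmul, hψσ a (hc ha), if_neg hne, smul_zero]
    · intro h
      simp [Finsupp.notMem_support_iff.1 h]
  rw [map_zsmul, hz, hkey, zsmul_eq_mul] at key
  have key' : Groth.Agent.RootDLib.form P (P.root k) (P.root k) * z =
      c i * Groth.Agent.RootDLib.form P (P.root i) (P.root i) * t i := by exact_mod_cast key
  refine ⟨?_, fun hI => ?_⟩
  · rcases ht i hi with h | h <;> rw [h] at key'
    · exact ⟨2 * z, by linarith⟩
    · exact ⟨z, by linarith⟩
  · rw [htI i hi hI] at key'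
    exact ⟨z, by linarith⟩

end Groth.Agent.S5502
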