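import Groth.Statements.S5507
import Groth.Agent.Lib.RootD.Basic
-- import your own Groth.Agent.* helpers here

set_option autoImplicit false
open RootD

namespace Groth.Agent.S5507

/-- For a system of simple roots Δ there are positive integers m_α (the lengths) such that the matrix
(m_α a_{α,β}) with a_{α,β} = (α^v, β) is symmetric and positive definite. -/
theorem result {ι M N : Type*} [AddCommGroup M] [AddCommGroup N]
    (P : RootPairing ι ℤ M N) [Finite ι] (Δ : Finset ι) (hΔ : RootD.IsSimpleSys P (↑Δ : Set ι)) :
    ∃ m : ↥Δ → ℤ, (∀ a, 0 < m a) ∧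
      (Matrix.of fun (a b : ↥Δ) => m a * P.pairing (b : ι) (a : ι)).IsSymm ∧
      (Matrix.of fun (a b : ↥Δ) => m a * P.pairing (b : ι) (a : ι)).PosDef := by
  classical
  let _ := Fintype.ofFinite ι
  refine ⟨fun a => Groth.Agent.RootDLib.form P (P.root (a : ι)) (P.root (a : ι)),
    fun a => Groth.Agent.RootDLib.form_root_pos P _, ?_, ?_⟩
  · refine Matrix.IsSymm.ext fun a b => ?_
    simp only [Matrix.of_apply]
    rw [mul_comm, ← Groth.Agent.RootDLib.two_form_root_root, Groth.Agent.RootDLib.form_comm,
      Groth.Agent.RootDLib.two_form_root_root, mul_comm]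
  · refine Matrix.PosDef.of_dotProduct_mulVec_pos ?_ fun x hx => ?_
    · refine Matrix.IsHermitian.ext fun a b => ?_
      simp only [Matrix.of_apply, star_trivial]
      rw [mul_comm, ← Groth.Agent.RootDLib.two_form_root_root, Groth.Agent.RootDLib.form_comm,
        Groth.Agent.RootDLib.two_form_root_root, mul_comm]
    · set v : M := ∑ a : ↥Δ, x a • P.root (a : ι) with hv
      have hv0 : v ≠ 0 := fun h0 => hx (funext fun a => Fintype.linearIndependent_iff.1 hΔ.linInd x h0 a)
      have hvm : v ∈ Submodule.span ℤ (Set.range P.root) :=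
        hv ▸ sum_mem fun a _ => Submodule.smul_mem _ _ (Groth.Agent.RootDLib.root_mem P _)
      have hpos := Groth.Agent.RootDLib.form_pos P hvm hv0
      have : star x ⬝ᵥ (Matrix.of fun (a b : ↥Δ) => Groth.Agent.RootDLib.form P (P.root (a : ι))
          (P.root (a : ι)) * P.pairing (b : ι) (a : ι)).mulVec x =
          2 * Groth.Agent.RootDLib.form P v v := by
        simp only [hv, map_sum, map_smul, LinearMap.coe_sum, Finset.sum_apply, LinearMap.smul_apply,
          smul_eq_mul, Matrix.mulVec, dotProduct, Finset.mul_sum, star_trivial, Matrix.of_apply]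
        refine Finset.sum_congr rfl fun a _ => Finset.sum_congr rfl fun b _ => ?_
        rw [mul_comm (Groth.Agent.RootDLib.form P (P.root (a : ι)) (P.root (a : ι))),
          ← Groth.Agent.RootDLib.two_form_root_root]
        ring
      rw [this]; linarith

end Groth.Agent.S5507
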