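import Groth.Statements.S5512
import Groth.Agent.Lib.AttrBorel21.CentreQuot
import Groth.Agent.Lib.AttrBorel21.MaxTori
import Groth.Agent.Lib.TorPts21.MaximalTorusClosed
import Groth.Agent.Lib.TorPts21.Max
import Groth.Agent.Lib.BorelFix21.BaseChange
import Groth.Agent.Lib.CartanRel21.Basic
-- import your own Groth.Agent.* helpers here

set_option autoImplicit false
open CategoryTheory MonoidalCategory CartesianMonoidalCategory MonObj GrpObj AlgebraicGeometry
universe u
open RedSub

namespace Groth.Agent.S5512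

/-- For a reductive S-group G. Let i : H ⟶ G be a subgroup of type (R) and k : K ⟶ H a homomorphism.
Then k is a subgroup of type (R) of H if and only if k ≫ i is a subgroup of type (R) of G. (For H of
type (R) in a reductive G, the Cartan subgroups of the geometric fibres of H are their maximal tori,
which are maximal tori of the geometric fibres of G, so the prelude's notion of type (R) relative to
H is the source's.) -/
theorem result {S : Scheme.{u}} {G H K : Over S} [GrpObj G] [GrpObj H] [GrpObj K]
    (hG : Red.IsReductive G) (i : H ⟶ G) (hH : RedSub.IsTypeR i) (k : K ⟶ H) [IsMonHom k] :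
    RedSub.IsTypeR k ↔ RedSub.IsTypeR (k ≫ i) := by
  obtain ⟨⟨hiM, hiI⟩, hiS, hiQ, hiC, hiT⟩ := hH
  haveI := hiM
  haveI := hiI
  have hconn : ∀ s : S, ConnectedSpace (Red.geomFibre s H).left := fun s => by
    let Hs : Over (Spec (CommRingCat.of (S.residueField s))) := (Over.pullback (S.fromSpecResidueField s)).obj H
    letI : GrpObj Hs := Functor.grpObjObj
    haveI := hiS
    haveI : Smooth Hs.hom := inferInstanceAs (Smooth (Limits.pullback.snd H.hom (S.fromSpecResidueField s)))
    haveI : ConnectedSpace Hs.left := by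
      haveI : ConnectedSpace ↥(H.hom.base ⁻¹' {s}) := Subtype.connectedSpace (hiC s)
      exact (H.hom.fiberHomeo s).symm.surjective.connectedSpace (H.hom.fiberHomeo s).symm.continuous
    let φ := Spec.map (CommRingCat.ofHom (algebraMap (S.residueField s) (AlgebraicClosure (S.residueField s))))
    haveI := BorelFix21.connectedSpace_bc φ Hs
    let e : ((Over.pullback φ).obj Hs).left ≅ (Red.geomFibre s H).left :=
      Limits.pullbackLeftPullbackSndIso H.hom (S.fromSpecResidueField s) φ
    exact e.hom.homeomorph.surjective.connectedSpace e.hom.homeomorph.continuous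
  have hker : ∀ (s : S) (T : Over (Spec (CommRingCat.of (AlgebraicClosure (S.residueField s))))) [GrpObj T]
      (t : T ⟶ Red.geomFibre s H), IsMonHom t →
      (Red.IsMaximalTorus t ↔ Red.IsMaximalTorus (t ≫ (Over.pullback (Red.geomPt s)).map i)) := by
    intro s T _ t htm
    haveI := htm
    haveI : Mono i.left := inferInstance
    haveI : Mono i := Over.mono_of_mono_left i
    set is := (Over.pullback (Red.geomPt s)).map i
    haveI : IsMonHom is := MTRigid29.isMonHom_map i _
    haveI : Mono is := Functor.map_mono _ _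
    have hdown : ∀ (T₀ : Over (Spec (CommRingCat.of (AlgebraicClosure (S.residueField s))))) [GrpObj T₀]
        (t₀ : T₀ ⟶ Red.geomFibre s H), IsMonHom t₀ → AGF.IsMaxTorus (t₀ ≫ is) → AGF.IsMaxTorus t₀ := by
      intro T₀ _ t₀ ht₀ h₀
      haveI := h₀.2.1
      exact ⟨ht₀, mono_of_mono t₀ is, h₀.2.2.1, fun T' _ j _ _ f hT' hf =>
        h₀.2.2.2 T' (j ≫ is) f hT' (by rw [← Category.assoc, hf])⟩
    refine ⟨fun h => ?_, fun h => AttrBorel21.isMaximalTorus_of_isMaxTorus
      (hdown T t htm (TorPts21.isMaxTorus_of_isMaximalTorus h))⟩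
    obtain ⟨T₀, _, t₀, ht₀, h₀'⟩ := hiT s
    haveI := ht₀
    have h₀ := TorPts21.isMaxTorus_of_isMaximalTorus h₀'
    have hu₀ := hdown T₀ t₀ ht₀ h₀
    have hu := TorPts21.isMaxTorus_of_isMaximalTorus h
    haveI := hu.2.1
    haveI := hiS
    haveI := hiQ
    haveI : Smooth (Red.geomFibre s H).hom := inferInstanceAs (Smooth (Limits.pullback.snd H.hom (Red.geomPt s)))
    haveI : QuasiCompact (Red.geomFibre s H).hom :=
      inferInstanceAs (QuasiCompact (Limits.pullback.snd H.hom (Red.geomPt s)))
    haveI := hconn s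
    obtain ⟨g, φ, hφ⟩ := AttrBorel21.exists_conj_maximalTorus hu₀ hu
    have heq : AGF.conjBy (g ≫ is) (t₀ ≫ is) = φ.hom ≫ t ≫ is := by
      rw [← Category.assoc φ.hom, ← hφ, MonObj.mul_comp, MonObj.mul_comp, GrpObj.inv_comp, Category.assoc]
    obtain ⟨-, -, -, hmax⟩ := TorPts21.isMaxTorus_conjBy h₀ (g ≫ is)
    refine AttrBorel21.isMaximalTorus_of_isMaxTorus ⟨inferInstance, inferInstance, hu.2.2.1, fun T' _ j _ _ f hT' hf => ?_⟩
    haveI : IsIso (φ.hom ≫ f) := hmax T' j (φ.hom ≫ f) hT' (by rw [heq, Category.assoc, hf])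
    haveI : IsIso φ.hom := φ.isIso_hom
    exact IsIso.of_isIso_comp_left φ.hom f
  constructor
  · rintro ⟨⟨-, hkI⟩, hS, hQ, hC, hT⟩
    haveI := hkI
    refine ⟨⟨inferInstance, by rw [Over.comp_left]; infer_instance⟩, hS, hQ, hC, fun s => ?_⟩
    obtain ⟨T, _, t, htm, ht⟩ := hT s
    refine ⟨T, inferInstance, t, htm, ?_⟩
    haveI := htm
    haveI : IsMonHom ((Over.pullback (Red.geomPt s)).map k) := MTRigid29.isMonHom_map k _
    have := (hker s T (t ≫ (Over.pullback (Red.geomPt s)).map k) inferInstance).1 ht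
    rwa [Category.assoc, ← Functor.map_comp] at this
  · rintro ⟨⟨-, hkI⟩, hS, hQ, hC, hT⟩
    haveI : IsImmersion (k.left ≫ i.left) := hkI
    refine ⟨⟨inferInstance, IsImmersion.of_comp k.left i.left⟩, hS, hQ, hC, fun s => ?_⟩
    obtain ⟨T, _, t, htm, ht⟩ := hT s
    refine ⟨T, inferInstance, t, htm, ?_⟩
    haveI := htm
    haveI : IsMonHom ((Over.pullback (Red.geomPt s)).map k) := MTRigid29.isMonHom_map k _
    rw [Functor.map_comp, ← Category.assoc] at ht
    exact (hker s T (t ≫ (Over.pullback (Red.geomPt s)).map k) inferInstance).2 ht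

end Groth.Agent.S5512
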