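import Groth.Statements.S5514
import Groth.Agent.S0447
import Groth.Agent.Lib.AbRigid.SmoothGI
import Groth.Agent.Lib.RigidGIT19.Basic
-- import your own Groth.Agent.* helpers here

set_option autoImplicit false
open CategoryTheory MonoidalCategory CartesianMonoidalCategory MonObj GrpObj AlgebraicGeometry
universe u
open RedSub

namespace Groth.Agent.S5514

/-- A reductive S-group G is essentially free over S: every point of S has an affine open neighbourhood
U and a flat surjective morphism from an affine scheme S' to U such that G_{S'} is covered by affine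
opens whose rings of functions are projective modules over the ring of S'. -/
theorem result {S : Scheme.{u}} (G : Over S) [GrpObj G] (hG : Red.IsReductive G) :
    SGA3x.IsEssentiallyFree G.hom := by
  obtain ⟨hA, hS, hR⟩ := hG
  haveI := hA
  haveI := hS
  haveI : GeometricallyConnected G.hom :=
    Groth.Agent.RigidGIT19.geometricallyConnected_of_geomFibre G.hom fun s => (hR s).2.2.1
  haveI : GeometricallyIntegral G.hom := by
    rw [GeometricallyIntegral.iff_geometricallyIntegral_fiber]
    intro s
    let Gs : Over (Spec (CommRingCat.of (S.residueField s))) := (Over.pullback (S.fromSpecResidueField s)).obj G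
    letI : GrpObj Gs := Functor.grpObjObj
    haveI : Smooth Gs.hom := inferInstanceAs (Smooth (Limits.pullback.snd G.hom (S.fromSpecResidueField s)))
    haveI : GeometricallyConnected Gs.hom := inferInstanceAs (GeometricallyConnected (Limits.pullback.snd G.hom (S.fromSpecResidueField s)))
    exact Groth.Agent.AbRigid.geometricallyIntegral_of_smooth Gs
  intro s
  obtain ⟨U, hU, hsU, -⟩ := exists_isAffineOpen_mem_and_subset (x := s) (U := ⊤) trivial
  haveI : IsAffine (U : Scheme.{u}) := hU
  refine ⟨U, hsU, hU, U, inferInstance, 𝟙 _, inferInstance, inferInstance, fun x => ?_⟩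
  haveI : IsAffine (Limits.pullback G.hom (𝟙 _ ≫ U.ι)) :=
    isAffine_of_isAffineHom (Limits.pullback.snd G.hom (𝟙 _ ≫ U.ι))
  refine ⟨⊤, trivial, isAffineOpen_top _, ?_⟩
  haveI : IsAffine ((⊤ : (Limits.pullback G.hom (𝟙 _ ≫ U.ι)).Opens) : Scheme.{u}) := isAffineOpen_top _
  haveI : IsIso ((⊤ : (Limits.pullback G.hom (𝟙 _ ≫ U.ι)).Opens)).ι := by
    rw [← Scheme.topIso_hom]; infer_instance
  haveI : GeometricallyIntegral
      (((⊤ : (Limits.pullback G.hom (𝟙 _ ≫ U.ι)).Opens)).ι ≫ Limits.pullback.snd G.hom (𝟙 _ ≫ U.ι)) :=
    MorphismProperty.RespectsIso.precomp @GeometricallyIntegral _ _ inferInstance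
  exact Groth.Agent.S0447.result _

end Groth.Agent.S5514
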