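import Groth.Statements.S5518
import Groth.Agent.Lib.RedCell16.Extend
import Groth.Agent.Lib.RedCell16.Pts

set_option linter.style.haveILetI false
set_option backward.isDefEq.respectTransparency false
set_option backward.isDefEq.respectTransparency.types false
-- import your own Groth.Agent.* helpers here

set_option autoImplicit false
open CategoryTheory MonoidalCategory CartesianMonoidalCategory MonObj GrpObj AlgebraicGeometry
universe u
open RedSub

namespace Groth.Agent.S5518

/-- Let G be a split reductive S-group with big cell map c : Ω = G_a^{R_-} x_S T x_S G_a^{R_+} ⟶ G, and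
f : Ω ⟶ H an S-morphism to an S-group scheme such that f(z) = f(x) f(y) whenever x, y, z are points
of Ω with c(z) = c(x) c(y). Then f extends uniquely to a homomorphism G ⟶ H: there is exactly one
homomorphism of S-groups whose composite with c is f. (The published statement allows H to be any
fppf sheaf of groups.) -/
theorem result {S : Scheme.{u}} {G H : Over S} [GrpObj G] [GrpObj H] (D : Red.SplitRed G)
    (b : D.P.Base) {n m : ℕ} (eneg : Fin n → D.idx) (epos : Fin m → D.idx)
    (hneg : RedSub.Enumerates (RedSub.negRoots D.P b) eneg) (hpos : RedSub.Enumerates (RedSub.posRoots D.P b) epos)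
    (f : RedSub.pow (Red.Ga S) n ⊗ (D.T ⊗ RedSub.pow (Red.Ga S) m) ⟶ H)
    (hf : ∀ (X : Over S) (x y z : X ⟶ RedSub.pow (Red.Ga S) n ⊗ (D.T ⊗ RedSub.pow (Red.Ga S) m)),
      z ≫ RedSub.cellMap D eneg epos = (x ≫ RedSub.cellMap D eneg epos) * (y ≫ RedSub.cellMap D eneg epos) →
        z ≫ f = (x ≫ f) * (y ≫ f)) :
    ∃! g : G ⟶ H, IsMonHom g ∧ RedSub.cellMap D eneg epos ≫ g = f := by
  haveI := RedCell16.isOpenImmersion_cellMap D b eneg epos hneg hpos
  obtain ⟨g, hg, hgf⟩ := RedCell16.Extend.exists_hom (RankOne16.Rig.of_isReductive D.reductive)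
    (j := RedSub.cellMap D eneg epos) (fun s => RedCell16.unit_mem D eneg epos s) f hf
  refine ⟨g, ⟨hg, hgf⟩, fun g' hg' => ?_⟩
  haveI := hg
  haveI := hg'.1
  exact RedCell16.hom_ext_cell D eneg epos hneg hpos g' g (hg'.2.trans hgf.symm)

end Groth.Agent.S5518
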