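import Groth.Statements.S5519
import Groth.Agent.Lib.RedCell16.RankOne
import Groth.Agent.Lib.RootComb21.Basic
import Groth.Agent.Lib.RankOne16.Charts

set_option linter.style.haveILetI false
set_option backward.isDefEq.respectTransparency false
set_option backward.isDefEq.respectTransparency.types false
-- import your own Groth.Agent.* helpers here

set_option autoImplicit false
open CategoryTheory MonoidalCategory CartesianMonoidalCategory MonObj GrpObj AlgebraicGeometry
universe u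
open RedSub

namespace Groth.Agent.S5519

/-- Let G be a split reductive S-group of semisimple rank 1 (every root is a or -a, with a positive for
the system of simple roots b), Ω ⟶ G its big cell map, and x an S-point of G_a whose coordinate
function is a unit (so u_a(x) is a section of U_a generating it). Then G = Ω ∪ u_a(x) Ω: every point
of the underlying space of G is in the image of the big cell map or of its left translate by u_a(x). -/
theorem result {S : Scheme.{u}} {G : Over S} [GrpObj G] (D : Red.SplitRed G)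
    (b : D.P.Base) {n m : ℕ} (eneg : Fin n → D.idx) (epos : Fin m → D.idx)
    (hneg : RedSub.Enumerates (RedSub.negRoots D.P b) eneg) (hpos : RedSub.Enumerates (RedSub.posRoots D.P b) epos)
    (a : D.idx) (ha : a ∈ RedSub.posRoots D.P b) (hR : ∀ c : D.idx, c = a ∨ c = D.P.reflectionPerm a a)
    (x : 𝟙_ (Over S) ⟶ Red.Ga S) (hx : IsUnit (Red.gaFn x)) (p : ↥G.left) :
    p ∈ Set.range (RedSub.cellMap D eneg epos).left.base ∨
      p ∈ Set.range ((toUnit _ ≫ x ≫ D.u a) * RedSub.cellMap D eneg epos).left.base := by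
  classical
  haveI := D.fintypeIdx
  haveI := D.maximalTorus.1
  have hng : D.P.reflectionPerm a a ∈ RedSub.negRoots D.P b := (RootComb21.mem_negRoots_iff_ng b _).2 (by
    rw [show RootDLib.ng D.P (D.P.reflectionPerm a a) = a by simp]
    exact ha)
  have hposeq : RedSub.posRoots D.P b = {a} := by
    ext c
    constructor
    · intro hc
      rcases hR c with rfl | rfl
      · rfl
      · exact absurd hc ((RootComb21.mem_negRoots_iff b _).1 hng)
    · rintro rfl; exact ha
  have hnegeq : RedSub.negRoots D.P b = {D.P.reflectionPerm a a} := by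
    ext c
    constructor
    · intro hc
      rcases hR c with rfl | rfl
      · exact absurd ha ((RootComb21.mem_negRoots_iff b _).1 hc)
      · rfl
    · rintro rfl; exact hng
  obtain rfl : n = 1 := by
    have h := Fintype.card_congr ((Equiv.ofInjective eneg hneg.1).trans (Equiv.setCongr (hneg.2.trans hnegeq)))
    simpa using h
  obtain rfl : m = 1 := by
    have h := Fintype.card_congr ((Equiv.ofInjective epos hpos.1).trans (Equiv.setCongr (hpos.2.trans hposeq)))
    simpa using h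
  have ea : epos 0 = a := Set.eq_of_mem_singleton (hposeq ▸ hpos.2 ▸ Set.mem_range_self (f := epos) 0)
  have en : eneg 0 = D.P.reflectionPerm a a :=
    Set.eq_of_mem_singleton (hnegeq ▸ hneg.2 ▸ Set.mem_range_self (f := eneg) 0)
  obtain ⟨σ, av, hσ, hD, hΩ⟩ := RedCell16.exists_datum₁ D eneg epos hneg hpos (by rw [en, ea])
  haveI := hD.hom_pp
  haveI := hD.hom_pm
  haveI := hD.hom_av
  haveI := (D.rootHom (epos 0)).1
  haveI := RedCell16.mono_u D (epos 0)
  subst ea
  generalize hp'' : σ ≫ D.u (epos 0) = pp' at hD hΩ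
  haveI := hD.hom_pp
  let g : RankOne16.kPt (Red.geomPt p ≫ G.hom) ⟶ G := RankOne16.geomHom p
  have hgp : g.left (IsLocalRing.closedPoint _) = p := RankOne16.geomHom_apply p _
  -- points of the cell of the datum are points of the big cell
  have hcell : ∀ (X : Over S) (y : Γ(X.left, ⊤)) (t : X ⟶ D.T) (z : Γ(X.left, ⊤)),
      ∃ w : X ⟶ RedSub.pow (Red.Ga S) 1 ⊗ (D.T ⊗ RedSub.pow (Red.Ga S) 1),
        w ≫ RedSub.cellMap D eneg epos = RankOne16.cell D.i pp' (D.u (eneg 0)) y t z := fun X y t z => by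
    refine ⟨RedCell16.mkDom D (fun _ => y) t (fun _ => Red.gaFn (GaPts.ptOfFn z ≫ σ)), ?_⟩
    rw [show RankOne16.cell D.i pp' (D.u (eneg 0)) y t z =
      RankOne16.cell D.i (D.u (epos 0)) (D.u (eneg 0)) y t (Red.gaFn (GaPts.ptOfFn z ≫ σ)) by
        rw [RankOne16.cell, RankOne16.cell, ← RankOne.comp_eq_P (D.u (epos 0)), Category.assoc, hp'']; rfl]
    exact (RedCell16.cell_eq_cellPt D eneg epos y t _).symm
  have claim : ∀ (a' : Γ((RankOne16.kPt (Red.geomPt p ≫ G.hom)).left, ⊤)), a' ≠ 0 →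
      ∀ (t : RankOne16.kPt (Red.geomPt p ≫ G.hom) ⟶ D.T) (c : Γ((RankOne16.kPt (Red.geomPt p ≫ G.hom)).left, ⊤)),
      ∃ y τ z, RankOne.P pp' a' * (t ≫ D.i) * RankOne16.W pp' (D.u (eneg 0)) * RankOne.P pp' c =
        RankOne16.cell D.i pp' (D.u (eneg 0)) y τ z := fun a' ha' t c => by
    let k := GmPts.unitOfPt (t ≫ RedCell16.rootChar D (epos 0))
    let a1 := ((k⁻¹ : (Γ((RankOne16.kPt (Red.geomPt p ≫ G.hom)).left, ⊤))ˣ) : Γ((RankOne16.kPt (Red.geomPt p ≫ G.hom)).left, ⊤)) * a'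
    have hu : IsUnit (1 + (a1 + 1) * (-1)) := by
      rw [show 1 + (a1 + 1) * (-1) = -a1 by ring]
      exact ((k⁻¹).isUnit.mul (RankOne16.isUnit_of_ne ha')).neg
    obtain ⟨z, hz⟩ := hu
    have h1 : RankOne.P pp' a' * (t ≫ D.i) = (t ≫ D.i) * RankOne.P pp' a1 := by
      have h := RankOne.conj_P hD t a1
      rw [show (k : Γ((RankOne16.kPt (Red.geomPt p ≫ G.hom)).left, ⊤)) * a1 = a' from Units.mul_inv_cancel_left k a'] at h
      rw [← h, inv_mul_cancel_right]
    have h2 := RankOne.P_mul_M hD (a1 + 1) (-1) z hz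
    refine ⟨((k⁻¹ : (Γ((RankOne16.kPt (Red.geomPt p ≫ G.hom)).left, ⊤))ˣ) : Γ((RankOne16.kPt (Red.geomPt p ≫ G.hom)).left, ⊤)) *
      (-1 * ((z⁻¹ : (Γ((RankOne16.kPt (Red.geomPt p ≫ G.hom)).left, ⊤))ˣ) : Γ((RankOne16.kPt (Red.geomPt p ≫ G.hom)).left, ⊤))),
      t * (GmPts.ptOfUnit z ≫ av), (a1 + 1) * ((z⁻¹ : (Γ((RankOne16.kPt (Red.geomPt p ≫ G.hom)).left, ⊤))ˣ) : Γ((RankOne16.kPt (Red.geomPt p ≫ G.hom)).left, ⊤)) + (1 + c), ?_⟩
    rw [RankOne16.cell, RankOne.P_add ((a1 + 1) * _), RankOne.P_add (1 : Γ((RankOne16.kPt (Red.geomPt p ≫ G.hom)).left, ⊤)) c,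
      MonObj.mul_comp, ← RankOne.conj_M hD t, h1, RankOne16.W, RankOne.w,
      show (GmPts.ptOfUnit z ≫ av) ≫ D.i = RankOne.A D.i av z from Category.assoc _ _ _]
    calc _ = (t ≫ D.i) * (RankOne.P pp' (a1 + 1) * RankOne.P (D.u (eneg 0)) (-1)) *
          (RankOne.P pp' (1 : Γ((RankOne16.kPt (Red.geomPt p ≫ G.hom)).left, ⊤)) * RankOne.P pp' c) := by
          rw [RankOne.P_add]; simp only [_root_.mul_assoc]
      _ = _ := by rw [h2]; simp only [_root_.mul_assoc, inv_mul_cancel_left]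
  rcases RankOne16.bruhat hD hΩ (RankOne16.Rig.of_isReductive D.reductive) g with ⟨t, z, h⟩ | ⟨a', t, c, h⟩
  · left
    obtain ⟨w, hw⟩ := hcell _ 0 t z
    refine ⟨w.left (IsLocalRing.closedPoint _), ?_⟩
    rw [RankOne16.cell, RankOne.P_zero, _root_.one_mul, ← h] at hw
    exact (congrArg (fun f : RankOne16.kPt (Red.geomPt p ≫ G.hom) ⟶ G => f.left (IsLocalRing.closedPoint _)) hw).trans hgp
  by_cases ha' : a' = 0
  swap
  · left
    obtain ⟨y, τ, z, h'⟩ := claim a' ha' t c
    obtain ⟨w, hw⟩ := hcell _ y τ z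
    refine ⟨w.left (IsLocalRing.closedPoint _), ?_⟩
    rw [← h', ← h] at hw
    exact (congrArg (fun f : RankOne16.kPt (Red.geomPt p ≫ G.hom) ⟶ G => f.left (IsLocalRing.closedPoint _)) hw).trans hgp
  right
  let X := RankOne16.kPt (Red.geomPt p ≫ G.hom)
  let xK : X ⟶ Red.Ga S := toUnit X ≫ x
  have hxK : IsUnit (Red.gaFn xK) := by rw [GaPts.gaFn_comp]; exact hx.map _
  -- the point in the coordinate of the datum
  obtain ⟨ξ, hξ⟩ : ∃ ξ : Γ(X.left, ⊤), RankOne.P pp' ξ = xK ≫ D.u (epos 0) := by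
    obtain ⟨σ', hσ'⟩ := hσ
    exact ⟨Red.gaFn (xK ≫ σ'), by rw [← RankOne.comp_eq_P, ← hp'', Category.assoc, ← Category.assoc σ', hσ'.2, Category.id_comp]⟩
  have hξ0 : ξ ≠ 0 := by
    rintro rfl
    rw [RankOne.P_zero, ← MonObj.one_comp (f := D.u (epos 0))] at hξ
    have h2 := congrArg Red.gaFn ((cancel_mono (D.u (epos 0))).1 hξ)
    rw [GaPts.gaFn_one] at h2
    rw [← h2, isUnit_zero_iff] at hxK
    obtain ⟨v, hv⟩ := RankOne16.exists_zpow_ne_one (K := AlgebraicClosure (G.left.residueField p)) (Red.geomPt p ≫ G.hom) 1 one_ne_zero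
    haveI := subsingleton_of_zero_eq_one hxK
    exact hv (Units.ext (Subsingleton.elim _ _))
  obtain ⟨y, τ, z, h'⟩ := claim (-ξ) (neg_ne_zero.2 hξ0) t c
  obtain ⟨w, hw⟩ := hcell _ y τ z
  refine ⟨w.left (IsLocalRing.closedPoint _), ?_⟩
  have hw2 : w ≫ ((toUnit _ ≫ x ≫ D.u (epos 0)) * RedSub.cellMap D eneg epos) = g := by
    rw [MonObj.comp_mul, hw, ← h', ← Category.assoc w, Subsingleton.elim (w ≫ toUnit _) (toUnit X),
      ← Category.assoc (toUnit X), ← hξ, h, ha', RankOne.P_zero, RankOne.P_neg]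
    simp [_root_.mul_assoc]
  exact (congrArg (fun f : RankOne16.kPt (Red.geomPt p ≫ G.hom) ⟶ G => f.left (IsLocalRing.closedPoint _)) hw2).trans hgp

end Groth.Agent.S5519
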