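import Groth.Statements.S5520
import Groth.Agent.Lib.RedCell16.Descent

set_option linter.style.haveILetI false
set_option backward.isDefEq.respectTransparency false
set_option backward.isDefEq.respectTransparency.types false
-- import your own Groth.Agent.* helpers here

set_option autoImplicit false
open CategoryTheory MonoidalCategory CartesianMonoidalCategory MonObj GrpObj AlgebraicGeometry
universe u
open RedSub

namespace Groth.Agent.S5520

/-- Let G be a split pinned reductive S-group (pinning D), Ω ⟶ G the big cell map of its system of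
positive roots, and for each simple root a let x_a be an S-point of G_a with unit coordinate. Let
U_1 be the submonoid of G(S) generated by the sections u_a(x_a), a simple. Then the open sets u Ω, u
∈ U_1, cover G. -/
theorem result {S : Scheme.{u}} {G : Over S} [GrpObj G] (D : Red.Pinning G)
    {n m : ℕ} (eneg : Fin n → D.idx) (epos : Fin m → D.idx)
    (hneg : RedSub.Enumerates (RedSub.negRoots D.P D.base) eneg) (hpos : RedSub.Enumerates (RedSub.posRoots D.P D.base) epos)
    (x : D.idx → (𝟙_ (Over S) ⟶ Red.Ga S)) (hx : ∀ a ∈ D.base.support, IsUnit (Red.gaFn (x a))) (p : ↥G.left) :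
    ∃ w ∈ Submonoid.closure {g : 𝟙_ (Over S) ⟶ G | ∃ a ∈ D.base.support, g = x a ≫ D.u a},
      p ∈ Set.range ((toUnit _ ≫ w) * RedSub.cellMap D.toSplitRed eneg epos).left.base := by
  let D' := D.toSplitRed
  haveI := RedCell16.isReduced D' (G.hom p)
  haveI := D.fintypeIdx
  have hΔ := RootComb21.isSimpleSys_support D.base
  set M := Submonoid.closure {g : 𝟙_ (Over S) ⟶ G | ∃ a ∈ D.base.support, g = x a ≫ D.u a}
  obtain ⟨nr, hnr⟩ := RedCell16.exists_realises D'
  let X := RankOne16.kPt (Red.geomPt p ≫ G.hom)
  let q : X ⟶ G := RankOne16.geomHom p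
  have hrev : ∀ l : List D.idx, RootDLib.wprod D.P l.reverse = (RootDLib.wprod D.P l)⁻¹ := fun l => by
    induction l with
    | nil => simp
    | cons c l ih =>
      rw [List.reverse_cons, RootDLib.wprod_append, ih, RootDLib.wprod_cons, RootDLib.wprod_nil, _root_.mul_one,
        RootDLib.wprod_cons, _root_.mul_inv_rev, RootPairing.Equiv.reflection_inv]
  have main : ∀ (N : ℕ) (l : List D.idx), l.length = N → (∀ c ∈ l, c ∈ (D.base.support : Set D.idx)) → ∀ g : X ⟶ G,
      RedCell16.InC D' D.base nr X l g → ∃ w ∈ M, ∃ y t z,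
        g = (toUnit X ≫ w) * RedCell16.cellPt D' eneg epos y t z := by
    intro N
    induction N using Nat.strong_induction_on with
    | _ N ih =>
      intro l hN hl g hg
      cases l with
      | nil =>
        obtain ⟨y, t, z, rfl⟩ := RedCell16.inC_one D' hnr hg eneg epos hneg hpos
        exact ⟨1, Submonoid.one_mem _, y, t, z, by rw [MonObj.comp_one, _root_.one_mul]⟩
      | cons a l =>
        have ha : a ∈ D.base.support := hl a List.mem_cons_self
        have hl' : ∀ c ∈ l, c ∈ (D.base.support : Set D.idx) := fun c hc => hl c (List.mem_cons_of_mem a hc)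
        rw [List.length_cons] at hN
        by_cases hd : (RootDLib.wprod D.P (a :: l))⁻¹ • a ∈ RedSub.posRoots D.P D.base
        · have h1 : RootDLib.wprod D.P l.reverse • a ∉ RootD.posOf D.P (D.base.support : Set D.idx) := by
            rw [hrev]
            intro h2
            rw [RootDLib.wprod_cons, _root_.mul_inv_rev, RootPairing.Equiv.reflection_inv, mul_smul,
              RootDLib.refl_smul] at hd
            change (RootDLib.wprod D.P l)⁻¹ • RootDLib.ng D.P a ∈ _ at hd
            rw [RootDLib.smul_ng] at hd
            exact (RootDLib.isPosSys_posOf hΔ).disjoint h2 hd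
          obtain ⟨l₂, hs, hlen, he⟩ := RootDLib.exchange hΔ (fun c hc => hl' c (List.mem_reverse.1 hc)) ha h1
          refine ih l₂.reverse.length (by rw [List.length_reverse] at hlen ⊢; omega) _ rfl
            (fun c hc => hl' c (List.mem_reverse.1 (hs.subset (List.mem_reverse.1 hc)))) g
            (RedCell16.inC_congr D' hnr ?_ hg)
          show RootDLib.wprod D.P (a :: l) = RootDLib.wprod D.P l₂.reverse
          rw [hrev] at he
          rw [hrev, RootDLib.wprod_cons, ← _root_.inv_inv (RootDLib.wprod D.P l), he, _root_.mul_inv_rev,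
            RootPairing.Equiv.reflection_inv, ← _root_.mul_assoc, RootDLib.refl_mul_self, _root_.one_mul]
        · obtain ⟨ξ, hξ⟩ : IsUnit (Red.gaFn (toUnit X ≫ x a)) := by
            rw [GaPts.gaFn_comp]; exact (hx a ha).map _
          have h1 := RedCell16.inC_descend D' ha hnr hd ξ hg
          obtain ⟨w, hw, y, t, z, e⟩ := ih l.length (by omega) l rfl hl' _ h1
          refine ⟨x a ≫ D.u a * w, Submonoid.mul_mem _ (Submonoid.subset_closure ⟨a, ha, rfl⟩) hw, y, t, z, ?_⟩
          rw [MonObj.comp_mul, ← Category.assoc, RankOne.comp_eq_P (D.u a) (toUnit X ≫ x a), ← hξ, _root_.mul_assoc, ← e,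
            mul_inv_cancel_left]
  obtain ⟨l, hl⟩ := RedCell16.cov_all D' D.base nr hnr (Red.geomPt p ≫ G.hom) q
  obtain ⟨l', hl', he⟩ := RootDLib.exists_word (g := RootDLib.wprod D.P l) (T := (D.base.support : Set D.idx)) (by
    rw [RootDLib.closure_simple_eq hΔ, RootDLib.weylGroup_eq_closure]
    exact RootDLib.wprod_mem fun _ _ => Set.mem_univ _)
  obtain ⟨w, hw, y, t, z, e⟩ := main _ l' rfl hl' q (RedCell16.inC_congr D' hnr he.symm hl)
  refine ⟨w, hw, (RedCell16.mkDom D' y t z).left (IsLocalRing.closedPoint _), ?_⟩
  have h0 : RedCell16.mkDom D' y t z ≫ ((toUnit _ ≫ w) * RedSub.cellMap D' eneg epos) = q := by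
    rw [MonObj.comp_mul, RedCell16.toUnit_comp, e]; rfl
  have h := congrArg (fun f : X ⟶ G => f.left (IsLocalRing.closedPoint _)) h0
  simp only [Over.comp_left, Scheme.Hom.comp_apply] at h
  exact h.trans (RankOne16.geomHom_apply p _)

end Groth.Agent.S5520
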