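import Groth.Statements.S5521
import Groth.Agent.Lib.RedCell16.CommOrd

set_option linter.style.haveILetI false
set_option backward.isDefEq.respectTransparency false
set_option backward.isDefEq.respectTransparency.types false
-- import your own Groth.Agent.* helpers here

set_option autoImplicit false
open CategoryTheory MonoidalCategory CartesianMonoidalCategory MonObj GrpObj AlgebraicGeometry
universe u
open RedSub

namespace Groth.Agent.S5521

/-- Let G be a split reductive S-group (splitting D, root homomorphisms u_c : G_a ⟶ G), b a system of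
simple roots and α, β two roots positive for b. Let e be an injective enumeration of the roots of
the form i α + j β with i, j ≥ 1, with exponents (i_k, j_k). Then there is a unique family (C_k) of
global functions on S such that, for all points x, y of G_a (with values in any X over S), u_α(x)
u_β(y) u_α(x)⁻¹ = u_β(y) · ∏_k u_{e k}(C_k x^{i_k} y^{j_k}), the product taken in the order of e;
here a point z of G_a with coordinate C_k x^{i_k} y^{j_k} is any point whose coordinate function is
that product. -/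
theorem result {S : Scheme.{u}} {G : Over S} [GrpObj G] (D : Red.SplitRed G) (b : D.P.Base)
    (α β : D.idx) (hα : α ∈ RedSub.posRoots D.P b) (hβ : β ∈ RedSub.posRoots D.P b)
    {n : ℕ} (e : Fin n → D.idx) (i j : Fin n → ℕ) (he : Function.Injective e)
    (hij : ∀ k, 1 ≤ i k ∧ 1 ≤ j k ∧ D.P.root (e k) = (i k : ℤ) • D.P.root α + (j k : ℤ) • D.P.root β)
    (hall : ∀ (c : D.idx) (p q : ℕ), 1 ≤ p → 1 ≤ q → D.P.root c = (p : ℤ) • D.P.root α + (q : ℤ) • D.P.root β →
      c ∈ Set.range e) :
    ∃! C : Fin n → Γ(S, ⊤), ∀ (X : Over S) (x y : X ⟶ Red.Ga S) (z : Fin n → (X ⟶ Red.Ga S)),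
      (∀ k, Red.gaFn (z k) = X.hom.appTop (C k) * Red.gaFn x ^ (i k) * Red.gaFn y ^ (j k)) →
        (x ≫ D.u α) * (y ≫ D.u β) * (x ≫ D.u α)⁻¹ =
          (y ≫ D.u β) * (List.ofFn (fun k => z k ≫ D.u (e k))).prod := by
  classical
  haveI := fun c => (D.rootHom c).1
  cases isEmpty_or_nonempty S with
  | inl hS =>
    refine ⟨fun _ => 0, fun X x y z _ => ?_, fun C _ => ?_⟩
    · exact (RedCell16.hom_subsingleton X G).2.elim _ _
    · funext k
      haveI : Subsingleton Γ(S, ⊤) := by
        haveI : Subsingleton Γ(S, (⊥ : S.Opens)) := inferInstance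
        rwa [show (⊤ : S.Opens) = ⊥ from TopologicalSpace.Opens.ext (Set.eq_empty_of_isEmpty _)]
      exact Subsingleton.elim _ _
  | inr hS =>
    obtain ⟨s⟩ := hS
    haveI := RedCell16.isReduced D s
    obtain ⟨hinj, C, hC, hc⟩ := RedCell16.exists_comm_coeff_ord D b β α hβ hα e j i he
      (fun k => ⟨(hij k).2.1, (hij k).1, by rw [(hij k).2.2, add_comm]⟩)
      (fun c p q h => hall c q p h.2.1 h.1 (by rw [h.2.2, add_comm]))
    have hP : ∀ (X : Over S) (c : D.idx) (w : X ⟶ Red.Ga S), w ≫ D.u c = RankOne.P (D.u c) (Red.gaFn w) :=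
      fun X c w => RankOne.comp_eq_P _ w
    have key : ∀ (X : Over S) (x y : X ⟶ Red.Ga S),
        (x ≫ D.u α) * (y ≫ D.u β) * (x ≫ D.u α)⁻¹ = (y ≫ D.u β) *
          RedCell16.rp D e (fun k => C X k * (-Red.gaFn y) ^ j k * Red.gaFn x ^ i k) := fun X x y => by
      rw [← hc X, RedCell16.comm, hP, hP, RankOne.P_neg]
      group
    let X₀ : Over S := Over.mk (𝟙 S)
    let C₀ : Fin n → Γ(S, ⊤) := fun k => C X₀ k
    refine ⟨fun k => C₀ k * (-1) ^ j k, fun X x y z hz => ?_, fun C' h' => ?_⟩
    · rw [key, RedCell16.rp_eq_prod]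
      congr 3
      funext k
      rw [hP, hz k]
      congr 1
      let g : X ⟶ X₀ := Over.homMk X.hom (by simp [X₀])
      rw [show X.hom.appTop (C₀ k * (-1) ^ j k) = C X k * (-1) ^ j k by
        rw [map_mul, map_pow, map_neg, map_one, show X.hom.appTop (C₀ k) = C X k from hC X₀ X g k], neg_pow]
      ring
    · funext k
      obtain ⟨one, hone⟩ : ∃ p : X₀ ⟶ Red.Ga S, Red.gaFn p = 1 := ⟨_, GaPts.gaFn_ptOfFn _⟩
      have hid : ∀ c : Γ(S, ⊤), X₀.hom.appTop c = c := fun c => by simp [X₀]
      have h1 := h' X₀ one one (fun l => GaPts.ptOfFn (C' l))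
        (fun l => by rw [GaPts.gaFn_ptOfFn, hid, hone, one_pow, one_pow, _root_.mul_one, _root_.mul_one])
      rw [key, hone, mul_right_inj, RedCell16.rp_eq_prod] at h1
      have h2 : RedCell16.rp (X := X₀) D e (fun k => C X₀ k * (-1) ^ j k) = RedCell16.rp (X := X₀) D e C' := by
        rw [RedCell16.rp_eq_prod, RedCell16.rp_eq_prod]
        simp only [one_pow, _root_.mul_one] at h1
        exact h1.trans (congrArg List.prod (congrArg List.ofFn (funext fun l => by
          rw [hP]; exact congrArg _ (GaPts.gaFn_ptOfFn _))))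
      exact (congrFun (hinj X₀ _ _ h2) k).symm

end Groth.Agent.S5521
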