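import Groth.Prelude.Def_RedSub
import Groth.Prelude.Def_Red2
import Groth.Prelude.Def_Par
import Groth.Agent.Lib.RootClosed19.Basic
import Groth.Agent.Lib.RedCell16.BaseExists
-- import your own Groth.Agent.* helpers here

namespace RedSub
end RedSub

set_option autoImplicit false
open CategoryTheory MonoidalCategory CartesianMonoidalCategory MonObj GrpObj AlgebraicGeometry
universe u
open RedSub

namespace Groth.Agent.S5522

/-- Let G be a split reductive group over a non-empty scheme S with splitting D. If R' is a closed set
of roots of the root datum of D containing no root together with its opposite, then R' is contained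
in a system of positive roots: there is a system of simple roots b with R' ⊆ R_+(b). (A statement
about the root datum, reached in the source through the subgroups H_{R'}.) -/
theorem result {S : Scheme.{u}} [Nonempty S] {G : Over S} [GrpObj G]
    (D : Red.SplitRed G) (R' : Set D.idx)
    (hcl : ∀ a b c : D.idx, a ∈ R' → b ∈ R' → D.P.root a + D.P.root b = D.P.root c → c ∈ R')
    (hneg : ∀ a ∈ R', D.P.reflectionPerm a a ∉ R') :
    ∃ b : D.P.Base, R' ⊆ RedSub.posRoots D.P b := by
  obtain ⟨s⟩ := ‹Nonempty S›
  haveI := D.fintypeIdx
  haveI := RedCell16.isReduced D s
  exact RootClosed19.exists_subset_posRoots (fun a b c ha hb h => hcl a b c ha hb h.symm) hneg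

end Groth.Agent.S5522
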