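import Groth.Statements.S5542
import Groth.Agent.Lib.RedCell16.BruhatCells
import Groth.Agent.Lib.RedCell16.BaseExists

set_option linter.style.haveILetI false
set_option backward.isDefEq.respectTransparency false
set_option backward.isDefEq.respectTransparency.types false
-- import your own Groth.Agent.* helpers here

set_option autoImplicit false
open CategoryTheory MonoidalCategory CartesianMonoidalCategory MonObj GrpObj AlgebraicGeometry
universe u
open RedSub

namespace Groth.Agent.S5542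

/-- The identification W_S ⥲ Norm_G(T)/T for a split group, in the following pointwise form. Let G be a
split reductive S-group (splitting D, torus T ≅ D_S(M)) and N ⟶ G the normaliser of T. Then for
every X over S whose underlying space is connected and every X-point n of N, int(n) acts on T_X
through an element of the Weyl group: there is a word a_1 … a_k in the roots such that n t n⁻¹ is,
for every point t of T (after base change), the image of t under the automorphism of T corresponding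
to the product of the reflections s_{a_1} ⋯ s_{a_k} of M. -/
theorem result {S : Scheme.{u}} {G N : Over S} [GrpObj G] [GrpObj N]
    (D : Red.SplitRed G) (j : N ⟶ G) (hN : Red.IsNormalizerOf D.i j) (X : Over S) [ConnectedSpace ↥X.left]
    (n : X ⟶ N) :
    ∃ l : List D.idx, ∀ (X' : Over S) (y : X' ⟶ X) (t : X' ⟶ D.T),
      (y ≫ n ≫ j) * (t ≫ D.i) * (y ≫ n ≫ j)⁻¹ =
        t ≫ D.split.hom.hom.hom ≫
          Red.DSmap S ((l.map fun a => D.P.reflection a).prod : D.M ≃ₗ[ℤ] D.M).toLinearMap.toAddMonoidHom ≫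
            D.split.inv.hom.hom ≫ D.i := by
  classical
  obtain ⟨hjm, -, hjn⟩ := hN
  haveI := D.maximalTorus.1
  obtain ⟨p₀⟩ := (inferInstance : Nonempty ↥X.left)
  haveI := RedCell16.isReduced D (X.hom p₀)
  haveI := D.fintypeIdx
  obtain ⟨b⟩ := RedCell16.nonempty_base D (X.hom p₀)
  obtain ⟨nn, mm, eneg, epos, hneg, hpos⟩ := RedCell16.exists_enum D b
  obtain ⟨nr, hnr⟩ := RedCell16.exists_realises D
  haveI := RedCell16.isOpenImmersion_cellMap D b eneg epos hneg hpos
  let act : List D.idx → D.M → D.M := fun l x => (RootDLib.wprod D.P l)⁻¹ • x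
  let Acts : (X' : Over S) → (X' ⟶ X) → List D.idx → Prop := fun X' y l => ∀ (X'' : Over S) (e : X'' ⟶ X') (t : X'' ⟶ D.T),
    ∃ t' : X'' ⟶ D.T, ((e ≫ y) ≫ n ≫ j) * (t ≫ D.i) * ((e ≫ y) ≫ n ≫ j)⁻¹ = t' ≫ D.i ∧
      ∀ x : D.M, (RedCell16.chars D).ch t' (Multiplicative.ofAdd x) = (RedCell16.chars D).ch t (Multiplicative.ofAdd (act l x))
  have hloc : ∀ p : X.left, ∃ (U : X.left.Opens) (l : List D.idx), p ∈ U ∧
      Acts (Over.mk (U.ι ≫ X.hom)) (Over.homMk U.ι) l := fun p => by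
    obtain ⟨l, d, hd⟩ := RedCell16.exists_mem_translate D hnr ((n ≫ j).left p) eneg epos hneg hpos
    let N₀ : 𝟙_ (Over S) ⟶ G := RedCell16.Nw D nr l
    let lam : G ⟶ G := (toUnit G ≫ N₀⁻¹) * 𝟙 G
    have hlam : ∀ {Y : Over S} (q : Y ⟶ G), q ≫ lam = (toUnit Y ≫ N₀)⁻¹ * q := fun {Y} q => by
      rw [MonObj.comp_mul, RedCell16.toUnit_comp, GrpObj.comp_inv, Category.comp_id]
    have e1 : ((toUnit _ ≫ N₀) * RedSub.cellMap D eneg epos) ≫ lam = RedSub.cellMap D eneg epos := by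
      rw [hlam, inv_mul_cancel_left]
    let U : X.left.Opens := ((n ≫ j) ≫ lam).left ⁻¹ᵁ (RedSub.cellMap D eneg epos).left.opensRange
    have hpU : ((n ≫ j) ≫ lam).left p ∈ Set.range (RedSub.cellMap D eneg epos).left := ⟨d, by
      conv_lhs => rw [← e1]
      rw [Over.comp_left, Over.comp_left, Scheme.Hom.comp_apply, Scheme.Hom.comp_apply, ← hd]⟩
    refine ⟨U, l, hpU, ?_⟩
    let iU : Over.mk (U.ι ≫ X.hom) ⟶ X := Over.homMk U.ι
    obtain ⟨y₁, τ, z₁, hyz⟩ := RedCell16.exists_cellPt D eneg epos hneg hpos (iU ≫ (n ≫ j) ≫ lam) fun q => by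
      rw [Over.comp_left, Scheme.Hom.comp_apply]
      exact q.2
    rw [hlam, MonObj.comp_mul, GrpObj.comp_inv, RedCell16.toUnit_comp] at hyz
    obtain ⟨rfl, rfl⟩ := RedCell16.cellPt_mem_torus_of_normalize D eneg epos hneg hpos y₁ τ z₁ fun X' e t => by
      obtain ⟨⟨t₁, ht₁⟩, -⟩ := (hjn _ (n ≫ j)).1 ⟨n, rfl⟩ X' (e ≫ iU) t
      obtain ⟨t₂, ht₂, -⟩ := (RedCell16.nrm_word D nr hnr l).inv X' t₁
      refine ⟨t₂, ?_⟩
      rw [← hyz, MonObj.comp_mul, GrpObj.comp_inv, RedCell16.toUnit_comp, ← Category.assoc e iU, ← ht₂,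
        GrpObj.comp_inv, ← ht₁]
      simp only [Category.assoc, N₀]
      group
    rw [RedCell16.cellPt_torus] at hyz
    have hn' : iU ≫ n ≫ j = (toUnit _ ≫ N₀) * (τ ≫ D.i) := by rw [← hyz, mul_inv_cancel_left]
    intro X'' e t
    obtain ⟨t', h1, h2⟩ := RedCell16.nrm_word D nr hnr l X'' t
    refine ⟨t', ?_, h2⟩
    rw [Category.assoc, show e ≫ Over.homMk U.ι ≫ n ≫ j = e ≫ (iU ≫ n ≫ j) from rfl, hn', MonObj.comp_mul,
      RedCell16.toUnit_comp, ← Category.assoc e τ, ← h1]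
    have hc : ((e ≫ τ) ≫ D.i) * (t ≫ D.i) = (t ≫ D.i) * ((e ≫ τ) ≫ D.i) := by
      rw [← MonObj.mul_comp, ← MonObj.mul_comp, RedCell16.torus_comm]
    calc (toUnit X'' ≫ N₀) * ((e ≫ τ) ≫ D.i) * (t ≫ D.i) * ((toUnit X'' ≫ N₀) * ((e ≫ τ) ≫ D.i))⁻¹
        = (toUnit X'' ≫ N₀) * (((e ≫ τ) ≫ D.i) * (t ≫ D.i)) * ((e ≫ τ) ≫ D.i)⁻¹ * (toUnit X'' ≫ N₀)⁻¹ := by group
      _ = _ := by rw [hc]; simp only [N₀]; group
  choose U l hpU hact using hloc
  have hcompat : ∀ p q r : X.left, r ∈ U p → r ∈ U q → act (l p) = act (l q) := fun p q r hrp hrq => by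
    funext x
    by_contra hne
    obtain ⟨θ, hθ⟩ : ∃ θ : Module.Dual ℤ D.M, θ (act (l p) x - act (l q) x) ≠ 0 := by
      by_contra! h
      exact hne (sub_eq_zero.1 ((Module.forall_dual_apply_eq_zero_iff ℤ _).1 h))
    let kp : RankOne16.kPt (Red.geomPt r ≫ X.hom) ⟶ X := RankOne16.geomHom r
    obtain ⟨z, hz⟩ := RankOne16.exists_zpow_ne_one (Red.geomPt r ≫ X.hom) _ hθ
    obtain ⟨t, ht⟩ := (RedCell16.chars D).surj (T := RankOne16.kPt (Red.geomPt r ≫ X.hom))
      ((Units.coeHom _).comp ((zpowersHom _ z).comp (AddMonoidHom.toMultiplicative θ.toAddMonoidHom)))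
    have key : ∀ p' : X.left, r ∈ U p' → ∃ t' : RankOne16.kPt (Red.geomPt r ≫ X.hom) ⟶ D.T,
        (kp ≫ n ≫ j) * (t ≫ D.i) * (kp ≫ n ≫ j)⁻¹ = t' ≫ D.i ∧
        ∀ m, (RedCell16.chars D).ch t' (Multiplicative.ofAdd m) = (RedCell16.chars D).ch t (Multiplicative.ofAdd (act (l p') m)) :=
      fun p' hr => by
      let e : RankOne16.kPt (Red.geomPt r ≫ X.hom) ⟶ Over.mk ((U p').ι ≫ X.hom) := Over.homMk
        (IsOpenImmersion.lift (U p').ι (Red.geomPt r) (by
          rintro _ ⟨q', rfl⟩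
          refine (Set.ext_iff.1 (Scheme.Opens.range_ι _) _).2 ?_
          show (Red.geomPt r) q' ∈ U p'
          rw [show (Red.geomPt r) q' = r from RankOne16.geomHom_apply r q']
          exact hr)) (by
          show IsOpenImmersion.lift _ _ _ ≫ (U p').ι ≫ X.hom = _
          rw [← Category.assoc, IsOpenImmersion.lift_fac]
          rfl)
      have he : e ≫ Over.homMk (U p').ι = kp := Over.OverMorphism.ext (IsOpenImmersion.lift_fac _ _ _)
      obtain ⟨t', h1, h2⟩ := hact p' _ e t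
      exact ⟨t', by rwa [he] at h1, h2⟩
    obtain ⟨t₁, a1, b1⟩ := key p hrp
    obtain ⟨t₂, a2, b2⟩ := key q hrq
    haveI := D.maximalTorus.2.1
    have h12 : t₁ = t₂ := by rw [← cancel_mono D.i, ← a1, ← a2]
    have h3 := (b1 x).symm.trans (h12 ▸ b2 x)
    rw [ht] at h3
    refine hz ?_
    have h4 : z ^ θ (act (l p) x) = z ^ θ (act (l q) x) := Units.ext h3
    rw [map_sub, zpow_sub, h4, mul_inv_cancel]
  have hall : ∀ p, act (l p) = act (l p₀) := by
    let A₀ : Set X.left := {p | act (l p) = act (l p₀)}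
    have hA : IsClopen A₀ := by
      refine ⟨⟨?_⟩, ?_⟩
      · refine isOpen_iff_forall_mem_open.2 fun p hp => ⟨U p, fun r hr h => hp ?_, (U p).isOpen, hpU p⟩
        exact ((hcompat p r r hr (hpU r)).trans h)
      · refine isOpen_iff_forall_mem_open.2 fun p hp => ⟨U p, fun r hr => ?_, (U p).isOpen, hpU p⟩
        exact (hcompat r p r (hpU r) hr).trans hp
    intro p
    have := hA.eq_univ ⟨p₀, rfl⟩
    exact Set.eq_univ_iff_forall.1 this p
  have hrev : ∀ (l : List D.idx) (x : D.M),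
      (RootDLib.wprod D.P l)⁻¹ • x = ((l.reverse.map fun a => D.P.reflection a).prod : D.M ≃ₗ[ℤ] D.M) x := by
    intro l
    induction l with
    | nil => intro x; rw [RootDLib.wprod_nil, _root_.inv_one, one_smul]; rfl
    | cons a l ih =>
      intro x
      rw [RootDLib.wprod_cons, _root_.mul_inv_rev, mul_smul, RootPairing.Equiv.reflection_inv,
        RootPairing.Equiv.reflection_smul, ih, List.reverse_cons, List.map_append, List.prod_append]
      simp
  refine ⟨(l p₀).reverse, fun X' y t => ?_⟩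
  refine Over.OverMorphism.ext (Scheme.Cover.hom_ext (Scheme.openCoverOfIsOpenCover X'.left (fun p => y.left ⁻¹ᵁ U p) ?_) _ _ fun p => ?_)
  · refine TopologicalSpace.IsOpenCover.mk (top_le_iff.1 fun q _ => TopologicalSpace.Opens.mem_iSup.2 ⟨y.left q, hpU _⟩)
  let iV : Over.mk ((y.left ⁻¹ᵁ U p).ι ≫ X'.hom) ⟶ X' := Over.homMk (y.left ⁻¹ᵁ U p).ι
  let e : Over.mk ((y.left ⁻¹ᵁ U p).ι ≫ X'.hom) ⟶ Over.mk ((U p).ι ≫ X.hom) := Over.homMk (y.left ∣_ U p) (by
    show (y.left ∣_ U p) ≫ (U p).ι ≫ X.hom = _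
    rw [← Category.assoc, morphismRestrict_ι, Category.assoc, Over.w y]
    rfl)
  have he : e ≫ Over.homMk (U p).ι = iV ≫ y := Over.OverMorphism.ext (morphismRestrict_ι _ _)
  obtain ⟨t', h1, h2⟩ := hact p _ e (iV ≫ t)
  rw [he] at h1
  show iV.left ≫ _ = iV.left ≫ _
  rw [← Over.comp_left, ← Over.comp_left, MonObj.comp_mul, MonObj.comp_mul, GrpObj.comp_inv]
  simp only [← Category.assoc] at h1 ⊢
  rw [h1]
  congr 3
  refine (RedCell16.chars D).inj fun w => ?_
  rw [show w = Multiplicative.ofAdd w.toAdd from rfl, h2, hall p]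
  show _ = (DiagGL.charsDS S D.M).ch (_ ≫ D.split.hom.hom.hom) _
  simp only [Category.assoc]
  rw [show D.split.inv.hom.hom ≫ D.split.hom.hom.hom = 𝟙 _ by simp [← Grp.comp', ← Mon.comp_hom'], Category.comp_id]
  simp only [← Category.assoc]
  rw [RedCell16.DSmap_ch]
  exact congrArg (fun z => (RedCell16.chars D).ch (iV ≫ t) (Multiplicative.ofAdd z)) (hrev _ _)

end Groth.Agent.S5542
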