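import Groth.Statements.S5549
import Groth.Agent.Lib.PMor16.CentralTorus
import Groth.Agent.Lib.AttrBorel21.CentGenMain
import Groth.Agent.Lib.AttrBorel21.MaxTori
import Groth.Agent.Lib.TorusCentr19.Norm
import Groth.Agent.Lib.RankOne16.Gen
import Groth.Agent.Lib.CentMT21.Preimage
import Groth.Agent.Lib.BorelFix21.BaseChange
import Groth.Agent.Lib.TorusHom19.Basic
-- import your own Groth.Agent.* helpers here

set_option autoImplicit false
open CategoryTheory MonoidalCategory CartesianMonoidalCategory MonObj GrpObj AlgebraicGeometry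
universe u
set_option backward.isDefEq.respectTransparency false
set_option backward.isDefEq.respectTransparency.types false
set_option maxSynthPendingDepth 3
open RedSub

namespace Groth.Agent.S5549

/-- For a reductive S-group G. Let T be a maximal torus of G, Q a subtorus of T, z : Z ⟶ G the
centraliser of Q in G and H a subgroup of type (R) of G containing T. Then H ∩ Z (a fibre product P
with homomorphisms P ⟶ H, P ⟶ Z) is a subgroup of type (R) of Z. -/
theorem result {S : Scheme.{u}} {G T Q Z H : Over S} [GrpObj G] [GrpObj T] [GrpObj Q]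
    [GrpObj Z] [GrpObj H] (hG : Red.IsReductive G) (i : T ⟶ G) (hT : Red.IsMaximalTorus i) (q : Q ⟶ T) [IsMonHom q]
    [Mono q] (hQ : Red.IsTorus Q) (z : Z ⟶ G) (hZ : Red.IsCentralizerOf (q ≫ i) z) (h : H ⟶ G)
    (hH : RedSub.IsTypeR h) (t : T ⟶ H) (ht : t ≫ h = i)
    (P : Over S) [GrpObj P] (a : P ⟶ H) (b : P ⟶ Z) [IsMonHom a] [IsMonHom b] (hP : IsPullback a b h z) :
    RedSub.IsTypeR b := by
  obtain ⟨⟨hhM, hhI⟩, hHs, hHq, hHc, hHT⟩ := hH
  haveI := hhM
  haveI := hhI
  haveI := hHs
  haveI := hHq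
  haveI := hG.1
  haveI := hG.2.1
  haveI := hT.1
  haveI := hT.2.1
  obtain ⟨hzm, hzmono, hzu⟩ := id hZ
  haveI := hzm
  haveI := hzmono
  haveI : Mono h := Over.mono_of_mono_left h
  haveI : IsMonHom t := TorsorSch25.isMonHom_of_points t fun X x y => (cancel_mono h).1 (by
    rw [Category.assoc, ht, MonObj.mul_comp, MonObj.mul_comp, Category.assoc, Category.assoc, ht])
  haveI : IsSeparated H.hom := by rw [← Over.w h]; infer_instance
  have hsnd : ∀ {X : Over S} (g : X ⟶ H), (∃ p : X ⟶ P, p ≫ a = g) ↔ ∃ w : X ⟶ Z, w ≫ z = g ≫ h :=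
    fun g => ⟨fun ⟨p, hp⟩ => ⟨p ≫ b, by rw [← hp, Category.assoc, Category.assoc, hP.w]⟩,
      fun ⟨w, hw⟩ => ⟨hP.lift g w hw.symm, hP.lift_fst g w hw.symm⟩⟩
  haveI : Mono a := ⟨fun x y hxy => hP.hom_ext hxy ((cancel_mono z).1 (by
    rw [Category.assoc, Category.assoc, ← hP.w, ← Category.assoc, hxy, Category.assoc]))⟩
  have hac : Red.IsCentralizerOf (q ≫ t) a := ⟨inferInstance, inferInstance, fun X g =>
    (hsnd g).trans ((hzu X (g ≫ h)).trans (forall_congr' fun X' => forall_congr' fun x => forall_congr' fun w => by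
      rw [← cancel_mono h, MonObj.mul_comp, MonObj.mul_comp, Category.assoc x g, Category.assoc w (q ≫ t),
        Category.assoc q t, ht]))⟩
  obtain ⟨P', _, a', ha', hc', hs'⟩ := TorusCentr19.exists_centralizer'
    (MTRigid29.isMT_of_ft (TorPts21.isMultTypeFT_of_isTorus hQ)) hHs (q ≫ t)
  haveI := ha'.2.1
  haveI := hc'
  haveI := hs'
  obtain ⟨u, hu⟩ := (ha'.2.2 P a).2 ((hac.2.2 P a).1 ⟨𝟙 P, Category.id_comp a⟩)
  obtain ⟨v, hv⟩ := (hac.2.2 P' a').2 ((ha'.2.2 P' a').1 ⟨𝟙 P', Category.id_comp a'⟩)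
  haveI : IsIso u := ⟨v, (cancel_mono a).1 (by rw [Category.assoc, hv, hu, Category.id_comp]),
    (cancel_mono a').1 (by rw [Category.assoc, hu, hv, Category.id_comp])⟩
  haveI : IsIso u.left := inferInstanceAs (IsIso ((Over.forget _).map u))
  haveI : Smooth P.hom := by rw [← Over.w u]; infer_instance
  haveI : IsClosedImmersion a.left := by rw [← hu, Over.comp_left]; infer_instance
  haveI : QuasiCompact P.hom := by rw [← Over.w a]; infer_instance
  haveI : IsImmersion b.left :=
    MorphismProperty.of_isPullback (hP.map (Over.forget S)) hhI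
  have hconn : ∀ s : S, ConnectedSpace ↥(Red.geomFibre s P).left := fun s => by
    haveI : Smooth (Red.geomFibre s H).hom := inferInstanceAs (Smooth (Limits.pullback.snd H.hom (Red.geomPt s)))
    haveI : QuasiCompact (Red.geomFibre s H).hom :=
      inferInstanceAs (QuasiCompact (Limits.pullback.snd H.hom (Red.geomPt s)))
    haveI := CentMT21.connectedSpace_geomFibre H hHc s
    haveI : IsMonHom ((Over.pullback (Red.geomPt s)).map (q ≫ t)) := MTRigid29.isMonHom_map (q ≫ t) _
    exact AttrBorel21.connectedSpace_centralizer_gen (TorusHom19.isTorus_bc hQ _)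
      (CartanRel21.isCentralizerOf_bc hac (Red.geomPt s))
  obtain ⟨w₀, hw₀⟩ := (hzu T i).2 fun X' x y => by
    rw [← Category.assoc y, ← MonObj.mul_comp, ← MonObj.mul_comp,
      MTRigid29.commute_of_isMultTypeFT (TorPts21.isMultTypeFT_of_isTorus hT.2.2.1)]
  let tP : T ⟶ P := hP.lift t w₀ (by rw [ht, hw₀])
  have htP : tP ≫ b = w₀ := hP.lift_snd _ _ _
  haveI : IsMonHom w₀ := TorsorSch25.isMonHom_of_points w₀ fun X x y => (cancel_mono z).1 (by
    rw [Category.assoc, hw₀, MonObj.mul_comp, MonObj.mul_comp, Category.assoc, Category.assoc, hw₀])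
  haveI : IsMonHom tP := TorsorSch25.isMonHom_of_points tP fun X x y => hP.hom_ext
    (by simp only [tP, Category.assoc, MonObj.mul_comp, hP.lift_fst])
    (by simp only [tP, Category.assoc, MonObj.mul_comp, hP.lift_snd])
  haveI := PMor16.isClosedImmersion_centralizer hG (q ≫ i) hQ z hZ
  haveI : IsAffineHom Z.hom := by rw [← Over.w z]; infer_instance
  haveI : LocallyOfFiniteType Z.hom := by rw [← Over.w z]; infer_instance
  refine ⟨⟨inferInstance, inferInstance⟩, inferInstance, inferInstance, fun s => ?_, fun s => ?_⟩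
  · haveI := RankOne16.connectedSpace_fibre_of_geomFibre P s (hconn s)
    haveI : ConnectedSpace ↥(P.hom.fiber s) :=
      inferInstanceAs (ConnectedSpace ↥(Limits.pullback P.hom (S.fromSpecResidueField s)))
    haveI : ConnectedSpace ↥(P.hom.base ⁻¹' {s}) :=
      (P.hom.fiberHomeo s).surjective.connectedSpace (P.hom.fiberHomeo s).continuous
    exact isConnected_iff_connectedSpace.2 ‹_›
  · refine ⟨Red.geomFibre s T, inferInstance, (Over.pullback (Red.geomPt s)).map tP,
      MTRigid29.isMonHom_map tP _, ?_⟩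
    rw [← Functor.map_comp, htP]
    set zs := (Over.pullback (Red.geomPt s)).map z
    set ws := (Over.pullback (Red.geomPt s)).map w₀
    haveI : IsMonHom zs := MTRigid29.isMonHom_map z _
    haveI : IsMonHom ws := MTRigid29.isMonHom_map w₀ _
    haveI : Mono zs := Functor.map_mono _ _
    have hgeo := CartanRel21.isMaxTorus_geom hT s
    rw [← hw₀, Functor.map_comp] at hgeo
    obtain ⟨-, hm, hTt, hmax⟩ := hgeo
    haveI := hm
    haveI : Mono ws := mono_of_mono ws zs
    haveI : LocallyOfFiniteType (Red.geomFibre s Z).hom :=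
      inferInstanceAs (LocallyOfFiniteType (Limits.pullback.snd Z.hom (Red.geomPt s)))
    exact AttrBorel21.isMaximalTorus_of_isMaxTorus
      ⟨inferInstance, inferInstance, hTt, fun T' _ j _ _ g hT' hg =>
        hmax T' (j ≫ zs) g hT' (by rw [← Category.assoc, hg])⟩

end Groth.Agent.S5549
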