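import Groth.Statements.S5550
import Groth.Agent.Lib.TorPts21.CentralizerRadical
import Groth.Agent.Lib.AttrBorel21.MaxTori
import Groth.Agent.Lib.AttrBorel21.GeomBC
import Groth.Agent.Lib.RankOne16.Gen
import Groth.Agent.Lib.CartanRel21.Basic
import Groth.Agent.Lib.MTRigid29.CentralizerNormalizer
-- import your own Groth.Agent.* helpers here

set_option autoImplicit false
open CategoryTheory MonoidalCategory CartesianMonoidalCategory MonObj GrpObj AlgebraicGeometry
universe u
open RedSub

namespace Groth.Agent.S5550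

/-- First assertion. Let G be a reductive S-group and q : Q ⟶ G a subtorus. Then the centraliser of Q in
G is representable by a subgroup of type (R) of G which is itself a reductive S-group. -/
theorem result {S : Scheme.{u}} {G Q : Over S} [GrpObj G] [GrpObj Q]
    (hG : Red.IsReductive G) (q : Q ⟶ G) [IsMonHom q] [Mono q] (hQ : Red.IsTorus Q) :
    ∃ (Z : Over S) (_ : GrpObj Z) (z : Z ⟶ G), Red.IsCentralizerOf q z ∧ RedSub.IsTypeR z ∧ Red.IsReductive Z := by
  obtain ⟨hA, hS, hR⟩ := id hG
  obtain ⟨Z, _, z, hZ, hzc, hZs⟩ := MTRigid29.exists_centralizer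
    (MTRigid29.isMT_of_ft (TorPts21.isMultTypeFT_of_isTorus hQ)) hS hA q
  haveI := hA
  haveI := hS
  haveI := hzc
  haveI := hZs
  haveI := hZ.1
  haveI : IsAffineHom Z.hom := by rw [← Over.w z]; infer_instance
  have hfib : ∀ s : S, Red.IsReductiveOver (AlgebraicClosure (S.residueField s)) (Red.geomFibre s Z) ∧
      ∃ (T : Over (Spec (CommRingCat.of (AlgebraicClosure (S.residueField s))))) (_ : GrpObj T)
        (t : T ⟶ Red.geomFibre s Z), IsMonHom t ∧ Red.IsMaximalTorus (t ≫ (Over.pullback (Red.geomPt s)).map z) := by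
    intro s
    obtain ⟨hGa, hGs, hGc, -⟩ := id (hR s)
    haveI := hGa
    haveI := hGs
    haveI := hGc
    haveI : IsMonHom ((Over.pullback (Red.geomPt s)).map q) := MTRigid29.isMonHom_map q _
    haveI : Mono ((Over.pullback (Red.geomPt s)).map q) := Functor.map_mono _ _
    have hQs : Red.IsTorus (Red.geomFibre s Q) := TorusHom19.isTorus_bc hQ _
    have hc := CartanRel21.isCentralizerOf_bc hZ (Red.geomPt s)
    refine ⟨TorPts21.isReductiveOver_centralizer (hR s) hQs hc, ?_⟩
    obtain ⟨T, _, iT, σ, hT, hσ⟩ := TorPts21.exists_maxTorus_ge ((Over.pullback (Red.geomPt s)).map q) hQs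
    haveI := hT.1
    obtain ⟨d, ⟨C⟩⟩ := TorPts21.exists_chars hT.2.2.1
    obtain ⟨t, ht⟩ := (hc.2.2 T iT).2 fun X x y => by
      rw [← hσ, ← Category.assoc, ← MonObj.mul_comp, ← MonObj.mul_comp]
      exact congrArg (· ≫ iT) (TorPts21.commute_of_chars C x (y ≫ σ))
    haveI := hc.2.1
    haveI := hc.1
    exact ⟨T, inferInstance, t,
      BorelFix21.isMonHom_of_comp ((Over.pullback (Red.geomPt s)).map z) t (ht.symm ▸ hT.1),
      ht.symm ▸ AttrBorel21.isMaximalTorus_of_isMaxTorus hT⟩
  refine ⟨Z, inferInstance, z, hZ, ⟨⟨hZ.1, inferInstance⟩, hZs, inferInstance, fun s => ?_, fun s => (hfib s).2⟩,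
    inferInstance, hZs, fun s => (hfib s).1⟩
  haveI := RankOne16.connectedSpace_fibre_of_geomFibre Z s (hfib s).1.2.2.1
  haveI : ConnectedSpace ↥(Z.hom.fiber s) :=
    inferInstanceAs (ConnectedSpace ↥(Limits.pullback Z.hom (S.fromSpecResidueField s)))
  haveI : ConnectedSpace ↥(Z.hom.base ⁻¹' {s}) :=
    (Z.hom.fiberHomeo s).surjective.connectedSpace (Z.hom.fiberHomeo s).continuous
  exact isConnected_iff_connectedSpace.2 ‹_›

end Groth.Agent.S5550
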