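import Groth.Statements.S5552
import Groth.Agent.Lib.RedCell16.BorelGlobal

set_option linter.style.haveILetI false
set_option backward.isDefEq.respectTransparency false
set_option backward.isDefEq.respectTransparency.types false
-- import your own Groth.Agent.* helpers here

set_option autoImplicit false
open CategoryTheory MonoidalCategory CartesianMonoidalCategory MonObj GrpObj AlgebraicGeometry
universe u
open RedSub

namespace Groth.Agent.S5552

/-- Let G be a split reductive S-group (splitting D, system of simple roots b, enumerations of the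
negative and positive roots, S-points n_a realising the reflections), l a word in the roots with
Weyl element w and n_l = n_{a_1} ⋯ n_{a_k}, and e an enumeration of R_- ∩ w(R_-). Then the Bruhat
cell map G_a^{R_- ∩ w(R_-)} x_S T x_S G_a^{R_+} ⟶ G, (y, t, x) ↦ ∏ u(y) · n_l · t · ∏ u(x), is an
immersion, and its image is contained and closed in the open translate n_l Ω of the big cell (it is
the subscheme B' N_w B of the source). -/
theorem result {S : Scheme.{u}} {G : Over S} [GrpObj G] (D : Red.SplitRed G)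
    (b : D.P.Base) {n m : ℕ} (eneg : Fin n → D.idx) (epos : Fin m → D.idx)
    (hneg : RedSub.Enumerates (RedSub.negRoots D.P b) eneg) (hpos : RedSub.Enumerates (RedSub.posRoots D.P b) epos)
    (nr : D.idx → (𝟙_ (Over S) ⟶ G)) (hnr : RedSub.RealisesReflections D nr) (l : List D.idx) {k : ℕ}
    (e : Fin k → D.idx) (he : RedSub.Enumerates (RedSub.negMeetNeg D.P b (RedSub.wordPerm D.P l)) e) :
    IsImmersion (RedSub.bruhatMap D nr l e epos).left ∧
      ∃ C : Set ↥G.left, IsClosed C ∧
        Set.range (RedSub.bruhatMap D nr l e epos).left.base =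
          Set.range ((toUnit _ ≫ (l.map nr).prod) * RedSub.cellMap D eneg epos).left.base ∩ C := by

  classical
  haveI : IsAffineHom G.hom := D.reductive.1
  haveI hopen := RedCell16.isOpenImmersion_cellMap D b eneg epos hneg hpos
  haveI := D.fintypeIdx
  haveI := D.maximalTorus.1
  rcases isEmpty_or_nonempty S with hS | hS
  · haveI : IsEmpty G.left := Function.isEmpty G.hom.base
    haveI : IsEmpty ↥(RedSub.pow (Red.Ga S) k ⊗ (D.T ⊗ RedSub.pow (Red.Ga S) m)).left :=
      Function.isEmpty (RedSub.pow (Red.Ga S) k ⊗ (D.T ⊗ RedSub.pow (Red.Ga S) m)).hom.base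
    haveI : IsOpenImmersion (RedSub.bruhatMap D nr l e epos).left := inferInstance
    exact ⟨inferInstance, ∅, isClosed_empty, Subsingleton.elim _ _⟩
  obtain ⟨s⟩ := hS
  haveI := RedCell16.isReduced D s
  let N := RedCell16.Nw D nr l
  let v := RootDLib.wprod D.P l
  have hN : RedCell16.Nrm D N v := RedCell16.nrm_word D nr hnr l
  -- conjugation of a root group by the word, and its inverse
  have hcj : ∀ c : D.idx, ∃ μ₁ μ₂ : ∀ X : Over S, Γ(X.left, ⊤),
      (∀ X a, (toUnit X ≫ N)⁻¹ * RankOne.P (D.u c) a * (toUnit X ≫ N) = RankOne.P (D.u (v⁻¹ • c)) (μ₁ X * a)) ∧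
      (∀ X, μ₁ X * μ₂ X = 1) ∧
      (∀ (X Y : Over S) (g : Y ⟶ X), g.left.appTop (μ₁ X) = μ₁ Y ∧ g.left.appTop (μ₂ X) = μ₂ Y) := by
    intro c
    obtain ⟨μ₁, h1⟩ := hN.inv.cj_P D b c
    obtain ⟨μ₂, h2⟩ := hN.cj_P D b (v⁻¹ • c)
    rw [smul_inv_smul] at h2
    have h1' : ∀ (X : Over S) (a : Γ(X.left, ⊤)), (toUnit X ≫ N)⁻¹ * RankOne.P (D.u c) a * (toUnit X ≫ N) =
        RankOne.P (D.u (v⁻¹ • c)) (μ₁ X * a) := fun X a => by
      have := h1 X a
      rwa [RedCell16.cj, GrpObj.comp_inv, _root_.inv_inv] at this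
    have h2' : ∀ (X : Over S) (a : Γ(X.left, ⊤)), (toUnit X ≫ N) * RankOne.P (D.u (v⁻¹ • c)) a * (toUnit X ≫ N)⁻¹ =
        RankOne.P (D.u c) (μ₂ X * a) := fun X a => h2 X a
    have inj : ∀ (d : D.idx) (X : Over S) (a a' : Γ(X.left, ⊤)),
        RankOne.P (D.u d) a = RankOne.P (D.u d) a' → a = a' := fun d X a a' h => by
      haveI := (D.rootHom d).2.1
      haveI : Mono (D.u d) := Over.mono_of_mono_left _
      rw [← GaPts.gaFn_ptOfFn (T := X) a, ← GaPts.gaFn_ptOfFn (T := X) a', (cancel_mono (D.u d)).1 h]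
    refine ⟨μ₁, μ₂, h1', fun X => ?_, fun X Y g => ⟨?_, ?_⟩⟩
    · have h3 := h2' X (μ₁ X * 1)
      rw [← h1'] at h3
      have : RankOne.P (D.u c) (1 : Γ(X.left, ⊤)) = RankOne.P (D.u c) (μ₂ X * (μ₁ X * 1)) := by rw [← h3]; group
      have h5 := inj c X _ _ this
      rw [_root_.mul_one] at h5
      rw [mul_comm, ← h5]
    · refine inj (v⁻¹ • c) Y _ _ ?_
      rw [← RankOne.comp_P, ← _root_.mul_one (μ₁ X), ← h1', ← _root_.mul_one (μ₁ Y), ← h1']
      simp only [MonObj.comp_mul, GrpObj.comp_inv, RankOne.comp_P, RedCell16.toUnit_comp, map_one]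
    · refine inj c Y _ _ ?_
      rw [← RankOne.comp_P, ← _root_.mul_one (μ₂ X), ← h2', ← _root_.mul_one (μ₂ Y), ← h2']
      simp only [MonObj.comp_mul, GrpObj.comp_inv, RankOne.comp_P, RedCell16.toUnit_comp, map_one]
  choose μ₁ μ₂ hμ hμ1 hμnat using hcj
  have h_e : ∀ i, e i ∈ RedSub.negMeetNeg D.P b (RedSub.wordPerm D.P l) := fun i => he.2 ▸ Set.mem_range_self i
  let f : Fin k → D.idx := fun i => v⁻¹ • e i
  have hf : ∀ i, f i ∈ RedSub.negRoots D.P b := fun i => by
    have := (h_e i).2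
    rwa [← Equiv.Perm.inv_def, RootComb21.wordPerm_inv_apply] at this
  have hfinj : Function.Injective f := (MulAction.injective v⁻¹).comp he.1
  obtain ⟨r, g, hg⟩ := RedCell16.exists_enum_set D (RedSub.negRoots D.P b \ Set.range f)
  let eneg₀ : Fin (k + r) → D.idx := Fin.append f g
  have hneg₀ : RedSub.Enumerates (RedSub.negRoots D.P b) eneg₀ := by
    refine ⟨Fin.append_injective_iff.2 ⟨hfinj, hg.1, fun i j h => (hg.2 ▸ Set.mem_range_self j : g j ∈ RedSub.negRoots D.P b \ Set.range f).2 ⟨i, h⟩⟩, ?_⟩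
    ext x
    constructor
    · rintro ⟨i, rfl⟩
      refine Fin.addCases (fun i => ?_) (fun j => ?_) i
      · rw [show eneg₀ (Fin.castAdd r i) = f i from Fin.append_left _ _ i]; exact hf i
      · rw [show eneg₀ (Fin.natAdd k j) = g j from Fin.append_right _ _ j]
        exact (hg.2 ▸ Set.mem_range_self j : g j ∈ RedSub.negRoots D.P b \ Set.range f).1
    · intro hx
      by_cases h : x ∈ Set.range f
      · obtain ⟨i, rfl⟩ := h; exact ⟨Fin.castAdd r i, Fin.append_left _ _ i⟩
      · obtain ⟨j, rfl⟩ := (hg.2.symm ▸ ⟨hx, h⟩ : x ∈ Set.range g); exact ⟨Fin.natAdd k j, Fin.append_right _ _ j⟩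
  let Dk := RedSub.pow (Red.Ga S) k ⊗ (D.T ⊗ RedSub.pow (Red.Ga S) m)
  let D₀ := RedSub.pow (Red.Ga S) (k + r) ⊗ (D.T ⊗ RedSub.pow (Red.Ga S) m)
  let j : Dk ⟶ D₀ := lift (AttrBorel21.powPt (k + r)
    (Fin.append (fun i => μ₁ (e i) Dk * AttrBorel21.powFn k (fst _ _) i) 0)) (snd _ _)
  let ret : D₀ ⟶ Dk := lift (AttrBorel21.powPt k
    (fun i => μ₂ (e i) D₀ * AttrBorel21.powFn (k + r) (fst _ _) (Fin.castAdd r i))) (snd _ _)
  have hjr : j ≫ ret = 𝟙 Dk := by
    refine CartesianMonoidalCategory.hom_ext _ _ ?_ (by simp [j, ret])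
    rw [Category.assoc, Category.id_comp, lift_fst, AttrBorel21.powPt_comp, ← AttrBorel21.powPt_powFn k (fst _ _)]
    congr 1
    funext i
    rw [map_mul, (hμnat (e i) D₀ Dk j).2,
      show j.left.appTop (AttrBorel21.powFn (k + r) (fst _ _) (Fin.castAdd r i)) =
        AttrBorel21.powFn (k + r) (j ≫ fst _ _) (Fin.castAdd r i) from
          (congrFun (AttrBorel21.powFn_comp (k + r) j (fst _ _)) _).symm,
      lift_fst, AttrBorel21.powFn_powPt, Fin.append_left,
      ← _root_.mul_assoc, mul_comm (μ₂ (e i) Dk), hμ1, _root_.one_mul]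
  haveI hopen₀ := RedCell16.isOpenImmersion_cellMap D b eneg₀ epos hneg₀ hpos
  haveI : IsSeparated D₀.hom := by rw [← Over.w (RedSub.cellMap D eneg₀ epos)]; infer_instance
  haveI hj : IsClosedImmersion j.left := RankOne16.isClosedImmersion_of_retraction j ret hjr
  let lt : G ⟶ G := (toUnit G ≫ N) * 𝟙 G
  have hlt : ∀ {X : Over S} (g : X ⟶ G), g ≫ lt = (toUnit X ≫ N) * g := fun g => by
    simp only [lt, MonObj.comp_mul, RedCell16.toUnit_comp, Category.comp_id]
  haveI : IsIso lt := ⟨(toUnit G ≫ N⁻¹) * 𝟙 G, by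
    simp only [MonObj.comp_mul, RedCell16.toUnit_comp, Category.comp_id, lt, GrpObj.comp_inv, inv_mul_cancel_left], by
    rw [hlt, GrpObj.comp_inv, mul_inv_cancel_left]⟩
  haveI : IsIso lt.left := inferInstanceAs (IsIso ((Over.forget _).map lt))
  have hfac : RedSub.bruhatMap D nr l e epos = j ≫ RedSub.cellMap D eneg₀ epos ≫ lt := by
    obtain ⟨y, t, x, hid⟩ := RedCell16.exists_mkDom D (𝟙 Dk)
    have hy : y = AttrBorel21.powFn k (fst _ _) := by
      rw [← Category.id_comp (fst _ _), hid, RedCell16.mkDom, lift_fst, AttrBorel21.powFn_powPt]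
    have hj' : j = RedCell16.mkDom D (Fin.append (fun i => μ₁ (e i) Dk * y i) 0) t x := by
      refine CartesianMonoidalCategory.hom_ext _ _ ?_ ?_
      · rw [lift_fst, RedCell16.mkDom, lift_fst, hy]
      · rw [lift_snd, RedCell16.mkDom, lift_snd, ← Category.id_comp (snd _ _), hid, RedCell16.mkDom, lift_snd]
    rw [← Category.id_comp (RedSub.bruhatMap D nr l e epos), hid, RedCell16.mkDom_comp_bruhat, hj', hlt,
      MonObj.comp_mul, RedCell16.toUnit_comp]
    show _ = (toUnit Dk ≫ N) * RedCell16.cellPt D eneg₀ epos _ t x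
    rw [RedCell16.cellPt_eq, RedCell16.rp_append]
    simp only [Fin.append_left, Fin.append_right]
    rw [show RedCell16.rp D g (fun i => (0 : Fin r → Γ(Dk.left, ⊤)) i) = 1 from RedCell16.rp_zero_fn D g]
    suffices hrp : ∀ {q : ℕ} (e' : Fin q → D.idx) (y' : Fin q → Γ(Dk.left, ⊤)),
        (toUnit Dk ≫ N)⁻¹ * RedCell16.rp D e' y' * (toUnit Dk ≫ N) =
          RedCell16.rp D (fun i => v⁻¹ • e' i) (fun i => μ₁ (e' i) Dk * y' i) by
      rw [← hrp e y]
      group
      rfl
    intro q
    induction q with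
    | zero =>
      intro e' y'
      rw [show (fun i => μ₁ (e' i) Dk * y' i) = 0 from funext fun i => i.elim0,
        show y' = 0 from funext fun i => i.elim0, RedCell16.rp_zero_fn, RedCell16.rp_zero_fn]
      group
    | succ q ih =>
      intro e' y'
      rw [RedCell16.rp_succ, RedCell16.rp_succ D (fun i => v⁻¹ • e' i), ← hμ, ← ih]
      group
  have hrange₀ : Set.range (RedSub.cellMap D eneg₀ epos).left.base = Set.range (RedSub.cellMap D eneg epos).left.base := by
    obtain rfl : k + r = n := by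
      simpa [Set.ncard_range_of_injective hneg₀.1, Set.ncard_range_of_injective hneg.1] using
        congrArg Set.ncard (hneg₀.2.trans hneg.2.symm)
    exact Set.Subset.antisymm (RedCell16.range_cellMap_le D b eneg epos hneg hpos eneg₀ epos hneg₀ hpos)
      (RedCell16.range_cellMap_le D b eneg₀ epos hneg₀ hpos eneg epos hneg hpos)
  let o := (RedSub.cellMap D eneg₀ epos ≫ lt).left
  haveI ho : IsOpenImmersion o := by
    show IsOpenImmersion (RedSub.cellMap D eneg₀ epos ≫ lt).left
    rw [Over.comp_left]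
    infer_instance
  have hcomp : (RedSub.bruhatMap D nr l e epos).left = j.left ≫ o := by rw [hfac, Over.comp_left]
  refine ⟨by rw [hcomp]; infer_instance, closure (Set.range (j.left ≫ o).base), isClosed_closure, ?_⟩
  have hW : Set.range ((toUnit _ ≫ (l.map nr).prod) * RedSub.cellMap D eneg epos).left.base = Set.range o.base := by
    have h1 : Set.range ((RedSub.cellMap D eneg epos ≫ lt).left).base = Set.range o.base := by
      simp only [o, Over.comp_left, Scheme.Hom.comp_base, TopCat.coe_comp, Set.range_comp, hrange₀]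
    rw [← h1, hlt]
  rw [hW, hcomp]
  refine Set.Subset.antisymm (fun p hp => ⟨?_, subset_closure hp⟩) fun p hp => ?_
  · obtain ⟨q, rfl⟩ := hp
    exact ⟨j.left q, rfl⟩
  · obtain ⟨⟨ω, rfl⟩, hcl⟩ := hp
    have hr : Set.range (j.left ≫ o).base = o.base '' Set.range j.left := by
      rw [← Set.range_comp]; rfl
    rw [hr] at hcl ⊢
    refine Set.mem_image_of_mem _ (j.left.isClosedEmbedding.isClosed_range.closure_subset ?_)
    rw [Topology.IsInducing.closure_eq_preimage_closure_image ho.base_open.isInducing]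
    exact hcl

end Groth.Agent.S5552
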