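import Groth.Statements.S5554
import Groth.Agent.Lib.MTConj21.Basic
import Groth.Agent.Lib.CartanT21.Main
import Groth.Agent.Lib.MTExt21.BaseChange
import Groth.Agent.Lib.MTRigid29.TransporterSection
-- import your own Groth.Agent.* helpers here

set_option autoImplicit false
open CategoryTheory MonoidalCategory CartesianMonoidalCategory MonObj GrpObj AlgebraicGeometry
universe u
set_option backward.isDefEq.respectTransparency false
set_option backward.isDefEq.respectTransparency.types false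
set_option maxSynthPendingDepth 3
set_option maxHeartbeats 1600000
open RedSub

namespace Groth.Agent.S5554

/-- The non-trivial point (the last arrow of 1 → W_H(T) → W_N(T) → N/H → 1 is an epimorphism of etale
sheaves), for a reductive S-group G. Let H ⟶ G be a subgroup of type (R), N ⟶ G its normaliser with
H ⟶ N, and T a maximal torus of G contained in H. Then for every X over S and every X-point n of N,
every point of X has an etale neighbourhood f : Y ⟶ X and a Y-point y of H such that (n ∘ f) · y⁻¹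
normalises T. -/
theorem result {S : Scheme.{u}} {G H N T : Over S} [GrpObj G] [GrpObj H] [GrpObj N]
    [GrpObj T] (hG : Red.IsReductive G) (h : H ⟶ G) (hH : RedSub.IsTypeR h) (nG : N ⟶ G) (hN : Red.IsNormalizerOf h nG)
    (k : H ⟶ N) (hk : k ≫ nG = h) [IsMonHom k] (t : T ⟶ H) [IsMonHom t] (hT : Red.IsMaximalTorus (t ≫ h))
    (X : Over S) (n : X ⟶ N) (p : ↥X.left) :
    ∃ (Y : Scheme.{u}) (f : Y ⟶ X.left) (_ : Etale f), p ∈ Set.range f.base ∧
      ∃ y : Over.mk (f ≫ X.hom) ⟶ H,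
        ∀ (X' : Over S) (z : X' ⟶ Over.mk (f ≫ X.hom)) (s : X' ⟶ T),
          (∃ s' : X' ⟶ T, (z ≫ ((Over.homMk f ≫ n) * (y ≫ k)⁻¹) ≫ nG) * (s ≫ t ≫ h) *
              (z ≫ ((Over.homMk f ≫ n) * (y ≫ k)⁻¹) ≫ nG)⁻¹ = s' ≫ t ≫ h) ∧
          (∃ s' : X' ⟶ T, (z ≫ ((Over.homMk f ≫ n) * (y ≫ k)⁻¹) ≫ nG)⁻¹ * (s ≫ t ≫ h) *
              (z ≫ ((Over.homMk f ≫ n) * (y ≫ k)⁻¹) ≫ nG) = s' ≫ t ≫ h) := by
  obtain ⟨⟨hhM, hhI⟩, hHs, hHq, -, -⟩ := hH
  haveI := hhM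
  haveI := hhI
  haveI := hHs
  haveI := hHq
  haveI := hG.1
  haveI := hG.2.1
  haveI : Mono h := Over.mono_of_mono_left h
  haveI : IsSeparated H.hom := by rw [← Over.w h]; infer_instance
  let π := X.hom
  let tX := (Over.pullback π).map t
  let hX := (Over.pullback π).map h
  haveI : IsMonHom tX := MTRigid29.isMonHom_map t π
  haveI : IsMonHom hX := MTRigid29.isMonHom_map h π
  haveI : Mono hX := Functor.map_mono _ _
  haveI : Smooth (Red.bc π H).hom := inferInstanceAs (Smooth (Limits.pullback.snd H.hom π))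
  haveI : IsSeparated (Red.bc π H).hom := inferInstanceAs (IsSeparated (Limits.pullback.snd H.hom π))
  haveI : QuasiCompact (Red.bc π H).hom := inferInstanceAs (QuasiCompact (Limits.pullback.snd H.hom π))
  haveI : LocallyOfFiniteType G.hom := inferInstance
  have hTX : Red.IsMaximalTorus (tX ≫ hX) := by
    have h0 := MTExt21.isMaximalTorus_bc hT π
    rwa [Functor.map_comp] at h0
  have hinv : ∀ {Y : Over X.left} (a : Y ⟶ Red.bc π G), DiagGL.fl π G a⁻¹ = (DiagGL.fl π G a)⁻¹ :=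
    fun {Y} a => map_inv (MonoidHom.mk' (DiagGL.fl π G (T := Y)) (DiagGL.fl_mul π G)) a
  let e0 : (Over.map π).obj (𝟙_ (Over X.left)) ⟶ X :=
    Over.homMk (𝟙 _) (by show 𝟙 _ ≫ π = 𝟙 _ ≫ π; rfl)
  obtain ⟨gB, hgB⟩ := DiagGL.fl_surjective π G (e0 ≫ n ≫ nG)
  have hcj : ∀ {Y : Over X.left} (a : Y ⟶ Red.bc π T),
      DiagGL.fl π G ((a ≫ tX ≫ hX) ≫ (CartanT21.conjIso gB⁻¹).hom) =
        ((Over.map π).map (toUnit Y) ≫ e0 ≫ n ≫ nG)⁻¹ * (DiagGL.fl π T a ≫ t ≫ h) *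
          ((Over.map π).map (toUnit Y) ≫ e0 ≫ n ≫ nG) := fun {Y} a => by
    rw [CartanT21.comp_conjIso, GrpObj.comp_inv, _root_.inv_inv, DiagGL.fl_mul, DiagGL.fl_mul, hinv, DiagGL.fl_comp, hgB,
      show tX ≫ hX = (Over.pullback π).map (t ≫ h) from ((Over.pullback π).map_comp t h).symm, DiagGL.fl_comp_map]
  obtain ⟨h', hh'⟩ := ((hN.2.2 X (n ≫ nG)).1 ⟨n, rfl⟩ _
    ((Over.map π).map (toUnit (Red.bc π T)) ≫ e0) (DiagGL.fl π T (𝟙 (Red.bc π T)) ≫ t)).2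
  obtain ⟨i₂, hi₂⟩ := DiagGL.fl_surjective π H h'
  have hi₂h : i₂ ≫ hX = (tX ≫ hX) ≫ (CartanT21.conjIso gB⁻¹).hom := by
    refine DiagGL.fl_injective π G ?_
    have h1 := hcj (𝟙 (Red.bc π T))
    rw [Category.id_comp] at h1
    rw [h1, DiagGL.fl_comp_map, hi₂, ← hh']
    simp only [Category.assoc]
  have h2 : Red.IsMaximalTorus i₂ := CartanT21.isMaximalTorus_factor hX i₂ (by
    rw [hi₂h]; exact CartanT21.isMaximalTorus_conj hTX gB⁻¹)
  obtain ⟨U, f, hf, hp, l, hl⟩ :=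
    MTConj21.exists_etale_conjCond h2 (CartanT21.isMaximalTorus_factor hX tX hTX) p
  let y : Over.mk (f ≫ X.hom) ⟶ H := DiagGL.fl π H l
  refine ⟨U, f, hf, hp, y, fun X' z s => ?_⟩
  let Y : Over X.left := Over.mk (z.left ≫ f)
  let w : (Over.map π).obj Y ⟶ X' := Over.homMk (𝟙 X'.left) (by
    show 𝟙 X'.left ≫ X'.hom = (z.left ≫ f) ≫ π
    rw [Category.id_comp, ← Over.w z, Category.assoc]; rfl)
  let w' : X' ⟶ (Over.map π).obj Y := Over.homMk (𝟙 X'.left) (by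
    show 𝟙 X'.left ≫ (z.left ≫ f) ≫ π = X'.hom
    rw [Category.id_comp, ← Over.w z, Category.assoc]; rfl)
  have hw : w' ≫ w = 𝟙 X' := Over.OverMorphism.ext (Category.id_comp _)
  let xz : Y ⟶ Over.mk f := Over.homMk z.left rfl
  obtain ⟨a, ha⟩ := DiagGL.fl_surjective π T (w ≫ s)
  let N' : (Over.map π).obj Y ⟶ G := (Over.map π).map (toUnit Y) ≫ e0 ≫ n ≫ nG
  let L : (Over.map π).obj Y ⟶ G := DiagGL.fl π H (xz ≫ l) ≫ h
  have hA : w ≫ z ≫ ((Over.homMk f ≫ n) * (y ≫ k)⁻¹) ≫ nG = N' * L⁻¹ := by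
    haveI := hN.1
    simp only [MonObj.mul_comp, MonObj.comp_mul, GrpObj.inv_comp, GrpObj.comp_inv, Category.assoc, hk]
    have e1 : w ≫ z ≫ (Over.homMk f : Over.mk (f ≫ X.hom) ⟶ X) = (Over.map π).map (toUnit Y) ≫ e0 :=
      Over.OverMorphism.ext (by
        show 𝟙 X'.left ≫ z.left ≫ f = (toUnit Y).left ≫ 𝟙 _
        rw [Category.id_comp, Category.comp_id]
        exact (Over.w (toUnit Y)).symm.trans (Category.comp_id _))
    have e2 : w ≫ z ≫ y = DiagGL.fl π H (xz ≫ l) := by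
      rw [DiagGL.fl_comp, ← Category.assoc]
      congr 1
    have e1' := reassoc_of% e1
    have e2' := reassoc_of% e2
    rw [e1', e2']
  have hi : ∀ c : Y ⟶ Red.bc π T, DiagGL.fl π H (c ≫ i₂) ≫ h = N'⁻¹ * (DiagGL.fl π T c ≫ t ≫ h) * N' := fun c => by
    rw [← DiagGL.fl_comp_map, Category.assoc, hi₂h, ← Category.assoc]
    exact hcj c
  have push : ∀ {u v : Y ⟶ Red.bc π H}, u = v → DiagGL.fl π H u ≫ h = DiagGL.fl π H v ≫ h := fun e => by rw [e]
  have hfl : ∀ {u v : Y ⟶ Red.bc π H}, DiagGL.fl π H (u * v * u⁻¹) ≫ h =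
      (DiagGL.fl π H u ≫ h) * (DiagGL.fl π H v ≫ h) * (DiagGL.fl π H u ≫ h)⁻¹ ∧
      DiagGL.fl π H (u⁻¹ * v * u) ≫ h =
      (DiagGL.fl π H u ≫ h)⁻¹ * (DiagGL.fl π H v ≫ h) * (DiagGL.fl π H u ≫ h) := fun {u v} => by
    let F : (Y ⟶ Red.bc π H) →* ((Over.map π).obj Y ⟶ G) :=
      MonoidHom.mk' (fun q => DiagGL.fl π H q ≫ h) fun q q' => by rw [DiagGL.fl_mul, MonObj.mul_comp]
    exact ⟨show F (u * v * u⁻¹) = F u * F v * (F u)⁻¹ by rw [map_mul, map_mul, map_inv],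
      show F (u⁻¹ * v * u) = (F u)⁻¹ * F v * F u by rw [map_mul, map_mul, map_inv]⟩
  obtain ⟨a', ha'⟩ := (hl Y xz).2 a
  obtain ⟨b', hb'⟩ := (hl Y xz).1 a
  have hs : ∀ c : Y ⟶ Red.bc π T, DiagGL.fl π H (c ≫ tX) ≫ h = DiagGL.fl π T c ≫ t ≫ h := fun c => by
    rw [DiagGL.fl_comp_map, Category.assoc]
  have k1 : (N' * L⁻¹) * (w ≫ s ≫ t ≫ h) * (N' * L⁻¹)⁻¹ = DiagGL.fl π T a' ≫ t ≫ h := by
    have h1 := push ha'
    rw [hfl.2, hs, hi, ha, Category.assoc] at h1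
    change L⁻¹ * _ * L = _ at h1
    calc _ = N' * (L⁻¹ * (w ≫ s ≫ t ≫ h) * L) * N'⁻¹ := by group
      _ = _ := by rw [h1]; group
  have k2 : (N' * L⁻¹)⁻¹ * (w ≫ s ≫ t ≫ h) * (N' * L⁻¹) = DiagGL.fl π T b' ≫ t ≫ h := by
    have h1 := push hb'
    rw [hfl.1, hi, hs, ha, Category.assoc] at h1
    change L * _ * L⁻¹ = _ at h1
    rw [← h1]; group
  refine ⟨⟨w' ≫ DiagGL.fl π T a', ?_⟩, ⟨w' ≫ DiagGL.fl π T b', ?_⟩⟩
  · have h3 := congrArg (w' ≫ ·) k1
    simp only [← hA, MonObj.comp_mul, GrpObj.comp_inv, reassoc_of% hw] at h3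
    simpa only [Category.assoc] using h3
  · have h3 := congrArg (w' ≫ ·) k2
    simp only [← hA, MonObj.comp_mul, GrpObj.comp_inv, reassoc_of% hw] at h3
    simpa only [Category.assoc] using h3

end Groth.Agent.S5554
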