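import Groth.Statements.S5566
import Groth.Agent.Lib.RedCell16.Descent

set_option linter.style.haveILetI false
set_option backward.isDefEq.respectTransparency false
set_option backward.isDefEq.respectTransparency.types false
-- import your own Groth.Agent.* helpers here

set_option autoImplicit false
open CategoryTheory MonoidalCategory CartesianMonoidalCategory MonObj GrpObj AlgebraicGeometry
universe u
open RedSub

namespace Groth.Agent.S5566

/-- Let G be a split reductive S-group (splitting D, system of simple roots b, big cell Ω ⟶ G), a a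
simple root, u_a(x) a section of U_a with x of unit coordinate, and v = u_{-a}(y) any section of
U_{-a}. Then Ω · v ⊆ Ω ∪ u_a(x) · Ω. -/
theorem result {S : Scheme.{u}} {G : Over S} [GrpObj G] (D : Red.SplitRed G)
    (b : D.P.Base) {n m : ℕ} (eneg : Fin n → D.idx) (epos : Fin m → D.idx)
    (hneg : RedSub.Enumerates (RedSub.negRoots D.P b) eneg) (hpos : RedSub.Enumerates (RedSub.posRoots D.P b) epos)
    (a : D.idx) (ha : a ∈ b.support) (x : 𝟙_ (Over S) ⟶ Red.Ga S) (hx : IsUnit (Red.gaFn x))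
    (y : 𝟙_ (Over S) ⟶ Red.Ga S) :
    Set.range (RedSub.cellMap D eneg epos * (toUnit _ ≫ y ≫ D.u (D.P.reflectionPerm a a))).left.base ⊆
      Set.range (RedSub.cellMap D eneg epos).left.base ∪
        Set.range ((toUnit _ ≫ x ≫ D.u a) * RedSub.cellMap D eneg epos).left.base := by
  rintro _ ⟨d, rfl⟩
  haveI := RedCell16.isReduced D ((RedSub.pow (Red.Ga S) n ⊗ (D.T ⊗ RedSub.pow (Red.Ga S) m)).hom d)
  haveI := D.fintypeIdx
  haveI := D.maximalTorus.1
  haveI := fun c => (D.rootHom c).1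
  have hΔ := RootComb21.isSimpleSys_support b
  set f := RedSub.cellMap D eneg epos * (toUnit _ ≫ y ≫ D.u (D.P.reflectionPerm a a)) with hf
  let X := RankOne16.kPt (Red.geomPt d ≫ (RedSub.pow (Red.Ga S) n ⊗ (D.T ⊗ RedSub.pow (Red.Ga S) m)).hom)
  let q : X ⟶ RedSub.pow (Red.Ga S) n ⊗ (D.T ⊗ RedSub.pow (Red.Ga S) m) := RankOne16.geomHom d
  have hfin : ∀ (dd : X ⟶ RedSub.pow (Red.Ga S) n ⊗ (D.T ⊗ RedSub.pow (Red.Ga S) m))
      (F : RedSub.pow (Red.Ga S) n ⊗ (D.T ⊗ RedSub.pow (Red.Ga S) m) ⟶ G), q ≫ f = dd ≫ F →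
        f.left d ∈ Set.range F.left.base := fun dd F e => by
    have h := congrArg (fun g : X ⟶ G => g.left (IsLocalRing.closedPoint _)) e
    simp only [Over.comp_left, Scheme.Hom.comp_apply] at h
    rw [show q.left (IsLocalRing.closedPoint _) = d from RankOne16.geomHom_apply d _] at h
    exact ⟨_, h.symm⟩
  obtain ⟨Y, t, Z, hq⟩ := RedCell16.exists_mkDom D q
  set eta := Red.gaFn (toUnit X ≫ y) with heta
  have hg : q ≫ f = RedCell16.cellPt D eneg epos Y t Z * RankOne.P (D.u (RootDLib.ng D.P a) ) eta := by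
    rw [hf, MonObj.comp_mul, RedCell16.toUnit_comp, ← Category.assoc, RankOne.comp_eq_P (D.u _) (toUnit X ≫ y), hq]
    rfl
  obtain ⟨nr, hnr⟩ := RedCell16.exists_realises D
  have hapos : a ∈ RedSub.posRoots D.P b := RootDLib.mem_posOf_of_mem ha
  obtain ⟨z', hz', w, hw, hsplit⟩ := RedCell16.exists_split D b (RedSub.posRoots D.P b \ {a}) {a}
    (by rw [Set.sdiff_union_self, Set.union_eq_left.2 (Set.singleton_subset_iff.2 hapos)])
    (RedCell16.rp_mem_gens D epos Z fun i => hpos.2 ▸ Set.mem_range_self i)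
  obtain ⟨c, rfl⟩ : ∃ c, w = RankOne.P (D.u a) c := by
    refine Subgroup.closure_induction ?_ ⟨0, RankOne.P_zero.symm⟩ ?_ ?_ hw
    · rintro _ ⟨e, c, he, rfl⟩; rw [Set.mem_singleton_iff.1 he]; exact ⟨c, rfl⟩
    · rintro _ _ - - ⟨y1, rfl⟩ ⟨y2, rfl⟩; exact ⟨y1 + y2, (RankOne.P_add _ _).symm⟩
    · rintro _ - ⟨y1, rfl⟩; exact ⟨-y1, (RankOne.P_neg _).symm⟩
  obtain ⟨vd, cu, -, hvd, E⟩ := RedCell16.exists_dual D a
  haveI := E.hom_pm
  haveI := E.hom_av
  set eta' := (((cu X)⁻¹ : (Γ(X.left, ⊤))ˣ) : Γ(X.left, ⊤)) * eta with heta'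
  have hM : RankOne.P (D.u (RootDLib.ng D.P a) ) eta = RankOne.P vd eta' := by
    rw [hvd, heta', Units.mul_inv_cancel_left]
  have hu : RedCell16.rp D eneg Y ∈ RedCell16.Um D b X := RedCell16.rp_mem_gens D eneg Y fun i => hneg.2 ▸ Set.mem_range_self i
  suffices h : RedCell16.InC D b nr X [] (q ≫ f) ∨ RedCell16.InC D b nr X [a] (q ≫ f) by
    rcases h with h | h
    · obtain ⟨y₁, t₁, z₁, e⟩ := RedCell16.inC_one D hnr h eneg epos hneg hpos
      exact Or.inl (hfin (RedCell16.mkDom D y₁ t₁ z₁) _ e)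
    · obtain ⟨ξ, hξ⟩ : IsUnit (Red.gaFn (toUnit X ≫ x)) := by rw [GaPts.gaFn_comp]; exact hx.map _
      have h1 := RedCell16.inC_descend D ha hnr (by
        rw [RootDLib.wprod_cons, RootDLib.wprod_nil, _root_.mul_one, RootPairing.Equiv.reflection_inv, RootDLib.refl_smul]
        exact (RootComb21.mem_negRoots_iff b _).1 (RedCell16.ng_mem_neg D b hapos)) ξ h
      obtain ⟨y₁, t₁, z₁, e⟩ := RedCell16.inC_one D hnr h1 eneg epos hneg hpos
      refine Or.inr (hfin (RedCell16.mkDom D y₁ t₁ z₁) _ ?_)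
      refine Eq.symm ?_
      rw [MonObj.comp_mul, RedCell16.toUnit_comp, ← Category.assoc, RankOne.comp_eq_P (D.u a) (toUnit X ≫ x), ← hξ,
        show RedCell16.mkDom D y₁ t₁ z₁ ≫ RedSub.cellMap D eneg epos = RedCell16.cellPt D eneg epos y₁ t₁ z₁ from rfl,
        ← e, mul_inv_cancel_left]
  have hge : q ≫ f = RedCell16.rp D eneg Y * ((t ≫ D.i) * z') * (RankOne.P (D.u a) c * RankOne.P vd eta') := by
    rw [hg, RedCell16.cellPt_eq, hsplit, hM]; group
  by_cases h0 : 1 + c * eta' = 0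
  · right
    have hu2 : IsUnit eta' := IsUnit.of_mul_eq_one (-c) (by linear_combination (-1 : Γ(X.left, ⊤)) * h0)
    obtain ⟨e, he⟩ := hu2
    set k : (Γ(X.left, ⊤))ˣ := -e⁻¹ with hk
    have hck : c = (k : Γ(X.left, ⊤)) := by
      rw [hk, Units.val_neg]
      have : c * (e : Γ(X.left, ⊤)) = -1 := by rw [he]; linear_combination h0
      linear_combination ((e⁻¹ : (Γ(X.left, ⊤))ˣ) : Γ(X.left, ⊤)) * this - c * Units.mul_inv e
    have hw : RankOne.P (D.u a) c * RankOne.P vd eta' =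
        RankOne.A D.i (RedCell16.coChar D a) k * RankOne16.W (D.u a) vd * RankOne.P (D.u a) (-c) := by
      rw [RankOne16.W, ← RankOne.w_smul_left E k 1 (-1) c eta' (by simp) (by rw [hck, _root_.mul_one]) (by linear_combination h0)]
      simp only [RankOne.w, RankOne.P_neg]
      group
    obtain ⟨τ, hτ⟩ := (RedCell16.nrm_W D a E).exists_torus D b (RedCell16.nrm_of_realises D hnr a)
    have hn : RankOne16.W (D.u a) vd = (toUnit X ≫ nr a) * ((toUnit X ≫ τ)⁻¹ ≫ D.i) := by
      rw [hτ, MonObj.comp_mul, RankOne16.comp_W, GrpObj.inv_comp, Category.assoc, mul_inv_cancel_right]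
    set A := RankOne.A D.i (RedCell16.coChar D a) k
    have hz2 : A⁻¹ * z' * A ∈ RedCell16.gens D (RedSub.posRoots D.P b \ {a}) X := by
      have := RedCell16.torus_conj_gens D (GmPts.ptOfUnit k ≫ RedCell16.coChar D a)⁻¹ hz'
      rw [GrpObj.inv_comp, _root_.inv_inv, Category.assoc] at this
      exact this
    have hz3 := RedCell16.conj_word_mem D hnr [a] (R := RedSub.posRoots D.P b \ {a}) (R' := RedSub.posRoots D.P b)
      (fun e he => by
        rw [RootDLib.wprod_cons, RootDLib.wprod_nil, _root_.mul_one, RootPairing.Equiv.reflection_inv, RootDLib.refl_smul]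
        exact RootDLib.reflect_mem_posOf ha he.1 he.2 (RootComb21.root_ne_two_smul _ _) hΔ) b hz2
    set τi := (toUnit X ≫ τ)⁻¹
    have hz4 := RedCell16.torus_conj_gens D τi⁻¹ hz3
    rw [GrpObj.inv_comp, _root_.inv_inv] at hz4
    obtain ⟨u₂, hu₂, t₂, z₂, hz₂, e₂⟩ := RedCell16.inC_torus D hnr (t * (GmPts.ptOfUnit k ≫ RedCell16.coChar D a))
      (⟨1, Subgroup.one_mem _, τi, _, Subgroup.mul_mem _ hz4 (RedCell16.P_mem_gens D hapos (-c)), rfl⟩ :
        RedCell16.InC D b nr X [a] _)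
    refine ⟨_, Subgroup.mul_mem _ hu hu₂, t₂, z₂, hz₂, ?_⟩
    rw [show RedCell16.rp D eneg Y * u₂ * (toUnit X ≫ RedCell16.Nw D nr [a]) * ((t₂ ≫ D.i) * z₂) =
      RedCell16.rp D eneg Y * (u₂ * (toUnit X ≫ RedCell16.Nw D nr [a]) * ((t₂ ≫ D.i) * z₂)) by group, ← e₂, hge, hw,
      hn, MonObj.mul_comp]
    simp only [RedCell16.Nw, List.map_cons, List.map_nil, List.prod_cons, List.prod_nil, _root_.mul_one, A, RankOne.A,
      Category.assoc]
    group
  · left
    obtain ⟨k, hk⟩ := RankOne16.isUnit_of_ne h0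
    rw [RankOne.P_mul_M E c eta' k hk] at hge
    set e := eta' * ((k⁻¹ : (Γ(X.left, ⊤))ˣ) : Γ(X.left, ⊤))
    have hna : RootDLib.ng D.P a ∈ RedSub.posRoots D.P (RootComb21.reflBase b a) := by
      rw [RootComb21.mem_posRoots_reflBase, show D.P.reflectionPerm a (RootDLib.ng D.P a) = a from D.P.reflectionPerm_self a a]
      exact hapos
    have hR : RedSub.posRoots D.P b \ {a} ⊆ RedSub.posRoots D.P (RootComb21.reflBase b a) := fun e he => by
      rw [RootComb21.mem_posRoots_reflBase]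
      exact RootDLib.reflect_mem_posOf ha he.1 he.2 (RootComb21.root_ne_two_smul _ _) hΔ
    have hcl : ∀ e ∈ RedSub.posRoots D.P b \ {a}, ∀ (e' : D.idx) (i j : ℕ),
        RedCell16.IsComb D (RootDLib.ng D.P a) e e' i j → e' ∈ RedSub.posRoots D.P b \ {a} := fun e he e' i j hc => by
      classical
      obtain ⟨r, hr, hrne⟩ := RedCell16.exists_coeff_ne D ha (b := b) he.2 (fun e0 =>
        (RootComb21.mem_negRoots_iff b e).1 (by rw [e0]; exact RedCell16.ng_mem_neg D b hapos) he.1)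
      have e1 : RootDLib.coeff hΔ e' = (-(i : ℤ)) • Finsupp.single a 1 + (j : ℤ) • RootDLib.coeff hΔ e := by
        refine RootDLib.coeff_eq hΔ ((Finset.coe_subset.2 Finsupp.support_add).trans ?_) ?_
        · rw [Finset.coe_union, Set.union_subset_iff]
          refine ⟨(Finset.coe_subset.2 Finsupp.support_smul).trans ?_,
            (Finset.coe_subset.2 Finsupp.support_smul).trans (RootDLib.coeff_supp hΔ e)⟩
          rw [Finsupp.support_single_ne_zero _ one_ne_zero]
          simpa using ha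
        · rw [map_add, map_zsmul, map_zsmul, RootDLib.coeff_sum, Finsupp.linearCombination_single, one_smul, hc.2.2,
            RootDLib.root_ng, smul_neg, neg_smul]
      have e2 : RootDLib.coeff hΔ e' r = (j : ℤ) * RootDLib.coeff hΔ e r := by
        rw [e1]; simp [Finsupp.single_apply, hr.symm]
      have hpos' : 0 < RootDLib.coeff hΔ e' r := by
        rw [e2]
        exact mul_pos (by exact_mod_cast hc.2.1) (lt_of_le_of_ne ((RootDLib.mem_posOf_iff hΔ).1 he.1 r) hrne.symm)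
      refine ⟨?_, fun e0 => ?_⟩
      · rcases RootDLib.coeff_sign hΔ e' with h | h
        · exact (RootDLib.mem_posOf_iff hΔ).2 h
        · exact absurd (h r) (not_le.2 hpos')
      · rw [Set.mem_singleton_iff.1 e0, RootDLib.coeff_simple hΔ ha, Finsupp.single_apply, if_neg hr.symm] at hpos'
        exact lt_irrefl _ hpos'
    have hz2 : (RankOne.P vd e)⁻¹ * z' * RankOne.P vd e ∈ RedCell16.gens D (RedSub.posRoots D.P b \ {a}) X := by
      have := RedCell16.conj_P_gens D hna hR hcl (-((cu X : Γ(X.left, ⊤)) * e)) hz'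
      rw [RankOne.P_neg, _root_.inv_inv] at this
      rwa [hvd]
    have hz3 := RedCell16.torus_conj_gens D (GmPts.ptOfUnit k ≫ RedCell16.coChar D a)⁻¹
      (RedCell16.gens_mono D (R' := RedSub.posRoots D.P b) Set.sdiff_subset _ hz2)
    rw [GrpObj.inv_comp, _root_.inv_inv] at hz3
    have hum : (t ≫ D.i) * RankOne.P vd e * (t ≫ D.i)⁻¹ ∈ RedCell16.Um D b X :=
      RedCell16.torus_conj_gens D t (by rw [hvd]; exact RedCell16.P_mem_gens D (RedCell16.ng_mem_neg D b hapos) _)
    refine ⟨_, Subgroup.mul_mem _ hu hum, t * (GmPts.ptOfUnit k ≫ RedCell16.coChar D a), _,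
      Subgroup.mul_mem _ hz3 (RedCell16.P_mem_gens D hapos (c * ((k⁻¹ : (Γ(X.left, ⊤))ˣ) : Γ(X.left, ⊤)))), ?_⟩
    rw [hge, MonObj.mul_comp]
    simp only [RedCell16.Nw, List.map_nil, List.prod_nil, MonObj.comp_one, RankOne.A, Category.assoc]
    group

end Groth.Agent.S5566
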