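import Groth.Statements.S5568
import Groth.Agent.Lib.PMor16.RadTorus

set_option linter.style.haveILetI false
set_option backward.isDefEq.respectTransparency false
set_option backward.isDefEq.respectTransparency.types false
-- import your own Groth.Agent.* helpers here

set_option autoImplicit false
open CategoryTheory MonoidalCategory CartesianMonoidalCategory MonObj GrpObj AlgebraicGeometry
universe u
open RedSub

namespace Groth.Agent.S5568

/-- Let G be a split reductive S-group (splitting D, T ≅ D_S(M)), N = {m ∈ M | (α*, m) = 0 for all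
coroots}, T' = D_S(M/N) ⟶ D_S(M) ≅ T the subtorus generated by the coroots, and R = rad(G) (the
maximal torus of the centre), lying in T through r'. Then the multiplication R x_S T' ⟶ T is an
isogeny (surjective, flat, finite). -/
theorem result {S : Scheme.{u}} {G Z R : Over S} [GrpObj G] [GrpObj Z] [GrpObj R]
    (D : Red.SplitRed G) (j : Z ⟶ G) (hZ : Red.IsCentre j) (r : R ⟶ Z) (hR : Red.IsMaximalTorus r)
    (r' : R ⟶ D.T) (hr' : r' ≫ D.i = r ≫ j)
    (N : AddSubgroup D.M) (hN : ∀ m : D.M, m ∈ N ↔ ∀ a : D.idx, D.P.coroot a m = 0) :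
    Surjective ((r' ⊗ₘ (Red.DSmap S (QuotientAddGroup.mk' N) ≫ D.split.inv.hom.hom)) ≫ μ[D.T]).left ∧
      Flat ((r' ⊗ₘ (Red.DSmap S (QuotientAddGroup.mk' N) ≫ D.split.inv.hom.hom)) ≫ μ[D.T]).left ∧
      IsFinite ((r' ⊗ₘ (Red.DSmap S (QuotientAddGroup.mk' N) ≫ D.split.inv.hom.hom)) ≫ μ[D.T]).left := by
  exact PMor16.radical_isogeny D j hZ r hR r' hr' N hN

end Groth.Agent.S5568
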