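import Groth.Statements.S5570
import Groth.Agent.Lib.PMor16.CentralTorus

set_option linter.style.haveILetI false
set_option backward.isDefEq.respectTransparency false
set_option backward.isDefEq.respectTransparency.types false
-- import your own Groth.Agent.* helpers here

set_option autoImplicit false
open CategoryTheory MonoidalCategory CartesianMonoidalCategory MonObj GrpObj AlgebraicGeometry
universe u
open RedSub

namespace Groth.Agent.S5570

/-- Let G be a reductive S-group, q : Q ⟶ G a subtorus, z : Z ⟶ G its centraliser, ZZ ⟶ Z the centre of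
Z and R = rad(Z) ⟶ ZZ its maximal torus. Then Q ⊆ rad(Z), and Z is the centraliser in G of rad(Z).
(So Centr_G(Q) is critical.) -/
theorem result {S : Scheme.{u}} {G Q Z ZZ R : Over S} [GrpObj G] [GrpObj Q] [GrpObj Z]
    [GrpObj ZZ] [GrpObj R] (hG : Red.IsReductive G) (q : Q ⟶ G) [IsMonHom q] [Mono q] (hQ : Red.IsTorus Q) (z : Z ⟶ G)
    (hZ : Red.IsCentralizerOf q z) (jz : ZZ ⟶ Z) (hZZ : Red.IsCentre jz) (r : R ⟶ ZZ) (hR : Red.IsMaximalTorus r) :
    (∃ q' : Q ⟶ R, q' ≫ r ≫ jz ≫ z = q) ∧ Red.IsCentralizerOf (r ≫ jz ≫ z) z := by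
  have hcommQ : ∀ {X : Over S} (a b : X ⟶ Q), a * b = b * a := fun a b =>
    MTRigid29.commute_of_isMultTypeFT (TorPts21.isMultTypeFT_of_isTorus hQ) a b
  obtain ⟨hzm, hzmono, hzu⟩ := hZ
  haveI := hzm
  haveI := hzmono
  obtain ⟨l, hl⟩ := PMor16.factor_radical hG q hQ z ⟨hzm, hzmono, hzu⟩ jz hZZ r hR hQ q
    (fun X x h => by rw [← MonObj.mul_comp, hcommQ, MonObj.mul_comp])
    (fun X x w => by
      have h := (hzu X (w ≫ z)).1 ⟨w, rfl⟩ X (𝟙 X) x
      simpa using h.symm)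
  refine ⟨⟨l, hl⟩, hzm, hzmono, fun X g => ⟨?_, fun hg => ?_⟩⟩
  · rintro ⟨w, rfl⟩ X' x h
    have h1 := (hZZ.2.2 X' ((h ≫ r) ≫ jz)).1 ⟨h ≫ r, rfl⟩ X' (𝟙 X') (x ≫ w)
    have h2 := congrArg (· ≫ z) h1
    simp only [MonObj.mul_comp, Category.id_comp, Category.assoc, Category.comp_id] at h2 ⊢
    exact h2.symm
  · refine (hzu X g).2 fun X' x h => ?_
    have h1 := hg X' x (h ≫ l)
    rw [show (h ≫ l) ≫ r ≫ jz ≫ z = h ≫ q by rw [Category.assoc, hl]] at h1
    exact h1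

end Groth.Agent.S5570
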