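import Groth.Statements.S5572
import Groth.Agent.Lib.PMor16.CoradHom
import Groth.Agent.Lib.RedCell16.BaseExists

set_option linter.style.haveILetI false
set_option backward.isDefEq.respectTransparency false
set_option backward.isDefEq.respectTransparency.types false
-- import your own Groth.Agent.* helpers here

set_option autoImplicit false
open CategoryTheory MonoidalCategory CartesianMonoidalCategory MonObj GrpObj AlgebraicGeometry
universe u
open RedSub

namespace Groth.Agent.S5572

/-- Let G be a split reductive S-group (splitting D, T ≅ D_S(M)) and N = {m | (α*, m) = 0 for all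
coroots}, so that T/T' = D_S(N). Then there is a homomorphism f : G ⟶ D_S(N) inducing on T the
canonical projection; any kernel of f is smooth over S with connected fibres and is killed by every
homomorphism from G to a commutative S-group scheme. -/
theorem result {S : Scheme.{u}} {G : Over S} [GrpObj G] (D : Red.SplitRed G)
    (N : AddSubgroup D.M) (hN : ∀ m : D.M, m ∈ N ↔ ∀ a : D.idx, D.P.coroot a m = 0) :
    ∃ f : G ⟶ Red.DS S ↥N, IsMonHom f ∧ D.i ≫ f = D.split.hom.hom.hom ≫ Red.DSmap S N.subtype ∧
      ∀ (K : Over S) [GrpObj K] (k : K ⟶ G) [IsMonHom k], AlgGrp.IsKernel k f →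
        Smooth K.hom ∧ RedSub.HasConnectedFibres K ∧ RedSub.KilledByCommutative k := by
  rcases isEmpty_or_nonempty S with hS | ⟨⟨s⟩⟩
  · haveI : IsEmpty G.left := G.hom.base.hom.toFun |> Function.isEmpty
    have hu : ∀ (A B : Over S) [IsEmpty A.left] (p q : A ⟶ B), p = q := fun A B _ p q =>
      Over.OverMorphism.ext ((isInitialOfIsEmpty (X := A.left)).hom_ext _ _)
    haveI : IsEmpty D.T.left := D.T.hom.base.hom.toFun |> Function.isEmpty
    haveI : IsEmpty (𝟙_ (Over S)).left := hS
    haveI : IsEmpty (G ⊗ G).left := (G ⊗ G).hom.base.hom.toFun |> Function.isEmpty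
    refine ⟨Over.homMk ((isInitialOfIsEmpty (X := G.left)).to _) ((isInitialOfIsEmpty (X := G.left)).hom_ext _ _),
      ⟨hu _ _ _ _, hu _ _ _ _⟩, hu _ _ _ _, fun K _ k _ _ => ?_⟩
    haveI : IsEmpty K.left := K.hom.base.hom.toFun |> Function.isEmpty
    haveI : IsIso K.hom := ⟨(isInitialOfIsEmpty (X := S)).to _, (isInitialOfIsEmpty (X := K.left)).hom_ext _ _,
      (isInitialOfIsEmpty (X := S)).hom_ext _ _⟩
    exact ⟨inferInstance, fun s => isEmptyElim s, fun A _ f _ _ => hu _ _ _ _⟩
  obtain ⟨b⟩ := RedCell16.nonempty_base D s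
  obtain ⟨nn, mm, eneg, epos, hneg, hpos⟩ := RedCell16.exists_enum D b
  obtain ⟨f, hf, hi, hcell⟩ := PMor16.exists_torusHom D N hN hneg hpos
  haveI := hf
  exact ⟨f, hf, hi, fun K _ k _ hk => PMor16.kernel_props D N hN hneg hpos f hi hcell K k hk⟩

end Groth.Agent.S5572
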