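import Groth.Statements.S5576
import Groth.Agent.Lib.PMor16.Coradical

set_option linter.style.haveILetI false
set_option backward.isDefEq.respectTransparency false
set_option backward.isDefEq.respectTransparency.types false
-- import your own Groth.Agent.* helpers here

set_option autoImplicit false
open CategoryTheory MonoidalCategory CartesianMonoidalCategory MonObj GrpObj AlgebraicGeometry
universe u
open RedSub

namespace Groth.Agent.S5576

/-- Let G be a split reductive S-group (splitting D, T ≅ D_S(M), system of simple roots b, big cell Ω =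
U⁻ · T · U), N = {m | (α*, m) = 0 for all coroots}, T' = D_S(M/N) ⊆ T and Ω' = U⁻ · T' · U ⊆ Ω. Let
a be a simple root and n_a an S-point of G realising the reflection s_a. If g is a point of Ω' such
that n_a g n_a⁻¹ lies in Ω, then n_a g n_a⁻¹ lies in Ω'. -/
theorem result {S : Scheme.{u}} {G : Over S} [GrpObj G] (D : Red.SplitRed G)
    (b : D.P.Base) {n m : ℕ} (eneg : Fin n → D.idx) (epos : Fin m → D.idx)
    (hneg : RedSub.Enumerates (RedSub.negRoots D.P b) eneg) (hpos : RedSub.Enumerates (RedSub.posRoots D.P b) epos)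
    (N : AddSubgroup D.M) (hN : ∀ x : D.M, x ∈ N ↔ ∀ c : D.idx, D.P.coroot c x = 0)
    (nr : D.idx → (𝟙_ (Over S) ⟶ G)) (hnr : RedSub.RealisesReflections D nr) (a : D.idx) (ha : a ∈ b.support)
    (X : Over S) (g : X ⟶ RedSub.pow (Red.Ga S) n ⊗ (Red.DS S (D.M ⧸ N) ⊗ RedSub.pow (Red.Ga S) m))
    (hg : ∃ y : X ⟶ RedSub.pow (Red.Ga S) n ⊗ (D.T ⊗ RedSub.pow (Red.Ga S) m),
      (toUnit X ≫ nr a) * (g ≫ ((fst _ _ ≫ RedSub.prodMap (Red.Ga S) n (fun k => D.u (eneg k))) *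
        ((snd _ _ ≫ fst _ _ ≫ Red.DSmap S (QuotientAddGroup.mk' N) ≫ D.split.inv.hom.hom ≫ D.i) *
          (snd _ _ ≫ snd _ _ ≫ RedSub.prodMap (Red.Ga S) m (fun k => D.u (epos k)))))) * (toUnit X ≫ nr a)⁻¹ = y ≫ RedSub.cellMap D eneg epos) :
    ∃ y' : X ⟶ RedSub.pow (Red.Ga S) n ⊗ (Red.DS S (D.M ⧸ N) ⊗ RedSub.pow (Red.Ga S) m),
      (toUnit X ≫ nr a) * (g ≫ ((fst _ _ ≫ RedSub.prodMap (Red.Ga S) n (fun k => D.u (eneg k))) *
        ((snd _ _ ≫ fst _ _ ≫ Red.DSmap S (QuotientAddGroup.mk' N) ≫ D.split.inv.hom.hom ≫ D.i) *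
          (snd _ _ ≫ snd _ _ ≫ RedSub.prodMap (Red.Ga S) m (fun k => D.u (epos k)))))) * (toUnit X ≫ nr a)⁻¹ =
        y' ≫ ((fst _ _ ≫ RedSub.prodMap (Red.Ga S) n (fun k => D.u (eneg k))) *
        ((snd _ _ ≫ fst _ _ ≫ Red.DSmap S (QuotientAddGroup.mk' N) ≫ D.split.inv.hom.hom ≫ D.i) *
          (snd _ _ ≫ snd _ _ ≫ RedSub.prodMap (Red.Ga S) m (fun k => D.u (epos k))))) := by
  haveI := D.maximalTorus.1
  let c' : RedSub.pow (Red.Ga S) n ⊗ (Red.DS S (D.M ⧸ N) ⊗ RedSub.pow (Red.Ga S) m) ⟶ G := (fst _ _ ≫ RedSub.prodMap (Red.Ga S) n (fun k => D.u (eneg k))) *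
        ((snd _ _ ≫ fst _ _ ≫ Red.DSmap S (QuotientAddGroup.mk' N) ≫ D.split.inv.hom.hom ≫ D.i) *
          (snd _ _ ≫ snd _ _ ≫ RedSub.prodMap (Red.Ga S) m (fun k => D.u (epos k))))
  have hch : ∀ (Y : Over S) (q : Y ⟶ Red.DS S (D.M ⧸ N)) (a : Multiplicative D.M),
      (RedCell16.chars D).ch (q ≫ Red.DSmap S (QuotientAddGroup.mk' N) ≫ D.split.inv.hom.hom) a =
        (DiagGL.charsDS S (D.M ⧸ N)).ch q (AddMonoidHom.toMultiplicative (QuotientAddGroup.mk' N) a) := fun Y q a => by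
    show (DiagGL.charsDS S D.M).ch (_ ≫ D.split.hom.hom.hom) a = _
    rw [Category.assoc, Category.assoc, show D.split.inv.hom.hom ≫ D.split.hom.hom.hom = 𝟙 _ by
      simp [← Grp.comp', ← Mon.comp_hom'], Category.comp_id, RedCell16.DSmap_ch]
  have hc : ∀ (Y : Over S) (z : Y ⟶ RedSub.pow (Red.Ga S) n ⊗ (Red.DS S (D.M ⧸ N) ⊗ RedSub.pow (Red.Ga S) m)),
      z ≫ c' = RedCell16.cellPt D eneg epos (AttrBorel21.powFn n (z ≫ fst _ _))
        ((z ≫ snd _ _ ≫ fst _ _) ≫ Red.DSmap S (QuotientAddGroup.mk' N) ≫ D.split.inv.hom.hom)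
        (AttrBorel21.powFn m (z ≫ snd _ _ ≫ snd _ _)) := fun Y z => by
    rw [RedCell16.cellPt_eq]
    simp only [c', MonObj.comp_mul, RedCell16.rp, AttrBorel21.powPt_powFn, Category.assoc]
  obtain ⟨y, hy⟩ := hg
  obtain ⟨y₁, t', x₁, rfl⟩ := RedCell16.exists_mkDom D y
  have h1 : ∀ a ∈ N, (RedCell16.chars D).ch t' (Multiplicative.ofAdd a) = 1 := fun a haN => by
    refine PMor16.char_conj_cell D hneg hpos ((hN a).1 haN) hnr ha ?_ ((congrArg (fun z => (toUnit X ≫ nr _) * z * (toUnit X ≫ nr _)⁻¹) (hc X g).symm).trans hy)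
    rw [hch, show AddMonoidHom.toMultiplicative (QuotientAddGroup.mk' N) (Multiplicative.ofAdd a) = 1 from
      congrArg Multiplicative.ofAdd ((QuotientAddGroup.eq_zero_iff a).2 haN), map_one]
  let φ : D.M →+ Additive (Γ(X.left, ⊤))ˣ := MonoidHom.toAdditiveRight ((RedCell16.chars D).ch t').toHomUnits
  let ψ : D.M ⧸ N →+ Additive (Γ(X.left, ⊤))ˣ := QuotientAddGroup.lift N φ fun a haN =>
    AddMonoidHom.mem_ker.2 (congrArg Additive.ofMul (Units.ext (h1 a haN)))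
  obtain ⟨q, hq⟩ := (DiagGL.charsDS S (D.M ⧸ N)).surj ((Units.coeHom _).comp (MonoidHom.toAdditiveRight.symm ψ))
  refine ⟨lift (AttrBorel21.powPt n y₁) (lift q (AttrBorel21.powPt m x₁)), ?_⟩
  refine hy.trans (Eq.trans ?_ (hc X _).symm)
  simp only [lift_fst, lift_snd_assoc, lift_snd, AttrBorel21.powFn_powPt]
  show RedCell16.cellPt D eneg epos y₁ t' x₁ = _
  congr 1
  refine (RedCell16.chars D).inj fun a => ?_
  rw [hch, hq]
  rfl

end Groth.Agent.S5576
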