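import Groth.Statements.S5577
import Groth.Agent.Lib.PMor16.Coradical

set_option linter.style.haveILetI false
set_option backward.isDefEq.respectTransparency false
set_option backward.isDefEq.respectTransparency.types false
-- import your own Groth.Agent.* helpers here

set_option autoImplicit false
open CategoryTheory MonoidalCategory CartesianMonoidalCategory MonObj GrpObj AlgebraicGeometry
universe u
open RedSub

namespace Groth.Agent.S5577

/-- Let G be a split reductive S-group (splitting D, T ≅ D_S(M), system of simple roots b, big cell map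
c : Ω ⟶ G), N = {m | (α*, m) = 0 for all coroots} and f : Ω ⟶ D_S(N) = T/T' the T-component followed
by D_S(M) ⟶ D_S(N). Then f is generically multiplicative: there is an open V ⊆ Ω x_S Ω containing
the unit point such that for all points x, y of Ω with (x, y) in V there is a point z of Ω with c(z)
= c(x) c(y) and f(z) = f(x) f(y). -/
theorem result {S : Scheme.{u}} {G : Over S} [GrpObj G]
    (D : Red.SplitRed G) (b : D.P.Base) {n m : ℕ} (eneg : Fin n → D.idx) (epos : Fin m → D.idx)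
    (hneg : RedSub.Enumerates (RedSub.negRoots D.P b) eneg) (hpos : RedSub.Enumerates (RedSub.posRoots D.P b) epos)
    (N : AddSubgroup D.M) (hN : ∀ x : D.M, x ∈ N ↔ ∀ c : D.idx, D.P.coroot c x = 0) :
    ∃ V : Set ↥((RedSub.pow (Red.Ga S) n ⊗ (D.T ⊗ RedSub.pow (Red.Ga S) m)) ⊗ (RedSub.pow (Red.Ga S) n ⊗ (D.T ⊗ RedSub.pow (Red.Ga S) m))).left, IsOpen V ∧
      (∀ u₀ : 𝟙_ (Over S) ⟶ RedSub.pow (Red.Ga S) n ⊗ (D.T ⊗ RedSub.pow (Red.Ga S) m), u₀ ≫ RedSub.cellMap D eneg epos = 1 →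
        Set.range (lift u₀ u₀).left.base ⊆ V) ∧
      ∀ (X : Over S) (x y : X ⟶ RedSub.pow (Red.Ga S) n ⊗ (D.T ⊗ RedSub.pow (Red.Ga S) m)), Set.range (lift x y).left.base ⊆ V →
        ∃ z : X ⟶ RedSub.pow (Red.Ga S) n ⊗ (D.T ⊗ RedSub.pow (Red.Ga S) m),
          z ≫ RedSub.cellMap D eneg epos = (x ≫ RedSub.cellMap D eneg epos) * (y ≫ RedSub.cellMap D eneg epos) ∧
          z ≫ snd _ _ ≫ fst _ _ ≫ D.split.hom.hom.hom ≫ Red.DSmap S N.subtype =
            (x ≫ snd _ _ ≫ fst _ _ ≫ D.split.hom.hom.hom ≫ Red.DSmap S N.subtype) *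
              (y ≫ snd _ _ ≫ fst _ _ ≫ D.split.hom.hom.hom ≫ Red.DSmap S N.subtype) := by
  haveI := D.maximalTorus.1
  haveI := RedCell16.isOpenImmersion_cellMap D b eneg epos hneg hpos
  let Ω := RedSub.pow (Red.Ga S) n ⊗ (D.T ⊗ RedSub.pow (Red.Ga S) m)
  let μ' : Ω ⊗ Ω ⟶ G := (fst _ _ ≫ RedSub.cellMap D eneg epos) * (snd _ _ ≫ RedSub.cellMap D eneg epos)
  have hμ : ∀ (X : Over S) (x y : X ⟶ Ω), lift x y ≫ μ' = (x ≫ RedSub.cellMap D eneg epos) * (y ≫ RedSub.cellMap D eneg epos) :=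
    fun X x y => (MonObj.comp_mul _ _ _).trans (congrArg₂ (· * ·) (lift_fst_assoc x y _) (lift_snd_assoc x y _))
  refine ⟨μ'.left.base ⁻¹' Set.range (RedSub.cellMap D eneg epos).left, ?_, fun u₀ hu₀ => ?_, fun X x y hxy => ?_⟩
  · exact (RedSub.cellMap D eneg epos).left.isOpenEmbedding.isOpen_range.preimage μ'.left.continuous
  · rintro _ ⟨p, rfl⟩
    have h := RedCell16.one_mem D eneg epos (X := 𝟙_ (Over S)) p
    rwa [← _root_.mul_one (1 : 𝟙_ (Over S) ⟶ G), ← hu₀, ← hμ, Over.comp_left, Scheme.Hom.comp_apply] at h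
  obtain ⟨y₃, t₃, x₃, h⟩ := RedCell16.exists_cellPt D eneg epos hneg hpos ((x ≫ RedSub.cellMap D eneg epos) * (y ≫ RedSub.cellMap D eneg epos))
    fun p => by
      rw [← hμ, Over.comp_left, Scheme.Hom.comp_apply]
      exact hxy ⟨p, rfl⟩
  obtain ⟨y₁, t₁, x₁, rfl⟩ := RedCell16.exists_mkDom D x
  obtain ⟨y₂, t₂, x₂, rfl⟩ := RedCell16.exists_mkDom D y
  refine ⟨RedCell16.mkDom D y₃ t₃ x₃, h.symm, (DiagGL.charsDS S N).inj fun a => ?_⟩
  simp only [RedCell16.mkDom, lift_snd_assoc, lift_fst_assoc, (DiagGL.charsDS S N).mul]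
  simp only [← Category.assoc, RedCell16.DSmap_ch]
  exact PMor16.char_mul_cell D hneg hpos ((hN _).1 a.toAdd.2) h.symm

end Groth.Agent.S5577
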