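import Groth.Statements.S5582
import Groth.Agent.Lib.ToposFin.Algebraic

set_option autoImplicit false
open CategoryTheory CategoryTheory.Limits Opposite
universe u
open ToposFin

namespace Groth.Agent.S5582

/-- Equivalence of (i), (ii bis) and (iii), for the topos of sheaves of sets on a small site admitting a
generating family of coherent objects: the coequalizer of every pair of arrows between coherent
objects is coherent if and only if every object X for which Hom(X, -) commutes with small filtered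
colimits is coherent; and every object is a small filtered colimit of coherent objects if and only
if that same condition holds. -/
theorem result {C : Type u} [SmallCategory C]
    {J : GrothendieckTopology C} (hE : ToposFin.HasCoherentGenerators J) :
    ((∀ (X₀ X₁ : ToposFin.Sh J) (a b : X₁ ⟶ X₀), ToposFin.IsCoherent X₀ → ToposFin.IsCoherent X₁ →
        ToposFin.IsCoherent (coequalizer a b)) ↔
      (∀ X : ToposFin.Sh J, ToposFin.IsFP X → ToposFin.IsCoherent X)) ∧
    ((∀ X : ToposFin.Sh J, ∃ (I : Type u) (_ : SmallCategory I) (_ : IsFiltered I) (D : I ⥤ ToposFin.Sh J),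
        (∀ i, ToposFin.IsCoherent (D.obj i)) ∧ Nonempty (X ≅ colimit D)) ↔
      (∀ X : ToposFin.Sh J, ToposFin.IsFP X → ToposFin.IsCoherent X)) := by
  have hE' : ToposFin.HasQCGenerators J := fun Z => by
    obtain ⟨ι, F, π, hF, hπ⟩ := hE Z
    exact ⟨ι, F, π, fun i => (hF i).1, hπ⟩
  refine ⟨⟨fun h X hX => ?_, fun h X₀ X₁ a b h₀ h₁ => h _ (Groth.Agent.Topos.isFP_coequalizer a b
    (Groth.Agent.Topos.isFP_of_isCoherent hE' h₀) (Groth.Agent.Topos.isFP_of_isCoherent hE' h₁))⟩,
    ⟨fun h X hX => ?_, fun h X => ?_⟩⟩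
  · obtain ⟨X₀, X₁, a, b, i, p, h₀, h₁, hip⟩ := (Groth.Agent.Topos.isFP_iff_retract hE X).1 hX
    exact Groth.Agent.Topos.coherent_of_retract i p hip (h X₀ X₁ a b h₀ h₁)
  · obtain ⟨I, _, _, D, hD, ⟨e⟩⟩ := h X
    obtain ⟨s, a, ha⟩ := (Groth.Agent.Topos.post_surjective_iff D X).1 (hX I D).2 e.hom
    refine Groth.Agent.Topos.coherent_of_retract a (colimit.ι D s ≫ e.inv) ?_ (hD s)
    rw [reassoc_of% ha, Iso.hom_inv_id]
  · obtain ⟨I, _, _, D, ⟨e⟩, hD⟩ := Groth.Agent.Topos.exists_presentation ToposFin.IsCoherent hE X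
    refine ⟨I, inferInstance, inferInstance, D, fun s => ?_, ⟨e⟩⟩
    obtain ⟨A, B, _, _, F, G, a, b, hF, hG, ⟨w⟩⟩ := hD s
    have hc := h _ (Groth.Agent.Topos.isFP_coequalizer a b
      (Groth.Agent.Topos.isFP_of_isCoherent hE' (Groth.Agent.Topos.coherent_sigma_finite F hF))
      (Groth.Agent.Topos.isFP_of_isCoherent hE' (Groth.Agent.Topos.coherent_sigma_finite G hG)))
    exact Groth.Agent.Topos.coherent_of_retract w.hom w.inv w.hom_inv_id hc

end Groth.Agent.S5582
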