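import Groth.Statements.S5590
import Groth.Agent.Lib.ToposFin.Algebraic

set_option autoImplicit false
open CategoryTheory CategoryTheory.Limits Opposite
universe u
open ToposFin

namespace Groth.Agent.S5590

/-- Let f be a morphism of topoi of sheaves of sets on small sites, with inverse image functor F (left
adjoint, preserving finite limits); let S be a generating set of coherent objects of the target
topos and assume the source topos admits a generating family of quasi-compact objects. Then f is
coherent, i.e. F carries quasi-compact objects to quasi-compact objects and quasi-separated objects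
to quasi-separated objects, if and only if F(X) is coherent for every X in S. -/
theorem result {C D : Type u} [SmallCategory C] [SmallCategory D]
    {J : GrothendieckTopology C} {K : GrothendieckTopology D}
    (F : ToposFin.Sh K ⥤ ToposFin.Sh J) (R : ToposFin.Sh J ⥤ ToposFin.Sh K) (adj : F ⊣ R)
    [PreservesFiniteLimits F]
    (hE' : ToposFin.HasQCGenerators J)
    (S : Set (ToposFin.Sh K)) (hS : ∀ X ∈ S, ToposFin.IsCoherent X) (hgen : ToposFin.IsGenerating S) :
    ((∀ X : ToposFin.Sh K, ToposFin.IsQC X → ToposFin.IsQC (F.obj X)) ∧
      (∀ X : ToposFin.Sh K, ToposFin.IsQS X → ToposFin.IsQS (F.obj X))) ↔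
      ∀ X ∈ S, ToposFin.IsCoherent (F.obj X) := by
  exact ⟨fun h X hX => ⟨h.1 X (hS X hX).1, h.2 X (hS X hX).2⟩,
    fun h => ⟨fun X hX => Groth.Agent.Topos.map_qc F adj hgen (fun Z hZ => (h Z hZ).1) hX,
      fun X hX => Groth.Agent.Topos.map_qs F adj hE' hS hgen h hX⟩⟩

end Groth.Agent.S5590
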