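import Groth.Statements.S5593
import Groth.Agent.Lib.Misc24.Specialization

set_option autoImplicit false
open CategoryTheory CategoryTheory.Limits AlgebraicGeometry Opposite
universe u
open EtDesc

namespace Groth.Agent.S5593

/-- Let X be a scheme, x, x' points of X with strict localisations Spec R -> X and Spec R' -> X (R, R'
strict henselisations of the local rings at x and x'). There is an X-morphism Spec R' -> Spec R,
i.e. the geometric point over x is a specialization of the one over x', if and only if x lies in the
closure of x'. -/
theorem result (X : Scheme.{u}) (x x' : X)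
    (R : Type u) [CommRing R] [IsLocalRing R] [Algebra (X.presheaf.stalk x) R]
    [IsLocalHom (algebraMap (X.presheaf.stalk x) R)] [Hensel.IsStrictHenselization (X.presheaf.stalk x) R]
    (R' : Type u) [CommRing R'] [IsLocalRing R'] [Algebra (X.presheaf.stalk x') R']
    [IsLocalHom (algebraMap (X.presheaf.stalk x') R')] [Hensel.IsStrictHenselization (X.presheaf.stalk x') R'] :
    (∃ g : Spec (CommRingCat.of R') ⟶ Spec (CommRingCat.of R), g ≫ Hens2.specOf X x R = Hens2.specOf X x' R') ↔
      x' ⤳ x := by
  exact Groth.Agent.Misc24.exists_iff_specializes X x x' R R'

end Groth.Agent.S5593
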