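import Groth.Statements.S5594
import Groth.Agent.Lib.Misc24.Specialization

set_option autoImplicit false
open CategoryTheory CategoryTheory.Limits AlgebraicGeometry Opposite
universe u
open EtDesc

namespace Groth.Agent.S5594

/-- Let X be a scheme, x, x' points of X with strict localisations Spec R -> X and Spec R' -> X, and ξ'
: Spec κ(R') -> Spec R' the closed point, a geometric point of X over x'. Then restricting along ξ'
is a bijection from the X-morphisms Spec R' -> Spec R (specialization arrows) onto the X-morphisms
from the geometric point Spec κ(R') to Spec R: injectivity and surjectivity are stated separately. -/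
theorem result (X : Scheme.{u}) (x x' : X)
    (R : Type u) [CommRing R] [IsLocalRing R] [Algebra (X.presheaf.stalk x) R]
    [IsLocalHom (algebraMap (X.presheaf.stalk x) R)] [Hensel.IsStrictHenselization (X.presheaf.stalk x) R]
    (R' : Type u) [CommRing R'] [IsLocalRing R'] [Algebra (X.presheaf.stalk x') R']
    [IsLocalHom (algebraMap (X.presheaf.stalk x') R')] [Hensel.IsStrictHenselization (X.presheaf.stalk x') R'] :
    (∀ g₁ g₂ : Spec (CommRingCat.of R') ⟶ Spec (CommRingCat.of R),
      g₁ ≫ Hens2.specOf X x R = Hens2.specOf X x' R' → g₂ ≫ Hens2.specOf X x R = Hens2.specOf X x' R' →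
      Spec.map (CommRingCat.ofHom (IsLocalRing.residue R')) ≫ g₁ =
        Spec.map (CommRingCat.ofHom (IsLocalRing.residue R')) ≫ g₂ → g₁ = g₂) ∧
    (∀ h : Spec (CommRingCat.of (IsLocalRing.ResidueField R')) ⟶ Spec (CommRingCat.of R),
      h ≫ Hens2.specOf X x R = Hens2.geomPt X x' R' →
      ∃ g : Spec (CommRingCat.of R') ⟶ Spec (CommRingCat.of R),
        g ≫ Hens2.specOf X x R = Hens2.specOf X x' R' ∧
        Spec.map (CommRingCat.ofHom (IsLocalRing.residue R')) ≫ g = h) := by
  exact ⟨Groth.Agent.Misc24.extension_unique X x x' R R', Groth.Agent.Misc24.exists_extension X x x' R R'⟩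

end Groth.Agent.S5594
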