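import Groth.Statements.S5601
import Groth.Agent.Lib.PCoh.TwoOfThree

set_option autoImplicit false
universe w v u
open CategoryTheory CategoryTheory.Limits
open PCoh

namespace Groth.Agent.S5601


/-- Punctual site: let C be an abelian category and C₀ a strictly full additive subcategory,
quasi-stable under kernels of epimorphisms and quasi-liftable. If F ∈ D(C) is n-pseudo-coherent
(isomorphic to a strictly n-pseudo-coherent complex) then F⟦m⟧ is (n - m)-pseudo-coherent. -/
theorem result {C : Type u} [Category.{v} C] [Abelian C] [HasDerivedCategory.{w} C]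
    (P : ObjectProperty C) [P.IsClosedUnderIsomorphisms] [P.ContainsZero] (hsum : ∀ X Y : C, P X → P Y → P (X ⨯ Y))
    (hqs : PCoh.IsQuasiStableUnderKernels P) (hql : PCoh.IsQuasiLiftable P)
    (n : ℤ) (F : DerivedCategory C) (hF : (∃ E : CochainComplex C ℤ, PCoh.IsStrictPC P n E ∧ Nonempty (DerivedCategory.Q.obj E ≅ F))) (m : ℤ) :
    (∃ E : CochainComplex C ℤ, PCoh.IsStrictPC P (n - m) E ∧ Nonempty (DerivedCategory.Q.obj E ≅ ((shiftFunctor (DerivedCategory C) m).obj F))) := by
  exact PCoh.PCn.shift hF m (n - m) (by omega)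


end Groth.Agent.S5601
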