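import Groth.Statements.S5604
import Groth.Agent.Lib.PCoh.Criteria

set_option autoImplicit false
universe w v u
open CategoryTheory CategoryTheory.Limits
open PCoh

namespace Groth.Agent.S5604


/-- Punctual site: let C be an abelian category and C₀ a strictly full additive subcategory,
quasi-stable under kernels of epimorphisms and quasi-liftable, and let F ∈ D(C) have bounded above
cohomology. If for every i ≥ n the object H^i(F) is of (i - n)-finite presentation, expressed as:
H^i(F) in degree 0 is (n - i)-pseudo-coherent, then F is n-pseudo-coherent. (The published statement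
concludes that F is pseudo-coherent, which fails in general; this row concludes n-pseudo-coherence,
which is what its proof gives.) -/
theorem result {C : Type u} [Category.{v} C] [Abelian C] [HasDerivedCategory.{w} C]
    (P : ObjectProperty C) [P.IsClosedUnderIsomorphisms] [P.ContainsZero] (hsum : ∀ X Y : C, P X → P Y → P (X ⨯ Y))
    (hqs : PCoh.IsQuasiStableUnderKernels P) (hql : PCoh.IsQuasiLiftable P)
    (n : ℤ) (F : DerivedCategory C) (b : ℤ) (hb : ∀ i : ℤ, b < i → IsZero ((DerivedCategory.homologyFunctor C i).obj F))
    (hfp : ∀ i : ℤ, n ≤ i → (∃ E : CochainComplex C ℤ, PCoh.IsStrictPC P (n - i) E ∧ Nonempty (DerivedCategory.Q.obj E ≅ ((DerivedCategory.singleFunctor C 0).obj ((DerivedCategory.homologyFunctor C i).obj F))))) :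
    (∃ E : CochainComplex C ℤ, PCoh.IsStrictPC P n E ∧ Nonempty (DerivedCategory.Q.obj E ≅ F)) := by
  exact PCoh.pcn_of_homology hsum hqs hql F b hb hfp


end Groth.Agent.S5604
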