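import Groth.Statements.S5605
import Groth.Agent.Lib.PCoh.TwoOfThree

set_option autoImplicit false
universe w v u
open CategoryTheory CategoryTheory.Limits
open PCoh

namespace Groth.Agent.S5605


/-- Let C be an abelian category and C₀ a strictly full additive subcategory, quasi-stable under kernels
of epimorphisms and quasi-liftable. For F', F'' in D(C), the direct sum F' ⊞ F'' is
n-pseudo-coherent (isomorphic to a strictly n-pseudo-coherent complex) if and only if F' and F''
are. -/
theorem result {C : Type u} [Category.{v} C] [Abelian C] [HasDerivedCategory.{w} C]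
    (P : ObjectProperty C) [P.IsClosedUnderIsomorphisms] [P.ContainsZero] (hsum : ∀ X Y : C, P X → P Y → P (X ⨯ Y))
    (hqs : PCoh.IsQuasiStableUnderKernels P) (hql : PCoh.IsQuasiLiftable P)
    (n : ℤ) (F' F'' : DerivedCategory C) [HasBinaryBiproduct F' F''] :
    (∃ E : CochainComplex C ℤ, PCoh.IsStrictPC P n E ∧ Nonempty (DerivedCategory.Q.obj E ≅ (F' ⊞ F''))) ↔
      (∃ E : CochainComplex C ℤ, PCoh.IsStrictPC P n E ∧ Nonempty (DerivedCategory.Q.obj E ≅ F')) ∧ (∃ E : CochainComplex C ℤ, PCoh.IsStrictPC P n E ∧ Nonempty (DerivedCategory.Q.obj E ≅ F'')) := by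
  constructor
  · intro h
    exact ⟨PCoh.pcn_of_retract hsum hqs hql biprod.inl biprod.fst biprod.inl_fst h,
      PCoh.pcn_of_retract hsum hqs hql biprod.inr biprod.snd biprod.inr_snd h⟩
  · rintro ⟨h₁, h₂⟩
    exact PCoh.pcn_obj₂ hsum hqs hql _ (Pretriangulated.binaryBiproductTriangle_distinguished F' F'') h₁ h₂


end Groth.Agent.S5605
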