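import Groth.Statements.S5607
import Groth.Agent.Lib.PCoh.Criteria

set_option autoImplicit false
universe w v u
open CategoryTheory CategoryTheory.Limits
open PCoh

namespace Groth.Agent.S5607


/-- Let C be an abelian category, C₀ ⊆ C₁ strictly full additive subcategories with C₀ quasi-stable
under kernels of epimorphisms and quasi-liftable, every object of C₁ being C₀-pseudo-coherent. Then
F ∈ D(C) is n-pseudo-coherent relative to C₁ if and only if it is n-pseudo-coherent relative to C₀. -/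
theorem result {C : Type u} [Category.{v} C] [Abelian C] [HasDerivedCategory.{w} C]
    (P : ObjectProperty C) [P.IsClosedUnderIsomorphisms] [P.ContainsZero] (hsum : ∀ X Y : C, P X → P Y → P (X ⨯ Y))
    (hqs : PCoh.IsQuasiStableUnderKernels P) (hql : PCoh.IsQuasiLiftable P)
    (P₁ : ObjectProperty C) [P₁.IsClosedUnderIsomorphisms] [P₁.ContainsZero]
    (hsum₁ : ∀ X Y : C, P₁ X → P₁ Y → P₁ (X ⨯ Y)) (hle : ∀ X : C, P X → P₁ X)
    (hpc : ∀ X : C, P₁ X → PCoh.IsPC P ((DerivedCategory.singleFunctor C 0).obj X)) (n : ℤ) (F : DerivedCategory C) :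
    (∃ E : CochainComplex C ℤ, PCoh.IsStrictPC P₁ n E ∧ Nonempty (DerivedCategory.Q.obj E ≅ F)) ↔
      (∃ E : CochainComplex C ℤ, PCoh.IsStrictPC P n E ∧ Nonempty (DerivedCategory.Q.obj E ≅ F)) := by
  constructor
  · rintro ⟨E, ⟨⟨b, hb⟩, hE⟩, ⟨e⟩⟩
    exact (PCoh.pcn_of_termwise hsum hqs hql b hb fun i hi => hpc _ (hE i hi) (n - i)).of_iso e
  · rintro ⟨E, ⟨hb, hE⟩, he⟩
    exact ⟨E, ⟨hb, fun i hi => hle _ (hE i hi)⟩, he⟩


end Groth.Agent.S5607
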