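import Groth.Statements.S5608
import Groth.Agent.Lib.PCoh.Criteria
import Mathlib.CategoryTheory.Abelian.Refinements

set_option autoImplicit false
universe w v u
open CategoryTheory CategoryTheory.Limits
open PCoh

namespace Groth.Agent.S5608

open HomologicalComplex in
/-- Cohomology of a strictly pseudo-coherent complex over a coherent class. -/
theorem coherent_homology {C : Type u} [Category.{v} C] [Abelian C] {P : ObjectProperty C}
    [P.IsClosedUnderIsomorphisms] (hsum : ∀ X Y : C, P X → P Y → P (X ⨯ Y))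
    (hql : PCoh.IsQuasiLiftable P)
    (hcoh : ∀ (X E : C) (u : E ⟶ X), P X → P E → PCoh.IsOfFiniteType P (kernel u))
    (E : CochainComplex C ℤ) (n i : ℤ) (hE : ∀ j, n ≤ j → P (E.X j)) (hi : n ≤ i) :
    PCoh.IsOfFiniteType P (E.homology i) ∧
      (n < i → Groth.Agent.PCoh.PreCoh P (E.homology i)) := by
  have hnext : (ComplexShape.up ℤ).next i = i + 1 := by simp
  refine ⟨?_, fun hlt X u hX => ?_⟩
  · exact Groth.Agent.PCoh.IsOfFiniteType.of_epi (E.homologyπ i)
      (Groth.Agent.PCoh.IsOfFiniteType.of_iso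
        ((kernelIsKernel (E.d i (i + 1))).conePointUniqueUpToIso (E.cyclesIsKernel i (i + 1) hnext))
        (hcoh _ _ (E.d i (i + 1)) (hE _ (by omega)) (hE _ hi)))
  · obtain ⟨X', e, l, hX', he, hl⟩ := Groth.Agent.PCoh.exists_lift hql (E.homologyπ i) u hX
    refine Groth.Agent.PCoh.IsOfFiniteType.kernel_of_epi e u ?_
    let w : X' ⊞ E.X (i - 1) ⟶ E.X i := biprod.desc (l ≫ E.iCycles i) (E.d (i - 1) i)
    have hw : w = biprod.desc l (E.toCycles (i - 1) i) ≫ E.iCycles i := by
      apply biprod.hom_ext' <;> simp [w]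
    have hk : kernel.ι w ≫ biprod.fst ≫ e ≫ u = 0 := by
      have h0 : kernel.ι w ≫ biprod.desc l (E.toCycles (i - 1) i) = 0 := by
        rw [← cancel_mono (E.iCycles i), Category.assoc, ← hw, kernel.condition, zero_comp]
      have : biprod.fst ≫ e ≫ u = biprod.desc l (E.toCycles (i - 1) i) ≫ E.homologyπ i := by
        apply biprod.hom_ext' <;> simp [hl]
      rw [this, reassoc_of% h0, zero_comp]
    let f : kernel w ⟶ kernel (e ≫ u) := kernel.lift _ (kernel.ι w ≫ biprod.fst) (by simpa using hk)
    have : Epi f := by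
      rw [epi_iff_surjective_up_to_refinements]
      intro A y
      have hz : (y ≫ kernel.ι (e ≫ u) ≫ l) ≫ E.homologyπ i = 0 := by simp [hl]
      obtain ⟨A', π, hπ, x, hx⟩ := (ShortComplex.exact_of_g_is_cokernel (ShortComplex.mk (E.toCycles (i - 1) i) (E.homologyπ i) (E.toCycles_comp_homologyπ (i - 1) i))
        (E.homologyIsCokernel (i - 1) i (by simp))).exact_up_to_refinements _ hz
      refine ⟨A', π, hπ, kernel.lift w (biprod.lift (π ≫ y ≫ kernel.ι _) (-x)) ?_, ?_⟩
      · have hx' := congrArg (· ≫ E.iCycles i) hx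
        simp only [Category.assoc, HomologicalComplex.toCycles_i] at hx'
        simp [w, hx']
      · apply (cancel_mono (kernel.ι (e ≫ u))).1
        simp [f]
    exact Groth.Agent.PCoh.IsOfFiniteType.of_epi f
      (hcoh _ _ w (hE i hi) (Groth.Agent.PCoh.prop_biprod hsum hX' (hE _ (by omega))))


/-- Punctual site: let C be an abelian category and C₀ a strictly full additive subcategory,
quasi-liftable in C, whose objects are C₀-coherent (of C₀-finite type, and every morphism from an
object of C₀ into them has kernel of C₀-finite type). For F ∈ D(C) with bounded above cohomology and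
n an integer: F is n-pseudo-coherent (isomorphic to a strictly n-pseudo-coherent complex) if and
only if H^n(F) is of C₀-finite type and H^i(F) is C₀-coherent for every i > n. -/
theorem result {C : Type u} [Category.{v} C] [Abelian C] [HasDerivedCategory.{w} C]
    (P : ObjectProperty C) [P.IsClosedUnderIsomorphisms] [P.ContainsZero] (hsum : ∀ X Y : C, P X → P Y → P (X ⨯ Y))
    (hql : PCoh.IsQuasiLiftable P)
    (hcoh : ∀ (X E : C) (u : E ⟶ X), P X → P E → PCoh.IsOfFiniteType P (kernel u))
    (n : ℤ) (F : DerivedCategory C) (b : ℤ) (hb : ∀ i : ℤ, b < i → IsZero ((DerivedCategory.homologyFunctor C i).obj F)) :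
    (∃ E : CochainComplex C ℤ, PCoh.IsStrictPC P n E ∧ Nonempty (DerivedCategory.Q.obj E ≅ F)) ↔
      (PCoh.IsOfFiniteType P ((DerivedCategory.homologyFunctor C n).obj F) ∧
        ∀ i : ℤ, n < i → (PCoh.IsOfFiniteType P ((DerivedCategory.homologyFunctor C i).obj F) ∧
          ∀ (E : C) (u : E ⟶ (DerivedCategory.homologyFunctor C i).obj F), P E → PCoh.IsOfFiniteType P (kernel u))) := by
  have hqs := PCoh.quasiStable_of_coherent hsum hql hcoh
  constructor
  · rintro ⟨E, ⟨hb', hE⟩, ⟨e⟩⟩
    let ee := fun i => ((DerivedCategory.homologyFunctorFactors C i).app E).symm ≪≫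
      (DerivedCategory.homologyFunctor C i).mapIso e
    refine ⟨PCoh.IsOfFiniteType.of_iso (ee n) (coherent_homology hsum hql hcoh E n n hE le_rfl).1,
      fun i hi => ⟨PCoh.IsOfFiniteType.of_iso (ee i) (coherent_homology hsum hql hcoh E n i hE hi.le).1, ?_⟩⟩
    exact PCoh.PreCoh.of_mono (ee i).inv ((coherent_homology hsum hql hcoh E n i hE hi.le).2 hi)
  · rintro ⟨h₁, h₂⟩
    refine PCoh.pcn_of_homology hsum hqs hql F b hb fun i hi => ?_
    rcases hi.lt_or_eq with h | rfl
    · exact PCoh.pcn_single_of_preCoh hsum hql hcoh (n - i) _ (h₂ i h).1 fun _ => (h₂ i h).2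
    · exact PCoh.pcn_single_of_preCoh hsum hql hcoh _ _ h₁ fun h' => absurd h' (by omega)


end Groth.Agent.S5608
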