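import Groth.Statements.S5609
import Groth.Agent.Lib.PCoh.Perfect

set_option autoImplicit false
universe w v u
open CategoryTheory CategoryTheory.Limits
open PCoh

namespace Groth.Agent.S5609


open CategoryTheory.Pretriangulated in
/-- Punctual site: stability of perfect complexes under cones: let C be an abelian category and C₀ a
strictly full additive subcategory which is liftable (every epimorphism onto an object of C₀ splits)
and stable under kernels of epimorphisms. If E ⟶ F ⟶ G ⟶ E⟦1⟧ is a distinguished triangle of D(C)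
with E and F perfect relative to C₀ (isomorphic to bounded complexes with terms in C₀), then G is
perfect relative to C₀. -/
theorem result {C : Type u} [Category.{v} C] [Abelian C] [HasDerivedCategory.{w} C]
    (P : ObjectProperty C) [P.IsClosedUnderIsomorphisms] [P.ContainsZero] (hsum : ∀ X Y : C, P X → P Y → P (X ⨯ Y))
    (hlift : ∀ (E F : C) (u : E ⟶ F), Epi u → P F → IsSplitEpi u)
    (hst : ∀ (E F : C) (u : E ⟶ F), Epi u → P E → P F → P (kernel u))
    (T : Triangle (DerivedCategory C)) (hT : T ∈ distinguishedTriangles)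
    (h₁ : (∃ (E : CochainComplex C ℤ) (a b : ℤ), (∀ i : ℤ, i < a ∨ b < i → IsZero (E.X i)) ∧ (∀ i : ℤ, P (E.X i)) ∧ Nonempty (DerivedCategory.Q.obj E ≅ T.obj₁)))
    (h₂ : (∃ (E : CochainComplex C ℤ) (a b : ℤ), (∀ i : ℤ, i < a ∨ b < i → IsZero (E.X i)) ∧ (∀ i : ℤ, P (E.X i)) ∧ Nonempty (DerivedCategory.Q.obj E ≅ T.obj₂))) :
    (∃ (E : CochainComplex C ℤ) (a b : ℤ), (∀ i : ℤ, i < a ∨ b < i → IsZero (E.X i)) ∧ (∀ i : ℤ, P (E.X i)) ∧ Nonempty (DerivedCategory.Q.obj E ≅ T.obj₃)) := by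
  obtain ⟨E₁, a₁, b₁, hz₁, hP₁, ⟨e₁⟩⟩ := h₁
  obtain ⟨E₂, a₂, b₂, hz₂, hP₂, ⟨e₂⟩⟩ := h₂
  obtain ⟨E, s, g, hE, hs, fac⟩ := PCoh.exists_roof hsum hlift hst (E₁ := E₁) (F := E₂) (min a₁ a₂) (max b₁ b₂)
    ⟨hP₁, fun i hi => hz₁ i (by omega)⟩ (fun i hi => hz₂ i (by omega))
    (e₁.hom ≫ T.mor₁ ≫ e₂.inv)
  have hqi := (DerivedCategory.isIso_Q_map_iff_quasiIso C s).2 hs
  have comm : DerivedCategory.Q.map g ≫ e₂.hom = (DerivedCategory.Q.map s ≫ e₁.hom) ≫ T.mor₁ := by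
    rw [← fac]; simp
  exact ⟨CochainComplex.mappingCone g, min a₁ a₂ - 1, max b₁ b₂,
    fun i hi => PCoh.isZero_mappingCone_X g i (hE.2 _ (by omega)) (hz₂ _ (by omega)),
    fun i => PCoh.prop_mappingCone_X hsum g i (hE.1 _) (hP₂ _),
    ⟨Triangle.π₃.mapIso (isoTriangleOfIso₁₂ _ T (DerivedCategory.mappingCone_triangle_distinguished g) hT
      (@asIso _ _ _ _ (DerivedCategory.Q.map s) hqi ≪≫ e₁) e₂ comm)⟩⟩


end Groth.Agent.S5609
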