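import Groth.Statements.S5612
import Groth.Agent.Lib.TorBal.Perfect
-- import your own Groth.Agent.* helpers here

set_option autoImplicit false
universe u
open CategoryTheory CategoryTheory.Limits
attribute [local instance] HasDerivedCategory.standard
open DRing

namespace Groth.Agent.S5612

/-- Let A be a commutative ring all of whose modules have finite tor dimension (for instance A of finite
global dimension) and K ∈ D(A). (i) K has finite tor dimension if and only if K has bounded
cohomology. (ii) K is perfect if and only if K has bounded cohomology and is pseudo-coherent. -/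
theorem result {A : Type u} [CommRing A]
    (hA : ∀ (M : Type u) [AddCommGroup M] [Module A M], DRing.HasFiniteTorDim A M) (K : Dual.D A) :
    (DRing.HasFiniteTorDimCx A K ↔ ∃ a b : ℤ, ∀ i : ℤ, i < a ∨ b < i → Subsingleton (Dual.HD A K i)) ∧
      (DRing.IsPerfect A K ↔
        (∃ a b : ℤ, ∀ i : ℤ, i < a ∨ b < i → Subsingleton (Dual.HD A K i)) ∧ DRing.IsPseudoCoherent' A K) := by
  have hfin : (∃ a b : ℤ, ∀ i : ℤ, i < a ∨ b < i → Subsingleton (Dual.HD A K i)) →
      DRing.HasFiniteTorDimCx A K := fun ⟨a, b, h⟩ =>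
    Groth.Agent.TorBal.exists_amplitude_of_homology K a b h fun i => by
      obtain ⟨n, hn⟩ := hA (Dual.HD A K i)
      exact ⟨_, _, Groth.Agent.TorBal.amplitude_of_hasTorDimLE _ n hn⟩
  refine ⟨⟨Groth.Agent.TorBal.homology_of_finiteTorDim, hfin⟩, fun h => ?_, fun ⟨h, hpc⟩ => ?_⟩
  · exact ⟨Groth.Agent.TorBal.homology_of_finiteTorDim (Groth.Agent.DBaseChange.torAmp_of_isPerfect h),
      Groth.Agent.DMod.pc'_of_perfect h⟩
  · obtain ⟨a, b, hab⟩ := hfin h
    exact Groth.Agent.DBaseChange.isPerfect_of_pc_of_torAmp hpc hab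

end Groth.Agent.S5612
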