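import Groth.Statements.S5613
-- import your own Groth.Agent.* helpers here

set_option autoImplicit false
universe v u
open CategoryTheory CategoryTheory.Limits CategoryTheory.Pretriangulated
open KZero

namespace Groth.Agent.S5613

section aux
open scoped ZeroObject
variable {C : Type u} [Category.{v} C] [Preadditive C] [HasZeroObject C]
    [HasShift C ℤ] [∀ n : ℤ, (shiftFunctor C n).Additive] [Pretriangulated C]

lemma clTri_tri (T : Triangle C) (hT : T ∈ distinguishedTriangles) :
    clTri T.obj₂ = clTri T.obj₁ + clTri T.obj₃ := by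
  have hmem : FreeAbelianGroup.of (⟨T.obj₂, trivial⟩ : Subtype (⊤ : ObjectProperty C))
      - FreeAbelianGroup.of ⟨T.obj₁, trivial⟩ - FreeAbelianGroup.of ⟨T.obj₃, trivial⟩ ∈ relTr (⊤ : ObjectProperty C) :=
    AddSubgroup.subset_closure ⟨T, trivial, trivial, trivial, hT, rfl⟩
  have := (QuotientAddGroup.eq_zero_iff _).2 hmem
  rw [QuotientAddGroup.mk_sub, QuotientAddGroup.mk_sub, sub_sub, sub_eq_zero] at this
  exact this

lemma clTri_zero : clTri (0 : C) = 0 := by
  have := clTri_tri (contractibleTriangle (0 : C)) (contractible_distinguished _)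
  simp only [contractibleTriangle_obj₁, contractibleTriangle_obj₂, contractibleTriangle_obj₃] at this
  exact left_eq_add.mp this

lemma clTri_iso {X Y : C} (e : X ≅ Y) : clTri X = clTri Y := by
  have h : Triangle.mk e.hom (0 : Y ⟶ 0) 0 ∈ distinguishedTriangles :=
    isomorphic_distinguished _ (contractible_distinguished X) _
      (Triangle.isoMk _ _ (Iso.refl _) e.symm (Iso.refl _) (e.hom_inv_id.trans (Category.id_comp _).symm) (zero_comp.trans comp_zero.symm) (zero_comp.trans comp_zero.symm))
  simpa [clTri_zero] using (clTri_tri _ h).symm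

lemma clTri_shift_one (X : C) : clTri ((shiftFunctor C (1 : ℤ)).obj X) = - clTri X := by
  have := clTri_tri (contractibleTriangle X).rotate (rot_of_distTriang _ (contractible_distinguished _))
  simp only [Triangle.rotate_obj₁, Triangle.rotate_obj₂, Triangle.rotate_obj₃,
    contractibleTriangle_obj₁, contractibleTriangle_obj₂, contractibleTriangle_obj₃, clTri_zero] at this
  exact (neg_eq_of_add_eq_zero_right this.symm).symm

lemma clTri_shift (X : C) (k : ℤ) : clTri ((shiftFunctor C k).obj X) = k.negOnePow • clTri X := by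
  induction k using Int.induction_on with
  | zero => simpa using clTri_iso ((shiftFunctorZero C ℤ).app X)
  | succ i hi =>
    rw [clTri_iso ((shiftFunctorAdd' C (i : ℤ) 1 _ rfl).app X)]
    simp [clTri_shift_one, hi, Int.negOnePow_succ]
  | pred i hi =>
    have := clTri_iso ((shiftFunctorAdd' C (-(i : ℤ) - 1) 1 (-(i : ℤ)) (sub_add_cancel _ _)).app X)
    rw [hi] at this
    simp only [Functor.comp_obj, clTri_shift_one] at this
    rw [eq_neg_iff_add_eq_zero, add_comm, ← eq_neg_iff_add_eq_zero] at this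
    rw [this, show -(i : ℤ) = (-(i : ℤ) - 1) + 1 from (sub_add_cancel _ _).symm, Int.negOnePow_succ]
    simp

end aux

/-- Let C be a pretriangulated category, L an object of C and n an integer such that the coproduct ∐_{i
≥ 0} L⟦2ni⟧ exists in C. Then cl(L) = 0 in K₀(C). -/
theorem result {C : Type u} [Category.{v} C] [Preadditive C] [HasZeroObject C]
    [HasShift C ℤ] [∀ n : ℤ, (shiftFunctor C n).Additive] [Pretriangulated C]
    (L : C) (n : ℤ) [HasCoproduct (fun i : ℕ => (shiftFunctor C (2 * n * (i : ℤ))).obj L)] :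
    KZero.clTri L = 0 := by
  classical
  let f : ℕ → C := fun i => (shiftFunctor C (2 * n * (i : ℤ))).obj L
  let G := shiftFunctor C (2 * n)
  let e : ∀ i : ℕ, G.obj (f i) ≅ f (i + 1) := fun i =>
    ((shiftFunctorAdd' C (2 * n * (i : ℤ)) (2 * n) (2 * n * ((i + 1 : ℕ) : ℤ)) (by rw [Nat.cast_succ, mul_add, mul_one])).app L).symm
  let e0 : L ≅ f 0 := ((shiftFunctorZero' C (2 * n * ((0 : ℕ) : ℤ)) (by simp)).app L).symm
  have hc : IsColimit (Cofan.mk (G.obj (∐ f)) fun i => G.map (Sigma.ι f i)) :=
    isColimitCofanMkObjOfIsColimit G f _ (coproductIsCoproduct f)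
  let φ : G.obj (∐ f) ⟶ ∐ f := Cofan.IsColimit.desc hc fun i => (e i).hom ≫ Sigma.ι f (i + 1)
  have hφ : ∀ i, G.map (Sigma.ι f i) ≫ φ = (e i).hom ≫ Sigma.ι f (i + 1) :=
    fun i => Cofan.IsColimit.fac hc _ i
  let ψ : ∐ f ⟶ L ⊞ G.obj (∐ f) := Sigma.desc fun i =>
    match i with
    | 0 => e0.inv ≫ biprod.inl
    | j + 1 => (e j).inv ≫ G.map (Sigma.ι f j) ≫ biprod.inr
  have hψ0 : Sigma.ι f 0 ≫ ψ = e0.inv ≫ biprod.inl := Sigma.ι_desc _ _
  have hψ1 : ∀ j, Sigma.ι f (j + 1) ≫ ψ = (e j).inv ≫ G.map (Sigma.ι f j) ≫ biprod.inr :=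
    fun j => Sigma.ι_desc _ _
  let E : L ⊞ G.obj (∐ f) ≅ ∐ f :=
    { hom := biprod.desc (e0.hom ≫ Sigma.ι f 0) φ
      inv := ψ
      hom_inv_id := by
        apply biprod.hom_ext'
        · simp [hψ0]
        · rw [biprod.inr_desc_assoc]
          apply Cofan.IsColimit.hom_ext hc
          intro i
          change G.map (Sigma.ι f i) ≫ φ ≫ ψ = G.map (Sigma.ι f i) ≫ biprod.inr ≫ 𝟙 _
          rw [reassoc_of% (hφ i), hψ1]
          simp
      inv_hom_id := by
        apply Sigma.hom_ext
        intro i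
        cases i with
        | zero => rw [reassoc_of% hψ0]; simp
        | succ j => rw [reassoc_of% (hψ1 j)]; simp [hφ] }
  have h := clTri_tri _ (binaryBiproductTriangle_distinguished L (G.obj (∐ f)))
  simp only [binaryBiproductTriangle_obj₁, binaryBiproductTriangle_obj₂, binaryBiproductTriangle_obj₃,
    clTri_iso E, G, clTri_shift, Int.negOnePow_two_mul, one_smul] at h
  exact right_eq_add.mp h

end Groth.Agent.S5613
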