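import Groth.Statements.S5614
-- import your own Groth.Agent.* helpers here

set_option autoImplicit false
universe v u
open CategoryTheory CategoryTheory.Limits CategoryTheory.Pretriangulated
open KZero

namespace Groth.Agent.S5614

/-- Let C be a pretriangulated category and S a dense set of objects, meaning that every set of objects
which contains S and which contains the third vertex of a distinguished triangle as soon as it
contains the other two is all of C. Then K₀(C) is generated by the classes of the objects of S. -/
theorem result {C : Type u} [Category.{v} C] [Preadditive C] [HasZeroObject C]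
    [HasShift C ℤ] [∀ n : ℤ, (shiftFunctor C n).Additive] [Pretriangulated C]
    (S : Set C)
    (hdense : ∀ T : Set C, S ⊆ T →
      (∀ tr : Triangle C, tr ∈ distinguishedTriangles →
        (tr.obj₁ ∈ T → tr.obj₂ ∈ T → tr.obj₃ ∈ T) ∧ (tr.obj₁ ∈ T → tr.obj₃ ∈ T → tr.obj₂ ∈ T) ∧
          (tr.obj₂ ∈ T → tr.obj₃ ∈ T → tr.obj₁ ∈ T)) → T = Set.univ) :
    AddSubgroup.closure (KZero.clTri '' S) = (⊤ : AddSubgroup (KZero.K0tri C)) := by
  classical
  set H := AddSubgroup.closure (KZero.clTri '' S) with hH
  have key : ∀ tr : Triangle C, tr ∈ distinguishedTriangles →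
      clTri tr.obj₂ = clTri tr.obj₁ + clTri tr.obj₃ := by
    intro tr htr
    have hmem : FreeAbelianGroup.of (⟨tr.obj₂, trivial⟩ : Subtype (⊤ : ObjectProperty C))
        - FreeAbelianGroup.of ⟨tr.obj₁, trivial⟩ - FreeAbelianGroup.of ⟨tr.obj₃, trivial⟩ ∈ relTr (⊤ : ObjectProperty C) :=
      AddSubgroup.subset_closure ⟨tr, trivial, trivial, trivial, htr, rfl⟩
    have := (QuotientAddGroup.eq_zero_iff _).2 hmem
    rw [QuotientAddGroup.mk_sub, QuotientAddGroup.mk_sub, sub_sub, sub_eq_zero] at this
    exact this
  have hT : {X : C | clTri X ∈ H} = Set.univ := by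
    apply hdense
    · intro X hX
      exact AddSubgroup.subset_closure ⟨X, hX, rfl⟩
    · intro tr htr
      have k := key tr htr
      simp only [Set.mem_ofPred_eq]
      refine ⟨fun a b => ?_, fun a b => ?_, fun a b => ?_⟩
      · rw [show clTri tr.obj₃ = clTri tr.obj₂ - clTri tr.obj₁ by rw [k]; abel]
        exact H.sub_mem b a
      · rw [k]; exact H.add_mem a b
      · rw [show clTri tr.obj₁ = clTri tr.obj₂ - clTri tr.obj₃ by rw [k]; abel]
        exact H.sub_mem a b
  refine (AddSubgroup.eq_top_iff' _).2 fun x => ?_
  induction x using QuotientAddGroup.induction_on with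
  | H x =>
    induction x using FreeAbelianGroup.induction_on with
    | zero => exact H.zero_mem
    | of x =>
      have : x.1 ∈ {X : C | clTri X ∈ H} := by rw [hT]; trivial
      exact this
    | neg x hx => exact H.neg_mem hx
    | add x y hx hy => exact H.add_mem hx hy

end Groth.Agent.S5614
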