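import Groth.Statements.S5615
-- import your own Groth.Agent.* helpers here

set_option autoImplicit false
universe v u
open CategoryTheory CategoryTheory.Limits
open KZero

namespace Groth.Agent.S5615

/-- Let A be an abelian category and S a dense set of objects, meaning that every set of objects which
contains S and which contains the third term of a short exact sequence as soon as it contains the
other two is all of A. Then K₀(A) is generated by the classes of the objects of S. -/
theorem result {A : Type u} [Category.{v} A] [Abelian A] (S : Set A)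
    (hdense : ∀ T : Set A, S ⊆ T →
      (∀ X : ShortComplex A, X.ShortExact →
        (X.X₁ ∈ T → X.X₂ ∈ T → X.X₃ ∈ T) ∧ (X.X₁ ∈ T → X.X₃ ∈ T → X.X₂ ∈ T) ∧
          (X.X₂ ∈ T → X.X₃ ∈ T → X.X₁ ∈ T)) → T = Set.univ) :
    AddSubgroup.closure (KZero.cl '' S) = (⊤ : AddSubgroup (KZero.K0 A)) := by
  classical
  set H := AddSubgroup.closure (KZero.cl '' S) with hH
  have key : ∀ X : ShortComplex A, X.ShortExact → cl X.X₂ = cl X.X₁ + cl X.X₃ := by
    intro X hX
    have hmem : FreeAbelianGroup.of X.X₂ - FreeAbelianGroup.of X.X₁ - FreeAbelianGroup.of X.X₃ ∈ relAb A :=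
      AddSubgroup.subset_closure ⟨X, hX, rfl⟩
    have := (QuotientAddGroup.eq_zero_iff _).2 hmem
    rw [QuotientAddGroup.mk_sub, QuotientAddGroup.mk_sub, sub_sub, sub_eq_zero] at this
    exact this
  have hT : {X : A | cl X ∈ H} = Set.univ := by
    apply hdense
    · intro X hX
      exact AddSubgroup.subset_closure ⟨X, hX, rfl⟩
    · intro X hX
      have k := key X hX
      simp only [Set.mem_ofPred_eq]
      refine ⟨fun a b => ?_, fun a b => ?_, fun a b => ?_⟩
      · rw [show cl X.X₃ = cl X.X₂ - cl X.X₁ by rw [k]; abel]
        exact H.sub_mem b a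
      · rw [k]; exact H.add_mem a b
      · rw [show cl X.X₁ = cl X.X₂ - cl X.X₃ by rw [k]; abel]
        exact H.sub_mem a b
  refine (AddSubgroup.eq_top_iff' _).2 fun x => ?_
  induction x using QuotientAddGroup.induction_on with
  | H x =>
    induction x using FreeAbelianGroup.induction_on with
    | zero => exact H.zero_mem
    | of x =>
      have : x ∈ {X : A | cl X ∈ H} := by rw [hT]; trivial
      exact this
    | neg x hx => exact H.neg_mem hx
    | add x y hx hy => exact H.add_mem hx hy

end Groth.Agent.S5615
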