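import Groth.Statements.S5616
import Groth.Agent.Lib.ExtYoneda.Basic
import Mathlib.Algebra.Homology.DerivedCategory.Ext.Map
import Mathlib.Algebra.Homology.DerivedCategory.Ext.ExactSequences

set_option autoImplicit false
universe w w' v v' u u'
open CategoryTheory CategoryTheory.Limits
open CohDer

namespace Groth.Agent.S5616


/-- Let φ : A ⥤ B be an exact functor of abelian categories and M an object of A. The following are
equivalent: (i) for every L in A and every n, the map Ext^n_A(L, M) → Ext^n_B(φ L, φ M) induced by φ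
is bijective; (ii) for every L the map Hom_A(L, M) → Hom_B(φ L, φ M) is bijective, and for every L,
every n ≥ 1 and every x ∈ Ext^n_B(φ L, φ M) there is an epimorphism L' ⟶ L of A such that x
precomposed with its image under φ vanishes. -/
theorem result
    {A : Type u} [Category.{v} A] [Abelian A] [HasExt.{w} A]
    {B : Type u'} [Category.{v'} B] [Abelian B] [HasExt.{w'} B]
    (φ : A ⥤ B) [φ.Additive] [PreservesFiniteLimits φ] [PreservesFiniteColimits φ] (M : A) :
    (∀ (L : A) (n : ℕ), Function.Bijective (fun f : Abelian.Ext.{w} L M n => Abelian.Ext.mapExactFunctor φ f)) ↔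
      ((∀ L : A, Function.Bijective (fun f : L ⟶ M => φ.map f)) ∧
        ∀ (L : A) (n : ℕ), 1 ≤ n → ∀ x : Abelian.Ext.{w'} (φ.obj L) (φ.obj M) n,
          ∃ (L' : A) (p : L' ⟶ L), Epi p ∧ (Abelian.Ext.mk₀ (φ.map p)).comp x (zero_add n) = 0) := by
  have hcomp : ∀ {X Y Z : A} {i j k : ℕ} (α : Abelian.Ext.{w} X Y i) (β : Abelian.Ext.{w} Y Z j) (h : i + j = k),
      Abelian.Ext.mapExactFunctor φ (α.comp β h) =
        (Abelian.Ext.mapExactFunctor φ α).comp (Abelian.Ext.mapExactFunctor φ β) h :=
    fun α β h => Abelian.Ext.mapExactFunctor_comp φ α β h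
  constructor
  · intro h
    refine ⟨fun L => ⟨fun f g e => ?_, fun g => ?_⟩, fun L n hn x => ?_⟩
    · apply (Abelian.Ext.mk₀_bijective L M).1
      apply (h L 0).1
      simp only [Abelian.Ext.mapExactFunctor_mk₀]
      exact congrArg _ e
    · obtain ⟨f, hf⟩ := (h L 0).2 (Abelian.Ext.mk₀ g)
      obtain ⟨f, rfl⟩ := (Abelian.Ext.mk₀_bijective L M).2 f
      simp only [Abelian.Ext.mapExactFunctor_mk₀] at hf
      exact ⟨f, (Abelian.Ext.mk₀_bijective _ _).1 hf⟩
    · obtain ⟨y, rfl⟩ := (h L n).2 x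
      obtain ⟨L', p, hp, hpy⟩ := Groth.Agent.ExtYoneda.exists_epi_comp_eq_zero y hn
      refine ⟨L', p, hp, ?_⟩
      rw [← Abelian.Ext.mapExactFunctor_mk₀, ← hcomp, hpy, Abelian.Ext.mapExactFunctor_zero]
  · rintro ⟨h0, hE⟩ L n
    induction n generalizing L with
    | zero =>
      refine ⟨fun a b e => ?_, fun x => ?_⟩
      · obtain ⟨f, rfl⟩ := (Abelian.Ext.mk₀_bijective L M).2 a
        obtain ⟨g, rfl⟩ := (Abelian.Ext.mk₀_bijective L M).2 b
        simp only [Abelian.Ext.mapExactFunctor_mk₀] at e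
        rw [(h0 L).1 ((Abelian.Ext.mk₀_bijective _ _).1 e)]
      · obtain ⟨f, rfl⟩ := (Abelian.Ext.mk₀_bijective _ _).2 x
        obtain ⟨g, rfl⟩ := (h0 L).2 f
        exact ⟨Abelian.Ext.mk₀ g, Abelian.Ext.mapExactFunctor_mk₀ φ g⟩
    | succ n ih =>
      have mkS : ∀ {L' : A} (p : L' ⟶ L) [Epi p],
          (ShortComplex.mk (kernel.ι p) p (kernel.condition p)).ShortExact := fun p _ =>
        { exact := ShortComplex.exact_of_f_is_kernel _ (kernelIsKernel p) }
      refine ⟨(injective_iff_map_eq_zero (φ.mapExtAddHom L M (n + 1))).2 fun y hy => ?_, fun x => ?_⟩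
      · obtain ⟨L', p, hp, hpy⟩ := Groth.Agent.ExtYoneda.exists_epi_comp_eq_zero y (Nat.le_add_left 1 n)
        have hS := mkS p
        obtain ⟨z, rfl⟩ := Abelian.Ext.contravariant_sequence_exact₃ hS M y hpy (add_comm 1 n)
        have hz : (hS.map_of_exact φ).extClass.comp (Abelian.Ext.mapExactFunctor φ z) (add_comm 1 n) = 0 := by
          rw [show (hS.map_of_exact φ).extClass = Abelian.Ext.mapExactFunctor φ hS.extClass from
            (Abelian.Ext.mapExactFunctor_extClass φ hS).symm]
          exact (hcomp _ _ _).symm.trans hy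
        obtain ⟨u, hu⟩ := Abelian.Ext.contravariant_sequence_exact₁ (hS.map_of_exact φ) (φ.obj M) _ _ hz
        obtain ⟨u', rfl⟩ := (ih L').2 u
        have e : (Abelian.Ext.mk₀ (kernel.ι p)).comp u' (zero_add n) = z := by
          apply (ih _).1
          refine (hcomp _ _ _).trans ?_
          rw [Abelian.Ext.mapExactFunctor_mk₀]
          exact hu
        rw [← e, hS.extClass_comp_assoc]
      · obtain ⟨L', p, hp, hpx⟩ := hE L (n + 1) (Nat.le_add_left 1 n) x
        have hS := mkS p
        obtain ⟨u, rfl⟩ := Abelian.Ext.contravariant_sequence_exact₃ (hS.map_of_exact φ) (φ.obj M) x hpx (add_comm 1 n)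
        obtain ⟨u', rfl⟩ := (ih _).2 u
        refine ⟨hS.extClass.comp u' (add_comm 1 n), (hcomp _ _ _).trans ?_⟩
        rw [Abelian.Ext.mapExactFunctor_extClass]
        rfl


end Groth.Agent.S5616
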