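import Groth.Statements.S5620
import Groth.Agent.Lib.PCoh.Criteria

set_option autoImplicit false
universe w v u w' v' u'
open CategoryTheory CategoryTheory.Limits
open PCoh

namespace Groth.Agent.S5620

/-- Cohomological amplitude, shifted. -/
theorem isZero_shifted {C : Type u} [Category.{v} C] [Abelian C] [HasDerivedCategory.{w} C]
    {C' : Type u'} [Category.{v'} C'] [Abelian C'] [HasDerivedCategory.{w'} C']
    (u : DerivedCategory C ⥤ DerivedCategory C') [u.CommShift ℤ] (b : ℤ)
    (hii : ∀ F : DerivedCategory C, (∀ i : ℤ, 0 < i → IsZero ((DerivedCategory.homologyFunctor C i).obj F)) →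
      ∀ i : ℤ, b < i → IsZero ((DerivedCategory.homologyFunctor C' i).obj (u.obj F)))
    (X : DerivedCategory C) (c : ℤ)
    (hX : ∀ i, c < i → IsZero ((DerivedCategory.homologyFunctor C i).obj X)) (i : ℤ) (hi : c + b < i) :
    IsZero ((DerivedCategory.homologyFunctor C' i).obj (u.obj X)) := by
  have h := hii (X⟦c⟧) (fun j hj => (hX (c + j) (by omega)).of_iso
    (((DerivedCategory.homologyFunctor C 0).shiftIso c j (c + j) rfl).app X)) (i - c) (by omega)
  exact h.of_iso ((((DerivedCategory.homologyFunctor C' 0).shiftIso c (i - c) i (by omega)).app (u.obj X)).symm ≪≫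
    (DerivedCategory.homologyFunctor C' (i - c)).mapIso ((u.commShiftIso c).app X).symm)


/-- Let (C, C₀) and (C', C₀') be abelian categories with strictly full additive subcategories, each
quasi-stable under kernels of epimorphisms and quasi-liftable, and let u : D(C) ⥤ D(C') be a
triangulated functor. Suppose there are integers a, b such that (i) for every E in C₀ the object
u(E[0]) is a-pseudo-coherent relative to C₀', and (ii) u sends objects acyclic in degrees > 0 to
objects acyclic in degrees > b. Then if F ∈ D(C) is m-pseudo-coherent and acyclic in degrees > n,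
u(F) is max(m + b, n + a)-pseudo-coherent relative to C₀' and acyclic in degrees > n + b. (The
source lets u be defined on D^+, D^- or D^b; here u is defined on all of D(C).) -/
theorem result {C : Type u} [Category.{v} C] [Abelian C] [HasDerivedCategory.{w} C]
    (P : ObjectProperty C) [P.IsClosedUnderIsomorphisms] [P.ContainsZero] (hsum : ∀ X Y : C, P X → P Y → P (X ⨯ Y))
    (hqs : PCoh.IsQuasiStableUnderKernels P) (hql : PCoh.IsQuasiLiftable P)
    {C' : Type u'} [Category.{v'} C'] [Abelian C'] [HasDerivedCategory.{w'} C']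
    (P' : ObjectProperty C') [P'.IsClosedUnderIsomorphisms] [P'.ContainsZero] (hsum' : ∀ X Y : C', P' X → P' Y → P' (X ⨯ Y))
    (hqs' : PCoh.IsQuasiStableUnderKernels P') (hql' : PCoh.IsQuasiLiftable P')
    (u : DerivedCategory C ⥤ DerivedCategory C') [u.CommShift ℤ] [u.IsTriangulated] (a b : ℤ)
    (hi : ∀ E : C, P E → ∃ E' : CochainComplex C' ℤ, PCoh.IsStrictPC P' a E' ∧
      Nonempty (DerivedCategory.Q.obj E' ≅ u.obj ((DerivedCategory.singleFunctor C 0).obj E)))
    (hii : ∀ F : DerivedCategory C, (∀ i : ℤ, 0 < i → IsZero ((DerivedCategory.homologyFunctor C i).obj F)) →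
      ∀ i : ℤ, b < i → IsZero ((DerivedCategory.homologyFunctor C' i).obj (u.obj F)))
    (m n : ℤ) (F : DerivedCategory C) (hF : (∃ E : CochainComplex C ℤ, PCoh.IsStrictPC P m E ∧ Nonempty (DerivedCategory.Q.obj E ≅ F)))
    (hac : ∀ i : ℤ, n < i → IsZero ((DerivedCategory.homologyFunctor C i).obj F)) :
    (∃ E' : CochainComplex C' ℤ, PCoh.IsStrictPC P' (max (m + b) (n + a)) E' ∧ Nonempty (DerivedCategory.Q.obj E' ≅ u.obj F)) ∧
      ∀ i : ℤ, n + b < i → IsZero ((DerivedCategory.homologyFunctor C' i).obj (u.obj F)) := by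
  refine ⟨?_, fun i hi => isZero_shifted u b hii F n hac i hi⟩
  let L := max (m + b) (n + a)
  obtain ⟨B, α, hB, h₁, h₂⟩ := PCoh.exists_approx hsum hqs hql (le_max_right (n + 1) m) hF
    fun i hi => hac i (by omega)
  obtain ⟨Z, g, h, hT⟩ := Pretriangulated.distinguished_cocone_triangle α
  refine PCoh.pcn_obj₂ hsum' hqs' hql' _ (u.map_distinguished _ hT) ?_ ?_
  · refine PCoh.termwise_induction (fun X => PCoh.PCn P' L (u.obj X)) B m (max (n + 1) m - 1)
      (fun i hi => hB.2 i (Or.inr (by omega)))
      (fun T hT' => PCoh.pcn_obj₂ hsum' hqs' hql' _ (u.map_distinguished T hT'))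
      (fun K hK hK' => PCoh.pcn_of_isZero_homology fun i _ => ?_) fun i M hmi hiM ⟨e⟩ => ?_
    · have hz : IsZero K := by
        rw [IsZero.iff_id_eq_zero]
        ext j
        rcases lt_or_ge j m with hj | hj
        · exact ((hB.2 j (Or.inl hj)).of_iso (hK' j hj).some).eq_of_src _ _
        · exact (hK j hj).eq_of_src _ _
      exact Functor.map_isZero _ (Functor.map_isZero _ (DerivedCategory.Q.map_isZero hz))
    · obtain ⟨E', hE', ⟨e'⟩⟩ := hi M (P.prop_of_iso e.symm (hB.1 i))
      have h' := (PCoh.PCn.shift (P := P') ⟨E', hE', ⟨e'⟩⟩ (-i) (a + i) (by omega)).of_iso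
        (((u.commShiftIso (-i)).app _).symm ≪≫ u.mapIso (PCoh.singleShiftIso M i))
      exact h'.mono (by omega)
  · refine PCoh.pcn_of_isZero_homology fun i hi => isZero_shifted u b hii Z (m - 1) (fun j hj => ?_) i (by omega)
    exact PCoh.isZero_homology_obj₃ _ hT h₁ h₂ j (by omega)


end Groth.Agent.S5620
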