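import Groth.Statements.S5622
import Groth.Agent.Lib.PCoh.Perfect

set_option autoImplicit false
universe w v u
open CategoryTheory CategoryTheory.Limits
open PCoh

namespace Groth.Agent.S5622

open CategoryTheory.Pretriangulated DerivedCategory in
theorem exists_rep_of_retract {C : Type u} [Category.{v} C] [Abelian C] [HasDerivedCategory.{w} C]
    {P : ObjectProperty C} [P.IsClosedUnderIsomorphisms] [P.ContainsZero]
    (hsum : ∀ X Y : C, P X → P Y → P (X ⨯ Y))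
    (hlift : ∀ (E F : C) (u : E ⟶ F), Epi u → P F → IsSplitEpi u)
    (hst : ∀ (E F : C) (u : E ⟶ F), Epi u → P E → P F → P (kernel u))
    {a b : ℤ} (hab : a ≤ b) {X : DerivedCategory C} {E : CochainComplex C ℤ} (hE : PCoh.Perf P E a b)
    (s : X ⟶ Q.obj E) (r : Q.obj E ⟶ X) (hsr : s ≫ r = 𝟙 X) :
    ∃ Z : CochainComplex C ℤ, (∀ i, i < a ∨ b < i → IsZero (Z.X i)) ∧ (∀ i, a < i → P (Z.X i)) ∧
      Nonempty (Q.obj Z ≅ X) := by
  have hz : ∀ i, i < a ∨ b < i → IsZero ((homologyFunctor C i).obj X) := fun i hi => by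
    rw [IsZero.iff_id_eq_zero, ← (homologyFunctor C i).map_id, ← hsr, Functor.map_comp,
      ((PCoh.isZero_homology_Q_iff E i).2 (HomologicalComplex.ExactAt.of_isZero (hE.2 i hi))).eq_of_tgt
        ((homologyFunctor C i).map s) 0, zero_comp]
  obtain ⟨G, hP, hG, ⟨e⟩⟩ := PCoh.exists_strictAll_iso hsum (PCoh.isQuasiStableUnderKernels hst)
    (PCoh.isQuasiLiftable hlift)
    (fun n => PCoh.pcn_of_retract hsum (PCoh.isQuasiStableUnderKernels hst) (PCoh.isQuasiLiftable hlift) s r hsr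
      (PCoh.isPC_Q_of_strictAll hE.strictAll n))
    (b + 1) (fun i hi => hz i (Or.inr (by omega)))
  have hge : G.IsGE a := (CochainComplex.isGE_iff _ _).2 fun i hi =>
    (PCoh.isZero_homology_Q_iff G i).1 ((hz i (Or.inl hi)).of_iso ((homologyFunctor C i).mapIso e))
  refine ⟨G.truncGE a, fun i hi => ?_, fun i hi => P.prop_of_iso (G.truncGEXIso a i hi).symm (hP i),
    ⟨(@asIso _ _ _ _ (Q.map (G.πTruncGE a))
      ((isIso_Q_map_iff_quasiIso C _).2 inferInstance)).symm ≪≫ e⟩⟩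
  rcases hi with h | h
  · exact CochainComplex.isZero_of_isStrictlyGE (G.truncGE a) a i h
  · exact (hG i (by omega)).of_iso (G.truncGEXIso a i (by omega))


/-- Let C be an abelian category and C₀ a strictly full additive subcategory, liftable and stable under
kernels of epimorphisms, and a ≤ b. For F', F'' in D(C): (i) ⇒ (ii), where (i) says F' and F'' have
perfect amplitude in [a, b] (each isomorphic to a strictly perfect complex vanishing outside [a, b])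
and (ii) says F' ⊞ F'' does; and (ii) ⇒ (i) when C₀ is stable under direct factors. -/
theorem result {C : Type u} [Category.{v} C] [Abelian C] [HasDerivedCategory.{w} C]
    (P : ObjectProperty C) [P.IsClosedUnderIsomorphisms] [P.ContainsZero] (hsum : ∀ X Y : C, P X → P Y → P (X ⨯ Y))
    (hlift : ∀ (E F : C) (u : E ⟶ F), Epi u → P F → IsSplitEpi u)
    (hst : ∀ (E F : C) (u : E ⟶ F), Epi u → P E → P F → P (kernel u))
    (a b : ℤ) (hab : a ≤ b) (F' F'' : DerivedCategory C) [HasBinaryBiproduct F' F''] :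
    (((∃ E : CochainComplex C ℤ, (∀ i : ℤ, P (E.X i)) ∧ (∀ i : ℤ, i < a ∨ b < i → IsZero (E.X i)) ∧ Nonempty (DerivedCategory.Q.obj E ≅ F')) ∧ (∃ E : CochainComplex C ℤ, (∀ i : ℤ, P (E.X i)) ∧ (∀ i : ℤ, i < a ∨ b < i → IsZero (E.X i)) ∧ Nonempty (DerivedCategory.Q.obj E ≅ F''))) →
        (∃ E : CochainComplex C ℤ, (∀ i : ℤ, P (E.X i)) ∧ (∀ i : ℤ, i < a ∨ b < i → IsZero (E.X i)) ∧ Nonempty (DerivedCategory.Q.obj E ≅ (F' ⊞ F'')))) ∧
      ((∀ (E' E'' : C) [HasBinaryBiproduct E' E''], P (E' ⊞ E'') → P E' ∧ P E'') →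
        (∃ E : CochainComplex C ℤ, (∀ i : ℤ, P (E.X i)) ∧ (∀ i : ℤ, i < a ∨ b < i → IsZero (E.X i)) ∧ Nonempty (DerivedCategory.Q.obj E ≅ (F' ⊞ F''))) →
          (∃ E : CochainComplex C ℤ, (∀ i : ℤ, P (E.X i)) ∧ (∀ i : ℤ, i < a ∨ b < i → IsZero (E.X i)) ∧ Nonempty (DerivedCategory.Q.obj E ≅ F')) ∧ (∃ E : CochainComplex C ℤ, (∀ i : ℤ, P (E.X i)) ∧ (∀ i : ℤ, i < a ∨ b < i → IsZero (E.X i)) ∧ Nonempty (DerivedCategory.Q.obj E ≅ F''))) := by
  have : PreservesBinaryBiproducts (DerivedCategory.Q (C := C)) := preservesBinaryBiproducts_of_preservesBiproducts _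
  constructor
  · rintro ⟨⟨E', hP', hz', ⟨e'⟩⟩, E'', hP'', hz'', ⟨e''⟩⟩
    refine ⟨E' ⊞ E'', fun i => P.prop_of_iso (HomologicalComplex.biprodXIso E' E'' i).symm
        (PCoh.prop_biprod hsum (hP' i) (hP'' i)),
      fun i hi => ((biprod_isZero_iff _ _).2 ⟨hz' i hi, hz'' i hi⟩).of_iso
        (HomologicalComplex.biprodXIso E' E'' i),
      ⟨DerivedCategory.Q.mapBiprod E' E'' ≪≫ biprod.mapIso e' e''⟩⟩
  · rintro hdf ⟨E, hP, hz, ⟨e⟩⟩
    obtain ⟨Z', hz', hP', ⟨f'⟩⟩ := exists_rep_of_retract hsum hlift hst hab (X := F') ⟨hP, hz⟩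
      (biprod.inl ≫ e.inv) (e.hom ≫ biprod.fst) (by simp)
    obtain ⟨Z'', hz'', hP'', ⟨f''⟩⟩ := exists_rep_of_retract hsum hlift hst hab (X := F'') ⟨hP, hz⟩
      (biprod.inr ≫ e.inv) (e.hom ≫ biprod.snd) (by simp)
    have h := PCoh.prop_bottom hsum hlift hst a b (F := Z' ⊞ Z'')
      (fun i hi => ((biprod_isZero_iff _ _).2 ⟨hz' i hi, hz'' i hi⟩).of_iso
        (HomologicalComplex.biprodXIso Z' Z'' i))
      (fun i hi => P.prop_of_iso (HomologicalComplex.biprodXIso Z' Z'' i).symm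
        (PCoh.prop_biprod hsum (hP' i hi) (hP'' i hi)))
      (E := E) ⟨hP, hz⟩ (e ≪≫ (DerivedCategory.Q.mapBiprod Z' Z'' ≪≫ biprod.mapIso f' f'').symm)
    obtain ⟨h₁, h₂⟩ := hdf _ _ (P.prop_of_iso (HomologicalComplex.biprodXIso Z' Z'' a) h)
    refine ⟨⟨Z', fun i => ?_, hz', ⟨f'⟩⟩, ⟨Z'', fun i => ?_, hz'', ⟨f''⟩⟩⟩
    · rcases lt_trichotomy a i with h | rfl | h
      exacts [hP' i h, h₁, PCoh.prop_of_isZero (hz' i (Or.inl h))]
    · rcases lt_trichotomy a i with h | rfl | h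
      exacts [hP'' i h, h₂, PCoh.prop_of_isZero (hz'' i (Or.inl h))]


end Groth.Agent.S5622
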