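import Groth.Statements.S5630
import Groth.Agent.Lib.RelPCS8.TorRpush

set_option autoImplicit false
universe u
open CategoryTheory CategoryTheory.Limits AlgebraicGeometry
attribute [local instance] HasDerivedCategory.standard
open KSix

namespace Groth.Agent.S5630


/-- Over the base S = Y and for f flat: let f : X ⟶ Y be flat, quasi-compact and quasi-separated with Y
quasi-compact, and let N be an integer such that R^i f_* F = 0 for all i > N and all quasi-coherent
O_X-modules F. If E ∈ D^b(O_X) has quasi-coherent cohomology and flat amplitude in [a, b] relative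
to Y (represented by a complex of Y-flat modules placed in [a, b]), then Rf_* E has tor amplitude in
[a, b + N] on Y. (The source allows any S-morphism f and tor amplitude relative to S; the relative
notion used here is the flat-representative one, adequate for flat f.) -/
theorem result {X Y : Scheme.{u}} (f : X ⟶ Y) [Flat f] [QuasiCompact f] [QuasiSeparated f]
    [CompactSpace Y] [DCoh.HasRpush f] (N : ℕ)
    (hN : ∀ (F : X.Modules), QCohCat.isQCoh X F →
      ∀ i : ℤ, (N : ℤ) < i → IsZero (DCoh.HD ((DCoh.Rpush f).obj (DCoh.inD X F)) i))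
    (E : DCoh.D X) (hqc : DCoh.IsQCohD E) (c d : ℤ) [E.IsGE c] [E.IsLE d]
    (a b : ℤ) (hE : DCoh.HasRelFlatAmplitudeIn f a b E) :
    DCoh.HasTorAmplitudeIn a (b + N) ((DCoh.Rpush f).obj E) := by
  obtain ⟨G, hv, hfl, ⟨eG⟩⟩ := hE
  have hTA : Groth.Agent.RelPCS8.TorMV.TA f a b E := Groth.Agent.RelPCS8.TorMV.ta_iso f eG
    ((Groth.Agent.RelPCS8.TorMV.ta_toD_iff f a b G).2
      (Groth.Agent.RelPCS8.hasTorAmplitude_of_flat_terms G a b hv hfl))
  have hY := Groth.Agent.RelPCS8.TorRpush.ta_rpush f (𝟙 Y) f (Category.comp_id f) N hN hqc c hTA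
  haveI := Groth.Agent.RelPCS8.TorRpush.ta_isLE (𝟙 Y) hY
  obtain ⟨I, hI, ⟨e⟩⟩ := Groth.Agent.KInjLib.exists_iso_kInjective ((DCoh.Rpush f).obj E)
  haveI : (DCoh.toD Y I).IsLE (b + N) := (DerivedCategory.isLE_iff _ _).2 fun i hi =>
    (DerivedCategory.isZero_of_isLE ((DCoh.Rpush f).obj E) (b + N) i hi).of_iso
      ((DerivedCategory.homologyFunctor _ i).mapIso e.symm)
  obtain ⟨H, hHv, hHf, ⟨eH⟩⟩ := (Groth.Agent.RelPCS8.StalkId.flatAmplitude_iff_torAmp_stalks I (b + N) a (b + N)).2
    ((Groth.Agent.RelPCS8.TorMV.ta_toD_iff (𝟙 Y) a (b + N) I).1 (Groth.Agent.RelPCS8.TorMV.ta_iso _ e hY))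
  exact Groth.Agent.KFlat.Sch.torAmplitude_of_flatAmplitude ⟨H, hHv, hHf, ⟨eH ≪≫ e.symm⟩⟩


end Groth.Agent.S5630
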