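import Groth.Statements.S5632
import Groth.Agent.Lib.NumPoly18.DegTriv

set_option autoImplicit false
universe u
open CategoryTheory CategoryTheory.Limits AlgebraicGeometry
open Pic13

open Groth.Agent Groth.Agent.NumPoly18
namespace Groth.Agent.S5632

/-- Let k be an algebraically closed field, X ⊆ P^n_k an integral closed subscheme of dimension r = s +
1 ≥ 1, with O_X(1) and O_X(-1) the restrictions of O(1) and O(-1). Let L be an invertible O_X-module
with inverse L' (L ⊗ L' ≅ O_X) whose degree (c₁(L)·c₁(O_X(1))^{r-1}) is ≤ 0 and with H^0(X, L) ≠ 0.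
Then L ≅ O_X (so that its degree is 0 and h^0(L) = 1). Intersection numbers are those of FGA.intNum,
which takes the inverse modules L', O_X(-1) as arguments. -/
theorem result (k : Type u) [Field k] [IsAlgClosed k] (n : ℕ) (X : Scheme.{u}) [X.Over (Spec (CommRingCat.of k))]
    (i : X ⟶ CohB1.ProjSpace n k) [IsClosedImmersion i] (hi : i ≫ CohB1.ProjSpace.toSpec n k = X ↘ Spec (CommRingCat.of k))
    [IsIntegral X] (s : ℕ) (hdim : topologicalKrullDim X = (s + 1 : ℕ))
    (L L' : X.Modules) (hL : PicF.IsInvertible L) (hLL' : Nonempty (CohB1.tensorMod L L' ≅ Coh.structureModule X))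
    (hdeg : FGA.intNum k X (s + 1)
      (Matrix.vecCons L' (fun _ : Fin s => (Scheme.Modules.pullback i).obj (Twist.twistProjSpace n k (-1))))
      (Coh.structureModule X) ≤ 0)
    (hsec : Nontrivial (Coh.HH X L 0)) :
    Nonempty (L ≅ Coh.structureModule X) := by
  haveI : IsProper (X ↘ Spec (CommRingCat.of k)) := isProper_of_closedImmersion i hi
  haveI : IsNoetherian X := CohFound.isNoetherian_of_isProper (X ↘ Spec (CommRingCat.of k))
  have hO := M1.isCoh_structureModule X
  have hL' : PicF.IsInvertible L' := M2.isInvertible_of_tensor_iso_unit L' L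
    (M2.tensorComm _ _ ≪≫ hLL'.some)
  have hH := isAmple_pullback_twistProjSpace (k := k) i
  have hH' : PicF.IsInvertible ((Scheme.Modules.pullback i).obj (Twist.twistProjSpace n k (-1))) :=
    PicLoc.isInvertible_pullback i (Groth.Agent.Twist.isInvertible_twistProjSpace n k (-1))
  let eH : CohB1.tensorMod ((Scheme.Modules.pullback i).obj (Twist.twistProjSpace n k 1))
      ((Scheme.Modules.pullback i).obj (Twist.twistProjSpace n k (-1))) ≅ Coh.structureModule X :=
    (M2.pullTensorIso i _ _).symm ≪≫ (Scheme.Modules.pullback i).mapIso (twistNegIso k n) ≪≫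
      PicLoc.pullbackStructureIso i
  have hdd := NumPoly18.dim_support_le hdim.le (Coh.structureModule X)
  refine nonempty_iso_of_deg_nonpos (k := k) hdim hH hL hL' hLL'.some (hasMonoSec_of_nontrivial k hL hsec) ?_
  have h : (FGA.intNum k X (s + 1) (Fin.cons L' (fun _ : Fin s =>
      (Scheme.Modules.pullback i).obj (Twist.twistProjSpace n k (-1))) : Fin (s + 1) → X.Modules)
      (Coh.structureModule X) : ℚ) ≤ 0 := by exact_mod_cast hdeg
  rw [intNum_eq_mixedDiff hdim.le (isInvertible_cons hL' fun _ => hH') hO] at h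
  change (-1 : ℚ) ^ (s + 1) * md k (Fin.cons L' (fun _ : Fin s => _) : Fin (s + 1) → X.Modules) _ ≤ 0 at h
  rw [md_cons_inverse hL hL' hLL'.some (fun _ => hH') hO hdd,
    md_cons_const_inverse hL hH.1 hH' eH hO hdd, pow_succ, mul_neg, ← mul_assoc,
    show (-1 : ℚ) ^ s * -1 * (-1) ^ s = -1 by rw [mul_right_comm, ← mul_pow]; norm_num] at h
  linarith

end Groth.Agent.S5632
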