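import Groth.Statements.S5638
import Groth.Agent.Lib.NumPoly18.LinPencilApps

set_option autoImplicit false
universe u
open CategoryTheory CategoryTheory.Limits AlgebraicGeometry
open Pic13

open Groth.Agent Groth.Agent.NumPoly18
namespace Groth.Agent.S5638

/-- Let k be an algebraically closed field, P = P^N_k and F a coherent O_P-module none of whose
associated points is a closed point of P. If H^0(P, F) ≠ 0 then h^0(F(-1)) ≤ h^0(F) - 1, where F(d)
= F ⊗ O(d) and h^0 is the dimension over k. -/
theorem result (k : Type u) [Field k] [IsAlgClosed k] (N : ℕ) (F : (CohB1.ProjSpace N k).Modules) (hF : Coh.IsCoh F)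
    (hass : ∀ x : ↥(CohB1.ProjSpace N k), Curv2.IsAssPoint F x → ¬ IsClosed ({x} : Set ↥(CohB1.ProjSpace N k)))
    (h0 : 1 ≤ Module.finrank k (Coh.HH (CohB1.ProjSpace N k) F 0)) :
    Module.finrank k (Coh.HH (CohB1.ProjSpace N k) (CohB1.tensorMod F (Twist.twistProjSpace N k (-1))) 0) + 1 ≤
      Module.finrank k (Coh.HH (CohB1.ProjSpace N k) F 0) := by
  have h := NumPoly18.h0_twist_neg_le hF hass 1
  rw [Nat.cast_one] at h
  omega

end Groth.Agent.S5638
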