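import Groth.Statements.S5639
import Groth.Agent.Lib.NumPoly18.LinPencilApps

set_option autoImplicit false
universe u
open CategoryTheory CategoryTheory.Limits AlgebraicGeometry
open Pic13

open Groth.Agent Groth.Agent.NumPoly18
namespace Groth.Agent.S5639

/-- Let k be an algebraically closed field, P = P^N_k and F a coherent O_P-module none of whose
associated points is a closed point of P. Then H^0(P, F(-n)) = 0 for every integer n ≥ h^0(F), where
F(d) = F ⊗ O(d) and h^0(F) is the dimension of H^0(P, F) over k. -/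
theorem result (k : Type u) [Field k] [IsAlgClosed k] (N : ℕ) (F : (CohB1.ProjSpace N k).Modules) (hF : Coh.IsCoh F)
    (hass : ∀ x : ↥(CohB1.ProjSpace N k), Curv2.IsAssPoint F x → ¬ IsClosed ({x} : Set ↥(CohB1.ProjSpace N k)))
    (n : ℕ) (hn : Module.finrank k (Coh.HH (CohB1.ProjSpace N k) F 0) ≤ n) :
    Subsingleton (Coh.HH (CohB1.ProjSpace N k) (CohB1.tensorMod F (Twist.twistProjSpace N k (-(n : ℤ)))) 0) := by
  haveI : IsProper (CohB1.ProjSpace N k ↘ Spec (CommRingCat.of k)) := ProjSpace.isProper_toSpec N k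
  haveI : IsNoetherian (CohB1.ProjSpace N k) :=
    CohFound.isNoetherian_of_isProper (CohB1.ProjSpace N k ↘ Spec (CommRingCat.of k))
  have hcoh := CurveCoh17.isCoh_tensor hF (Snapper.isCoh_of_isInvertible (Groth.Agent.Twist.isInvertible_twistProjSpace N k (-(n : ℤ))))
  haveI := CohFound.finite_HH_of_isProper (A := k) _ hcoh 0
  have h := NumPoly18.h0_twist_neg_le hF hass n
  exact (Module.finrank_zero_iff (R := k)).1 (by omega)

end Groth.Agent.S5639
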