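import Groth.Statements.S5643
import Groth.Agent.Lib.KCoh4.Filt

set_option autoImplicit false
universe u
open CategoryTheory CategoryTheory.Limits AlgebraicGeometry
open Classical
open SGA6

set_option backward.isDefEq.respectTransparency.types false

namespace Groth.Agent.S5643

/-- Let X be a Noetherian scheme and K the Grothendieck group of coherent O_X-modules. For every n, the
subgroup of K generated by the classes of coherent modules whose support has dimension ≤ n coincides
with the subgroup generated by the classes [O_Z] of the structure sheaves (as O_X-modules) of the
integral closed subschemes Z ⊆ X of dimension ≤ n, Z running over the reduced closures of points of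
X. -/
theorem result (X : Scheme.{u}) [IsNoetherian X] (n : ℕ) :
    AddSubgroup.closure {c : KZero.K0sub (fun M : X.Modules => Coh.IsCoh M) |
        ∃ G : X.Modules, Coh.IsCoh G ∧ topologicalKrullDim ↥(CohB1.support G) ≤ n ∧ c = KZero.clSub (fun M : X.Modules => Coh.IsCoh M) G} =
      AddSubgroup.closure {c : KZero.K0sub (fun M : X.Modules => Coh.IsCoh M) |
        ∃ x : ↥X, topologicalKrullDim ↥(closure ({x} : Set ↥X)) ≤ n ∧ c = KZero.clSub (fun M : X.Modules => Coh.IsCoh M) (Cyc.closureStructureSheaf x)} := by
  exact Groth.Agent.KCoh4.filt_eq n

end Groth.Agent.S5643
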