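import Groth.Statements.S5644
import Groth.Agent.Lib.NumPoly18.HilbBinom

set_option autoImplicit false
universe u
open CategoryTheory CategoryTheory.Limits AlgebraicGeometry
open Pic13

open Groth.Agent Groth.Agent.NumPoly18
namespace Groth.Agent.S5644

/-- Let k be an algebraically closed field, X ⊆ P^n_k an integral closed subscheme of dimension r = s +
1, O_X(1) and O_X(-1) the restrictions of O(1) and O(-1), and L an invertible O_X-module with
inverse L'. Write the Hilbert polynomials in the binomial basis, χ(L(m)) = Σ_{j ≤ r} a_j C(m+j, j)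
and χ(O_X(m)) = Σ_{j ≤ r} e_j C(m+j, j) for m ≥ 0 (Euler characteristics in degrees ≤ r). Then (i)
a_r = e_r = (c₁(O_X(1))^r), the degree of X, and (ii) a_{r-1} - e_{r-1} = (c₁(L)·c₁(O_X(1))^{r-1}),
the degree of L. Intersection numbers are those of FGA.intNum, which takes the inverse modules L',
O_X(-1) as arguments. -/
theorem result (k : Type u) [Field k] [IsAlgClosed k] (n : ℕ) (X : Scheme.{u}) [X.Over (Spec (CommRingCat.of k))]
    (i : X ⟶ CohB1.ProjSpace n k) [IsClosedImmersion i] (hi : i ≫ CohB1.ProjSpace.toSpec n k = X ↘ Spec (CommRingCat.of k))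
    [IsIntegral X] (s : ℕ) (hdim : topologicalKrullDim X = (s + 1 : ℕ))
    (L L' : X.Modules) (hL : PicF.IsInvertible L) (hLL' : Nonempty (CohB1.tensorMod L L' ≅ Coh.structureModule X))
    (a e : Fin (s + 2) → ℤ)
    (ha : ∀ m : ℕ, FGA.eulerCharLE k X (Pic13.twistOn k i L m) (s + 1) = ∑ j : Fin (s + 2), a j * ((m + j).choose j : ℤ))
    (he : ∀ m : ℕ, FGA.eulerCharLE k X (Pic13.twistOn k i (Coh.structureModule X) m) (s + 1) =
      ∑ j : Fin (s + 2), e j * ((m + j).choose j : ℤ)) :
    a (Fin.last (s + 1)) = e (Fin.last (s + 1)) ∧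
      a (Fin.last (s + 1)) = FGA.intNum k X (s + 1)
        (fun _ : Fin (s + 1) => (Scheme.Modules.pullback i).obj (Twist.twistProjSpace n k (-1))) (Coh.structureModule X) ∧
      a (Fin.castSucc (Fin.last s)) - e (Fin.castSucc (Fin.last s)) = FGA.intNum k X (s + 1)
        (Matrix.vecCons L' (fun _ : Fin s => (Scheme.Modules.pullback i).obj (Twist.twistProjSpace n k (-1))))
        (Coh.structureModule X) := by
  haveI : IsProper (X ↘ Spec (CommRingCat.of k)) := by rw [← hi]; infer_instance
  haveI : IsNoetherian X := CohFound.isNoetherian_of_isProper (X ↘ Spec (CommRingCat.of k))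
  have hO := M1.isCoh_structureModule X
  have hL' : PicF.IsInvertible L' := M2.isInvertible_of_tensor_iso_unit L' L
    (M2.tensorComm _ _ ≪≫ hLL'.some)
  have hH : PicF.IsInvertible ((Scheme.Modules.pullback i).obj (Twist.twistProjSpace n k 1)) :=
    PicLoc.isInvertible_pullback i (Groth.Agent.Twist.isInvertible_twistProjSpace n k 1)
  have hH' : PicF.IsInvertible ((Scheme.Modules.pullback i).obj (Twist.twistProjSpace n k (-1))) :=
    PicLoc.isInvertible_pullback i (Groth.Agent.Twist.isInvertible_twistProjSpace n k (-1))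
  let eH : CohB1.tensorMod ((Scheme.Modules.pullback i).obj (Twist.twistProjSpace n k 1))
      ((Scheme.Modules.pullback i).obj (Twist.twistProjSpace n k (-1))) ≅ Coh.structureModule X :=
    (M2.pullTensorIso i _ _).symm ≪≫ (Scheme.Modules.pullback i).mapIso (twistNegIso k n) ≪≫
      PicLoc.pullbackStructureIso i
  have key : ∀ (M : X.Modules) (c : Fin (s + 2) → ℤ), Coh.IsCoh M →
      (∀ m : ℕ, FGA.eulerCharLE k X (Pic13.twistOn k i M m) (s + 1) =
        ∑ j : Fin (s + 2), c j * ((m + j).choose j : ℤ)) → ∀ m : ℕ,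
      (Curv2.euler k X (CohB1.tensorMod M (CohB1.tensorPow
        ((Scheme.Modules.pullback i).obj (Twist.twistProjSpace n k 1)) m)) : ℚ) =
        ∑ j : Fin (s + 2), (c j : ℚ) * ((m + j).choose j : ℚ) := fun M c hM hc m => by
    have h := hc m
    rw [Pic13.twistOn, Snapper.eulerCharLE_eq_euler (s + 1) hdim.le (CurveCoh17.isCoh_tensor hM
      (Snapper.isCoh_of_isInvertible (PicLoc.isInvertible_pullback i
        (Groth.Agent.Twist.isInvertible_twistProjSpace n k (m : ℤ))))), ← Pic13.twistOn, euler_twistOn] at h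
    exact_mod_cast h
  obtain ⟨h1, h2, h3⟩ := binom_coeffs hdim hH hL a e (key L a (Snapper.isCoh_of_isInvertible hL) ha)
    (key _ e hO he)
  have hdd := NumPoly18.dim_support_le hdim.le (Coh.structureModule X)
  refine ⟨by exact_mod_cast h1, ?_, ?_⟩
  · rw [← Int.cast_inj (α := ℚ), intNum_eq_mixedDiff hdim.le (fun _ => hH') hO]
    show _ = (-1 : ℚ) ^ (s + 1) * md k (fun _ : Fin (s + 1) => _) (Coh.structureModule X)
    rw [md_const_inverse hH hH' eH hO hdd, ← mul_assoc, ← mul_pow, h2]
    norm_num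
  · show _ = FGA.intNum k X (s + 1) (Fin.cons L' (fun _ : Fin s => _) : Fin (s + 1) → X.Modules) _
    rw [← Int.cast_inj (α := ℚ), intNum_eq_mixedDiff hdim.le (isInvertible_cons hL' fun _ => hH') hO]
    show _ = (-1 : ℚ) ^ (s + 1) * md k (Fin.cons L' (fun _ : Fin s => _) : Fin (s + 1) → X.Modules) _
    rw [md_cons_inverse hL hL' hLL'.some (fun _ => hH') hO hdd,
      md_cons_const_inverse hL hH hH' eH hO hdd, pow_succ]
    push_cast
    rw [h3, mul_neg, ← mul_assoc, show (-1 : ℚ) ^ s * -1 * (-1) ^ s = -1 by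
      rw [mul_right_comm, ← mul_pow]; norm_num]
    ring

end Groth.Agent.S5644
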