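import Groth.Statements.S5650
import Groth.Agent.Lib.IsoLocus4.Main
-- import your own Groth.Agent.* helpers here

set_option autoImplicit false
universe u
open CategoryTheory CategoryTheory.Limits AlgebraicGeometry
open FlatMor

namespace Groth.Agent.S5650

/-- Let X ⟶ S be proper and of finite presentation, u : F ⟶ G a morphism of finitely presented
O_X-modules with G flat over S. Then the subfunctor of S 'making u an isomorphism' is represented by
an open subscheme of S of finite presentation over S: there is a quasi-compact open U ⊆ S such that,
for every scheme T and t : T ⟶ S, the pullback of u to X ×_S T is an isomorphism if and only if the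
image of t lies in U. -/
theorem result {X S : Scheme.{u}} (f : X ⟶ S) [IsProper f] [LocallyOfFinitePresentation f]
    (F G : X.Modules) (hF : CohB1.IsFP F) (hG : CohB1.IsFP G) (hGfl : FlatMod.IsFlatOver f G) (u : F ⟶ G) :
    ∃ U : S.Opens, QuasiCompact U.ι ∧
      ∀ (T : Scheme.{u}) (t : T ⟶ S),
        IsIso ((Scheme.Modules.pullback (pullback.fst f t)).map u) ↔ Set.range t.base ⊆ (U : Set S) := by
  exact Groth.Agent.IsoLocus4.main f F G hF hG hGfl u

end Groth.Agent.S5650
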