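import Groth.Statements.S5651
import Groth.Agent.Lib.PureRep4.Proper
-- import your own Groth.Agent.* helpers here

set_option autoImplicit false
universe u
open CategoryTheory CategoryTheory.Limits AlgebraicGeometry
open FlatMor

namespace Groth.Agent.S5651

/-- Let f : X ⟶ S be proper and of finite presentation and F a finitely presented O_X-module. Then the
subfunctor of S 'making F flat over S' is represented by a surjective monomorphism of finite
presentation: there are a scheme S' and a monomorphism ι : S' ⟶ S, locally of finite presentation,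
quasi-compact and surjective, such that for every scheme T and t : T ⟶ S the pullback of F to X ×_S
T is flat over T if and only if t factors through ι. -/
theorem result {X S : Scheme.{u}} (f : X ⟶ S) [IsProper f] [LocallyOfFinitePresentation f]
    (F : X.Modules) (hF : CohB1.IsFP F) :
    ∃ (S' : Scheme.{u}) (ι : S' ⟶ S), Mono ι ∧ LocallyOfFinitePresentation ι ∧ QuasiCompact ι ∧ Surjective ι ∧
      ∀ (T : Scheme.{u}) (t : T ⟶ S),
        FlatMod.IsFlatOver (pullback.snd f t) ((Scheme.Modules.pullback (pullback.fst f t)).obj F) ↔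
          ∃ t' : T ⟶ S', t' ≫ ι = t := by
  haveI : Coh.IsQCoh F := Groth.Agent.M1.isFP_isQCoh hF
  have hflat : ∀ (T : Scheme.{u}) (t : T ⟶ S),
      Groth.Agent.FpqcFun4.P f F 0 (Over.mk t) ↔
        FlatMod.IsFlatOver (pullback.snd f t) ((Scheme.Modules.pullback (pullback.fst f t)).obj F) := fun T t =>
    ⟨fun h x => by_contra fun hx => absurd (h x hx) (by rw [Nat.cast_zero]; exact not_lt_zero),
      fun h x hx => absurd (h x) hx⟩
  have hrep : Groth.Agent.PureRep4.RepOn f F 0 (𝟙 S) := by
    refine Groth.Agent.PureRep4.repOn_of_local _ fun s => ?_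
    obtain ⟨V, hV, hsV, -⟩ := exists_isAffineOpen_mem_and_subset (X := S) (x := s) (U := ⊤) trivial
    refine ⟨V, hsV, ?_⟩
    let f' := pullback.snd f hV.fromSpec
    let F' := (Scheme.Modules.pullback (pullback.fst f hV.fromSpec)).obj F
    haveI : Coh.IsQCoh F' := Groth.Agent.M1.isQCoh_pullback _ inferInstance
    haveI : IsProper f' := MorphismProperty.pullback_snd _ _ inferInstance
    haveI : LocallyOfFinitePresentation f' := MorphismProperty.pullback_snd _ _ inferInstance
    haveI : LocallyOfFiniteType f' := inferInstance
    have hF' : CohB1.IsFP F' := Groth.Agent.M1.isFP_pullback _ hF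
    obtain ⟨m, hm⟩ := Groth.Agent.PureRep4.exists_bound_proper (A := Γ(S, V)) f' F' hF'
    have h := Groth.Agent.PureRep4.repOn_of_baseChange f F hV.fromSpec
      (Groth.Agent.PureRep4.repOn_all (fun t _ => Groth.Agent.PureRep4.hasChart_of_proper f' F' hF' t) m hm 0)
    rw [Category.comp_id, ← hV.isoSpec_hom_fromSpec]
    exact Groth.Agent.PureRep4.repOn_comp _ h
  obtain ⟨Z, i, h1, h2, h3, hZ⟩ := hrep
  have hZ' : ∀ (T : Scheme.{u}) (t : T ⟶ S),
      FlatMod.IsFlatOver (pullback.snd f t) ((Scheme.Modules.pullback (pullback.fst f t)).obj F) ↔ ∃ t', t' ≫ i = t :=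
    fun T t => by
      have h := hZ T t
      rw [Category.comp_id] at h
      exact (hflat T t).symm.trans h
  refine ⟨Z, i, h1, h2, h3, ⟨fun s => ?_⟩, hZ'⟩
  obtain ⟨k, hk⟩ := (hZ' _ (S.fromSpecResidueField s)).1 fun x => by
    let K : CommRingCat.{u} := S.residueField s
    let y : Spec K := pullback.snd f (S.fromSpecResidueField s) x
    let L := ((Spec K).presheaf.stalk y : Type u)
    have hL : IsField L := by
      letI alg : Algebra (S.residueField s) L := (StructureSheaf.toStalk K y).hom.toAlgebra
      haveI : IsLocalization.AtPrime L (y : PrimeSpectrum K).asIdeal :=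
        (inferInstance : IsLocalization.AtPrime ((Spec.structureSheaf K).presheaf.stalk y) (y : PrimeSpectrum K).asIdeal)
      refine MulEquiv.isField (Field.toIsField (S.residueField s))
        (IsLocalization.atUnits (S.residueField s) (y : PrimeSpectrum K).asIdeal.primeCompl (S := L) fun z hz =>
          (isUnit_iff_ne_zero.2 fun h0 => hz (h0 ▸ zero_mem _))).symm.toRingEquiv.toMulEquiv
    letI := hL.toField
    letI := FlatMod.moduleStalkOver (pullback.snd f (S.fromSpecResidueField s))
      ((Scheme.Modules.pullback (pullback.fst f (S.fromSpecResidueField s))).obj F) x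
    exact Module.Flat.of_free
  exact ⟨k (IsLocalRing.closedPoint _), by rw [← Scheme.Hom.comp_apply, hk, S.fromSpecResidueField_apply]⟩

end Groth.Agent.S5651
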