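import Groth.Statements.S5654
import Groth.Agent.Lib.GrpAffKer19.Basic
import Groth.Agent.Lib.GrpDim20.Basic
import Groth.Agent.Lib.AffGrp19.Basic
import Groth.Agent.Lib.AbRigid.Maximal

set_option autoImplicit false
set_option linter.style.haveILetI false
set_option backward.isDefEq.respectTransparency.types false
universe u
open CategoryTheory MonoidalCategory CartesianMonoidalCategory MonObj GrpObj AlgebraicGeometry
open GrpSch

namespace Groth.Agent.S5654

/-- Let k be a field, P and Q group schemes locally of finite type over k and f : P ⟶ Q a homomorphism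
of k-group schemes whose underlying morphism of schemes is quasi-affine. Then f is affine. -/
theorem result (k : Type u) [Field k] (P Q : Over (Spec (CommRingCat.of k))) [GrpObj P] [GrpObj Q]
    [LocallyOfFiniteType P.hom] [LocallyOfFiniteType Q.hom] (f : P ⟶ Q) [IsMonHom f] (hf : Mor2.IsQuasiAffine f.left) :
    IsAffineHom f.left := by
  haveI : QuasiCompact f.left := hf.1
  refine Groth.Agent.GrpAffKer19.isAffineHom_of_isAffine_kernel f ?_
  let K := CategoryTheory.Limits.pullback f η[Q]
  let j : K ⟶ P := CategoryTheory.Limits.pullback.fst f η[Q]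
  have hN : IsPullback j (toUnit K) f η[Q] := by
    rw [toUnit_unique (toUnit K) (CategoryTheory.Limits.pullback.snd f η[Q])]
    exact IsPullback.of_hasPullback _ _
  obtain ⟨_, hj⟩ := Groth.Agent.GrpDim20.exists_grpObj_kernel f j hN
  have hs : IsPullback j.left (toUnit K).left f.left η[Q].left := (Over.forget _).map_isPullback hN
  haveI := Groth.Agent.AbRigid.isSeparated_of_grpObj Q
  haveI : IsClosedImmersion η[Q].left :=
    isClosedImmersion_of_comp_eq_id (Y := Spec (CommRingCat.of k)) Q.hom η[Q].left (by simp)
  haveI : IsClosedImmersion j.left := MorphismProperty.of_isPullback (P := @IsClosedImmersion) hs.flip ‹_›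
  obtain ⟨V, hV, hmem, -⟩ := exists_isAffineOpen_mem_and_subset (X := Q.left)
    (x := η[Q].left (IsLocalRing.closedPoint k)) (U := ⊤) trivial
  haveI : Scheme.IsQuasiAffine (f.left ⁻¹ᵁ V : Scheme) := hf.2 V hV
  have hr : Set.range j.left ⊆ Set.range (f.left ⁻¹ᵁ V).ι := by
    rw [Scheme.Opens.range_ι]
    rintro _ ⟨z, rfl⟩
    show f.left (j.left z) ∈ V
    rw [← Scheme.Hom.comp_apply, hs.w, Scheme.Hom.comp_apply,
      Subsingleton.elim (α := Spec (CommRingCat.of k)) ((toUnit K).left z) (IsLocalRing.closedPoint k)]
    exact hmem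
  let l := IsOpenImmersion.lift (f.left ⁻¹ᵁ V).ι j.left hr
  haveI : IsImmersion (l ≫ (f.left ⁻¹ᵁ V).ι) := by rw [IsOpenImmersion.lift_fac]; infer_instance
  haveI : IsImmersion l := IsImmersion.of_comp l (f.left ⁻¹ᵁ V).ι
  haveI : CompactSpace K.left := by
    haveI : QuasiCompact (toUnit K).left := MorphismProperty.of_isPullback (P := @QuasiCompact) hs ‹_›
    haveI : CompactSpace ↥((𝟙_ (Over (Spec (CommRingCat.of k)))).left) := inferInstanceAs (CompactSpace (PrimeSpectrum k))
    exact QuasiCompact.compactSpace_of_compactSpace (toUnit K).left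
  haveI : K.left.IsQuasiAffine := Scheme.IsQuasiAffine.of_isImmersion l
  haveI : QuasiCompact K.hom := AlgebraicGeometry.quasiCompact_of_compactSpace _
  haveI : LocallyOfFiniteType j.left := inferInstance
  haveI : LocallyOfFiniteType (j.left ≫ P.hom) := inferInstance
  haveI : LocallyOfFiniteType K.hom := by rw [← Over.w j]; infer_instance
  haveI : QuasiSeparated K.hom := Groth.Agent.AlgGrpBasic19.quasiSeparatedSpace
  exact Groth.Agent.AffGrp19.isAffine_of_quasiAffine K

end Groth.Agent.S5654
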