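import Groth.Statements.S5656
import Mathlib.RingTheory.Polynomial.Pochhammer
import Mathlib.Analysis.SpecificLimits.Basic
import Mathlib.Algebra.Polynomial.Roots
import Mathlib.Topology.Algebra.Polynomial

set_option autoImplicit false
universe u
open W4sga6xxiii

namespace Groth.Agent.S5656

/-- Let G be an abelian group and G' ⊆ G a subgroup which is divisible by some prime number p (every
element of G' is p times an element of G') and such that G/G' is a torsion group. Then every
polynomial map f : G → ℚ (admitting binomial expansions f(Σ n_i x_i) = Σ_k Π_i C(n_i, k_i) y_k along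
every finite sequence x) which takes only integer values is constant. -/
theorem result {G : Type u} [AddCommGroup G] (G' : AddSubgroup G)
    (p : ℕ) (hp : p.Prime) (hdiv : ∀ x ∈ G', ∃ y ∈ G', p • y = x) (htor : ∀ x : G, ∃ n : ℤ, n ≠ 0 ∧ n • x ∈ G')
    (f : G → ℚ) (hf : W4sga6xxiii.IsPolyMap f) (hint : ∀ x, ∃ z : ℤ, f x = z) (x : G) : f x = f 0 := by
  classical
  have hpoly : ∀ g : G, ∃ P : Polynomial ℚ, ∀ t : ℤ, f (t • g) = P.eval (t : ℚ) := by
    intro g
    obtain ⟨m, y, -, hy⟩ := hf 1 (fun _ => g)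
    refine ⟨∑ k, Polynomial.C (y k / ((k 0 : ℕ).factorial : ℚ)) * descPochhammer ℚ (k 0 : ℕ), fun t => ?_⟩
    have h := hy (fun _ => t)
    simp only [Fin.sum_univ_one, Fin.prod_univ_one] at h
    rw [h, Polynomial.eval_finsetSum]
    refine Finset.sum_congr rfl fun k _ => ?_
    have h1 := Ring.descPochhammer_eq_factorial_smul_choose t (k 0 : ℕ)
    rw [nsmul_eq_mul] at h1
    have h2 : (descPochhammer ℚ (k 0 : ℕ)).eval (t : ℚ) = ((k 0 : ℕ).factorial : ℚ) * (Ring.choose t (k 0 : ℕ) : ℤ) := by
      have : (descPochhammer ℤ (k 0 : ℕ)).eval t = ((k 0 : ℕ).factorial : ℤ) * Ring.choose t (k 0 : ℕ) := by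
        rw [Polynomial.eval_eq_smeval]; exact h1
      rw [← descPochhammer_map (Int.castRingHom ℚ), Polynomial.eval_intCast_map, Int.cast_id, this]
      simp
    rw [Polynomial.eval_mul, Polynomial.eval_C, h2, zsmul_eq_mul, ← mul_assoc,
      div_mul_cancel₀ _ (by positivity), mul_comm]
  -- constancy on the divisible subgroup
  have hG' : ∀ g ∈ G', f g = f 0 := by
    intro g hg
    obtain ⟨P, hP⟩ := hpoly g
    have hint' : ∀ k : ℕ, ∃ z : ℤ, P.eval ((1 : ℚ) / (p : ℚ) ^ k) = z := by
      intro k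
      obtain ⟨h, hh⟩ : ∃ h : G, (p ^ k) • h = g := by
        have aux : ∀ k : ℕ, ∃ h ∈ G', (p ^ k) • h = g := by
          intro k
          induction k with
          | zero => exact ⟨g, hg, by simp⟩
          | succ k ih =>
            obtain ⟨h, hh, e⟩ := ih
            obtain ⟨h', hh', e'⟩ := hdiv h hh
            exact ⟨h', hh', by rw [pow_succ, mul_smul, e', e]⟩
        obtain ⟨h, -, e⟩ := aux k
        exact ⟨h, e⟩
      obtain ⟨Q, hQ⟩ := hpoly h
      have hQP : Q = P.comp (Polynomial.C ((1 : ℚ) / (p : ℚ) ^ k) * Polynomial.X) := by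
        refine Polynomial.eq_of_infinite_eval_eq _ _ (Set.Infinite.mono
          (s := Set.range fun t : ℤ => ((p : ℚ) ^ k) * (t : ℚ)) ?_ (Set.infinite_range_of_injective ?_))
        · rintro _ ⟨t, rfl⟩
          show Q.eval ((p : ℚ) ^ k * (t : ℚ)) = (P.comp _).eval ((p : ℚ) ^ k * (t : ℚ))
          rw [Polynomial.eval_comp, Polynomial.eval_mul, Polynomial.eval_C, Polynomial.eval_X, ← mul_assoc,
            one_div_mul_cancel (pow_ne_zero _ (by exact_mod_cast hp.ne_zero)), one_mul, ← hP t, ← hh,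
            show ((p : ℚ) ^ k) * (t : ℚ) = (((p ^ k : ℕ) : ℤ) * t : ℤ) by push_cast; ring, ← hQ, mul_comm,
            mul_smul, natCast_zsmul]
        · intro a b hab
          simpa [hp.ne_zero] using hab
      obtain ⟨z, hz⟩ := hint h
      refine ⟨z, ?_⟩
      rw [← hz, show h = (1 : ℤ) • h from (one_zsmul h).symm, hQ, hQP]
      simp
    choose z hz using hint'
    have hlim : Filter.Tendsto (fun k : ℕ => ((1 : ℝ) / (p : ℝ) ^ k)) Filter.atTop (nhds 0) := by
      simpa only [one_div, inv_pow] using tendsto_pow_atTop_nhds_zero_of_lt_one (r := ((p : ℝ))⁻¹) (by positivity)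
        (inv_lt_one_of_one_lt₀ (by exact_mod_cast hp.one_lt))
    obtain ⟨z₀, hz₀⟩ := hint 0
    have hP0 : P.eval 0 = z₀ := by rw [← hz₀, ← zero_zsmul g, hP 0]; simp
    have hcont : Filter.Tendsto (fun k : ℕ => ((z k : ℝ) - z₀)) Filter.atTop (nhds 0) := by
      have h1 := ((P.map (algebraMap ℚ ℝ)).continuous.tendsto 0).comp hlim
      have e0 : (P.map (algebraMap ℚ ℝ)).eval 0 = (z₀ : ℝ) := by
        rw [Polynomial.eval_zero_map, ← Polynomial.coeff_zero_eq_eval_zero] at *
        simp [hP0]
      have ek : ∀ k : ℕ, (P.map (algebraMap ℚ ℝ)).eval ((1 : ℝ) / (p : ℝ) ^ k) = (z k : ℝ) := by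
        intro k
        rw [show ((1 : ℝ) / (p : ℝ) ^ k) = algebraMap ℚ ℝ ((1 : ℚ) / (p : ℚ) ^ k) by simp,
          Polynomial.eval_map_apply, hz k]
        simp
      rw [e0] at h1
      simpa [Function.comp_def, ek] using (h1.congr ek).sub_const (z₀ : ℝ)
    obtain ⟨N, hN⟩ := (Metric.tendsto_atTop.1 hcont) 1 one_pos
    have hconst : P = Polynomial.C (z₀ : ℚ) := by
      refine Polynomial.eq_of_infinite_eval_eq _ _ (Set.Infinite.mono
        (s := Set.range fun k : ℕ => (1 : ℚ) / (p : ℚ) ^ (k + N)) ?_ (Set.infinite_range_of_injective ?_))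
      · rintro _ ⟨k, rfl⟩
        show P.eval _ = (Polynomial.C (z₀ : ℚ)).eval _
        rw [Polynomial.eval_C, hz]
        have h1 := hN (k + N) (by omega)
        rw [Real.dist_eq, sub_zero] at h1
        have h2 : |z (k + N) - z₀| < 1 := by exact_mod_cast h1
        rw [sub_eq_zero.1 (Int.abs_lt_one_iff.1 h2)]
      · intro a b hab
        simp only [one_div, inv_inj] at hab
        have := Nat.pow_right_injective hp.two_le (show p ^ (a + N) = p ^ (b + N) by exact_mod_cast hab)
        omega
    rw [← one_zsmul g, hP, ← zero_zsmul g, hP, hconst]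
    simp
  obtain ⟨n, hn, hnx⟩ := htor x
  obtain ⟨R, hR⟩ := hpoly x
  have hconst : R = Polynomial.C (f 0) := by
    refine Polynomial.eq_of_infinite_eval_eq _ _ (Set.Infinite.mono
      (s := Set.range fun t : ℤ => (((t * n : ℤ)) : ℚ)) ?_ (Set.infinite_range_of_injective ?_))
    · rintro _ ⟨t, rfl⟩
      show R.eval _ = (Polynomial.C (f 0)).eval _
      rw [Polynomial.eval_C, ← hR, mul_smul]
      exact hG' _ (zsmul_mem hnx t)
    · intro a b hab
      exact mul_right_cancel₀ hn (Int.cast_injective hab)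
  rw [← one_zsmul x, hR, hconst]
  simp

end Groth.Agent.S5656
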