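import Groth.Statements.S5657
import Mathlib.RingTheory.Binomial
import Mathlib.Tactic

set_option autoImplicit false
universe u
open TensorProduct
open W4sga6xxiii

namespace Groth.Agent.S5657

lemma unit_zpow_eq_sum {A : Type u} [CommRing A] (m : ℕ) (u : Aˣ) (hy : ((u : A) - 1) ^ (m + 1) = 0) (n : ℤ) :
    ((u ^ n : Aˣ) : A) = ∑ k ∈ Finset.range (m + 1), Ring.choose n k • ((u : A) - 1) ^ k := by
  set y := (u : A) - 1 with hydef
  have hstep : ∀ n : ℤ, ∑ k ∈ Finset.range (m + 1), Ring.choose (n + 1) k • y ^ k =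
      (∑ k ∈ Finset.range (m + 1), Ring.choose n k • y ^ k) * (u : A) := by
    intro n
    rw [show (u : A) = 1 + y by rw [hydef]; ring, mul_add, mul_one, Finset.sum_range_succ' _ m, Finset.sum_mul,
      Finset.sum_range_succ (fun k => (Ring.choose n k • y ^ k) * y) m, Finset.sum_range_succ' (fun k => Ring.choose n k • y ^ k) m]
    simp only [Ring.choose_zero_right, smul_mul_assoc, ← pow_succ, hy, smul_zero, add_zero, Ring.choose_succ_succ, add_smul,
      Finset.sum_add_distrib]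
    abel
  induction n using Int.induction_on with
  | zero =>
    rw [zpow_zero, Units.val_one, Finset.sum_eq_single 0 (fun k _ hk => by rw [Ring.choose_zero_pos ℤ (Nat.pos_of_ne_zero hk), zero_smul]) (by simp)]
    simp
  | succ i ih => rw [zpow_add_one, Units.val_mul, ih, hstep]
  | pred i ih =>
    have h := hstep (-(i : ℤ) - 1)
    rw [sub_add_cancel, ← ih] at h
    rw [zpow_sub_one, Units.val_mul, h, mul_assoc, Units.mul_inv, mul_one]

/-- Let A be a commutative ring, I an ideal of A with I^{m+1} = 0, and P ⊆ Aˣ the subgroup of units of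
the form 1 + y with y ∈ I. Then the map P → A ⊗_ℤ ℚ, x ↦ x ⊗ 1, is a polynomial map of degree ≤ m on
the abelian group P (written additively): along every finite sequence x_1, …, x_r in P one has
x_1^{n_1}⋯x_r^{n_r} ⊗ 1 = Σ_k Π_i C(n_i, k_i) y_k with y_k = 0 whenever k_1 + ⋯ + k_r > m. -/
theorem result (A : Type u) [CommRing A] (I : Ideal A) (m : ℕ) (hI : I ^ (m + 1) = ⊥)
    (P : Subgroup Aˣ) (hP : ∀ u : Aˣ, u ∈ P ↔ (u : A) - 1 ∈ I) :
    W4sga6xxiii.IsPolyMapLE (fun u : Additive P => (((Additive.toMul u : P) : Aˣ) : A) ⊗ₜ[ℤ] (1 : ℚ)) m := by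
  classical
  intro r x
  let v : Fin r → Aˣ := fun i => ((Additive.toMul (x i) : P) : Aˣ)
  have hv : ∀ i, (v i : A) - 1 ∈ I := fun i => (hP _).mp (Additive.toMul (x i) : P).2
  have hnil : ∀ i, ((v i : A) - 1) ^ (m + 1) = 0 := fun i => by
    have := Ideal.pow_mem_pow (hv i) (m + 1); rwa [hI, Submodule.mem_bot] at this
  refine ⟨fun k => (∏ i, ((v i : A) - 1) ^ (k i : ℕ)) ⊗ₜ[ℤ] (1 : ℚ), fun k hk => ?_, fun n => ?_⟩
  · suffices h : ∏ i, ((v i : A) - 1) ^ (k i : ℕ) = 0 by simp only [h, TensorProduct.zero_tmul]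
    have h1 : ∏ i, ((v i : A) - 1) ^ (k i : ℕ) ∈ I ^ (∑ i, (k i : ℕ)) := by
      rw [← Finset.prod_pow_eq_pow_sum]
      exact Ideal.prod_mem_prod fun i _ => Ideal.pow_mem_pow (hv i) _
    have h2 := Ideal.pow_le_pow_right (show m + 1 ≤ ∑ i, (k i : ℕ) by omega) h1
    rwa [hI, Submodule.mem_bot] at h2
  · have hsum : (((Additive.toMul (∑ i, n i • x i) : P) : Aˣ) : A) = ∏ i, ((v i ^ n i : Aˣ) : A) := by
      rw [toMul_sum, Subgroup.val_finset_prod, Units.coe_prod]
      rfl
    simp only [hsum, unit_zpow_eq_sum m _ (hnil _), ← Fin.sum_univ_eq_sum_range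
      (fun j => Ring.choose (_ : ℤ) j • ((_ : A)) ^ j)]
    rw [Fintype.prod_sum, TensorProduct.sum_tmul]
    refine Finset.sum_congr rfl fun k _ => ?_
    rw [Finset.prod_smul, TensorProduct.smul_tmul', ]

end Groth.Agent.S5657
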