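import Groth.Statements.S5658
import Groth.Agent.Lib.CAlgLow.SLComm
import Mathlib.RingTheory.Etale.StandardEtale

set_option autoImplicit false
universe u
open CAlg

namespace Groth.Agent.S5658

open Polynomial in
theorem exists_pair (A : Type u) [CommRing A] (L : Type u) [Field L] [IsAlgClosed L] [Algebra A L] :
    ∃ (P : StandardEtalePair A) (x : L), P.HasMap x ∧ x ≠ 0 ∧ x - 1 ≠ 0 := by
  by_cases h2 : (2 : L) = 0
  · obtain ⟨x, hx⟩ := IsAlgClosed.exists_root (Polynomial.X ^ 2 + Polynomial.X + 1 : L[X]) (by
      rw [show (Polynomial.X ^ 2 + Polynomial.X + 1 : L[X]).degree = ((2 : ℕ) : WithBot ℕ) by compute_degree!]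
      decide)
    have hx' : x ^ 2 + x + 1 = 0 := by simpa using hx
    have hm : (Polynomial.X ^ 2 + Polynomial.X + 1 : A[X]).Monic := by monicity!
    refine ⟨⟨Polynomial.X ^ 2 + Polynomial.X + 1, hm, 3, -(2 * Polynomial.X + 1), 4, 1, ?_⟩, x, ⟨?_, ?_⟩, ?_, ?_⟩
    · simp
      ring
    · simp [hx']
    · have : (3 : L) ≠ 0 := fun h3 => one_ne_zero (show (1 : L) = 0 by linear_combination h3 - h2)
      simpa [map_ofNat] using this
    · rintro rfl; simp at hx'
    · intro hx1
      have : x = 1 := sub_eq_zero.1 hx1
      subst this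
      exact one_ne_zero (show (1 : L) = 0 by linear_combination hx' - h2)
  · refine ⟨⟨Polynomial.X + 1, by monicity!, 2, 2, 0, 1, by simp⟩, -1, ⟨by simp, ?_⟩, by simp, ?_⟩
    · simpa [map_ofNat] using h2
    · intro h
      exact h2 (by linear_combination -h)



/-- On the big étale site of a scheme the sheaf of commutator subgroups of Gl(n) is Sl(n) = Ker(det).
Concretely: let A be a commutative ring, n ≥ 0, s ∈ SL_n(A) and p a prime ideal of A. Then there are
an étale A-algebra A' with a prime ideal lying over p such that the image of s in GL_n(A') lies in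
the commutator subgroup of GL_n(A'). (The inclusion of commutators in SL_n being clear, this is the
content of the statement.) -/
theorem result (A : Type u) [CommRing A] (n : ℕ)
    (s : Matrix.SpecialLinearGroup (Fin n) A) (p : PrimeSpectrum A) :
    ∃ (A' : Type u) (_ : CommRing A') (_ : Algebra A A'), Algebra.Etale A A' ∧
      (∃ q : PrimeSpectrum A', q.asIdeal.comap (algebraMap A A') = p.asIdeal) ∧
      (Matrix.GeneralLinearGroup.map (algebraMap A A')) (Matrix.SpecialLinearGroup.toGL s) ∈
        commutator (Matrix.GeneralLinearGroup (Fin n) A') := by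
  let L := AlgebraicClosure p.asIdeal.ResidueField
  obtain ⟨P, x, hx, hx0, hx1⟩ := exists_pair A L
  let χ : P.Ring →ₐ[A] L := P.lift x hx
  let q : Ideal P.Ring := RingHom.ker χ.toRingHom
  haveI : q.IsPrime := RingHom.ker_isPrime _
  have hq : q.comap (algebraMap A P.Ring) = p.asIdeal := by
    rw [RingHom.comap_ker, show χ.toRingHom.comp (algebraMap A P.Ring) = algebraMap A L from χ.comp_algebraMap, IsScalarTower.algebraMap_eq A p.asIdeal.ResidueField L,
      RingHom.ker_comp_of_injective _ (algebraMap p.asIdeal.ResidueField L).injective,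
      Ideal.ker_algebraMap_residueField]
  let B := Localization.AtPrime q
  have hunit : ∀ y : P.Ring, χ y ≠ 0 → IsUnit (algebraMap P.Ring B y) := fun y hy =>
    IsLocalization.map_units B (⟨y, hy⟩ : q.primeCompl)
  have hX : χ P.X = x := P.lift_X x hx
  obtain ⟨u, hu⟩ := hunit P.X (by rw [hX]; exact hx0)
  have hu1 : IsUnit ((u : B) - 1) := by
    rw [hu, ← map_one (algebraMap P.Ring B), ← map_sub]
    exact hunit _ (by rw [map_sub, map_one, hX]; exact hx1)
  have hmem := SLComm.local_case (n := n) u hu1 (Matrix.GeneralLinearGroup.map (algebraMap P.Ring B)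
    (Matrix.GeneralLinearGroup.map (algebraMap A P.Ring) (Matrix.SpecialLinearGroup.toGL s))) (Units.ext <| by
      show ((s.1.map (algebraMap A P.Ring)).map (algebraMap P.Ring B)).det = 1
      rw [← RingHom.mapMatrix_apply, ← RingHom.mapMatrix_apply, ← RingHom.map_det, ← RingHom.map_det, s.2, map_one, map_one])
  obtain ⟨g, hg⟩ := SLComm.exists_away_commutator q _ hmem
  haveI : Algebra.Etale P.Ring (Localization.Away (g : P.Ring)) := .of_isLocalizationAway (g : P.Ring)
  obtain ⟨Q, hQ⟩ : (⟨q, inferInstance⟩ : PrimeSpectrum P.Ring) ∈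
      Set.range (PrimeSpectrum.comap (algebraMap P.Ring (Localization.Away (g : P.Ring)))) := by
    rw [PrimeSpectrum.localization_away_comap_range (Localization.Away (g : P.Ring)) (g : P.Ring)]
    exact g.2
  refine ⟨Localization.Away (g : P.Ring), inferInstance, inferInstance, Algebra.Etale.comp A P.Ring _, ⟨Q, ?_⟩, ?_⟩
  · refine Eq.trans ?_ hq
    refine Eq.trans ?_ (congrArg (Ideal.comap (algebraMap A P.Ring)) (congrArg PrimeSpectrum.asIdeal hQ))
    show Q.asIdeal.comap _ = Ideal.comap (algebraMap A P.Ring) (Ideal.comap (algebraMap P.Ring _) Q.asIdeal)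
    rw [Ideal.comap_comap, ← IsScalarTower.algebraMap_eq]
  · have e : Matrix.GeneralLinearGroup.map (algebraMap A (Localization.Away (g : P.Ring))) (Matrix.SpecialLinearGroup.toGL s) =
        Matrix.GeneralLinearGroup.map (algebraMap P.Ring (Localization.Away (g : P.Ring)))
          (Matrix.GeneralLinearGroup.map (algebraMap A P.Ring) (Matrix.SpecialLinearGroup.toGL s)) := Units.ext <| by
      show s.1.map _ = (s.1.map (algebraMap A P.Ring)).map (algebraMap P.Ring _)
      rw [Matrix.map_map, IsScalarTower.algebraMap_eq A P.Ring]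
      rfl
    rw [e]
    exact hg

end Groth.Agent.S5658
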