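import Groth.Statements.S5659
import Groth.Agent.Lib.CAlgLow.GLChar

set_option autoImplicit false
universe u
open CAlg

namespace Groth.Agent.S5659

open Groth.Agent.GLChar in
theorem units_eq_of_local {B : Type u} [CommRing B] (x y : Bˣ)
    (h : ∀ (m : Ideal B) [m.IsMaximal], Units.map (algebraMap B (Localization.AtPrime m) : B →* Localization.AtPrime m) x =
      Units.map (algebraMap B (Localization.AtPrime m) : B →* Localization.AtPrime m) y) : x = y := by
  refine Units.ext (sub_eq_zero.1 (eq_zero_of_localization ((x : B) - (y : B)) fun J hJ => ?_))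
  rw [map_sub, sub_eq_zero]
  exact congrArg Units.val (h J)

theorem mda {R : Type u} [CommRing R] (g : ℤ →+ ℤ × ℤ) (k : ℤ) (r : R) :
    AddMonoidAlgebra.mapDomainAlgHom R R g (AddMonoidAlgebra.single k r) = AddMonoidAlgebra.single (g k) r :=
  AddMonoidAlgebra.mapDomain_single

theorem idem_connected {R : Type u} [CommRing R] [ConnectedSpace (PrimeSpectrum R)] (e : R)
    (he : IsIdempotentElem e) : e = 0 ∨ e = 1 := by
  have h : IsClopen ((PrimeSpectrum.basicOpen e : TopologicalSpace.Opens _) : Set (PrimeSpectrum R)) :=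
    PrimeSpectrum.isClopen_iff.2 ⟨e, he, rfl⟩
  rcases isClopen_iff.1 h with h | h
  · exact Or.inl (PrimeSpectrum.basicOpen_injOn_isIdempotentElem he IsIdempotentElem.zero
      (by rw [PrimeSpectrum.basicOpen_zero]; exact SetLike.coe_injective (h.trans (TopologicalSpace.Opens.coe_bot).symm)))
  · exact Or.inr (PrimeSpectrum.basicOpen_injOn_isIdempotentElem he IsIdempotentElem.one
      (by rw [PrimeSpectrum.basicOpen_one]; exact SetLike.coe_injective (h.trans (TopologicalSpace.Opens.coe_top).symm)))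

open Groth.Agent.GLChar in
theorem conj_inv {L : Type u} [CommRing L] {n : ℕ} (b : Matrix.GeneralLinearGroup (Fin n) L →* Lˣ)
    (T : Lˣ) (i j : Fin n) (h : i ≠ j) (x : L) : b (tv i j h ((T : L) * x)) = b (tv i j h x) := by
  have hc := congrArg b (dg_mul_tv i j h T x)
  rw [map_mul, map_mul, mul_comm, mul_left_inj] at hc
  exact hc.symm

open Groth.Agent.GLChar in
theorem universal {R : Type u} [CommRing R] {n : ℕ}
    (β : ∀ (B : Type u) [CommRing B] [Algebra R B], Matrix.GeneralLinearGroup (Fin n) B →* Bˣ)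
    (hβ : ∀ (B B' : Type u) [CommRing B] [Algebra R B] [CommRing B'] [Algebra R B'] (φ : B →ₐ[R] B')
      (s : Matrix.GeneralLinearGroup (Fin n) B),
      β B' (Matrix.GeneralLinearGroup.map φ.toRingHom s) = Units.map (φ.toRingHom : B →* B') (β B s))
    (i j : Fin n) (h : i ≠ j) (L : Type u) [CommRing L] [Algebra R L] (φ : Polynomial R →ₐ[R] L) :
    (β L (tv i j h (φ Polynomial.X)) : L) = φ (β (Polynomial R) (tv i j h Polynomial.X)).1 := by
  have := hβ (Polynomial R) L φ (tv i j h Polynomial.X)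
  rw [map_tv] at this
  exact congrArg Units.val this

theorem coeff_zero_of_scale {R : Type u} [CommRing R] (p : Polynomial R)
    (h : ∀ (L : Type u) [CommRing L] [Algebra R L] (T : Lˣ) (x : L), Polynomial.aeval ((T : L) * x) p = Polynomial.aeval x p) :
    p = Polynomial.C (p.coeff 0) := by
  classical
  have h2 := h (AddMonoidAlgebra (Polynomial R) ℤ)
    (Units.map (AddMonoidAlgebra.of (Polynomial R) ℤ) (toUnits (Multiplicative.ofAdd 1))) (AddMonoidAlgebra.single 0 Polynomial.X)
  have hL : Polynomial.aeval (AddMonoidAlgebra.single (0 : ℤ) (Polynomial.X : Polynomial R)) p = AddMonoidAlgebra.single (0 : ℤ) p := by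
    conv_rhs => rw [← Polynomial.aeval_X_left_apply p]
    exact Polynomial.aeval_algHom_apply (AddMonoidAlgebra.singleZeroAlgHom (R := R) (A := Polynomial R) (M := ℤ)) Polynomial.X p
  change Polynomial.aeval (AddMonoidAlgebra.single (1 : ℤ) (1 : Polynomial R) * AddMonoidAlgebra.single 0 Polynomial.X) p = _ at h2
  rw [hL, AddMonoidAlgebra.single_mul_single, one_mul, add_zero] at h2
  refine Polynomial.ext fun k => ?_
  rcases Nat.eq_zero_or_pos k with rfl | hk
  · rw [Polynomial.coeff_C_zero]
  rw [Polynomial.coeff_C, if_neg hk.ne']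
  conv_lhs at h2 => rw [p.as_sum_support, map_sum]
  have h3 := congrArg (fun z : AddMonoidAlgebra (Polynomial R) ℤ => (z.coeff (k : ℤ)).coeff k) h2
  simp only [AddMonoidAlgebra.coeff_sum, Finset.sum_apply', Polynomial.finsetSum_coeff, Polynomial.aeval_monomial,
    AddMonoidAlgebra.single_pow, AddMonoidAlgebra.coe_algebraMap, AddMonoidAlgebra.single_mul_single,
    AddMonoidAlgebra.coeff_single, Function.comp_apply, zero_add, Polynomial.algebraMap_eq,
    Polynomial.C_mul_X_pow_eq_monomial, Finsupp.single_apply] at h3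
  rw [if_neg (by omega : ¬ (0 : ℤ) = k), Polynomial.coeff_zero,
    Finset.sum_eq_single k (fun l _ hl => by
      rw [if_neg (by simpa using hl), Polynomial.coeff_zero]) (fun hk' => by
      rw [Polynomial.notMem_support_iff.1 hk']; simp)] at h3
  rw [if_pos (by simp), Polynomial.coeff_monomial, if_pos rfl] at h3
  exact h3

/-- The `k`-th power of the variable. -/
noncomputable def tU (R : Type u) [CommRing R] (k : ℤ) : (AddMonoidAlgebra R ℤ)ˣ :=
  Units.map (AddMonoidAlgebra.of R ℤ) (toUnits (Multiplicative.ofAdd k))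

theorem tU_zpow (R : Type u) [CommRing R] (k : ℤ) : tU R k = tU R 1 ^ k := by
  rw [tU, tU, ← map_zpow, ← map_zpow, ← ofAdd_zsmul]
  congr 3
  simp

open Groth.Agent.GLChar in
theorem exists_exp (R : Type u) [CommRing R] [ConnectedSpace (PrimeSpectrum R)]
    (χ : ∀ (B : Type u) [CommRing B] [Algebra R B], Bˣ →* Bˣ)
    (hχ : ∀ (B B' : Type u) [CommRing B] [Algebra R B] [CommRing B'] [Algebra R B'] (φ : B →ₐ[R] B') (u : Bˣ),
      χ B' (Units.map (φ.toRingHom : B →* B') u) = Units.map (φ.toRingHom : B →* B') (χ B u)) :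
    ∃ m : ℤ, ∀ (B : Type u) [CommRing B] [Algebra R B] (u : Bˣ), χ B u = u ^ m := by
  let f : AddMonoidAlgebra R ℤ := (χ (AddMonoidAlgebra R ℤ) (tU R 1) : (AddMonoidAlgebra R ℤ)ˣ).1
  let c : ℤ → R := fun k => f.coeff k
  let i₁ : AddMonoidAlgebra R ℤ →ₐ[R] (AddMonoidAlgebra R (ℤ × ℤ)) := AddMonoidAlgebra.mapDomainAlgHom R R (AddMonoidHom.inl ℤ ℤ)
  let i₂ : AddMonoidAlgebra R ℤ →ₐ[R] (AddMonoidAlgebra R (ℤ × ℤ)) := AddMonoidAlgebra.mapDomainAlgHom R R (AddMonoidHom.inr ℤ ℤ)
  let i₃ : AddMonoidAlgebra R ℤ →ₐ[R] (AddMonoidAlgebra R (ℤ × ℤ)) :=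
    AddMonoidAlgebra.mapDomainAlgHom R R ((AddMonoidHom.id ℤ).prod (AddMonoidHom.id ℤ))
  have hT : Units.map (i₃.toRingHom : _ →* (AddMonoidAlgebra R (ℤ × ℤ))) (tU R 1) =
      Units.map (i₁.toRingHom : _ →* (AddMonoidAlgebra R (ℤ × ℤ))) (tU R 1) * Units.map (i₂.toRingHom : _ →* (AddMonoidAlgebra R (ℤ × ℤ))) (tU R 1) := by
    refine Units.ext ?_
    show i₃ (AddMonoidAlgebra.single 1 1) = i₁ (AddMonoidAlgebra.single 1 1) * i₂ (AddMonoidAlgebra.single 1 1)
    show AddMonoidAlgebra.mapDomainAlgHom R R _ _ = AddMonoidAlgebra.mapDomainAlgHom R R _ _ * AddMonoidAlgebra.mapDomainAlgHom R R _ _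
    rw [mda, mda, mda, AddMonoidAlgebra.single_mul_single]
    simp [-LaurentPolynomial.single_eq_C_mul_T]
  have hprod : i₃ f = i₁ f * i₂ f := by
    have h := congrArg (χ (AddMonoidAlgebra R (ℤ × ℤ))) hT
    rw [map_mul (χ (AddMonoidAlgebra R (ℤ × ℤ))), hχ, hχ, hχ] at h
    exact congrArg Units.val h
  have hf : f = ∑ k ∈ f.coeff.support, AddMonoidAlgebra.single k (c k) := (AddMonoidAlgebra.sum_coeff_single f).symm
  have hcc : ∀ a b : ℤ, c a * c b = if a = b then c a else 0 := by
    intro a b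
    have h := congrArg (fun z : (AddMonoidAlgebra R (ℤ × ℤ)) => z.coeff (a, b)) hprod
    rw [hf, map_sum, map_sum, map_sum, Finset.sum_mul_sum] at h
    simp only [i₁, i₂, i₃, mda,
      AddMonoidAlgebra.single_mul_single, AddMonoidAlgebra.coeff_sum, Finset.sum_apply', AddMonoidAlgebra.coeff_single,
      Finsupp.single_apply] at h
    simp only [AddMonoidHom.inl_apply, AddMonoidHom.inr_apply, AddMonoidHom.prod_apply, AddMonoidHom.id_apply,
      Prod.mk_add_mk, add_zero, zero_add, Prod.mk.injEq, ite_and] at h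
    have hz : ∀ k, k ∉ f.coeff.support → c k = 0 := fun k hk => Finsupp.notMem_support_iff.1 hk
    have e1 : ∀ (k : ℤ) (g : R), (∀ _ : k ∉ f.coeff.support, g = 0) →
        (∑ x ∈ f.coeff.support, if x = k then g else 0) = g := by
      intro k g hg
      rw [Finset.sum_ite_eq']
      split_ifs with hk
      · rfl
      · exact (hg hk).symm
    have hR : (∑ x ∈ f.coeff.support, ∑ y ∈ f.coeff.support, if x = a then (if y = b then c x * c y else 0) else 0) =
        c a * c b := by
      rw [← e1 a (c a * c b) (fun hk => by rw [hz a hk, zero_mul])]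
      refine Finset.sum_congr rfl fun x _ => ?_
      split_ifs with hx
      · subst hx
        exact (Finset.sum_congr rfl fun y _ => by split_ifs with hy <;> simp [hy]).trans
          (e1 b _ (fun hk => by rw [hz b hk, mul_zero]))
      · exact Finset.sum_const_zero
    rw [hR] at h
    rw [← h]
    by_cases hab : a = b
    · subst hab
      rw [if_pos rfl]
      refine (Finset.sum_congr rfl fun x _ => ?_).trans (e1 a (c a) (hz a))
      by_cases hx : x = a <;> simp [hx]
    · rw [if_neg hab]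
      refine Finset.sum_eq_zero fun x _ => ?_
      by_cases hx : x = a
      · simp [hx, hab]
      · simp [hx]
  let ev : AddMonoidAlgebra R ℤ →ₐ[R] R := AddMonoidAlgebra.lift R R ℤ 1
  have hsum : ∑ k ∈ f.coeff.support, c k = 1 := by
    have h1 : Units.map (ev.toRingHom : _ →* R) (tU R 1) = 1 := Units.ext (by
      show ev (AddMonoidAlgebra.single 1 1) = 1
      simp [-LaurentPolynomial.single_eq_C_mul_T, ev])
    have h := hχ _ _ ev (tU R 1)
    rw [h1, map_one] at h
    have h2 : ev f = 1 := (congrArg Units.val h).symm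
    rw [hf, map_sum] at h2
    simpa [-LaurentPolynomial.single_eq_C_mul_T, ev] using h2
  haveI : Nontrivial R := PrimeSpectrum.nonempty_iff_nontrivial.1 inferInstance
  obtain ⟨m, hm, hm0⟩ : ∃ m ∈ f.coeff.support, c m ≠ 0 := by
    by_contra hno
    push Not at hno
    exact one_ne_zero (hsum.symm.trans (Finset.sum_eq_zero hno))
  have hm1 : c m = 1 := by
    rcases idem_connected (c m) (by
      show c m * c m = c m
      rw [hcc, if_pos rfl]) with h | h
    · exact absurd h hm0
    · exact h
  have hfm : f = AddMonoidAlgebra.single m 1 := by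
    rw [hf, Finset.sum_eq_single_of_mem m hm fun k _ hk => ?_, hm1]
    have := hcc k m
    rw [hm1, mul_one, if_neg hk] at this
    rw [this, AddMonoidAlgebra.single_zero]
  refine ⟨m, fun B _ _ u => ?_⟩
  let φ : AddMonoidAlgebra R ℤ →ₐ[R] B := AddMonoidAlgebra.lift R B ℤ ((Units.coeHom B).comp (zpowersHom Bˣ u))
  have hu : Units.map (φ.toRingHom : _ →* B) (tU R 1) = u := Units.ext (by
    show φ (AddMonoidAlgebra.single 1 1) = u
    simp [-LaurentPolynomial.single_eq_C_mul_T, φ])
  have hf' : χ (AddMonoidAlgebra R ℤ) (tU R 1) = tU R m := Units.ext hfm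
  have h := hχ _ _ φ (tU R 1)
  rw [hu, hf', tU_zpow, map_zpow, hu] at h
  exact h

open Groth.Agent.GLChar in
theorem factor (R : Type u) [CommRing R] [ConnectedSpace (PrimeSpectrum R)] (n : ℕ) (hn : 0 < n)
    (β : ∀ (B : Type u) [CommRing B] [Algebra R B], Matrix.GeneralLinearGroup (Fin n) B →* Bˣ)
    (hβ : ∀ (B B' : Type u) [CommRing B] [Algebra R B] [CommRing B'] [Algebra R B'] (φ : B →ₐ[R] B')
      (s : Matrix.GeneralLinearGroup (Fin n) B),
      β B' (Matrix.GeneralLinearGroup.map φ.toRingHom s) = Units.map (φ.toRingHom : B →* B') (β B s)) :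
    ∃ m : ℤ, ∀ (B : Type u) [CommRing B] [Algebra R B] (s : Matrix.GeneralLinearGroup (Fin n) B),
      β B s = Matrix.GeneralLinearGroup.det s ^ m := by
  obtain ⟨m, hm⟩ := exists_exp R (fun B _ _ => (β B).comp (dg ⟨0, hn⟩)) (fun B B' _ _ _ _ φ u => by
    show β B' (dg ⟨0, hn⟩ (Units.map (φ.toRingHom : B →* B') u)) = Units.map (φ.toRingHom : B →* B') (β B (dg ⟨0, hn⟩ u))
    exact (congrArg (β B') (map_dg φ.toRingHom ⟨0, hn⟩ u).symm).trans (hβ B B' φ _))
  refine ⟨m, fun B _ _ s => ?_⟩
  have hdg : ∀ (B : Type u) [CommRing B] [Algebra R B] (i : Fin n) (u : Bˣ), β B (dg i u) = u ^ m := by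
    intro B _ _ i u
    obtain ⟨P, hP⟩ := exists_conj_dg (B := B) ⟨0, hn⟩ i u
    have := congrArg (β B) hP
    rw [map_mul, map_mul, mul_comm, mul_left_inj] at this
    exact this.symm.trans (hm B u)
  have htv : ∀ (B : Type u) [CommRing B] [Algebra R B] (i j : Fin n) (h : i ≠ j) (c : B), β B (tv i j h c) = 1 := by
    intro B _ _ i j h c
    let p : Polynomial R := (β (Polynomial R) (tv i j h Polynomial.X)).1
    have hu : ∀ (L : Type u) [CommRing L] [Algebra R L] (x : L), (β L (tv i j h x) : L) = Polynomial.aeval x p := by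
      intro L _ _ x
      have := universal β hβ i j h L (Polynomial.aeval x)
      rwa [Polynomial.aeval_X] at this
    have hpC := coeff_zero_of_scale p fun L _ _ T x => by rw [← hu, ← hu, conj_inv]
    refine Units.ext ?_
    have h0 : tv i j h (0 : B) = 1 := Units.ext (Matrix.transvection_zero i j)
    have h1 : (β B (tv i j h c) : B) = (β B (tv i j h 0) : B) := by
      rw [hu, hu, hpC, Polynomial.aeval_C, Polynomial.aeval_C]
    rw [h1, h0, map_one]
  refine units_eq_of_local _ _ fun J _ => ?_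
  have h := hβ B (Localization.AtPrime J) (IsScalarTower.toAlgHom R B (Localization.AtPrime J)) s
  refine Eq.trans h.symm ?_
  rw [fin_case n (β (Localization.AtPrime J)) (zpowGroupHom m) (htv (Localization.AtPrime J)) (hdg (Localization.AtPrime J))]
  show (Matrix.GeneralLinearGroup.det (Matrix.GeneralLinearGroup.map (IsScalarTower.toAlgHom R B (Localization.AtPrime J)).toRingHom s)) ^ m = _
  rw [map_zpow]
  congr 1
  refine Units.ext ?_
  exact (RingHom.map_det _ _).symm



/-- Every homomorphism of group sheaves Gl(n_1) × ⋯ × Gl(n_r) → G_m is (s_1, …, s_r) ↦ det(s_1)^{m_1} ⋯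
det(s_r)^{m_r} with locally constant integers m_i uniquely determined by it. Concretely, over a
commutative ring R whose prime spectrum is connected and for ranks n_i ≥ 1: every family of group
homomorphisms α_B : GL_{n_1}(B) × ⋯ × GL_{n_r}(B) → Bˣ, one for each commutative R-algebra B and
natural in B, is given by α_B(s) = Π_i det(s_i)^{m_i} for a unique m ∈ ℤ^r. (The published statement
allows ranks n_i ≥ 0; uniqueness of m_i needs n_i ≥ 1, since Gl(0) is trivial.) -/
theorem result (R : Type u) [CommRing R] [ConnectedSpace (PrimeSpectrum R)]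
    (r : ℕ) (n : Fin r → ℕ) (hn : ∀ i, 0 < n i)
    (α : ∀ (B : Type u) [CommRing B] [Algebra R B], (∀ i, Matrix.GeneralLinearGroup (Fin (n i)) B) →* Bˣ)
    (hα : ∀ (B C : Type u) [CommRing B] [Algebra R B] [CommRing C] [Algebra R C] (φ : B →ₐ[R] C)
      (s : ∀ i, Matrix.GeneralLinearGroup (Fin (n i)) B),
      α C (fun i => Matrix.GeneralLinearGroup.map φ.toRingHom (s i)) = Units.map (φ.toRingHom : B →* C) (α B s)) :
    ∃! m : Fin r → ℤ, ∀ (B : Type u) [CommRing B] [Algebra R B] (s : ∀ i, Matrix.GeneralLinearGroup (Fin (n i)) B),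
      α B s = ∏ i, Matrix.GeneralLinearGroup.det (s i) ^ (m i) := by
  have hfac : ∀ i, ∃ m : ℤ, ∀ (B : Type u) [CommRing B] [Algebra R B] (s : Matrix.GeneralLinearGroup (Fin (n i)) B),
      α B (Pi.mulSingle i s) = Matrix.GeneralLinearGroup.det s ^ m := fun i =>
    factor R (n i) (hn i) (fun B _ _ => (α B).comp (MonoidHom.mulSingle (fun j => Matrix.GeneralLinearGroup (Fin (n j)) B) i))
      (fun B B' _ _ _ _ φ s => by
        show α B' (Pi.mulSingle i (Matrix.GeneralLinearGroup.map φ.toRingHom s)) = Units.map (φ.toRingHom : B →* B') (α B (Pi.mulSingle i s))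
        rw [← hα B B' φ]
        congr 1
        funext j
        exact (Pi.apply_mulSingle (fun j => Matrix.GeneralLinearGroup.map (n := Fin (n j)) φ.toRingHom) (fun j => map_one _) i s j).symm)
  choose m hm using hfac
  refine ⟨m, fun B _ _ s => ?_, fun m' hm' => ?_⟩
  · conv_lhs => rw [← Finset.noncommProd_mulSingle s, Finset.map_noncommProd]
    rw [Finset.noncommProd_eq_prod]
    exact Finset.prod_congr rfl fun i _ => hm i B (s i)
  · funext i
    haveI : Nontrivial R := PrimeSpectrum.nonempty_iff_nontrivial.1 inferInstance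
    let e : Matrix.GeneralLinearGroup (Fin (n i)) (AddMonoidAlgebra R ℤ) := Groth.Agent.GLChar.dg ⟨0, hn i⟩ (tU R 1)
    have h1 := hm' (AddMonoidAlgebra R ℤ) (Pi.mulSingle i e)
    rw [hm i, Finset.prod_eq_single i (fun j _ hj => by rw [Pi.mulSingle_eq_of_ne hj, map_one, _root_.one_zpow]) (fun h => absurd (Finset.mem_univ i) h),
      Pi.mulSingle_eq_same, Groth.Agent.GLChar.det_dg, ← tU_zpow, ← tU_zpow] at h1
    have h2 : AddMonoidAlgebra.single (m i) (1 : R) = AddMonoidAlgebra.single (m' i) 1 := congrArg Units.val h1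
    exact (AddMonoidAlgebra.single_left_injective one_ne_zero h2).symm

end Groth.Agent.S5659
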