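import Groth.Statements.S5662
import Groth.Agent.Lib.Dev4.DescendHom

set_option autoImplicit false
universe u
open CategoryTheory CategoryTheory.Limits AlgebraicGeometry
open FlatMor
set_option maxSynthPendingDepth 3
open TensorProduct

set_option backward.isDefEq.respectTransparency.types false

namespace Groth.Agent.S5662

/-- Let f : X ⟶ Y be a morphism of schemes, p₁, p₂ : X ×_Y X ⟶ X the projections and g = p₁ ≫ f. Assume
that the sequence O_Y → f_*O_X ⇉ g_*O_{X ×_Y X} is exact, i.e. on every open U ⊆ Y the sections of
O_Y are exactly the sections of O_X over f⁻¹U whose two pullbacks to g⁻¹U agree (hypotheses hinj,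
hex; hU is the bookkeeping identity of the two preimage opens). Then f is a morphism of descent for
finite locally free modules: for finite locally free O_Y-modules L and M, every morphism φ : f^*L ⟶
f^*M whose pullbacks along p₁ and p₂ agree (compared through the canonical isomorphisms p_i^* f^* ≅
(p_i ≫ f)^* and p₁ ≫ f = p₂ ≫ f) is f^*ψ for a unique ψ : L ⟶ M. (The published statement is made
under further standing hypotheses (a surjective morphism between schemes proper and of finite
presentation over an integral Noetherian base, with flatness conditions), of which its proof uses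
only the exactness above; this row assumes only that exactness.) -/
theorem result {X Y : Scheme.{u}} (f : X ⟶ Y)
    (hU : ∀ U : Y.Opens, (pullback.fst f f) ⁻¹ᵁ (f ⁻¹ᵁ U) = (pullback.snd f f) ⁻¹ᵁ (f ⁻¹ᵁ U))
    (hinj : ∀ U : Y.Opens, Function.Injective (f.app U))
    (hex : ∀ (U : Y.Opens) (a : Γ(X, f ⁻¹ᵁ U)),
      (pullback.fst f f).app (f ⁻¹ᵁ U) a =
        ((pullback f f).presheaf.map (eqToHom (hU U)).op) ((pullback.snd f f).app (f ⁻¹ᵁ U) a) →
      a ∈ Set.range (f.app U))
    (L M : Y.Modules) (hL : FlatMod.IsFinLocFree L) (hM : FlatMod.IsFinLocFree M)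
    (φ : (Scheme.Modules.pullback f).obj L ⟶ (Scheme.Modules.pullback f).obj M)
    (hφ : ((Scheme.Modules.pullbackComp (pullback.fst f f) f).app L).inv ≫
        (Scheme.Modules.pullback (pullback.fst f f)).map φ ≫ ((Scheme.Modules.pullbackComp (pullback.fst f f) f).app M).hom =
      ((Scheme.Modules.pullbackCongr (pullback.condition (f := f) (g := f))).app L).hom ≫
        ((Scheme.Modules.pullbackComp (pullback.snd f f) f).app L).inv ≫
        (Scheme.Modules.pullback (pullback.snd f f)).map φ ≫ ((Scheme.Modules.pullbackComp (pullback.snd f f) f).app M).hom ≫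
        ((Scheme.Modules.pullbackCongr (pullback.condition (f := f) (g := f))).app M).inv) :
    ∃! ψ : L ⟶ M, (Scheme.Modules.pullback f).map ψ = φ := by
  refine Groth.Agent.Dev4.existsUnique_descend f hU hinj hex hM φ
    (((Scheme.Modules.pullbackComp (pullback.fst f f) f).app L).inv ≫
        (Scheme.Modules.pullback (pullback.fst f f)).map φ ≫ ((Scheme.Modules.pullbackComp (pullback.fst f f) f).app M).hom) ?_ ?_
  · simp [Groth.Agent.ModLimH13.cmp, Scheme.Modules.pullbackCongr]
  · rw [hφ, Groth.Agent.Dev4.pullbackCongr_symm]
    simp only [Groth.Agent.ModLimH13.cmp, Iso.trans_hom, NatTrans.comp_app, Iso.app_hom, Iso.app_inv, Category.assoc]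
    rw [show (Scheme.Modules.pullbackCongr (pullback.condition (f := f) (g := f)).symm).hom.app L =
      (Scheme.Modules.pullbackCongr (pullback.condition (f := f) (g := f))).inv.app L from
      (Groth.Agent.Dev4.pullbackCongr_symm _ L).symm]
    simp

end Groth.Agent.S5662
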