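import Groth.Statements.S5663
import Mathlib.Algebra.Algebra.Epi
import Mathlib.RingTheory.HopkinsLevitzki
import Mathlib.RingTheory.Localization.Submodule
import Mathlib.RingTheory.Artinian.Module
import Mathlib.RingTheory.Localization.Finiteness
import Mathlib.RingTheory.Ideal.MinimalPrime.Basic
import Mathlib.Algebra.Module.LocalizedModule.Submodule

set_option autoImplicit false
universe u
open TensorProduct
open CAlg

namespace Groth.Agent.S5663


open TensorProduct

variable {A B : Type u} [CommRing A] [CommRing B] [Algebra A B]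

theorem exists_smul_mem_bot_of_local_epi [IsNoetherianRing A] [Module.Finite A B] (D : Subalgebra A B)
    (p : Ideal A) [p.IsPrime]
    (h : ∀ b : D, ∃ s : A, s ∉ p ∧ (s • b) ⊗ₜ[A] (1 : D) = (1 : D) ⊗ₜ[A] (s • b)) (b : D) :
    ∃ t : A, t ∉ p ∧ t • (b : B) ∈ (⊥ : Subalgebra A B) := by
  let T := Algebra.algebraMapSubmonoid D p.primeCompl
  let L := Localization.AtPrime p
  let Dp := Localization T
  have : Module.Finite A D := Module.Finite.iff_fg.2 (IsNoetherian.noetherian (Subalgebra.toSubmodule D))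
  have : Module.Finite L Dp := Module.Finite.of_isLocalization A D p.primeCompl
  have : IsScalarTower A L Dp := inferInstance
  let f₁ : D →ₐ[A] Dp ⊗[L] Dp :=
    ((Algebra.TensorProduct.includeLeft : Dp →ₐ[L] Dp ⊗[L] Dp).restrictScalars A).comp (IsScalarTower.toAlgHom A D Dp)
  let f₂ : D →ₐ[A] Dp ⊗[L] Dp :=
    ((Algebra.TensorProduct.includeRight : Dp →ₐ[L] Dp ⊗[L] Dp).restrictScalars A).comp (IsScalarTower.toAlgHom A D Dp)
  let Φ : D ⊗[A] D →ₐ[A] Dp ⊗[L] Dp := Algebra.TensorProduct.lift f₁ f₂ (fun x y => Commute.all (f₁ x) (f₂ y))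
  have hepi : Algebra.IsEpi L Dp := by
    rw [Algebra.isEpi_iff_forall_one_tmul_eq]
    intro z
    obtain ⟨d, ⟨_, u, hu, rfl⟩, rfl⟩ := IsLocalization.exists_mk'_eq T z
    obtain ⟨s, hs, hst⟩ := h d
    have key : (algebraMap D Dp (s • d)) ⊗ₜ[L] (1 : Dp) = (1 : Dp) ⊗ₜ[L] algebraMap D Dp (s • d) := by
      have := congrArg Φ hst
      rw [Algebra.TensorProduct.lift_tmul, Algebra.TensorProduct.lift_tmul, map_one, map_one, mul_one, one_mul] at this
      exact this
    have hsu : s * u ∈ p.primeCompl := mul_mem (show s ∈ p.primeCompl from hs) hu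
    have hc : IsLocalization.mk' Dp d (⟨algebraMap A D u, u, hu, rfl⟩ : T) =
        (IsLocalization.mk' L 1 (⟨s * u, hsu⟩ : p.primeCompl)) • algebraMap D Dp (s • d) := by
      rw [Algebra.smul_def, IsLocalization.mk'_eq_iff_eq_mul]
      have hm : algebraMap L Dp (IsLocalization.mk' L 1 (⟨s * u, hsu⟩ : p.primeCompl)) *
          algebraMap D Dp (algebraMap A D (s * u)) = 1 := by
        rw [← IsScalarTower.algebraMap_apply A D Dp, IsScalarTower.algebraMap_apply A L Dp, ← map_mul,
          IsLocalization.mk'_spec L (1 : A) (⟨s * u, hsu⟩ : p.primeCompl), map_one, map_one]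
      rw [Algebra.smul_def, map_mul (algebraMap D Dp) (algebraMap A D s) d]
      rw [map_mul, map_mul] at hm
      linear_combination (- algebraMap D Dp d) * hm
    rw [hc, ← smul_tmul, ← smul_tmul', ← smul_tmul', key]
  obtain ⟨l, hl⟩ := Algebra.isEpi_iff_surjective_algebraMap_of_finite.1 hepi (algebraMap D Dp b)
  obtain ⟨a, ⟨s, hs⟩, rfl⟩ := IsLocalization.exists_mk'_eq p.primeCompl l
  have h2 : algebraMap D Dp (algebraMap A D a) = algebraMap D Dp (algebraMap A D s * b) := by
    rw [map_mul, ← hl, ← IsScalarTower.algebraMap_apply A D Dp, ← IsScalarTower.algebraMap_apply A D Dp,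
      IsScalarTower.algebraMap_apply A L Dp s, IsScalarTower.algebraMap_apply A L Dp a, ← map_mul,
      IsLocalization.mk'_spec' L a (⟨s, hs⟩ : p.primeCompl)]
  obtain ⟨⟨_, u, hu, rfl⟩, hu'⟩ := (IsLocalization.eq_iff_exists T Dp).1 h2
  refine ⟨u * s, p.primeCompl.mul_mem hu hs, Algebra.mem_bot.2 ⟨u * a, ?_⟩⟩
  have := congrArg (fun x : D => (x : B)) hu'
  simp only [Subalgebra.coe_mul, Subalgebra.coe_algebraMap] at this
  rw [map_mul, this, Algebra.smul_def, map_mul, mul_assoc]

theorem exists_local_stable [IsNoetherianRing A] [Module.Finite A B] (U : ℕ → Submodule A B) (W : Submodule A B)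
    (hdec : ∀ i, U (i + 1) ≤ U i) (hW : ∀ i, W ≤ U i) (p : Ideal A) [p.IsPrime] (J : Ideal A)
    (hJ : ∀ j ∈ J, ∀ b ∈ U 0, j • b ∈ W) (hp : p ∈ J.minimalPrimes) :
    ∃ i, ∀ b ∈ U i, ∃ s : A, s ∉ p ∧ s • b ∈ U (i + 1) := by
  let L := Localization.AtPrime p
  let I : Ideal L := J.map (algebraMap A L)
  have : IsArtinianRing (L ⧸ I) := by
    rw [isArtinianRing_iff_isNoetherianRing_krullDimLE_zero]
    have hN : IsNoetherianRing L := IsLocalization.isNoetherianRing p.primeCompl L inferInstance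
    have hN' : IsNoetherianRing (L ⧸ I) := isNoetherianRing_of_surjective L (L ⧸ I) (Ideal.Quotient.mk I) Ideal.Quotient.mk_surjective
    refine ⟨hN', Ring.KrullDimLE.mk₀ fun P hP => ?_⟩
    have hQ : (P.comap (Ideal.Quotient.mk I)).IsPrime := Ideal.IsPrime.comap _
    have hIQ : I ≤ P.comap (Ideal.Quotient.mk I) := fun x hx => by
      rw [Ideal.mem_comap, Ideal.Quotient.eq_zero_iff_mem.2 hx]; exact P.zero_mem
    set Q := P.comap (Ideal.Quotient.mk I) with hQdef
    have h1 : J ≤ Q.comap (algebraMap A L) := Ideal.map_le_iff_le_comap.1 hIQ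
    have h2 : Q.comap (algebraMap A L) ≤ p :=
      ((IsLocalization.AtPrime.orderIsoOfPrime L p) ⟨Q, hQ⟩).2.2
    have h3 : p ≤ Q.comap (algebraMap A L) := hp.2 ⟨Ideal.IsPrime.comap _, h1⟩ h2
    have h4 : IsLocalRing.maximalIdeal L ≤ Q := by
      rw [← Localization.AtPrime.map_eq_maximalIdeal]
      exact Ideal.map_le_iff_le_comap.2 h3
    have h5 : Q.IsMaximal := by
      rw [le_antisymm (IsLocalRing.le_maximalIdeal hQ.ne_top) h4]; infer_instance
    rw [← Ideal.map_comap_of_surjective _ Ideal.Quotient.mk_surjective P]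
    refine (Ideal.map_eq_top_or_isMaximal_of_surjective _ Ideal.Quotient.mk_surjective h5).resolve_left fun h => hP.ne_top ?_
    rw [← Ideal.map_comap_of_surjective _ Ideal.Quotient.mk_surjective P]
    exact h
  let Q₀ := ↥(U 0) ⧸ W.comap (U 0).subtype
  let Qp := LocalizedModule p.primeCompl Q₀
  have htor : Module.IsTorsionBySet L Qp (I : Set L) := by
    rw [Module.isTorsionBySet_iff_subset_annihilator]
    refine SetLike.coe_subset_coe.2 (Ideal.map_le_iff_le_comap.2 fun j hj => ?_)
    rw [Ideal.mem_comap, Module.mem_annihilator]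
    intro z
    induction z using LocalizedModule.induction_on with
    | h x s =>
      obtain ⟨y, rfl⟩ := Submodule.Quotient.mk_surjective _ x
      rw [algebraMap_smul, LocalizedModule.smul'_mk, ← Submodule.Quotient.mk_smul,
        (Submodule.Quotient.mk_eq_zero _).2 (show j • y ∈ W.comap (U 0).subtype from hJ j hj _ y.2),
        LocalizedModule.zero_mk]
  let : Module (L ⧸ I) Qp := htor.module
  have : Module.Finite L Qp := Module.Finite.of_isLocalizedModule p.primeCompl (LocalizedModule.mkLinearMap p.primeCompl Q₀)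
  have : Module.Finite (L ⧸ I) Qp := Module.Finite.of_restrictScalars_finite L _ _
  have : IsArtinian L Qp := isArtinian_of_surjective_algebraMap (R := L ⧸ I) Ideal.Quotient.mk_surjective
  let V : ℕ → Submodule L Qp := fun i => Submodule.localized p.primeCompl
    (((U i).comap (U 0).subtype).map (W.comap (U 0).subtype).mkQ)
  have hanti : Antitone V := antitone_nat_of_succ_le fun i => by
    have : ((U (i+1)).comap (U 0).subtype).map (W.comap (U 0).subtype).mkQ ≤
      ((U i).comap (U 0).subtype).map (W.comap (U 0).subtype).mkQ :=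
      Submodule.map_mono (Submodule.comap_mono (hdec i))
    rintro z ⟨m, hm, s, rfl⟩
    exact ⟨m, this hm, s, rfl⟩
  obtain ⟨n, hn⟩ := IsArtinian.monotone_stabilizes (R := L) (M := Qp) ⟨fun i => OrderDual.toDual (V i), fun a b h => hanti h⟩
  have hU : ∀ i, U i ≤ U 0 := fun i => antitone_nat_of_succ_le hdec (Nat.zero_le i)
  refine ⟨n, fun b hb => ?_⟩
  have hmem : LocalizedModule.mk (Submodule.Quotient.mk (⟨b, hU n hb⟩ : U 0)) 1 ∈ V n :=
    ⟨_, ⟨⟨b, hU n hb⟩, hb, rfl⟩, 1, by rw [← IsLocalizedModule.mk_eq_mk']; rfl⟩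
  rw [show V n = V (n + 1) from congrArg OrderDual.ofDual (hn (n + 1) n.le_succ)] at hmem
  obtain ⟨_, ⟨⟨c, hc0⟩, hc, rfl⟩, s, hcs⟩ := hmem
  rw [← IsLocalizedModule.mk_eq_mk', LocalizedModule.mk_eq] at hcs
  obtain ⟨u, hu⟩ := hcs
  simp only [Submonoid.smul_def, OneMemClass.coe_one, one_smul] at hu
  have hu2 : (Submodule.Quotient.mk ((u : A) • (⟨c, hc0⟩ : U 0)) : Q₀) =
      Submodule.Quotient.mk ((u : A) • (s : A) • (⟨b, hU n hb⟩ : U 0)) := hu
  have hu3 : (u : A) • c - (u : A) • (s : A) • b ∈ W := by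
    have := (Submodule.Quotient.eq _).1 hu2
    exact this
  refine ⟨u * s, mul_mem u.2 s.2, ?_⟩
  have := sub_mem ((U (n + 1)).smul_mem (u : A) hc) (hW (n + 1) hu3)
  simpa [mul_smul] using this



/-- Let A be a Noetherian ring and B a finite A-algebra with A → B injective (a finite schematically
dominant morphism Spec B → Spec A). Define subalgebras B_0 = B and B_{i+1} = the equalizer of the
two maps B_i ⇉ B_i ⊗_A B_i, b ↦ b ⊗ 1, 1 ⊗ b. Then B_m = A (the image of A) for some m; equivalently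
Spec B → Spec A factors as a finite chain of finite morphisms Spec B_i → Spec B_{i+1} each of which
is an effective epimorphism (B_{i+1} is the equalizer of B_i ⇉ B_i ⊗_{B_{i+1}} B_i). The sequence is
given here as any family C of subalgebras satisfying the recursion. (The published statement is for
a finite morphism X → Y of schemes with Y Noetherian and O_Y → f_*O_X injective; this row is the
affine case.) -/
theorem result (A B : Type u) [CommRing A] [CommRing B] [Algebra A B]
    [IsNoetherianRing A] [Module.Finite A B] (hinj : Function.Injective (algebraMap A B))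
    (C : ℕ → Subalgebra A B) (h0 : C 0 = ⊤)
    (hstep : ∀ (i : ℕ) (b : B), b ∈ C (i + 1) ↔ ∃ hb : b ∈ C i,
      ((⟨b, hb⟩ : C i) ⊗ₜ[A] (1 : C i) : C i ⊗[A] C i) = (1 : C i) ⊗ₜ[A] (⟨b, hb⟩ : C i)) :
    ∃ m : ℕ, C m = ⊥ := by
  classical
  have hdec : ∀ i, C (i + 1) ≤ C i := fun i b hb => ((hstep i b).1 hb).choose
  let J : ℕ → Ideal A := fun i => (Subalgebra.toSubmodule (⊥ : Subalgebra A B)).colon (C i : Set B)
  have hJm : Monotone J := monotone_nat_of_le_succ fun i a ha =>
    Submodule.mem_colon.2 fun b hb => Submodule.mem_colon.1 ha b (hdec i hb)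
  obtain ⟨i0, hi0⟩ := monotone_stabilizes_iff_noetherian.2 (inferInstance : IsNoetherian A A) ⟨J, hJm⟩
  refine ⟨i0, eq_bot_iff.2 fun b hb => ?_⟩
  by_cases htop : J i0 = ⊤
  · simpa using Submodule.mem_colon.1 (htop ▸ Submodule.mem_top : (1 : A) ∈ J i0) b hb
  obtain ⟨p, hp⟩ := Ideal.nonempty_minimalPrimes htop
  have : p.IsPrime := hp.1.1
  exfalso
  obtain ⟨i, hi⟩ := exists_local_stable (fun n => Subalgebra.toSubmodule (C (i0 + n)))
    (Subalgebra.toSubmodule ⊥) (fun n => hdec (i0 + n)) (fun n => (bot_le : (⊥ : Subalgebra A B) ≤ C (i0 + n)))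
    p (J i0) (fun j hj b hb => Submodule.mem_colon.1 hj b hb) hp
  obtain ⟨T, hT⟩ : (Subalgebra.toSubmodule (C (i0 + i))).FG := IsNoetherian.noetherian _
  have hloc : ∀ b : C (i0 + i), ∃ t : A, t ∉ p ∧ t • (b : B) ∈ (⊥ : Subalgebra A B) := by
    apply exists_smul_mem_bot_of_local_epi
    intro d
    obtain ⟨s, hs, hsd⟩ := hi d.1 d.2
    obtain ⟨hb', heq⟩ := (hstep (i0 + i) _).1 hsd
    exact ⟨s, hs, heq⟩
  have hTC : ∀ x ∈ T, x ∈ C (i0 + i) := fun x hx => by
    rw [← Subalgebra.mem_toSubmodule, ← hT]; exact Submodule.subset_span hx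
  choose! t ht ht' using fun (x : B) (hx : x ∈ T) => hloc ⟨x, hTC x hx⟩
  have hprod : (∏ x ∈ T, t x) ∈ J (i0 + i) := Submodule.mem_colon.2 fun b hb => by
    change b ∈ Subalgebra.toSubmodule (C (i0 + i)) at hb
    rw [← hT] at hb
    induction hb using Submodule.span_induction with
    | mem x hx =>
      rw [← Finset.prod_erase_mul T t hx, mul_smul]
      exact (Subalgebra.toSubmodule ⊥).smul_mem _ (ht' x hx)
    | zero => rw [smul_zero]; exact zero_mem _
    | add x y _ _ hx hy => rw [smul_add]; exact add_mem hx hy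
    | smul a x _ hx => rw [smul_comm]; exact (Subalgebra.toSubmodule ⊥).smul_mem _ hx
  rw [show J (i0 + i) = J i0 from (hi0 (i0 + i) (Nat.le_add_right _ _)).symm] at hprod
  obtain ⟨x, hx, hxp⟩ := (Ideal.IsPrime.prod_mem_iff).1 (hp.1.2 hprod)
  exact ht x hx hxp

end Groth.Agent.S5663
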