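import Groth.Statements.S5667
import Groth.Agent.S5668
import Groth.Agent.Lib.VB17.Proper
import Groth.Agent.Lib.HilbObs3.Vanish
-- import your own Groth.Agent.* helpers here

set_option autoImplicit false
set_option backward.isDefEq.respectTransparency false
universe u
open CategoryTheory CategoryTheory.Limits AlgebraicGeometry
open ProjDual

namespace Groth.Agent.S5667

/-- Let `k` be an algebraically closed field and `X` a connected nonsingular projective variety of
dimension `n` over `k` — here: a connected `k`-scheme, smooth of relative dimension `n` over `k`,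
with a closed immersion into some projective space `P^r_k` over `k` — and let `L` be an `n`-th
exterior power of the sheaf of differentials of `X` over `k` (the sheaf of `n`-forms). Then `H^n(X,
L)` is a `k`-vector space of dimension `1`. (The source says more: the fundamental class of a point
is a basis; only the dimension is stated here.) -/
theorem result (k : Type u) [Field k] [IsAlgClosed k] (n r : ℕ) (X : Scheme.{u}) [X.Over (Spec (CommRingCat.of k))] [SmoothOfRelativeDimension n (X ↘ Spec (CommRingCat.of k))] [ConnectedSpace X] (ι : X ⟶ CohB1.ProjSpace r k) [IsClosedImmersion ι] (hι : ι ≫ CohB1.ProjSpace.toSpec r k = X ↘ Spec (CommRingCat.of k)) (L : X.Modules) (hL : ExtPow.IsExtPow n (Omega.sheaf (X ↘ Spec (CommRingCat.of k))) L) : Module.finrank k (Coh.HH X L n) = 1 := by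
  haveI := Groth.Agent.FundIso12.isProper_of_proj ι hι
  haveI : Smooth (X ↘ Spec (CommRingCat.of k)) := SmoothOfRelativeDimension.smooth n _
  let O := Coh.structureModule X
  have hO : PicF.IsInvertible O := _root_.PicLoc.isInvertible_structureModule X
  haveI : DCoh.HasSheafHom O := Groth.Agent.HilbObs3.hasSheafHom O
  obtain ⟨e⟩ := Groth.Agent.S5668.result k n r X ι hι L hL O (Groth.Agent.M2.isFinLocFree_of_isInvertible hO) 0
    (Nat.zero_le n)
  obtain ⟨a⟩ := Groth.Agent.ProjDual12.nonempty_ihom_invertible_iso hO (Groth.Agent.M2.tensorLUnit O) L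
  let b : (DCoh.sheafHom O).obj L ≅ L :=
    (Groth.Agent.CohMop.sheafHomIhomIso O).app L ≪≫ a ≪≫ Groth.Agent.M2.tensorRUnit L
  have h0 : Module.finrank k (Coh.HH X O 0) = 1 := Groth.Agent.VB17.h0_one_of_smooth (k := k) (X := X)
  have h1 := (e.trans (Groth.Agent.CurveCoh17.hequiv k b (n - 0))).finrank_eq
  rw [Subspace.dual_finrank_eq, h0, Nat.sub_zero] at h1
  exact h1.symm

end Groth.Agent.S5667
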