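import Groth.Statements.S5670
import Groth.Agent.Lib.FEtEq25.GlobalSections

set_option autoImplicit false
universe u
open Pi1

namespace Groth.Agent.S5670

open CategoryTheory CategoryTheory.Limits AlgebraicGeometry in
/-- Let `f : X → Y` be a proper morphism of Noetherian schemes such that `O_Y → f_* O_X` is an
isomorphism (bijective on sections over every open of `Y`). Then for every connected finite étale
`Y'` over `Y`, the base change `X ×_Y Y'` is connected; equivalently, `f` induces a surjection on
étale fundamental groups. -/
theorem result {X Y Y' : Scheme.{u}} (f : X ⟶ Y) [IsProper f] [IsNoetherian X] [IsNoetherian Y] (hf : ∀ U : Y.Opens, Function.Bijective (f.app U)) (g : Y' ⟶ Y) [IsFinite g] [Etale g] [ConnectedSpace Y'] : ConnectedSpace ↥(pullback f g) := by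
  have H := IsPullback.of_hasPullback f g
  have : Nonempty ↥(pullback f g) := by
    by_contra hh
    rw [not_nonempty_iff] at hh
    obtain ⟨y⟩ : Nonempty Y' := inferInstance
    have hbot : (⊤ : (pullback f g).Opens) = ⊥ :=
      TopologicalSpace.Opens.ext (Set.eq_empty_of_isEmpty _)
    have : Subsingleton Γ(pullback f g, ⊤) := by rw [hbot]; infer_instance
    have : Subsingleton Γ(Y', ⊤) :=
      (Groth.Agent.FEtEq25.bijective_appTop H hf).1.subsingleton
    apply one_ne_zero (α := Y'.presheaf.stalk y)
    rw [← map_one (Y'.presheaf.germ ⊤ y trivial).hom, Subsingleton.elim (1 : Γ(Y', ⊤)) 0, map_zero]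
  have : PreconnectedSpace ↥(pullback f g) := by
    rw [preconnectedSpace_iff_clopen]
    intro C hC
    obtain ⟨D, hD, rfl⟩ := Groth.Agent.FEtEq25.exists_clopen_of_app_bijective H hf C hC
    rcases isClopen_iff.1 hD with rfl | rfl <;> simp
  exact ⟨inferInstance⟩
end Groth.Agent.S5670
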