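import Groth.Statements.S5672
import Groth.Agent.Lib.ExtTop6.Basic
import Groth.Agent.Lib.Depth.CM

set_option autoImplicit false
universe u
open CategoryTheory
open Dual

namespace Groth.Agent.S5672

/-- Let `A` be a regular local ring of dimension `n`, `J` an ideal with `dim(A/J) ≤ n - p`, and `M` a
finite `A`-module with `JM = 0`. For `ξ ∈ Ext^p_A(M, A)` and an `A`-linear `u : A/J → M` write `u^*ξ
∈ Ext^p_A(A/J, A)` for the pullback. Then `ξ ↦ (u ↦ u^*ξ)` is injective, and every `A`-linear map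
`Hom_A(A/J, M) → Ext^p_A(A/J, A)` is of the form `u ↦ u^*ξ` for some `ξ`. Since `Hom_A(A/J, M) = M`
here, this says that the canonical map `Ext^p_A(M, A) → Hom_A(M, Ext^p_A(A/J, A))` is bijective. -/
theorem result (A : Type u) [CommRing A] [IsRegularLocalRing A] (p : ℕ) (J : Ideal A) (hJ : ringKrullDim (A ⧸ J) + p ≤ ringKrullDim A) (M : Type u) [AddCommGroup M] [Module A M] [Module.Finite A M] (hJM : J • (⊤ : Submodule A M) = ⊥) : Function.Injective (fun ξ : Abelian.Ext (ModuleCat.of A M) (ModuleCat.of A A) p => fun u : (A ⧸ J) →ₗ[A] M => (Abelian.Ext.mk₀ (ModuleCat.ofHom u)).comp ξ (zero_add p)) ∧ ∀ g : ((A ⧸ J) →ₗ[A] M) →ₗ[A] Abelian.Ext (ModuleCat.of A (A ⧸ J)) (ModuleCat.of A A) p, ∃ ξ : Abelian.Ext (ModuleCat.of A M) (ModuleCat.of A A) p, ∀ u : (A ⧸ J) →ₗ[A] M, g u = (Abelian.Ext.mk₀ (ModuleCat.ofHom u)).comp ξ (zero_add p) := by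
  have hdepth : (p : ℕ∞) ≤ LocCoh.idealDepth J A := by
    by_cases hJt : J = ⊤
    · simp [hJt, LocCoh.idealDepth]
    haveI : Nontrivial (A ⧸ J) := Ideal.Quotient.nontrivial_iff.2 hJt
    have h := DepthLib.supportDim_eq_quotient_add_idealDepth
      (DepthLib.isCohenMacaulayLocalRing_of_isRegularLocalRing (R := A)).supportDim_eq_depth hJt
    have hq : Module.supportDim A (A ⧸ J • (⊤ : Submodule A A)) = ringKrullDim (A ⧸ J) := by
      rw [Ideal.smul_top_eq_map, Algebra.algebraMap_self, Ideal.map_id]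
      exact Module.supportDim_quotient_eq_ringKrullDim J
    rw [Module.supportDim_self_eq_ringKrullDim, hq] at h
    rw [h] at hJ
    obtain ⟨d, hd⟩ := DepthLib.exists_ringKrullDim_quotient_eq_natCast J hJt
    rw [hd] at hJ
    have hJ' : ((((d : ℕ) + p : ℕ∞)) : WithBot ℕ∞) ≤ (((d : ℕ∞) + LocCoh.idealDepth J A : ℕ∞) : WithBot ℕ∞) := by
      rw [WithBot.coe_add, WithBot.coe_add]; exact hJ
    exact (ENat.add_le_add_iff_left (ENat.natCast_ne_top d)).1 (WithBot.coe_le_coe.1 hJ')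
  have hvan : ∀ (K : Type u) [AddCommGroup K] [Module A K] [Module.Finite A K],
      J • (⊤ : Submodule A K) = ⊥ → ∀ i < p,
        Subsingleton (Abelian.Ext (ModuleCat.of A K) (ModuleCat.of A A) i) := by
    intro K _ _ _ hK i hi
    refine DepthLib.subsingleton_ext_of_le_idealDepth hdepth (ModuleCat.of A K) ?_ hi
    rw [Module.support_eq_zeroLocus]
    exact PrimeSpectrum.zeroLocus_anti_mono fun a ha => Module.mem_annihilator.2 fun m =>
      (Submodule.mem_bot A).1 (hK ▸ Submodule.smul_mem_smul ha Submodule.mem_top)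
  refine ⟨fun x y hxy => sub_eq_zero.1 (ExtTop6.eq_zero_of_forall_pb hvan hJM _ fun u => ?_),
    fun g => ExtTop6.exists_class hvan hJM g⟩
  show (Abelian.Ext.mk₀ (ModuleCat.ofHom u)).comp (x - y) (zero_add p) = 0
  change (Abelian.Ext.mk₀ (ModuleCat.ofHom u)).precomp _ (zero_add p) (x - y) = 0
  rw [map_sub, sub_eq_zero]
  exact congrFun hxy u

end Groth.Agent.S5672
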