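import Groth.Statements.S5674
import Groth.Agent.Lib.SmDim19.Basic
import Groth.Agent.S12885
import Groth.Agent.S11919
import Groth.Agent.Lib.SpSeqEasy8.Basic
import Groth.Agent.Lib.Depth.SkOps
import Groth.Agent.Lib.Depth.More
import Groth.Agent.Lib.Depth.CM
import Groth.Agent.Lib.RegLoc.Basic
import Groth.Agent.Lib.CohMop.HomCoh
import Groth.Agent.Lib.SmoothReg17.Basic
import Groth.Agent.Lib.ModM1.LocFree
import Groth.Agent.Lib.CohFound.ModulesInst
-- import your own Groth.Agent.* helpers here

set_option autoImplicit false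
universe u
open CategoryTheory CategoryTheory.Limits AlgebraicGeometry
open ProjDual

namespace Groth.Agent.S5674

open CategoryTheory.Limits
theorem idealDepth_free_ge {A : Type u} [CommRing A] [IsRegularLocalRing A] (M : Type u) [AddCommGroup M]
    [Module A M] [Module.Free A M] [Module.Finite A M] (p : ℕ) (hp : (p : WithBot ℕ∞) ≤ ringKrullDim A) :
    (p : ℕ∞) ≤ LocCoh.depth A M := by
  have hcm := DepthLib.isCohenMacaulayLocalRing_of_isRegularLocalRing (R := A)
  have h := hcm.supportDim_eq_depth
  rw [Module.supportDim_self_eq_ringKrullDim] at h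
  rw [h] at hp
  have h1 : (p : ℕ∞) ≤ LocCoh.depth A A := by exact_mod_cast hp
  refine h1.trans ((DepthLib.idealDepth_le_pi (M := A) (IsLocalRing.maximalIdeal A) (Module.finrank A M)).trans
    (DepthLib.idealDepth_congr (Module.finBasis A M).equivFun.symm).le)

theorem isZero_of_top_eq_bot {C : Type*} [Category C] [Abelian C] {Z : C} (h : (⊤ : Subobject Z) = ⊥) :
    IsZero Z := by
  refine IsZero.of_iso ?_ (asIso (⊤ : Subobject Z).arrow).symm
  rw [h]
  exact (isZero_zero _).of_iso Subobject.botCoeIsoZero

theorem subsingleton_sheafH_of_isZero {X : Scheme.{u}} {M : X.Modules} (h : IsZero M) (q : ℕ) :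
    Subsingleton (Coh.HH X M q) := by
  have h' : IsZero (Coh.toAb M) := Functor.map_isZero _ h
  exact subsingleton_of_forall_eq 0 fun e => by
    rw [← Abelian.Ext.comp_mk₀_id e, h'.eq_of_src (𝟙 _) 0, Abelian.Ext.mk₀_zero, Abelian.Ext.comp_zero]


set_option linter.style.haveILetI false
set_option backward.isDefEq.respectTransparency.types false


/-- Let `k` be an algebraically closed field, `X` a nonsingular algebraic set of dimension `n` over `k`
— here: a quasi-compact `k`-scheme smooth of relative dimension `n` over `k` — `F` a coherent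
`O_X`-module whose support has dimension at most `n - p`, and `L` a finite locally free
`O_X`-module. Then the (global) groups `Ext^i_{O_X}(F, L)` vanish for `i < p`. (All components of
`X` have dimension `n`; for a nonsingular algebraic set with a component of smaller dimension the
conclusion fails. The Ext instance on the category of `O_X`-modules is taken as a hypothesis; it
holds since that category is Grothendieck abelian.) -/
theorem result (k : Type u) [Field k] [IsAlgClosed k] (n : ℕ) (X : Scheme.{u}) [X.Over (Spec (CommRingCat.of k))] [SmoothOfRelativeDimension n (X ↘ Spec (CommRingCat.of k))] [CompactSpace X] [HasExt.{u} X.Modules] (F : X.Modules) (hF : Coh.IsCoh F) (L : X.Modules) (hL : FlatMod.IsFinLocFree L) (p : ℕ) (hsupp : topologicalKrullDim ↥(CohB1.support F) + p ≤ n) (i : ℕ) (hi : i < p) : Subsingleton (Abelian.Ext F L i) := by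
  classical
let f := X ↘ Spec (CommRingCat.of k)
haveI hsm : Smooth f := SmoothOfRelativeDimension.smooth n f
haveI : IsLocallyNoetherian X := LocallyOfFiniteType.isLocallyNoetherian f
haveI hLP : ∀ M : X.Modules, ModSite.HasSheafHom (O := X.sheaf) M := fun M => CohMop.isLeftAdjoint_tenR M
haveI : HasInjectiveResolutions (ModSite.Mod X.sheaf) := CohFound.hasInjectiveResolutions_modules X
haveI := hF.1
have hcl : IsClosed (CohB1.support F) := M1.isClosed_support hF.2
let U : X.Opens := ⟨(CohB1.support F)ᶜ, hcl.isOpen_compl⟩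
have hfp := M1.isFP_of_isFinLocFree hL
have hLc : Coh.IsCoh L := ⟨M1.isFP_isQCoh hfp, M1.isFP_isFT hfp⟩
have hdepth : ∀ x : X, x ∉ (U : Set X) → (p : ℕ∞) ≤ LocCoh.depth (X.presheaf.stalk x) (L.presheaf.stalk x) := by
  intro x hx
  have hxs : x ∈ CohB1.support F := not_not.1 hx
  haveI : IsRegularLocalRing (X.presheaf.stalk x) := SmoothReg17.isRegularLocalRing_stalk f x
  haveI := ((M1.isFinLocFree_iff L).1 hL).2 x
  haveI := M1.finite_stalk hLc.1 hLc.2 x
  have hle : topologicalKrullDim (closure ({x} : Set X)) ≤ topologicalKrullDim ↥(CohB1.support F) :=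
    Topology.IsInducing.topologicalKrullDim_le (f := Set.inclusion (hcl.closure_subset_iff.2 (Set.singleton_subset_iff.2 hxs)))
      (Topology.IsInducing.of_comp (continuous_inclusion _) continuous_subtype_val Topology.IsInducing.subtypeVal)
  refine idealDepth_free_ge _ p ?_
  rw [VarDim.dim_closure_singleton f] at hle
  have hn : VarDim.sdim f x + p ≤ n := by
    have h2 : ((VarDim.sdim f x + p : ℕ) : WithBot ℕ∞) ≤ n := by
      push_cast
      exact (add_le_add hle le_rfl).trans hsupp
    exact_mod_cast h2
  refine le_trans ?_ (SmDim19.le_ringKrullDim_stalk f n x (VarDim.sdim f x) (VarDim.dim_closure_singleton f x).le)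
  exact_mod_cast (show p ≤ n - VarDim.sdim f x by omega)
have hsh : ∀ q, q < p → IsZero ((ModSite.extSh (O := X.sheaf) F q).obj L) :=
  (S12885.result X U L hLc p).1 hdepth F hF fun x hx hxU => hxU hx
obtain ⟨E, a, hfin, -, hE⟩ := S11919.result X F L
have hpage : ∀ s t : ℤ, s + t = (i : ℤ) → IsZero ((E.page 2 le_rfl).X (s, t)) := by
  intro s t hst
  obtain ⟨e⟩ := hE s t
  refine IsZero.of_iso ?_ e
  split_ifs with h
  · haveI := subsingleton_sheafH_of_isZero (hsh t.toNat (by omega)) s.toNat
    exact AddCommGrpCat.isZero_of_subsingleton _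
  · exact isZero_zero _
obtain ⟨⟨x₀, hx₀⟩, ⟨y₀, hy₀⟩⟩ := hfin (i : ℤ)
have hstep : ∀ s : ℤ, a.fil i s = a.fil i (s + 1) := fun s =>
  SpSeqEasy8.fil_eq_succ a i s 2 le_rfl (hpage s _ (by omega))
have hconst : ∀ s t : ℤ, a.fil i s = a.fil i t := fun s t => by
  rcases le_total s t with h | h
  · exact SpSeqEasy8.eq_of_steps _ h fun z _ _ => hstep z
  · exact (SpSeqEasy8.eq_of_steps _ h fun z _ _ => hstep z).symm
have hz := isZero_of_top_eq_bot (hx₀.symm.trans ((hconst x₀ y₀).trans hy₀))
dsimp only [SpSeq.Abutment.filObj] at hz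
rw [if_pos (by omega : (0 : ℤ) ≤ i), Int.toNat_natCast] at hz
exact AddCommGrpCat.subsingleton_of_isZero hz

end Groth.Agent.S5674
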