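import Groth.Statements.S5675
import Groth.Agent.Lib.ExtTopForms9.Basic
-- import your own Groth.Agent.* helpers here

set_option autoImplicit false
universe u
open CategoryTheory
open Dual

namespace Groth.Agent.S5675

/-- Let `k` be a perfect field, `A` a regular affine `k`-algebra of dimension `n` — here: `A` finitely
generated and smooth over `k` with `Ω_{A/k}` of rank `n` at every prime — and `xs = (x_1, …, x_p)`,
`p ≤ n`, a sequence with each `x_i` a non-zero-divisor on `A/(x_1, …, x_{i-1})`, generating an ideal
`J` such that `A/J` is again a regular (smooth) affine `k`-algebra. Write `Ω^m` for `m`-th exterior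
powers of Kähler differentials. Then `Ext^p_A(Ω^(n-p)(A/J), Ω^n(A))` is isomorphic to `A/J` as an
`A`-module. (Existence of an `A`-linear isomorphism only; the published one is canonical and
compatible with localisation, its unit being the fundamental class of `J` in `A`.) -/
theorem result (k : Type u) [Field k] [PerfectField k] (A : Type u) [CommRing A] [Algebra k A] [Algebra.FiniteType k A] [Algebra.Smooth k A] (n : ℕ) (hn : ∀ q : PrimeSpectrum A, Module.rankAtStalk (Ω[A⁄k]) q = n) (xs : List A) (hreg : RingTheory.Sequence.IsWeaklyRegular A xs) (J : Ideal A) (hJ : Ideal.ofList xs = J) [Algebra.Smooth k (A ⧸ J)] (p : ℕ) (hp : xs.length = p) (hpn : p ≤ n) : Nonempty (Abelian.Ext (ModuleCat.of A ↥((⋀[A ⧸ J]^(n - p) (Ω[(A ⧸ J)⁄k])).restrictScalars A)) (ModuleCat.of A ↥(⋀[A]^n (Ω[A⁄k]))) p ≃ₗ[A] (A ⧸ J)) := by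
  subst hp
  exact ExtTopForms9.ext_top_forms k A n hn xs hreg J hJ hpn

end Groth.Agent.S5675
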