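import Groth.Statements.S5678
import Groth.Agent.Lib.GrpNeutral20.Tau
-- import your own Groth.Agent.* helpers here

set_option autoImplicit false
universe u
open CategoryTheory CategoryTheory.Limits MonoidalCategory CartesianMonoidalCategory MonObj GrpObj AlgebraicGeometry
open FGA

namespace Groth.Agent.S5678

/-- Let S be a locally Noetherian scheme and G a commutative group scheme locally of finite type over S.
If the union of the connected components of the identity in the fibres of G is closed in G, then so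
is the set of points x of G such that some power x^n, n ≥ 1, lies in that union. -/
theorem result (S : Scheme.{u}) [IsLocallyNoetherian S] (G : Over S) [GrpObj G]
    [IsCommMonObj G] [LocallyOfFiniteType G.hom] (h0 : IsClosed (SGA3x.neutralSet G)) :
    IsClosed {x : ↥G.left | ∃ n : ℕ, 0 < n ∧ ((𝟙 G : G ⟶ G) ^ n).left.base x ∈ SGA3x.neutralSet G} := by
  have hnat : ∀ (n : ℕ) (x : G.left), G.hom (((𝟙 G : G ⟶ G) ^ n).left x) = G.hom x := fun n x => by
    rw [← Scheme.Hom.comp_apply, Over.w ((𝟙 G : G ⟶ G) ^ n)]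
  haveI : IsLocallyNoetherian G.left := LocallyOfFiniteType.isLocallyNoetherian G.hom
  refine Groth.Agent.GrpNeutral20.isClosed_of_specializes _ ?_ ?_
  · rintro x y hxy ⟨n, hn, hnx⟩
    exact ⟨n, hn, (hxy.map ((𝟙 G : G ⟶ G) ^ n).left.continuous).mem_closed h0 hnx⟩
  · intro x hx
    obtain ⟨O, hxO, hO⟩ := Groth.Agent.GrpNeutral20.exists_nhd_reflect G (G.hom x)
    refine ⟨G.hom ⁻¹' (O : Set S), O.2.preimage G.hom.continuous, hxO, ?_⟩
    rintro y hy hxy ⟨n, hn, hny⟩
    exact hx ⟨n, hn, hO _ _ (hxy.map ((𝟙 G : G ⟶ G) ^ n).left.continuous) (hnat n x)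
      (by rw [hnat n y]; exact hy) hny⟩

end Groth.Agent.S5678
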