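import Groth.Statements.S5679
import Groth.Agent.Lib.GrpNeutral20.OpenOver
-- import your own Groth.Agent.* helpers here

set_option autoImplicit false
universe u
open CategoryTheory CategoryTheory.Limits MonoidalCategory CartesianMonoidalCategory MonObj GrpObj AlgebraicGeometry
open FGA

namespace Groth.Agent.S5679

/-- Let S be a nonempty locally Noetherian scheme and G a group scheme locally of finite type over S.
Then there are a nonempty open subset U of S, a group scheme H of finite type over U with connected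
fibres, and a homomorphism from H to the base change of G to U which is an open immersion and whose
image in G is the set of points lying over U in the union of the connected components of the
identity of the fibres of G. -/
theorem result (S : Scheme.{u}) [IsLocallyNoetherian S] [Nonempty ↥S]
    (G : Over S) [GrpObj G] [LocallyOfFiniteType G.hom] :
    ∃ U : S.Opens, (U : Set ↥S).Nonempty ∧
      ∃ (H : Over (U : Scheme.{u})) (_ : GrpObj H) (i : H ⟶ Red.bc U.ι G), IsMonHom i ∧ IsOpenImmersion i.left ∧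
        QuasiCompact H.hom ∧ LocallyOfFiniteType H.hom ∧
        (∀ u : ↥(U : Scheme.{u}), _root_.IsConnected (H.hom.base ⁻¹' {u})) ∧
        Set.range (i.left ≫ pullback.fst G.hom U.ι).base = SGA3x.neutralSet G ∩ G.hom.base ⁻¹' (U : Set ↥S) := by
  obtain ⟨V, hV, ho⟩ := Groth.Agent.GrpNeutral20.exists_open_isOpen G
  refine ⟨V, hV, ?_⟩
  let G' := Red.bc V.ι G
  let q : G'.left ⟶ G.left := pullback.fst G.hom V.ι
  haveI : LocallyOfFiniteType G'.hom := inferInstanceAs (LocallyOfFiniteType (pullback.snd G.hom V.ι))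
  have hqV : ∀ z : G'.left, G.hom (q z) = V.ι (G'.hom z) := fun z => by
    show (pullback.fst G.hom V.ι ≫ G.hom) z = (pullback.snd G.hom V.ι ≫ V.ι) z
    rw [pullback.condition]
  have hN' : IsOpen (SGA3x.neutralSet G') := by
    have e : SGA3x.neutralSet G' = q ⁻¹' (SGA3x.neutralSet G ∩ G.hom ⁻¹' (V : Set S)) := by
      rw [Groth.Agent.GrpNeutral20.neutralSet_bc]
      ext z
      exact ⟨fun h => ⟨h, show G.hom (q z) ∈ V from (hqV z).symm ▸ (G'.hom z).2⟩, fun h => h.1⟩
    rw [e]
    exact ho.preimage q.continuous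
  obtain ⟨H, hH, i, hi, hio, hlft, hrange⟩ := Groth.Agent.GrpNeutral20.exists_subgroup_of_isOpen G' hN'
  haveI := hio
  haveI := hlft
  haveI : IsLocallyNoetherian G'.left := LocallyOfFiniteType.isLocallyNoetherian G'.hom
  have hw : ∀ x, H.hom x = G'.hom (i.left x) := fun x => by rw [← Scheme.Hom.comp_apply, Over.w i]
  refine ⟨H, hH, i, hi, hio, ?_, hlft, fun p => ?_, ?_⟩
  · refine quasiCompact_iff_forall_isAffineOpen.2 fun U hU => ?_
    haveI : IsAffine U.toScheme := hU
    haveI : LocallyOfFiniteType (Red.bc U.ι G').hom :=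
      inferInstanceAs (LocallyOfFiniteType (pullback.snd G'.hom U.ι))
    obtain ⟨W, hW, hsub⟩ := Groth.Agent.GrpNeutral20.exists_isCompact_open (Red.bc U.ι G')
      (Groth.Agent.GrpNeutral20.lft_fibres _)
    let r : (Red.bc U.ι G').left ⟶ G'.left := pullback.fst G'.hom U.ι
    haveI : IsOpenImmersion r := inferInstanceAs (IsOpenImmersion (pullback.fst G'.hom U.ι))
    let W' : G'.left.Opens := r ''ᵁ W
    haveI : CompactSpace W'.toScheme := isCompact_iff_compactSpace.1 (hW.image r.continuous)
    haveI : IsLocallyNoetherian W'.toScheme := LocallyOfFiniteType.isLocallyNoetherian W'.ι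
    haveI : AlgebraicGeometry.IsNoetherian W'.toScheme := {}
    have hsub' : i.left '' (H.hom ⁻¹ᵁ U : Set H.left) ⊆ W' := by
      rintro _ ⟨x, hx, rfl⟩
      have hxU : G'.hom (i.left x) ∈ U := hw x ▸ hx
      obtain ⟨z, hz, -⟩ := Scheme.Pullback.exists_preimage_pullback (f := G'.hom) (g := U.ι) (i.left x) ⟨_, hxU⟩ rfl
      refine ⟨z, hsub ?_, hz⟩
      rw [Groth.Agent.GrpNeutral20.neutralSet_bc]
      show r z ∈ SGA3x.neutralSet G'
      rw [show r z = i.left x from hz, ← hrange]
      exact ⟨x, rfl⟩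
    rw [i.left.isOpenEmbedding.isInducing.isCompact_iff]
    have h := (TopologicalSpace.NoetherianSpace.isCompact (W'.ι ⁻¹' (i.left '' (H.hom ⁻¹ᵁ U : Set H.left)))).image
      W'.ι.continuous
    rwa [Set.image_preimage_eq_of_subset (by rw [Scheme.Opens.range_ι]; exact hsub')] at h
  · rw [← i.left.isOpenEmbedding.isInducing.isPreconnected_image.trans Iff.rfl |> fun e =>
      (⟨fun h => ⟨h.1.of_image, e.1 h.2⟩, fun h => ⟨h.1.image _, e.2 h.2⟩⟩ :
        _root_.IsConnected (i.left '' (H.hom ⁻¹' {p})) ↔ _root_.IsConnected (H.hom ⁻¹' {p}))]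
    have e : i.left '' (H.hom ⁻¹' {p}) = SGA3x.neutralSet G' ∩ G'.hom ⁻¹' {p} := by
      rw [← hrange]
      ext y
      constructor
      · rintro ⟨x, hx, rfl⟩
        exact ⟨⟨x, rfl⟩, (hw x).symm.trans hx⟩
      · rintro ⟨⟨x, rfl⟩, hx⟩
        exact ⟨x, (hw x).trans hx, rfl⟩
    rw [e]
    exact Groth.Agent.GrpNeutral20.isConnected_inter_fibre G' p
  · show Set.range (i.left ≫ q) = _
    rw [Scheme.Hom.comp_base, TopCat.coe_comp, Set.range_comp, hrange, Groth.Agent.GrpNeutral20.neutralSet_bc]
    ext x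
    constructor
    · rintro ⟨z, hz, rfl⟩
      exact ⟨hz, show G.hom (q z) ∈ V from (hqV z).symm ▸ (G'.hom z).2⟩
    · rintro ⟨hx, hxV⟩
      obtain ⟨z, hz, -⟩ := Scheme.Pullback.exists_preimage_pullback (f := G.hom) (g := V.ι) x ⟨_, hxV⟩ rfl
      exact ⟨z, show q z ∈ _ from hz.symm ▸ hx, hz⟩

end Groth.Agent.S5679
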