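import Groth.Statements.S5680
import Groth.Agent.Lib.FGA3.TorsionLift

set_option autoImplicit false
universe u
open CategoryTheory CategoryTheory.Limits AlgebraicGeometry
open FGA

namespace Groth.Agent.S5680

/-- Let A be an artinian local ring with maximal ideal m and ν ≥ 1 an integer with m^(ν+1) = 0; let X be
a scheme proper and flat over Spec A, n a natural number whose image in the residue field of A is
nonzero, L an invertible module on X and L' an invertible module on the closed subscheme X ×_A
Spec(A/m^ν) whose n-th tensor power is isomorphic to the pullback of L. Then there is an invertible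
module M on X whose n-th tensor power is isomorphic to L (existence of an isomorphism). -/
theorem result (A : Type u) [CommRing A] [IsArtinianRing A] [IsLocalRing A]
    (ν : ℕ) (hν : 1 ≤ ν) (hm : IsLocalRing.maximalIdeal A ^ (ν + 1) = ⊥)
    (X : Scheme.{u}) (f : X ⟶ Spec (CommRingCat.of A)) [IsProper f] [Flat f]
    (n : ℕ) (hn : (n : IsLocalRing.ResidueField A) ≠ 0)
    (L : X.Modules) (hL : PicF.IsInvertible L)
    (L' : (pullback f (Spec.map (CommRingCat.ofHom (Ideal.Quotient.mk (IsLocalRing.maximalIdeal A ^ ν))))).Modules)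
    (hL' : PicF.IsInvertible L')
    (hroot : Nonempty (CohB1.tensorPow L' n ≅
      (Scheme.Modules.pullback (pullback.fst f (Spec.map (CommRingCat.ofHom (Ideal.Quotient.mk (IsLocalRing.maximalIdeal A ^ ν)))))).obj L)) :
    ∃ M : X.Modules, PicF.IsInvertible M ∧ Nonempty (CohB1.tensorPow M n ≅ L) := by
  let φ := CommRingCat.ofHom (Ideal.Quotient.mk (IsLocalRing.maximalIdeal A ^ ν))
  haveI : IsClosedImmersion (Spec.map φ) := IsClosedImmersion.spec_of_surjective φ Ideal.Quotient.mk_surjective
  have hJ : (Spec.map φ).ker * (Spec.map φ).ker = ⊥ := by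
    refine Scheme.IdealSheafData.ext_of_isAffine ?_
    simp only [Scheme.IdealSheafData.ideal_mul, Pi.mul_apply, Scheme.Hom.ker_apply, Scheme.IdealSheafData.ideal_bot, Pi.bot_apply]
    refine le_bot_iff.1 (Ideal.mul_le.2 fun a ha b hb => ?_)
    have h : ∀ a : Γ(Spec (CommRingCat.of A), ⊤), a ∈ RingHom.ker ((Spec.map φ).app ⊤).hom →
        (Scheme.ΓSpecIso (CommRingCat.of A)).hom a ∈ IsLocalRing.maximalIdeal A ^ ν := fun a ha => by
      rw [← Ideal.Quotient.eq_zero_iff_mem]
      have h := ConcreteCategory.congr_hom (Scheme.ΓSpecIso_naturality φ) a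
      refine h.symm.trans ?_
      show (Scheme.ΓSpecIso _).hom ((Spec.map φ).app ⊤ a) = 0
      exact (congrArg (Scheme.ΓSpecIso _).hom (RingHom.mem_ker.1 ha)).trans (map_zero (Scheme.ΓSpecIso _).hom.hom)
    refine (Scheme.ΓSpecIso (CommRingCat.of A)).commRingCatIsoToRingEquiv.injective ?_
    show (Scheme.ΓSpecIso (CommRingCat.of A)).hom (a * b) = (Scheme.ΓSpecIso (CommRingCat.of A)).hom 0
    rw [map_zero, map_mul]
    have hb2 := Ideal.mul_mem_mul (h a ha) (h b hb)
    rw [← pow_add] at hb2
    have := Ideal.pow_le_pow_right (show ν + 1 ≤ ν + ν by omega) hb2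
    rwa [hm, Ideal.mem_bot] at this
  have hI : (pullback.fst f (Spec.map φ)).ker * (pullback.fst f (Spec.map φ)).ker = ⊥ := by
    rw [Scheme.IdealSheafData.ker_fst_of_isClosedImmersion, ← Groth.Agent.EffCartier.comap_mul, hJ, Scheme.IdealSheafData.comap_bot]
  have hnA : IsUnit (n : A) := by
    by_contra h
    exact hn ((map_natCast (IsLocalRing.residue A) n).symm.trans
      ((IsLocalRing.residue_eq_zero_iff _).2 ((IsLocalRing.mem_maximalIdeal _).2 h)))
  have hnX : IsUnit (n : Γ(X, ⊤)) := by
    have h := (hnA.map (Scheme.ΓSpecIso (CommRingCat.of A)).inv.hom).map f.appTop.hom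
    rwa [map_natCast, map_natCast] at h
  exact Groth.Agent.FGA3.exists_root_lift' (pullback.fst f (Spec.map φ)) hI hnX hL hL' hroot.some

end Groth.Agent.S5680
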