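import Groth.Statements.S5682
import Groth.Agent.Lib.SemiNhd19.Ext
import Groth.Agent.Lib.Semiab15.Apps
import Groth.Agent.Lib.Chevalley25.Component
import Groth.Agent.Lib.BorelFix21.Stabilizer
import Groth.Agent.Lib.BorelFix21.BaseChange
import Mathlib.AlgebraicGeometry.Morphisms.UniversallyOpen
import Groth.Agent.Lib.PtSet.Components
import Groth.Agent.Lib.GrpNeutral20.Gen

set_option autoImplicit false
universe u
open CategoryTheory CategoryTheory.Limits MonoidalCategory CartesianMonoidalCategory MonObj GrpObj AlgebraicGeometry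
open FGA

namespace Groth.Agent.S5682

set_option linter.style.haveILetI false
set_option backward.isDefEq.respectTransparency false
set_option backward.isDefEq.respectTransparency.types false

/-- A smooth subgroup with the same underlying space has a neutral component covering that of the group. -/
theorem exists_smooth_neutral {k : Type u} [Field k] {G H : Over (Spec (CommRingCat.of k))} [GrpObj G] [GrpObj H]
    (r : H ⟶ G) [IsMonHom r] [IsClosedImmersion r.left] [Surjective r.left] [Smooth H.hom] [QuasiCompact G.hom]
    (pt : ↥(Spec (CommRingCat.of k))) :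
    ∃ (H₀ : Over (Spec (CommRingCat.of k))) (_ : GrpObj H₀) (i : H₀ ⟶ G), IsMonHom i ∧ IsClosedImmersion i.left ∧
      Smooth H₀.hom ∧ QuasiCompact H₀.hom ∧ ConnectedSpace ↥H₀.left ∧
      Set.range i.left.base = connectedComponent (η[G].left.base pt) := by
  haveI : QuasiCompact H.hom := by rw [← Over.w r]; infer_instance
  obtain ⟨H₀, _, j, hj, hjo, hjc, hs, hq, hn⟩ := Groth.Agent.Chevalley25.exists_neutral H
  haveI := hj; haveI := hjo; haveI := hjc; haveI := hn
  haveI : IsClosedImmersion (j ≫ r).left := by rw [Over.comp_left]; infer_instance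
  refine ⟨H₀, inferInstance, j ≫ r, inferInstance, inferInstance, hs, hq, hn, ?_⟩
  let e : H.left ≃ₜ G.left :=
    r.left.isClosedEmbedding.isEmbedding.toHomeomorphOfSurjective r.left.surjective
  have hr : Set.range (j ≫ r).left.base = e '' Set.range j.left.base := by
    rw [Over.comp_left, Scheme.Hom.comp_base, TopCat.coe_comp, Set.range_comp]; rfl
  refine Set.Subset.antisymm ?_ ?_
  · exact (isPreconnected_range (j ≫ r).left.continuous).subset_connectedComponent
      ⟨η[H₀].left.base pt, by rw [← Scheme.Hom.comp_apply, ← Over.comp_left, IsMonHom.one_hom]⟩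
  · rw [hr]
    refine (IsClopen.connectedComponent_subset ⟨?_, ?_⟩ ?_)
    · exact e.isClosedMap _ j.left.isClosedEmbedding.isClosed_range
    · exact e.isOpenMap _ j.left.isOpenEmbedding.isOpen_range
    · rw [← hr]
      exact ⟨η[H₀].left.base pt, by rw [← Scheme.Hom.comp_apply, ← Over.comp_left, IsMonHom.one_hom]⟩

/-- Let k be a field and G a commutative group scheme of finite type over k such that the base change of
G to an algebraic closure of k contains no closed subgroup scheme isomorphic to the additive group.
Then there is a closed subgroup scheme H of G which is smooth over k and whose underlying set is the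
connected component of the identity point of G; in other words the reduced identity component of G
is a smooth subgroup scheme. -/
theorem result (k : Type u) [Field k]
    (G : Over (Spec (CommRingCat.of k))) [GrpObj G] [IsCommMonObj G] [LocallyOfFiniteType G.hom] [QuasiCompact G.hom]
    (hGa : ∀ pt : ↥(Spec (CommRingCat.of k)), SGA7.FibreUnipotentRankZero pt G)
    (pt : ↥(Spec (CommRingCat.of k))) :
    ∃ (H : Over (Spec (CommRingCat.of k))) (_ : GrpObj H) (i : H ⟶ G), IsMonHom i ∧ IsClosedImmersion i.left ∧
      Smooth H.hom ∧ Set.range i.left.base = connectedComponent (η[G].left.base pt) := by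
  obtain ⟨p, hp⟩ := CharP.exists k
  rcases CharP.char_is_prime_or_zero k p with hpp | rfl
  swap
  · haveI : CharZero k := CharP.charP_to_charZero k
    obtain ⟨H, _, r, hr, hrc, hrs, -, hHs⟩ := Groth.Agent.BorelFix21.exists_reduced_subgroup G
    haveI := hr; haveI := hrc; haveI := hrs; haveI := hHs
    obtain ⟨H₀, g, i, h1, h2, h3, -, -, h4⟩ := exists_smooth_neutral r pt
    exact ⟨H₀, g, i, h1, h2, h3, h4⟩
  haveI := Fact.mk hpp
  obtain ⟨n, I, _, m, π, hn, hm, hmc, hπ, hπm, hI⟩ := Groth.Agent.Semiab15.exists_pow_image p G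
  haveI := hm; haveI := hmc
  haveI : LocallyOfFiniteType I.hom := by rw [← Over.w m]; infer_instance
  haveI : QuasiCompact I.hom := by rw [← Over.w m]; infer_instance
  obtain ⟨hIs, hIc⟩ := Groth.Agent.Semiab15.isSA_smooth_connected hI
  haveI := hIs; haveI := hIc
  refine ⟨I, inferInstance, m, hm, hmc, hIs, Set.Subset.antisymm ?_ ?_⟩
  · exact (isPreconnected_range m.left.continuous).subset_connectedComponent
      ⟨η[I].left.base pt, by rw [← Scheme.Hom.comp_apply, ← Over.comp_left, IsMonHom.one_hom]⟩
  let L := AlgebraicClosure ((Spec (CommRingCat.of k)).residueField pt)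
  let φ := Red.geomPt pt
  let GK := Red.geomFibre pt G
  haveI : LocallyOfFiniteType GK.hom := inferInstanceAs (LocallyOfFiniteType (pullback.snd G.hom φ))
  haveI : QuasiCompact GK.hom := inferInstanceAs (QuasiCompact (pullback.snd G.hom φ))
  haveI : IsCommMonObj GK := inferInstanceAs (IsCommMonObj (Red.bc φ G))
  obtain ⟨H, _, r, hr, hrc, hrs, -, hHs⟩ := Groth.Agent.BorelFix21.exists_reduced_subgroup GK
  haveI := hr; haveI := hrc; haveI := hrs; haveI := hHs
  let ptK : ↥(Spec (CommRingCat.of L)) := IsLocalRing.closedPoint L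
  obtain ⟨H₀, _, i, hi, hic, hs₀, hq₀, hn₀, hrange⟩ := exists_smooth_neutral r ptK
  haveI := hi; haveI := hic; haveI := hs₀; haveI := hq₀; haveI := hn₀
  haveI : Mono i := Over.mono_of_mono_left i
  haveI := Groth.Agent.AbelGrp20.isCommMonObj_of_mono i
  have hSA : Groth.Agent.Semiab15.IsSA H₀ := Groth.Agent.SemiNhd19.isSA_of_noGa fun j hj hjc => by
    haveI := hj; haveI := hjc
    exact hGa pt (j ≫ i) inferInstance (inferInstanceAs (IsClosedImmersion (j.left ≫ i.left)))
  obtain ⟨-, hpow⟩ := Groth.Agent.Semiab15.flat_surjective_pow hSA hn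
  haveI := hpow
  let f : pullback G.hom φ ⟶ G.left := pullback.fst G.hom φ
  haveI : IsIntegralHom φ := by
    haveI : IsClosedImmersion ((Spec (CommRingCat.of k)).fromSpecResidueField pt) :=
      IsClosedImmersion.of_isPreimmersion _ (by
        rw [Scheme.range_fromSpecResidueField]
        convert isClosed_univ
        exact Set.eq_univ_of_forall fun x => Subsingleton.elim (α := PrimeSpectrum k) _ _)
    haveI : IsIntegralHom (Spec.map (CommRingCat.ofHom (algebraMap ((Spec (CommRingCat.of k)).residueField pt) L))) :=
      IsIntegralHom.SpecMap_iff.2 (algebraMap_isIntegral_iff.2 inferInstance)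
    exact inferInstanceAs (IsIntegralHom (_ ≫ _))
  haveI : IsIntegralHom f := MorphismProperty.pullback_fst _ _ ‹IsIntegralHom φ›
  haveI : UniversallyOpen φ := inferInstance
  haveI : UniversallyOpen f := MorphismProperty.pullback_fst _ _ ‹UniversallyOpen φ›
  have hone : f.base (η[GK].left.base ptK) = η[G].left.base pt := by
    show (η[Red.bc φ G].left ≫ pullback.fst G.hom φ).base ptK = _
    rw [Groth.Agent.GrpNeutral20.unit_fst, Scheme.Hom.comp_apply]
    congr 1
    exact Subsingleton.elim (α := PrimeSpectrum k) _ _
  have hsub : connectedComponent (η[G].left.base pt) ⊆ f.base '' connectedComponent (η[GK].left.base ptK) := by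
    haveI : IsLocallyNoetherian GK.left := LocallyOfFiniteType.isLocallyNoetherian GK.hom
    haveI : CompactSpace GK.left := (quasiCompact_iff_compactSpace GK.hom).1 inferInstance
    haveI : IsNoetherian GK.left := {}
    haveI : TopologicalSpace.NoetherianSpace GK.left := inferInstance
    haveI : LocallyConnectedSpace GK.left :=
      Groth.Agent.PtSet.locallyConnectedSpace_of_noetherian_nhds fun x => ⟨Set.univ, Filter.univ_mem, inferInstance⟩
    have ho : IsOpen (connectedComponent (η[GK].left.base ptK)) := isOpen_connectedComponent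
    exact IsClopen.connectedComponent_subset ⟨f.isClosedMap _ isClosed_connectedComponent, f.isOpenMap _ ho⟩
      ⟨_, mem_connectedComponent, hone⟩
  intro x hx
  obtain ⟨y, hy, rfl⟩ := hsub hx
  rw [← hrange] at hy
  obtain ⟨z, rfl⟩ := hy
  obtain ⟨w, rfl⟩ := (𝟙 H₀ ^ n).left.surjective z
  have e : (𝟙 H₀ ^ n) ≫ i = (i ≫ (Over.pullback φ).map π) ≫ (Over.pullback φ).map m := by
    rw [Category.assoc, ← Functor.map_comp, hπm, Groth.Agent.Semiab15.map_pow_bc, CategoryTheory.Functor.map_id]
    exact Groth.Agent.Semiab15.pow_map i n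
  have e2 : ((Over.pullback φ).map m).left ≫ f = pullback.fst I.hom φ ≫ m.left := pullback.lift_fst _ _ _
  refine ⟨(pullback.fst I.hom φ).base ((i ≫ (Over.pullback φ).map π).left.base w), ?_⟩
  show _ = f ((i.left) ((𝟙 H₀ ^ n).left w))
  rw [show i.left ((𝟙 H₀ ^ n).left w) = ((𝟙 H₀ ^ n) ≫ i).left w from rfl, e]
  show _ = (((Over.pullback φ).map m).left ≫ f) ((i ≫ (Over.pullback φ).map π).left w)
  rw [e2]
  rfl

end Groth.Agent.S5682
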