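import Groth.Statements.S5686
import Groth.Agent.S2794
import Groth.Agent.Lib.NPow20.Descent
import Groth.Agent.Lib.NPow20.StalkPoint

set_option autoImplicit false
universe u
open CategoryTheory CategoryTheory.Limits AlgebraicGeometry
open FGA

namespace Groth.Agent.S5686

/-- Let S be a locally Noetherian scheme, f : X ⟶ S proper and flat, and suppose the relative Picard
functor of X over S (sheafified for the etale topology) is represented by an S-scheme P, locally of
finite type over S, through the family of maps φ. Let n be a natural number and m : P ⟶ P an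
S-morphism such that for every S-scheme T and every invertible module L on X ×_S T, φ applied to the
class of the n-th tensor power of L equals φ applied to the class of L followed by m (so m is the
n-th power map of the Picard scheme). Then m is etale at all points of P whose residue
characteristic is prime to n: the restriction of m to the open subset of P where n is invertible is
etale. (Local finite type of P over S is recorded as a hypothesis.) -/
theorem result {X S : Scheme.{u}} [IsLocallyNoetherian S] (f : X ⟶ S) [IsProper f] [Flat f]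
    (P : Over S) [LocallyOfFiniteType P.hom] (φ : ∀ T : Over S, PicF.Cl (PicF.XT f T) → (T ⟶ P))
    (hP : PicRel.IsRelPic f P φ) (n : ℕ) (m : P ⟶ P)
    (hm : ∀ (T : Over S) (L : (PicF.XT f T).Modules), PicF.IsInvertible L →
      φ T (PicF.cl (CohB1.tensorPow L n)) = φ T (PicF.cl L) ≫ m) :
    Etale ((P.left.basicOpen (n : Γ(P.left, ⊤))).ι ≫ m.left) := by
  let D : NPow20.PowData f n := ⟨P, φ, hP, m, hm⟩
  haveI : IsLocallyNoetherian P.left := LocallyOfFiniteType.isLocallyNoetherian P.hom
  haveI : LocallyOfFiniteType (m.left ≫ P.hom) := by rw [Over.w m]; infer_instance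
  haveI : LocallyOfFiniteType m.left := locallyOfFiniteType_of_comp m.left P.hom
  refine NPow20.etale_of_locally m.left _ fun x hx => ?_
  refine (Groth.Agent.S2794.result m.left x).2 ?_
  intro A' _ _ _ h _ I hI hIm g₀ hcomp hmax hres
  let t : Spec (.of A') ⟶ S := Spec.map (CommRingCat.ofHom h) ≫ P.left.fromSpecStalk (m.left.base x) ≫ P.hom
  let v : NPow20.Ts A' t ⟶ P :=
    Over.homMk (Spec.map (CommRingCat.ofHom h) ≫ P.left.fromSpecStalk (m.left.base x)) (Category.assoc _ _ _)
  have hsq : (Spec.map (CommRingCat.ofHom g₀) ≫ P.left.fromSpecStalk x) ≫ m.left =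
      Spec.map (CommRingCat.ofHom (Ideal.Quotient.mk I)) ≫ Spec.map (CommRingCat.ofHom h) ≫
        P.left.fromSpecStalk (m.left.base x) := by
    rw [NPow20.specMap_fromSpecStalk_comp, hcomp, CommRingCat.ofHom_comp, Spec.map_comp, Category.assoc]
  let v₀ : NPow20.Ts0 I t ⟶ P := Over.homMk (Spec.map (CommRingCat.ofHom g₀) ≫ P.left.fromSpecStalk x) (by
    show _ = Spec.map _ ≫ Spec.map _ ≫ P.left.fromSpecStalk _ ≫ P.hom
    have := congrArg (· ≫ P.hom) hsq
    simp only [Category.assoc, Over.w m] at this
    exact (Category.assoc _ _ _).trans this)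
  have hv : v₀ ≫ D.m = NPow20.tmk I t ≫ v := by
    ext1
    exact hsq
  have hloc : IsLocalHom g₀ := ⟨fun b hb => by
    by_contra hh
    have := hmax b hh
    have hle : (IsLocalRing.maximalIdeal A').map (Ideal.Quotient.mk I) ≠ ⊤ := by
      intro htop
      have h2 := congrArg (Ideal.comap (Ideal.Quotient.mk I)) htop
      rw [Ideal.comap_map_of_surjective _ Ideal.Quotient.mk_surjective, Ideal.comap_top, ← RingHom.ker_eq_comap_bot,
        Ideal.mk_ker, sup_of_le_left (IsLocalRing.le_maximalIdeal hI)] at h2
      exact (IsLocalRing.maximalIdeal.isMaximal A').ne_top h2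
    exact hle (Ideal.eq_top_of_isUnit_mem _ this hb)⟩
  haveI : Nontrivial (A' ⧸ I) := Ideal.Quotient.nontrivial_iff.2 hI
  haveI : IsLocalRing (A' ⧸ I) := IsLocalRing.of_surjective' (Ideal.Quotient.mk I) Ideal.Quotient.mk_surjective
  have hn : IsUnit (n : A') := by
    have h1 : IsUnit (n : P.left.presheaf.stalk x) := by
      have hx' : IsUnit (P.left.presheaf.germ ⊤ x trivial (n : Γ(P.left, ⊤))) :=
        (P.left.mem_basicOpen (U := ⊤) _ x trivial).1 hx
      rwa [map_natCast] at hx'
    have h2 := h1.map g₀
    rw [map_natCast, ← map_natCast (Ideal.Quotient.mk I)] at h2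
    haveI : IsLocalHom (Ideal.Quotient.mk I) := .of_surjective _ Ideal.Quotient.mk_surjective
    exact isUnit_of_map_unit (Ideal.Quotient.mk I) _ h2
  have hII : I * I = ⊥ := le_bot_iff.1 ((Ideal.mul_mono_right (IsLocalRing.le_maximalIdeal hI)).trans_eq hIm)
  obtain ⟨w, hw₀, hwm⟩ := NPow20.exists_lift D hI hII hn v v₀ hv
  obtain ⟨g, hg⟩ : ∃ g : P.left.presheaf.stalk x →+* A',
      Spec.map (CommRingCat.ofHom g) ≫ P.left.fromSpecStalk x = w.left := by
    have hpt : w.left.base (IsLocalRing.closedPoint A') = x := by
      have e : Spec.map (CommRingCat.ofHom (Ideal.Quotient.mk I)) ≫ w.left =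
          Spec.map (CommRingCat.ofHom g₀) ≫ P.left.fromSpecStalk x := congrArg CommaMorphism.left hw₀
      have e' := congrArg (fun q : Spec (.of (A' ⧸ I)) ⟶ P.left => q.base (IsLocalRing.closedPoint _)) e
      simp only [Scheme.Hom.comp_base, TopCat.comp_app] at e'
      rw [show (Spec.map (CommRingCat.ofHom (Ideal.Quotient.mk I))).base (IsLocalRing.closedPoint _) =
          IsLocalRing.closedPoint A' from Subsingleton.elim (α := PrimeSpectrum A') _ _] at e'
      refine e'.trans ?_
      rw [show (Spec.map (CommRingCat.ofHom g₀)).base (IsLocalRing.closedPoint _) =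
          IsLocalRing.closedPoint (P.left.presheaf.stalk x) from IsLocalRing.comap_closedPoint g₀,
        Scheme.fromSpecStalk_closedPoint]
    exact NPow20.exists_specMap_fromSpecStalk w.left x hpt
  have hw₀' : Spec.map (CommRingCat.ofHom (Ideal.Quotient.mk I)) ≫ w.left =
      Spec.map (CommRingCat.ofHom g₀) ≫ P.left.fromSpecStalk x := congrArg CommaMorphism.left hw₀
  have hwm' : w.left ≫ m.left = Spec.map (CommRingCat.ofHom h) ≫ P.left.fromSpecStalk (m.left.base x) :=
    congrArg CommaMorphism.left hwm
  refine ⟨g, ⟨NPow20.specMap_fromSpecStalk_injective (m.left.base x) ?_,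
    NPow20.specMap_fromSpecStalk_injective x ?_⟩, fun g' ⟨hg'1, hg'2⟩ => ?_⟩
  · show Spec.map _ ≫ _ = Spec.map _ ≫ _
    rw [← hwm', ← hg, NPow20.specMap_fromSpecStalk_comp]
  · show Spec.map _ ≫ _ = Spec.map _ ≫ _
    rw [← hw₀', ← hg, CommRingCat.ofHom_comp, Spec.map_comp, Category.assoc]
  · have hgm : (Spec.map (CommRingCat.ofHom g') ≫ P.left.fromSpecStalk x) ≫ m.left =
        Spec.map (CommRingCat.ofHom h) ≫ P.left.fromSpecStalk (m.left.base x) := by
      rw [NPow20.specMap_fromSpecStalk_comp, hg'1]
    let w' : NPow20.Ts A' t ⟶ P := Over.homMk (Spec.map (CommRingCat.ofHom g') ≫ P.left.fromSpecStalk x) (by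
      have := congrArg (· ≫ P.hom) hgm
      simp only [Category.assoc, Over.w m] at this
      exact (Category.assoc _ _ _).trans this)
    refine NPow20.specMap_fromSpecStalk_injective x
      ((congrArg CommaMorphism.left (NPow20.lift_unique D hI hII hn w' w ?_ ?_)).trans hg.symm)
    · rw [hw₀]
      ext1
      show Spec.map _ ≫ Spec.map _ ≫ _ = Spec.map _ ≫ _
      rw [← Spec.map_comp_assoc, ← CommRingCat.ofHom_comp, hg'2]
    · rw [hwm]
      ext1
      exact hgm


end Groth.Agent.S5686
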