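import Groth.Statements.S5687
import Groth.Agent.S2793
import Groth.Agent.Lib.NPow20.Lifting
import Groth.Agent.Lib.PicSm20.Lift
import Groth.Agent.Lib.PicSm20.Fibre
import Groth.Agent.Lib.PicSm20.Local
import Groth.Agent.Lib.NPow20.StalkPoint

set_option autoImplicit false
universe u
open CategoryTheory CategoryTheory.Limits AlgebraicGeometry
open FGA

namespace Groth.Agent.S5687

/-- Let S be a locally Noetherian scheme, f : X ⟶ S proper and flat, and P an S-scheme locally of finite
type over S representing the relative Picard functor of X over S sheafified for the etale topology.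
Let s be a point of S such that the second cohomology group of the structure sheaf of the fibre X_s
vanishes. Then there is an open neighbourhood U of s such that the inverse image of U in P is smooth
over S. (Local finite type of P over S is recorded as a hypothesis.) -/
theorem result {X S : Scheme.{u}} [IsLocallyNoetherian S] (f : X ⟶ S)
    [IsProper f] [Flat f] (P : Over S) [LocallyOfFiniteType P.hom] (hP : PicRel.RepresentedBy f P) (s : S)
    (h2 : Subsingleton (Coh.HH (pullback f (S.fromSpecResidueField s)) (Coh.structureModule _) 2)) :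
    ∃ U : S.Opens, s ∈ U ∧ Smooth ((P.hom ⁻¹ᵁ U).ι ≫ P.hom) := by
  obtain ⟨φ, hφ⟩ := hP
  let D : NPow20.PowData f 1 := ⟨P, φ, hφ, 𝟙 P, fun T L hL => by
    rw [Category.comp_id]
    congr 1
    letI := M2.law (PicF.XT f T)
    exact congrArg Subtype.val ((FGA3.cls_tensorPow hL 1).trans (pow_one _))⟩
  haveI : IsLocallyNoetherian P.left := LocallyOfFiniteType.isLocallyNoetherian P.hom
  obtain ⟨U, hsU, hU⟩ := PicSm20.exists_open_subsingleton_HH f s 2 h2
  refine ⟨U, hsU, PicSm20.smooth_of_locally P.hom _ fun x hx => ?_⟩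
  refine (Groth.Agent.S2793.result P.hom x).2 ?_
  intro A' _ _ _ h _ I hI hIm g₀ hcomp hmax _
  let t : Spec (.of A') ⟶ S := Spec.map (CommRingCat.ofHom h) ≫ S.fromSpecStalk (P.hom.base x)
  have hsq : (Spec.map (CommRingCat.ofHom g₀) ≫ P.left.fromSpecStalk x) ≫ P.hom =
      Spec.map (CommRingCat.ofHom (Ideal.Quotient.mk I)) ≫ t := by
    rw [NPow20.specMap_fromSpecStalk_comp, hcomp, CommRingCat.ofHom_comp, Spec.map_comp, Category.assoc]
  let v₀ : NPow20.Ts0 I t ⟶ P := Over.homMk (Spec.map (CommRingCat.ofHom g₀) ≫ P.left.fromSpecStalk x) hsq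
  obtain ⟨E, c, hc⟩ := NPow20.exists_ev0 D hI v₀
  haveI : IsLocalHom g₀ := ⟨fun b hb => by
    by_contra hh
    have hb' := hmax b hh
    refine (?_ : (IsLocalRing.maximalIdeal A').map (Ideal.Quotient.mk I) ≠ ⊤) (Ideal.eq_top_of_isUnit_mem _ hb' hb)
    intro htop
    have h2' := congrArg (Ideal.comap (Ideal.Quotient.mk I)) htop
    rw [Ideal.comap_map_of_surjective _ Ideal.Quotient.mk_surjective, Ideal.comap_top, ← RingHom.ker_eq_comap_bot,
      Ideal.mk_ker, sup_of_le_left (IsLocalRing.le_maximalIdeal hI)] at h2'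
    exact (IsLocalRing.maximalIdeal.isMaximal A').ne_top h2'⟩
  haveI : Nontrivial (A' ⧸ I) := Ideal.Quotient.nontrivial_iff.2 hI
  haveI : IsLocalRing (A' ⧸ I) := IsLocalRing.of_surjective' (Ideal.Quotient.mk I) Ideal.Quotient.mk_surjective
  let t' := NPow20.tE E t
  let m := IsLocalRing.maximalIdeal E.C
  let I' := I.map E.α
  have hI' : I' ≤ m := IsLocalRing.le_maximalIdeal (NPow20.map_ne_top E hI)
  haveI : Nontrivial (E.C ⧸ I') := Ideal.Quotient.nontrivial_iff.2 (NPow20.map_ne_top E hI)
  haveI : IsLocalRing (E.C ⧸ I') := IsLocalRing.of_surjective' (Ideal.Quotient.mk I') Ideal.Quotient.mk_surjective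
  have hpt : ∀ y : Spec (.of E.C), t'.base y = P.hom.base x := fun y => by
    show S.fromSpecStalk (P.hom.base x) ((Spec.map (CommRingCat.ofHom h)) ((Spec.map (CommRingCat.ofHom E.α)) y)) = _
    rw [Subsingleton.elim (α := PrimeSpectrum A') ((Spec.map (CommRingCat.ofHom E.α)) y) (IsLocalRing.closedPoint A'),
      show (Spec.map (CommRingCat.ofHom h)) (IsLocalRing.closedPoint A') = IsLocalRing.closedPoint _ from
        IsLocalRing.comap_closedPoint h]
    exact Scheme.fromSpecStalk_closedPoint
  have hvan : Subsingleton (Coh.HH (pullback (PicF.XTproj f (NPow20.Ts E.C t')) (FGA3.spQ m))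
      (Coh.structureModule _) 2) := by
    refine hU (IsLocalRing.ResidueField E.C) (FGA3.spQ m ≫ t')
      (pullback.fst (PicF.XTproj f (NPow20.Ts E.C t')) (FGA3.spQ m) ≫ pullback.fst f t')
      (pullback.snd (PicF.XTproj f (NPow20.Ts E.C t')) (FGA3.spQ m))
      ((IsPullback.of_hasPullback (PicF.XTproj f (NPow20.Ts E.C t')) (FGA3.spQ m)).paste_horiz
        (IsPullback.of_hasPullback f t')) ?_
    show t'.base _ ∈ U
    rw [hpt]
    exact hx
  haveI := hvan
  obtain ⟨d, hd⟩ := PicSm20.exists_pl_tmk_eq I' hI' t' c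
  have hw₀ : NPow20.tmk I' t' ≫ D.ev d = NPow20.pE0 E I t ≫ v₀ := by rw [← D.ev_pl, hd, hc]
  have hw₀' : Spec.map (CommRingCat.ofHom (Ideal.Quotient.mk I')) ≫ (D.ev d).left =
      Spec.map (CommRingCat.ofHom (NPow20.qmap E I)) ≫ Spec.map (CommRingCat.ofHom g₀) ≫ P.left.fromSpecStalk x :=
    congrArg CommaMorphism.left hw₀
  obtain ⟨g', hg'⟩ := NPow20.exists_specMap_fromSpecStalk (D.ev d).left x (by
    have e' := congr($(hw₀').base (IsLocalRing.closedPoint (E.C ⧸ I')))
    rw [Scheme.Hom.comp_apply, Scheme.Hom.comp_apply, Scheme.Hom.comp_apply] at e'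
    rw [Subsingleton.elim (α := PrimeSpectrum E.C) (IsLocalRing.closedPoint E.C)
      ((Spec.map (CommRingCat.ofHom (Ideal.Quotient.mk I'))) (IsLocalRing.closedPoint _))]
    refine e'.trans ?_
    rw [Subsingleton.elim (α := PrimeSpectrum (A' ⧸ I))
        ((Spec.map (CommRingCat.ofHom (NPow20.qmap E I))) (IsLocalRing.closedPoint _)) (IsLocalRing.closedPoint _),
      show (Spec.map (CommRingCat.ofHom g₀)) (IsLocalRing.closedPoint _) = IsLocalRing.closedPoint _ from
        IsLocalRing.comap_closedPoint g₀]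
    exact Scheme.fromSpecStalk_closedPoint)
  have hred : (Ideal.Quotient.mk I').comp g' = (NPow20.qmap E I).comp g₀ := by
    refine NPow20.specMap_fromSpecStalk_injective x ?_
    show Spec.map _ ≫ _ = Spec.map _ ≫ _
    rw [CommRingCat.ofHom_comp, CommRingCat.ofHom_comp, Spec.map_comp, Spec.map_comp, Category.assoc, Category.assoc,
      hg', hw₀']
  have hbase : g'.comp (P.hom.stalkMap x).hom = E.α.comp h := by
    refine NPow20.specMap_fromSpecStalk_injective (P.hom.base x) ?_
    show Spec.map _ ≫ _ = Spec.map _ ≫ _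
    rw [← NPow20.specMap_fromSpecStalk_comp, hg', CommRingCat.ofHom_comp, Spec.map_comp, Category.assoc]
    exact Over.w (D.ev d)
  obtain ⟨g, hg, hgα⟩ := PicSm20.exists_descend E
    (le_bot_iff.1 ((Ideal.mul_mono_right (IsLocalRing.le_maximalIdeal hI)).trans_eq hIm)) g' g₀ hred
  exact ⟨g, RingHom.ext fun a => hgα _ _ (RingHom.congr_fun hbase a), hg⟩


end Groth.Agent.S5687
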