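import Groth.Statements.S5688
import Groth.Agent.Lib.PicProper20.Main
import Groth.Agent.Lib.PicProper20.Reduced

set_option autoImplicit false
universe u
open CategoryTheory CategoryTheory.Limits AlgebraicGeometry
open FGA

open Groth.Agent

namespace Groth.Agent.S5688

/-- Let k be a field and X a scheme proper over k and geometrically normal (normal after every finite
field extension of k in the same universe); suppose the relative Picard functor of X over k,
sheafified for the etale topology, is represented by a k-scheme P locally of finite type through the
family of maps φ. Then there is a closed subscheme A of P which is smooth and proper over k and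
whose underlying set is the connected component of the identity point of P (the image of the class
of the structure sheaf); being reduced with underlying set a subgroup, A is the abelian subvariety
of P with underlying set the identity component. (The published statement assumes X normal; for a
regular projective curve over an imperfect field whose base change to an algebraic closure is a
cuspidal rational curve the identity component of the Picard scheme is unipotent and not proper, and
the published proof uses properness of the identity component, which needs the base change of X to
every finite extension of k to be normal; so X is taken geometrically normal here.) -/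
theorem result (k : Type u) [Field k] (X : Scheme.{u})
    (f : X ⟶ Spec (CommRingCat.of k)) [IsProper f]
    (hnorm : ∀ (k' : Type u) [Field k'] [Algebra k k'], Module.Finite k k' →
      Pi1.IsNormalScheme (pullback f (Spec.map (CommRingCat.ofHom (algebraMap k k')))))
    (P : Over (Spec (CommRingCat.of k))) [LocallyOfFiniteType P.hom]
    (φ : ∀ T : Over (Spec (CommRingCat.of k)), PicF.Cl (PicF.XT f T) → (T ⟶ P)) (hP : PicRel.IsRelPic f P φ)
    (pt : ↥(Spec (CommRingCat.of k))) :
    ∃ (A : Scheme.{u}) (i : A ⟶ P.left), IsClosedImmersion i ∧ Smooth (i ≫ P.hom) ∧ IsProper (i ≫ P.hom) ∧
      Set.range i.base = connectedComponent ((φ (Over.mk (𝟙 _)) (PicF.cl (Coh.structureModule _))).left.base pt) := by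
  have hK := PicGrp20.isRelPicK_of_isRelPic hP
  letI := PicGrp20.grpObj hK
  haveI := PicGrp20.isCommMonObj hK
  obtain ⟨U, hU, hUc, hproper, hgi⟩ := PicProper20.exists_proper_component f hnorm hK
  haveI := hUc
  haveI := hproper
  haveI := hgi
  obtain ⟨A, i, hi, hs, hp, hr⟩ := PicProper20.exists_smooth_subscheme P U hU
  refine ⟨A, i, hi, hs, hp, hr.trans ?_⟩
  rw [Subsingleton.elim pt (IsLocalRing.closedPoint k), ← PicGrp20.eta_left_closedPoint hK]

end Groth.Agent.S5688
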