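import Groth.Statements.S5691
import Mathlib

set_option autoImplicit false
universe u
open CategoryTheory CategoryTheory.Limits
open FGA

namespace Groth.Agent.S5691

variable {C : Type u} [SmallCategory C] [HasFiniteLimits C] (F : C ⥤ Type u)

/-- No proper subobject of `X` contains the element `x`. -/
def Minimal (X : C) (x : F.obj X) : Prop :=
  ∀ ⦃Y : C⦄ (i : Y ⟶ X), Mono i → ∀ y, F.map i y = x → IsIso i

theorem exists_minimal (X : C) [IsArtinianObject X] (x : F.obj X) :
    ∃ (W : C) (w : F.obj W), Minimal F W w ∧ ∃ i : W ⟶ X, F.map i w = x := by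
  let S : Set (Subobject X) := {P | ∃ y, F.map P.arrow y = x}
  have hS : S.Nonempty := ⟨Subobject.mk (𝟙 X), F.map (Subobject.underlyingIso (𝟙 X)).inv x, by
    rw [← types_comp_apply (F.map _) (F.map _), ← F.map_comp, Subobject.underlyingIso_arrow, F.map_id, types_id_apply]⟩
  obtain ⟨P, ⟨w, hw⟩, hmin⟩ := wellFounded_lt.has_min S hS
  refine ⟨P, w, fun Y i hi y hy => ?_, P.arrow, hw⟩
  have hmem : Subobject.mk (i ≫ P.arrow) ∈ S := ⟨F.map (Subobject.underlyingIso (i ≫ P.arrow)).inv y, by
    rw [← types_comp_apply (F.map _) (F.map _), ← F.map_comp, Subobject.underlyingIso_arrow, F.map_comp,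
      types_comp_apply, hy, hw]⟩
  have hle : Subobject.mk (i ≫ P.arrow) ≤ P := Subobject.mk_le_of_comm i rfl
  have heq : P ≤ Subobject.mk (i ≫ P.arrow) := by
    rcases hle.lt_or_eq with h | h
    · exact absurd h (hmin _ hmem)
    · exact h.ge
  have hg : Subobject.ofLEMk P (i ≫ P.arrow) heq ≫ i = 𝟙 _ := by
    rw [← cancel_mono P.arrow, Category.assoc, Category.id_comp, Subobject.ofLEMk_comp]
  exact ⟨Subobject.ofLEMk P (i ≫ P.arrow) heq, by rw [← cancel_mono i, Category.assoc, hg]; simp, hg⟩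

variable [PreservesFiniteLimits F]

theorem exists_prod {X Y : C} (x : F.obj X) (y : F.obj Y) :
    ∃ z : F.obj (X ⨯ Y), F.map prod.fst z = x ∧ F.map prod.snd z = y := by
  obtain ⟨l, h₁, h₂⟩ := BinaryFan.IsLimit.lift' (isLimitOfHasBinaryProductOfPreservesLimit F X Y)
    (↾fun _ : PUnit.{u + 1} => x) (↾fun _ => y)
  exact ⟨l PUnit.unit, ConcreteCategory.congr_hom h₁ _, ConcreteCategory.congr_hom h₂ _⟩

theorem exists_terminal : Nonempty (F.obj (⊤_ C)) :=
  ⟨(IsTerminal.isTerminalObj F _ terminalIsTerminal).from PUnit.{u + 1} PUnit.unit⟩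

theorem hom_eq_of_minimal {X Y : C} {x : F.obj X} (hx : Minimal F X x) {f g : X ⟶ Y}
    (h : F.map f x = F.map g x) : f = g := by
  obtain ⟨l, hl⟩ := Fork.IsLimit.lift' (isLimitOfHasEqualizerOfPreservesLimit F f g)
    (↾fun _ : PUnit.{u + 1} => x) (by ext; exact h)
  haveI := hx (equalizer.ι f g) inferInstance (l PUnit.unit) (ConcreteCategory.congr_hom hl _)
  exact (cancel_epi (equalizer.ι f g)).1 (equalizer.condition f g)

theorem epi_of_minimal {X Y : C} {x : F.obj X} {y : F.obj Y} (hy : Minimal F Y y) {f : X ⟶ Y}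
    (h : F.map f x = y) : Epi f :=
  ⟨fun g g' e => hom_eq_of_minimal F hy (by
    rw [← h, ← types_comp_apply (F.map f) (F.map g), ← F.map_comp, e, F.map_comp, types_comp_apply])⟩

/-- Let C be a small category with finite limits all of whose objects are artinian (the subobjects of
each object satisfy the descending chain condition), and let F be a set-valued functor on C
preserving finite limits. Then F is strictly pro-representable: there are a small cofiltered
category J and a diagram D : J ⥤ C all of whose transition morphisms are epimorphisms such that F is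
isomorphic to the colimit of the corepresentable functors Hom(D j, -). -/
theorem result {C : Type u} [SmallCategory C]
    [HasFiniteLimits C] (hart : ∀ X : C, IsArtinianObject X) (F : C ⥤ Type u) [PreservesFiniteLimits F] :
    ∃ (J : Type u) (_ : SmallCategory J) (_ : IsCofiltered J) (D : J ⥤ C),
      (∀ ⦃j j' : J⦄ (a : j ⟶ j'), Epi (D.map a)) ∧ Nonempty (F ≅ colimit (D.op ⋙ coyoneda)) := by
  haveI := fun X => hart X
  let J := ObjectProperty.FullSubcategory (fun e : F.Elements => Minimal F e.1 e.2)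
  let D : J ⥤ C := ObjectProperty.ι _ ⋙ CategoryOfElements.π F
  have hD : ∀ ⦃j j' : J⦄ (a : j ⟶ j'), Epi (D.map a) := fun j j' a => epi_of_minimal F j'.2 a.hom.2
  have hthin : ∀ (j j' : J) (a b : j ⟶ j'), a = b := fun j j' a b =>
    InducedCategory.hom_ext (CategoryOfElements.ext F _ _ (hom_eq_of_minimal F j.2 (a.hom.2.trans b.hom.2.symm)))
  haveI : Nonempty J := by
    obtain ⟨x⟩ := exists_terminal F
    obtain ⟨W, w, hw, -⟩ := exists_minimal F (⊤_ C) x
    exact ⟨⟨⟨W, w⟩, hw⟩⟩
  haveI : IsCofilteredOrEmpty J := by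
    refine ⟨fun j j' => ?_, fun j j' a b => ⟨j, 𝟙 j, by rw [hthin j j' a b]⟩⟩
    obtain ⟨z, h₁, h₂⟩ := exists_prod F j.1.2 j'.1.2
    obtain ⟨W, w, hw, i, hi⟩ := exists_minimal F (j.1.1 ⨯ j'.1.1) z
    refine ⟨⟨⟨W, w⟩, hw⟩, ObjectProperty.homMk ⟨i ≫ prod.fst, ?_⟩, ObjectProperty.homMk ⟨i ≫ prod.snd, ?_⟩, trivial⟩
    · show F.map (i ≫ prod.fst) w = j.1.2
      rw [Functor.map_comp, types_comp_apply, hi, h₁]
    · show F.map (i ≫ prod.snd) w = j'.1.2
      rw [Functor.map_comp, types_comp_apply, hi, h₂]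
  haveI : IsCofiltered J := {}
  let t : Cocone (D.op ⋙ coyoneda) :=
    { pt := F
      ι :=
        { app := fun j => coyonedaEquiv.symm j.unop.1.2
          naturality := fun j j' a => by
            ext Z f
            have h := a.unop.hom.2
            change F.map (D.map a.unop ≫ f) j'.unop.1.2 = F.map f j.unop.1.2
            rw [Functor.map_comp, types_comp_apply]
            exact congrArg _ h } }
  have ht : IsColimit t := by
    refine evaluationJointlyReflectsColimits _ fun Z => Types.FilteredColimit.isColimitOf _ _ ?_ ?_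
    · intro z
      obtain ⟨W, w, hw, i, hi⟩ := exists_minimal F Z z
      exact ⟨Opposite.op ⟨⟨W, w⟩, hw⟩, i, hi.symm⟩
    · intro j j' a a' h
      obtain ⟨z, h₁, h₂⟩ := exists_prod F j.unop.1.2 j'.unop.1.2
      obtain ⟨W, w, hw, i, hi⟩ := exists_minimal F (j.unop.1.1 ⨯ j'.unop.1.1) z
      have e₁ : F.map (i ≫ prod.fst) w = j.unop.1.2 := by rw [Functor.map_comp, types_comp_apply, hi, h₁]
      have e₂ : F.map (i ≫ prod.snd) w = j'.unop.1.2 := by rw [Functor.map_comp, types_comp_apply, hi, h₂]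
      let a₀ : j.unop.1.1 ⟶ Z := a
      let a₀' : j'.unop.1.1 ⟶ Z := a'
      have he : F.map ((i ≫ prod.fst) ≫ a₀) w = F.map ((i ≫ prod.snd) ≫ a₀') w := by
        rw [Functor.map_comp _ (i ≫ prod.fst) a₀, Functor.map_comp _ (i ≫ prod.snd) a₀', types_comp_apply,
          types_comp_apply, e₁, e₂]
        exact h
      let k : J := ⟨⟨W, w⟩, hw⟩
      let g₁ : k ⟶ j.unop := ObjectProperty.homMk ⟨i ≫ prod.fst, e₁⟩
      let g₂ : k ⟶ j'.unop := ObjectProperty.homMk ⟨i ≫ prod.snd, e₂⟩
      exact ⟨Opposite.op k, g₁.op, g₂.op, hom_eq_of_minimal F hw he⟩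
  exact ⟨J, inferInstance, inferInstance, D, hD, ⟨IsColimit.coconePointUniqueUpToIso ht (colimit.isColimit _)⟩⟩

end Groth.Agent.S5691
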