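import Groth.Statements.S5693
import Groth.Agent.Lib.GrpNeutral20.Cons
import Groth.Agent.Lib.SolvLocus20.Main

set_option autoImplicit false
universe u
open CategoryTheory CategoryTheory.Limits MonoidalCategory CartesianMonoidalCategory MonObj GrpObj AlgebraicGeometry
open FGA

namespace Groth.Agent.S5693

/-- Let S be a locally Noetherian scheme, G a commutative group scheme locally of finite type over S and
n ≥ 1 an integer. The set of points x of G for which n is the least positive integer such that the
n-th power morphism sends x into the union of the connected components of the identity of the fibres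
is locally constructible in G (the order function on the torsion-component set is locally
constructible). -/
theorem result (S : Scheme.{u}) [IsLocallyNoetherian S] (G : Over S) [GrpObj G]
    [IsCommMonObj G] [LocallyOfFiniteType G.hom] (n : ℕ) (hn : 0 < n) :
    Topology.IsLocallyConstructible {x : ↥G.left | ((𝟙 G : G ⟶ G) ^ n).left.base x ∈ SGA3x.neutralSet G ∧
      ∀ d : ℕ, 0 < d → d < n → ((𝟙 G : G ⟶ G) ^ d).left.base x ∉ SGA3x.neutralSet G} := by
  haveI : IsLocallyNoetherian G.left := LocallyOfFiniteType.isLocallyNoetherian G.hom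
  haveI : QuasiSeparated G.hom := inferInstance
  have hN := GrpNeutral20.isLocallyConstructible G
  let C : ℕ → Set ↥G.left := fun d => ((𝟙 G : G ⟶ G) ^ d).left.base ⁻¹' SGA3x.neutralSet G
  have hC : ∀ d, Topology.IsLocallyConstructible (C d) := fun d => ConsH13.isLocallyConstructible_preimage _ hN
  have e : {x : ↥G.left | ((𝟙 G : G ⟶ G) ^ n).left.base x ∈ SGA3x.neutralSet G ∧
      ∀ d : ℕ, 0 < d → d < n → ((𝟙 G : G ⟶ G) ^ d).left.base x ∉ SGA3x.neutralSet G} =
      C n ∩ (⋃ d ∈ Set.Ioo 0 n, C d)ᶜ := by
    ext x
    simp only [Set.mem_inter_iff, Set.mem_compl_iff, Set.mem_iUnion, Set.mem_Ioo, not_exists, C, Set.mem_preimage]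
    exact and_congr_right fun _ => ⟨fun h d hd => h d hd.1 hd.2, fun h d h1 h2 => h d ⟨h1, h2⟩⟩
  rw [e]
  exact (hC n).inter (SolvLocus20.isLocallyConstructible_compl
    (Topology.IsLocallyConstructible.biUnion (Set.finite_Ioo 0 n) fun d _ => hC d))

end Groth.Agent.S5693
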