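import Groth.Statements.S5694
import Groth.Agent.Lib.GrpNeutral20.Tau
-- import your own Groth.Agent.* helpers here

set_option autoImplicit false
universe u
open CategoryTheory CategoryTheory.Limits MonoidalCategory CartesianMonoidalCategory MonObj GrpObj AlgebraicGeometry
open FGA

namespace Groth.Agent.S5694

/-- Let S be a locally Noetherian scheme and G a commutative group scheme locally of finite type over S
such that the union of the connected components of the identity in the fibres of G is closed. Let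
p(s) denote the characteristic exponent of the residue field of S at s. Then the set of points x of
G such that some p(s)^h-th power morphism (h ≥ 0, s the image of x in S) sends x into that union, is
closed in G. -/
theorem result (S : Scheme.{u}) [IsLocallyNoetherian S] (G : Over S) [GrpObj G]
    [IsCommMonObj G] [LocallyOfFiniteType G.hom] (h0 : IsClosed (SGA3x.neutralSet G))
    (p : ↥S → ℕ) (hp : ∀ s : ↥S, ringExpChar (S.residueField s) = p s) :
    IsClosed {x : ↥G.left | ∃ h m : ℕ, m = p (G.hom.base x) ^ h ∧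
      ((𝟙 G : G ⟶ G) ^ m).left.base x ∈ SGA3x.neutralSet G} := by
  have hnat : ∀ (n : ℕ) (x : G.left), G.hom (((𝟙 G : G ⟶ G) ^ n).left x) = G.hom x := fun n x => by
    rw [← Scheme.Hom.comp_apply, Over.w ((𝟙 G : G ⟶ G) ^ n)]
  haveI : IsLocallyNoetherian G.left := LocallyOfFiniteType.isLocallyNoetherian G.hom
  -- a prime characteristic exponent is inherited by specializations
  have hchar : ∀ t : S, p t = 1 ∨ ((p t).Prime ∧ ((p t : ℕ) : S.residueField t) = 0) := by
    intro t
    rcases CharP.exists (S.residueField t) with ⟨q, hq⟩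
    rcases CharP.char_is_prime_or_zero (S.residueField t) q with hprime | rfl
    · have e : p t = q := (hp t).symm.trans (by
        rw [ringExpChar, (ringChar.eq (S.residueField t) q)]; exact max_eq_left hprime.one_le)
      exact Or.inr ⟨e ▸ hprime, by rw [e]; exact CharP.cast_eq_zero _ q⟩
    · exact Or.inl ((hp t).symm.trans (by rw [ringExpChar, (ringChar.eq (S.residueField t) 0)]; rfl))
  have hchar' : ∀ s t : S, s ⤳ t → (p s).Prime → p t = p s := by
    intro s t hst hs
    rcases hchar s with h1 | ⟨-, h2⟩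
    · exact absurd (h1 ▸ hs) Nat.not_prime_one
    have h3 : ((p s : ℕ) : S.residueField t) = 0 := by
      by_contra h
      exact Groth.Agent.GrpNeutral20.natCast_ne_zero_of_specializes hst _ h h2
    rcases CharP.exists (S.residueField t) with ⟨q, hq⟩
    have hqs : q ∣ p s := (CharP.cast_eq_zero_iff _ q _).1 h3
    rcases (Nat.dvd_prime hs).1 hqs with rfl | rfl
    · exact absurd rfl (CharP.char_ne_one (S.residueField t) 1)
    · exact (hp t).symm.trans (by
        rw [ringExpChar, (ringChar.eq (S.residueField t) (p s))]; exact max_eq_left hs.one_le)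
  refine Groth.Agent.GrpNeutral20.isClosed_of_specializes _ ?_ ?_
  · rintro x y hxy ⟨h, m, rfl, hmx⟩
    have hm := (hxy.map ((𝟙 G : G ⟶ G) ^ (p (G.hom x) ^ h)).left.continuous).mem_closed h0 hmx
    rcases hchar (G.hom x) with h1 | ⟨h1, -⟩
    · exact ⟨0, 1, by simp, by rwa [h1, one_pow] at hm⟩
    · exact ⟨h, _, rfl, by rwa [hchar' _ _ (hxy.map G.hom.continuous) h1]⟩
  · intro x hx
    obtain ⟨O, hxO, hO⟩ := Groth.Agent.GrpNeutral20.exists_nhd_reflect G (G.hom x)
    have hrefl : ∀ (n : ℕ) (y : G.left), x ⤳ y → G.hom y ∈ O →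
        ((𝟙 G : G ⟶ G) ^ n).left y ∈ SGA3x.neutralSet G → ((𝟙 G : G ⟶ G) ^ n).left x ∈ SGA3x.neutralSet G :=
      fun n y hxy hy hny => hO _ _ (hxy.map ((𝟙 G : G ⟶ G) ^ n).left.continuous) (hnat n x)
        (by rw [hnat n y]; exact hy) hny
    have hxO' : x ∈ G.hom ⁻¹' (O : Set S) := hxO
    rcases hchar (G.hom x) with h1 | ⟨h1, -⟩
    swap
    · refine ⟨G.hom ⁻¹' (O : Set S), O.2.preimage G.hom.continuous, hxO', ?_⟩
      rintro y hy hxy ⟨h, m, hm, hmy⟩
      rw [hchar' _ _ (hxy.map G.hom.continuous) h1] at hm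
      exact hx ⟨h, m, hm, hrefl m y hxy hy hmy⟩
    classical
    by_cases hex : ∃ n, 0 < n ∧ ((𝟙 G : G ⟶ G) ^ n).left x ∈ SGA3x.neutralSet G
    · let m := Nat.find hex
      obtain ⟨hm0, hmx⟩ := Nat.find_spec hex
      have hmin : ∀ k, 0 < k → k < m → ((𝟙 G : G ⟶ G) ^ k).left x ∉ SGA3x.neutralSet G :=
        fun k hk hkm hkx => Nat.find_min hex hkm ⟨hk, hkx⟩
      let O' : Set G.left := G.hom ⁻¹' ((O : Set S) ∩ {t : S | (m : S.residueField t) ≠ 0})
      have hxm : (m : S.residueField (G.hom x)) ≠ 0 := by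
        rcases CharP.exists (S.residueField (G.hom x)) with ⟨q, hq⟩
        intro h
        rcases CharP.char_is_prime_or_zero (S.residueField (G.hom x)) q with hprime | rfl
        · have e : p (G.hom x) = q := (hp _).symm.trans (by
            rw [ringExpChar, (ringChar.eq (S.residueField (G.hom x)) q)]; exact max_eq_left hprime.one_le)
          exact Nat.not_prime_one (h1 ▸ e ▸ hprime)
        · exact hm0.ne' (Nat.eq_zero_of_zero_dvd ((CharP.cast_eq_zero_iff _ 0 m).1 h))
      refine ⟨O', (O.2.inter (Groth.Agent.GrpNeutral20.isOpen_natCast_ne_zero m)).preimage G.hom.continuous,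
        ⟨hxO, hxm⟩, ?_⟩
      rintro y ⟨hy, hym⟩ hxy ⟨h, n, rfl, hny⟩
      have hdvd := Groth.Agent.GrpNeutral20.dvd_of_pow_mem G x hm0 hmin hmx (hrefl _ y hxy hy hny)
      rcases hchar (G.hom y) with h2 | ⟨h2, h3⟩
      · rw [h2, one_pow, Nat.dvd_one] at hdvd
        exact hx ⟨0, 1, by simp, hdvd ▸ hmx⟩
      · obtain ⟨a, -, ha⟩ := (Nat.dvd_prime_pow h2).1 hdvd
        rcases a with _ | a
        · exact hx ⟨0, 1, by simp, (ha.trans (pow_zero _)) ▸ hmx⟩
        · exact hym (by rw [show m = _ from ha, Nat.cast_pow, h3, zero_pow a.succ_ne_zero])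
    · refine ⟨G.hom ⁻¹' (O : Set S), O.2.preimage G.hom.continuous, hxO', ?_⟩
      rintro y hy hxy ⟨h, n, rfl, hny⟩
      refine hex ⟨_, ?_, hrefl _ y hxy hy hny⟩
      rcases hchar (G.hom y) with h2 | ⟨h2, -⟩
      · simp [h2]
      · exact pow_pos h2.pos _

end Groth.Agent.S5694
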