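import Groth.Statements.S5696
import Groth.Agent.Lib.GrpNeutral20.TauPrime
-- import your own Groth.Agent.* helpers here

set_option autoImplicit false
universe u
open CategoryTheory CategoryTheory.Limits MonoidalCategory CartesianMonoidalCategory MonObj GrpObj AlgebraicGeometry
open FGA

namespace Groth.Agent.S5696

/-- Let S be a locally Noetherian scheme all of whose residue fields have the same characteristic, with
characteristic exponent p, and G a commutative group scheme locally of finite type over S such that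
for every integer n ≥ 1 prime to p the n-th power morphism of G is an open map. Then the set of
points x of G some p^h-th power of which (h ≥ 0) lies in the union of the connected components of
the identity of the fibres is open in G. -/
theorem result (S : Scheme.{u}) [IsLocallyNoetherian S]
    (p : ℕ) (hS : ∀ s : ↥S, ringExpChar (S.residueField s) = p)
    (G : Over S) [GrpObj G] [IsCommMonObj G] [LocallyOfFiniteType G.hom]
    (hopen : ∀ n : ℕ, 0 < n → Nat.Coprime n p → IsOpenMap ((𝟙 G : G ⟶ G) ^ n).left.base) :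
    IsOpen {x : ↥G.left | ∃ h : ℕ, ((𝟙 G : G ⟶ G) ^ (p ^ h)).left.base x ∈ SGA3x.neutralSet G} := by
  have hnat : ∀ (n : ℕ) (x : G.left), G.hom (((𝟙 G : G ⟶ G) ^ n).left x) = G.hom x := fun n x => by
    rw [← Scheme.Hom.comp_apply, Over.w ((𝟙 G : G ⟶ G) ^ n)]
  haveI : IsLocallyNoetherian G.left := LocallyOfFiniteType.isLocallyNoetherian G.hom
  have hcomp : ∀ (a b : ℕ) (x : G.left), ((𝟙 G : G ⟶ G) ^ (a * b)).left x =
      ((𝟙 G : G ⟶ G) ^ b).left (((𝟙 G : G ⟶ G) ^ a).left x) := fun a b x => by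
    rw [← Groth.Agent.GrpNeutral20.hap, MonObj.comp_pow, Category.comp_id, ← pow_mul]
  rw [← isClosed_compl_iff]
  refine Groth.Agent.GrpNeutral20.isClosed_of_specializes _ ?_ ?_
  · rintro x y hxy hx ⟨h, hy⟩
    apply hx
    let x₁ := ((𝟙 G : G ⟶ G) ^ (p ^ h)).left x
    have hx₁ : x₁ ⤳ ((𝟙 G : G ⟶ G) ^ (p ^ h)).left y := hxy.map ((𝟙 G : G ⟶ G) ^ (p ^ h)).left.continuous
    obtain ⟨m, hm, hmx⟩ := Groth.Agent.GrpNeutral20.exists_pow_mem_of_specializes G hx₁ (n := 1) Nat.one_pos
      (by rw [pow_one]; exact hy)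
    have hp1 : p = 1 ∨ p.Prime := by
      rcases CharP.exists (S.residueField (G.hom x)) with ⟨q, hq⟩
      rcases CharP.char_is_prime_or_zero (S.residueField (G.hom x)) q with hprime | rfl
      · refine Or.inr ?_
        rw [← hS (G.hom x), ringExpChar, ringChar.eq (S.residueField (G.hom x)) q, max_eq_left hprime.one_le]
        exact hprime
      · exact Or.inl ((hS (G.hom x)).symm.trans (by
          rw [ringExpChar, ringChar.eq (S.residueField (G.hom x)) 0]; rfl))
    obtain ⟨a, m', hm', rfl⟩ : ∃ a m', Nat.Coprime m' p ∧ m = p ^ a * m' := by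
      rcases hp1 with rfl | hprime
      · exact ⟨0, m, Nat.coprime_one_right m, by simp⟩
      · obtain ⟨a, m', hm', rfl⟩ := Nat.exists_eq_pow_mul_and_not_dvd hm.ne' p hprime.ne_one
        exact ⟨a, m', ((hprime.coprime_iff_not_dvd).2 hm').symm, rfl⟩
    have hm'0 : 0 < m' := Nat.pos_of_ne_zero fun h => by rw [h, Nat.mul_zero] at hm; exact lt_irrefl _ hm
    refine ⟨h + a, ?_⟩
    rw [pow_add, hcomp]
    refine Groth.Agent.GrpNeutral20.mem_of_specializes G (hopen m' hm'0 hm')
      (hx₁.map ((𝟙 G : G ⟶ G) ^ (p ^ a)).left.continuous)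
      (Groth.Agent.GrpNeutral20.pow_mem_neutral G hy _) ?_
    rw [← hcomp]
    exact hmx
  · intro x hx
    obtain ⟨h, hhx⟩ : ∃ h : ℕ, ((𝟙 G : G ⟶ G) ^ (p ^ h)).left x ∈ SGA3x.neutralSet G := not_not.1 hx
    obtain ⟨Q, hQ, hxQ, hsub⟩ := Groth.Agent.GrpNeutral20.exists_nhd_subset G hhx
    refine ⟨((𝟙 G : G ⟶ G) ^ (p ^ h)).left ⁻¹' Q, hQ.preimage ((𝟙 G : G ⟶ G) ^ (p ^ h)).left.continuous, hxQ, ?_⟩
    intro y hy hxy hyF
    exact hyF ⟨h, hsub _ (hxy.map ((𝟙 G : G ⟶ G) ^ (p ^ h)).left.continuous) hy⟩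

end Groth.Agent.S5696
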