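import Groth.Statements.S5697
import Groth.Agent.Lib.GrpNeutral20.UnivOpen
import Groth.Agent.Lib.GrpNeutral20.Gen
import Groth.Agent.Lib.ConsH13.IndCons
import Groth.Agent.S3399
import Groth.Agent.S3403
-- import your own Groth.Agent.* helpers here

set_option autoImplicit false
universe u
open CategoryTheory CategoryTheory.Limits MonoidalCategory CartesianMonoidalCategory MonObj GrpObj AlgebraicGeometry
open FGA

namespace Groth.Agent.S5697

/-- Let S be a locally Noetherian scheme and G a commutative group scheme locally of finite type over S.
Assume that the union of the connected components of the identity of the fibres of G is closed in G,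
and that G ⟶ S is universally open at the points of that union: for every base change S' ⟶ S, the
structure map of G' = G ×_S S' is open at every point of the identity-component set of G' (the image
of every open neighbourhood is a neighbourhood). Then the prime-to-p torsion component set (points x
some n-th power of which, n ≥ 1 prime to the residue characteristic exponent, lies in the
identity-component set) is universally open over S at the points of the identity-component set, in
the same sense: for every base change S' ⟶ S, every point x' of the identity-component set of G' and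
every open neighbourhood U of x', the image in S' of the intersection of U with the prime-to-p
torsion component set of G' is a neighbourhood of the image of x'. (The published statement
concludes this at every point of the prime-to-p torsion component set; it fails for the closed
subgroup scheme of the constant group ℤ/2 over a discrete valuation ring of residue characteristic
different from 2 that keeps the non-identity element only over the closed point: there the
identity-component set is a copy of the base, all hypotheses hold, and the isolated non-identity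
point over the closed point is 2-torsion with image the closed point alone. The published proof
treats neighbourhoods of points of the identity-component set, so the conclusion is stated at those
points here.) -/
theorem result (S : Scheme.{u}) [IsLocallyNoetherian S]
    (G : Over S) [GrpObj G] [IsCommMonObj G] [LocallyOfFiniteType G.hom] (h0 : IsClosed (SGA3x.neutralSet G))
    (hopen : ∀ (S' : Scheme.{u}) (g : S' ⟶ S) (x' : ↥(Red.bc g G).left), x' ∈ SGA3x.neutralSet (Red.bc g G) →
      ∀ U : Set ↥(Red.bc g G).left, IsOpen U → x' ∈ U →
        (Red.bc g G).hom.base '' U ∈ nhds ((Red.bc g G).hom.base x'))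
    (S' : Scheme.{u}) (g : S' ⟶ S) (x' : ↥(Red.bc g G).left)
    (hx' : x' ∈ SGA3x.neutralSet (Red.bc g G))
    (U : Set ↥(Red.bc g G).left) (hU : IsOpen U) (hxU : x' ∈ U) :
    (Red.bc g G).hom.base '' (U ∩ {x : ↥(Red.bc g G).left | ∃ n : ℕ, 0 < n ∧ Nat.Coprime n (ringExpChar (S'.residueField ((Red.bc g G).hom.base x))) ∧
        ((𝟙 (Red.bc g G) : (Red.bc g G) ⟶ (Red.bc g G)) ^ n).left.base x ∈ SGA3x.neutralSet (Red.bc g G)}) ∈
      nhds ((Red.bc g G).hom.base x') := by
  haveI : LocallyOfFinitePresentation G.hom := inferInstance
  have huniv : ∀ x ∈ SGA3x.neutralSet G, EGA43.IsUnivOpenAt G.hom x := fun x hx Y' h z hz V hV => by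
    obtain ⟨O, hOV, hO, hzO⟩ := mem_nhds_iff.1 hV
    have hzN : z ∈ SGA3x.neutralSet (Red.bc h G) := by
      rw [Groth.Agent.GrpNeutral20.neutralSet_bc]
      show (pullback.fst G.hom h) z ∈ SGA3x.neutralSet G
      exact hz.symm ▸ hx
    exact Filter.mem_of_superset (hopen Y' h z hzN O hO hzO) (Set.image_mono hOV)
  have hd : Groth.Agent.GrpNeutral20.ConstDimGen G := by
    intro y' y hy
    rw [Groth.Agent.GrpNeutral20.fibreDimAt_eq, Groth.Agent.GrpNeutral20.fibreDimAt_eq,
      Groth.Agent.GrpNeutral20.unit_over, Groth.Agent.GrpNeutral20.unit_over]
    obtain ⟨V, hV, hVc⟩ := Groth.Agent.GrpNeutral20.const_of_univOpen G y ⊤ trivial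
      (fun x hx _ _ => huniv x hx)
    obtain ⟨O, hOV, hO, hyO⟩ := mem_nhds_iff.1 hV
    exact hVc _ (hOV (hy.mem_open hO hyO))
  let G' := Red.bc g G
  haveI : LocallyOfFinitePresentation G'.hom := inferInstanceAs (LocallyOfFinitePresentation (pullback.snd G.hom g))
  have hd' := hd.bc G g
  let M : G'.left.Opens := ⟨U, hU⟩
  let E : Set S' := G'.hom '' (SGA3x.neutralSet G' ∩ U)
  have hE : ProCons.IsIndConstructible E := by
    have e : E = (M.ι ≫ G'.hom) '' (M.ι ⁻¹' SGA3x.neutralSet G') := by
      ext y
      constructor
      · rintro ⟨z, ⟨h1, h2⟩, rfl⟩; exact ⟨⟨z, h2⟩, h1, rfl⟩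
      · rintro ⟨z, h1, rfl⟩; exact ⟨M.ι z, ⟨h1, z.2⟩, rfl⟩
    rw [e]
    exact Groth.Agent.S3399.result _ _
      (Groth.Agent.ConsH13.isIndConstructible_preimage _ (Groth.Agent.GrpNeutral20.isIndConstructible G'))
  have hint : G'.hom x' ∈ interior E := by
    rw [Groth.Agent.S3403.result S' E hE]
    intro y' hy'
    obtain ⟨w, hwM, hwN, hw⟩ := Groth.Agent.GrpNeutral20.exists_generization G' hd' (M := M) hxU hx' hy'
    exact ⟨w, ⟨hwN, hwM⟩, hw⟩
  refine Filter.mem_of_superset (mem_interior_iff_mem_nhds.1 hint) (Set.image_mono fun z hz => ⟨hz.2, 1, Nat.one_pos, ?_, ?_⟩)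
  · exact Nat.coprime_one_left _
  · rw [pow_one]; exact hz.1

end Groth.Agent.S5697
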