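import Groth.Statements.S5699
import Groth.Agent.Lib.CMReg18.QuotFam

set_option autoImplicit false
universe u
open CategoryTheory CategoryTheory.Limits AlgebraicGeometry
open FGA

open Groth.Agent Groth.Agent.CMReg18
namespace Groth.Agent.S5699

/-- Let k be an algebraically closed field, P projective n-space over k, E a coherent module on P and Φ
a finite set of functions from ℤ to ℤ. Then the coherent quotient modules F of E whose Hilbert
function r ↦ χ(P, F(r)) (alternating sum of the dimensions of the cohomology groups in degrees at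
most n) lies in Φ form a bounded family: there are a k-scheme T of finite type and a coherent module
on P ×_k T such that every such F is isomorphic to its fibre at some k-point of T. Stated over an
algebraically closed field; the published statement is the relative version over a Noetherian base
for classes of sheaves on the fibres, which this special case does not cover. -/
theorem result (k : Type u) [Field k] [IsAlgClosed k] (n : ℕ)
    (E : (CohB1.ProjSpace n k).Modules) (hE : Coh.IsCoh E) (Φ : Set (ℤ → ℤ)) (hΦ : Φ.Finite) :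
    Pic13.IsBounded k (CohB1.ProjSpace n k) (fun F =>
      Coh.IsCoh F ∧ (∃ p : E ⟶ F, Epi p) ∧
        (fun r : ℤ => FGA.eulerCharLE k (CohB1.ProjSpace n k)
          (CohB1.tensorMod F (Twist.twistProjSpace n k r)) n) ∈ Φ) := by
  classical
  let X := CohB1.ProjSpace n k
  let ι : X ⟶ CohB1.ProjSpace n k := 𝟙 _
  have hι : ι ≫ CohB1.ProjSpace.toSpec n k = X ↘ Spec (CommRingCat.of k) := Category.id_comp _
  haveI := isProper_projSpace k (n := n)
  haveI : IsNoetherian X := CohFound.isNoetherian_of_isProper (X ↘ Spec (CommRingCat.of k))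
  let D := (projData k n).pullback ι
  let eO : ∀ r : ℤ, D.O r ≅ Twist.twistProjSpace n k r := fun r => (Scheme.Modules.pullbackId X).app _
  obtain ⟨m₀, hm₀⟩ := D.exists_gg_large (NumPoly18.isAmple_pullback_twistProjSpace ι) hE
  obtain ⟨c, p, hp⟩ := CohFound.exists_epi_freeMod
    (CurveCoh17.isCoh_tensor hE (Snapper.isCoh_of_isInvertible (D.inv m₀))) (hm₀ m₀ le_rfl)
  choose M hM using fun f : ℤ → ℤ => exists_uniform_quotients ι hι c fun l : ℕ => (f (m₀ + l) : ℚ)
  obtain ⟨B, hB⟩ := (hΦ.image M).bddAbove
  obtain ⟨T, q, h1, h2, G, h3, h4⟩ := isBounded_regular ι hι (B + m₀) hΦ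
  refine ⟨T, q, h1, h2, G, h3, fun F ⟨hF, ⟨π, hπ⟩, hΦF⟩ => h4 F ?_⟩
  have hfun : (fun r : ℤ => FGA.eulerCharLE k X (CohB1.tensorMod F (Twist.twistProjSpace n k r)) n) =
      fun r => Curv2.euler k X (D.tw F r) := funext fun r => by
    rw [← eulerCharLE_twistOn ι hι hF]
    refine Finset.sum_congr rfl fun i _ => ?_
    rw [(CurveCoh17.hequiv k (M2.tensorIso (Iso.refl F) (eO r)) i).finrank_eq.symm]
    rfl
  rw [hfun] at hΦF
  haveI := hp
  haveI := hπ
  obtain ⟨h, -⟩ := hM (fun r => Curv2.euler k X (D.tw F r)) _ (p ≫ (M2.tensorR (D.O m₀)).map π)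
    (CurveCoh17.isCoh_tensor hF (Snapper.isCoh_of_isInvertible (D.inv m₀)))
    (epi_comp' hp (CohFound.epi_tensorMap π (D.O m₀))) fun l => by
      exact_mod_cast CurveCoh17.euler_iso (k := k) (D.twTwist F m₀ (l : ℤ))
  exact ⟨hF, fun i hi => van_iso k (D.twTwist F m₀ _ ≪≫ D.twIso F (by ring))
    (h.of_le k (hB ⟨_, hΦF, rfl⟩) i hi), hΦF⟩

end Groth.Agent.S5699
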