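import Groth.Statements.S5700
import Groth.Agent.Lib.FpqcGlue22.Glue
import Groth.Agent.Lib.RigDesc22.Classes
import Groth.Agent.Lib.ParaFDesc27.PicDescent

set_option autoImplicit false
universe u
open CategoryTheory CategoryTheory.Limits AlgebraicGeometry
open FGA

namespace Groth.Agent.S5700

/-- Let f : X ⟶ S be quasi-compact and separated, with the induced maps from sections of the structure
sheaf of S to sections of the structure sheaf of X bijective over every open of S, and admitting a
section σ; let g : S' ⟶ S be flat, surjective and quasi-compact, X' = X ×_S S', S'' = S' ×_S S' and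
X'' = X ×_S S'' with its two projections to X'. If L' is an invertible module on X' whose pullbacks
along the two projections X'' ⟶ X' become isomorphic after tensoring the second with the pullback of
some invertible module on S'', then there are an invertible module L on X and an invertible module
N' on S' with L' isomorphic to the tensor product of the pullback of L and the pullback of N'.
(Exactness of Pic(X)/Pic(S) → Pic(X')/Pic(S') ⇉ Pic(X'')/Pic(S'').) (The published statement asks
for sections of f only locally on S and is phrased with relative Picard classes, the global sections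
of the Zariski sheaf on S associated with U ↦ Pic(X_U); this row assumes a global section, in which
case those classes are classes of invertible modules on X modulo those pulled back from S, and the
local-section form follows from it by restricting to the opens of S over which a section exists.) -/
theorem result {X S S' : Scheme.{u}} (f : X ⟶ S)
    [QuasiCompact f] [IsSeparated f] (hf : ∀ U : S.Opens, Function.Bijective (f.app U))
    (σ : S ⟶ X) (hσ : σ ≫ f = 𝟙 S)
    (g : S' ⟶ S) [Flat g] [Surjective g] [QuasiCompact g]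
    (L' : (pullback f g).Modules) (hL' : PicF.IsInvertible L')
    (hcomp : ∃ N'' : (pullback g g).Modules, PicF.IsInvertible N'' ∧
      Nonempty ((Scheme.Modules.pullback (pullback.map f (pullback.fst g g ≫ g) f g (𝟙 X) (pullback.fst g g) (𝟙 S)
          ((Category.comp_id f).trans (Category.id_comp f).symm) (Category.comp_id _))).obj L' ≅
        CohB1.tensorMod ((Scheme.Modules.pullback (pullback.map f (pullback.fst g g ≫ g) f g (𝟙 X) (pullback.snd g g) (𝟙 S)
          ((Category.comp_id f).trans (Category.id_comp f).symm) ((Category.comp_id _).trans pullback.condition))).obj L')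
          ((Scheme.Modules.pullback (pullback.snd f (pullback.fst g g ≫ g))).obj N''))) :
    ∃ (L : X.Modules) (N' : S'.Modules), PicF.IsInvertible L ∧ PicF.IsInvertible N' ∧
      Nonempty (L' ≅ CohB1.tensorMod ((Scheme.Modules.pullback (pullback.fst f g)).obj L)
        ((Scheme.Modules.pullback (pullback.snd f g)).obj N')) := by
  let T : Over S := Over.mk g
  obtain ⟨n, hn, hnt⟩ := RigDesc22.exists_normalise f σ hσ (T := T) (c := PicF.cl L') ⟨L', rfl, hL'⟩
  let π := pullback.snd f g
  let d := PicGrp.mulCl (PicF.cl L') (PicF.pullCl π n)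
  obtain ⟨Nd, hNd, hNdi⟩ : PicF.IsInvertibleCl d :=
    M2.isInvertibleCl_mulCl ⟨L', rfl, hL'⟩ (PicDesc21.isInvertibleCl_pull _ hn)
  have ha₀ : ∀ (V : Scheme.{u}) (τ : V ⟶ S), Flat τ → Function.Bijective (pullback.snd f τ).appTop := fun V τ hτ => by
    haveI := hτ
    exact ParaFDesc27.bijective_app_baseChange τ f (IsPullback.of_hasPullback f τ) hf ⊤
  have hdt : PicF.pullCl (RigDesc22.sec f σ hσ g) d = PicF.cl (Coh.structureModule S') := hnt
  let v := pullback.fst g g ≫ g
  let π2 := pullback.snd f v
  let a := RigDesc22.Xm f (pullback.fst g g) (rfl : pullback.fst g g ≫ g = v)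
  let b := RigDesc22.Xm f (pullback.snd g g) (pullback.condition.symm : pullback.snd g g ≫ g = v)
  have hρ : Nonempty (RigDesc22.pb (RigDesc22.sec f σ hσ g) Nd ≅ RigDesc22.pb g (Coh.structureModule S)) := by
    refine (PicGrp.cl_eq_cl_iff _ _).1 ?_
    rw [RigDesc22.cl_pb, RigDesc22.cl_pb, hNd, PicDesc21.pullCl_structure, hdt]
  have hglue : Nonempty (RigDesc22.pb a Nd ≅ RigDesc22.pb b Nd) := by
    refine (PicGrp.cl_eq_cl_iff _ _).1 ?_
    rw [RigDesc22.cl_pb, RigDesc22.cl_pb, hNd]
    obtain ⟨N'', hN'', ⟨e⟩⟩ := hcomp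
    have hc : PicF.pullCl a (PicF.cl L') =
        PicGrp.mulCl (PicF.pullCl b (PicF.cl L')) (PicF.pullCl π2 (PicF.cl N'')) := by
      have hab : a = pullback.map f v f g (𝟙 X) (pullback.fst g g) (𝟙 S)
          ((Category.comp_id f).trans (Category.id_comp f).symm) (Category.comp_id _) := by
        apply pullback.hom_ext <;> simp [a, v, pullback.map] <;> first | exact (pullback.lift_fst _ _ _).symm | exact (pullback.lift_snd _ _ _).symm
      have hbb : b = pullback.map f v f g (𝟙 X) (pullback.snd g g) (𝟙 S)
          ((Category.comp_id f).trans (Category.id_comp f).symm) ((Category.comp_id _).trans pullback.condition) := by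
        apply pullback.hom_ext <;> simp [b, v, pullback.map] <;> first | exact (pullback.lift_fst _ _ _).symm | exact (pullback.lift_snd _ _ _).symm
      rw [hab, hbb]
      exact (PicGrp.cl_eq_cl_iff _ _).2 ⟨e⟩
    have hπa : a ≫ π = π2 ≫ pullback.fst g g := RigDesc22.Xm_snd f _ _
    have hπb : b ≫ π = π2 ≫ pullback.snd g g := RigDesc22.Xm_snd f _ _
    obtain ⟨n', hn'⟩ := M2.exists_invCl ⟨PicF.pullCl (pullback.snd g g) n, PicDesc21.isInvertibleCl_pull _ hn⟩
    let E := PicGrp.mulCl (PicGrp.mulCl (PicF.cl N'') (PicF.pullCl (pullback.fst g g) n)) n'.1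
    have hE : PicF.pullCl a d = PicGrp.mulCl (PicF.pullCl b d) (PicF.pullCl π2 E) := by
      simp only [d, E, PicDesc21.pullCl_mulCl, PicDesc21.pullCl_pullCl, hπa, hπb, hc]
      have h1 : PicGrp.mulCl (PicF.pullCl π2 n'.1) (PicF.pullCl (π2 ≫ pullback.snd g g) n) =
          PicF.cl (Coh.structureModule _) := by
        rw [← PicDesc21.pullCl_pullCl, ← PicDesc21.pullCl_mulCl, hn', PicDesc21.pullCl_structure]
      simp only [M2.mulCl_assoc]
      congr 1
      rw [M2.mulCl_comm (PicF.pullCl (π2 ≫ pullback.snd g g) n), M2.mulCl_assoc, M2.mulCl_assoc, h1,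
        PicDesc21.mulCl_one]
    have hs := congrArg (PicF.pullCl (RigDesc22.sec f σ hσ v)) hE
    simp only [PicDesc21.pullCl_mulCl, PicDesc21.pullCl_pullCl] at hs
    rw [RigDesc22.sec_Xm, RigDesc22.sec_Xm, show RigDesc22.sec f σ hσ v ≫ π2 = 𝟙 _ from RigDesc22.sec_snd f σ hσ v,
      PicLoc.pullCl_id, ← PicDesc21.pullCl_pullCl, ← PicDesc21.pullCl_pullCl, hdt, PicDesc21.pullCl_structure,
      PicDesc21.pullCl_structure, M2.one_mulCl] at hs
    rw [hE, ← hs, PicDesc21.pullCl_structure, PicDesc21.mulCl_one]
  haveI : Flat (pullback.fst f g) := inferInstance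
  haveI : Surjective (pullback.fst f g) := inferInstance
  haveI : QuasiCompact (pullback.fst f g) := inferInstance
  obtain ⟨M, hM, hMi⟩ := FpqcGlue22.exists_descended f σ hσ ha₀ (ι := PUnit.{u + 1}) (u := fun _ => g)
    (N := fun _ => Nd) (fun _ => hNdi) (fun _ => hρ.some) (fun _ _ => hglue)
    (by rw [Presieve.ofArrows_pUnit]; exact Scheme.Hom.singleton_mem_fpqcPrecoverage _)
  obtain ⟨e⟩ := hMi PUnit.unit
  have hMinv : PicF.IsInvertible M :=
    ParaFDesc27.isInvertible_of_pullback (pullback.fst f g) hM (Twist.isInvertible_of_iso e.symm hNdi)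
  obtain ⟨m, hm⟩ := M2.exists_invCl ⟨n, hn⟩
  obtain ⟨N', hN', hN'i⟩ := m.2
  refine ⟨M, N', hMinv, hN'i, (PicGrp.cl_eq_cl_iff _ _).1 ?_⟩
  show PicF.cl L' = PicGrp.mulCl (PicF.pullCl (pullback.fst f g) (PicF.cl M)) (PicF.pullCl π (PicF.cl N'))
  rw [hN', show PicF.pullCl (pullback.fst f g) (PicF.cl M) = d from
    ((PicGrp.cl_eq_cl_iff _ _).2 ⟨e⟩).trans hNd, M2.mulCl_assoc, ← PicDesc21.pullCl_mulCl, M2.mulCl_comm n, hm]
  erw [PicDesc21.pullCl_structure]
  exact (PicDesc21.mulCl_one _).symm

end Groth.Agent.S5700
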