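import Groth.Statements.S5703
import Groth.Agent.Lib.Azumaya.Henselian

set_option autoImplicit false
universe u v
open TensorProduct
open Dix

namespace Groth.Agent.S5703

/-- Let R be a henselian local ring with residue field k and let A, B be Azumaya algebras over R. Then
every isomorphism of k-algebras e₀ : k ⊗_R A ≃ k ⊗_R B is induced by an isomorphism of R-algebras e
: A ≃ B, in the sense that e₀ (1 ⊗ a) = 1 ⊗ e(a) for all a. In particular Azumaya algebras over R
with isomorphic special fibres are isomorphic. -/
theorem result (R : Type u) [CommRing R] [HenselianLocalRing R] (A : Type u) [Ring A] [Algebra R A] [IsAzumaya R A] (B : Type u) [Ring B] [Algebra R B] [IsAzumaya R B] (e₀ : (IsLocalRing.ResidueField R ⊗[R] A) ≃ₐ[IsLocalRing.ResidueField R] (IsLocalRing.ResidueField R ⊗[R] B)) : ∃ e : A ≃ₐ[R] B, ∀ a : A, e₀ ((1 : IsLocalRing.ResidueField R) ⊗ₜ[R] a) = (1 : IsLocalRing.ResidueField R) ⊗ₜ[R] (e a) := by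
  exact Groth.Agent.Azumaya.exists_algEquiv_lift A B e₀

end Groth.Agent.S5703
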