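import Groth.Statements.S5708
import Groth.Agent.Lib.FieldBr3.Curve

set_option autoImplicit false
universe u
open CategoryTheory AlgebraicGeometry
open Dix

namespace Groth.Agent.S5708

/-- Let k be an algebraically closed field and X a reduced scheme of finite type over k of dimension at
most 1 (an algebraic curve). Then H²(X_et, G_m) = 0. (The published statement is the vanishing of
the Brauer group of Azumaya algebras, which embeds in H²(X_et, G_m); this row states the vanishing
of H²(X_et, G_m) and assumes X reduced.) -/
theorem result (k : Type u) [Field k] [IsAlgClosed k] (X : Scheme.{u}) (f : X ⟶ Spec (CommRingCat.of k)) [LocallyOfFiniteType f] [QuasiCompact f] [IsReduced X] (hdim : topologicalKrullDim X ≤ 1) : Subsingleton (Dix.BrCoh X) := by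
  haveI : IsLocallyNoetherian X := LocallyOfFiniteType.isLocallyNoetherian f
  haveI : CompactSpace X := QuasiCompact.compactSpace_of_compactSpace f
  haveI : IsNoetherian X := ⟨⟩
  have hcl : ∀ x : X, IsClosed ({x} : Set X) → IsSepClosed (X.residueField x) := fun x hx => by
    letI := Groth.Agent.VarDim.resAlg f x
    have h : Algebra.trdeg k (X.residueField x) = 0 := by
      rw [Groth.Agent.VarDim.trdeg_residueField f x, (Groth.Agent.VarDim.sdim_eq_zero_iff_isClosed f x).2 hx,
        Nat.cast_zero]
    haveI : Algebra.IsAlgebraic k (X.residueField x) := trdeg_eq_zero_iff.1 h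
    haveI : IsSepClosed k := inferInstance
    exact Groth.Agent.EtPic3.isSepClosed_of_ringEquiv
      (RingEquiv.ofBijective (algebraMap k (X.residueField x)) IsAlgClosed.algebraMap_bijective_of_isIntegral)
  refine subsingleton_of_forall_eq 0 fun ξ => ?_
  obtain ⟨N, hN, h⟩ := Groth.Agent.EtPic3.killed_of_maxPts (P := ⊥) hdim
    (Groth.Agent.EtPic3.pointsKilled_of_sepClosed ⊥ hcl) 1 Nat.one_pos
    (fun η hη q hq hq1 W hW z => by
      obtain rfl : q = 1 := by omega
      exact Groth.Agent.EtPic3.killed_H1_local hη W z)
    ξ (fun η hη => ⟨1, one_mem _, (one_nsmul _).trans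
      (@Subsingleton.elim _ (Groth.Agent.FieldBr3.subsingleton_H_Gm_stalk f hdim hη (q := 1 + 1) one_le_two) _ _)⟩)
  rw [Submonoid.mem_bot.1 hN, one_nsmul] at h
  exact h

end Groth.Agent.S5708
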