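import Groth.Statements.S5714
import Groth.Agent.Lib.SmoothDesc24.Gm
import Groth.Agent.Lib.SmoothDesc24.Main
-- import your own Groth.Agent.* helpers here

set_option autoImplicit false
universe u
open CategoryTheory AlgebraicGeometry
open Dix

namespace Groth.Agent.S5714

/-- The case of the multiplicative group (which is representable by a smooth affine X-group scheme, the
case in which the lifting and representability conditions of the general comparison statement hold).
Let X be a scheme and a the comparison morphism from the big fppf site of X to its small étale site.
Then R^q a_* (G_m,fppf) = 0 for every q > 0; this is the sheaf form of the statement that the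
canonical maps H^i(X'_et, G_m) → H^i(X'_fppf, G_m) are isomorphisms for every X' étale over X. -/
theorem result (X : Scheme.{u}) [EtFppf.ACont X] (q : ℕ) (hq : 0 < q) : Limits.IsZero ((EtFppf.RaPush X q).obj (EtDl.GmF X)) := by
  exact SmoothDesc24.isZero_RaPush _ (SmoothDesc24.acyc_GmF X) q hq

end Groth.Agent.S5714
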