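import Groth.Statements.S5715
import Groth.Agent.Lib.GmHens24.Epi
import Groth.Agent.Lib.FieldH25.Transfer
-- import your own Groth.Agent.* helpers here

set_option autoImplicit false
universe u
open CategoryTheory AlgebraicGeometry
open Dix

namespace Groth.Agent.S5715

/-- The case of the multiplicative group and the étale topology. Let R be a henselian local ring and I a
proper ideal of R, so that Spec R/I is a nonempty closed subscheme of the henselian local scheme
Spec R. Then for every i ≥ 1 the restriction map H^i((Spec R)_et, G_m) → H^i((Spec R/I)_et, G_m) is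
bijective. The restriction map is EtLim.HGmPull along Spec R/I → Spec R, with the exactness of the
inverse image carried as an instance binder. -/
theorem result (R : Type u) [CommRing R] [HenselianLocalRing R] (I : Ideal R) (hI : I ≠ ⊤) [Limits.PreservesFiniteLimits (EtCoh.pull (Spec.map (CommRingCat.ofHom (Ideal.Quotient.mk I))))] (i : ℕ) (hi : 1 ≤ i) : Function.Bijective (EtLim.HGmPull (Spec.map (CommRingCat.ofHom (Ideal.Quotient.mk I))) i) := by
  let u : Spec (CommRingCat.of (R ⧸ I)) ⟶ Spec (CommRingCat.of R) :=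
    Spec.map (CommRingCat.ofHom (Ideal.Quotient.mk I))
  haveI : IsClosedImmersion u := IsClosedImmersion.spec_of_surjective _ Ideal.Quotient.mk_surjective
  have h₁ := FieldH25.bijective_HofPush_integral u (EtCoh.Gm (Spec (CommRingCat.of (R ⧸ I)))) i
  suffices h₂ : Function.Bijective ((EtCoh.HF (Spec (CommRingCat.of R)) i).map (EtLim.GmPush u)).hom from
    h₁.comp h₂
  haveI := GmHens24.epi_GmPush u
  let S := CategoryTheory.ShortComplex.mk (Limits.kernel.ι (EtLim.GmPush u)) (EtLim.GmPush u) (Limits.kernel.condition _)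
  have hS : S.ShortExact := ShortComplex.ShortExact.mk'
    (ShortComplex.exact_of_f_is_kernel _ (Limits.kernelIsKernel _)) inferInstance inferInstance
  have hK := GmHens24.feExact_kernel (R := R) I hI
  have hv : ∀ j, 1 ≤ j → Subsingleton (EtCoh.H (Spec (CommRingCat.of R)) S.X₁ j) := fun j hj => by
    obtain ⟨m, rfl⟩ : ∃ m, j = m + 1 := ⟨j - 1, by omega⟩
    exact GmHens24.subsingleton_H m _ hK
  show Function.Bijective fun x : EtCoh.H (Spec (CommRingCat.of R)) S.X₂ i =>
    x.comp (Abelian.Ext.mk₀ S.g) (add_zero i)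
  refine ⟨fun x y hxy => ?_, fun y => ?_⟩
  · obtain ⟨z, hz⟩ := Abelian.Ext.covariant_sequence_exact₂ _ hS (x - y) (by
      rw [sub_eq_add_neg, Abelian.Ext.add_comp, Abelian.Ext.neg_comp, ← sub_eq_add_neg, sub_eq_zero]
      exact hxy)
    rw [(hv i hi).elim z 0, Abelian.Ext.zero_comp] at hz
    exact sub_eq_zero.1 hz.symm
  · obtain ⟨x, hx⟩ := Abelian.Ext.covariant_sequence_exact₃ _ hS y rfl ((hv (i + 1) (by omega)).elim _ _)
    exact ⟨x, hx⟩

end Groth.Agent.S5715
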