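import Groth.Statements.S5717
import Groth.Agent.Lib.Azumaya.Local
import Mathlib.RingTheory.Flat.FaithfullyFlat.Algebra
import Mathlib.RingTheory.MatrixAlgebra

set_option autoImplicit false
universe u v
open TensorProduct
open Dix

namespace Groth.Agent.S5717

/-- Implication (iii bis) ⇒ (ii), over an affine base with one faithfully flat cover. Let R be a
commutative ring and A an R-algebra whose underlying R-module is finitely presented. If there are a
faithfully flat commutative R-algebra R' and an integer r ≥ 1 such that R' ⊗_R A is isomorphic as an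
R'-algebra to the matrix algebra M_r(R'), then A is an Azumaya algebra over R (finite locally free
with A ⊗ A° → End_R(A) bijective). (The published condition asks the cover only to be surjective;
with that reading the implication fails — R = k[ε], A = R/(ε), R' = k — so this row asks R' to be
faithfully flat.) -/
theorem result (R : Type u) [CommRing R] (A : Type u) [Ring A] [Algebra R A] [Module.FinitePresentation R A] (R' : Type u) [CommRing R'] [Algebra R R'] [Module.FaithfullyFlat R R'] (r : ℕ) (hr : 1 ≤ r) (e : (R' ⊗[R] A) ≃ₐ[R'] Matrix (Fin r) (Fin r) R') : IsAzumaya R A := by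
  have : Module.Projective R' (R' ⊗[R] A) := Module.Projective.of_equiv e.symm.toLinearEquiv
  have : Module.Flat R A := Module.Flat.of_flat_tensorProduct R A R'
  have : Module.Projective R A := Module.Flat.projective_of_finitePresentation
  rw [Groth.Agent.Azumaya.isAzumaya_iff_fibres]
  intro p _
  obtain ⟨P, hP⟩ := PrimeSpectrum.comap_surjective_of_faithfullyFlat (A := R) (B := R') ⟨p, ‹_›⟩
  have hp : p = P.asIdeal.comap (algebraMap R R') := (congrArg PrimeSpectrum.asIdeal hP).symm
  let L := P.asIdeal.ResidueField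
  let := (Ideal.ResidueField.map p P.asIdeal (algebraMap R R') hp).toAlgebra
  have : IsScalarTower R p.ResidueField L := IsScalarTower.of_algebraMap_eq fun x => by
    rw [RingHom.algebraMap_toAlgebra, Ideal.ResidueField.map_algebraMap]
    exact IsScalarTower.algebraMap_apply R R' L x
  let e₁ : L ⊗[p.ResidueField] (p.ResidueField ⊗[R] A) ≃ₐ[L] L ⊗[R'] (R' ⊗[R] A) :=
    (Groth.Agent.Azumaya.cancel R A p.ResidueField L).trans
      (Groth.Agent.Azumaya.cancel R A R' L).symm
  let g₀ := (matrixEquivTensor (Fin r) R' L).symm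
  let g : L ⊗[R'] Matrix (Fin r) (Fin r) R' ≃ₐ[L] Matrix (Fin r) (Fin r) L :=
    AlgEquiv.ofRingEquiv (f := g₀.toRingEquiv) fun l => by
      change g₀ (l ⊗ₜ 1) = _
      simp [g₀, Matrix.algebraMap_eq_diagonal, Matrix.map_one, Matrix.smul_one_eq_diagonal]
  let e₂ : L ⊗[p.ResidueField] (p.ResidueField ⊗[R] A) ≃ₐ[L] Matrix (Fin r) (Fin r) L :=
    e₁.trans ((Algebra.TensorProduct.congr (AlgEquiv.refl : L ≃ₐ[L] L) e).trans g)
  exact ⟨(CSAlg.isCSA_of_splits (k := p.ResidueField) ⟨r, by omega, ⟨e₂⟩⟩).1,
    (CSAlg.isCSA_of_splits (k := p.ResidueField) ⟨r, by omega, ⟨e₂⟩⟩).2.1⟩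

end Groth.Agent.S5717
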