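import Groth.Statements.S5722
import Groth.Agent.Lib.VeryAmple11.Ample

set_option autoImplicit false
universe u
open CategoryTheory CategoryTheory.Limits AlgebraicGeometry TopologicalSpace Opposite
open scoped HomogeneousIdeal
open EGA2

namespace Groth.Agent.S5722

/-- Let f : X → Y be a quasi-compact morphism, E a quasi-coherent O_Y-module, 𝒮 its graded symmetric
algebra, p : P → Y the projective bundle P(E) = Proj(𝒮) with its charts over affine opens, and
O_P(1) its fundamental sheaf, given with its chart identifications. If g : X → P is a Y-morphism (g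
≫ p = f) whose underlying map is a homeomorphism of X onto a subspace of P, then the inverse image
g^*O_P(1) is ample relative to f. -/
theorem result {X Y : Scheme.{u}} (f : X ⟶ Y) [QuasiCompact f]
    (E : Y.Modules) (hE : Coh.IsQCoh E) (𝒮 : RelProj.QCGrAlg Y) (j : E ⟶ 𝒮.toModule)
    (hj : RelProj.IsGrSymAlg E 𝒮 j) (P : Scheme.{u}) (p : P ⟶ Y)
    (chart : ∀ (U : Y.Opens) (hU : IsAffineOpen U), ((p ⁻¹ᵁ U : P.Opens) : Scheme.{u}) ≅ Proj (𝒮.deg U hU))
    (hP : RelProj.IsRelProj 𝒮 p chart) (O1 : P.Modules)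
    (lam : ∀ (U : Y.Opens) (hU : IsAffineOpen U),
      O1 ⟶ (Scheme.Modules.pushforward (RelProj.emb p chart U hU)).obj (GrTwist.twist (𝒮.deg U hU) 1))
    (hO1 : RelProj.IsRelTwist 𝒮 p chart 1 O1 lam)
    (g : X ⟶ P) (hg : g ≫ p = f) (hemb : Topology.IsEmbedding g.base) :
    RelAmple.IsRelAmple f ((Scheme.Modules.pullback g).obj O1) := by
  subst hg
  exact VA11.isRelAmple_of_embedding (VA11.isGenDegOne_of_isGrSymAlg hE hj) hO1 g hemb (CategoryTheory.Iso.refl _)

end Groth.Agent.S5722
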