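import Groth.Statements.S5725
import Groth.Agent.Lib.VeryAmple11.AmplePow

set_option autoImplicit false
universe u
open CategoryTheory CategoryTheory.Limits AlgebraicGeometry TopologicalSpace Opposite
open scoped HomogeneousIdeal
open EGA2

namespace Groth.Agent.S5725

/-- Let q : X → Y be a quasi-compact morphism and L an invertible O_X-module. If L is very ample
relative to q (isomorphic to i^*O_{P(E)}(1) for a Y-immersion i : X → P(E) into the projective
bundle of a quasi-coherent O_Y-module E), then the canonical morphism q^*(q_*L) → L, the counit of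
the adjunction between inverse and direct image, is an epimorphism. (The published statement also
records that q_*L is quasi-coherent, which holds because q is then quasi-compact and separated, and
lists a further property, that the morphism into the projective bundle of q_*L attached to this
epimorphism is an immersion; with that property the converse holds. Those parts are not stated
here.) -/
theorem result {X Y : Scheme.{u}} (q : X ⟶ Y) [QuasiCompact q] (L : X.Modules)
    (hL : PicF.IsInvertible L) (h : RelProj.IsRelVeryAmple q L) :
    Epi ((Scheme.Modules.pullbackPushforwardAdjunction q).counit.app L) := by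
  open Groth.Agent Groth.Agent.M1 in
  let adj := Scheme.Modules.pullbackPushforwardAdjunction q
  let N := (Scheme.Modules.pushforward q).obj L
  refine (epi_iff_stalk _).2 fun x a => ?_
  obtain ⟨E, φ, -, hva⟩ := VA11.exists_va_of_isRelVeryAmple h
  obtain ⟨U, m₀, hm₀⟩ := (VA11.vamp_of_forall hva).gens x
  have hxU : x ∈ q ⁻¹ᵁ U := VA11.gl_le (VA11.secs φ U m₀) hm₀
  let m : Γ(N, U) := φ.app U m₀
  have hg := (VA11.mem_gl_iff hL (W := q ⁻¹ᵁ U) hxU).1 hm₀
  obtain ⟨c, hc⟩ := hg.2 a
  have h1 : (adj.counit.app L).app (q ⁻¹ᵁ U) (M2.pullSec q N m) = VA11.secs φ U m₀ :=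
    congrArg (fun ψ : N ⟶ N => ψ.app U m) (adj.right_triangle_components L)
  refine ⟨c • Amp.gm ((Scheme.Modules.pullback q).obj N) x (U := q ⁻¹ᵁ U) hxU (M2.pullSec q N m), ?_⟩
  refine ((M2.stMap ((M2.pmF X).map (adj.counit.app L)) x).map_smul c _).trans ?_
  refine Eq.trans (congrArg (c • ·) ((M2.stMap_sg ((M2.pmF X).map (adj.counit.app L)) hxU (M2.pullSec q N m)).trans
    (congrArg (fun z => Amp.gm L x (U := q ⁻¹ᵁ U) hxU z) h1))) hc

end Groth.Agent.S5725
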