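import Groth.Statements.S5730
import Groth.Agent.Lib.VeryAmple11.BundleTwist
import Groth.Agent.Lib.VeryAmple11.TwistGen

set_option autoImplicit false
universe u
open CategoryTheory CategoryTheory.Limits AlgebraicGeometry TopologicalSpace Opposite
open scoped HomogeneousIdeal
open EGA2

namespace Groth.Agent.S5730

/-- Let E be a quasi-coherent O_Y-module and L an invertible O_Y-module, 𝒮 (with j : E → 𝒮) the graded
symmetric algebra of E and 𝒯 (with k : E ⊗ L → 𝒯) that of E ⊗ L, and let p : P → Y, q : Q → Y be the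
projective bundles P(E) = Proj(𝒮) and P(E ⊗ L) = Proj(𝒯) with their charts over affine opens. Then
there is an isomorphism i : P ≅ Q over Y such that, for every n ≥ 0 and all twisting sheaves O_P(n)
and O_Q(n) (modules given with their chart identifications), i^*O_Q(n) is isomorphic to O_P(n) ⊗
p^*(L^{⊗n}). (Existence of the isomorphisms only: the published statement names a canonical i and
canonical identifications, and states the twist relation for every integer n; this row asserts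
existence and the relation for n ≥ 0.) -/
theorem result {Y P Q : Scheme.{u}} (E : Y.Modules) (hE : Coh.IsQCoh E)
    (L : Y.Modules) (hL : PicF.IsInvertible L)
    (𝒮 : RelProj.QCGrAlg Y) (j : E ⟶ 𝒮.toModule) (hj : RelProj.IsGrSymAlg E 𝒮 j)
    (𝒯 : RelProj.QCGrAlg Y) (k : CohB1.tensorMod E L ⟶ 𝒯.toModule) (hk : RelProj.IsGrSymAlg (CohB1.tensorMod E L) 𝒯 k)
    (p : P ⟶ Y)
    (chart : ∀ (U : Y.Opens) (hU : IsAffineOpen U), ((p ⁻¹ᵁ U : P.Opens) : Scheme.{u}) ≅ Proj (𝒮.deg U hU))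
    (hP : RelProj.IsRelProj 𝒮 p chart) (q : Q ⟶ Y)
    (chartQ : ∀ (U : Y.Opens) (hU : IsAffineOpen U), ((q ⁻¹ᵁ U : Q.Opens) : Scheme.{u}) ≅ Proj (𝒯.deg U hU))
    (hQ : RelProj.IsRelProj 𝒯 q chartQ) :
    ∃ i : P ≅ Q, i.hom ≫ q = p ∧
      ∀ (n : ℕ) (OP : P.Modules)
        (lamP : ∀ (U : Y.Opens) (hU : IsAffineOpen U),
          OP ⟶ (Scheme.Modules.pushforward (RelProj.emb p chart U hU)).obj (GrTwist.twist (𝒮.deg U hU) (n : ℤ)))
        (OQ : Q.Modules)
        (lamQ : ∀ (U : Y.Opens) (hU : IsAffineOpen U),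
          OQ ⟶ (Scheme.Modules.pushforward (RelProj.emb q chartQ U hU)).obj (GrTwist.twist (𝒯.deg U hU) (n : ℤ))),
        RelProj.IsRelTwist 𝒮 p chart (n : ℤ) OP lamP → RelProj.IsRelTwist 𝒯 q chartQ (n : ℤ) OQ lamQ →
          Nonempty ((Scheme.Modules.pullback i.hom).obj OQ ≅
            CohB1.tensorMod OP ((Scheme.Modules.pullback p).obj (CohB1.tensorPow L n))) := by
  open Groth.Agent in
  classical
  have hEL : Coh.IsQCoh (CohB1.tensorMod E L) := M2.isQCoh_tensor hE (Twist.isQCoh_of_isInvertible hL)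
  have hgen := VA11.isGenDegOne_of_isGrSymAlg hE hj
  have hgenQ := VA11.isGenDegOne_of_isGrSymAlg hEL hk
  obtain ⟨O1, lam, hO⟩ := RelProj11.exists_isRelTwist (n := (1 : ℤ)) hP
  obtain ⟨O1', lam', hO'⟩ := RelProj11.exists_isRelTwist (n := (1 : ℤ)) hQ
  obtain ⟨φ, hφ⟩ := VA11.exists_can hE hj hP hO
  obtain ⟨φ', hφ'⟩ := VA11.exists_can hEL hk hQ hO'
  have hI := RelProj11.isInvertible_relTwist hgen hO
  have hI' := RelProj11.isInvertible_relTwist hgenQ hO'
  obtain ⟨D, hD, ⟨c⟩⟩ := M2.exists_inverse hL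
  let c' : CohB1.tensorMod D L ≅ Coh.structureModule Y := M2.tensorComm D L ≪≫ c
  let θ' : CohB1.tensorMod (CohB1.tensorMod E L) D ≅ E :=
    M2.tensorAssoc E L D ≪≫ M2.tensorIso (Iso.refl E) c ≪≫ M2.tensorRUnit E
  let θ'' : CohB1.tensorMod E L ≅ CohB1.tensorMod E L :=
    M2.tensorIso θ'.symm (Iso.refl L) ≪≫ M2.tensorAssoc _ D L ≪≫ M2.tensorIso (Iso.refl _) c' ≪≫ M2.tensorRUnit _
  have hθ' : ∀ (U : Y.Opens) (e : Γ(E, U)) (n : Γ(L, U)) (n' : Γ(D, U)),
      θ'.hom.app U (M2.tsec _ D (M2.tsec E L e n) n') =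
        (show Γ(Y, U) from c.hom.app U (M2.tsec L D n n')) • e := by
    intro U e n n'
    simp only [θ', Iso.trans_hom, M1.comp_app_apply]
    rw [VA11.tensorAssoc_tsec]
    refine (congrArg ((M2.tensorRUnit E).hom.app _) (M2.tensorMap_tsec _ _ _ _)).trans ?_
    exact (VA11.tensorRUnit_tsec E _ _).trans rfl
  have hθ'' : ∀ (U : Y.Opens) (e : Γ(CohB1.tensorMod E L, U)) (n' : Γ(D, U)) (n : Γ(L, U)),
      θ''.hom.app U (M2.tsec E L (θ'.hom.app U (M2.tsec _ D e n')) n) =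
        (show Γ(Y, U) from c'.hom.app U (M2.tsec D L n' n)) • e := by
    intro U e n' n
    simp only [θ'', Iso.trans_hom, M1.comp_app_apply]
    have h1 : (M2.tensorIso θ'.symm (Iso.refl L)).hom.app U (M2.tsec E L (θ'.hom.app U (M2.tsec _ D e n')) n) =
        M2.tsec _ L (M2.tsec _ D e n') n := by
      refine (M2.tensorMap_tsec _ _ _ _).trans ?_
      rw [Iso.symm_hom, ← M1.comp_app_apply, θ'.hom_inv_id]
      rfl
    rw [h1, VA11.tensorAssoc_tsec]
    refine (congrArg ((M2.tensorRUnit _).hom.app _) (M2.tensorMap_tsec _ _ _ _)).trans ?_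
    exact (VA11.tensorRUnit_tsec _ _ _).trans rfl
  obtain ⟨i, hi, τ, hτ⟩ := VA11.exists_isTwistMap hEL hk hQ hO' hφ' hI hL (VA11.gens_can hE hj hO hφ) (Iso.refl _)
  obtain ⟨i', hi', τ', hτ'⟩ := VA11.exists_isTwistMap hE hj hP hO hφ hI' hD (VA11.gens_can hEL hk hO' hφ') θ'
  obtain ⟨i'', hi'', τ'', hτ''⟩ := VA11.exists_isTwistMap hEL hk hQ hO' hφ' hI hL (VA11.gens_can hE hj hO hφ) θ''
  have h1 : i ≫ i' = 𝟙 P := VA11.twist_comp_eq_id hE hj hP hO hφ (Iso.refl _) θ' c hθ' hτ hτ'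
  have h2 : i' ≫ i'' = 𝟙 Q := VA11.twist_comp_eq_id hEL hk hQ hO' hφ' θ' θ'' c' hθ'' hτ' hτ''
  have h3 : i'' = i := by
    calc i'' = (i ≫ i') ≫ i'' := by rw [h1, Category.id_comp]
      _ = i := by rw [Category.assoc, h2, Category.comp_id]
  refine ⟨⟨i, i', h1, h3 ▸ h2⟩, hi, fun n OP lamP OQ lamQ hOP hOQ => ?_⟩
  obtain ⟨a⟩ := VA11.nonempty_relTwist_iso_pow hP hgen hO n _ rfl OP lamP hOP
  obtain ⟨b⟩ := VA11.nonempty_relTwist_iso_pow hQ hgenQ hO' n _ rfl OQ lamQ hOQ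
  exact ⟨(Scheme.Modules.pullback i).mapIso b ≪≫ M2.pullTensorPowIso i O1' n ≪≫ M2.tensorPowIso τ n ≪≫
    M2.tensorPowMul O1 ((Scheme.Modules.pullback p).obj L) n ≪≫
    M2.tensorIso a.symm (M2.pullTensorPowIso p L n).symm⟩

end Groth.Agent.S5730
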