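import Groth.Statements.S5734
import Groth.Agent.Lib.VeryAmple11.BundleSum

set_option autoImplicit false
universe u
open CategoryTheory CategoryTheory.Limits AlgebraicGeometry TopologicalSpace Opposite
open scoped HomogeneousIdeal
open EGA2

namespace Groth.Agent.S5734

/-- Let E and F be quasi-coherent O_Y-modules with graded symmetric algebras 𝒮E, 𝒮F and let 𝒮 be the
graded symmetric algebra of E ⊕ F; let πE : 𝒮 → 𝒮E and πF : 𝒮 → 𝒮F be the graded algebra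
homomorphisms induced by the two projections of E ⊕ F (compatible with the structure maps from E ⊕
F, E and F), the irrelevant ideal of the target being generated by the image of that of the source
over every affine open (so that the induced morphisms of homogeneous spectra are everywhere
defined). Let P(E ⊕ F), P(E), P(F) be the projective bundles with their charts and hE : P(E) → P(E ⊕
F), hF : P(F) → P(E ⊕ F) the morphisms chartwise induced by πE and πF. Then the morphism P(E) ⨿ P(F)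
→ P(E ⊕ F) which restricts to hE and hF is a closed immersion: the disjoint union of P(E) and P(F)
is a closed subscheme of P(E ⊕ F). -/
theorem result {Y PE PF P : Scheme.{u}} (E F : Y.Modules)
    (hE : Coh.IsQCoh E) (hF : Coh.IsQCoh F) (𝒮E 𝒮F 𝒮 : RelProj.QCGrAlg Y)
    (jE : E ⟶ 𝒮E.toModule) (hjE : RelProj.IsGrSymAlg E 𝒮E jE)
    (jF : F ⟶ 𝒮F.toModule) (hjF : RelProj.IsGrSymAlg F 𝒮F jF)
    (j : E ⊞ F ⟶ 𝒮.toModule) (hj : RelProj.IsGrSymAlg (E ⊞ F) 𝒮 j)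
    (πE : 𝒮.toQCAlg ⟶ 𝒮E.toQCAlg) (hπE : RelProj.IsGradedHom πE)
    (hjπE : j ≫ RelSpec.QCAlg.Hom.toModuleMap πE = biprod.fst ≫ jE)
    (πF : 𝒮.toQCAlg ⟶ 𝒮F.toQCAlg) (hπF : RelProj.IsGradedHom πF)
    (hjπF : j ≫ RelSpec.QCAlg.Hom.toModuleMap πF = biprod.snd ≫ jF)
    (hirrE : ∀ (U : Y.Opens) (hU : IsAffineOpen U),
      (𝒮E.deg U hU)₊ ≤ ((𝒮.deg U hU)₊).map (RelProj.gradedHomAt πE hπE U hU))
    (hirrF : ∀ (U : Y.Opens) (hU : IsAffineOpen U),
      (𝒮F.deg U hU)₊ ≤ ((𝒮.deg U hU)₊).map (RelProj.gradedHomAt πF hπF U hU))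
    (p : P ⟶ Y) (pE : PE ⟶ Y) (pF : PF ⟶ Y)
    (chart : ∀ (U : Y.Opens) (hU : IsAffineOpen U), ((p ⁻¹ᵁ U : P.Opens) : Scheme.{u}) ≅ Proj (𝒮.deg U hU))
    (chartE : ∀ (U : Y.Opens) (hU : IsAffineOpen U), ((pE ⁻¹ᵁ U : PE.Opens) : Scheme.{u}) ≅ Proj (𝒮E.deg U hU))
    (chartF : ∀ (U : Y.Opens) (hU : IsAffineOpen U), ((pF ⁻¹ᵁ U : PF.Opens) : Scheme.{u}) ≅ Proj (𝒮F.deg U hU))
    (hP : RelProj.IsRelProj 𝒮 p chart) (hPE : RelProj.IsRelProj 𝒮E pE chartE) (hPF : RelProj.IsRelProj 𝒮F pF chartF)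
    (hE' : PE ⟶ P) (hhE : RelProj.IsRelProjMap πE hπE hirrE chart chartE hE')
    (hF' : PF ⟶ P) (hhF : RelProj.IsRelProjMap πF hπF hirrF chart chartF hF') :
    IsClosedImmersion (coprod.desc hE' hF') := by
  open Groth.Agent Groth.Agent.M1 in
  haveI := VA11.isClosedImmersion_relProjMap hE hjE hπE hjπE biprod.inl biprod.inl_fst hP hPE hhE
  haveI := VA11.isClosedImmersion_relProjMap hF hjF hπF hjπF biprod.inr biprod.inr_snd hP hPF hhF
  refine VA11.isClosedImmersion_coprod_desc hE' hF' fun x x' hxx => ?_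
  obtain ⟨U, hU, hz⟩ := RelProj11.exists_mem_preimage (p := p) (hE' x)
  have hxU : x ∈ pE ⁻¹ᵁ U := by
    rw [← RelProj11.isRelProjMap_comp hP hPE hhE]; exact hz
  have hxU' : x' ∈ pF ⁻¹ᵁ U := by
    rw [← RelProj11.isRelProjMap_comp hP hPF hhF]; rw [hxx] at hz; exact hz
  obtain ⟨y, hy⟩ := VA11.exists_map_eq hhE hU hxU
  obtain ⟨y', hy'⟩ := VA11.exists_map_eq hhF hU hxU'
  have hw := (RelProj.emb p chart U hU).isOpenEmbedding.injective (hy.trans (hxx.trans hy'.symm))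
  have hq : Coh.IsQCoh (E ⊞ F) := M1.isQCoh_biprod hE hF
  have hgen := VA11.isGenDegOne_of_isGrSymAlg hq hj
  let w := Proj.map (RelProj.gradedHomAt πE hπE U hU) (hirrE U hU) y
  have hmem : w ∈ (⨆ f : 𝒮.deg U hU 1, Proj.basicOpen (𝒮.deg U hU) (f : 𝒮.presheaf.obj (op U))) := by
    rw [RelProj11.iSup_basicOpen_degOne hgen U hU]; trivial
  obtain ⟨f, hf⟩ := Opens.mem_iSup.1 hmem
  obtain ⟨m, hm⟩ := (VA11.bijective_deg_one hq hj U hU).2 f
  have hfe : f.1 = (show 𝒮.presheaf.obj (op U) from j.app U m) := (congrArg Subtype.val hm).symm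
  let m₁ : Γ(E ⊞ F, U) := (biprod.inl : E ⟶ E ⊞ F).app U ((biprod.fst : E ⊞ F ⟶ E).app U m)
  let f₁ : 𝒮.presheaf.obj (op U) := j.app U m₁
  have hEf : RelProj.gradedHomAt πE hπE U hU f₁ = RelProj.gradedHomAt πE hπE U hU f.1 := by
    rw [hfe]
    refine (VA11.app_eq_of_comp hjπE U m₁).trans (Eq.trans ?_ (VA11.app_eq_of_comp hjπE U m).symm)
    refine congrArg (jE.app U) ?_
    exact congrArg (fun χ : E ⟶ E => χ.app U ((biprod.fst : E ⊞ F ⟶ E).app U m)) biprod.inl_fst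
  have hFf : RelProj.gradedHomAt πF hπF U hU f₁ = 0 := by
    refine (VA11.app_eq_of_comp hjπF U m₁).trans ?_
    rw [show (biprod.snd : E ⊞ F ⟶ F).app U m₁ = 0 from
      congrArg (fun χ : E ⟶ F => χ.app U ((biprod.fst : E ⊞ F ⟶ E).app U m)) biprod.inl_snd]
    exact map_zero _
  have h1 : y ∈ Proj.basicOpen (𝒮E.deg U hU) (RelProj.gradedHomAt πE hπE U hU f.1) := hf
  rw [← hEf] at h1
  have h2 : w ∈ Proj.basicOpen (𝒮.deg U hU) f₁ := h1
  have h3 : y' ∈ Proj.basicOpen (𝒮F.deg U hU) (RelProj.gradedHomAt πF hπF U hU f₁) := by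
    have : Proj.map (RelProj.gradedHomAt πF hπF U hU) (hirrF U hU) y' ∈ Proj.basicOpen (𝒮.deg U hU) f₁ := hw ▸ h2
    exact this
  rw [hFf, Proj.basicOpen_zero] at h3
  exact h3

end Groth.Agent.S5734
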