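import Groth.Statements.S5735
import Groth.Agent.Lib.ZConn5.Count
import Groth.Agent.Lib.ZConn5.UnivOpenUnique
import Groth.Agent.Lib.GeomIrr18.Level
import Groth.Agent.Lib.GeomIrr18.Res
import Mathlib.FieldTheory.PurelyInseparable.PerfectClosure
-- import your own Groth.Agent.* helpers here

set_option autoImplicit false
universe u
open Coherent

namespace Groth.Agent.S5735

open CategoryTheory CategoryTheory.Limits AlgebraicGeometry IsLocalRing

set_option backward.isDefEq.respectTransparency false
set_option backward.isDefEq.respectTransparency.types false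

/-- A separable element with a `q`-power in the base lies in the base. -/
theorem mem_range_of_pow {k E : Type u} [Field k] [Field E] [Algebra k E] (q : ℕ) [ExpChar k q] (a : E)
    (ha : IsSeparable k a) (n : ℕ) (hn : a ^ q ^ n ∈ Set.range (algebraMap k E)) :
    a ∈ Set.range (algebraMap k E) := by
  haveI := (IntermediateField.isSeparable_adjoin_simple_iff_isSeparable k E).2 ha
  have h1 := IntermediateField.adjoin_eq_adjoin_pow_expChar_pow_of_isSeparable k E {a} q n
  have h2 : IntermediateField.adjoin k ((· ^ q ^ n) '' ({a} : Set E)) = ⊥ := by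
    rw [Set.image_singleton, IntermediateField.adjoin_simple_eq_bot_iff, IntermediateField.mem_bot]
    exact hn
  rw [← IntermediateField.mem_bot, ← h2, ← h1]
  exact IntermediateField.subset_adjoin k {a} rfl

variable {X Y : Scheme.{u}}

/-- The generic fibre is geometrically connected. -/
theorem geometricallyConnected_generic (f : X ⟶ Y) {η : Y} (hfld : IsField (Y.presheaf.stalk η)) (ξ : X)
    (hX : IsField (X.presheaf.stalk ξ)) (hξ : ∀ x : X, ξ ⤳ x) (hfξ : f ξ = η) (hsp : f ξ ⤳ η)
    (hrad : ∀ x : X.presheaf.stalk ξ, (∃ q : Polynomial (Y.presheaf.stalk η), q ≠ 0 ∧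
        Polynomial.eval₂ ((f.stalkMap ξ).hom.comp (Y.presheaf.stalkSpecializes hsp).hom) x q = 0) →
      ∃ e : ℕ, x ^ (ringExpChar (X.presheaf.stalk ξ) ^ e) ∈
        Set.range ((f.stalkMap ξ).hom.comp (Y.presheaf.stalkSpecializes hsp).hom)) :
    GeometricallyConnected (f.fiberToSpecResidueField η) := by
  obtain ⟨w, rfl⟩ := (f.range_fiberι η).ge hfξ
  let F := f.fiberToSpecResidueField η
  have hgen : ∀ a : f.fiber η, w ⤳ a := fun a =>
    (f.fiberι η).isEmbedding.isInducing.specializes_iff.1 (hξ _)
  haveI : ConnectedSpace ↥(f.fiber η) := by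
    haveI : Nonempty ↥(f.fiber η) := ⟨w⟩
    haveI : PreconnectedSpace ↥(f.fiber η) := ⟨isPreconnected_singleton.subset_closure (Set.subset_univ _)
      (fun a _ => specializes_iff_mem_closure.1 (hgen a))⟩
    exact { toNonempty := inferInstance }
  let θ := (f.stalkMap (f.fiberι η w)).hom.comp (Y.presheaf.stalkSpecializes hsp).hom
  obtain ⟨ρ, hρ⟩ : ∃ ρ : Y.residueField η ⟶ (f.fiber η).residueField w,
      Spec.map ρ = (f.fiber η).fromSpecResidueField w ≫ F :=
    ⟨Spec.preimage ((f.fiber η).fromSpecResidueField w ≫ F), Spec.map_preimage _⟩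
  let ψ := (f.fiberι η).stalkMap w ≫ (f.fiber η).residue w
  have hcomm : Y.residue η ≫ ρ = (Y.presheaf.stalkSpecializes hsp ≫ f.stalkMap (f.fiberι η w)) ≫ ψ := by
    apply Spec.map_injective
    haveI : Mono (Y.fromSpecStalk η) := inferInstance
    rw [← cancel_mono (Y.fromSpecStalk η)]
    simp only [ψ, Spec.map_comp, Category.assoc]
    rw [Scheme.SpecMap_stalkSpecializes_fromSpecStalk,
      Scheme.SpecMap_stalkMap_fromSpecStalk, ← Category.assoc (Spec.map ρ)]
    rw [hρ, Category.assoc]
    show (f.fiber η).fromSpecResidueField w ≫ F ≫ Y.fromSpecResidueField η = _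
    rw [← Category.assoc (Spec.map ((f.fiberι η).stalkMap w)), Scheme.SpecMap_stalkMap_fromSpecStalk,
      Category.assoc, ← Category.assoc (Spec.map ((f.fiber η).residue w)), ← Scheme.fromSpecResidueField]
    exact congrArg (_ ≫ ·) pullback.condition.symm
  letI : Algebra (Y.residueField η) ((f.fiber η).residueField w) := ρ.hom.toAlgebra
  refine GeomIrr.geometricallyConnected_of_point (k := Y.residueField η) F w hρ fun a ha => ?_
  have hψ : Function.Surjective ψ := fun r => by
    obtain ⟨b, rfl⟩ := (f.fiber η).residue_surjective w r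
    obtain ⟨c, rfl⟩ := (f.fiberι η).stalkMap_surjective w b
    exact ⟨c, rfl⟩
  letI := hX.toField
  letI := hfld.toField
  have hψinj : Function.Injective ψ.hom := RingHom.injective ψ.hom
  obtain ⟨b, rfl⟩ := hψ a
  have hc : ∀ c, ψ (θ c) = ρ (Y.residue η c) := fun c =>
    (congrArg (fun φ : Y.presheaf.stalk η ⟶ (f.fiber η).residueField w => φ.hom c) hcomm).symm
  obtain ⟨P, hP⟩ := Polynomial.map_surjective (Y.residue η).hom (Y.residue_surjective η)
    (minpoly (Y.residueField η) (ψ b))
  have hroot : Polynomial.eval₂ θ b P = 0 := hψinj <| by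
    rw [map_zero, Polynomial.hom_eval₂, show ψ.hom.comp θ = ρ.hom.comp (Y.residue η).hom from RingHom.ext hc,
      ← Polynomial.eval₂_map, hP]
    exact minpoly.aeval (Y.residueField η) (ψ b)
  obtain ⟨e, c, hce⟩ := hrad b ⟨P, fun h => minpoly.ne_zero ha.isIntegral (by rw [← hP, h, Polynomial.map_zero]), hroot⟩
  haveI : ExpChar (Y.residueField η) (ringExpChar (X.presheaf.stalk (f.fiberι η w))) := by
    haveI : ExpChar ((f.fiber η).residueField w) (ringExpChar (X.presheaf.stalk (f.fiberι η w))) :=
      expChar_of_injective_ringHom hψinj _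
    exact RingHom.expChar ρ.hom ρ.hom.injective _
  refine mem_range_of_pow (ringExpChar (X.presheaf.stalk (f.fiberι η w))) _ ha e ⟨Y.residue η c, ?_⟩
  show ρ (Y.residue η c) = _
  rw [← hc, show θ c = _ from hce, map_pow]

/-- Over a trait through the generic point the base change is open. -/
theorem isOpenMap_snd_of_dense {B : Type u} [CommRing B] [IsDomain B] [IsDiscreteValuationRing B] (f : X ⟶ Y)
    (g : Spec (CommRingCat.of B) ⟶ Y)
    (hZ : ∀ Z ∈ irreducibleComponents ↥(pullback f g), Dense ((pullback.snd f g).base '' Z)) :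
    IsOpenMap (pullback.snd f g).base := by
  let η := genericPoint (Spec (CommRingCat.of B))
  have hlift : ∀ z : ↥(pullback f g), ∃ w, w ⤳ z ∧ pullback.snd f g w = η := fun z => by
    obtain ⟨ζ, hζ⟩ := QuasiSober.sober (isIrreducible_irreducibleComponent (x := z)) isClosed_irreducibleComponent
    refine ⟨ζ, specializes_iff_mem_closure.2 (hζ.symm ▸ mem_irreducibleComponent), ?_⟩
    have h1 := hZ _ (irreducibleComponent_mem_irreducibleComponents z)
    have h2 : η ∈ closure {pullback.snd f g ζ} := by
      refine closure_minimal ?_ isClosed_closure (h1 η)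
      rw [← hζ]
      exact (image_closure_subset_closure_image (pullback.snd f g).continuous).trans (by rw [Set.image_singleton])
    exact ((specializes_iff_mem_closure.2 h2).antisymm (genericPoint_specializes _)).eq
  intro O hO
  refine isOpen_iff_forall_mem_open.2 ?_
  rintro t ⟨z, hz, rfl⟩
  rcases GenLen5.eq_closedPoint_or_generic (pullback.snd f g z) with hc | hη
  · refine ⟨Set.univ, fun t _ => ?_, isOpen_univ, trivial⟩
    rcases GenLen5.eq_closedPoint_or_generic t with rfl | rfl
    · exact ⟨z, hz, hc⟩
    · obtain ⟨w, hw, hwη⟩ := hlift z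
      exact ⟨w, hw.mem_open hO hz, hwη⟩
  · refine ⟨{η}, Set.singleton_subset_iff.2 ⟨z, hz, hη⟩, ?_, hη⟩
    rw [show ({η} : Set (Spec (CommRingCat.of B))) = ({closedPoint B} : Set (Spec (CommRingCat.of B)))ᶜ from
      Set.ext fun t => ⟨fun ht ht' => ZConn5.genericPoint_ne_closedPoint (ht.symm.trans ht'),
        fun ht => (GenLen5.eq_closedPoint_or_generic t).resolve_left ht⟩]
    exact (isClosed_singleton_closedPoint B).isOpen_compl

/-- Lower semicontinuity along an open trait. -/
theorem count_le (f : X ⟶ Y) [IsProper f] {B : Type u} [CommRing B] [IsDomain B] [IsDiscreteValuationRing B]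
    [IsAdicComplete (maximalIdeal B) B] [IsAlgClosed (ResidueField B)] (g : Spec (CommRingCat.of B) ⟶ Y)
    (hopen : IsOpenMap (pullback.snd f g).base) :
    MoreMor.nGeomConnComp f (g (closedPoint B)) ≤
      MoreMor.nGeomConnComp f (g (genericPoint (Spec (CommRingCat.of B)))) := by
  let Ω := AlgebraicClosure (FractionRing B)
  let j : Spec (CommRingCat.of Ω) ⟶ Spec (CommRingCat.of B) := Spec.map (CommRingCat.ofHom (algebraMap B Ω))
  have hj : j (closedPoint Ω) = genericPoint (Spec (CommRingCat.of B)) := by
    rw [genericPoint_eq_bot_of_affine]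
    refine PrimeSpectrum.ext ?_
    show Ideal.comap (algebraMap B Ω) (maximalIdeal Ω) = ⊥
    rw [isField_iff_maximalIdeal_eq.1 (Field.toIsField _)]
    exact Ideal.comap_bot_of_injective _ (by
      rw [IsScalarTower.algebraMap_eq B (FractionRing B) Ω]
      exact (algebraMap (FractionRing B) Ω).injective.comp (IsFractionRing.injective B _))
  have h1 := (GeomSpread4.count_point f (j ≫ g)).2
  rw [Scheme.Hom.comp_apply, hj] at h1
  rw [ZConn5.count_closed f g, h1]
  refine (ZConn5.card_le_genericFibre (pullback.snd f g) hopen (closedPoint Ω) j hj).trans_eq ?_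
  exact congrArg Cardinal.toENat (GeomSpread4.mk_eq_of_iso (pullbackLeftPullbackSndIso f g j)).2

open AlgebraicGeometry CategoryTheory CategoryTheory.Limits in
/-- Let X and Y be locally Noetherian integral schemes and f : X → Y a proper dominant morphism which is
universally open in the following sense: for every irreducible locally Noetherian scheme Y' and
every dominant morphism g : Y' → Y, each irreducible component of X ×_Y Y' has dense image in Y'
under the second projection. Suppose that the algebraic closure of the function field R(Y) in R(X)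
is purely inseparable over R(Y): every element of R(X) satisfying a nonzero polynomial over R(Y) has
some p^e-th power coming from R(Y), p being the characteristic exponent. Then for every point y of Y
the fibre X_y is geometrically connected over the residue field k(y) (its base change to any field
extension is connected and nonempty). -/
theorem result {X Y : Scheme.{u}}
    [IsIntegral X] [IsIntegral Y] [IsLocallyNoetherian X] [IsLocallyNoetherian Y] (f : X ⟶ Y) [IsProper f]
    (hdom : f.base (genericPoint X) ⤳ genericPoint Y)
    (hopen : ∀ (Y' : Scheme.{u}) (g : Y' ⟶ Y), IrreducibleSpace ↥Y' → IsLocallyNoetherian Y' →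
      IsDominant g → ∀ Z ∈ irreducibleComponents ↥(pullback f g), Dense ((pullback.snd f g).base '' Z))
    (hrad : ∀ x : X.functionField,
      (∃ q : Polynomial Y.functionField, q ≠ 0 ∧
        Polynomial.eval₂ (CohIII.stalkToFunctionField f (genericPoint Y) hdom) x q = 0) →
      ∃ e : ℕ, x ^ (ringExpChar X.functionField ^ e) ∈
        Set.range (CohIII.stalkToFunctionField f (genericPoint Y) hdom))
    (y : Y) : GeometricallyConnected (f.fiberToSpecResidueField y) := by
  haveI : CompactSpace ↥(f.fiber y) := inferInstance
  have hfξ : f (genericPoint X) = genericPoint Y := (hdom.antisymm (genericPoint_specializes _)).eq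
  haveI hconn := geometricallyConnected_generic f (η := genericPoint Y) (Field.toIsField Y.functionField) (genericPoint X)
    (Field.toIsField X.functionField) (fun x => genericPoint_specializes x) hfξ hdom hrad
  have hone : MoreMor.nGeomConnComp f (genericPoint Y) ≤ 1 := by
    haveI : ConnectedSpace ↥(MoreMor.geomFiber f (genericPoint Y)) :=
      GeometricallyConnected.geometrically_connectedSpace (f := f.fiberToSpecResidueField (genericPoint Y)) _ _ _
        (IsPullback.of_hasPullback _ _)
    exact (ENat.card_le_one_iff_subsingleton _).2 inferInstance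
  have hle : MoreMor.nGeomConnComp f y ≤ 1 := by
    by_cases hy : genericPoint Y = y
    · exact hy ▸ hone
    obtain ⟨B, _, _, _, _, _, g, hg, hgη⟩ := ZConn5.exists_complete_trait (genericPoint_specializes y) hy
    have hdense : DenseRange g := fun a => closure_mono (s := {genericPoint Y}) (Set.singleton_subset_iff.2 (show genericPoint Y ∈ Set.range g from ⟨_, hgη⟩))
      (specializes_iff_mem_closure.1 (genericPoint_specializes a))
    haveI : IsDominant g := ⟨hdense⟩
    have h := count_le f g (isOpenMap_snd_of_dense f g
      (hopen _ g inferInstance inferInstance inferInstance))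
    rw [hg, hgη] at h
    exact h.trans hone
  obtain ⟨x₀, hx₀⟩ : ∃ x, f x = y := by
    obtain ⟨x, -, hx⟩ := (f.isClosedMap _ isClosed_univ).closure_subset
      (closure_mono (s := {genericPoint Y}) (Set.singleton_subset_iff.2 (show genericPoint Y ∈ f '' Set.univ from ⟨genericPoint X, trivial, hfξ⟩))
        (specializes_iff_mem_closure.1 (genericPoint_specializes y)))
    exact ⟨x, hx⟩
  letI : (f.fiber y).Over (Spec (CommRingCat.of (Y.residueField y))) := ⟨f.fiberToSpecResidueField y⟩
  haveI : Subsingleton (_root_.ConnectedComponents ↥(MoreMor.geomFiber f y)) :=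
    (ENat.card_le_one_iff_subsingleton _).1 hle
  haveI : PreconnectedSpace ↥(MoreMor.geomFiber f y) := preconnectedSpace_iff_connectedComponent.2 fun x =>
    Set.eq_univ_of_forall fun z => ConnectedComponents.coe_eq_coe'.1 (Subsingleton.elim _ _)
  haveI : Nonempty ↥(MoreMor.geomFiber f y) := by
    obtain ⟨a, -⟩ := (f.range_fiberι y).ge hx₀
    obtain ⟨z, -, -⟩ := Scheme.Pullback.exists_preimage_pullback (f := f.fiberToSpecResidueField y)
      (g := Spec.map (CommRingCat.ofHom (algebraMap (Y.residueField y) (SeparableClosure (Y.residueField y)))))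
      a (closedPoint _) (Subsingleton.elim (α := PrimeSpectrum (Y.residueField y)) _ _)
    exact ⟨z⟩
  haveI : ConnectedSpace ↥(pullback (f.fiberToSpecResidueField y)
      (Spec.map (CommRingCat.ofHom (algebraMap (Y.residueField y) (SeparableClosure (Y.residueField y)))))) :=
    ({ toNonempty := inferInstance } : ConnectedSpace ↥(MoreMor.geomFiber f y))
  exact GeomIrr.geometricallyConnected_of_bc (k := Y.residueField y) (f.fiberToSpecResidueField y) (SeparableClosure (Y.residueField y))

end Groth.Agent.S5735
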