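import Groth.Statements.S5739
import Groth.Agent.Lib.FormalH7.NearIso

set_option autoImplicit false
universe u
open FCompl

namespace Groth.Agent.S5739

open AlgebraicGeometry CategoryTheory in
/-- Isomorphism case (completions presented by the closed subschemes of the powers of an ideal sheaf on
the base and of its inverse image ideals; the compatibility hypothesis hc always holds and is
carried as data for the completed morphism). Let Z be a locally Noetherian scheme, g : X → Z and h :
Y → Z proper morphisms, f : X → Y a morphism with f ≫ h = g, and 𝓙 an ideal sheaf on Z. Then every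
level of the completed morphism X̂ → Ŷ between the completions along the inverse image ideals of 𝓙
is an isomorphism if and only if there is an open subset U of Z containing the support of 𝓙 such
that the restriction g⁻¹(U) → h⁻¹(U) of f is an isomorphism. -/
theorem result {X Y Z : Scheme.{u}} [IsLocallyNoetherian Z]
    (g : X ⟶ Z) (h : Y ⟶ Z) [IsProper g] [IsProper h] (f : X ⟶ Y) (w : f ≫ h = g)
    (𝓙 : Z.IdealSheafData) (hc : FSch.PowCompat f (𝓙.comap g) (𝓙.comap h)) :
    (∀ n : ℕ, IsIso ((FSch.completionMap f (𝓙.comap g) (𝓙.comap h) hc : FSch.Hom _ _).app n)) ↔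
      ∃ U : Z.Opens, (𝓙.support : Set Z) ⊆ U ∧ IsIso (f ∣_ h ⁻¹ᵁ U) := by
  haveI : IsLocallyNoetherian Y := LocallyOfFiniteType.isLocallyNoetherian h
  haveI : IsProper (f ≫ h) := w ▸ ‹IsProper g›
  haveI : IsProper f := IsProper.of_comp f h
  constructor
  · intro hn
    haveI := hn
    have hcomp : ∀ n : ℕ, IsClosedImmersion (((𝓙.comap h ^ (n + 1)).comap f).subschemeι ≫ f) ∧
        (((𝓙.comap h ^ (n + 1)).comap f).subschemeι ≫ f).ker = 𝓙.comap h ^ (n + 1) := by
      intro n
      rw [← Groth.Agent.FormalH7.pow_comap_eq g h f w 𝓙 n]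
      have e := FSch.completionMap_app f (𝓙.comap g) (𝓙.comap h) hc n
      haveI : IsIso (Scheme.IdealSheafData.subschemeMap ((𝓙.comap g) ^ (n + 1)) ((𝓙.comap h) ^ (n + 1)) f
        (Scheme.IdealSheafData.le_map_iff_comap_le.mpr (hc n))) := e ▸ hn n
      rw [← Scheme.IdealSheafData.subschemeMap_subschemeι _ _ f (Scheme.IdealSheafData.le_map_iff_comap_le.mpr (hc n))]
      refine ⟨inferInstance, ?_⟩
      exact (Groth.Agent.FormalH7.ker_iso_comp (asIso (Scheme.IdealSheafData.subschemeMap _ _ f
        (Scheme.IdealSheafData.le_map_iff_comap_le.mpr (hc n)))) _).trans (Scheme.IdealSheafData.ker_subschemeι _)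
    refine Groth.Agent.FormalH7.exists_nhd_of_near g h f w 𝓙 (P := MorphismProperty.isomorphisms Scheme.{u}) fun y hy => ?_
    obtain ⟨_, _, _, H⟩ := Groth.Agent.FormalH7.exists_nhd_closedImmersion f (𝓙.comap h) (fun n => (hcomp n).1) y hy
    exact H fun n => (hcomp n).2
  · rintro ⟨U, hU, hI⟩ n
    exact Groth.Agent.FormalH7.app_of_restrict g h f w 𝓙 hc (P := MorphismProperty.isomorphisms Scheme.{u}) U hU hI n

end Groth.Agent.S5739
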