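import Groth.Statements.S5742
import Mathlib.RingTheory.AdicCompletion.Noetherian
import Mathlib.RingTheory.Filtration

set_option autoImplicit false
universe u
open Coherent

namespace Groth.Agent.S5742

open AlgebraicGeometry CategoryTheory CategoryTheory.Limits

/-- Morphisms agreeing on all spectra of stalks are equal. -/
theorem hom_ext_stalk {X Y : Scheme.{u}} {φ ψ : X ⟶ Y}
    (h : ∀ x, X.fromSpecStalk x ≫ φ = X.fromSpecStalk x ≫ ψ) : φ = ψ := by
  have hpt : ∀ x, φ x = ψ x := by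
    intro x
    have := congrArg (fun g : Spec (X.presheaf.stalk x) ⟶ Y => g (IsLocalRing.closedPoint _)) (h x)
    rw [← Scheme.fromSpecStalk_closedPoint (x := x)]
    exact this
  have hloc : ∀ x : X, ∃ W : X.Opens, x ∈ W ∧ W.ι ≫ φ = W.ι ≫ ψ := by
    intro x
    obtain ⟨V, hV, hxV, -⟩ := exists_isAffineOpen_mem_and_subset (U := ⊤) (x := φ x) trivial
    obtain ⟨W, hW, hxW, hWsub⟩ := exists_isAffineOpen_mem_and_subset (U := φ ⁻¹ᵁ V ⊓ ψ ⁻¹ᵁ V) (x := x)
      ⟨hxV, show ψ x ∈ V from hpt x ▸ hxV⟩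
    have h1 : W ≤ φ ⁻¹ᵁ V := fun y hy => (hWsub hy).1
    have h2 : W ≤ ψ ⁻¹ᵁ V := fun y hy => (hWsub hy).2
    have heq : φ.appLE V W h1 = ψ.appLE V W h2 := by
      refine CommRingCat.hom_ext (RingHom.ext fun s => ?_)
      refine TopCat.Presheaf.section_ext X.sheaf W _ _ fun y hy => ?_
      have e1 := h y
      rw [← hW.fromSpecStalk_eq_fromSpecStalk hy, IsAffineOpen.fromSpecStalk, Category.assoc, Category.assoc,
        ← IsAffineOpen.SpecMap_appLE_fromSpec φ hV hW h1, ← IsAffineOpen.SpecMap_appLE_fromSpec ψ hV hW h2,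
        ← Category.assoc, ← Category.assoc, cancel_mono, ← Spec.map_comp, ← Spec.map_comp] at e1
      exact congrArg (fun g : Γ(Y, V) ⟶ X.presheaf.stalk y => g.hom s) (Spec.map_injective e1)
    refine ⟨W, hxW, ?_⟩
    rw [← cancel_epi hW.isoSpec.inv, ← Category.assoc, ← Category.assoc]
    change hW.fromSpec ≫ φ = hW.fromSpec ≫ ψ
    rw [← IsAffineOpen.SpecMap_appLE_fromSpec φ hV hW h1, ← IsAffineOpen.SpecMap_appLE_fromSpec ψ hV hW h2, heq]
  choose W hxW hW using hloc
  exact (X.openCoverOfIsOpenCover W (TopologicalSpace.IsOpenCover.mk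
    (eq_top_iff.mpr fun x _ => TopologicalSpace.Opens.mem_iSup.mpr ⟨x, hxW x⟩))).hom_ext _ _ fun x => hW x

/-- Agreement on all thickenings gives agreement on the stalks over `V(I)`. -/
theorem stalk_eq_of_thick {A : Type u} [CommRing A] [IsNoetherianRing A] (I : Ideal A) {X Y : Scheme.{u}}
    (f : X ⟶ Spec (CommRingCat.of A)) [LocallyOfFiniteType f] (φ ψ : X ⟶ Y)
    (e : ∀ n : ℕ, CohB1.thickι f I n ≫ φ = CohB1.thickι f I n ≫ ψ)
    (x : X) (hx : I ≤ (f x).asIdeal) : X.fromSpecStalk x ≫ φ = X.fromSpecStalk x ≫ ψ := by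
  have : IsLocallyNoetherian X := LocallyOfFiniteType.isLocallyNoetherian f
  let θ : CommRingCat.of A ⟶ (X.presheaf.stalk x) := Spec.preimage (X.fromSpecStalk x ≫ f)
  have hθ : Spec.map θ = X.fromSpecStalk x ≫ f := Spec.map_preimage _
  have hIm : I.map θ.hom ≤ IsLocalRing.maximalIdeal (X.presheaf.stalk x) := by
    rw [Ideal.map_le_iff_le_comap]
    have h0 : (Spec.map θ) (IsLocalRing.closedPoint (X.presheaf.stalk x)) = f x := by
      rw [hθ]
      exact congrArg f Scheme.fromSpecStalk_closedPoint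
    rw [← h0] at hx
    exact hx
  let q : ∀ n : ℕ, X.presheaf.stalk x ⟶ CommRingCat.of ((X.presheaf.stalk x) ⧸ (I.map θ.hom) ^ (n + 1)) := fun n =>
    CommRingCat.ofHom (Ideal.Quotient.mk ((I.map θ.hom) ^ (n + 1)))
  have key : ∀ n, Spec.map (q n) ≫ X.fromSpecStalk x ≫ φ = Spec.map (q n) ≫ X.fromSpecStalk x ≫ ψ := by
    intro n
    let r : A ⧸ I ^ (n + 1) →+* (X.presheaf.stalk x) ⧸ (I.map θ.hom) ^ (n + 1) :=
      Ideal.quotientMap _ θ.hom (by rw [← Ideal.map_le_iff_le_comap, Ideal.map_pow])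
    have hc : (Spec.map (q n) ≫ X.fromSpecStalk x) ≫ f =
        Spec.map (CommRingCat.ofHom r) ≫ CohB1.specQuot I n := by
      rw [Category.assoc, ← hθ, CohB1.specQuot, ← Spec.map_comp, ← Spec.map_comp]
      congr 1
    have h2 : Spec.map (q n) ≫ X.fromSpecStalk x =
        pullback.lift (Spec.map (q n) ≫ X.fromSpecStalk x) (Spec.map (CommRingCat.ofHom r)) hc ≫
          CohB1.thickι f I n := (pullback.lift_fst _ _ _).symm
    rw [← Category.assoc, ← Category.assoc, h2]
    refine (Category.assoc _ _ _).trans (Eq.trans ?_ (Category.assoc _ _ _).symm)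
    exact congrArg (fun g => pullback.lift (Spec.map (q n) ≫ X.fromSpecStalk x) (Spec.map (CommRingCat.ofHom r)) hc ≫ g) (e n)
  have hpt : φ x = ψ x := by
    let r0 : (X.presheaf.stalk x : Type u) ⧸ (I.map θ.hom) ^ (0 + 1) →+* IsLocalRing.ResidueField (X.presheaf.stalk x) :=
      Ideal.Quotient.lift _ (IsLocalRing.residue _) fun a ha => (IsLocalRing.residue_eq_zero_iff a).mpr
        (hIm (Ideal.pow_le_self (Nat.succ_ne_zero 0) ha))
    let z : PrimeSpectrum ((X.presheaf.stalk x : Type u) ⧸ (I.map θ.hom) ^ (0 + 1)) :=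
      ⟨RingHom.ker r0, RingHom.ker_isPrime _⟩
    have hz : (Spec.map (q 0)) z = IsLocalRing.closedPoint (X.presheaf.stalk x) := by
      refine PrimeSpectrum.ext ?_
      show (RingHom.ker r0).comap (Ideal.Quotient.mk _) = _
      rw [RingHom.comap_ker]
      exact IsLocalRing.ker_residue
    have := congrArg (fun g : Spec (CommRingCat.of ((X.presheaf.stalk x : Type u) ⧸ (I.map θ.hom) ^ (0 + 1))) ⟶ Y => g z) (key 0)
    change φ ((X.fromSpecStalk x) ((Spec.map (q 0)) z)) = ψ ((X.fromSpecStalk x) ((Spec.map (q 0)) z)) at this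
    rw [hz] at this
    rw [← Scheme.fromSpecStalk_closedPoint (x := x)]
    exact this
  obtain ⟨V, hV, hxV, -⟩ := exists_isAffineOpen_mem_and_subset (U := ⊤) (x := φ x) trivial
  obtain ⟨W, hW, hxW, hWsub⟩ := exists_isAffineOpen_mem_and_subset (U := φ ⁻¹ᵁ V ⊓ ψ ⁻¹ᵁ V) (x := x)
    ⟨hxV, show ψ x ∈ V from hpt ▸ hxV⟩
  have h1 : W ≤ φ ⁻¹ᵁ V := fun y hy => (hWsub hy).1
  have h2 : W ≤ ψ ⁻¹ᵁ V := fun y hy => (hWsub hy).2
  have hk : ∀ g : X ⟶ Y, ∀ hg : W ≤ g ⁻¹ᵁ V, X.fromSpecStalk x ≫ g =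
      Spec.map (g.appLE V W hg ≫ X.presheaf.germ W x hxW) ≫ hV.fromSpec := by
    intro g hg
    rw [Spec.map_comp, Category.assoc, IsAffineOpen.SpecMap_appLE_fromSpec g hV hW hg,
      ← hW.fromSpecStalk_eq_fromSpecStalk hxW, IsAffineOpen.fromSpecStalk, Category.assoc]
  rw [hk φ h1, hk ψ h2] at key ⊢
  congr 1
  apply congrArg Spec.map
  refine CommRingCat.hom_ext (RingHom.ext fun s => ?_)
  rw [← sub_eq_zero, ← Ideal.mem_bot,
    ← Ideal.iInf_pow_eq_bot_of_isLocalRing (I.map θ.hom) (ne_top_of_le_ne_top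
      (IsLocalRing.maximalIdeal.isMaximal (X.presheaf.stalk x)).ne_top hIm), Submodule.mem_iInf]
  intro n
  refine Ideal.pow_le_pow_right n.le_succ ?_
  rw [← Ideal.Quotient.eq_zero_iff_mem, map_sub, sub_eq_zero]
  have := key n
  rw [← Category.assoc, ← Category.assoc, cancel_mono, ← Spec.map_comp, ← Spec.map_comp] at this
  exact congrArg (fun g : Γ(Y, V) ⟶ _ => g.hom s) (Spec.map_injective this)

open AlgebraicGeometry CategoryTheory CategoryTheory.Limits in
/-- Let A be a Noetherian ring separated and complete for the I-adic topology, X proper over Spec A and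
Y locally of finite type over Spec A; write X_n = X ×_A Spec(A/I^(n+1)). Two A-morphisms φ, ψ : X →
Y whose restrictions to X_n coincide for every n are equal. (The published statement takes Y
separated and of finite type over A, which the surjectivity half needs; injectivity uses neither
separatedness nor quasi-compactness of Y. Together with the existence of an A-morphism inducing any
compatible system of morphisms X_n → Y_n, this is the bijectivity of f ↦ f̂ from A-morphisms X → Y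
to morphisms of the completions.) -/
theorem result (A : Type u) [CommRing A] [IsNoetherianRing A]
    (I : Ideal A) [IsAdicComplete I A] {X Y : Scheme.{u}} (f : X ⟶ Spec (CommRingCat.of A))
    (h : Y ⟶ Spec (CommRingCat.of A)) [IsProper f] [LocallyOfFiniteType h] (φ ψ : X ⟶ Y)
    (hφ : φ ≫ h = f) (hψ : ψ ≫ h = f)
    (e : ∀ n : ℕ, CohB1.thickι f I n ≫ φ = CohB1.thickι f I n ≫ ψ) : φ = ψ := by
  refine hom_ext_stalk fun y => ?_
  obtain ⟨x, hyx, hx⟩ : ∃ x, y ⤳ x ∧ I ≤ (f x).asIdeal := by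
    obtain ⟨m, hm, hle⟩ := Ideal.exists_le_maximal (f y).asIdeal (f y).isPrime.ne_top
    have hIm : I ≤ m := (IsAdicComplete.le_jacobson_bot I).trans (sInf_le ⟨bot_le, hm⟩)
    let p : PrimeSpectrum A := ⟨m, hm.isPrime⟩
    have hs : f y ⤳ p := (PrimeSpectrum.le_iff_specializes _ _).mp hle
    obtain ⟨x, hyx, hxp⟩ := f.isClosedMap.specializingMap hs
    exact ⟨x, hyx, hxp ▸ hIm⟩
  rw [← Scheme.SpecMap_stalkSpecializes_fromSpecStalk hyx, Category.assoc, Category.assoc,
    stalk_eq_of_thick I f φ ψ e x hx]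

end Groth.Agent.S5742
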