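import Groth.Statements.S5744
import Groth.Agent.Lib.ModM1.Push
import Groth.Agent.Lib.ModM1.Local
import Mathlib.CategoryTheory.Preadditive.Biproducts
import Mathlib.AlgebraicGeometry.Morphisms.Affine
import Mathlib.CategoryTheory.Limits.Lattice
-- import your own Groth.Agent.* helpers here

set_option autoImplicit false
universe u
open Coherent

namespace Groth.Agent.S5744

open CategoryTheory CategoryTheory.Limits

open AlgebraicGeometry CategoryTheory in
/-- For the Čech complex of sheaves indexed by all ordered tuples with products as terms; over a finite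
index type these terms are finite direct sums. Let X be a separated scheme, (U_i)_{i ∈ ι} a finite
family of affine opens covering X, and F a quasi-coherent O_X-module. Then for every p the degree-p
term of the Čech complex of sheaves 𝔠(𝒰, F), the product over ordered (p+1)-tuples of the direct
images (j_{i_0…i_p})_*(F|_{U_{i_0…i_p}}), is a quasi-coherent O_X-module. -/
theorem result {X : Scheme.{u}} [X.IsSeparated] {ι : Type u}
    [Finite ι] (𝒰 : ι → X.Opens) (h𝒰 : ∀ i, IsAffineOpen (𝒰 i)) (hcov : ⨆ i, 𝒰 i = ⊤)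
    (F : X.Modules) [Coh.IsQCoh F] (p : ℕ) :
    Coh.IsQCoh (((CechOX.cechSh 𝒰).obj F).X p) := by
  haveI : Fintype (Fin (p + 1) → ι) := Fintype.ofFinite _
  have key : ∀ W : X.Opens, IsAffineOpen W → Coh.IsQCoh ((CechOX.pushRestr W).obj F) := fun W hW => by
    haveI : IsAffine (W : Scheme.{u}) := hW
    haveI : IsAffineHom W.ι := IsAffineHom.of_comp W.ι (CategoryTheory.Limits.terminal.from X)
    exact Groth.Agent.M1.isQCoh_push W.ι (Groth.Agent.M1.isQCoh_restrict ‹_› W.ι)
  have haff : ∀ x : Fin (p + 1) → ι, IsAffineOpen (∏ᶜ fun a => 𝒰 (x a)) := fun x => by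
    have h : (∏ᶜ fun a => 𝒰 (x a)) = ⨅ a, 𝒰 (x a) := by
      refine le_antisymm (le_iInf fun a => leOfHom (Pi.π (fun a => 𝒰 (x a)) a)) ?_
      exact leOfHom (Pi.lift fun a => homOfLE (iInf_le _ a))
    rw [h]
    exact IsAffineOpen.iInf fun a => h𝒰 (x a)
  let G : (Fin (p + 1) → ι) → X.Modules := fun x => (CechOX.pushRestr (∏ᶜ fun a => 𝒰 (x a))).obj F
  haveI : HasBiproduct G := HasBiproduct.of_hasProduct G
  refine Groth.Agent.M1.isQCoh_of_isIso (biproduct.isoProduct G) ?_
  exact Groth.Agent.M1.isQCoh_of_isColimit (F := Discrete.functor G) (fun x => key _ (haff x.as))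
    (biproduct.isColimit G)

end Groth.Agent.S5744
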