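import Groth.Statements.S5745
import Groth.Agent.Lib.GrSerre13.Basic

set_option autoImplicit false
universe u
open CategoryTheory CategoryTheory.Limits AlgebraicGeometry Opposite TopologicalSpace
open scoped HomogeneousIdeal
noncomputable section
open Coherent

namespace Groth.Agent.S5745

/-- Over an affine base, and for a graded ring whose generators may have any positive degrees, let S be
a Noetherian commutative ring positively graded by additive subgroups (equivalently S_0 is
Noetherian and S is an S_0-algebra of finite type), X = Proj S, and M a graded S-module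
(non-negatively graded here, the direct sum of its pieces) satisfying (TF): for some k the submodule
generated by the homogeneous elements of degree ≥ k is finitely generated. Then there is N such that
for every n ≥ N the canonical map α_n : M_n → Γ(X, M(n)~), m ↦ m/1, is bijective, where M(n)~ is the
module attached to the shifted graded module M(n). -/
theorem result {A σ : Type u} [CommRing A] [IsNoetherianRing A]
    [SetLike σ A] [AddSubgroupClass σ A] (𝒜 : ℕ → σ) [GradedRing 𝒜]
    {M τ : Type u} [AddCommGroup M] [Module A M] [SetLike τ M] [AddSubgroupClass τ M] (ℳ : ℕ → τ)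
    [SetLike.GradedSMul 𝒜 ℳ] [DirectSum.Decomposition ℳ]
    (hTF : ∃ k : ℕ, (Submodule.span A (⋃ i ∈ Set.Ici k, (ℳ i : Set M))).FG) :
    ∃ N : ℕ, ∀ n : ℕ, N ≤ n → Function.Bijective (GrMod.alpha 𝒜 ℳ n) := by
  obtain ⟨k, hk⟩ := hTF
  exact Groth.Agent.GrSerre13.bijective_alpha 𝒜 ℳ hk

end Groth.Agent.S5745
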