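import Groth.Statements.S5746
import Groth.Agent.Lib.GrSerreU13.Basic
-- import your own Groth.Agent.* helpers here

set_option autoImplicit false
universe u
open CategoryTheory CategoryTheory.Limits AlgebraicGeometry Opposite TopologicalSpace
open scoped HomogeneousIdeal
noncomputable section
open Coherent

namespace Groth.Agent.S5746

/-- Let Y be a Noetherian scheme, 𝒮 a quasi-coherent positively graded O_Y-algebra of finite type and ℳ
a quasi-coherent graded 𝒮-module (non-negatively graded here) satisfying (TF). Then there is one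
integer N such that for every n ≥ N and every affine open U of Y the canonical map α_n : ℳ(U)_n →
Γ(Proj 𝒮(U), (ℳ(U)(n))~), m ↦ m/1, is bijective. (The statement is read on the sections over the
affine opens of Y: over an affine open U the module (ℳ(n))~ on Proj(𝒮) restricts to the module
attached to the shifted graded 𝒮(U)-module ℳ(U)(n), so this is the bijectivity of the sheaf
homomorphism α_n from ℳ_n to the direct image of (ℳ(n))~, with a bound uniform over Y.) -/
theorem result {Y : Scheme.{u}}
    [AlgebraicGeometry.IsNoetherian Y] (𝒮 : RelProj.QCGrAlg Y)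
    (hft : ∀ (U : Y.Opens) (hU : IsAffineOpen U), (𝒮.str.app (op U)).hom.FiniteType)
    (ℳ : RelProj.GrModule 𝒮) (hℳ : Coh.IsQCoh ((AMod.toOS 𝒮.toQCAlg).obj ℳ.mod)) (hTF : ℳ.IsTF) :
    ∃ N : ℕ, ∀ n : ℕ, N ≤ n → ∀ (U : Y.Opens) (hU : IsAffineOpen U),
      Function.Bijective (GrMod.alpha (𝒮.deg U hU) (ℳ.deg U hU) n) := by
  exact Groth.Agent.GrSerreU13.exists_uniform ℳ hft hℳ hTF

end Groth.Agent.S5746
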