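import Groth.Statements.S5747
import Groth.Agent.Lib.TwistFin15.Basic
import Groth.Agent.Lib.RelProj11.Twist
import Mathlib.RingTheory.FiniteType
-- import your own Groth.Agent.* helpers here

set_option autoImplicit false
universe u
open CategoryTheory CategoryTheory.Limits AlgebraicGeometry Opposite TopologicalSpace
open scoped HomogeneousIdeal
noncomputable section
open Coherent

namespace Groth.Agent.S5747

/-- Let Y be a Noetherian scheme, 𝒮 a quasi-coherent positively graded O_Y-algebra of finite type
(generators of any positive degrees), p : X = Proj(𝒮) → Y its relative homogeneous spectrum with its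
charts over the affine opens, and n any integer. Then the homogeneous component O_X(n), given
through its chartwise identifications with the twisting modules O(n) on the Proj 𝒮(U), is a coherent
O_X-module (quasi-coherent of finite type; X is locally Noetherian). -/
theorem result {Y X : Scheme.{u}} [AlgebraicGeometry.IsNoetherian Y]
    (𝒮 : RelProj.QCGrAlg Y)
    (hft : ∀ (U : Y.Opens) (hU : IsAffineOpen U), (𝒮.str.app (op U)).hom.FiniteType)
    (p : X ⟶ Y)
    (chart : ∀ (U : Y.Opens) (hU : IsAffineOpen U), (((p ⁻¹ᵁ U : X.Opens) : Scheme.{u}) ≅ Proj (𝒮.deg U hU)))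
    (hP : RelProj.IsRelProj 𝒮 p chart) (n : ℤ) (L : X.Modules)
    (lam : ∀ (U : Y.Opens) (hU : IsAffineOpen U),
      L ⟶ (Scheme.Modules.pushforward (RelProj.emb p chart U hU)).obj (GrTwist.twist (𝒮.deg U hU) n))
    (hL : RelProj.IsRelTwist 𝒮 p chart n L lam) : Coh.IsCoh L := by
  have hFT : CohB1.IsFT L := by
    refine M1.isFT_of_openImmersion_cover (fun U : Y.affineOpens => RelProj.emb p chart U.1 U.2) (fun x => ?_)
      fun U => M1.isFT_of_isIso (RelProj11.restrictEmbIso hL U.1 U.2).symm ?_
    · obtain ⟨U, hU, y, hy⟩ := RelProj11.exists_emb_eq (chart := chart) x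
      exact ⟨⟨U, hU⟩, y, hy⟩
    · haveI : IsNoetherianRing Γ(Y, U.1) := IsLocallyNoetherian.component_noetherian U
      letI := (𝒮.str.app (op U.1)).hom.toAlgebra
      haveI : Algebra.FiniteType Γ(Y, U.1) (𝒮.presheaf.obj (op U.1)) := hft U.1 U.2
      haveI := Algebra.FiniteType.isNoetherianRing Γ(Y, U.1) (𝒮.presheaf.obj (op U.1))
      exact TwistFin15.isFT_twist (𝒮.deg U.1 U.2) n
  exact ⟨RelProj11.isQCoh_relTwist hL, hFT⟩

end Groth.Agent.S5747
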