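import Groth.Statements.S5748
import Groth.Agent.Lib.AffTwist10.Main

set_option autoImplicit false
universe u
open CategoryTheory CategoryTheory.Limits AlgebraicGeometry Opposite TopologicalSpace
open Coherent

namespace Groth.Agent.S5748

open Groth.Agent Groth.Agent.CohFound

/-- Let Y be a Noetherian scheme, f : X → Y a projective morphism, L an invertible O_X-module ample
relative to f, g : Y' → Y an affine morphism locally of finite type (the spectrum of a
quasi-coherent O_Y-algebra 𝒮 of finite type) and X' = X ×_Y Y' with projections g' : X' → X and f' :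
X' → Y'. The quasi-coherent modules of finite type over the pulled-back O_X-algebra f^*𝒮 = g'_*
O_{X'} are the direct images g'_* G of the coherent O_{X'}-modules G, and they are presented here in
that form. For such a module ℳ = g'_* G there is N such that for every n ≥ N the higher direct
images R^p f_*(ℳ ⊗ L^{⊗n}) (of the underlying abelian sheaf) vanish for all p > 0 and the canonical
morphism f^* f_*(ℳ ⊗ L^{⊗n}) → ℳ ⊗ L^{⊗n} is an epimorphism. -/
theorem result {X Y X' Y' : Scheme.{u}}
    [AlgebraicGeometry.IsNoetherian Y] (f : X ⟶ Y) (hf : RelProj.IsProjective f)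
    (L : X.Modules) (hL : PicF.IsInvertible L) (hamp : RelAmple.IsRelAmple f L)
    (g : Y' ⟶ Y) [IsAffineHom g] [LocallyOfFiniteType g] (g' : X' ⟶ X) (f' : X' ⟶ Y')
    (hsq : IsPullback g' f' f g) (G : X'.Modules) (hG : Coh.IsCoh G) :
    ∃ N : ℕ, ∀ n : ℕ, N ≤ n →
      (∀ p : ℕ, 0 < p →
        IsZero ((Coh.RpushAb f p).obj (Coh.toAb (CohB1.tensorMod ((Coh.push g').obj G) (CohB1.tensorPow L n))))) ∧
      Epi ((Scheme.Modules.pullbackPushforwardAdjunction f).counit.app
        (CohB1.tensorMod ((Coh.push g').obj G) (CohB1.tensorPow L n))) := by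
  haveI : IsProper f := QuotProj11.isProper_of_isProjective hf
  haveI : IsAffineHom g' := MorphismProperty.of_isPullback hsq.flip inferInstance
  haveI : IsProper f' := MorphismProperty.of_isPullback hsq inferInstance
  haveI : IsLocallyNoetherian Y' := LocallyOfFiniteType.isLocallyNoetherian g
  haveI : CompactSpace Y' := QuasiCompact.compactSpace_of_compactSpace g
  haveI : AlgebraicGeometry.IsNoetherian Y' := {}
  haveI : CompactSpace X' := QuasiCompact.compactSpace_of_compactSpace f'
  let L' := (Scheme.Modules.pullback g').obj L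
  have hL' : PicF.IsInvertible L' := PicLoc.isInvertible_pullback g' hL
  have hamp' : RelAmple.IsRelAmple f' L' := RA.isRelAmple_of_isPullback hsq hamp
  obtain ⟨n₀, hn₀⟩ := exists_isZero_rpushAb f' L' hL' (fun W hW => hamp'.2 ⟨W, hW⟩) hG
  obtain ⟨n₁, hn₁⟩ := VA11.exists_epi_counit f' hamp' G hG.1 hG.2
  refine ⟨max n₀ n₁, fun n hn => ?_⟩
  have hLn := Amp.isInvertible_tensorPow hL n
  obtain ⟨D, -, ⟨eD⟩⟩ := M2.exists_inverse hLn
  let Q := CohB1.tensorMod G (CohB1.tensorPow L' n)
  have hQ : Coh.IsQCoh Q :=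
    M2.isQCoh_tensor hG.1 (Twist.isQCoh_of_isInvertible (Amp.isInvertible_tensorPow hL' n))
  haveI : Q.IsQuasicoherent := hQ
  let pe : (Scheme.Modules.pushforward g').obj Q ≅
      CohB1.tensorMod ((Coh.push g').obj G) (CohB1.tensorPow L n) :=
    (Scheme.Modules.pushforward g').mapIso (M2.tensorIso (Iso.refl G) (M2.pullTensorPowIso g' L n).symm) ≪≫
      ((Kunneth22.projIso g' eD).app G).symm
  refine ⟨fun p hp => ?_, ?_⟩
  · refine isZero_of_subsingleton_basis _ (fun U => IsAffineOpen (X := Y) U) (fun W y hy => ?_) fun V hV => ?_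
    · obtain ⟨V, hV, hyV, hVW⟩ := exists_isAffineOpen_mem_and_subset (X := Y) (x := y) (U := W) hy
      exact ⟨V, hV, hyV, hVW⟩
    have hM : Coh.IsQCoh (CohB1.tensorMod ((Coh.push g').obj G) (CohB1.tensorPow L n)) :=
      M2.isQCoh_tensor (M1.isQCoh_push g' hG.1) (Twist.isQCoh_of_isInvertible hLn)
    obtain ⟨e⟩ := nonempty_sections_rpushAb f hM p hV
    obtain ⟨σ⟩ := nonempty_sections_rpushAb f' hQ p (hV.preimage g)
    obtain ⟨ε⟩ := nonempty_hc_push_isAffineHom g' Q p (f ⁻¹ᵁ V)
    have hz : Subsingleton (Hc ((abF X').obj Q) p (g' ⁻¹ᵁ (f ⁻¹ᵁ V))) := by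
      rw [show g' ⁻¹ᵁ (f ⁻¹ᵁ V) = f' ⁻¹ᵁ (g ⁻¹ᵁ V) by
        rw [← Scheme.Hom.comp_preimage, hsq.w, Scheme.Hom.comp_preimage]]
      exact @Equiv.subsingleton _ _ σ.toEquiv.symm (AddCommGrpCat.subsingleton_of_isZero
        (((sheafToPresheaf _ _) ⋙ (evaluation _ _).obj (Opposite.op (g ⁻¹ᵁ V))).map_isZero
          (hn₀ n ((le_max_left _ _).trans hn) p hp)))
    exact @Equiv.subsingleton _ _ e.toEquiv
      (subsingleton_hc_of_iso pe p _ (@Equiv.subsingleton _ _ ε.toEquiv hz))
  · haveI := hn₁ n ((le_max_right _ _).trans hn)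
    haveI := AffTwist10.epi_counit_push f g g' f' hsq Q hQ
    have h := (Scheme.Modules.pullbackPushforwardAdjunction f).counit.naturality pe.hom
    have : Epi (((Scheme.Modules.pushforward f ⋙ Scheme.Modules.pullback f).map pe.hom) ≫
        (Scheme.Modules.pullbackPushforwardAdjunction f).counit.app
          (CohB1.tensorMod ((Coh.push g').obj G) (CohB1.tensorPow L n))) := by
      rw [h]; exact epi_comp _ _
    exact @epi_of_epi _ _ _ _ _ _ _ this

end Groth.Agent.S5748
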