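import Groth.Statements.S5749
import Groth.Agent.Lib.CohFound.AmpleVan
import Groth.Agent.Lib.CohFound.ClosedImmPush
-- import your own Groth.Agent.* helpers here

set_option autoImplicit false
universe u
open Coherent

namespace Groth.Agent.S5749

open Groth.Agent
set_option linter.style.haveILetI false

open AlgebraicGeometry CategoryTheory in
/-- Let A be an Artinian local ring, i : X → P^r_A a closed immersion compatible with the structure
morphisms to Spec A (X projective over A with the very ample module i^* O(1)), F a coherent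
O_X-module and F(n) = F ⊗ i^* O(n). Then for all sufficiently large n the Euler characteristic
χ_A(F(n)) = Σ_{j ≤ r} (-1)^j length_A H^j(X, F(n)) equals the length of H^0(X, F(n)), the A-module
of global sections of F(n). -/
theorem result (A : Type u) [CommRing A]
    [IsArtinianRing A] [IsLocalRing A] (r : ℕ) (X : Scheme.{u}) [X.Over (Spec (CommRingCat.of A))]
    (i : X ⟶ CohB1.ProjSpace r A) [IsClosedImmersion i]
    (hi : i ≫ CohB1.ProjSpace.toSpec r A = X ↘ Spec (CommRingCat.of A)) (F : X.Modules) (hF : Coh.IsCoh F) :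
    ∃ N : ℤ, ∀ n : ℤ, N ≤ n →
      ((Finset.range (r + 1)).sum fun j => (-1 : ℤ) ^ j *
        ((Module.length A (Coh.HH X (CohB1.tensorMod F
          ((Scheme.Modules.pullback i).obj (Twist.twistProjSpace r A n))) j)).toNat : ℤ)) =
      ((Module.length A (Coh.HH X (CohB1.tensorMod F
          ((Scheme.Modules.pullback i).obj (Twist.twistProjSpace r A n))) 0)).toNat : ℤ) := by
  haveI : IsNoetherianRing A := inferInstance
  have hG := CohFound.isCoh_push_closedImm i hF
  choose m₀ hm₀ using fun p : Fin r =>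
    CohFound.ProjNum.serre_vanishing r A (p.1 + 1) (Nat.succ_pos _) ((Scheme.Modules.pushforward i).obj F) hG
  refine ⟨((Finset.univ.sup m₀ : ℕ) : ℤ), fun n hn => ?_⟩
  obtain ⟨k, rfl⟩ : ∃ k : ℕ, n = k := ⟨n.toNat, by omega⟩
  let E : (CohB1.ProjSpace r A).Modules := Twist.twistProjSpace r A (k : ℤ)
  have hE : Coh.IsQCoh E := Groth.Agent.Twist.isQCoh_twistProjSpace r A _
  let Q := CohB1.tensorMod F ((Scheme.Modules.pullback i).obj E)
  haveI : Q.IsQuasicoherent := M2.isQCoh_tensor hF.1 (M1.isQCoh_pullback i hE)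
  obtain ⟨pe⟩ := CohFound.nonempty_push_tensor_iso i F hF.1 E hE
  have hz : ∀ j : ℕ, j < r → Subsingleton (Coh.HH X Q (j + 1)) := fun j hj => by
    obtain ⟨ε⟩ := CohFound.nonempty_hc_push_isAffineHom i Q (j + 1) ⊤
    have hv := hm₀ ⟨j, hj⟩ k ((Finset.le_sup (Finset.mem_univ _)).trans (by exact_mod_cast hn))
    exact @Equiv.subsingleton _ _ ((CohFound.hhExt Q (j + 1)).toEquiv.trans ε.toEquiv.symm)
      (CohFound.subsingleton_hc_of_iso pe.symm (j + 1) ⊤ hv)
  rw [Finset.sum_range_succ', Finset.sum_eq_zero fun j hj => ?_]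
  · simp only [pow_zero, one_mul, zero_add]
  · haveI := hz j (Finset.mem_range.1 hj)
    rw [Module.length_eq_zero]
    simp

end Groth.Agent.S5749
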