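import Groth.Statements.S5750
import Groth.Agent.S5749
import Groth.Agent.Lib.HilbArt10.Main

set_option autoImplicit false
universe u
open Coherent

namespace Groth.Agent.S5750

open AlgebraicGeometry CategoryTheory in
/-- Let A be an Artinian local ring, i : X → P^r_A a closed immersion compatible with the structure
morphisms to Spec A, F a coherent O_X-module and F(n) = F ⊗ i^* O(n). If a polynomial P over ℚ
satisfies P(n) = χ_A(F(n)) = Σ_{j ≤ r} (-1)^j length_A H^j(X, F(n)) for every integer n (the Hilbert
polynomial of F), then the leading coefficient of P is non-negative. -/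
theorem result (A : Type u) [CommRing A]
    [IsArtinianRing A] [IsLocalRing A] (r : ℕ) (X : Scheme.{u}) [X.Over (Spec (CommRingCat.of A))]
    (i : X ⟶ CohB1.ProjSpace r A) [IsClosedImmersion i]
    (hi : i ≫ CohB1.ProjSpace.toSpec r A = X ↘ Spec (CommRingCat.of A)) (F : X.Modules) (hF : Coh.IsCoh F)
    (P : Polynomial ℚ)
    (hP : ∀ n : ℤ, ((Finset.range (r + 1)).sum fun j => (-1 : ℚ) ^ j *
        ((Module.length A (Coh.HH X (CohB1.tensorMod F
          ((Scheme.Modules.pullback i).obj (Twist.twistProjSpace r A n))) j)).toNat : ℚ)) = P.eval (n : ℚ)) :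
    0 ≤ P.leadingCoeff := by
  obtain ⟨N, hN⟩ := Groth.Agent.S5749.result A r X i hi F hF
  have hnn : ∀ n : ℤ, N ≤ n → 0 ≤ P.eval (n : ℚ) := fun n hn => by
    rw [← hP n]
    have h := congrArg (fun z : ℤ => (z : ℚ)) (hN n hn)
    push_cast at h
    rw [h]
    positivity
  by_contra hneg
  rw [not_le] at hneg
  rcases Nat.eq_zero_or_pos P.natDegree with hd | hd
  · have h0 := hnn N le_rfl
    have hc : P.eval (N : ℚ) = P.leadingCoeff := by
      conv_lhs => rw [Polynomial.eq_C_of_natDegree_eq_zero hd]
      rw [Polynomial.eval_C, Polynomial.leadingCoeff, hd]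
    exact absurd (hc ▸ h0) (not_le.2 hneg)
  · have ht := P.tendsto_atBot_of_leadingCoeff_nonpos (Polynomial.natDegree_pos_iff_degree_pos.1 hd) hneg.le
    have hev := (ht.comp (tendsto_intCast_atTop_atTop (R := ℚ))).eventually (Filter.eventually_lt_atBot (0 : ℚ))
    obtain ⟨n, hn, hn'⟩ := (hev.and (Filter.eventually_ge_atTop N)).exists
    exact absurd (hnn n hn') (not_le.2 hn)

end Groth.Agent.S5750
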