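import Groth.Statements.S5754
import Groth.Agent.Lib.Depth.CM
import Mathlib.RingTheory.Ideal.AssociatedPrime.Localization
import Mathlib.RingTheory.Regular.Flat
import Mathlib.RingTheory.Ideal.KrullsHeightTheorem

set_option autoImplicit false
universe u
open EGA41

namespace Groth.Agent.S5754

/-- Let A be a Noetherian ring, M a finitely generated A-module and t an element of A which is
M-regular. For every associated prime p of M, every prime ideal minimal among those containing p +
tA is an associated prime of M/tM. -/
theorem result (A : Type u) [CommRing A]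
    [IsNoetherianRing A] (M : Type u) [AddCommGroup M] [Module A M] [Module.Finite A M] (t : A)
    (ht : IsSMulRegular M t) (p : Ideal A) (hp : p ∈ associatedPrimes A M) (q : Ideal A)
    (hq : q ∈ (p ⊔ Ideal.span {t}).minimalPrimes) : q ∈ associatedPrimes A (QuotSMulTop t M) := by
  haveI := hq.1.1
  haveI := IsAssociatedPrime.isPrime hp
  have hpq : p ≤ q := le_sup_left.trans hq.1.2
  have htq : t ∈ q := hq.1.2 (Submodule.mem_sup_right (Ideal.mem_span_singleton_self t))
  let R := Localization.AtPrime q
  haveI : Module.Flat A R := IsLocalization.flat R q.primeCompl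
  let N := TensorProduct A R M
  let f : M →ₗ[A] N := TensorProduct.mk A R M 1
  haveI : IsLocalizedModule q.primeCompl f :=
    (isLocalizedModule_iff_isBaseChange q.primeCompl R f).2 (TensorProduct.isBaseChange A M R)
  let g : QuotSMulTop t M →ₗ[A] TensorProduct A R (QuotSMulTop t M) := TensorProduct.mk A R _ 1
  haveI : IsLocalizedModule q.primeCompl g :=
    (isLocalizedModule_iff_isBaseChange q.primeCompl R g).2 (TensorProduct.isBaseChange A _ R)
  let P := p.map (algebraMap A R)
  have hdisj : Disjoint (q.primeCompl : Set A) (p : Set A) := by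
    rw [Set.disjoint_left]; exact fun x hx hxp => hx (hpq hxp)
  haveI : P.IsPrime := IsLocalization.isPrime_of_isPrime_disjoint q.primeCompl R p inferInstance hdisj
  have hPc : P.comap (algebraMap A R) = p := IsLocalization.under_map_of_isPrime_disjoint q.primeCompl R inferInstance hdisj
  have hPass : P ∈ associatedPrimes R N :=
    Module.associatedPrimes.mem_associatedPrimes_of_comap_mem_associatedPrimes_of_isLocalizedModule q.primeCompl f P
      (by rw [hPc]; exact hp)
  let t' := algebraMap A R t
  have ht' : t' ∈ IsLocalRing.maximalIdeal R := (IsLocalization.AtPrime.to_map_mem_maximal_iff R q t).2 htq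
  have htreg : IsSMulRegular N t' := fun x y h => ht.lTensor (M := R) (by simpa only [t', algebraMap_smul] using h)
  have hdim : ringKrullDim (R ⧸ P) ≤ 1 := by
    haveI : IsLocalRing (R ⧸ P) := .of_surjective' (Ideal.Quotient.mk P) Ideal.Quotient.mk_surjective
    have hmin : IsLocalRing.maximalIdeal (R ⧸ P) ∈ (Ideal.span {Ideal.Quotient.mk P t'}).minimalPrimes := by
      refine ⟨⟨inferInstance, (Ideal.span_singleton_le_iff_mem _).2 ?_⟩, fun Q hQ _ => ?_⟩
      · rw [← IsLocalRing.map_maximalIdeal_of_surjective (Ideal.Quotient.mk P) Ideal.Quotient.mk_surjective]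
        exact Ideal.mem_map_of_mem _ ht'
      haveI := hQ.1
      let Q' := (Q.comap (Ideal.Quotient.mk P)).comap (algebraMap A R)
      have hQ'q : Q' ≤ q := by
        refine (Ideal.comap_mono (IsLocalRing.le_maximalIdeal ((hQ.1.comap (Ideal.Quotient.mk P)).ne_top))).trans ?_
        exact Localization.AtPrime.under_maximalIdeal.le
      have hQ' : p ⊔ Ideal.span {t} ≤ Q' := by
        refine sup_le ?_ ((Ideal.span_singleton_le_iff_mem _).2 ?_)
        · intro x hx
          show Ideal.Quotient.mk P (algebraMap A R x) ∈ Q
          rw [Ideal.Quotient.eq_zero_iff_mem.2 (Ideal.mem_map_of_mem _ hx)]; exact zero_mem _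
        · show Ideal.Quotient.mk P (algebraMap A R t) ∈ Q
          exact hQ.2 (Ideal.mem_span_singleton_self _)
      have heq : q ≤ Q' := hq.2 ⟨inferInstance, hQ'⟩ hQ'q
      have hmax : IsLocalRing.maximalIdeal R ≤ Q.comap (Ideal.Quotient.mk P) := by
        rw [← Localization.AtPrime.map_eq_maximalIdeal, Ideal.map_le_iff_le_comap]
        exact heq
      rw [← IsLocalRing.map_maximalIdeal_of_surjective (Ideal.Quotient.mk P) Ideal.Quotient.mk_surjective]
      exact Ideal.map_le_iff_le_comap.2 hmax
    haveI : (Ideal.span {Ideal.Quotient.mk P t'}).IsPrincipal := ⟨⟨_, rfl⟩⟩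
    have hh := Ideal.height_le_one_of_isPrincipal_of_mem_minimalPrimes (Ideal.span {Ideal.Quotient.mk P t'}) _ hmin
    rw [← IsLocalRing.maximalIdeal_height_eq_ringKrullDim]
    exact_mod_cast hh
  have hd : LocCoh.depth R N ≤ 1 := WithBot.coe_le_coe.1
    ((Groth.Agent.DepthLib.depth_le_of_mem_associatedPrimes hPass).trans hdim)
  let Q := QuotSMulTop t' N
  have hz : LocCoh.idealDepth (IsLocalRing.maximalIdeal R) Q = 0 := by
    have h1 : LocCoh.idealDepth (IsLocalRing.maximalIdeal R) Q + 1 ≤ 0 + 1 := by
      rw [Groth.Agent.DepthLib.idealDepth_quotSMulTop_add_one ht' htreg, zero_add]; exact hd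
    exact le_antisymm ((ENat.add_le_add_iff_right ENat.one_ne_top).1 h1) bot_le
  obtain ⟨m', hm', hle⟩ := Groth.Agent.DepthLib.exists_associatedPrime_ge (M := Q)
    (I := IsLocalRing.maximalIdeal R) fun r hr hreg => by
      have := Groth.Agent.DepthLib.one_le_idealDepth_of_regular hr hreg
      rw [hz] at this; simp at this
  have hm : IsLocalRing.maximalIdeal R = m' :=
    (IsLocalRing.maximalIdeal.isMaximal R).eq_of_le (IsAssociatedPrime.isPrime hm').ne_top hle
  rw [← hm, ← LinearEquiv.AssociatedPrimes.eq (QuotSMulTop.algebraMapTensorEquivTensorQuotSMulTop t M R).symm] at hm'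
  have := Module.associatedPrimes.comap_mem_associatedPrimes_of_mem_associatedPrimes_of_isLocalizedModule_of_fg
    q.primeCompl g (IsLocalRing.maximalIdeal R) hm' (IsNoetherian.noetherian _)
  rw [show (IsLocalRing.maximalIdeal R).comap (algebraMap A R) = q from Localization.AtPrime.under_maximalIdeal] at this
  exact this

end Groth.Agent.S5754
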