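import Groth.Statements.S5755
import Groth.Agent.Lib.Depth3.Zero

set_option autoImplicit false
universe u
open EGA41

namespace Groth.Agent.S5755

/-- A reduced Noetherian local ring A has depth 0 if and only if A is a field. -/
theorem result (A : Type u) [CommRing A] [IsLocalRing A]
    [IsNoetherianRing A] [IsReduced A] : LocCoh.depth A A = 0 ↔ IsField A := by
  rw [Groth.Agent.Depth3.depth_eq_zero_iff, Groth.Agent.Depth3.mem_associatedPrimes_iff_exists,
    IsLocalRing.isField_iff_maximalIdeal_eq]
  constructor
  · rintro ⟨c, hc, h⟩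
    have hu : IsUnit c := by
      by_contra hu
      exact hc (IsReduced.eq_zero c ⟨2, by rw [pow_two]; exact h c hu⟩)
    exact (Submodule.eq_bot_iff _).2 fun a ha => hu.mul_left_eq_zero.1 (h a ha)
  · intro h
    exact ⟨1, one_ne_zero, fun a ha => by rw [h] at ha; rw [(Submodule.mem_bot A).1 ha, zero_smul]⟩

end Groth.Agent.S5755
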