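import Groth.Statements.S5756
import Groth.Agent.Lib.FinGrpInv.Depth
import Groth.Agent.Lib.Depth.CM
import Groth.Agent.Lib.Depth.BaseChange

set_option autoImplicit false
universe u
open EGA41

namespace Groth.Agent.S5756

open IsLocalRing in
theorem exists_soc {A B : Type u} [CommRing A] [CommRing B] [IsLocalRing A] [IsLocalRing B]
    [Algebra A B] (M : Type u) [AddCommGroup M] [Module B M] [Module A M] [IsScalarTower A B M]
    [IsNoetherianRing A] [Module.Finite A M]
    (m : M) (hm0 : m ≠ 0) (hm : ∀ a ∈ maximalIdeal A, a • m = 0) :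
    ∃ x : M, x ≠ 0 ∧ ∀ b ∈ maximalIdeal B, b • x = 0 := by
  classical
  let l : B →ₗ[A] M := (LinearMap.toSpanSingleton B M m).restrictScalars A
  let J : Ideal B := LinearMap.ker (LinearMap.toSpanSingleton B M m)
  have hle : maximalIdeal A ≤ J.comap (algebraMap A B) := fun a ha => by
    show algebraMap A B a • m = 0
    rw [algebraMap_smul]; exact hm a ha
  letI : Algebra (A ⧸ maximalIdeal A) (B ⧸ J) := (Ideal.quotientMap J (algebraMap A B) hle).toAlgebra
  haveI : IsScalarTower A (A ⧸ maximalIdeal A) (B ⧸ J) := IsScalarTower.of_algebraMap_eq fun _ => rfl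
  haveI : Module.Finite A (B ⧸ J) :=
    Module.Finite.of_injective (((J.liftQ (LinearMap.toSpanSingleton B M m) le_rfl)).restrictScalars A)
      (fun x y h => (LinearMap.ker_eq_bot.1 (Submodule.ker_liftQ_eq_bot J (LinearMap.toSpanSingleton B M m) le_rfl le_rfl) : Function.Injective _) h)
  haveI : Module.Finite (A ⧸ maximalIdeal A) (B ⧸ J) := Module.Finite.of_restrictScalars_finite A _ _
  letI : Field (A ⧸ maximalIdeal A) := Ideal.Quotient.field _
  haveI : IsArtinianRing (B ⧸ J) := IsArtinianRing.of_finite (A ⧸ maximalIdeal A) (B ⧸ J)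
  have hJ : J ≠ ⊤ := fun h => hm0 (by
    have : (1 : B) ∈ J := h ▸ Submodule.mem_top
    simpa [J] using this)
  haveI : Nontrivial (B ⧸ J) := Ideal.Quotient.nontrivial_iff.2 hJ
  haveI : IsLocalRing (B ⧸ J) := .of_surjective' (Ideal.Quotient.mk J) Ideal.Quotient.mk_surjective
  obtain ⟨n, hn⟩ := IsArtinianRing.isNilpotent_jacobson_bot (R := B ⧸ J)
  rw [jacobson_eq_maximalIdeal ⊥ bot_ne_top,
    ← map_maximalIdeal_of_surjective (Ideal.Quotient.mk J) Ideal.Quotient.mk_surjective,
    ← Ideal.map_pow, Ideal.zero_eq_bot, Ideal.map_eq_bot_iff_le_ker, Ideal.mk_ker] at hn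
  have hex : ∃ k, ∀ b ∈ maximalIdeal B ^ k, b • m = 0 := ⟨n, fun b hb => hn hb⟩
  have h0 : Nat.find hex ≠ 0 := fun h => hm0 (by
    have := Nat.find_spec hex 1 (by rw [h, pow_zero, Ideal.one_eq_top]; trivial)
    rwa [one_smul] at this)
  obtain ⟨k, hk⟩ := Nat.exists_eq_succ_of_ne_zero h0
  have h1 := Nat.find_min hex (m := k) (by omega)
  push Not at h1
  obtain ⟨b, hb, hbm⟩ := h1
  refine ⟨b • m, hbm, fun c hc => ?_⟩
  have := Nat.find_spec hex (c * b) (by rw [hk, pow_succ']; exact Ideal.mul_mem_mul hc hb)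
  rwa [mul_smul] at this

open IsLocalRing RingTheory.Sequence in
theorem depth_le (A B : Type u) [CommRing A] [CommRing B] [IsLocalRing A]
    [IsLocalRing B] [IsNoetherianRing A] [IsNoetherianRing B] [Algebra A B] [IsLocalHom (algebraMap A B)]
    (M : Type u) [AddCommGroup M] [Module B M] [Module A M] [IsScalarTower A B M] [Module.Finite A M] :
    LocCoh.depth B M ≤ LocCoh.depth A M := by
  haveI : Module.Finite B M := Module.Finite.of_restrictScalars_finite A B M
  unfold LocCoh.depth
  rw [← Groth.Agent.FinGrpInv.idealDepth_map_of_finite (B := B) (M := M) (maximalIdeal A)]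
  set I := (maximalIdeal A).map (algebraMap A B)
  have hI : I ≤ maximalIdeal B := Ideal.map_le_iff_le_comap.2 (maximalIdeal_comap (algebraMap A B)).ge
  by_cases htop : I • (⊤ : Submodule B M) = ⊤
  · rw [Groth.Agent.DepthLib.idealDepth_of_smul_top_eq_top htop]; exact le_top
  obtain ⟨rs, -, hrs, hmem, hmax⟩ := Groth.Agent.DepthLib.exists_maximal_extension htop (IsWeaklyRegular.nil B M) (by simp)
  rw [← Groth.Agent.DepthLib.idealDepth_quot_add_length hrs (I := maximalIdeal B) fun r hr => hI (hmem r hr),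
    ← Groth.Agent.DepthLib.length_eq_idealDepth_of_maximal hrs hmem htop hmax]
  let Q := M ⧸ (Ideal.ofList rs • (⊤ : Submodule B M))
  have hQ : ∀ r ∈ I, ¬ IsSMulRegular Q r := fun r hr hr' =>
    hmax r hr ((isWeaklyRegular_append_iff M rs [r]).2 ⟨hrs, by simpa using hr'⟩)
  obtain ⟨m, hm0, hm⟩ := Groth.Agent.DepthLib.exists_ne_zero_smul_eq_zero hQ
  haveI : Module.Finite A Q := Module.Finite.of_surjective ((Submodule.mkQ _).restrictScalars A) (Submodule.mkQ_surjective _)
  obtain ⟨x, hx0, hx⟩ := exists_soc (A := A) (B := B) Q m hm0 fun a ha => by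
    rw [← algebraMap_smul B a m]
    exact hm _ (Ideal.mem_map_of_mem _ ha)
  have hne : maximalIdeal B • (⊤ : Submodule B Q) ≠ ⊤ := by
    haveI : Nontrivial Q := ⟨⟨x, 0, hx0⟩⟩
    exact Groth.Agent.DepthLib.smul_top_ne_top (maximalIdeal.isMaximal B).ne_top
  have hz : LocCoh.idealDepth (maximalIdeal B) Q = 0 :=
    Groth.Agent.DepthLib.idealDepth_eq_zero_of_forall_not_isSMulRegular hne
      fun r hr hreg => hx0 (hreg.right_eq_zero_of_smul (hx r hr))
  rw [hz, zero_add]

/-- Suppose A and B are Noetherian local rings and ρ : A → B is a local homomorphism. Given a B-module M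
that, viewed as an A-module through ρ, is finitely generated, the depth of M over A coincides with
the depth of M over B. -/
theorem result (A B : Type u) [CommRing A] [CommRing B] [IsLocalRing A]
    [IsLocalRing B] [IsNoetherianRing A] [IsNoetherianRing B] [Algebra A B] [IsLocalHom (algebraMap A B)]
    (M : Type u) [AddCommGroup M] [Module B M] [Module A M] [IsScalarTower A B M] [Module.Finite A M] :
    LocCoh.depth A M = LocCoh.depth B M := by
  refine le_antisymm ?_ ?_
  · unfold LocCoh.depth
    rw [← Groth.Agent.FinGrpInv.idealDepth_map_of_finite (B := B) (M := M) (IsLocalRing.maximalIdeal A)]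
    exact Groth.Agent.DepthLib.idealDepth_mono
      (Ideal.map_le_iff_le_comap.2 (IsLocalRing.maximalIdeal_comap (algebraMap A B)).ge)
  · exact depth_le A B M

end Groth.Agent.S5756
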