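import Groth.Statements.S5757
import Groth.Agent.Lib.Depth.CM

set_option autoImplicit false
universe u
open EGA41

namespace Groth.Agent.S5757

/-- Let A be a Noetherian local ring and M a nonzero finitely generated Cohen-Macaulay A-module. Then
dim(A/p) = dim(M) for every associated prime p of M (so M has no embedded associated primes). -/
theorem result (A : Type u) [CommRing A]
    [IsLocalRing A] [IsNoetherianRing A] (M : Type u) [AddCommGroup M] [Module A M] [Module.Finite A M]
    (hM : LocCoh.IsCohenMacaulayModule A M) (p : Ideal A) (hp : p ∈ associatedPrimes A M) :
    ringKrullDim (A ⧸ p) = Module.supportDim A M := by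
  exact Groth.Agent.DepthLib.ringKrullDim_quotient_eq_of_mem_associatedPrimes hM hp

end Groth.Agent.S5757
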