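import Groth.Statements.S5759
import Groth.Agent.Lib.Depth.CM
import Mathlib.RingTheory.KrullDimension.Regular

set_option autoImplicit false
universe u
open EGA41

namespace Groth.Agent.S5759

theorem key (A : Type u) [CommRing A] [IsLocalRing A] [IsNoetherianRing A] : ∀ (d : ℕ) (M : Type u) [AddCommGroup M]
    [Module A M] [Module.Finite A M] [Nontrivial M], Module.supportDim A M = d →
    (∀ xs : List A, (∀ x ∈ xs, x ∈ IsLocalRing.maximalIdeal A) →
      Module.supportDim A (M ⧸ (Ideal.ofList xs • (⊤ : Submodule A M))) + xs.length = Module.supportDim A M →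
        ∀ p ∈ associatedPrimes A (M ⧸ (Ideal.ofList xs • (⊤ : Submodule A M))),
          ringKrullDim (A ⧸ p) = Module.supportDim A (M ⧸ (Ideal.ofList xs • (⊤ : Submodule A M)))) →
    LocCoh.IsCohenMacaulayModule A M := by
  intro d
  induction d with
  | zero =>
    intro M _ _ _ _ hd _
    refine le_antisymm ?_ Groth.Agent.DepthLib.depth_le_supportDim
    rw [hd]
    exact_mod_cast (zero_le : (0 : ℕ∞) ≤ LocCoh.depth A M)
  | succ d ih =>
    intro M _ _ _ _ hd h
    let e0 := Submodule.quotEquivOfEqBot (Ideal.ofList ([] : List A) • (⊤ : Submodule A M)) (by simp)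
    have h0 : ∀ p ∈ associatedPrimes A M, ringKrullDim (A ⧸ p) = Module.supportDim A M := by
      intro p hp
      rw [← LinearEquiv.AssociatedPrimes.eq e0] at hp
      rw [h [] (by simp) (by simpa using Module.supportDim_eq_of_equiv e0) p hp, Module.supportDim_eq_of_equiv e0]
    obtain ⟨x, hx, hreg⟩ : ∃ x ∈ IsLocalRing.maximalIdeal A, IsSMulRegular M x := by
      by_contra hno
      push Not at hno
      obtain ⟨p, hp, hle⟩ := Groth.Agent.DepthLib.exists_associatedPrime_ge hno
      have hpm := IsLocalRing.eq_maximalIdeal ((IsLocalRing.maximalIdeal.isMaximal A).eq_of_le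
        (IsAssociatedPrime.isPrime hp).ne_top hle ▸ IsLocalRing.maximalIdeal.isMaximal A)
      have h1 := h0 p hp
      rw [hd, hpm, ringKrullDim_eq_zero_of_isField ((Ideal.Quotient.maximal_ideal_iff_isField_quotient _).1
        (IsLocalRing.maximalIdeal.isMaximal A))] at h1
      have : (0 : ℕ) = d + 1 := by exact_mod_cast h1
      omega
    haveI : Nontrivial (QuotSMulTop x M) := Submodule.Quotient.nontrivial_iff.2 (by
      rw [← Submodule.ideal_span_singleton_smul]
      exact Groth.Agent.DepthLib.smul_top_ne_top (ne_top_of_le_ne_top (IsLocalRing.maximalIdeal.isMaximal A).ne_top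
        ((Ideal.span_singleton_le_iff_mem _).2 hx)))
    have hs := Module.supportDim_quotSMulTop_succ_eq_supportDim hreg hx
    have hd' : Module.supportDim A (QuotSMulTop x M) = d := by
      obtain ⟨d', hd'⟩ := Groth.Agent.DepthLib.exists_supportDim_eq_natCast (R := A) (M := QuotSMulTop x M)
      rw [hd', hd] at hs
      have : d' + 1 = d + 1 := by exact_mod_cast hs
      rw [hd']; exact_mod_cast (by omega : d' = d)
    refine (Groth.Agent.DepthLib.isCohenMacaulayModule_quotSMulTop_iff hx hreg).1 (ih _ hd' fun xs hxs hdim p hp => ?_)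
    let e := Submodule.quotOfListConsSMulTopEquivQuotSMulTopInner M x xs
    have := h (x :: xs) (fun y hy => by rcases List.mem_cons.1 hy with rfl | hy; exacts [hx, hxs y hy]) (by
      rw [Module.supportDim_eq_of_equiv e, List.length_cons, Nat.cast_succ, ← add_assoc, hdim, hs]) p
      (by rw [LinearEquiv.AssociatedPrimes.eq e]; exact hp)
    rw [this, Module.supportDim_eq_of_equiv e]

/-- Let A be a Noetherian local ring and M a nonzero finitely generated A-module. Suppose that for every
sequence x_1, ..., x_r of elements of the maximal ideal which is part of a system of parameters for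
M (i.e. dim(M/(x_1 M + ... + x_r M)) = dim(M) - r), every associated prime p of N = M/(x_1 M + ... +
x_r M) satisfies dim(A/p) = dim(N). Then M is a Cohen-Macaulay module. (The published convention
also counts the zero module as Cohen-Macaulay; this row assumes M nonzero.) -/
theorem result (A : Type u) [CommRing A]
    [IsLocalRing A] [IsNoetherianRing A] (M : Type u) [AddCommGroup M] [Module A M] [Module.Finite A M]
    [Nontrivial M]
    (h : ∀ xs : List A, (∀ x ∈ xs, x ∈ IsLocalRing.maximalIdeal A) →
      Module.supportDim A (M ⧸ (Ideal.ofList xs • (⊤ : Submodule A M))) + xs.length = Module.supportDim A M →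
        ∀ p ∈ associatedPrimes A (M ⧸ (Ideal.ofList xs • (⊤ : Submodule A M))),
          ringKrullDim (A ⧸ p) = Module.supportDim A (M ⧸ (Ideal.ofList xs • (⊤ : Submodule A M)))) :
    LocCoh.IsCohenMacaulayModule A M := by
  obtain ⟨d, hd⟩ := Groth.Agent.DepthLib.exists_supportDim_eq_natCast (R := A) (M := M)
  exact key A d M hd h

end Groth.Agent.S5759
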