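import Groth.Statements.S5760
import Groth.Agent.Lib.Depth.CM
import Mathlib.RingTheory.KrullDimension.NonZeroDivisors
import Mathlib.RingTheory.KrullDimension.Regular

set_option autoImplicit false
universe u
open EGA41

namespace Groth.Agent.S5760

open RingTheory.Sequence in
theorem cm_quot (A : Type u) [CommRing A] [IsLocalRing A] [IsNoetherianRing A] (xs : List A)
    (hm : ∀ x ∈ xs, x ∈ IsLocalRing.maximalIdeal A) : ∀ (M : Type u) [AddCommGroup M] [Module A M] [Module.Finite A M],
    LocCoh.IsCohenMacaulayModule A M → IsWeaklyRegular M xs →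
      LocCoh.IsCohenMacaulayModule A (M ⧸ (Ideal.ofList xs • (⊤ : Submodule A M))) ∧
        Module.supportDim A (M ⧸ (Ideal.ofList xs • (⊤ : Submodule A M))) + xs.length = Module.supportDim A M := by
  induction xs with
  | nil =>
    intro M _ _ _ hM _
    let e := Submodule.quotEquivOfEqBot (Ideal.ofList ([] : List A) • (⊤ : Submodule A M)) (by simp)
    refine ⟨?_, by simpa using Module.supportDim_eq_of_equiv e⟩
    unfold LocCoh.IsCohenMacaulayModule LocCoh.depth at hM ⊢
    rw [Module.supportDim_eq_of_equiv e, Groth.Agent.DepthLib.idealDepth_congr e]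
    exact hM
  | cons x rs ih =>
    intro M _ _ _ hM hreg
    rw [isWeaklyRegular_cons_iff] at hreg
    haveI := Groth.Agent.DepthLib.nontrivial_of_isCohenMacaulayModule hM
    obtain ⟨h1, h2⟩ := ih (fun y hy => hm y (List.mem_cons_of_mem _ hy)) _
      ((Groth.Agent.DepthLib.isCohenMacaulayModule_quotSMulTop_iff (hm x List.mem_cons_self) hreg.1).2 hM) hreg.2
    let e := Submodule.quotOfListConsSMulTopEquivQuotSMulTopInner M x rs
    refine ⟨?_, ?_⟩
    · unfold LocCoh.IsCohenMacaulayModule LocCoh.depth at h1 ⊢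
      rw [Module.supportDim_eq_of_equiv e, Groth.Agent.DepthLib.idealDepth_congr e]
      exact h1
    · rw [Module.supportDim_eq_of_equiv e, List.length_cons, Nat.cast_succ, ← add_assoc, h2,
        Module.supportDim_quotSMulTop_succ_eq_supportDim hreg.1 (hm x List.mem_cons_self)]

theorem eq_of_dim (A : Type u) [CommRing A] [IsLocalRing A] [IsNoetherianRing A] (P Q : Ideal A) [P.IsPrime] [Q.IsPrime]
    (hle : P ≤ Q) (h : ringKrullDim (A ⧸ P) = ringKrullDim (A ⧸ Q)) : P = Q := by
  by_contra hne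
  obtain ⟨x, hxQ, hxP⟩ := SetLike.exists_of_lt (lt_of_le_of_ne hle hne)
  have hx : Ideal.Quotient.mk P x ∈ nonZeroDivisors (A ⧸ P) :=
    mem_nonZeroDivisors_of_ne_zero (by rwa [ne_eq, Ideal.Quotient.eq_zero_iff_mem])
  have h4 := ringKrullDim_quotient_succ_le_of_nonZeroDivisor hx
  have h5 : ringKrullDim (A ⧸ Q) ≤ ringKrullDim ((A ⧸ P) ⧸ Ideal.span {Ideal.Quotient.mk P x}) :=
    ringKrullDim_le_of_surjective (Ideal.Quotient.lift _ (Ideal.Quotient.factor hle) fun a ha => by
        obtain ⟨c, rfl⟩ := Ideal.mem_span_singleton'.1 ha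
        rw [map_mul, Ideal.Quotient.factor_mk, Ideal.Quotient.eq_zero_iff_mem.2 hxQ, mul_zero])
      (Ideal.Quotient.lift_surjective_of_surjective _ _ (Ideal.Quotient.factor_surjective hle))
  obtain ⟨b, hb⟩ := Groth.Agent.DepthLib.exists_ringKrullDim_quotient_eq_natCast Q (Ideal.IsPrime.ne_top ‹_›)
  rw [h, hb] at h4
  rw [hb] at h5
  have h6 := (add_le_add h5 le_rfl).trans h4
  have : b + 1 ≤ b := by exact_mod_cast h6
  omega

/-- Let A be a Noetherian local ring, M a nonzero finitely generated Cohen-Macaulay A-module, p a prime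
ideal in the support of M and r the integer dim(M) - dim(M/pM). Then there exists an M-regular
sequence x_1, ..., x_r of elements of p; for every such sequence, dim(M/(x_1 M + ... + x_r M)) =
dim(M/pM) = dim(A/p), and p is a minimal element of the set of associated primes of M/(x_1 M + ... +
x_r M). -/
theorem result (A : Type u) [CommRing A]
    [IsLocalRing A] [IsNoetherianRing A] (M : Type u) [AddCommGroup M] [Module A M] [Module.Finite A M]
    (hM : LocCoh.IsCohenMacaulayModule A M) (p : PrimeSpectrum A) (hp : p ∈ Module.support A M) (r : ℕ)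
    (hr : Module.supportDim A (M ⧸ (p.asIdeal • (⊤ : Submodule A M))) + r = Module.supportDim A M) :
    (∃ xs : List A, xs.length = r ∧ (∀ x ∈ xs, x ∈ p.asIdeal) ∧ RingTheory.Sequence.IsWeaklyRegular M xs) ∧
      ∀ xs : List A, xs.length = r → (∀ x ∈ xs, x ∈ p.asIdeal) → RingTheory.Sequence.IsWeaklyRegular M xs →
        Module.supportDim A (M ⧸ (Ideal.ofList xs • (⊤ : Submodule A M))) =
            Module.supportDim A (M ⧸ (p.asIdeal • (⊤ : Submodule A M))) ∧
          Module.supportDim A (M ⧸ (p.asIdeal • (⊤ : Submodule A M))) = ringKrullDim (A ⧸ p.asIdeal) ∧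
          p.asIdeal ∈ associatedPrimes A (M ⧸ (Ideal.ofList xs • (⊤ : Submodule A M))) ∧
          ∀ q ∈ associatedPrimes A (M ⧸ (Ideal.ofList xs • (⊤ : Submodule A M))), q ≤ p.asIdeal → q = p.asIdeal := by
  have hpn : p.asIdeal ≠ ⊤ := p.2.ne_top
  haveI hMnt : Nontrivial M := Groth.Agent.DepthLib.nontrivial_of_isCohenMacaulayModule hM
  have h1 : Module.supportDim A (M ⧸ p.asIdeal • (⊤ : Submodule A M)) = ringKrullDim (A ⧸ p.asIdeal) := by
    refine le_antisymm ?_ (Groth.Agent.DepthLib.ringKrullDim_quotient_le_supportDim_quotient hp le_rfl)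
    rw [ringKrullDim_quotient, Module.supportDim, Module.support_quotient]
    exact Order.krullDim_le_of_strictMono (fun q => ⟨q.1, q.2.2⟩) fun _ _ hab => hab
  obtain ⟨a, ha⟩ := Groth.Agent.DepthLib.exists_ringKrullDim_quotient_eq_natCast p.asIdeal hpn
  have h2 := Groth.Agent.DepthLib.supportDim_eq_quotient_add_idealDepth hM hpn
  rw [h1, ha] at h2 hr
  obtain ⟨D, hD⟩ := Groth.Agent.DepthLib.exists_supportDim_eq_natCast (R := A) (M := M)
  have hdepth : LocCoh.idealDepth p.asIdeal M = r := by
    rw [← hr] at h2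
    cases hg : LocCoh.idealDepth p.asIdeal M with
    | top => rw [hg] at h2; rw [← WithBot.coe_natCast, ← WithBot.coe_natCast, ← WithBot.coe_add, ← WithBot.coe_add, WithBot.coe_inj, add_top] at h2; exact absurd h2 (by simp)
    | coe g => rw [hg] at h2; have : a + r = a + g := by exact_mod_cast h2
               exact_mod_cast (by omega : g = r)
  refine ⟨?_, fun xs hlen hmem hreg => ?_⟩
  · obtain ⟨rs, hrs, hmem, hlen⟩ := Groth.Agent.DepthLib.exists_isWeaklyRegular_of_le_idealDepth
      (Groth.Agent.DepthLib.smul_top_ne_top hpn) (le_of_eq hdepth.symm : (r : ℕ∞) ≤ _)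
    exact ⟨rs, hlen, hmem, hrs⟩
  set N := M ⧸ (Ideal.ofList xs • (⊤ : Submodule A M))
  obtain ⟨hN, hdimN⟩ := cm_quot A xs (fun x hx => IsLocalRing.le_maximalIdeal hpn (hmem x hx)) M hM hreg
  haveI hNnt : Nontrivial N := Groth.Agent.DepthLib.nontrivial_of_isCohenMacaulayModule hN
  obtain ⟨D', hD'⟩ := Groth.Agent.DepthLib.exists_supportDim_eq_natCast (R := A) (M := N)
  have hNa : Module.supportDim A N = a := by
    rw [hD', hD, hlen] at hdimN
    rw [hD] at hr
    have e1 : D' + r = D := by exact_mod_cast hdimN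
    have e2 : a + r = D := by exact_mod_cast hr
    rw [hD']; exact_mod_cast (by omega : D' = a)
  have hz : LocCoh.idealDepth p.asIdeal N = 0 := by
    have := Groth.Agent.DepthLib.idealDepth_quot_add_length hreg hmem
    rw [hlen, hdepth] at this
    refine le_antisymm ((ENat.add_le_add_iff_right (ENat.natCast_ne_top r)).1 (this.le.trans (zero_add (r : ℕ∞)).ge)) bot_le
  have hno : ∀ x ∈ p.asIdeal, ¬ IsSMulRegular N x := fun x hx hx' => by
    have := Groth.Agent.DepthLib.one_le_idealDepth_of_regular hx hx'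
    rw [hz] at this; simp at this
  obtain ⟨q, hq, hpq⟩ := Groth.Agent.DepthLib.exists_associatedPrime_ge hno
  have heq : ∀ P Q : Ideal A, P.IsPrime → Q.IsPrime → P ≤ Q → ringKrullDim (A ⧸ P) = ringKrullDim (A ⧸ Q) → P = Q :=
    fun P Q _ _ hle h => eq_of_dim A P Q hle h
  have hqd := Groth.Agent.DepthLib.ringKrullDim_quotient_eq_of_mem_associatedPrimes hN hq
  have hpq' : p.asIdeal = q := heq _ _ p.2 (IsAssociatedPrime.isPrime hq) hpq (by rw [ha, hqd, hNa])
  refine ⟨by rw [hNa, h1, ha], h1, hpq' ▸ hq, fun P hP hle => ?_⟩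
  exact heq _ _ (IsAssociatedPrime.isPrime hP) p.2 hle
    (by rw [ha, Groth.Agent.DepthLib.ringKrullDim_quotient_eq_of_mem_associatedPrimes hN hP, hNa])

end Groth.Agent.S5760
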