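import Groth.Statements.S5763
import Mathlib.RingTheory.Ideal.HasGoingUp
import Mathlib.RingTheory.Ideal.GoingUp
import Mathlib.Order.KrullDimension

set_option autoImplicit false
universe u
open EGA41

namespace Groth.Agent.S5763

/-- Let ρ : A → B be a ring homomorphism making B an integral A-algebra. Then dim(B) ≤ dim(A), and if ρ
is injective then dim(B) = dim(A) (Krull dimensions). -/
theorem result (A B : Type u) [CommRing A] [CommRing B] [Algebra A B]
    [Algebra.IsIntegral A B] :
    ringKrullDim B ≤ ringKrullDim A ∧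
      (Function.Injective (algebraMap A B) → ringKrullDim B = ringKrullDim A) := by
  have hle : ringKrullDim B ≤ ringKrullDim A :=
    Order.krullDim_le_of_strictMono (fun q : PrimeSpectrum B => PrimeSpectrum.comap (algebraMap A B) q)
      (fun p q h => Ideal.IsIntegral.comap_lt_comap (A := B) h)
  refine ⟨hle, fun hinj => le_antisymm hle ?_⟩
  refine iSup_le fun l => ?_
  obtain ⟨Q, -, hQ, hQc⟩ := Ideal.exists_ideal_over_prime_of_isIntegral (S := B)
    (RelSeries.head l).asIdeal ⊥ (by
      rw [← RingHom.ker_eq_comap_bot, (RingHom.injective_iff_ker_eq_bot _).1 hinj]; exact bot_le)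
  haveI := hQ
  haveI : Q.LiesOver (RelSeries.head l).asIdeal := ⟨hQc.symm⟩
  obtain ⟨L, hL, -, -⟩ := Ideal.exists_ltSeries_of_hasGoingUp (S := B) l Q
  exact le_trans (by rw [hL]) (Order.LTSeries.length_le_krullDim L)

end Groth.Agent.S5763
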