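import Groth.Statements.S5764
import Groth.Agent.Lib.FinGrpInv.Depth
import Mathlib.RingTheory.IntegralClosure.GoingDown

set_option autoImplicit false
universe u
open EGA41

namespace Groth.Agent.S5764

/-- Let B be an integral domain, A a local subring of B which is integrally closed (in its field of
fractions), and suppose B is integral over A. Then dim(B_n) = dim(A) for every maximal ideal n of B. -/
theorem result (A B : Type u) [CommRing A]
    [CommRing B] [IsDomain B] [Algebra A B] (hinj : Function.Injective (algebraMap A B)) [IsDomain A]
    [IsLocalRing A] [IsIntegrallyClosed A] [Algebra.IsIntegral A B] (n : Ideal B) [n.IsMaximal] :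
    ringKrullDim (Localization.AtPrime n) = ringKrullDim A := by
  haveI : FaithfulSMul A B := (faithfulSMul_iff_algebraMap_injective A B).2 hinj
  haveI : (n.comap (algebraMap A B)).IsMaximal := Ideal.isMaximal_comap_of_isIntegral_of_isMaximal (R := A) n
  rw [IsLocalization.AtPrime.ringKrullDim_eq_height n (Localization.AtPrime n),
    FinGrpInv.height_eq_of_comap_eq (IsLocalRing.maximalIdeal A) n
      (IsLocalRing.eq_maximalIdeal ‹_›), IsLocalRing.maximalIdeal_height_eq_ringKrullDim]

end Groth.Agent.S5764
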