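import Groth.Statements.S5765
import Groth.Agent.Lib.Depth.CM

set_option autoImplicit false
universe u
open EGA41

namespace Groth.Agent.S5765

/-- Let A be a ring, M a finitely generated A-module and p a prime ideal of A. Then dim_{A_p}(M_p) +
dim_A(M/pM) ≤ dim_A(M). -/
theorem result (A : Type u) [CommRing A] (M : Type u)
    [AddCommGroup M] [Module A M] [Module.Finite A M] (p : Ideal A) [p.IsPrime] :
    Module.supportDim (Localization.AtPrime p) (LocalizedModule p.primeCompl M) +
        Module.supportDim A (M ⧸ (p • (⊤ : Submodule A M))) ≤ Module.supportDim A M := by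
  rcases subsingleton_or_nontrivial (LocalizedModule p.primeCompl M) with h | h
  · rw [Module.supportDim_eq_bot_of_subsingleton, WithBot.bot_add]
    exact bot_le
  · refine le_trans (add_le_add_right ?_ _) (Groth.Agent.DepthLib.supportDim_localizedModule_add_le p h)
    rw [ringKrullDim_quotient, Module.supportDim, Module.support_quotient]
    exact Order.krullDim_le_of_strictMono (fun q => ⟨q.1, q.2.2⟩) fun _ _ hab => hab

end Groth.Agent.S5765
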