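import Groth.Statements.S5766
import Mathlib.RingTheory.KrullDimension.Module
import Mathlib.RingTheory.Ideal.HasGoingUp
import Mathlib.RingTheory.Noetherian.Basic

set_option autoImplicit false
universe u
open EGA41

namespace Groth.Agent.S5766

/-- Let A be a Noetherian ring, ρ : A → B a ring homomorphism and M a B-module which is finitely
generated as an A-module via ρ. Then the dimension of M as an A-module equals its dimension as a
B-module. -/
theorem result (A B : Type u) [CommRing A] [CommRing B] [IsNoetherianRing A]
    [Algebra A B] (M : Type u) [AddCommGroup M] [Module B M] [Module A M] [IsScalarTower A B M]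
    [Module.Finite A M] : Module.supportDim A M = Module.supportDim B M := by
  classical
  have : Module.Finite B M := Module.Finite.of_restrictScalars_finite A B M
  let C := B ⧸ Module.annihilator B M
  obtain ⟨g, v, hv⟩ := Submodule.fg_iff_exists_fin_generating_family.1 (Module.Finite.fg_top (R := A) (M := M))
  let f : B →ₗ[B] (Fin g → M) := LinearMap.pi fun i => LinearMap.toSpanSingleton B M (v i)
  have hker : LinearMap.ker f = (Module.annihilator B M : Submodule B B) := by
    ext b
    simp only [LinearMap.mem_ker]
    constructor
    · intro hb
      refine Module.mem_annihilator.2 fun m => ?_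
      have hm : m ∈ Submodule.span A (Set.range v) := hv ▸ Submodule.mem_top
      induction hm using Submodule.span_induction with
      | mem m hm => obtain ⟨i, rfl⟩ := hm; exact congrFun hb i
      | zero => simp
      | add a b _ _ h1 h2 => simp [h1, h2]
      | smul c m _ h1 => rw [smul_comm, h1, smul_zero]
    · intro hb
      funext i
      exact Module.mem_annihilator.1 hb (v i)
  let f' : C →ₗ[B] (Fin g → M) := (Module.annihilator B M : Submodule B B).liftQ f hker.ge
  have hf' : Function.Injective f' := LinearMap.ker_eq_bot.1 (Submodule.ker_liftQ_eq_bot _ _ _ hker.le)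
  have : Module.Finite A C := Module.Finite.of_injective (f'.restrictScalars A) hf'
  have : Algebra.IsIntegral A C := Algebra.IsIntegral.of_finite A C
  have hk : RingHom.ker (algebraMap A C) = Module.annihilator A M := by
    rw [← Module.comap_annihilator (R := B) (R₀ := A), IsScalarTower.algebraMap_eq A B C, ← RingHom.comap_ker]
    congr 1
    exact Ideal.mk_ker
  rw [Module.supportDim_eq_ringKrullDim_quotient_annihilator (R := B)]
  refine le_antisymm (iSup_le fun l => ?_) ?_
  · let l' : LTSeries (PrimeSpectrum A) := l.map Subtype.val fun _ _ h => h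
    have hhead : RingHom.ker (algebraMap A C) ≤ l'.head.asIdeal :=
      hk.le.trans (Module.annihilator_le_of_mem_support l.head.2)
    obtain ⟨P, -, hP, hPc⟩ := Ideal.exists_ideal_over_prime_of_isIntegral (S := C) l'.head.asIdeal ⊥ hhead
    have : P.LiesOver l'.head.asIdeal := ⟨hPc.symm⟩
    obtain ⟨L, hL, -, -⟩ := Ideal.exists_ltSeries_of_hasGoingUp (S := C) l' P
    rw [show l.length = L.length from hL.symm]
    exact Order.LTSeries.length_le_krullDim L
  · refine Order.krullDim_le_of_strictMono
      (fun Q => ⟨PrimeSpectrum.comap (algebraMap A C) Q, ?_⟩) fun Q Q' h => ?_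
    · rw [Module.support_eq_zeroLocus, PrimeSpectrum.mem_zeroLocus, ← hk]
      exact Ideal.comap_mono bot_le
    · exact (PrimeSpectrum.asIdeal_lt_asIdeal _ _).1 (Ideal.IsIntegral.comap_lt_comap
        ((PrimeSpectrum.asIdeal_lt_asIdeal _ _).2 h))

end Groth.Agent.S5766
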