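import Groth.Statements.S5768
import Groth.Agent.Lib.HilbSam.Param
import Mathlib.RingTheory.Regular.RegularSequence

set_option autoImplicit false
universe u
open EGA41

namespace Groth.Agent.S5768

/-- Let A be a semi-local Noetherian ring with Jacobson radical r, M a nonzero finitely generated
A-module and x_1, ..., x_k elements of r. One always has dim(M/(x_1 M + ... + x_k M)) ≥ dim(M) - k,
and equality holds if and only if there exist further elements of r which together with the x_i form
a system of parameters for M (dim(M) elements of r modulo which M has finite length). -/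
theorem result (A : Type u) [CommRing A]
    [IsNoetherianRing A] [Finite (MaximalSpectrum A)] (M : Type u) [AddCommGroup M] [Module A M]
    [Module.Finite A M] [Nontrivial M] (xs : List A) (hxs : ∀ x ∈ xs, x ∈ Ring.jacobson A) :
    Module.supportDim A (M ⧸ (Ideal.ofList xs • (⊤ : Submodule A M))) + xs.length = Module.supportDim A M ↔
      ∃ ys : List A, (∀ y ∈ ys, y ∈ Ring.jacobson A) ∧
        ((xs ++ ys).length : WithBot ℕ∞) = Module.supportDim A M ∧
        IsFiniteLength A (M ⧸ (Ideal.ofList (xs ++ ys) • (⊤ : Submodule A M))) := by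
  obtain ⟨D, hD⟩ := Groth.Agent.HilbSam.exists_supportDim_eq_natCast (A := A) (M := M)
  let Q := M ⧸ (Ideal.ofList xs • (⊤ : Submodule A M))
  have : Nontrivial Q := Submodule.Quotient.nontrivial_iff.2 (Submodule.top_ne_ideal_smul_of_le_jacobson_annihilator
    ((Ideal.span_le.2 hxs : Ideal.ofList xs ≤ Ring.jacobson A).trans
      (by rw [Ideal.jacobson, ← Ideal.jacobson_bot]; exact Ideal.jacobson_mono bot_le))).symm
  obtain ⟨d, hd⟩ := Groth.Agent.HilbSam.exists_supportDim_eq_natCast (A := A) (M := Q)
  rw [hD, hd]
  constructor
  · intro h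
    obtain ⟨ys, hys, hy, hfin⟩ := Groth.Agent.HilbSam.exists_parameters_list hd.le
    rw [Groth.Agent.HilbSam.isFiniteLength_quotient_quotient_iff, ← Ideal.ofList_append] at hfin
    refine ⟨ys, hy, ?_, hfin⟩
    rw [← h, List.length_append, hys, Nat.cast_add, add_comm]
  · rintro ⟨ys, hy, hlen, hfin⟩
    rw [Ideal.ofList_append, ← Groth.Agent.HilbSam.isFiniteLength_quotient_quotient_iff] at hfin
    have h1 := Groth.Agent.HilbSam.supportDim_le_of_list (M := Q) ys hy hfin
    have h2 := Groth.Agent.HilbSam.supportDim_le_quotient_add xs hxs hd.le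
    rw [hd, Nat.cast_le] at h1
    rw [hD, Nat.cast_le] at h2
    rw [Nat.cast_inj, List.length_append] at hlen
    rw [← Nat.cast_add, Nat.cast_inj]
    omega

end Groth.Agent.S5768
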