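import Groth.Statements.S5771
import Groth.Agent.Lib.RegLoc.Basic
import Mathlib.RingTheory.Ideal.KrullsHeightTheorem

set_option autoImplicit false
universe u
open EGA41

namespace Groth.Agent.S5771

/-- Let φ : A → B be a local homomorphism of Noetherian local rings, m the maximal ideal of A, and
suppose mB is an ideal of definition of B (equivalently dim(B/mB) = 0). Then dim(B) ≤ dim(A); if
moreover A is an integral domain and dim(A) = dim(B), then φ is injective. -/
theorem result (A B : Type u) [CommRing A] [CommRing B]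
    [IsLocalRing A] [IsLocalRing B] [IsNoetherianRing A] [IsNoetherianRing B] [Algebra A B]
    [IsLocalHom (algebraMap A B)]
    (hdef : ringKrullDim (B ⧸ (IsLocalRing.maximalIdeal A).map (algebraMap A B)) = 0) :
    ringKrullDim B ≤ ringKrullDim A ∧
      (IsDomain A → ringKrullDim A = ringKrullDim B → Function.Injective (algebraMap A B)) := by
  have key : ∀ (A' : Type u) [CommRing A'] [IsLocalRing A'] [IsNoetherianRing A'] [Algebra A' B]
      [IsLocalHom (algebraMap A' B)],
      ringKrullDim (B ⧸ (IsLocalRing.maximalIdeal A').map (algebraMap A' B)) = 0 →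
      ringKrullDim B ≤ ringKrullDim A' := by
    intro A' _ _ _ _ _ h
    haveI : (IsLocalRing.maximalIdeal B).LiesOver (IsLocalRing.maximalIdeal A') :=
      ⟨(IsLocalRing.maximalIdeal_comap _).symm⟩
    have h1 := Ideal.height_le_height_add_of_liesOver (IsLocalRing.maximalIdeal A') (IsLocalRing.maximalIdeal B)
    set I := (IsLocalRing.maximalIdeal A').map (algebraMap A' B)
    have hle : I ≤ IsLocalRing.maximalIdeal B := Ideal.map_le_iff_le_comap.2 (IsLocalRing.maximalIdeal_comap _).ge
    haveI : ((IsLocalRing.maximalIdeal B).map (Ideal.Quotient.mk I)).IsPrime :=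
      Ideal.map_isPrime_of_surjective Ideal.Quotient.mk_surjective (by rw [Ideal.mk_ker]; exact hle)
    have h2 : ((IsLocalRing.maximalIdeal B).map (Ideal.Quotient.mk I)).height = 0 := by
      have := Ideal.height_le_ringKrullDim_of_ne_top (I := (IsLocalRing.maximalIdeal B).map (Ideal.Quotient.mk I)) (Ideal.IsPrime.ne_top ‹_›)
      rw [h] at this
      exact le_antisymm (by exact_mod_cast this) bot_le
    rw [h2, add_zero] at h1
    rw [← IsLocalRing.maximalIdeal_height_eq_ringKrullDim, ← IsLocalRing.maximalIdeal_height_eq_ringKrullDim]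
    exact_mod_cast h1
  refine ⟨key A hdef, fun hdom heq => ?_⟩
  rw [injective_iff_map_eq_zero]
  intro x hx
  by_contra hx0
  have hxm : x ∈ IsLocalRing.maximalIdeal A := by
    intro hu
    exact not_isUnit_zero (hx ▸ hu.map (algebraMap A B))
  let A' := A ⧸ Ideal.span {x}
  have hne : Ideal.span {x} ≠ ⊤ :=
    ne_top_of_le_ne_top (IsLocalRing.maximalIdeal.isMaximal A).ne_top ((Ideal.span_singleton_le_iff_mem _).2 hxm)
  haveI : Nontrivial A' := Ideal.Quotient.nontrivial_iff.2 hne
  haveI : IsLocalRing A' := IsLocalRing.of_surjective' (Ideal.Quotient.mk _) Ideal.Quotient.mk_surjective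
  let φ : A' →+* B := Ideal.Quotient.lift _ (algebraMap A B) fun a ha => by
    obtain ⟨c, rfl⟩ := Ideal.mem_span_singleton'.1 ha
    rw [map_mul, hx, mul_zero]
  letI : Algebra A' B := φ.toAlgebra
  haveI : IsLocalHom (algebraMap A' B) := ⟨fun a ha => by
    obtain ⟨a, rfl⟩ := Ideal.Quotient.mk_surjective a
    exact (IsUnit.of_map (algebraMap A B) a (show IsUnit (algebraMap A B a) from ha)).map _⟩
  have hmap : (IsLocalRing.maximalIdeal A').map (algebraMap A' B) = (IsLocalRing.maximalIdeal A).map (algebraMap A B) := by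
    rw [← IsLocalRing.map_maximalIdeal_of_surjective (Ideal.Quotient.mk (Ideal.span {x})) Ideal.Quotient.mk_surjective,
      Ideal.map_map]
    rfl
  have hdef' := (ringKrullDim_eq_of_ringEquiv (Ideal.quotEquivOfEq hmap)).trans hdef
  have h3 := key A' hdef'
  have h4 := ringKrullDim_quotient_succ_le_of_nonZeroDivisor (mem_nonZeroDivisors_of_ne_zero hx0)
  rw [← heq] at h3
  obtain ⟨d, hd⟩ := RegLoc.exists_dim_eq_nat (R := A)
  obtain ⟨d', hd'⟩ := RegLoc.exists_dim_eq_nat (R := A')
  rw [hd, hd'] at h3
  rw [hd, show ringKrullDim (A ⧸ Ideal.span {x}) = (d' : WithBot ℕ∞) from hd'] at h4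
  have e3 : d ≤ d' := by exact_mod_cast h3
  have e4 : d' + 1 ≤ d := by exact_mod_cast h4
  omega

end Groth.Agent.S5771
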