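import Groth.Statements.S5772
import Mathlib.RingTheory.Filtration

set_option autoImplicit false
universe u
open scoped Pointwise
open EGA41

namespace Groth.Agent.S5772

/-- Let A be a Noetherian ring, M a finitely generated A-module and f an element of A. Then f is
M-regular (multiplication by f on M is injective) if and only if f is M-quasi-regular, i.e. the
canonical surjection (M/fM)[T] → gr(M) for the (f)-adic filtration is bijective, which amounts to:
for every k ≥ 0 and x ∈ M, f^k x ∈ f^(k+1) M implies x ∈ fM. -/
theorem result (A : Type u) [CommRing A] [IsNoetherianRing A] (M : Type u)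
    [AddCommGroup M] [Module A M] [Module.Finite A M] (f : A) :
    IsSMulRegular M f ↔
      ∀ (k : ℕ) (x : M), f ^ k • x ∈ f ^ (k + 1) • (⊤ : Submodule A M) → x ∈ f • (⊤ : Submodule A M) := by
  have key : ∀ {m : M} (k : ℕ), m ∈ f ^ k • (⊤ : Submodule A M) ↔ ∃ y, f ^ k • y = m := fun k => by
    simp [Submodule.mem_smul_pointwise_iff_exists]
  constructor
  · intro h k x hx
    obtain ⟨y, hy⟩ := (key _).1 hx
    rw [pow_succ, mul_smul] at hy
    have hy' : f • y = x := (h.pow k) hy
    simpa using (key 1).2 ⟨y, by simpa using hy'⟩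
  · intro h
    refine (isSMulRegular_iff_right_eq_zero_of_smul (R := A) (M := M) (r := f)).2 fun x hx => ?_
    have hmem : ∀ k, x ∈ f ^ k • (⊤ : Submodule A M) := by
      intro k
      induction k with
      | zero => exact (key 0).2 ⟨x, by simp⟩
      | succ k ih =>
        obtain ⟨z, rfl⟩ := (key k).1 ih
        have h0 : f ^ (k + 1) • z = 0 := by rw [pow_succ', mul_smul]; exact hx
        have := h (k + 1) z (by rw [h0]; exact zero_mem _)
        rw [← pow_one f] at this
        obtain ⟨w, hw⟩ := (key 1).1 this
        refine (key (k + 1)).2 ⟨w, ?_⟩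
        rw [← hw, pow_one, pow_succ, mul_smul]
    have hx' : x ∈ (⨅ i : ℕ, Ideal.span {f} ^ i • ⊤ : Submodule A M) := by
      refine Submodule.mem_iInf _ |>.2 fun k => ?_
      rw [Ideal.span_singleton_pow, Submodule.ideal_span_singleton_smul]
      exact hmem k
    obtain ⟨⟨r, hr⟩, hrx⟩ := (Ideal.mem_iInf_smul_pow_eq_bot_iff (Ideal.span {f}) x).1 hx'
    obtain ⟨a, rfl⟩ := Ideal.mem_span_singleton'.1 hr
    rw [← hrx, show (a * f) • x = a • f • x from mul_smul a f x, hx, smul_zero]

end Groth.Agent.S5772
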