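import Groth.Statements.S5775
import Groth.Agent.Lib.RegFlat3.Basic

set_option autoImplicit false
universe u
open EGA41

namespace Groth.Agent.S5775

open TensorProduct in
theorem mem_smul_of_mem {A B : Type u} [CommRing A] [CommRing B] [Algebra A B] {M : Type u} [AddCommGroup M]
    [Module B M] [Module A M] [IsScalarTower A B M] {R : Submodule B M} (hR : Module.Flat A (M ⧸ R)) {m : Ideal A}
    (x : M) (hx : x ∈ m.map (algebraMap A B) • (⊤ : Submodule B M)) (hxR : x ∈ R) :
    x ∈ m.map (algebraMap A B) • R := by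
  haveI := hR
  obtain ⟨z, hz⟩ : ∃ z : M ⊗[A] m, TensorProduct.rid A M (m.subtype.lTensor M z) = x := by
    have hx' : x ∈ (m.map (algebraMap A B) • (⊤ : Submodule B M)).restrictScalars A := hx
    rw [Ideal.smul_restrictScalars, Submodule.restrictScalars_top] at hx'
    refine Submodule.smul_induction_on hx' (fun r hr n _ => ⟨n ⊗ₜ ⟨r, hr⟩, by simp⟩) ?_
    rintro _ _ ⟨y, rfl⟩ ⟨z, rfl⟩
    exact ⟨y + z, by simp⟩
  have hinj := Module.Flat.lTensor_preserves_injective_linearMap (M := M ⧸ R) m.subtype m.injective_subtype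
  let q := R.mkQ.restrictScalars A
  have hq : q.rTensor m z = 0 := by
    apply hinj
    apply (TensorProduct.rid A (M ⧸ R)).injective
    rw [map_zero, map_zero]
    have e : ∀ z : M ⊗[A] m, TensorProduct.rid A (M ⧸ R) (m.subtype.lTensor (M ⧸ R) (q.rTensor m z)) =
        q (TensorProduct.rid A M (m.subtype.lTensor M z)) := by
      intro z
      induction z with
      | zero => simp
      | add a b ha hb => simp only [map_add, ha, hb]
      | tmul n a => simp [q]
    rw [e, hz]
    exact (Submodule.Quotient.mk_eq_zero R).2 hxR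
  obtain ⟨y, rfl⟩ := (rTensor_exact (R := A) m (f := R.subtype.restrictScalars A) (g := q)
    (LinearMap.exact_subtype_mkQ R) R.mkQ_surjective z).1 hq
  rw [← hz]
  clear hq hz hx hxR
  induction y with
  | zero => simp
  | add a b ha hb => simp only [map_add]; exact add_mem ha hb
  | tmul n a =>
    simp only [LinearMap.rTensor_tmul, LinearMap.lTensor_tmul, TensorProduct.rid_tmul]
    show (a : A) • (n : M) ∈ _
    rw [← algebraMap_smul B (a : A) (n : M)]
    exact Submodule.smul_mem_smul (Ideal.mem_map_of_mem _ a.2) n.2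

/-- Let A → B be a local homomorphism of Noetherian local rings, m the maximal ideal of A, M a finitely
generated B-module flat over A and R a B-submodule of M such that M/R is flat over A. Let f_1, ...,
f_n be elements of the maximal ideal of B such that (i) f_i M ⊆ R for all i, (ii) the images of the
f_i form an (M/mM)-regular sequence, and (iii) the submodule f_1 (M/mM) + ... + f_n (M/mM) is the
image of R in M/mM. Then (f_i) is an M-regular sequence and R = f_1 M + ... + f_n M. -/
theorem result (A B : Type u) [CommRing A] [CommRing B] [IsLocalRing A]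
    [IsLocalRing B] [IsNoetherianRing A] [IsNoetherianRing B] [Algebra A B] [IsLocalHom (algebraMap A B)]
    (M : Type u) [AddCommGroup M] [Module B M] [Module A M] [IsScalarTower A B M] [Module.Finite B M]
    [Module.Flat A M] (R : Submodule B M) (hR : Module.Flat A (M ⧸ R)) (fs : List B)
    (hfs : ∀ f ∈ fs, f ∈ IsLocalRing.maximalIdeal B) (h1 : Ideal.ofList fs • (⊤ : Submodule B M) ≤ R)
    (h2 : RingTheory.Sequence.IsWeaklyRegular
      (M ⧸ ((IsLocalRing.maximalIdeal A).map (algebraMap A B) • (⊤ : Submodule B M))) fs)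
    (h3 : Ideal.ofList fs • (⊤ : Submodule B
        (M ⧸ ((IsLocalRing.maximalIdeal A).map (algebraMap A B) • (⊤ : Submodule B M)))) =
      R.map ((IsLocalRing.maximalIdeal A).map (algebraMap A B) • (⊤ : Submodule B M)).mkQ) :
    RingTheory.Sequence.IsWeaklyRegular M fs ∧ R = Ideal.ofList fs • (⊤ : Submodule B M) := by
  obtain ⟨hw, hflat⟩ := Groth.Agent.RegFlat3.regular_flat_of_fibre fs M h2
  refine ⟨hw, le_antisymm ?_ h1⟩
  set N := Ideal.ofList fs • (⊤ : Submodule B M)
  set I := (IsLocalRing.maximalIdeal A).map (algebraMap A B)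
  refine Submodule.le_of_le_smul_of_le_jacobson_bot (I := I) (IsNoetherian.noetherian R)
    ((Ideal.map_le_iff_le_comap.2 (IsLocalRing.maximalIdeal_comap (algebraMap A B)).ge).trans (IsLocalRing.maximalIdeal_le_jacobson _)) ?_
  intro r hr
  have hr' : Submodule.mkQ (I • (⊤ : Submodule B M)) r ∈ R.map (I • (⊤ : Submodule B M)).mkQ := Submodule.mem_map_of_mem hr
  rw [← h3, ← Submodule.range_mkQ (I • (⊤ : Submodule B M)), ← Submodule.map_top, ← Submodule.map_smul''] at hr'
  obtain ⟨j, hj, hjr⟩ := hr'
  rw [Submodule.mkQ_apply, Submodule.mkQ_apply, Submodule.Quotient.eq] at hjr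
  have hz : r - j ∈ I • (⊤ : Submodule B M) := by simpa using neg_mem hjr
  have hsub : r - j ∈ I • R := mem_smul_of_mem hR _ hz (R.sub_mem hr (h1 hj))
  exact Submodule.mem_sup.2 ⟨j, hj, r - j, hsub, by abel⟩

end Groth.Agent.S5775
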