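import Groth.Statements.S5776
import Groth.Agent.Lib.Depth3.Zero
import Mathlib.RingTheory.Regular.RegularSequence

set_option autoImplicit false
universe u
open EGA41

namespace Groth.Agent.S5776

open Pointwise

theorem middle {A : Type u} [CommRing A] (rs : List A) : ∀ {N M P : Type u} [AddCommGroup N] [Module A N]
    [AddCommGroup M] [Module A M] [AddCommGroup P] [Module A P] (f : N →ₗ[A] M) (g : M →ₗ[A] P),
    Function.Injective f → Function.Exact f g → Function.Surjective g →
    RingTheory.Sequence.IsWeaklyRegular N rs → RingTheory.Sequence.IsWeaklyRegular P rs →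
    RingTheory.Sequence.IsWeaklyRegular M rs := by
  induction rs with
  | nil => intros; exact RingTheory.Sequence.IsWeaklyRegular.nil A _
  | cons r rs ih =>
    intro N M P _ _ _ _ _ _ f g hf hfg hg hN hP
    rw [RingTheory.Sequence.isWeaklyRegular_cons_iff] at hN hP ⊢
    refine ⟨isSMulRegular_of_range_eq_ker hf (LinearMap.exact_iff.1 hfg).symm hN.1 hP.1,
      ih (QuotSMulTop.map r f) (QuotSMulTop.map r g) ?_ (QuotSMulTop.map_exact r hfg hg)
        (QuotSMulTop.map_surjective r hg) hN.2 hP.2⟩
    rw [injective_iff_map_eq_zero]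
    intro x hx
    obtain ⟨n, rfl⟩ := Submodule.mkQ_surjective _ x
    rw [Submodule.mkQ_apply, QuotSMulTop.map_apply_mk, Submodule.Quotient.mk_eq_zero] at hx
    obtain ⟨m, -, hm⟩ := (Submodule.mem_smul_pointwise_iff_exists _ _ _).1 hx
    have hgm : g m = 0 := hP.1.right_eq_zero_of_smul (by rw [← map_smul, hm, hfg.apply_apply_eq_zero])
    obtain ⟨n', rfl⟩ := (hfg m).1 hgm
    rw [Submodule.mkQ_apply, Submodule.Quotient.mk_eq_zero]
    rw [← map_smul] at hm
    exact hf hm ▸ Submodule.smul_mem_pointwise_smul n' r ⊤ trivial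

theorem quot_pow {A : Type u} [CommRing A] {M : Type u} [AddCommGroup M] [Module A M] (a : A)
    (ha : IsSMulRegular M a) (rs : List A) (h : RingTheory.Sequence.IsWeaklyRegular (QuotSMulTop a M) rs) :
    ∀ e : ℕ, 1 ≤ e → RingTheory.Sequence.IsWeaklyRegular (QuotSMulTop (a ^ e) M) rs := by
  intro e he
  induction e, he using Nat.le_induction with
  | base => rw [pow_one]; exact h
  | succ e _ ih =>
    have h1 : (a • ⊤ : Submodule A M) ≤ (a ^ (e + 1) • ⊤ : Submodule A M).comap (LinearMap.lsmul A M (a ^ e)) := by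
      rintro x hx
      obtain ⟨y, -, rfl⟩ := (Submodule.mem_smul_pointwise_iff_exists _ _ _).1 hx
      rw [Submodule.mem_comap, LinearMap.lsmul_apply, smul_smul, ← pow_succ]
      exact Submodule.smul_mem_pointwise_smul y _ ⊤ trivial
    have h2 : (a ^ (e + 1) • ⊤ : Submodule A M) ≤ (a ^ e • ⊤ : Submodule A M) := by
      rintro x hx
      obtain ⟨y, -, rfl⟩ := (Submodule.mem_smul_pointwise_iff_exists _ _ _).1 hx
      rw [pow_succ, ← smul_smul]
      exact Submodule.smul_mem_pointwise_smul (a • y) _ ⊤ trivial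
    refine middle rs (Submodule.mapQ _ _ _ h1) (Submodule.factor h2) ?_ ?_ (Submodule.factor_surjective h2) h ih
    · rw [injective_iff_map_eq_zero]
      intro x hx
      obtain ⟨n, rfl⟩ := Submodule.mkQ_surjective _ x
      rw [Submodule.mkQ_apply, Submodule.mapQ_apply, Submodule.Quotient.mk_eq_zero] at hx
      obtain ⟨y, -, hy⟩ := (Submodule.mem_smul_pointwise_iff_exists _ _ _).1 hx
      rw [pow_succ, ← smul_smul] at hy
      rw [Submodule.mkQ_apply, Submodule.Quotient.mk_eq_zero, ← (ha.pow e) hy]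
      exact Submodule.smul_mem_pointwise_smul y _ ⊤ trivial
    · intro x
      obtain ⟨n, rfl⟩ := Submodule.mkQ_surjective _ x
      refine Iff.trans (b := n ∈ (a ^ e • ⊤ : Submodule A M)) (Submodule.Quotient.mk_eq_zero _) ?_
      constructor
      · intro hn
        obtain ⟨y, -, rfl⟩ := (Submodule.mem_smul_pointwise_iff_exists _ _ _).1 hn
        exact ⟨Submodule.Quotient.mk y, rfl⟩
      · rintro ⟨y, hy⟩
        obtain ⟨y, rfl⟩ := Submodule.mkQ_surjective _ y
        rw [Submodule.mkQ_apply, Submodule.mapQ_apply, LinearMap.lsmul_apply, Submodule.mkQ_apply] at hy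
        replace hy := (Submodule.Quotient.eq _).1 hy
        have h3 := (a ^ e • ⊤ : Submodule A M).sub_mem (Submodule.smul_mem_pointwise_smul y (a ^ e) ⊤ trivial) (h2 hy)
        rwa [sub_sub_cancel] at h3

/-- Let A be a ring, M an A-module and (f_i)_{1 ≤ i ≤ n} an M-regular sequence of elements of A. Then
for any exponents v_i ≥ 1 the sequence (f_i ^ v_i) is again M-regular. -/
theorem result (A : Type u) [CommRing A] (M : Type u) [AddCommGroup M]
    [Module A M] (n : ℕ) (f : Fin n → A) (v : Fin n → ℕ) (hv : ∀ i, 1 ≤ v i)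
    (hf : RingTheory.Sequence.IsWeaklyRegular M (List.ofFn f)) :
    RingTheory.Sequence.IsWeaklyRegular M (List.ofFn fun i => f i ^ v i) := by
  induction n generalizing M with
  | zero => simp [RingTheory.Sequence.IsWeaklyRegular.nil]
  | succ n ih =>
    rw [List.ofFn_succ, RingTheory.Sequence.isWeaklyRegular_cons_iff] at hf
    rw [List.ofFn_succ, RingTheory.Sequence.isWeaklyRegular_cons_iff]
    refine ⟨hf.1.pow _, ?_⟩
    refine ih (QuotSMulTop (f 0 ^ v 0) M) (fun i => f i.succ) (fun i => v i.succ) (fun i => hv i.succ) ?_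
    exact quot_pow (f 0) hf.1 _ hf.2 (v 0) (hv 0)

end Groth.Agent.S5776
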