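import Groth.Statements.S5779
import Groth.Agent.Lib.RegLoc.Quotient
import Groth.Agent.Lib.RegLoc.Sop
import Mathlib.RingTheory.KrullDimension.Regular

set_option autoImplicit false
universe u
open EGA41

namespace Groth.Agent.S5779

open IsLocalRing in
theorem indep_of_card {A : Type u} [CommRing A] [IsLocalRing A] [IsNoetherianRing A] {ι : Type*} [Fintype ι]
    (z : ι → A) (hz : Ideal.span (Set.range z) = maximalIdeal A) (hc : Fintype.card ι ≤ (maximalIdeal A).spanFinrank)
    (a : ι → A) (ha : ∑ i, a i * z i ∈ maximalIdeal A ^ 2) (i : ι) : a i ∈ maximalIdeal A := by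
  classical
  by_contra hi
  obtain ⟨w, hw⟩ := (IsLocalRing.notMem_maximalIdeal.1 hi).exists_left_inv
  let s : Finset A := (Finset.univ.erase i).image z
  have hzi : z i ∈ Ideal.span (s : Set A) ⊔ maximalIdeal A • maximalIdeal A := by
    have hsum : ∑ j ∈ Finset.univ.erase i, a j * z j ∈ Ideal.span (s : Set A) := Ideal.sum_mem _ fun j hj =>
      Ideal.mul_mem_left _ _ (Ideal.subset_span (Finset.mem_coe.2 (Finset.mem_image_of_mem z hj)))
    have : z i = w * (∑ j, a j * z j) - w * ∑ j ∈ Finset.univ.erase i, a j * z j := by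
      rw [← Finset.add_sum_erase _ _ (Finset.mem_univ i), mul_add, add_sub_cancel_right, ← mul_assoc, hw, one_mul]
    rw [this]
    refine sub_mem (Submodule.mem_sup_right ?_) (Submodule.mem_sup_left (Ideal.mul_mem_left _ _ hsum))
    rw [smul_eq_mul, ← pow_two]
    exact Ideal.mul_mem_left _ _ ha
  have hle : maximalIdeal A ≤ Ideal.span (s : Set A) := by
    refine Submodule.le_of_le_smul_of_le_jacobson_bot (IsNoetherian.noetherian _) (maximalIdeal_le_jacobson _) ?_
    conv_lhs => rw [← hz]
    rw [Ideal.span_le]
    rintro _ ⟨j, rfl⟩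
    by_cases hj : j = i
    · subst hj; exact hzi
    · exact Submodule.mem_sup_left (Ideal.subset_span (Finset.mem_coe.2
        (Finset.mem_image_of_mem z (Finset.mem_erase.2 ⟨hj, Finset.mem_univ j⟩))))
  have heq : maximalIdeal A = Ideal.span (s : Set A) := le_antisymm hle (by
    rw [← hz]; refine Ideal.span_mono ?_; intro x hx
    obtain ⟨j, -, rfl⟩ := Finset.mem_image.1 (Finset.mem_coe.1 hx); exact ⟨j, rfl⟩)
  have h1 : (maximalIdeal A).spanFinrank ≤ s.card := by
    rw [heq, ← Set.ncard_coe_finset]
    exact Submodule.spanFinrank_span_le_ncard_of_finite s.finite_toSet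
  have h2 : s.card < Fintype.card ι :=
    lt_of_le_of_lt Finset.card_image_le (Finset.card_lt_univ_of_notMem (Finset.notMem_erase i _))
  omega

/-- Let A be a Noetherian local ring with maximal ideal m and residue field k, (x_i)_{1 ≤ i ≤ r}
elements of m and J = x_1 A + ... + x_r A. Then A is regular with the classes of the x_i in m/m²
linearly independent over k (equivalently: the x_i are part of a regular system of parameters) if
and only if the x_i are part of a system of parameters of A (dim(A/J) = dim(A) - r) and A/J is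
regular. When these conditions hold, J is a prime ideal. -/
theorem result (A : Type u) [CommRing A] [IsLocalRing A]
    [IsNoetherianRing A] (r : ℕ) (x : Fin r → IsLocalRing.maximalIdeal A) :
    ((IsRegularLocalRing A ∧
        LinearIndependent (IsLocalRing.ResidueField A)
          (fun i => (IsLocalRing.maximalIdeal A).toCotangent (x i))) ↔
      (ringKrullDim (A ⧸ Ideal.span (Set.range fun i => (x i : A))) + r = ringKrullDim A ∧
        IsRegularLocalRing (A ⧸ Ideal.span (Set.range fun i => (x i : A))))) ∧
    (IsRegularLocalRing (A ⧸ Ideal.span (Set.range fun i => (x i : A))) →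
      ringKrullDim (A ⧸ Ideal.span (Set.range fun i => (x i : A))) + r = ringKrullDim A →
        (Ideal.span (Set.range fun i => (x i : A))).IsPrime) := by
  classical
  set J := Ideal.span (Set.range fun i => (x i : A))
  have hJm : J ≤ IsLocalRing.maximalIdeal A := Ideal.span_le.2 (by rintro _ ⟨i, rfl⟩; exact (x i).2)
  have hJtop : J ≠ ⊤ := ne_top_of_le_ne_top (IsLocalRing.maximalIdeal.isMaximal A).ne_top hJm
  haveI : Nontrivial (A ⧸ J) := Ideal.Quotient.nontrivial_iff.2 hJtop
  haveI : IsLocalRing (A ⧸ J) := .of_surjective' (Ideal.Quotient.mk J) Ideal.Quotient.mk_surjective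
  have hlin : LinearIndependent (IsLocalRing.ResidueField A)
        (fun i => (IsLocalRing.maximalIdeal A).toCotangent (x i)) ↔
      ∀ a : Fin r → A, ∑ i, a i * (x i : A) ∈ IsLocalRing.maximalIdeal A ^ 2 → ∀ i, a i ∈ IsLocalRing.maximalIdeal A := by
    rw [Fintype.linearIndependent_iff]
    have hc : ∀ a : Fin r → A, ∑ i, (IsLocalRing.residue A (a i)) • (IsLocalRing.maximalIdeal A).toCotangent (x i) =
        (IsLocalRing.maximalIdeal A).toCotangent (∑ i, a i • x i) := fun a => by
      rw [map_sum]; exact Finset.sum_congr rfl fun i _ => ((IsLocalRing.maximalIdeal A).toCotangent.map_smul (a i) (x i)).symm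
    constructor
    · intro h a ha i
      refine (IsLocalRing.residue_eq_zero_iff _).1 (h (fun i => IsLocalRing.residue A (a i)) ?_ i)
      rw [hc, Ideal.toCotangent_eq_zero]
      simpa using ha
    · intro h g hg i
      choose a ha using fun i => IsLocalRing.residue_surjective (g i)
      rw [← funext ha, hc, Ideal.toCotangent_eq_zero] at hg
      rw [← ha i, IsLocalRing.residue_eq_zero_iff]
      exact h a (by simpa using hg) i
  have hback : ringKrullDim (A ⧸ J) + r = ringKrullDim A → IsRegularLocalRing (A ⧸ J) →
      IsRegularLocalRing A ∧ LinearIndependent (IsLocalRing.ResidueField A)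
        (fun i => (IsLocalRing.maximalIdeal A).toCotangent (x i)) := by
    intro hdim hreg
    obtain ⟨y, hy⟩ := Groth.Agent.RegLoc.exists_fin_generators (A ⧸ J)
    choose z hz using fun i => Ideal.Quotient.mk_surjective (y i)
    let w : Fin (IsLocalRing.maximalIdeal (A ⧸ J)).spanFinrank ⊕ Fin r → A := Sum.elim z fun i => (x i : A)
    have hw : Ideal.span (Set.range w) = IsLocalRing.maximalIdeal A := by
      rw [Set.Sum.elim_range, Ideal.span_union]
      exact (Groth.Agent.RegLoc.maximalIdeal_eq_sup_span z
        (by rw [show Ideal.Quotient.mk J ∘ z = y from funext hz]; exact hy) hJm).symm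
    have hcard : (IsLocalRing.maximalIdeal A).spanFinrank ≤ (IsLocalRing.maximalIdeal (A ⧸ J)).spanFinrank + r := by
      rw [← hw, ← Set.image_univ]
      refine (Submodule.spanFinrank_span_le_ncard_of_finite (Set.finite_univ.image _)).trans
        ((Set.ncard_image_le Set.finite_univ).trans ?_)
      simp [Set.ncard_univ, Nat.card_eq_fintype_card]
    rw [← IsRegularLocalRing.spanFinrank_maximalIdeal] at hdim
    have hA : IsRegularLocalRing A := by
      refine IsRegularLocalRing.of_spanFinrank_maximalIdeal_le _ ?_
      rw [← hdim]; exact_mod_cast hcard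
    refine ⟨hA, hlin.2 fun a ha i => ?_⟩
    rw [← IsRegularLocalRing.spanFinrank_maximalIdeal (R := A)] at hdim
    have hdim' : (IsLocalRing.maximalIdeal (A ⧸ J)).spanFinrank + r = (IsLocalRing.maximalIdeal A).spanFinrank := by
      exact_mod_cast hdim
    simpa using indep_of_card w hw (by simp [hdim']) (Sum.elim 0 a) (by simpa [w] using ha) (Sum.inr i)
  refine ⟨⟨?_, fun h => hback h.1 h.2⟩, fun hreg hdim => ?_⟩
  · rintro ⟨hA, hind⟩
    obtain ⟨h1, h2⟩ := Groth.Agent.RegLoc.regular_of_independent r A (fun i => (x i : A)) (fun i => (x i).2) (hlin.1 hind)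
    refine ⟨?_, h1⟩
    have h3 := ringKrullDim_add_length_eq_ringKrullDim_of_isRegular _ h2
    rw [List.length_ofFn] at h3
    rw [← h3, ringKrullDim_eq_of_ringEquiv (Ideal.quotEquivOfEq (show J = Ideal.ofList (List.ofFn fun i => (x i : A)) by
      simp only [J, Ideal.ofList]; congr 1; ext; simp [List.mem_ofFn]))]
  · haveI := Groth.Agent.RegLoc.isDomain (A ⧸ J)
    exact (Ideal.Quotient.isDomain_iff_prime J).1 inferInstance

end Groth.Agent.S5779
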