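import Groth.Statements.S5780
import Groth.Agent.Lib.Depth3.Zero
import Mathlib.RingTheory.Nakayama

set_option autoImplicit false
universe u
open EGA41

namespace Groth.Agent.S5780

/-- Let A be a Noetherian local ring with maximal ideal m. If every element of m which is not in m² is a
zero divisor in A, then there is a nonzero c in A with c m = 0, i.e. m is an associated prime of A. -/
theorem result (A : Type u) [CommRing A]
    [IsLocalRing A] [IsNoetherianRing A]
    (h : ∀ a ∈ IsLocalRing.maximalIdeal A, a ∉ IsLocalRing.maximalIdeal A ^ 2 → ¬ IsSMulRegular A a) :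
    IsLocalRing.maximalIdeal A ∈ associatedPrimes A A := by
  classical
  by_contra hne
  let m := IsLocalRing.maximalIdeal A
  let s : Finset (Ideal A) := insert (m ^ 2) (associatedPrimes.finite A A).toFinset
  have hsub : (m : Set A) ⊆ ⋃ p ∈ (↑s : Set (Ideal A)), (id p : Set A) := fun a ha => by
    by_cases h2 : a ∈ m ^ 2
    · exact Set.mem_biUnion (Finset.mem_insert_self _ _) h2
    · have hx : a ∈ ({r : A | IsSMulRegular A r}ᶜ : Set A) := h a ha h2
      rw [← biUnion_associatedPrimes_eq_compl_regular A A] at hx
      obtain ⟨p, hp, hap⟩ := Set.mem_iUnion₂.1 hx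
      exact Set.mem_biUnion (Finset.mem_insert_of_mem ((Set.Finite.mem_toFinset _).2 hp)) hap
  obtain ⟨p, hp, hle⟩ := (Ideal.subset_union_prime (m ^ 2) (m ^ 2) fun i hi hne' _ => by
    rcases Finset.mem_insert.1 hi with e | e
    · exact absurd e hne'
    · exact IsAssociatedPrime.isPrime ((Set.Finite.mem_toFinset _).1 e)).1 hsub
  rcases Finset.mem_insert.1 hp with rfl | hp
  · have hbot : m = ⊥ := Submodule.eq_bot_of_le_smul_of_le_jacobson_bot m m (IsNoetherian.noetherian _)
      (hle.trans (le_of_eq (pow_two m))) (IsLocalRing.maximalIdeal_le_jacobson _)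
    exact hne ((Groth.Agent.Depth3.mem_associatedPrimes_iff_exists A).2
      ⟨1, one_ne_zero, fun a ha => by rw [(Submodule.mem_bot A).1 (hbot.le ha), zero_smul]⟩)
  · have hp' := (Set.Finite.mem_toFinset _).1 hp
    have e : m = p := (IsLocalRing.maximalIdeal.isMaximal A).eq_of_le (IsAssociatedPrime.isPrime hp').ne_top hle
    exact hne (show m ∈ associatedPrimes A A from e ▸ hp')

end Groth.Agent.S5780
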