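import Groth.Statements.S5781
import Mathlib.RingTheory.Ideal.Cotangent
import Mathlib.LinearAlgebra.Basis.VectorSpace
import Mathlib.RingTheory.LocalRing.ResidueField.Basic
import Mathlib.RingTheory.LocalRing.Module

set_option autoImplicit false
universe u
open EGA41

namespace Groth.Agent.S5781

/-- Suppose A is a Noetherian local ring whose maximal ideal is m, and take a ∈ m with a ∉ m². Then the
quotient m/am contains a direct summand isomorphic to m/Aa: concretely, one can find A-linear maps f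
: m/Aa → m/am and g : m/am → m/Aa such that g ∘ f is the identity. -/
theorem result (A : Type u) [CommRing A] [IsLocalRing A]
    [IsNoetherianRing A] (a : A) (ha : a ∈ IsLocalRing.maximalIdeal A) (ha2 : a ∉ IsLocalRing.maximalIdeal A ^ 2) :
    ∃ (f : (↥(IsLocalRing.maximalIdeal A) ⧸ Submodule.span A {(⟨a, ha⟩ : ↥(IsLocalRing.maximalIdeal A))}) →ₗ[A]
          QuotSMulTop a ↥(IsLocalRing.maximalIdeal A))
      (g : QuotSMulTop a ↥(IsLocalRing.maximalIdeal A) →ₗ[A]
          (↥(IsLocalRing.maximalIdeal A) ⧸ Submodule.span A {(⟨a, ha⟩ : ↥(IsLocalRing.maximalIdeal A))})),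
      g.comp f = LinearMap.id := by
  classical
  obtain ⟨b, hb1, hb2⟩ : ∃ b : Submodule A (IsLocalRing.maximalIdeal A), b ⊔ Submodule.span A {(⟨a, ha⟩ : IsLocalRing.maximalIdeal A)} = ⊤ ∧
      ∀ c : A, c • (⟨a, ha⟩ : IsLocalRing.maximalIdeal A) ∈ b → c ∈ IsLocalRing.maximalIdeal A := by
    let k := IsLocalRing.ResidueField A
    let m := IsLocalRing.maximalIdeal A
    have hne : m.toCotangent ⟨a, ha⟩ ≠ 0 := fun h => ha2 (Ideal.toCotangent_eq_zero m ⟨a, ha⟩ |>.1 h)
    obtain ⟨L, hL⟩ := LinearMap.exists_leftInverse_of_injective (LinearMap.toSpanSingleton k _ (m.toCotangent ⟨a, ha⟩))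
      (LinearMap.ker_eq_bot.2 (smul_left_injective k hne))
    let ℓ : m →ₗ[A] k := (L.restrictScalars A) ∘ₗ m.toCotangent
    have hℓa : ℓ ⟨a, ha⟩ = 1 := by simpa [ℓ] using LinearMap.congr_fun hL 1
    refine ⟨LinearMap.ker ℓ, eq_top_iff.2 fun y _ => ?_, fun c hc => ?_⟩
    · obtain ⟨c, hc⟩ := IsLocalRing.residue_surjective (ℓ y)
      refine Submodule.mem_sup.2 ⟨y - c • ⟨a, ha⟩, ?_, c • ⟨a, ha⟩, Submodule.smul_mem _ _ (Submodule.mem_span_singleton_self _), sub_add_cancel _ _⟩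
      rw [LinearMap.mem_ker, map_sub, map_smul, hℓa, ← Algebra.algebraMap_eq_smul_one]
      exact sub_eq_zero.2 hc.symm
    · rw [LinearMap.mem_ker, map_smul, hℓa, ← Algebra.algebraMap_eq_smul_one] at hc
      exact (IsLocalRing.residue_eq_zero_iff c).1 hc
  let M := ↥(IsLocalRing.maximalIdeal A)
  let x : M := ⟨a, ha⟩
  let q : M →ₗ[A] M ⧸ Submodule.span A {x} := Submodule.mkQ _
  let r : M →ₗ[A] QuotSMulTop a M := Submodule.mkQ _
  have hqs : Function.Surjective (q ∘ₗ b.subtype) := fun z => by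
    obtain ⟨y, rfl⟩ := Submodule.mkQ_surjective _ z
    obtain ⟨u, hu, v, hv, huv⟩ := Submodule.mem_sup.1 (hb1.ge (Submodule.mem_top (x := y)))
    refine ⟨⟨u, hu⟩, ?_⟩
    show q u = q y
    rw [← huv, map_add, show q v = 0 from (Submodule.Quotient.mk_eq_zero _).2 hv, add_zero]
  have hker : LinearMap.ker (q ∘ₗ b.subtype) ≤ LinearMap.ker (r ∘ₗ b.subtype) := by
    rintro ⟨u, hu⟩ h
    obtain ⟨c, hc⟩ := Submodule.mem_span_singleton.1 ((Submodule.Quotient.mk_eq_zero _).1 h)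
    have hc' : c • x = u := hc
    refine (Submodule.Quotient.mk_eq_zero _).2 ?_
    show u ∈ _
    rw [← hc', show c • x = a • (⟨c, hb2 c (hc'.symm ▸ hu)⟩ : M) from Subtype.ext (mul_comm c a)]
    exact Submodule.smul_mem_pointwise_smul _ _ _ Submodule.mem_top
  refine ⟨(LinearMap.ker (q ∘ₗ b.subtype)).liftQ (r ∘ₗ b.subtype) hker ∘ₗ
      ((q ∘ₗ b.subtype).quotKerEquivOfSurjective hqs).symm.toLinearMap,
    Submodule.liftQ _ q ?_, LinearMap.ext fun z => ?_⟩
  · intro y hy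
    obtain ⟨y, -, rfl⟩ := Submodule.mem_smul_pointwise_iff_exists _ _ _ |>.1 hy
    refine (Submodule.Quotient.mk_eq_zero _).2 (Submodule.mem_span_singleton.2 ⟨(y : A), Subtype.ext (mul_comm (y : A) a)⟩)
  · obtain ⟨w, rfl⟩ := hqs z
    have : ((q ∘ₗ b.subtype).quotKerEquivOfSurjective hqs).symm ((q ∘ₗ b.subtype) w) = Submodule.Quotient.mk w :=
      (LinearEquiv.symm_apply_eq _).2 rfl
    simp only [LinearMap.comp_apply, LinearEquiv.coe_coe, LinearMap.id_apply]
    erw [this]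
    rfl

end Groth.Agent.S5781
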