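import Groth.Statements.S5782
import Groth.Agent.Lib.RegLoc.PD

set_option autoImplicit false
universe u
open CategoryTheory
open EGA41

namespace Groth.Agent.S5782

/-- Let A be a Noetherian local ring with maximal ideal m, E a finitely generated A-module of finite
projective dimension, and a ∈ m an element which is A-regular and E-regular. Then E/aE, as a module
over A/aA, has finite projective dimension at most the projective dimension of E over A. -/
theorem result (A : Type u) [CommRing A] [IsLocalRing A]
    [IsNoetherianRing A] (E : Type u) [AddCommGroup E] [Module A E] [Module.Finite A E]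
    (hfin : projectiveDimension (ModuleCat.of A E) ≠ ⊤) (a : A) (ha : a ∈ IsLocalRing.maximalIdeal A)
    (hA : IsSMulRegular A a) (hE : IsSMulRegular E a) :
    projectiveDimension (ModuleCat.of (A ⧸ Ideal.span {a}) (E ⧸ (Ideal.span {a} • (⊤ : Submodule A E)))) ≤
      projectiveDimension (ModuleCat.of A E) := by
  have hne : Ideal.span {a} ≠ ⊤ :=
    ne_top_of_le_ne_top (IsLocalRing.maximalIdeal.isMaximal A).ne_top ((Ideal.span_singleton_le_iff_mem _).2 ha)
  let Q := E ⧸ (Ideal.span {a} • (⊤ : Submodule A E))
  let e : QuotSMulTop a E ≃ₗ[A ⧸ Ideal.span {a}] Q :=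
    LinearEquiv.extendScalarsOfSurjective Ideal.Quotient.mk_surjective
      (Submodule.quotEquivOfEq _ _ (Submodule.ideal_span_singleton_smul a (⊤ : Submodule A E)).symm)
  have key : ∀ n : ℕ, HasProjectiveDimensionLT (ModuleCat.of A E) n →
      HasProjectiveDimensionLT (ModuleCat.of (A ⧸ Ideal.span {a}) Q) n := by
    rintro (_ | n) hn
    · rw [hasProjectiveDimensionLT_zero_iff_isZero] at hn ⊢
      haveI : Subsingleton E := ModuleCat.subsingleton_of_isZero hn
      exact ModuleCat.isZero_of_subsingleton _
    · exact (((Groth.Agent.RegLoc.pd_quotSMulTop_iff ha hA E hE).1 hn).congr e)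
  exact sInf_le_sInf fun n hn i hi => key i (hn i hi)

end Groth.Agent.S5782
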