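import Groth.Statements.S5783
import Groth.Agent.Lib.TensorFreeH28.Basic
import Groth.Agent.Lib.Depth.CM
import Groth.Agent.Lib.VarDim.Alg

set_option autoImplicit false
universe u
open EGA41

namespace Groth.Agent.S5783

open IsLocalRing RingTheory.Sequence in
theorem free_of_cm (R : Type u) (A : Type u) [CommRing R] [IsRegularLocalRing R]
    [CommRing A] [LocCoh.IsCohenMacaulayLocalRing A] [Algebra R A] [Module.Finite R A]
    (hinj : Function.Injective (algebraMap R A)) : Module.Free R A := by
  obtain ⟨x, hx⟩ := Groth.Agent.RegLoc.exists_fin_generators R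
  set xs := List.ofFn x with hxs
  set ys := xs.map (algebraMap R A) with hys
  have hxm : Ideal.ofList xs = maximalIdeal R := by
    refine Eq.trans ?_ hx
    rw [Ideal.ofList]
    congr 1
    ext; simp [hxs, List.mem_ofFn]
  have hlen : ys.length = (maximalIdeal R).spanFinrank := by simp [hys, hxs]
  have hprime : ∀ P : Ideal A, P.IsPrime → Ideal.ofList ys ≤ P → P = maximalIdeal A := by
    intro P hP hle
    rw [hys, ← Ideal.map_ofList, Ideal.map_le_iff_le_comap, hxm] at hle
    have h := le_antisymm hle (le_maximalIdeal (hP.comap (algebraMap R A)).ne_top)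
    have : (P.comap (algebraMap R A)).IsMaximal := h ▸ maximalIdeal.isMaximal R
    exact IsLocalRing.eq_maximalIdeal (Ideal.isMaximal_of_isIntegral_of_isMaximal_comap P this)
  have hys_le : Ideal.ofList ys ≤ maximalIdeal A := by
    rw [hys, ← Ideal.map_ofList, Ideal.map_le_iff_le_comap, hxm]
    intro r hr
    have h1 : IsLocalHom (algebraMap R A) :=
      RingHom.IsIntegral.isLocalHom (fun a => (Algebra.IsIntegral.of_finite R A).isIntegral a) hinj
    simpa using hr
  have hmem : ∀ y ∈ ys, y ∈ maximalIdeal A := fun y hy => hys_le (Ideal.subset_span hy)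
  have hcm := LocCoh.IsCohenMacaulayLocalRing.supportDim_eq_depth (R := A)
  have hne : Ideal.ofList ys ≠ ⊤ := ne_top_of_le_ne_top (maximalIdeal.isMaximal A).ne_top hys_le
  have h1 := Groth.Agent.DepthLib.supportDim_eq_quotient_add_idealDepth (M := A) hcm (I := Ideal.ofList ys) hne
  rw [Ideal.smul_eq_mul, Ideal.mul_top, Module.supportDim_quotient_eq_ringKrullDim,
    Module.supportDim_self_eq_ringKrullDim] at h1
  have h0 : ringKrullDim (A ⧸ Ideal.ofList ys) = 0 := by
    have : Nontrivial (A ⧸ Ideal.ofList ys) := Ideal.Quotient.nontrivial_iff.2 hne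
    refine le_antisymm ?_ ringKrullDim_nonneg_of_nontrivial
    have : Ring.KrullDimLE 0 (A ⧸ Ideal.ofList ys) := Ring.krullDimLE_zero_iff.2 fun P hP => by
      have h := hprime _ (hP.comap (Ideal.Quotient.mk _))
        (fun a ha => by simp [Ideal.mem_comap, Ideal.Quotient.eq_zero_iff_mem.2 ha])
      rw [← Ideal.map_comap_of_surjective _ Ideal.Quotient.mk_surjective P, h]
      exact Ideal.IsMaximal.map_of_surjective_of_ker_le Ideal.Quotient.mk_surjective
        (by rw [Ideal.mk_ker]; exact hys_le)
    exact Ring.krullDimLE_iff.1 this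
  rw [h0, zero_add, Groth.Agent.VarDim.ringKrullDim_eq_of_isIntegral hinj,
    ← IsRegularLocalRing.spanFinrank_maximalIdeal] at h1
  have hreg : IsWeaklyRegular A ys :=
    Groth.Agent.DepthLib.isWeaklyRegular_of_length_le_idealDepth ys hmem
      (le_of_eq (by rw [hlen]; exact_mod_cast h1))
  exact Groth.Agent.TensorFreeH28.free_of_isWeaklyRegular _ R xs rfl hxm A
    ((isWeaklyRegular_map_algebraMap_iff A A xs).1 hreg)

/-- Let A be a regular local ring, B a local ring and ρ : A → B a local homomorphism making B a finitely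
generated A-module. Then B is a free A-module if and only if B is a Cohen-Macaulay ring and ρ is
injective (the latter being equivalent to dim(B) = dim(A)). -/
theorem result (A B : Type u) [CommRing A] [CommRing B]
    [IsRegularLocalRing A] [IsLocalRing B] [Algebra A B] [IsLocalHom (algebraMap A B)] [Module.Finite A B] :
    Module.Free A B ↔ LocCoh.IsCohenMacaulayLocalRing B ∧ Function.Injective (algebraMap A B) := by
  constructor
  · intro hfree
    haveI := hfree
    have hinj : Function.Injective (algebraMap A B) := FaithfulSMul.algebraMap_injective A B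
    haveI : IsNoetherianRing B := IsNoetherianRing.of_finite A B
    haveI := Groth.Agent.RegLoc.isDomain A
    refine ⟨{ supportDim_eq_depth := le_antisymm ?_ Groth.Agent.DepthLib.depth_le_supportDim }, hinj⟩
    obtain ⟨x, hx⟩ := Groth.Agent.RegLoc.exists_fin_generators A
    have hreg := (Groth.Agent.RegLoc.isRegular_of_span_range _ A x hx rfl).toIsWeaklyRegular
    have h1 : RingTheory.Sequence.IsWeaklyRegular B (List.ofFn x) :=
      (LinearEquiv.isWeaklyRegular_congr (TensorProduct.rid A B) _).1 (hreg.isWeaklyRegular_lTensor (M₂ := B))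
    have h2 := (RingTheory.Sequence.isWeaklyRegular_map_algebraMap_iff B B (List.ofFn x)).2 h1
    rw [Module.supportDim_self_eq_ringKrullDim, Groth.Agent.VarDim.ringKrullDim_eq_of_isIntegral hinj,
      ← IsRegularLocalRing.spanFinrank_maximalIdeal]
    have h := Groth.Agent.DepthLib.length_le_idealDepth (I := IsLocalRing.maximalIdeal B) h2 fun b hb => by
      obtain ⟨a, ha, rfl⟩ := List.mem_map.1 hb
      obtain ⟨i, rfl⟩ := List.mem_ofFn.1 ha
      exact (IsLocalRing.maximalIdeal_comap (algebraMap A B)).ge (hx ▸ Ideal.subset_span ⟨i, rfl⟩)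
    rw [List.length_map, List.length_ofFn] at h
    exact WithBot.coe_le_coe.2 h
  · rintro ⟨hcm, hinj⟩
    exact free_of_cm A B hinj

end Groth.Agent.S5783
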