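import Groth.Statements.S5787
import Groth.Agent.Lib.Depth.RegularExt
import Groth.Agent.Lib.Depth.Basic

set_option autoImplicit false
universe u
open CategoryTheory
open EGA41

namespace Groth.Agent.S5787

open CategoryTheory CategoryTheory.Abelian RingTheory.Sequence in
theorem key {A : Type u} [CommRing A] (K : Type u) [AddCommGroup K] [Module A K] (xs : List A)
    (hx : ∀ x ∈ xs, ∀ y : K, x • y = 0) : ∀ (M : Type u) [AddCommGroup M] [Module A M], IsWeaklyRegular M xs →
    Nonempty ((K →ₗ[A] (M ⧸ (Ideal.ofList xs • (⊤ : Submodule A M)))) ≃+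
      Ext (ModuleCat.of A K) (ModuleCat.of A M) xs.length) := by
  induction xs with
  | nil =>
    intro M _ _ _
    exact ⟨((Submodule.quotEquivOfEqBot _ (by simp)).congrRight.toAddEquiv.trans
      ((ModuleCat.homLinearEquiv (S := A) (M := ModuleCat.of A K) (N := ModuleCat.of A M)).symm.toAddEquiv)).trans
      Ext.addEquiv₀.symm⟩
  | cons x rs ih =>
    intro M _ _ hreg
    rw [isWeaklyRegular_cons_iff] at hreg
    obtain ⟨e⟩ := ih (fun y hy => hx y (List.mem_cons_of_mem _ hy)) (QuotSMulTop x M) hreg.2
    have hS := IsSMulRegular.smulShortComplex_shortExact (M := ModuleCat.of A M) hreg.1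
    have hK : ∀ r ∈ x :: rs, ∃ k : ℕ, r ^ k ∈ Module.annihilator A (ModuleCat.of A K) := fun r hr =>
      ⟨1, by rw [pow_one, Module.mem_annihilator]; exact hx r hr⟩
    have hvan : Subsingleton (Ext (ModuleCat.of A K) (ModuleCat.of A M) rs.length) :=
      Groth.Agent.DepthLib.subsingleton_ext_of_isWeaklyRegular
        (M := M) ((isWeaklyRegular_cons_iff M x rs).2 hreg) _ hK (by simp)
    let δ : Ext (ModuleCat.of A K) (ModuleCat.of A (QuotSMulTop x M)) rs.length →+
        Ext (ModuleCat.of A K) (ModuleCat.of A M) (rs.length + 1) := hS.extClass.postcomp (ModuleCat.of A K) rfl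
    have hδ : Function.Bijective δ := by
      constructor
      · rw [injective_iff_map_eq_zero]
        intro a ha
        obtain ⟨b, hb⟩ := Ext.covariant_sequence_exact₃ (ModuleCat.of A K) hS a rfl ha
        rw [← hb, show b = 0 from @Subsingleton.elim _ hvan b 0, Ext.zero_comp]; rfl
      · intro a
        refine Ext.covariant_sequence_exact₁ (ModuleCat.of A K) hS a ?_ rfl
        have hr : x • 𝟙 (ModuleCat.of A K) = 0 := by ext m; exact hx x List.mem_cons_self m
        rw [ModuleCat.smulShortComplex_f_eq_smul_id]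
        refine (Ext.smul_eq_comp_mk₀ a x).symm.trans ?_
        rw [← Ext.mk₀_id_comp a, ← Ext.smul_comp, ← Ext.mk₀_smul, hr, Ext.mk₀_zero, Ext.zero_comp]; rfl
    exact ⟨((Submodule.quotOfListConsSMulTopEquivQuotSMulTopInner M x rs).congrRight.toAddEquiv.trans e).trans
      (AddEquiv.ofBijective δ hδ)⟩

/-- Let A be a Noetherian local ring with maximal ideal m and residue field k, M an A-module and
(x_i)_{1 ≤ i ≤ n} an M-regular sequence of elements of m. Then Hom_A(k, M/(x_1 M + ... + x_n M)) and
Ext^n_A(k, M) are isomorphic (existence of an isomorphism; stated for the underlying abelian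
groups). -/
theorem result (A : Type u) [CommRing A] [IsLocalRing A]
    [IsNoetherianRing A] (M : Type u) [AddCommGroup M] [Module A M] (xs : List A)
    (hxs : ∀ x ∈ xs, x ∈ IsLocalRing.maximalIdeal A) (hreg : RingTheory.Sequence.IsWeaklyRegular M xs) :
    Nonempty ((IsLocalRing.ResidueField A →ₗ[A] (M ⧸ (Ideal.ofList xs • (⊤ : Submodule A M)))) ≃+
      Abelian.Ext (ModuleCat.of A (IsLocalRing.ResidueField A)) (ModuleCat.of A M) xs.length) := by
  exact key (IsLocalRing.ResidueField A) xs (fun x hx y => by
    obtain ⟨z, rfl⟩ := IsLocalRing.residue_surjective y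
    show IsLocalRing.residue A (x * z) = 0
    exact (IsLocalRing.residue_eq_zero_iff _).2 (Ideal.mul_mem_right z _ (hxs x hx))) M hreg

end Groth.Agent.S5787
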