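import Groth.Statements.S5788
import Groth.Agent.Lib.HomDim.Basic

set_option autoImplicit false
universe u
open CategoryTheory
open EGA41

namespace Groth.Agent.S5788

/-- Let A be a ring, M an A-module and n ≥ 0. Then M has injective dimension at most n if and only if
Ext^(n+1)_A(N, M) = 0 for every monogenous A-module N, i.e. for every N of the form A/I with I an
ideal of A. -/
theorem result (A : Type u) [CommRing A] (M : Type u)
    [AddCommGroup M] [Module A M] (n : ℕ) :
    HasInjectiveDimensionLT (ModuleCat.of A M) (n + 1) ↔
      ∀ I : Ideal A, Subsingleton (Abelian.Ext (ModuleCat.of A (A ⧸ I)) (ModuleCat.of A M) (n + 1)) := by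
  refine ⟨fun h I => ?_, fun h => Groth.Agent.HomDim.hasInjectiveDimensionLT_of_subsingleton_ext n _ h⟩
  exact HasInjectiveDimensionLT.subsingleton (hX := h) _ _ _ le_rfl _

end Groth.Agent.S5788
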