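import Groth.Statements.S5790
import Groth.Agent.Lib.GrLC21.InjDimLocal
import Groth.Agent.Lib.HomDim.Basic

set_option autoImplicit false
universe u
open CategoryTheory
open EGA41

namespace Groth.Agent.S5790

open CategoryTheory in
theorem localized_of (A : Type u) [CommRing A] [IsNoetherianRing A] :
    ∀ (n : ℕ) (M : Type u) [AddCommGroup M] [Module A M], HasInjectiveDimensionLT (ModuleCat.of A M) (n + 1) →
      ∀ S : Submonoid A,
        HasInjectiveDimensionLT (ModuleCat.of (Localization S) (LocalizedModule S M)) (n + 1) := by
  intro n
  induction n with
  | zero =>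
    intro M _ _ h S
    rw [zero_add, ← injective_iff_hasInjectiveDimensionLT_one] at h ⊢
    rw [← Module.injective_iff_injective_object] at h ⊢
    haveI := h
    exact Module.injective_of_isLocalizedModule S (LocalizedModule.mkLinearMap S M)
  | succ n ih =>
    intro M _ _ h S
    let ⟨J, _, f, _⟩ := EnoughInjectives.presentation (ModuleCat.of A M)
    let f' : M →ₗ[A] J := f.hom
    have hf : Function.Injective f' := (ModuleCat.mono_iff_injective f).mp ‹_›
    let g : J →ₗ[A] J ⧸ LinearMap.range f' := Submodule.mkQ _
    have hfg : Function.Exact f' g := LinearMap.exact_map_mkQ_range f'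
    let E : ShortComplex (ModuleCat.{u} A) := ModuleCat.shortComplexOfCompEqZero f' g hfg.linearMap_comp_eq_zero
    have hE := ModuleCat.shortComplex_shortExact E hfg hf (Submodule.mkQ_surjective _)
    let f₁ := LocalizedModule.map S f'
    let g₁ := LocalizedModule.map S g
    have hfg₁ : Function.Exact f₁ g₁ := LocalizedModule.map_exact S f' g hfg
    let E₁ : ShortComplex (ModuleCat.{u} (Localization S)) :=
      ModuleCat.shortComplexOfCompEqZero f₁ g₁ hfg₁.linearMap_comp_eq_zero
    have hE₁ := ModuleCat.shortComplex_shortExact E₁ hfg₁ (LocalizedModule.map_injective S f' hf)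
      (LocalizedModule.map_surjective S g (Submodule.mkQ_surjective _))
    have hJ : Injective (ModuleCat.of A J) := (inferInstance : Injective J)
    haveI : Module.Injective A J := (Module.injective_iff_injective_object A J).2 hJ
    haveI : Module.Injective (Localization S) (LocalizedModule S J) :=
      Module.injective_of_isLocalizedModule S (LocalizedModule.mkLinearMap S J)
    have hJS : Injective (ModuleCat.of (Localization S) (LocalizedModule S J)) :=
      (Module.injective_iff_injective_object _ _).1 inferInstance
    have h2 := (hE.hasInjectiveDimensionLT_X₃_iff n hJ).2 h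
    exact (hE₁.hasInjectiveDimensionLT_X₃_iff n hJS).1 (ih _ h2 S)

/-- Suppose A is a Noetherian ring and consider any A-module M. Taking the supremum, over all prime
ideals p, of the injective dimension of M_p as an A_p-module yields the injective dimension of M;
put differently, for each n, the injective dimension of M is at most n exactly when, for every prime
p, the injective dimension of M_p over A_p is at most n. -/
theorem result (A : Type u) [CommRing A] [IsNoetherianRing A]
    (M : Type u) [AddCommGroup M] [Module A M] (n : ℕ) :
    HasInjectiveDimensionLT (ModuleCat.of A M) (n + 1) ↔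
      ∀ p : PrimeSpectrum A, HasInjectiveDimensionLT
        (ModuleCat.of (Localization.AtPrime p.asIdeal) (LocalizedModule p.asIdeal.primeCompl M)) (n + 1) := by
  refine ⟨fun h p => localized_of A n M h p.asIdeal.primeCompl, fun h => ?_⟩
  refine HomDim.hasInjectiveDimensionLT_of_subsingleton_ext n _ fun I => subsingleton_of_forall_eq 0 fun e => ?_
  let Ann : Ideal A :=
    { carrier := {s | s • e = 0}
      zero_mem' := zero_smul A e
      add_mem' := fun {a b} ha hb => by
        show (a + b) • e = 0
        rw [add_smul, show a • e = 0 from ha, show b • e = 0 from hb, add_zero]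
      smul_mem' := fun c a ha => by
        show (c * a) • e = 0
        rw [mul_smul, show a • e = 0 from ha, smul_zero] }
  have htop : Ann = ⊤ := by
    by_contra hne
    obtain ⟨P, hP, hle⟩ := Ideal.exists_le_maximal Ann hne
    haveI := hP.isPrime
    have h1 := h ⟨P, inferInstance⟩
    haveI : Subsingleton (CategoryTheory.Abelian.Ext.{u}
        (ModuleCat.of (Localization P.primeCompl) (LocalizedModule P.primeCompl (A ⧸ I)))
        (ModuleCat.of (Localization P.primeCompl) (LocalizedModule P.primeCompl M)) (n + 1)) :=
      CategoryTheory.HasInjectiveDimensionLT.subsingleton _ (n + 1) (n + 1) le_rfl _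
    obtain ⟨s, hs⟩ := GrLC21.exists_smul_ext_eq_zero P.primeCompl (A ⧸ I) n M inferInstance e
    exact s.2 (hle hs)
  have h1 : (1 : A) • e = 0 := (htop ▸ Submodule.mem_top : (1 : A) ∈ Ann)
  rwa [one_smul] at h1

end Groth.Agent.S5790
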