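import Groth.Statements.S5791
import Groth.Agent.Lib.RegLoc.PD
import Mathlib.RingTheory.LocalProperties.Projective
import Mathlib.RingTheory.Noetherian.Basic

set_option autoImplicit false
universe u
open CategoryTheory
open EGA41

namespace Groth.Agent.S5791

open CategoryTheory in
theorem key (A : Type u) [CommRing A] [IsNoetherianRing A] : ∀ (n : ℕ) (M : Type u) [AddCommGroup M] [Module A M]
    [Module.Finite A M], (∀ p : PrimeSpectrum A, HasProjectiveDimensionLT
        (ModuleCat.of (Localization.AtPrime p.asIdeal) (LocalizedModule p.asIdeal.primeCompl M)) (n + 1)) →
      Groth.Agent.RegLoc.PD A M n := by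
  intro n
  induction n with
  | zero =>
    intro M _ _ _ h
    haveI : Module.FinitePresentation A M := Module.finitePresentation_of_finite A M
    refine Groth.Agent.RegLoc.pd_zero_iff.2 (Module.projective_of_localization_maximal fun I hI => ?_)
    exact Groth.Agent.RegLoc.pd_zero_iff.1 (h ⟨I, inferInstance⟩)
  | succ n ih =>
    intro M _ _ _ h
    obtain ⟨m, f, hf⟩ := Module.Finite.exists_fin' A M
    haveI : Module.Finite A f.ker := Module.Finite.iff_fg.2 (IsNoetherian.noetherian _)
    rw [Groth.Agent.RegLoc.pd_succ_iff f hf]
    refine ih _ fun p => ?_
    set S := p.asIdeal.primeCompl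
    haveI : Module.Projective (Localization S) (LocalizedModule S (Fin m → A)) :=
      Module.projective_of_isLocalizedModule S (LocalizedModule.mkLinearMap S (Fin m → A))
    have hk := (Groth.Agent.RegLoc.pd_succ_iff _ (LocalizedModule.map_surjective S f hf)).1 (h p)
    refine hk.congr ?_
    have hinj : Function.Injective (LocalizedModule.map S f.ker.subtype) :=
      LocalizedModule.map_injective S _ f.ker.injective_subtype
    have hex : Function.Exact (LocalizedModule.map S f.ker.subtype) (LocalizedModule.map S f) :=
      LocalizedModule.map_exact S f.ker.subtype f (LinearMap.exact_subtype_ker_map f)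
    exact ((LinearEquiv.ofInjective _ hinj).trans (LinearEquiv.ofEq _ _ (LinearMap.exact_iff.1 hex).symm)).symm

/-- Let A be a Noetherian ring and M a finitely generated A-module. The projective dimension of M is the
supremum over the prime ideals p of the projective dimensions of M_p over A_p; equivalently, for
every n, M has projective dimension at most n if and only if every M_p has projective dimension at
most n over A_p. -/
theorem result (A : Type u) [CommRing A] [IsNoetherianRing A]
    (M : Type u) [AddCommGroup M] [Module A M] [Module.Finite A M] (n : ℕ) :
    HasProjectiveDimensionLT (ModuleCat.of A M) (n + 1) ↔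
      ∀ p : PrimeSpectrum A, HasProjectiveDimensionLT
        (ModuleCat.of (Localization.AtPrime p.asIdeal) (LocalizedModule p.asIdeal.primeCompl M)) (n + 1) := by
  exact ⟨fun h p => Groth.Agent.RegLoc.pd_localizedModule _ M h, fun h => key A n M h⟩

end Groth.Agent.S5791
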