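import Groth.Statements.S5801
-- import your own Groth.Agent.* helpers here

set_option autoImplicit false
universe u
open scoped Pointwise
open EGA41

namespace Groth.Agent.S5801

/-- Let A be a ring, M an A-module and f ∈ A, and consider the canonical surjection (M/fM)[T] → gr(M)
for the (f)-adic filtration, whose injectivity says: for all k ≥ 0 and x ∈ M, f^k x ∈ f^(k+1) M
implies x ∈ fM. If f is M-regular this map is bijective; conversely, if it is bijective and M is
separated for the (f)-adic topology (the intersection of the f^k M is zero), then f is M-regular. -/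
theorem result (A : Type u) [CommRing A] (M : Type u)
    [AddCommGroup M] [Module A M] (f : A) :
    (IsSMulRegular M f →
        ∀ (k : ℕ) (x : M), f ^ k • x ∈ f ^ (k + 1) • (⊤ : Submodule A M) → x ∈ f • (⊤ : Submodule A M)) ∧
      ((⨅ k : ℕ, f ^ k • (⊤ : Submodule A M)) = ⊥ →
        (∀ (k : ℕ) (x : M), f ^ k • x ∈ f ^ (k + 1) • (⊤ : Submodule A M) → x ∈ f • (⊤ : Submodule A M)) →
          IsSMulRegular M f) := by
  have key : ∀ {m : M} (k : ℕ), m ∈ f ^ k • (⊤ : Submodule A M) ↔ ∃ y, f ^ k • y = m := fun k => by
    simp [Submodule.mem_smul_pointwise_iff_exists]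
  constructor
  · intro h k x hx
    obtain ⟨y, hy⟩ := (key _).1 hx
    rw [pow_succ, mul_smul] at hy
    have hy' : f • y = x := (h.pow k) hy
    simpa using (key 1).2 ⟨y, by simpa using hy'⟩
  · intro hinf h
    refine (isSMulRegular_iff_right_eq_zero_of_smul (R := A) (M := M) (r := f)).2 fun x hx => ?_
    have hmem : ∀ k, x ∈ f ^ k • (⊤ : Submodule A M) := by
      intro k
      induction k with
      | zero => exact (key 0).2 ⟨x, by simp⟩
      | succ k ih =>
        obtain ⟨z, rfl⟩ := (key k).1 ih
        have h0 : f ^ (k + 1) • z = 0 := by rw [pow_succ', mul_smul]; exact hx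
        have := h (k + 1) z (by rw [h0]; exact zero_mem _)
        rw [← pow_one f] at this
        obtain ⟨w, hw⟩ := (key 1).1 this
        refine (key (k + 1)).2 ⟨w, ?_⟩
        rw [← hw, pow_one, pow_succ, mul_smul]
    have := (Submodule.mem_iInf _).2 hmem
    rw [hinf] at this
    simpa using this

end Groth.Agent.S5801
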