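import Groth.Statements.S5805
import Groth.Agent.Lib.RegLoc.GlobalDim

set_option autoImplicit false
universe u
open CategoryTheory
open EGA41

namespace Groth.Agent.S5805

/-- Let A be a Noetherian local ring with residue field k and n ≥ 0. Then the global dimension of A is
at most n as soon as the projective dimension of the A-module k is at most n: every A-module then
has projective dimension at most n. (The published statement phrases the criterion through the
vanishing of Tor^A_{n+1}(k, k), to which dim.proj_A(k) ≤ n is equivalent for finitely generated
modules over a Noetherian local ring; this row states the projective-dimension form that the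
published proof establishes.) -/
theorem result (A : Type u) [CommRing A] [IsLocalRing A]
    [IsNoetherianRing A] (n : ℕ)
    (hk : HasProjectiveDimensionLT (ModuleCat.of A (IsLocalRing.ResidueField A)) (n + 1)) (M : Type u)
    [AddCommGroup M] [Module A M] : HasProjectiveDimensionLT (ModuleCat.of A M) (n + 1) := by
  have := RegLoc.isRegularLocalRing_of_hasProjectiveDimensionLT hk
  have h1 := RegLoc.spanFinrank_lt_of_hasProjectiveDimensionLT hk
  have h2 := RegLoc.hasProjectiveDimensionLT_of_regular (R := A) rfl (ModuleCat.of A M)
  exact CategoryTheory.hasProjectiveDimensionLT_of_ge _ _ _ (by omega : (IsLocalRing.maximalIdeal A).spanFinrank + 1 ≤ n + 1)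

end Groth.Agent.S5805
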