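import Groth.Statements.S5806
import Groth.Agent.Lib.FlatDepth.Depth

set_option autoImplicit false
universe u
open EGA41

namespace Groth.Agent.S5806

open scoped Pointwise

open TensorProduct in
/-- Let A be a ring, B a commutative A-algebra, (f_i)_{1 ≤ i ≤ n} elements of B and M a B-module.
Suppose (f_i) is M-regular and each of the A-modules M/(f_1 M + ... + f_i M), 0 ≤ i ≤ n, is flat.
Then for every ring homomorphism A → A', writing M' = M ⊗_A A' and f'_i = f_i ⊗ 1, the sequence
(f'_i) is M'-regular and the A'-modules M'/(f'_1 M' + ... + f'_{i-1} M') are flat: concretely,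
identifying M'/(f'_1 M' + ... + f'_{i-1} M') with A' ⊗_A (M/(f_1 M + ... + f_{i-1} M)),
multiplication by f_i on the latter is injective and the latter is A'-flat, for 1 ≤ i ≤ n. (The
published hypothesis lists only the flatness of M/(f_1 M + ... + f_{i-1} M) for 1 ≤ i ≤ n, omitting
M/(f_1 M + ... + f_n M); with that omission the case n = 1, A = B = k[t], M = k[t], f_1 = t, A' =
k[t]/(t) fails, since t acts as zero on k ⊗_A M = k, and the published proof uses the flatness of
M/(f_1 M + ... + f_i M) for every i ≤ n; so flatness of all these quotients is assumed here.) -/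
theorem result (A B : Type u) [CommRing A]
    [CommRing B] [Algebra A B] (M : Type u) [AddCommGroup M] [Module B M] [Module A M] [IsScalarTower A B M]
    (fs : List B) (hreg : RingTheory.Sequence.IsWeaklyRegular M fs)
    (hflat : ∀ i : ℕ, i ≤ fs.length → Module.Flat A (M ⧸ (Ideal.ofList (fs.take i) • (⊤ : Submodule B M))))
    (A' : Type u) [CommRing A'] [Algebra A A'] (i : Fin fs.length) :
    Function.Injective (LinearMap.lTensor A'
        (((LinearMap.lsmul B (M ⧸ (Ideal.ofList (fs.take i) • (⊤ : Submodule B M)))) (fs.get i)).restrictScalars A)) ∧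
      Module.Flat A' (A' ⊗[A] (M ⧸ (Ideal.ofList (fs.take i) • (⊤ : Submodule B M)))) := by
  set Q := M ⧸ (Ideal.ofList (fs.take i) • (⊤ : Submodule B M))
  haveI := hflat i i.isLt.le
  refine ⟨?_, inferInstance⟩
  have hr : IsSMulRegular Q (fs.get i) := hreg.regular_mod_prev i i.isLt
  haveI : Module.Flat A (QuotSMulTop (fs.get i) Q) := by
    haveI := hflat (i + 1) i.isLt
    refine Module.Flat.of_linearEquiv (LinearEquiv.restrictScalars A (?_ : QuotSMulTop (fs.get i) Q ≃ₗ[B]
      M ⧸ (Ideal.ofList (fs.take (i + 1)) • (⊤ : Submodule B M))))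
    refine (Submodule.quotEquivOfEq _ _ (by rw [Submodule.map_pointwise_smul, Submodule.map_top, Submodule.range_mkQ])).trans
      ((Submodule.quotientQuotientEquivQuotientSup _ ((fs.get i) • (⊤ : Submodule B M))).trans
        (Submodule.quotEquivOfEq _ _ ?_))
    rw [List.take_succ_eq_append_getElem i.isLt, Ideal.ofList_append, Ideal.ofList_singleton, Submodule.sup_smul,
      Submodule.ideal_span_singleton_smul]
    rfl
  have h := Groth.Agent.FlatDepth.isSMulRegular_tensor_of_flat_quot (R := A) (S := B) (N := Q) hr A'
  intro a b hab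
  obtain ⟨a, rfl⟩ := (TensorProduct.comm A Q A').surjective a
  obtain ⟨b, rfl⟩ := (TensorProduct.comm A Q A').surjective b
  rw [Groth.Agent.FlatDepth.comm_smul, Groth.Agent.FlatDepth.comm_smul] at hab
  exact congrArg _ (h ((TensorProduct.comm A Q A').injective hab))

end Groth.Agent.S5806
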