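import Groth.Statements.S5807
import Groth.Agent.Lib.RegCpl3.Localization
import Mathlib.RingTheory.RegularLocalRing.Polynomial

set_option autoImplicit false
universe u
open EGA41

namespace Groth.Agent.S5807

/-- Let A be a Noetherian ring which is a quotient of a regular ring B, and C an A-algebra of finite
type. Then every ring of fractions of C is a quotient of a regular ring. -/
theorem result (B A C : Type u) [CommRing B]
    [IsRegularRing B] [CommRing A] (π : B →+* A) (hπ : Function.Surjective π) [CommRing C] [Algebra A C]
    [Algebra.FiniteType A C] (S : Submonoid C) :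
    ∃ (R : Type u) (_ : CommRing R) (_ : IsRegularRing R) (f : R →+* Localization S),
      Function.Surjective f := by
  obtain ⟨n, g, hg⟩ := Algebra.FiniteType.iff_quotient_mvPolynomial''.1 (inferInstance : Algebra.FiniteType A C)
  let f₀ : MvPolynomial (Fin n) B →+* C := g.toRingHom.comp (MvPolynomial.map π)
  have hf₀ : Function.Surjective f₀ := hg.comp (MvPolynomial.map_surjective π hπ)
  let T := S.comap f₀
  haveI : IsRegularRing (Localization T) := RegCpl3.isRegularRing_localization T
  refine ⟨Localization T, inferInstance, inferInstance,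
    IsLocalization.map (T := S) (Localization S) f₀ (le_refl T), ?_⟩
  intro y
  obtain ⟨c, s, rfl⟩ := IsLocalization.exists_mk'_eq S y
  obtain ⟨p, rfl⟩ := hf₀ c
  obtain ⟨t, ht⟩ := hf₀ s
  have htT : t ∈ T := by
    show f₀ t ∈ S
    rw [ht]; exact s.2
  refine ⟨IsLocalization.mk' (Localization T) p ⟨t, htT⟩, ?_⟩
  rw [IsLocalization.map_mk']
  congr 1
  exact Subtype.ext ht

end Groth.Agent.S5807
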