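import Groth.Statements.S5808
import Groth.Agent.Lib.SopIdeal2.Basic

set_option autoImplicit false
universe u
open EGA41

namespace Groth.Agent.S5808

/-- Let A be a semi-local Noetherian ring with spectrum X and Jacobson radical r, and a an ideal of A
distinct from A with codim(V(a), X) = h > 0 (h is the height of a). Then there exist h elements x_1,
..., x_h of a which are part of a system of parameters of A (so lie in r and can be completed by
elements of r to dim(A) elements generating an ideal modulo which A has finite length) and such that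
codim(V(a), V(x_1 A + ... + x_h A)) = 0, i.e. the image of a in A/(x_1 A + ... + x_h A) has height
0. -/
theorem result (A : Type u) [CommRing A] [IsNoetherianRing A]
    [Finite (MaximalSpectrum A)] (a : Ideal A) (ha : a ≠ ⊤) (h : ℕ) (hh : a.height = h) (hpos : 0 < h) :
    ∃ x : Fin h → A, (∀ i, x i ∈ a) ∧ (∀ i, x i ∈ Ring.jacobson A) ∧
      (∃ ys : List A, (∀ y ∈ ys, y ∈ Ring.jacobson A) ∧
        (((h + ys.length : ℕ) : ℕ∞) : WithBot ℕ∞) = ringKrullDim A ∧
        IsFiniteLength A (A ⧸ (Ideal.span (Set.range x) ⊔ Ideal.ofList ys))) ∧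
      (a.map (Ideal.Quotient.mk (Ideal.span (Set.range x)))).height = 0 := by
  classical
  haveI : Nontrivial A := by
    by_contra hn
    rw [not_nontrivial_iff_subsingleton] at hn
    exact ha (Subsingleton.elim _ _)
  obtain ⟨d, hd, hdle⟩ := Groth.Agent.SopIdeal2.exists_dimLE (A := A)
  have hhd : h ≤ d := by
    have h1 := Ideal.height_le_ringKrullDim_of_ne_top ha
    rw [hh, hd] at h1
    exact_mod_cast h1
  obtain ⟨x, hx, hdim, hht⟩ := Groth.Agent.SopIdeal2.exists_sequence a h d hh.ge hdle hhd h le_rfl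
  obtain ⟨y, hy, hyP⟩ := Groth.Agent.HilbSam.exists_parameters (Ring.jacobson A)
    Groth.Agent.HilbSam.jacobson_le_prime (d - h) _ hdim
  refine ⟨x, fun i => (hx i).1, fun i => (hx i).2, ⟨List.ofFn y, ?_, ?_, ?_⟩, ?_⟩
  · intro z hz
    obtain ⟨i, rfl⟩ := List.mem_ofFn.1 hz
    exact hy i
  · rw [List.length_ofFn, Nat.add_sub_cancel' hhd, hd]
    rfl
  · refine Groth.Agent.HilbSam.isFiniteLength_of_support fun P hP => ?_
    rw [Module.support_eq_zeroLocus, Ideal.annihilator_quotient] at hP
    exact hyP P (le_sup_left.trans hP) fun i =>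
      hP (Ideal.mem_sup_right (Ideal.subset_span (List.mem_ofFn.2 ⟨i, rfl⟩)))
  · obtain ⟨P, hP, hPh⟩ : ∃ P ∈ a.minimalPrimes, P.height = (h : ℕ∞) := by
      obtain ⟨P, hPp, haP, hPh⟩ := Ideal.exists_isPrime_height_eq hh
      obtain ⟨P', hP', hle⟩ := Ideal.exists_minimalPrimes_le haP
      refine ⟨P', hP', le_antisymm ((Ideal.height_mono hle).trans hPh.le) ?_⟩
      rw [← hh]
      exact Ideal.height_mono hP'.1.2
    haveI := hP.1.1
    have hIP : Ideal.span (Set.range x) ≤ P := Ideal.span_le.2 (by
      rintro _ ⟨i, rfl⟩; exact hP.1.2 (hx i).1)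
    haveI : P.FiniteHeight := ⟨Or.inr (by rw [hPh]; exact ENat.natCast_ne_top _)⟩
    have hmin : P ∈ (Ideal.span (Set.range x)).minimalPrimes := ⟨⟨hP.1.1, hIP⟩, fun Q hQ hQP => by
      haveI := hQ.1
      by_contra hne
      have hlt : Q < P := lt_of_le_not_ge hQP hne
      rcases hht Q hQ.1 hQ.2 with h1 | h1
      · exact hP.1.1.ne_top (h1.1.1.2 P hlt)
      · have h2 := Ideal.height_add_one_le_of_lt_of_isPrime hlt
        rw [hPh] at h2
        have h3 := (add_le_add_left h1 1).trans h2
        have : h + 1 ≤ h := by exact_mod_cast h3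
        omega⟩
    refine le_antisymm ?_ bot_le
    have hker : RingHom.ker (Ideal.Quotient.mk (Ideal.span (Set.range x))) ≤ P := by rwa [Ideal.mk_ker]
    haveI : (P.map (Ideal.Quotient.mk (Ideal.span (Set.range x)))).IsPrime :=
      Ideal.map_isPrime_of_surjective Ideal.Quotient.mk_surjective hker
    refine (Ideal.height_mono (Ideal.map_mono hP.1.2)).trans (le_of_eq ?_)
    rw [Ideal.height_eq_zero_iff]
    refine ⟨⟨inferInstance, bot_le⟩, fun Q hQ hQP => ?_⟩
    have h1 : Q.comap (Ideal.Quotient.mk (Ideal.span (Set.range x))) ≤ P := by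
      refine (Ideal.comap_mono hQP).trans ?_
      rw [Ideal.comap_map_of_surjective _ Ideal.Quotient.mk_surjective, ← RingHom.ker_eq_comap_bot]
      exact sup_le le_rfl hker
    haveI := hQ.1
    have h2 : P ≤ Q.comap (Ideal.Quotient.mk (Ideal.span (Set.range x))) :=
      hmin.2 ⟨inferInstance, fun z hz => by
        rw [Ideal.mem_comap, Ideal.Quotient.eq_zero_iff_mem.2 hz]
        exact zero_mem _⟩ h1
    exact Ideal.map_le_iff_le_comap.2 h2

end Groth.Agent.S5808
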