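import Groth.Statements.S5811
import Groth.Agent.S3405
import Groth.Agent.Lib.Compl.Noetherian
import Mathlib.RingTheory.AdicCompletion.AsTensorProduct
import Mathlib.RingTheory.AdicCompletion.Completeness
import Mathlib.RingTheory.Regular.RegularSequence

set_option autoImplicit false
universe u
open EGA41

namespace Groth.Agent.S5811

theorem map_smul_top {A B : Type u} [CommRing A] [CommRing B] [Algebra A B] {N : Type u} [AddCommGroup N]
    [Module A N] [Module B N] [IsScalarTower A B N] (I : Ideal A) :
    (I.map (algebraMap A B) • (⊤ : Submodule B N)).restrictScalars A = I • ⊤ := by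
  refine le_antisymm (fun x hx => ?_) (Submodule.smul_le.2 fun a ha n _ => ?_)
  · rw [Submodule.restrictScalars_mem] at hx
    refine Submodule.smul_induction_on hx (fun r hr n _ => ?_) fun x y hx hy => add_mem hx hy
    induction hr using Submodule.span_induction generalizing n with
    | mem r hr =>
      obtain ⟨a, ha, rfl⟩ := hr
      rw [algebraMap_smul]
      exact Submodule.smul_mem_smul ha Submodule.mem_top
    | zero => simp
    | add r r' _ _ h1 h2 => rw [add_smul]; exact add_mem (h1 n trivial) (h2 n trivial)
    | smul c r _ h1 => rw [smul_eq_mul, mul_comm, mul_smul]; exact h1 _ trivial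
  · rw [Submodule.restrictScalars_mem, ← algebraMap_smul B a n]
    exact Submodule.smul_mem_smul (Ideal.mem_map_of_mem _ ha) Submodule.mem_top

theorem length_eq_of_approx {A B : Type u} [CommRing A] [CommRing B] [Algebra A B] {N : Type u} [AddCommGroup N]
    [Module A N] [Module B N] [IsScalarTower A B N]
    (h : ∀ (b : B) (n : N), ∃ a : A, b • n = a • n) : Module.length A N = Module.length B N := by
  let e : Submodule B N ≃o Submodule A N := RelIso.ofSurjective (Submodule.restrictScalarsEmbedding A B N)
    fun S => ⟨{ S.toAddSubmonoid with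
      smul_mem' := fun b n hn => by
        obtain ⟨a, ha⟩ := h b n
        rw [ha]
        exact S.smul_mem a hn }, rfl⟩
  apply WithBot.coe_injective
  rw [Module.coe_length, Module.coe_length, Order.krullDim_eq_of_orderIso e]

/-- Let A be a semi-local Noetherian ring (finitely many maximal ideals) with Jacobson radical r, M a
finitely generated A-module, and write Â and M̂ for the r-adic completions of A and M. Then
dim_Â(M̂) = dim_A(M), the dimension of a module being the Krull dimension of its support. (For M = 0
both sides are ⊥.) -/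
theorem result (A : Type u) [CommRing A] [IsNoetherianRing A]
    [Finite (MaximalSpectrum A)] (M : Type u) [AddCommGroup M] [Module A M] [Module.Finite A M] :
    Module.supportDim (AdicCompletion (Ring.jacobson A) A) (AdicCompletion (Ring.jacobson A) M) =
      Module.supportDim A M := by
  classical
  let r := Ring.jacobson A
  let B := AdicCompletion r A
  have hfg : r.FG := IsNoetherian.noetherian _
  rcases subsingleton_or_nontrivial M with hM | hM
  · have : Subsingleton (AdicCompletion r M) :=
      ⟨fun x y => AdicCompletion.ext fun n => @Subsingleton.elim _ (Submodule.Quotient.mk_surjective _).subsingleton _ _⟩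
    rw [Module.supportDim_eq_bot_of_subsingleton, Module.supportDim_eq_bot_of_subsingleton]
  have : IsNoetherianRing B := Groth.Agent.Compl.isNoetherianRing_adicCompletion r hfg
  have : Module.Finite B (AdicCompletion r M) :=
    Module.Finite.equiv (AdicCompletion.ofTensorProductEquivOfFiniteNoetherian r M)
  have hker : RingHom.ker (AdicCompletion.evalOneₐ r) = r.map (algebraMap A B) :=
    AdicCompletion.ker_evalOneₐ_eq_map r hfg
  have hle : r.map (algebraMap A B) ≤ Ring.jacobson B := by
    have := AdicCompletion.isAdicComplete_self r hfg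
    rw [← Ideal.jacobson_bot]
    exact IsAdicComplete.le_jacobson_bot (r.map (algebraMap A B))
  have hjac : Ring.jacobson B = r.map (algebraMap A B) := by
    refine le_antisymm (fun x hx => ?_) hle
    rw [← hker, RingHom.mem_ker]
    obtain ⟨a, ha⟩ := Ideal.Quotient.mk_surjective (AdicCompletion.evalOneₐ r x)
    rw [← ha, Ideal.Quotient.eq_zero_iff_mem]
    change a ∈ Ring.jacobson A
    rw [Ring.jacobson_eq_sInf_isMaximal] at hx ⊢
    refine Submodule.mem_sInf.2 fun m hm => ?_
    have hm' : (Ideal.map (Ideal.Quotient.mk r) m).IsMaximal := by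
      refine (Ideal.map_eq_top_or_isMaximal_of_surjective _ Ideal.Quotient.mk_surjective hm).resolve_left fun h => ?_
      have := congrArg (Ideal.comap (Ideal.Quotient.mk r)) h
      rw [Ideal.comap_map_of_surjective _ Ideal.Quotient.mk_surjective, ← RingHom.ker_eq_comap_bot, Ideal.mk_ker,
        Ideal.comap_top, sup_eq_left.2 (show r ≤ m by
          change Ring.jacobson A ≤ m
          rw [Ring.jacobson_eq_sInf_isMaximal]; exact sInf_le hm)] at this
      exact hm.ne_top this
    have h1 : AdicCompletion.evalOneₐ r x ∈ Ideal.map (Ideal.Quotient.mk r) m :=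
      Submodule.mem_sInf.1 hx (Ideal.comap (AdicCompletion.evalOneₐ r) (Ideal.map (Ideal.Quotient.mk r) m))
        (Ideal.comap_isMaximal_of_surjective _ (AdicCompletion.evalOneₐ_surjective r))
    rw [← ha, ← Ideal.mem_comap, Ideal.comap_map_of_surjective _ Ideal.Quotient.mk_surjective,
      ← RingHom.ker_eq_comap_bot, Ideal.mk_ker, sup_eq_left.2 (show r ≤ m by
          change Ring.jacobson A ≤ m
          rw [Ring.jacobson_eq_sInf_isMaximal]; exact sInf_le hm)] at h1
    exact h1
  have hlen : ∀ n, Module.length B (AdicCompletion r M ⧸ Ring.jacobson B ^ n • (⊤ : Submodule B (AdicCompletion r M)))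
      = Module.length A (M ⧸ r ^ n • (⊤ : Submodule A M)) := fun n => by
    rw [hjac, ← Ideal.map_pow]
    let K : Submodule B (AdicCompletion r M) := (r ^ n).map (algebraMap A B) • ⊤
    have hK : K.restrictScalars A = LinearMap.ker (AdicCompletion.eval r M n) := by
      rw [map_smul_top, AdicCompletion.pow_smul_top_eq_ker_eval hfg]
    rw [← ((Submodule.Quotient.restrictScalarsEquiv A K).symm.trans ((Submodule.quotEquivOfEq _ _ hK).trans
      ((AdicCompletion.eval r M n).quotKerEquivOfSurjective (AdicCompletion.eval_surjective r M n)))).length_eq]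
    refine (length_eq_of_approx fun b q => ?_).symm
    obtain ⟨q, rfl⟩ := Submodule.mkQ_surjective _ q
    obtain ⟨a, ha⟩ : ∃ a : A, b - algebraMap A B a ∈ (r ^ n).map (algebraMap A B) := by
      obtain ⟨a, ha⟩ := Submodule.mkQ_surjective _ (AdicCompletion.eval r A n b)
      refine ⟨a, ?_⟩
      have h1 : b - algebraMap A B a ∈ LinearMap.ker (AdicCompletion.eval r A n) := by
        rw [LinearMap.mem_ker, map_sub, sub_eq_zero, ← ha]
        rfl
      rw [← AdicCompletion.pow_smul_top_eq_ker_eval hfg, ← map_smul_top (B := B) (N := B), Submodule.restrictScalars_mem,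
        smul_eq_mul, Ideal.mul_top] at h1
      exact h1
    refine ⟨a, ?_⟩
    rw [← algebraMap_smul B a (Submodule.mkQ K q), ← sub_eq_zero, ← sub_smul, ← map_smul, Submodule.mkQ_apply,
      Submodule.Quotient.mk_eq_zero]
    exact Submodule.smul_mem_smul ha Submodule.mem_top
  have : Finite (MaximalSpectrum B) := by
    refine Finite.of_injective (β := MaximalSpectrum A) (fun P => ⟨P.asIdeal.comap (algebraMap A B), ?_⟩) ?_
    · have hP : r.map (algebraMap A B) ≤ P.asIdeal := by
        rw [← hjac, Ring.jacobson_eq_sInf_isMaximal]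
        exact sInf_le P.isMaximal
      refine Groth.Agent.HilbSam.jacobson_le_prime _ (P.isMaximal.isPrime.comap _) ?_
      exact Ideal.map_le_iff_le_comap.1 hP
    · intro P Q h
      have h' : P.asIdeal.comap (algebraMap A B) = Q.asIdeal.comap (algebraMap A B) :=
        congrArg MaximalSpectrum.asIdeal h
      have hP : r.map (algebraMap A B) ≤ P.asIdeal := by
        rw [← hjac, Ring.jacobson_eq_sInf_isMaximal]; exact sInf_le P.isMaximal
      have hQ : r.map (algebraMap A B) ≤ Q.asIdeal := by
        rw [← hjac, Ring.jacobson_eq_sInf_isMaximal]; exact sInf_le Q.isMaximal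
      refine MaximalSpectrum.ext (P.isMaximal.eq_of_le Q.isMaximal.ne_top fun x hx => ?_)
      obtain ⟨a, ha⟩ := Ideal.Quotient.mk_surjective (AdicCompletion.evalOneₐ r x)
      have hxa : x - algebraMap A B a ∈ r.map (algebraMap A B) := by
        rw [← hker, RingHom.mem_ker, map_sub, sub_eq_zero, ← ha, AlgHom.commutes]
        rfl
      have : a ∈ Q.asIdeal.comap (algebraMap A B) := by
        rw [← h', Ideal.mem_comap]
        simpa using P.asIdeal.sub_mem hx (hP hxa)
      simpa using Q.asIdeal.add_mem (hQ hxa) (Ideal.mem_comap.1 this)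
  have : Nontrivial (AdicCompletion r M) := by
    by_contra h
    rw [not_nontrivial_iff_subsingleton] at h
    have := (AdicCompletion.eval_surjective r M 1).subsingleton
    rw [pow_one, Submodule.Quotient.subsingleton_iff] at this
    exact Submodule.top_ne_ideal_smul_of_le_jacobson_annihilator (M := M)
      (show r ≤ (Module.annihilator A M).jacobson by
        rw [Ideal.jacobson]
        change Ring.jacobson A ≤ _
        rw [← Ideal.jacobson_bot]
        exact Ideal.jacobson_mono bot_le) this.symm
  obtain ⟨P, ⟨N, hP⟩, hPd⟩ := Groth.Agent.S3405.result A M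
  obtain ⟨Q, ⟨N', hQ⟩, hQd⟩ := Groth.Agent.S3405.result B (AdicCompletion r M)
  rw [← hQd, ← hPd, Polynomial.eq_of_infinite_eval_eq P Q]
  refine Set.Infinite.mono ?_ ((Set.Ici_infinite (max N N')).image (f := (Nat.cast : ℕ → ℚ)) Nat.cast_injective.injOn)
  rintro _ ⟨n, hn, rfl⟩
  obtain ⟨ℓ, h1, h2⟩ := hP n (le_of_max_le_left hn)
  obtain ⟨ℓ', h1', h2'⟩ := hQ n (le_of_max_le_right hn)
  rw [hlen, h1, Nat.cast_inj] at h1'
  rw [Set.mem_ofPred_eq, ← h2, ← h2', h1']

end Groth.Agent.S5811
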