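import Groth.Statements.S5812
-- import your own Groth.Agent.* helpers here

set_option autoImplicit false
universe u v w w'
open EGA41

namespace Groth.Agent.S5812

/-- Commutative rings. For A-algebra maps f : E → B and g : F → B, the fibre product G = E ×_B F (the
equalizer of f ∘ pr₁ and g ∘ pr₂ in E × F) is a trivial augmented algebra over F, i.e. the second
projection G → F has an A-algebra section, if and only if g lifts along f: there is an A-algebra map
u : F → E with f ∘ u = g. (The published statement assumes f surjective; the equivalence holds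
without it.) -/
theorem result {A : Type u} {B : Type v} {E : Type w} {F : Type w'}
    [CommRing A] [CommRing B] [CommRing E] [CommRing F] [Algebra A B] [Algebra A E] [Algebra A F]
    (f : E →ₐ[A] B) (g : F →ₐ[A] B) :
    (∃ s : F →ₐ[A] ↥(AlgHom.equalizer (f.comp (AlgHom.fst A E F)) (g.comp (AlgHom.snd A E F))),
        ∀ y : F, (s y : E × F).2 = y) ↔
      ∃ u : F →ₐ[A] E, ∀ y : F, f (u y) = g y := by
  constructor
  · rintro ⟨s, hs⟩
    refine ⟨(AlgHom.fst A E F).comp ((Subalgebra.val _).comp s), fun y => ?_⟩
    have h : f (s y : E × F).1 = g (s y : E × F).2 := (s y).2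
    simpa [hs y] using h
  · rintro ⟨u, hu⟩
    exact ⟨(u.prod (AlgHom.id A F)).codRestrict _ (fun y => hu y), fun y => rfl⟩

end Groth.Agent.S5812
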