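import Groth.Statements.S5813
import Groth.Agent.Lib.Exal.Basic
import Mathlib.Tactic.LinearCombination

set_option autoImplicit false
universe u
open EGA41

namespace Groth.Agent.S5813

/-- Injectivity, commutative form. Let J be an ideal of the commutative ring B, C = B ⧸ J, M a C-module.
Two B-extensions of C by M whose induced linear maps J/J² → M (obtained from the restriction to J of
the structure map B → E) coincide are equivalent. -/
theorem result {B : Type u} [CommRing B] (J : Ideal B)
    {M : Type u} [AddCommGroup M] [Module (B ⧸ J) M] [Module B M] [IsScalarTower B (B ⧸ J) M]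
    (X Y : Exal.Ext B (B ⧸ J) M) (h : X.conormalMap J = Y.conormalMap J) :
    Nonempty (X.Equiv Y) := by
  classical
  have hsurj : Function.Surjective (Ideal.Quotient.mk J) := Ideal.Quotient.mk_surjective
  let σ := Function.surjInv hsurj
  have hσ : ∀ c, Ideal.Quotient.mk J (σ c) = c := Function.surjInv_eq hsurj
  have hp : ∀ (Z : Exal.Ext B (B ⧸ J) M) (b : B), Z.proj (algebraMap B Z.E b) = Ideal.Quotient.mk J b :=
    fun Z b => Z.proj.commutes b
  have hd : ∀ x, X.proj (x - algebraMap B X.E (σ (X.proj x))) = 0 := fun x => by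
    rw [map_sub, hp, hσ, sub_self]
  have hJ : ∀ (Z : Exal.Ext B (B ⧸ J) M) (j : J),
      algebraMap B Z.E j = Z.incl (Z.conormalMap J (J.toCotangent j)) := fun Z j => (Z.incl_kerLift _ (Z.proj_algebraMap_eq_zero J j)).symm
  let φ : X.E → Y.E := fun x => algebraMap B Y.E (σ (X.proj x)) + Y.incl (X.kerLift _ (hd x))
  have hφ : ∀ (b : B) (m : M), φ (algebraMap B X.E b + X.incl m) = algebraMap B Y.E b + Y.incl m := by
    intro b m
    have hx : X.proj (algebraMap B X.E b + X.incl m) = Ideal.Quotient.mk J b := by
      rw [map_add, hp, Exal3L.proj_incl, add_zero]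
    set c := σ (X.proj (algebraMap B X.E b + X.incl m)) with hc
    let j : J := ⟨b - c, Ideal.Quotient.eq.1 (by rw [hc, hσ, hx])⟩
    have h1 : algebraMap B X.E b + X.incl m - algebraMap B X.E c =
        X.incl (X.conormalMap J (J.toCotangent j) + m) := by
      rw [map_add, ← hJ, map_sub]; abel
    have h2 : X.kerLift _ (hd (algebraMap B X.E b + X.incl m)) = X.conormalMap J (J.toCotangent j) + m :=
      X.isExtension.incl_injective (by rw [X.incl_kerLift, h1])
    change algebraMap B Y.E c + Y.incl _ = _
    rw [h2, h, map_add, ← hJ, map_sub]; abel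
  have hdec : ∀ x : X.E, ∃ b m, x = algebraMap B X.E b + X.incl m := fun x =>
    ⟨σ (X.proj x), X.kerLift _ (hd x), by rw [X.incl_kerLift]; abel⟩
  let φ' : X.E →ₐ[B] Y.E :=
    { toFun := φ
      map_one' := by simpa using hφ 1 0
      map_mul' := fun x y => by
        obtain ⟨b, m, rfl⟩ := hdec x
        obtain ⟨b', m', rfl⟩ := hdec y
        have e : ∀ Z : Exal.Ext B (B ⧸ J) M, (algebraMap B Z.E b + Z.incl m) * (algebraMap B Z.E b' + Z.incl m') =
            algebraMap B Z.E (b * b') + Z.incl (Ideal.Quotient.mk J b • m' + Ideal.Quotient.mk J b' • m) := by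
          intro Z
          rw [← hp Z b, ← hp Z b', map_add, ← Z.isExtension.mul_incl, ← Z.isExtension.mul_incl, map_mul]
          linear_combination Exal3L.incl_mul_incl Z m m'
        rw [e, hφ, hφ, hφ, e]
      map_zero' := by simpa using hφ 0 0
      map_add' := fun x y => by
        obtain ⟨b, m, rfl⟩ := hdec x
        obtain ⟨b', m', rfl⟩ := hdec y
        rw [show algebraMap B X.E b + X.incl m + (algebraMap B X.E b' + X.incl m') =
          algebraMap B X.E (b + b') + X.incl (m + m') by rw [map_add, map_add]; abel, hφ, hφ, hφ,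
          map_add, map_add]
        abel
      commutes' := fun b => by simpa using hφ b 0 }
  obtain ⟨e, -⟩ := Exal3L.nonempty_equiv_of_hom φ'
    (fun x => by
      obtain ⟨b, m, rfl⟩ := hdec x
      change Y.proj (φ _) = _
      rw [hφ, map_add, map_add, hp, hp, Exal3L.proj_incl, Exal3L.proj_incl])
    (fun z => by change φ (X.incl z) = _; simpa using hφ 0 z)
  exact ⟨e⟩

end Groth.Agent.S5813
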