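import Groth.Statements.S5814
import Groth.Agent.Lib.Exal.Basic

set_option autoImplicit false
universe u
open EGA41

namespace Groth.Agent.S5814

/-- Surjectivity, commutative form. Let J be an ideal of the commutative ring B, C = B ⧸ J, M a
C-module. Every linear map w : J/J² → M arises from a B-extension of C by M: there is an extension
whose induced map J/J² → M is w. Together with the injectivity statement this is the canonical
bijection between Hom_C(J/J², M) and the classes of B-extensions of C by M. -/
theorem result {B : Type u} [CommRing B] (J : Ideal B)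
    {M : Type u} [AddCommGroup M] [Module (B ⧸ J) M] [Module B M] [IsScalarTower B (B ⧸ J) M]
    (w : J.Cotangent →ₗ[B] M) :
    ∃ X : Exal.Ext B (B ⧸ J) M, X.conormalMap J = w := by
  letI := Exal.opModule B M
  haveI := Exal.isCentralScalar_opModule B M
  have hkill : ∀ (j : B) (m : M), j ∈ J → j • m = 0 := fun j m hj => by
    rw [← IsScalarTower.algebraMap_smul (B ⧸ J) j m, Ideal.Quotient.algebraMap_eq,
      Ideal.Quotient.eq_zero_iff_mem.2 hj, zero_smul]
  let I : Ideal (TrivSqZeroExt B M) :=
    { carrier := {x | ∃ j : J, x.fst = j ∧ x.snd = -w (J.toCotangent j)}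
      zero_mem' := ⟨0, by simp, by simp⟩
      add_mem' := fun {a b} ⟨j, h1, h2⟩ ⟨j', h3, h4⟩ => ⟨j + j', by simp [h1, h3], by
        rw [TrivSqZeroExt.snd_add, h2, h4, map_add, map_add, neg_add]⟩
      smul_mem' := fun c a ⟨j, h1, h2⟩ => ⟨c.fst • j, by simp [h1], by
        rw [smul_eq_mul, TrivSqZeroExt.snd_mul, op_smul_eq_smul, h1, h2, hkill _ _ j.2, add_zero, map_smul,
          map_smul, smul_neg]⟩ }
  have hI : ∀ x, x ∈ I ↔ ∃ j : J, x.fst = j ∧ x.snd = -w (J.toCotangent j) := fun x => Iff.rfl
  let p : (TrivSqZeroExt B M ⧸ I) →ₐ[B] B ⧸ J :=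
    Ideal.Quotient.liftₐ I ((Ideal.Quotient.mkₐ B J).comp (TrivSqZeroExt.fstHom B B M)) (fun x hx => by
      obtain ⟨j, h1, -⟩ := (hI x).1 hx
      change Ideal.Quotient.mk J x.fst = 0
      rw [Ideal.Quotient.eq_zero_iff_mem, h1]
      exact j.2)
  let X : Exal.Ext B (B ⧸ J) M :=
    { E := TrivSqZeroExt B M ⧸ I
      proj := p
      incl := (Ideal.Quotient.mk I).toAddMonoidHom.comp (TrivSqZeroExt.inrHom B M).toAddMonoidHom
      isExtension :=
        { proj_surjective := fun c => by
            obtain ⟨b, rfl⟩ := Ideal.Quotient.mk_surjective c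
            exact ⟨Ideal.Quotient.mk I (TrivSqZeroExt.inl b), rfl⟩
          incl_injective := fun m m' h => by
            obtain ⟨j, h1, h2⟩ := (hI _).1 (Ideal.Quotient.eq.1 h)
            have : j = 0 := Subtype.ext (by simpa using h1.symm)
            simpa [this, sub_eq_zero] using h2
          exact := fun x => by
            obtain ⟨x, rfl⟩ := Ideal.Quotient.mk_surjective x
            change Ideal.Quotient.mk J x.fst = 0 ↔ _
            rw [Ideal.Quotient.eq_zero_iff_mem]
            constructor
            · intro hx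
              refine ⟨x.snd + w (J.toCotangent ⟨x.fst, hx⟩), Ideal.Quotient.eq.2 ((hI _).2 ⟨-⟨x.fst, hx⟩, ?_, ?_⟩)⟩
              · simp
              · simp
            · rintro ⟨m, hm⟩
              obtain ⟨j, h1, -⟩ := (hI _).1 (Ideal.Quotient.eq.1 hm)
              have h1' : x.fst = -(j : B) := by simpa [neg_eq_iff_eq_neg] using h1
              rw [h1']
              exact J.neg_mem j.2
          mul_incl := fun x m => by
            obtain ⟨x, rfl⟩ := Ideal.Quotient.mk_surjective x
            change Ideal.Quotient.mk I x * Ideal.Quotient.mk I (TrivSqZeroExt.inr m) =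
              Ideal.Quotient.mk I (TrivSqZeroExt.inr (Ideal.Quotient.mk J x.fst • m))
            rw [← map_mul]
            congr 1
            refine TrivSqZeroExt.ext (by simp) ?_
            rw [TrivSqZeroExt.snd_mul, op_smul_eq_smul, TrivSqZeroExt.snd_inr, TrivSqZeroExt.fst_inr, zero_smul,
              add_zero, TrivSqZeroExt.snd_inr, ← Ideal.Quotient.algebraMap_eq, IsScalarTower.algebraMap_smul] } }
  refine ⟨X, LinearMap.ext fun z => ?_⟩
  obtain ⟨j, rfl⟩ := J.toCotangent_surjective z
  refine X.isExtension.incl_injective ((X.incl_kerLift _ (X.proj_algebraMap_eq_zero J j)).trans ?_)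
  change Ideal.Quotient.mk I (TrivSqZeroExt.inl (j : B)) = Ideal.Quotient.mk I (TrivSqZeroExt.inr (w (J.toCotangent j)))
  exact Ideal.Quotient.eq.2 ((hI _).2 ⟨j, by simp, by simp⟩)

end Groth.Agent.S5814
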