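import Groth.Statements.S5815
import Groth.Agent.Lib.Exal.Basic

set_option autoImplicit false
universe u
open EGA41

namespace Groth.Agent.S5815

/-- Discrete case. A commutative A-algebra B is formally smooth if and only if every A-extension of B by
a B-module L is trivial (has an A-algebra section). A and B are taken in one universe and L ranges
over that universe. (The published statement is for topological rings, with direct-limit classes of
extensions; this row is its discrete case.) -/
theorem result (A B : Type u) [CommRing A] [CommRing B] [Algebra A B] :
    Algebra.FormallySmooth A B ↔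
      ∀ (L : Type u) [AddCommGroup L] [Module B L] (X : Exal.Ext A B L), X.IsTrivial := by
  constructor
  · intro h L _ _ X
    have hnil : IsNilpotent (RingHom.ker X.proj) := by
      refine ⟨2, ?_⟩
      rw [pow_two, Ideal.zero_eq_bot, eq_bot_iff, Ideal.mul_le]
      intro x hx y hy
      obtain ⟨a, rfl⟩ := (X.isExtension.exact x).1 hx
      obtain ⟨b, rfl⟩ := (X.isExtension.exact y).1 hy
      exact Exal3L.incl_mul_incl X a b
    exact ⟨Algebra.FormallySmooth.liftOfSurjective (AlgHom.id A B) X.proj X.isExtension.proj_surjective hnil,
      fun b => Algebra.FormallySmooth.liftOfSurjective_apply _ _ _ hnil b⟩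
  · intro h
    refine Algebra.FormallySmooth.iff_comp_surjective.2 fun C _ _ I hI f => ?_
    obtain ⟨L, _, _, X, g, hg, -⟩ := Exal3L.exists_ext_of_square_zero I hI f
    obtain ⟨s, hs⟩ := h L X
    exact ⟨g.comp s, AlgHom.ext fun b => (hg (s b)).trans (by rw [hs])⟩

end Groth.Agent.S5815
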