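import Groth.Statements.S5816
import Groth.Agent.Lib.Exal.Basic

set_option autoImplicit false
universe u
open EGA41

namespace Groth.Agent.S5816

/-- Discrete case. For ring maps Λ → A → B, B is formally smooth over A relative to Λ (square-zero test
ideals) if and only if every A-extension of B by a B-module L which is Λ-trivial is A-trivial. Λ, A,
B are taken in one universe and L ranges over it. (The published statement is for topological rings;
this row is its discrete case.) -/
theorem result (Λ A B : Type u) [CommRing Λ]
    [CommRing A] [CommRing B] [Algebra Λ A] [Algebra Λ B] [Algebra A B] [IsScalarTower Λ A B] :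
    EGA41.IsFormallySmoothRel Λ A B ↔
      ∀ (L : Type u) [AddCommGroup L] [Module B L] (X : Exal.Ext A B L),
        X.IsTrivialOver Λ → X.IsTrivial := by
  constructor
  · intro h L _ _ X hX
    obtain ⟨t, ht⟩ := hX
    letI : Algebra Λ X.E := ((algebraMap A X.E).comp (algebraMap Λ A)).toAlgebra
    haveI : IsScalarTower Λ A X.E := IsScalarTower.of_algebraMap_eq fun _ => rfl
    have hJ : RingHom.ker X.proj ^ 2 = ⊥ := by
      rw [pow_two, eq_bot_iff, Ideal.mul_le]
      intro x hx y hy
      obtain ⟨a, rfl⟩ := (X.isExtension.exact x).1 hx
      obtain ⟨b, rfl⟩ := (X.isExtension.exact y).1 hy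
      exact Exal3L.incl_mul_incl X a b
    let e := Ideal.quotientKerAlgEquivOfSurjective (R₁ := A) (f := X.proj) X.isExtension.proj_surjective
    have he : ∀ x, e (Ideal.Quotient.mk _ x) = X.proj x := fun x => rfl
    let t' : B →ₐ[Λ] X.E :=
      { toFun := fun b => t b
        map_one' := map_one t
        map_mul' := map_mul t
        map_zero' := map_zero t
        map_add' := map_add t
        commutes' := t.commutes }
    obtain ⟨v, hv⟩ := h X.E (RingHom.ker X.proj) hJ e.symm.toAlgHom ⟨t', AlgHom.ext fun b => by
      apply e.injective
      change e (Ideal.Quotient.mk _ (t b : X.E)) = e (e.symm b)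
      rw [AlgEquiv.apply_symm_apply]
      exact ht b⟩
    refine ⟨v, fun b => ?_⟩
    have := congr(e ($hv b))
    simpa [he] using this
  · intro h C _ _ _ _ J hJ u₀ hu
    obtain ⟨u, hu⟩ := hu
    obtain ⟨L, _, _, X, g, hg, huniq⟩ := Exal3L.exists_ext_of_square_zero J hJ u₀
    choose s hs hs' using fun b => huniq (u b) b congr($hu b)
    have heq : ∀ x b, g x = u b → X.proj x = b → x = s b := fun x b h1 h2 => hs' b x ⟨h1, h2⟩
    have htriv : X.IsTrivialOver Λ := by
      refine ⟨{ toFun := s
                map_one' := (heq 1 1 (by simp) (by simp)).symm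
                map_mul' := fun a b => (heq (s a * s b) (a * b) (by simp [(hs a).1, (hs b).1]) (by simp [(hs a).2, (hs b).2])).symm
                map_zero' := (heq 0 0 (by simp) (by simp)).symm
                map_add' := fun a b => (heq (s a + s b) (a + b) (by simp [(hs a).1, (hs b).1]) (by simp [(hs a).2, (hs b).2])).symm
                commutes' := fun l => (heq (algebraMap A X.E (algebraMap Λ A l)) _ ?_ ?_).symm },
              fun b => (hs b).2⟩
      · rw [AlgHom.commutes, AlgHom.commutes, ← IsScalarTower.algebraMap_apply]
      · rw [AlgHom.commutes, ← IsScalarTower.algebraMap_apply]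
    obtain ⟨v, hv⟩ := h L X htriv
    exact ⟨g.comp v, AlgHom.ext fun b => (hg (v b)).trans (by rw [hv])⟩

end Groth.Agent.S5816
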