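import Groth.Statements.S5817
import Groth.Agent.Lib.Exal.Basic

set_option autoImplicit false
universe u v
open EGA41

namespace Groth.Agent.S5817

/-- Commutative rings, exactness at Der_A(B, L). For ring maps A → B → C and a C-module L, the
B-extension of C by L attached to an A-derivation D : B → L (middle ring C ⊕ L, made a B-algebra
through x ↦ (x, D x)) is trivial if and only if D is the composite of B → C with an A-derivation C →
L. -/
theorem result {A : Type u} {B C L : Type v} [CommRing A] [CommRing B] [CommRing C]
    [Algebra A B] [Algebra B C] [Algebra A C] [IsScalarTower A B C]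
    [AddCommGroup L] [Module C L] [Module B L] [IsScalarTower B C L] [Module A L] [IsScalarTower A B L]
    [IsScalarTower A C L]
    (D : Derivation A B L) :
    (Exal.Ext.ofDerivation (C := C) D).IsTrivial ↔
      ∃ D' : Derivation A C L, D'.compAlgebraMap B = D := by
  letI := Exal.opModule C L
  haveI := Exal.isCentralScalar_opModule C L
  constructor
  · rintro ⟨s, hs⟩
    let t : C → TrivSqZeroExt C L := fun c => s c
    have ht : ∀ c, (t c).fst = c := hs
    have hadd : ∀ c c', t (c + c') = t c + t c' := fun c c' => map_add s c c'
    have hmul : ∀ c c', t (c * c') = t c * t c' := fun c c' => map_mul s c c'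
    have hb : ∀ b : B, t (algebraMap B C b) = TrivSqZeroExt.inl (algebraMap B C b) + TrivSqZeroExt.inr (D b) :=
      fun b => s.commutes b
    have hd : ∀ b : B, (t (algebraMap B C b)).snd = D b := fun b => by simp [hb]
    refine ⟨Derivation.mk'
      { toFun := fun c => (t c).snd
        map_add' := fun c c' => by rw [hadd, TrivSqZeroExt.snd_add]
        map_smul' := fun a c => ?_ } (fun c c' => ?_), Derivation.ext fun b => hd b⟩
    · rw [RingHom.id_apply, Algebra.smul_def, hmul, TrivSqZeroExt.snd_mul, op_smul_eq_smul, ht, ht,
        IsScalarTower.algebraMap_apply A B C a, hd, D.map_algebraMap, smul_zero, add_zero,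
        ← IsScalarTower.algebraMap_apply A B C a, IsScalarTower.algebraMap_smul]
    · change (t (c * c')).snd = _
      rw [hmul, TrivSqZeroExt.snd_mul, op_smul_eq_smul, ht, ht]
      rfl
  · rintro ⟨D', hD'⟩
    let t : C →+* TrivSqZeroExt C L :=
      { toFun := fun c => TrivSqZeroExt.inl c + TrivSqZeroExt.inr (D' c)
        map_one' := TrivSqZeroExt.ext (by simp) (by simp)
        map_mul' := fun c c' => TrivSqZeroExt.ext (by simp) (by simp [op_smul_eq_smul])
        map_zero' := TrivSqZeroExt.ext (by simp) (by simp)
        map_add' := fun c c' => TrivSqZeroExt.ext (by simp) (by simp) }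
    have ht : ∀ b : B, t (algebraMap B C b) =
        TrivSqZeroExt.inl (algebraMap B C b) + TrivSqZeroExt.inr (D b) := fun b => by
      rw [← Derivation.congr_fun hD' b]
      rfl
    refine ⟨{ toFun := fun c => t c
              map_one' := t.map_one
              map_mul' := t.map_mul
              map_zero' := t.map_zero
              map_add' := t.map_add
              commutes' := ht }, fun c => ?_⟩
    exact ((TrivSqZeroExt.fst_add _ _).trans (add_zero _))

end Groth.Agent.S5817
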