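import Groth.Statements.S5819
import Groth.Agent.Lib.Exal.Basic

set_option autoImplicit false
universe u v
open EGA41

namespace Groth.Agent.S5819

/-- Commutative rings, exactness at Exalcom_A(C, L) on underlying pointed sets. For ring maps A → B → C
and a C-module L, an A-extension Y of C by L pulls back to a trivial A-extension of B if and only if
Y is equivalent to some B-extension of C by L viewed as an A-extension. -/
theorem result {A : Type u} {B C L : Type v} [CommRing A]
    [CommRing B] [CommRing C] [Algebra A B] [Algebra B C] [Algebra A C] [IsScalarTower A B C]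
    [AddCommGroup L] [Module C L] [Module B L] [IsScalarTower B C L]
    (Y : Exal.Ext A C L) :
    (Y.pullback B).IsTrivial ↔
      ∃ X : Exal.Ext B C L, Nonempty ((X.restrictBase A).Equiv Y) := by
  constructor
  · rintro ⟨s, hs⟩
    let r : B →ₐ[A] Y.E := ((AlgHom.fst A Y.E B).comp (Y.fiberProd B).val).comp s
    have hr : ∀ b, Y.proj (r b) = algebraMap B C b := fun b => by
      have h1 : Y.proj ((s b : Y.fiberProd B).1.1) = algebraMap B C ((s b : Y.fiberProd B).1.2) := (s b).2
      rw [show ((s b : Y.fiberProd B).1.2) = b from hs b] at h1
      exact h1
    letI : Algebra B Y.E := r.toRingHom.toAlgebra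
    let X : Exal.Ext B C L :=
      { E := Y.E
        proj := { Y.proj.toRingHom with commutes' := hr }
        incl := Y.incl
        isExtension :=
          { proj_surjective := Y.isExtension.proj_surjective
            incl_injective := Y.isExtension.incl_injective
            exact := Y.isExtension.exact
            mul_incl := Y.isExtension.mul_incl } }
    let φ : (X.restrictBase A).E →ₐ[A] Y.E :=
      { toFun := fun x => x
        map_one' := rfl
        map_mul' := fun _ _ => rfl
        map_zero' := rfl
        map_add' := fun _ _ => rfl
        commutes' := fun a => r.commutes a }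
    obtain ⟨e, -⟩ := Exal3L.nonempty_equiv_of_hom (X := X.restrictBase A) (Y := Y) φ (fun x => rfl) (fun z => rfl)
    exact ⟨X, ⟨e⟩⟩
  · rintro ⟨X, ⟨e⟩⟩
    let r : B → Y.E := fun b => e.toAlgEquiv (algebraMap B X.E b)
    let r' : B →ₐ[A] Y.E :=
      { toFun := r
        map_one' := by
          change e.toAlgEquiv (algebraMap B X.E 1) = 1
          rw [map_one]; exact map_one e.toAlgEquiv
        map_mul' := fun a b => by
          change e.toAlgEquiv (algebraMap B X.E (a * b)) = _
          rw [map_mul]; exact map_mul e.toAlgEquiv _ _
        map_zero' := by
          change e.toAlgEquiv (algebraMap B X.E 0) = 0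
          rw [map_zero]; exact map_zero e.toAlgEquiv
        map_add' := fun a b => by
          change e.toAlgEquiv (algebraMap B X.E (a + b)) = _
          rw [map_add]; exact map_add e.toAlgEquiv _ _
        commutes' := fun a => e.toAlgEquiv.commutes a }
    refine ⟨(r'.prod (AlgHom.id A B)).codRestrict (Y.fiberProd B) fun b => ?_, fun b => rfl⟩
    change Y.proj (r b) = algebraMap B C b
    exact (e.proj_apply _).trans (X.proj.commutes b)

end Groth.Agent.S5819
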