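import Groth.Statements.S5824
import Groth.Agent.Lib.Exal3.CharHom

set_option autoImplicit false
universe u v
open EGA41

namespace Groth.Agent.S5824

/-- For ring maps A → B → C with C formally smooth over A (discrete topologies) and Ω_{C/B} a projective
C-module, and a C-module L, the characteristic homomorphism is a bijection from the classes of all
B-extensions of C by L (each of which is A-trivial) onto Hom_C(Υ_{C/B/A}, L): injectivity on classes
and surjectivity. -/
theorem result {A : Type u} {B C L : Type v} [CommRing A] [CommRing B] [CommRing C]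
    [Algebra A B] [Algebra B C] [Algebra A C] [IsScalarTower A B C] [AddCommGroup L] [Module C L]
    [Algebra.FormallySmooth A C] [Module.Projective C Ω[C⁄B]] :
    (∀ (X Y : Exal.Ext B C L) (χ : ↥(EGA41.imperfection A B C) →ₗ[C] L),
        X.IsCharHom A χ → Y.IsCharHom A χ → Nonempty (X.Equiv Y)) ∧
      ∀ χ : ↥(EGA41.imperfection A B C) →ₗ[C] L, ∃ X : Exal.Ext B C L, X.IsCharHom A χ := by
  obtain ⟨s, hs⟩ := Exal3L.exists_section_map (A := A) (B := B) (C := C)
  refine ⟨fun X Y χ hX hY => Exal3L.nonempty_equiv_of_isCharHom (Or.inr ⟨s, hs⟩)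
    (Exal3L.isTrivialOver_of_formallySmooth X) (Exal3L.isTrivialOver_of_formallySmooth Y) hX hY, fun χ => ?_⟩
  obtain ⟨X, -, hX⟩ := Exal3L.exists_isCharHom (Or.inr (Exal3L.exists_retraction_imperfection s hs)) χ
  exact ⟨X, hX⟩

end Groth.Agent.S5824
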