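import Groth.Statements.S5825
-- import your own Groth.Agent.* helpers here

set_option autoImplicit false
universe u v w
open EGA41

namespace Groth.Agent.S5825

/-- Let A be a topological ring, M, N topological A-modules with the topologies deduced from that of A,
and u : M → N a continuous linear map with dense image (a formal epimorphism). Then u is a formal
bimorphism (dense image and inducing) if and only if, for every open ideal J of A, the induced map
M/JM → N/JN is bijective (injectivity and surjectivity are written out elementwise). -/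
theorem result {A : Type u} {M : Type v} {N : Type w} [CommRing A]
    [TopologicalSpace A] [AddCommGroup M] [Module A M] [TopologicalSpace M] [AddCommGroup N] [Module A N]
    [TopologicalSpace N] (hM : TopMod.IsDeduced A M) (hN : TopMod.IsDeduced A N) (u : M →L[A] N)
    (hu : DenseRange u) :
    IsDenseInducing u ↔
      ∀ J : Ideal A, IsOpen (J : Set A) →
        (∀ x : M, u x ∈ (J • ⊤ : Submodule A N) → x ∈ (J • ⊤ : Submodule A M)) ∧
          ∀ y : N, ∃ x : M, y - u x ∈ (J • ⊤ : Submodule A N) := by
  haveI := hM.1
  haveI := hN.1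
  have hmono : ∀ (J : Ideal A) (x : M), x ∈ (J • ⊤ : Submodule A M) → u x ∈ (J • ⊤ : Submodule A N) := by
    intro J x hx
    refine Submodule.smul_induction_on hx (fun j hj m _ => ?_) fun a b ha hb => by rw [map_add]; exact add_mem ha hb
    rw [map_smul]
    exact Submodule.smul_mem_smul hj trivial
  have bN : ∀ y : N, (nhds y).HasBasis (fun J : Ideal A => IsOpen (J : Set A))
      (fun J : Ideal A => (fun z => z - y) ⁻¹' ((J • ⊤ : Submodule A N) : Set N)) := fun y => by
    rw [← nhds_translation_sub y]
    exact hN.2.comap _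
  have bM : ∀ y : M, (nhds y).HasBasis (fun J : Ideal A => IsOpen (J : Set A))
      (fun J : Ideal A => (fun z => z - y) ⁻¹' ((J • ⊤ : Submodule A M) : Set M)) := fun y => by
    rw [← nhds_translation_sub y]
    exact hM.2.comap _
  constructor
  · intro hu' J hJ
    have hdens : ∀ (K : Ideal A), IsOpen (K : Set A) → ∀ y : N, ∃ x : M, y - u x ∈ (K • ⊤ : Submodule A N) := by
      intro K hK y
      obtain ⟨_, hz, x, rfl⟩ := mem_closure_iff_nhds.mp (hu y) _ ((bN y).mem_of_mem hK)
      exact ⟨x, neg_sub (u x) y ▸ neg_mem hz⟩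
    refine ⟨?_, hdens J hJ⟩
    have h0 : nhds (0 : M) = Filter.comap u (nhds (0 : N)) := by
      rw [hu'.isInducing.nhds_eq_comap 0, map_zero]
    obtain ⟨J', hJ', hsub⟩ := ((hN.2.comap u).mem_iff).mp (h0 ▸ hM.2.mem_of_mem hJ)
    intro x hx
    have key : ∀ y ∈ (J • ⊤ : Submodule A N), ∃ m ∈ (J • ⊤ : Submodule A M), y - u m ∈ (J' • ⊤ : Submodule A N) := by
      intro y hy
      refine Submodule.smul_induction_on hy (fun j hj n _ => ?_) ?_
      · obtain ⟨m, hm⟩ := hdens J' hJ' n
        exact ⟨j • m, Submodule.smul_mem_smul hj trivial, by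
          rw [map_smul, ← smul_sub]; exact Submodule.smul_mem _ j hm⟩
      · rintro a b ⟨m, hm, hm'⟩ ⟨m', hn, hn'⟩
        exact ⟨m + m', add_mem hm hn, by rw [map_add, add_sub_add_comm]; exact add_mem hm' hn'⟩
    obtain ⟨m, hm, hm'⟩ := key (u x) hx
    rw [← map_sub] at hm'
    simpa using add_mem (hsub hm') hm
  · intro h
    refine { dense := hu, toIsInducing := Topology.isInducing_iff_nhds.mpr fun x => ?_ }
    refine (bM x).eq_of_same_basis ?_
    refine ((bN (u x)).comap u).congr (fun _ => Iff.rfl) fun J hJ => ?_
    ext y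
    simp only [Set.mem_preimage, SetLike.mem_coe, ← map_sub]
    exact ⟨fun hy => (h J hJ).1 _ hy, fun hy => hmono J _ hy⟩

end Groth.Agent.S5825
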