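import Groth.Statements.S5827
import Groth.Agent.S5826
import Mathlib.RingTheory.Ideal.Quotient.Operations
import Mathlib.Algebra.Module.Projective
import Mathlib.Algebra.Ring.GeomSum

set_option autoImplicit false
universe u v w
open EGA41

namespace Groth.Agent.S5827

/-- Let A be a preadmissible topological ring with an ideal of definition 𝔏, M, N topological A-modules
with the topologies deduced from that of A such that N/JN is a projective (A/J)-module for every
open ideal J, and u : M → N a continuous linear map. Then u is formally left invertible if and only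
if the induced map M/𝔏M → N/𝔏N is left invertible. -/
theorem result {A : Type u} {M : Type v}
    {N : Type w} [CommRing A] [TopologicalSpace A] [AddCommGroup M] [Module A M] [TopologicalSpace M]
    [AddCommGroup N] [Module A N] [TopologicalSpace N] (hA : LinTop.IsPreadmissible A) (𝔏 : Ideal A)
    (h𝔏 : LinTop.IsIdealOfDefinition A 𝔏) (hM : TopMod.IsDeduced A M) (hN : TopMod.IsDeduced A N)
    (hproj : ∀ J : Ideal A, IsOpen (J : Set A) → Module.Projective (A ⧸ J) (N ⧸ (J • (⊤ : Submodule A N))))
    (u : M →L[A] N) :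
    TopMod.IsFormallyLeftInvertible u ↔
      ∃ w : N →ₗ[A] M ⧸ (𝔏 • ⊤ : Submodule A M), ∀ x : M, w (u x) = Submodule.Quotient.mk x := by
  rw [S5826.result hM hN u]
  constructor
  · intro h
    exact h 𝔏 h𝔏.1
  · rintro ⟨w, hw⟩ J hJ
    obtain ⟨n, -, hn⟩ := h𝔏.2 J (hJ.mem_nhds J.zero_mem)
    let M' := M ⧸ (J • ⊤ : Submodule A M)
    let N' := N ⧸ (J • ⊤ : Submodule A N)
    let Q := M ⧸ ((J • ⊤ : Submodule A M) ⊔ (𝔏 • ⊤ : Submodule A M))
    haveI := hproj J hJ
    have hM0 : ∀ a ∈ J, ∀ y : M', a • y = 0 := fun a ha y => by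
      obtain ⟨m, rfl⟩ := Submodule.Quotient.mk_surjective _ y
      rw [← Submodule.Quotient.mk_smul, Submodule.Quotient.mk_eq_zero]
      exact Submodule.smul_mem_smul ha trivial
    have tM : Module.IsTorsionBySet A M' J := fun y a => hM0 a.1 a.2 y
    let p : M' →ₗ[A] Q := Submodule.factor le_sup_left
    have hQ0 : ∀ a ∈ J, ∀ y : Q, a • y = 0 := fun a ha y => by
      obtain ⟨m, rfl⟩ := Submodule.Quotient.mk_surjective _ y
      rw [← Submodule.Quotient.mk_smul, Submodule.Quotient.mk_eq_zero]
      exact Submodule.mem_sup_left (Submodule.smul_mem_smul ha trivial)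
    have tQ : Module.IsTorsionBySet A Q J := fun y a => hQ0 a.1 a.2 y
    letI : Module (A ⧸ J) Q := tQ.module
    haveI : IsScalarTower A (A ⧸ J) Q := tQ.isScalarTower
    have hs : Function.Surjective (algebraMap A (A ⧸ J)) := Ideal.Quotient.mk_surjective
    let w₁ : N →ₗ[A] Q := (Submodule.factor (le_sup_right : (𝔏 • ⊤ : Submodule A M) ≤
      (J • ⊤ : Submodule A M) ⊔ (𝔏 • ⊤ : Submodule A M))).comp w
    have hw₁ : (J • ⊤ : Submodule A N) ≤ LinearMap.ker w₁ :=
      Submodule.smul_le.mpr fun a ha y _ => LinearMap.mem_ker.mpr ((w₁.map_smul a y).trans (hQ0 a ha _))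
    let pR : M' →ₗ[A ⧸ J] Q := p.extendScalarsOfSurjective hs
    let qR : N' →ₗ[A ⧸ J] Q := (Submodule.liftQ (J • ⊤ : Submodule A N) w₁ hw₁).extendScalarsOfSurjective hs
    have hpR : Function.Surjective pR := fun y => by
      obtain ⟨m, rfl⟩ := Submodule.Quotient.mk_surjective _ y
      exact ⟨Submodule.Quotient.mk m, rfl⟩
    obtain ⟨l, hl⟩ := Module.projective_lifting_property pR qR hpR
    let wt : N →ₗ[A] M' := (l.restrictScalars A).comp (Submodule.mkQ _)
    have hu' : (J • ⊤ : Submodule A M) ≤ LinearMap.ker (wt.comp u.toLinearMap) :=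
      Submodule.smul_le.mpr fun a ha y _ => LinearMap.mem_ker.mpr (((wt.comp u.toLinearMap).map_smul a y).trans (hM0 a ha _))
    let e : Module.End A M' := Submodule.liftQ _ (wt.comp u.toLinearMap) hu'
    have he : ∀ y, (1 - e) y ∈ (𝔏 • ⊤ : Submodule A M') := by
      intro y
      obtain ⟨m, rfl⟩ := Submodule.Quotient.mk_surjective _ y
      have h1 : p ((1 - e) (Submodule.Quotient.mk m)) = 0 := by
        rw [LinearMap.sub_apply, Module.End.one_apply, map_sub, sub_eq_zero]
        show p (Submodule.Quotient.mk m) = p (l (Submodule.Quotient.mk (u m)))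
        rw [show p (l (Submodule.Quotient.mk (u m))) = w₁ (u m) from
          LinearMap.congr_fun hl (Submodule.Quotient.mk (u m))]
        show p (Submodule.Quotient.mk m) = Submodule.factor le_sup_right (w (u m))
        rw [hw]
        rfl
      obtain ⟨z, hz⟩ := Submodule.Quotient.mk_surjective _ ((1 - e) (Submodule.Quotient.mk m))
      rw [← hz] at h1 ⊢
      have h2 : z ∈ (J • ⊤ : Submodule A M) ⊔ (𝔏 • ⊤ : Submodule A M) := (Submodule.Quotient.mk_eq_zero _).mp h1
      have h3 := Submodule.mem_map_of_mem (f := Submodule.mkQ (J • ⊤ : Submodule A M)) h2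
      rw [Submodule.map_sup, Submodule.mkQ_map_self, bot_sup_eq, Submodule.map_smul'', Submodule.map_top,
        Submodule.range_mkQ] at h3
      exact h3
    have hpow : ∀ (k : ℕ) (y : M'), ((1 - e) ^ k) y ∈ (𝔏 ^ k • ⊤ : Submodule A M') := by
      intro k
      induction k with
      | zero => intro y; simp
      | succ k ih =>
        intro y
        rw [pow_succ (1 - e) k, Module.End.mul_apply, pow_succ' 𝔏 k, Submodule.mul_smul]
        refine Submodule.smul_induction_on (he y) (fun a ha z _ => ?_) fun a b ha hb => by rw [map_add]; exact add_mem ha hb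
        rw [map_smul]
        exact Submodule.smul_mem_smul ha (ih z)
    have hnil : (1 - e) ^ n = 0 := LinearMap.ext fun y => Submodule.smul_induction_on (hpow n y)
      (fun a ha z _ => hM0 a (hn ha) z) fun a b ha hb => by simp only [LinearMap.zero_apply] at ha hb ⊢; rw [ha, hb, add_zero]
    have hge : (∑ i ∈ Finset.range n, (1 - e) ^ i) * e = 1 := by
      have := geom_sum_mul_neg (1 - e) n
      rwa [sub_sub_cancel, hnil, sub_zero] at this
    exact ⟨(∑ i ∈ Finset.range n, (1 - e) ^ i : Module.End A M').comp wt, fun x =>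
      LinearMap.congr_fun hge (Submodule.Quotient.mk x)⟩

end Groth.Agent.S5827
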