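import Groth.Statements.S5828
import Groth.Agent.Lib.Exal.Basic
import Mathlib.Tactic.LinearCombination

set_option autoImplicit false
universe u v
open EGA41

namespace Groth.Agent.S5828

/-- Commutative case. For an A-extension X of C by a C-module L, with middle ring E, projection p and
inclusion i, the A-derivations D : C → L and the self-equivalences of X correspond under D ↦ (x ↦ x
+ i (D (p x))): every derivation defines a self-equivalence with this formula, and every
self-equivalence is of this form for exactly one derivation. (Bijection of sets; the published
statement also records compatibility with the group laws.) -/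
theorem result {A : Type u} {C L : Type v} [CommRing A] [CommRing C] [Algebra A C]
    [AddCommGroup L] [Module C L] [Module A L] [IsScalarTower A C L] (X : Exal.Ext A C L) :
    (∀ D : Derivation A C L, ∃ e : X.Equiv X, ∀ x : X.E, e.toAlgEquiv x = x + X.incl (D (X.proj x))) ∧
      ∀ e : X.Equiv X, ∃! D : Derivation A C L, ∀ x : X.E, e.toAlgEquiv x = x + X.incl (D (X.proj x)) := by
  constructor
  · intro D
    let φ : X.E →ₐ[A] X.E :=
      { toFun := fun x => x + X.incl (D (X.proj x))
        map_one' := by simp
        map_mul' := fun x y => by
          rw [map_mul, Derivation.leibniz, map_add, ← X.isExtension.mul_incl, ← X.isExtension.mul_incl]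
          linear_combination -(Exal3L.incl_mul_incl X (D (X.proj x)) (D (X.proj y)))
        map_zero' := by simp
        map_add' := fun x y => by rw [map_add, map_add, map_add]; abel
        commutes' := fun a => by simp }
    obtain ⟨e, he⟩ := Exal3L.nonempty_equiv_of_hom φ
      (fun x => by simp [φ, Exal3L.proj_incl]) (fun z => by simp [φ, Exal3L.proj_incl])
    exact ⟨e, he⟩
  · intro e
    let σ := Function.surjInv X.isExtension.proj_surjective
    have hσ : ∀ c, X.proj (σ c) = c := Function.surjInv_eq X.isExtension.proj_surjective
    have hd : ∀ x, X.proj (e.toAlgEquiv x - x) = 0 := fun x => by rw [map_sub, e.proj_apply, sub_self]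
    let f : C → L := fun c => X.kerLift _ (hd (σ c))
    have hf : ∀ (x : X.E) (c : C), X.proj x = c → X.incl (f c) = e.toAlgEquiv x - x := by
      intro x c h
      obtain ⟨z, hz⟩ := Exal3L.exists_incl_eq_sub X (σ c) x (by rw [hσ, h])
      rw [show X.incl (f c) = e.toAlgEquiv (σ c) - σ c from X.incl_kerLift _ _]
      have := e.apply_incl z
      rw [hz, map_sub] at this
      linear_combination this
    let D : Derivation A C L := Derivation.mk'
      { toFun := f
        map_add' := fun a b => X.isExtension.incl_injective (by
          rw [hf (σ a + σ b) (a + b) (by rw [map_add, hσ, hσ]), map_add, map_add, hf _ a (hσ a),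
            hf _ b (hσ b)]
          abel)
        map_smul' := fun a c => X.isExtension.incl_injective (by
          rw [RingHom.id_apply, hf (a • σ c) (a • c) (by rw [map_smul, hσ]),
            ← IsScalarTower.algebraMap_smul C a (f c), ← X.proj.commutes a, ← X.isExtension.mul_incl,
            hf _ c (hσ c), map_smul, ← smul_sub, Algebra.smul_def]) }
      (fun a b => X.isExtension.incl_injective (by
        change X.incl (f (a * b)) = X.incl (a • f b + b • f a)
        rw [map_add]
        nth_rw 2 [← hσ a]
        nth_rw 3 [← hσ b]
        rw [← X.isExtension.mul_incl, ← X.isExtension.mul_incl,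
          hf (σ a * σ b) (a * b) (by rw [map_mul, hσ, hσ]), hf _ a (hσ a), hf _ b (hσ b), map_mul]
        have h0 := Exal3L.incl_mul_incl X (f a) (f b)
        rw [hf _ a (hσ a), hf _ b (hσ b)] at h0
        linear_combination h0))
    refine ⟨D, fun x => ?_, fun D' hD' => Derivation.ext fun c => X.isExtension.incl_injective ?_⟩
    · rw [show D (X.proj x) = f (X.proj x) from rfl, hf x _ rfl]; abel
    · rw [show D c = f c from rfl, hf (σ c) c (hσ c), hD' (σ c), hσ]; abel

end Groth.Agent.S5828
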