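import Groth.Statements.S5830
-- import your own Groth.Agent.* helpers here

set_option autoImplicit false
universe u v
open EGA41

namespace Groth.Agent.S5830

set_option linter.unusedVariables false in
/-- square zero extension of `B` by `L` along a symmetric 2-cocycle -/
structure HExt {A : Type u} {B : Type v} [CommRing A] [CommRing B] [Algebra A B]
    {L : Type v} [AddCommGroup L] [Module B L] [Module A L] (f : B →ₗ[A] B →ₗ[A] L) : Type v where
  b : B
  l : L

section HExt

variable {A : Type u} {B : Type v} [CommRing A] [CommRing B] [Algebra A B]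
    {L : Type v} [AddCommGroup L] [Module B L] [Module A L] [IsScalarTower A B L]
    {f : B →ₗ[A] B →ₗ[A] L}

omit [IsScalarTower A B L] in
theorem HExt.ext' {x y : HExt f} (h₁ : x.b = y.b) (h₂ : x.l = y.l) : x = y := by
  cases x; cases y; simp_all

instance : Zero (HExt f) := ⟨⟨0, 0⟩⟩
instance : Add (HExt f) := ⟨fun x y => ⟨x.b + y.b, x.l + y.l⟩⟩
instance : Neg (HExt f) := ⟨fun x => ⟨-x.b, -x.l⟩⟩

/-- the ring structure -/
@[reducible] def HExt.ring (hsymm : ∀ x y : B, f x y = f y x)
    (hcoc : ∀ x y z : B, f (x * y) z + z • f x y = x • f y z + f x (y * z)) : CommRing (HExt f) where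
  sub x y := ⟨x.b - y.b, x.l - y.l⟩
  mul x y := ⟨x.b * y.b, x.b • y.l + y.b • x.l + f x.b y.b⟩
  one := ⟨1, -f 1 1⟩
  nsmul := nsmulRec
  zsmul := zsmulRec
  add_assoc x y z := HExt.ext' (add_assoc _ _ _) (add_assoc _ _ _)
  zero_add x := HExt.ext' (zero_add _) (zero_add _)
  add_zero x := HExt.ext' (add_zero _) (add_zero _)
  add_comm x y := HExt.ext' (add_comm _ _) (add_comm _ _)
  neg_add_cancel x := HExt.ext' (neg_add_cancel _) (neg_add_cancel _)
  sub_eq_add_neg x y := HExt.ext' (sub_eq_add_neg _ _) (sub_eq_add_neg _ _)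
  left_distrib x y z := HExt.ext' (mul_add _ _ _) (by
    show x.b • (y.l + z.l) + (y.b + z.b) • x.l + f x.b (y.b + z.b) =
      (x.b • y.l + y.b • x.l + f x.b y.b) + (x.b • z.l + z.b • x.l + f x.b z.b)
    rw [map_add]; module)
  right_distrib x y z := HExt.ext' (add_mul _ _ _) (by
    show (x.b + y.b) • z.l + z.b • (x.l + y.l) + f (x.b + y.b) z.b =
      (x.b • z.l + z.b • x.l + f x.b z.b) + (y.b • z.l + z.b • y.l + f y.b z.b)
    rw [map_add, LinearMap.add_apply]; module)
  zero_mul x := HExt.ext' (zero_mul _) (by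
    show (0 : B) • x.l + x.b • (0 : L) + f 0 x.b = 0
    rw [map_zero]; simp)
  mul_zero x := HExt.ext' (mul_zero _) (by
    show x.b • (0 : L) + (0 : B) • x.l + f x.b 0 = 0
    rw [map_zero]; simp)
  mul_comm x y := HExt.ext' (mul_comm _ _) (by
    show x.b • y.l + y.b • x.l + f x.b y.b = y.b • x.l + x.b • y.l + f y.b x.b
    rw [hsymm x.b y.b]; abel)
  mul_assoc x y z := HExt.ext' (mul_assoc _ _ _) (by
    show (x.b * y.b) • z.l + z.b • (x.b • y.l + y.b • x.l + f x.b y.b) + f (x.b * y.b) z.b =
      x.b • (y.b • z.l + z.b • y.l + f y.b z.b) + (y.b * z.b) • x.l + f x.b (y.b * z.b)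
    rw [smul_add z.b, smul_add z.b, smul_add x.b, smul_add x.b]
    simp only [mul_smul, smul_comm z.b x.b, smul_comm z.b y.b]
    linear_combination (norm := module) hcoc x.b y.b z.b)
  one_mul x := HExt.ext' (one_mul _) (by
    show (1 : B) • x.l + x.b • (-f 1 1) + f 1 x.b = x.l
    have h := hcoc 1 1 x.b
    simp only [mul_one, one_mul, one_smul] at h
    linear_combination (norm := module) -h)
  mul_one x := HExt.ext' (mul_one _) (by
    show x.b • (-f 1 1) + (1 : B) • x.l + f x.b 1 = x.l
    have h := hcoc 1 1 x.b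
    simp only [mul_one, one_mul, one_smul] at h
    rw [hsymm x.b 1]
    linear_combination (norm := module) -h)

end HExt

/-- Discrete case. If B is a formally smooth A-algebra then, for every B-module L, every A-bilinear
symmetric Hochschild 2-cocycle f : B × B → L (f(xy, z) + z f(x, y) = x f(y, z) + f(x, yz)) is a
Hochschild 2-coboundary: f(x, y) = x g(y) − g(xy) + y g(x) for some A-linear g : B → L. (The
published statement is for topological algebras and open ideals; this row is its discrete case.) -/
theorem result {A : Type u} {B : Type v} [CommRing A] [CommRing B]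
    [Algebra A B] [Algebra.FormallySmooth A B] {L : Type v} [AddCommGroup L] [Module B L] [Module A L]
    [IsScalarTower A B L] (f : B →ₗ[A] B →ₗ[A] L) (hsymm : ∀ x y : B, f x y = f y x)
    (hcoc : ∀ x y z : B, f (x * y) z + z • f x y = x • f y z + f x (y * z)) :
    ∃ g : B →ₗ[A] L, ∀ x y : B, f x y = x • g y - g (x * y) + y • g x := by
  letI := HExt.ring hsymm hcoc
  let α : A →+* HExt f :=
    { toFun := fun a => ⟨algebraMap A B a, -(a • f 1 1)⟩
      map_one' := HExt.ext' (map_one _) (by show -((1 : A) • f 1 1) = -f 1 1; rw [one_smul])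
      map_zero' := HExt.ext' (map_zero _) (by show -((0 : A) • f 1 1) = (0 : L); rw [zero_smul, neg_zero])
      map_add' := fun a b => HExt.ext' (map_add _ _ _)
        (by show -((a + b) • f 1 1) = -(a • f 1 1) + -(b • f 1 1); rw [add_smul]; abel)
      map_mul' := fun a b => HExt.ext' (map_mul _ _ _) (by
        show -((a * b) • f 1 1) = algebraMap A B a • (-(b • f 1 1)) + algebraMap A B b • (-(a • f 1 1)) +
          f (algebraMap A B a) (algebraMap A B b)
        rw [algebraMap_smul, algebraMap_smul, Algebra.algebraMap_eq_smul_one,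
          Algebra.algebraMap_eq_smul_one]
        simp only [map_smul, LinearMap.smul_apply]
        module) }
  letI : Algebra A (HExt f) := α.toAlgebra
  let π : HExt f →ₐ[A] B :=
    { toFun := HExt.b
      map_one' := rfl
      map_mul' := fun _ _ => rfl
      map_zero' := rfl
      map_add' := fun _ _ => rfl
      commutes' := fun _ => rfl }
  have hπ : Function.Surjective π := fun b => ⟨⟨b, 0⟩, rfl⟩
  have hker : IsNilpotent (RingHom.ker (π : HExt f →+* B)) := by
    refine ⟨2, eq_bot_iff.mpr ?_⟩
    rw [pow_two, Ideal.mul_le]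
    intro x hx y hy
    change x.b = 0 at hx
    change y.b = 0 at hy
    rw [Submodule.mem_bot]
    refine HExt.ext' (by show x.b * y.b = 0; rw [hx, zero_mul]) ?_
    show x.b • y.l + y.b • x.l + f x.b y.b = 0
    rw [hx, hy, map_zero]; simp
  let σ := Algebra.FormallySmooth.liftOfSurjective (AlgHom.id A B) π hπ hker
  have hσ : ∀ x, (σ x).b = x := fun x =>
    Algebra.FormallySmooth.liftOfSurjective_apply (AlgHom.id A B) π hπ hker x
  have hsm : ∀ (a : A) (x : B), (σ (a • x)).l = a • (σ x).l := by
    intro a x
    rw [Algebra.smul_def, map_mul, AlgHom.commutes]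
    show algebraMap A B a • (σ x).l + (σ x).b • (-(a • f 1 1)) + f (algebraMap A B a) (σ x).b
      = a • (σ x).l
    have h := hcoc 1 1 x
    simp only [mul_one, one_mul, one_smul] at h
    rw [hσ, algebraMap_smul, Algebra.algebraMap_eq_smul_one, map_smul, LinearMap.smul_apply]
    rw [smul_neg, smul_comm x a]
    linear_combination (norm := module) -(a • h)
  let g : B →ₗ[A] L :=
    { toFun := fun x => -(σ x).l
      map_add' := fun x y => by
        rw [map_add]
        show -((σ x).l + (σ y).l) = _
        abel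
      map_smul' := fun a x => by rw [RingHom.id_apply, hsm, smul_neg] }
  refine ⟨g, fun x y => ?_⟩
  have h : (σ (x * y)).l = (σ x).b • (σ y).l + (σ y).b • (σ x).l + f (σ x).b (σ y).b := by
    rw [map_mul]; rfl
  rw [hσ, hσ] at h
  show f x y = x • (-(σ y).l) - (-(σ (x * y)).l) + y • (-(σ x).l)
  rw [h]; module

end Groth.Agent.S5830
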