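import Groth.Statements.S5831
-- import your own Groth.Agent.* helpers here

set_option autoImplicit false
universe u
open EGA41

namespace Groth.Agent.S5831

/-- Discrete case. Let B be an A-algebra which is a projective A-module (A and B in one universe). If
for every B-module L in that universe every A-bilinear symmetric Hochschild 2-cocycle B × B → L is a
coboundary, then B is formally smooth over A. (The published statement assumes B formally projective
as a topological A-module; for discrete rings this is projectivity.) -/
theorem result {A B : Type u} [CommRing A]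
    [CommRing B] [Algebra A B] [Module.Projective A B]
    (h : ∀ (L : Type u) [AddCommGroup L] [Module B L] [Module A L] [IsScalarTower A B L]
      (f : B →ₗ[A] B →ₗ[A] L), (∀ x y : B, f x y = f y x) →
        (∀ x y z : B, f (x * y) z + z • f x y = x • f y z + f x (y * z)) →
          ∃ g : B →ₗ[A] L, ∀ x y : B, f x y = x • g y - g (x * y) + y • g x) :
    Algebra.FormallySmooth A B := by
  classical
  refine Algebra.FormallySmooth.of_comp_surjective fun C _ _ I hI φ => ?_
  obtain ⟨s, hs⟩ := Module.projective_lifting_property (Ideal.Quotient.mkₐ A I).toLinearMap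
    φ.toLinearMap Ideal.Quotient.mk_surjective
  have hs' : ∀ x, Ideal.Quotient.mk I (s x) = φ x := fun x => LinearMap.congr_fun hs x
  have hz : ∀ p q : C, p ∈ I → q ∈ I → p * q = 0 := fun p q hp hq => by
    have : p * q ∈ I ^ 2 := by rw [pow_two]; exact Ideal.mul_mem_mul hp hq
    rwa [hI, Submodule.mem_bot] at this
  -- the action of `B` on `I`
  have key : ∀ (c d : C) (l : C), Ideal.Quotient.mk I c = Ideal.Quotient.mk I d → l ∈ I →
      c * l = d * l := fun c d l hcd hl => by
    rw [← sub_eq_zero, ← sub_mul]
    exact hz _ _ (Ideal.Quotient.eq.mp hcd) hl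
  letI hsmul : SMul B I := ⟨fun b l => ⟨s b * (l : C), I.mul_mem_left _ l.2⟩⟩
  have hdef : ∀ (b : B) (l : I), ((b • l : I) : C) = s b * (l : C) := fun _ _ => rfl
  letI : Module B I :=
    { one_smul := fun l => Subtype.ext (by
        rw [hdef, key _ 1 _ (by rw [hs', map_one, map_one]) l.2, one_mul])
      mul_smul := fun x y l => Subtype.ext (by
        rw [hdef, hdef, hdef, key _ (s x * s y) _ (by rw [hs', map_mul, map_mul, hs', hs']) l.2, mul_assoc])
      smul_zero := fun x => Subtype.ext (by rw [hdef]; exact mul_zero _)
      smul_add := fun x l m => Subtype.ext (by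
        show s x * ((l : C) + (m : C)) = s x * l + s x * m
        ring)
      add_smul := fun x y l => Subtype.ext (by
        show s (x + y) * (l : C) = s x * l + s y * l
        rw [map_add, add_mul])
      zero_smul := fun l => Subtype.ext (by
        show s 0 * (l : C) = ((0 : I) : C)
        rw [map_zero, zero_mul]; rfl) }
  haveI : IsScalarTower A B I := ⟨fun a b l => Subtype.ext (by
    show s (a • b) * (l : C) = a • (s b * (l : C))
    rw [map_smul, smul_mul_assoc])⟩
  have hmem : ∀ x y, s x * s y - s (x * y) ∈ I := fun x y => by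
    rw [← Ideal.Quotient.eq, map_mul, hs', hs', hs', map_mul]
  let f : B →ₗ[A] B →ₗ[A] I := LinearMap.mk₂ A (fun x y => ⟨s x * s y - s (x * y), hmem x y⟩)
    (fun x x' y => Subtype.ext (by
      show s (x + x') * s y - s ((x + x') * y) = s x * s y - s (x * y) + (s x' * s y - s (x' * y))
      rw [add_mul x x' y, map_add, map_add]; ring))
    (fun a x y => Subtype.ext (by
      show s (a • x) * s y - s ((a • x) * y) = a • (s x * s y - s (x * y))
      rw [smul_mul_assoc a x y, map_smul, map_smul, smul_mul_assoc, smul_sub]))
    (fun x y y' => Subtype.ext (by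
      show s x * s (y + y') - s (x * (y + y')) = s x * s y - s (x * y) + (s x * s y' - s (x * y'))
      rw [mul_add x y y', map_add, map_add]; ring))
    (fun a x y => Subtype.ext (by
      show s x * s (a • y) - s (x * (a • y)) = a • (s x * s y - s (x * y))
      rw [mul_smul_comm a x y, map_smul, map_smul, mul_smul_comm, smul_sub]))
  have hf : ∀ x y, ((f x y : I) : C) = s x * s y - s (x * y) := fun _ _ => rfl
  obtain ⟨g, hg⟩ := h I f (fun x y => Subtype.ext (by rw [hf, hf, mul_comm y x]; ring))
    (fun x y z => Subtype.ext (by
      show (f (x * y) z : C) + ((z • f x y : I) : C) = ((x • f y z : I) : C) + (f x (y * z) : C)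
      rw [hdef, hdef, hf, hf, hf, hf, mul_assoc x y z]; ring))
  let t : B →ₗ[A] C := s - (I.subtype.restrictScalars A).comp g
  have ht : ∀ x, t x = s x - (g x : C) := fun _ => rfl
  have hφ : ∀ x, Ideal.Quotient.mk I (t x) = φ x := fun x => by
    rw [ht, map_sub, hs', Ideal.Quotient.eq_zero_iff_mem.mpr (g x).2, sub_zero]
  have hmul : ∀ x y, t (x * y) = t x * t y := fun x y => by
    have := congrArg Subtype.val (hg x y)
    change (f x y : C) = ((x • g y : I) : C) - (g (x * y) : C) + ((y • g x : I) : C) at this
    rw [hf, hdef, hdef] at this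
    rw [ht, ht, ht]
    linear_combination -this - hz _ _ (g x).2 (g y).2
  have hone : t 1 = 1 := by
    have h1 : t 1 - 1 ∈ I := by rw [← Ideal.Quotient.eq, hφ, map_one, map_one]
    have h2 : t 1 = t 1 * t 1 := by rw [← hmul, one_mul]
    have h3 := hz _ _ h1 h1
    linear_combination -h2 - h3
  exact ⟨AlgHom.ofLinearMap t hone hmul, AlgHom.ext hφ⟩

end Groth.Agent.S5831
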