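import Groth.Statements.S5832
import Groth.Agent.Lib.Exal.Basic
import Mathlib.Tactic.LinearCombination

set_option autoImplicit false
universe u u' v
open EGA41

namespace Groth.Agent.S5832

/-- Surjectivity at the end of the sequence. For ring maps Λ → A → B → C and a C-module L, every
Λ-trivial A-extension of B by L is equivalent to the inverse image along B → C of a Λ-trivial
A-extension of C by L. (Exactness at the other places is that of the six-term derivation-extension
sequence restricted to Λ-trivial classes.) -/
theorem result {Λ : Type u} {A : Type u'} {B C L : Type v}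
    [CommRing Λ] [CommRing A] [CommRing B] [CommRing C] [Algebra Λ A] [Algebra Λ B] [Algebra Λ C]
    [Algebra A B] [Algebra B C] [Algebra A C] [IsScalarTower Λ A B] [IsScalarTower Λ A C] [IsScalarTower A B C]
    [AddCommGroup L] [Module C L] [Module B L] [IsScalarTower B C L]
    (Y : Exal.Ext A B L) (hY : Y.IsTrivialOver Λ) :
    ∃ X : Exal.Ext A C L, X.IsTrivialOver Λ ∧ Nonempty ((X.pullback B).Equiv Y) := by
  let := Exal.opModule C L
  have := Exal.isCentralScalar_opModule C L
  obtain ⟨s, hs⟩ := hY
  let s' : B →+* Y.E := s.toRingHom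
  have hs' : ∀ b, Y.proj (s' b) = b := hs
  have hd : ∀ y, Y.proj (y - s' (Y.proj y)) = 0 := fun y => by rw [map_sub, hs', sub_self]
  let d : Y.E → L := fun y => Y.kerLift _ (hd y)
  have hd' : ∀ y, Y.incl (d y) = y - s' (Y.proj y) := fun y => Y.incl_kerLift _ _
  have hdi : ∀ z, d (Y.incl z) = z := fun z => Y.isExtension.incl_injective (by
    rw [hd', Exal3L.proj_incl, map_zero, sub_zero])
  let ψ : Y.E →+* TrivSqZeroExt C L :=
    { toFun := fun y => TrivSqZeroExt.inl (algebraMap B C (Y.proj y)) + TrivSqZeroExt.inr (d y)
      map_one' := TrivSqZeroExt.ext (by simp) (by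
        simp only [TrivSqZeroExt.snd_add, TrivSqZeroExt.snd_inl, TrivSqZeroExt.snd_inr, zero_add,
          TrivSqZeroExt.snd_one]
        exact Y.isExtension.incl_injective (by simp [hd']))
      map_mul' := fun x y => TrivSqZeroExt.ext (by simp) (by
        simp only [TrivSqZeroExt.snd_add, TrivSqZeroExt.snd_inl, TrivSqZeroExt.snd_inr, zero_add,
          TrivSqZeroExt.snd_mul, TrivSqZeroExt.fst_add, TrivSqZeroExt.fst_inl, TrivSqZeroExt.fst_inr, add_zero,
          op_smul_eq_smul, IsScalarTower.algebraMap_smul]
        apply Y.isExtension.incl_injective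
        rw [map_add, ← hs' (Y.proj x), ← Y.isExtension.mul_incl, ← hs' (Y.proj y), ← Y.isExtension.mul_incl,
          hd', hd', hd', map_mul, map_mul]
        have h0 := Exal3L.incl_mul_incl Y (d x) (d y)
        rw [hd', hd'] at h0
        linear_combination h0)
      map_zero' := TrivSqZeroExt.ext (by simp) (by
        simp only [TrivSqZeroExt.snd_add, TrivSqZeroExt.snd_inl, TrivSqZeroExt.snd_inr, zero_add,
          TrivSqZeroExt.snd_zero]
        exact Y.isExtension.incl_injective (by simp [hd']))
      map_add' := fun x y => TrivSqZeroExt.ext (by simp) (by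
        simp only [TrivSqZeroExt.snd_add, TrivSqZeroExt.snd_inl, TrivSqZeroExt.snd_inr, zero_add]
        exact Y.isExtension.incl_injective (by rw [map_add, hd', hd', hd', map_add, map_add]; ring)) }
  have hψfst : ∀ y, (ψ y).fst = algebraMap B C (Y.proj y) := fun y => by simp [ψ]
  have hψinr : ∀ z, ψ (Y.incl z) = TrivSqZeroExt.inr z := fun z => by
    apply TrivSqZeroExt.ext <;> simp [ψ, Exal3L.proj_incl, hdi]
  let alg : Algebra A (TrivSqZeroExt C L) := (ψ.comp (algebraMap A Y.E)).toAlgebra
  let X : Exal.Ext A C L :=
    { E := TrivSqZeroExt C L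
      proj :=
        { toFun := TrivSqZeroExt.fst
          map_one' := TrivSqZeroExt.fst_one
          map_mul' := TrivSqZeroExt.fst_mul
          map_zero' := TrivSqZeroExt.fst_zero
          map_add' := TrivSqZeroExt.fst_add
          commutes' := fun a => by
            change (ψ (algebraMap A Y.E a)).fst = _
            rw [hψfst, AlgHom.commutes, ← IsScalarTower.algebraMap_apply] }
      incl := (TrivSqZeroExt.inrHom C L).toAddMonoidHom
      isExtension :=
        { proj_surjective := fun c => ⟨TrivSqZeroExt.inl c, rfl⟩
          incl_injective := TrivSqZeroExt.inr_injective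
          exact := fun x => ⟨fun hx => ⟨x.snd, TrivSqZeroExt.ext hx.symm rfl⟩, by rintro ⟨z, rfl⟩; rfl⟩
          mul_incl := fun x z => TrivSqZeroExt.ext (mul_zero _) (by
            change TrivSqZeroExt.fst x • z + MulOpposite.op (0 : C) • TrivSqZeroExt.snd x = TrivSqZeroExt.fst x • z
            rw [MulOpposite.op_zero, zero_smul, add_zero]) } }
  refine ⟨X, ⟨{ toFun := fun c => (TrivSqZeroExt.inl c : TrivSqZeroExt C L)
                map_one' := TrivSqZeroExt.inl_one L
                map_mul' := fun x y => TrivSqZeroExt.inl_mul L x y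
                map_zero' := TrivSqZeroExt.inl_zero L
                map_add' := fun x y => TrivSqZeroExt.inl_add L x y
                commutes' := fun l => ?_ }, fun c => rfl⟩, ?_⟩
  · change TrivSqZeroExt.inl (algebraMap Λ C l) = ψ (algebraMap A Y.E (algebraMap Λ A l))
    have h1 : algebraMap A Y.E (algebraMap Λ A l) = s' (algebraMap Λ B l) := (s.commutes l).symm
    rw [h1]
    refine TrivSqZeroExt.ext ?_ ?_
    · rw [hψfst, hs', TrivSqZeroExt.fst_inl, IsScalarTower.algebraMap_apply Λ A C,
        IsScalarTower.algebraMap_apply A B C, ← IsScalarTower.algebraMap_apply Λ A B]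
    · have : d (s' (algebraMap Λ B l)) = 0 :=
        Y.isExtension.incl_injective (by rw [hd', hs', sub_self, map_zero])
      simp [ψ, this]
  · let φ : Y.E →ₐ[A] X.E :=
      { toFun := ψ
        map_one' := ψ.map_one
        map_mul' := ψ.map_mul
        map_zero' := ψ.map_zero
        map_add' := ψ.map_add
        commutes' := fun a => rfl }
    let θ : Y.E →ₐ[A] (X.pullback B).E :=
      (φ.prod Y.proj).codRestrict (X.fiberProd B) fun y => hψfst y
    obtain ⟨e, -⟩ := Exal3L.nonempty_equiv_of_hom (X := Y) (Y := X.pullback B) θ (fun y => rfl)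
      (fun z => Subtype.ext (Prod.ext (hψinr z) (Exal3L.proj_incl Y z)))
    exact ⟨e.symm⟩

end Groth.Agent.S5832
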