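import Groth.Statements.S5834
import Groth.Agent.Lib.Exal3.CharHom

set_option autoImplicit false
universe u v
open scoped TensorProduct
open EGA41

namespace Groth.Agent.S5834

/-- Let Λ → A → B be ring maps with B formally smooth over A, K an ideal of B, C = B ⧸ K, and suppose E
= B ⧸ K², as an extension of C by K/K², is Λ-trivial. Then the characteristic homomorphism χ :
Υ_{C/A/Λ} → K/K² of E as an A-extension relative to Λ → A is injective (so that, with the
description of its image as the kernel of K/K² → C ⊗_B Ω_{B/A}, the sequence 0 → Υ_{C/A/Λ} → K/K² →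
C ⊗_B Ω_{B/A} → Ω_{C/A} → 0 is exact). -/
theorem result {Λ : Type u} {A B : Type v} [CommRing Λ]
    [CommRing A] [CommRing B] [Algebra Λ A] [Algebra Λ B] [Algebra A B] [IsScalarTower Λ A B]
    [Algebra.FormallySmooth A B] (K : Ideal B)
    (htriv : ((Exal.Ext.infinitesimal K).restrictBase A).IsTrivialOver Λ)
    (χ : ↥(EGA41.imperfection Λ A (B ⧸ K)) →ₗ[B ⧸ K] K.Cotangent)
    (hχ : ((Exal.Ext.infinitesimal K).restrictBase A).IsCharHom Λ χ) :
    Function.Injective χ := by
  obtain ⟨S, φ, hφ, hz⟩ := Exal3L.exists_phi_toUpper K htriv χ hχ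
  obtain ⟨r, hr⟩ := Exal3L.exists_leftInverse_mapBaseChange (Λ := Λ) (A := A) (B := B)
  intro z z' h
  apply Subtype.ext
  have hmem : Exal3L.toUpper K ((z : (B ⧸ K) ⊗[A] Ω[A⁄Λ]) - (z' : (B ⧸ K) ⊗[A] Ω[A⁄Λ])) ∈ EGA41.imperfection Λ B (B ⧸ K) := by
    rw [EGA41.imperfection, LinearMap.mem_ker, Exal3L.mapBaseChange_toUpper]
    exact sub_mem z.2 z'.2
  have h0 := Exal3L.injOn_phi K S hφ hmem (by rw [map_sub, map_sub, ← hz, ← hz, h, sub_self])
  rw [map_sub, sub_eq_zero, Exal3L.toUpper_apply, Exal3L.toUpper_apply] at h0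
  have hinj : Function.Injective ((KaehlerDifferential.mapBaseChange Λ A B).baseChange (B ⧸ K)) := by
    refine Function.LeftInverse.injective (g := r.baseChange (B ⧸ K)) fun t => ?_
    rw [← LinearMap.comp_apply, ← LinearMap.baseChange_comp, show r ∘ₗ KaehlerDifferential.mapBaseChange Λ A B =
      LinearMap.id from LinearMap.ext hr, LinearMap.baseChange_id, LinearMap.id_apply]
  exact (LinearEquiv.injective _) (hinj h0)

end Groth.Agent.S5834
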