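import Groth.Statements.S5835
import Groth.Agent.Lib.Imperf4.Admissible

set_option autoImplicit false
universe v w
open scoped TensorProduct
open EGA41

namespace Groth.Agent.S5835

/-- For fields k₀ ⊆ k ⊆ K ⊆ L, the map of imperfection modules Υ_{L/K/k₀} → Υ_{L/K/k} induced by
Ω_{K/k₀} → Ω_{K/k} is injective (k is k₀-admissible for the extension L of K) in each of the
following cases: L is separable over k; L is separable over K; k lies in k₀(K^p), p the
characteristic exponent. Separable means geometrically reduced (not necessarily algebraic). -/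
theorem result {k : Type v} {k₀ K L : Type w}
    [Field k₀] [Field k] [Field K] [Field L] [Algebra k₀ k] [Algebra k₀ K] [Algebra k₀ L] [Algebra k K]
    [Algebra k L] [Algebra K L] [IsScalarTower k₀ k K] [IsScalarTower k₀ k L] [IsScalarTower k₀ K L]
    [IsScalarTower k K L] (p : ℕ) [ExpChar K p]
    (h : Algebra.IsGeometricallyReduced k L ∨ Algebra.IsGeometricallyReduced K L ∨
      ∀ x : k, algebraMap k K x ∈ EGA41.pPowerSubalgebra p k₀ K) :
    ∀ z : L ⊗[K] Ω[K⁄k₀], z ∈ EGA41.imperfection k₀ K L →
      (KaehlerDifferential.map k₀ k K K).baseChange L z = 0 → z = 0 := by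
  exact fun z hz hz0 => Groth.Agent.Imperf4.admissible p h z hz hz0

end Groth.Agent.S5835
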