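import Groth.Statements.S5836
import Groth.Agent.Lib.Imperf4.Tower

set_option autoImplicit false
universe u u' u'' w
open scoped TensorProduct
open EGA41

namespace Groth.Agent.S5836

/-- For fields k ⊆ k' ⊆ k'' ⊆ K ⊆ L put Δ(L/K, a/b) = ker(Υ_{L/K/b} → Υ_{L/K/a}) ⊆ L ⊗_K Ω_{K/b}. Then 0
→ Δ(L/K, k'/k) → Δ(L/K, k''/k) → Δ(L/K, k''/k') → 0 is exact: stated as the surjectivity of the map
induced by L ⊗_K Ω_{K/k} → L ⊗_K Ω_{K/k'} (exactness on the left and in the middle hold by
construction), together with the resulting identity of ranks d(L/K, k''/k) = d(L/K, k''/k') + d(L/K,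
k'/k). -/
theorem result {k : Type u} {k' : Type u'} {k'' : Type u''} {K L : Type w}
    [Field k] [Field k'] [Field k''] [Field K] [Field L]
    [Algebra k k'] [Algebra k k''] [Algebra k' k''] [IsScalarTower k k' k'']
    [Algebra k K] [Algebra k' K] [Algebra k'' K] [IsScalarTower k k' K] [IsScalarTower k' k'' K]
    [IsScalarTower k k'' K] [Algebra K L] [Algebra k L] [Algebra k' L] [Algebra k'' L]
    [IsScalarTower k K L] [IsScalarTower k' K L] [IsScalarTower k'' K L] :
    (∀ w : L ⊗[K] Ω[K⁄k'], w ∈ EGA41.imperfection k' K L →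
        (KaehlerDifferential.map k' k'' K K).baseChange L w = 0 →
          ∃ z : L ⊗[K] Ω[K⁄k], z ∈ EGA41.imperfection k K L ∧
            (KaehlerDifferential.map k k'' K K).baseChange L z = 0 ∧
              (KaehlerDifferential.map k k' K K).baseChange L z = w) ∧
      Module.rank L ↥(EGA41.imperfection k K L ⊓
            LinearMap.ker ((KaehlerDifferential.map k k'' K K).baseChange L)) =
        Module.rank L ↥(EGA41.imperfection k' K L ⊓
              LinearMap.ker ((KaehlerDifferential.map k' k'' K K).baseChange L)) +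
          Module.rank L ↥(EGA41.imperfection k K L ⊓
              LinearMap.ker ((KaehlerDifferential.map k k' K K).baseChange L)) := by
  exact ⟨fun w hw hw0 => Groth.Agent.Imperf4.exists_lift k k' k'' K L w hw hw0,
    Groth.Agent.Imperf4.rank_defect k k' k'' K L⟩

end Groth.Agent.S5836
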