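import Groth.Statements.S5837
import Groth.Agent.Lib.Imperf4.Tower

set_option autoImplicit false
universe u u' w
open scoped TensorProduct
open EGA41

namespace Groth.Agent.S5837

/-- Rank form. For fields k₀ ⊆ k ⊆ K ⊆ L ⊆ M, with Δ(F/E, k/k₀) = ker(Υ_{F/E/k₀} → Υ_{F/E/k}) and d its
rank, one has d(M/K, k/k₀) = d(M/L, k/k₀) + d(L/K, k/k₀) (cardinal ranks; the published statement
gives the short exact sequence 0 → Δ(L/K, k/k₀) ⊗_L M → Δ(M/K, k/k₀) → Δ(M/L, k/k₀) → 0, of which
this row states the rank identity). -/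
theorem result {k₀ : Type u} {k : Type u'} {K L M : Type w}
    [Field k₀] [Field k] [Field K] [Field L] [Field M] [Algebra k₀ k]
    [Algebra k₀ K] [Algebra k K] [IsScalarTower k₀ k K] [Algebra k₀ L] [Algebra k L] [IsScalarTower k₀ k L]
    [Algebra K L] [Algebra K M] [Algebra L M] [IsScalarTower K L M]
    [Algebra k₀ M] [Algebra k M] [IsScalarTower k₀ K L] [IsScalarTower k K L]
    [IsScalarTower k₀ K M] [IsScalarTower k K M] [IsScalarTower k₀ L M] [IsScalarTower k L M] :
    Module.rank M ↥(EGA41.imperfection k₀ K M ⊓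
          LinearMap.ker ((KaehlerDifferential.map k₀ k K K).baseChange M)) =
      Module.rank M ↥(EGA41.imperfection k₀ L M ⊓
            LinearMap.ker ((KaehlerDifferential.map k₀ k L L).baseChange M)) +
        Module.rank L ↥(EGA41.imperfection k₀ K L ⊓
            LinearMap.ker ((KaehlerDifferential.map k₀ k K K).baseChange L)) := by
  exact Groth.Agent.Imperf4.rank_tower k₀ k K L M

end Groth.Agent.S5837
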