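import Groth.Statements.S5851
import Groth.Agent.Lib.ZClos5.Support

set_option autoImplicit false
universe u
open ZClos

namespace Groth.Agent.S5851

open CategoryTheory CategoryTheory.Limits AlgebraicGeometry in
/-- For a locally Noetherian scheme X, a subset Z of X stable under specialization, O_X-modules F and F'
with F' Z-closed, and a homomorphism u : F → F', there is exactly one homomorphism v : H⁰_{X/Z}(F) →
F' with u = v ∘ ρ_{X/Z}. -/
theorem result (X : Scheme.{u}) [IsLocallyNoetherian X] (Z : Set X)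
    (hZ : StableUnderSpecialization Z) (F F' : X.Modules) (hF' : ZClos.IsZClosed Z F') (u : F ⟶ F') :
    ∃! v : (ZClos.H0 Z).obj F ⟶ F', ZClos.rhoApp Z F ≫ v = u := by
  haveI : IsIso (ZClos.rhoApp Z F') := hF'
  refine ⟨(ZClos.H0 Z).map u ≫ inv (ZClos.rhoApp Z F'), ?_, fun v hv => ?_⟩
  · show ZClos.rhoApp Z F ≫ _ = u
    rw [← Category.assoc, show ZClos.rhoApp Z F ≫ (ZClos.H0 Z).map u = u ≫ ZClos.rhoApp Z F' from
      ((ZClos.rho Z).naturality u).symm, Category.assoc, IsIso.hom_inv_id, Category.comp_id]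
  · rw [← sub_eq_zero]
    refine ZClos5.hom_eq_zero Z ((ZClos5.isZPure_iff Z F').1 (inferInstanceAs (Mono (ZClos.rhoApp Z F')))) _ ?_
    rw [Preadditive.comp_sub, hv, ← Category.assoc, show ZClos.rhoApp Z F ≫ (ZClos.H0 Z).map u = u ≫ ZClos.rhoApp Z F' from
      ((ZClos.rho Z).naturality u).symm, Category.assoc, IsIso.hom_inv_id, Category.comp_id, sub_self]

end Groth.Agent.S5851
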