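import Groth.Statements.S5853
import Groth.Agent.Lib.ZClos5.FlatPull
import Groth.Agent.S5841
-- import your own Groth.Agent.* helpers here

set_option autoImplicit false
universe u
open ZClos

namespace Groth.Agent.S5853

open CategoryTheory CategoryTheory.Limits AlgebraicGeometry in
/-- Let f : X' → X be a flat morphism of locally Noetherian schemes, Z a subset of X stable under
specialization, Z' = f⁻¹(Z) (again stable under specialization) and F a quasi-coherent O_X-module.
Then the inverse image f^*(H⁰_{X/Z}(F)) is isomorphic to H⁰_{X'/Z'}(f^* F). (The published statement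
asserts that the canonical base-change map is an isomorphism; this row asserts only that an
isomorphism of O_{X'}-modules exists.) -/
theorem result {X X' : Scheme.{u}} [IsLocallyNoetherian X] [IsLocallyNoetherian X'] (f : X' ⟶ X) [Flat f]
    (Z : Set X) (hZ : StableUnderSpecialization Z) (F : X.Modules) (hF : Coh.IsQCoh F) :
    Nonempty ((Scheme.Modules.pullback f).obj ((ZClos.H0 Z).obj F) ≅
      (ZClos.H0 (f.base ⁻¹' Z)).obj ((Scheme.Modules.pullback f).obj F)) := by
  exact ZClos5.nonempty_iso_pullback_H0 f Z hZ F (Groth.Agent.S5841.result X Z hZ F hF)

end Groth.Agent.S5853
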