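import Groth.Statements.S5860
import Groth.Agent.Lib.ZClos5.Locus

set_option autoImplicit false
universe u
open ZClos

namespace Groth.Agent.S5860

open CategoryTheory CategoryTheory.Limits AlgebraicGeometry in
/-- Let X be a locally Noetherian scheme and F a coherent O_X-module with support all of X, having no
associated point at which the local ring of X has dimension 1, and such that F' = H⁰_{X/Z}(F) is
coherent, Z = Z^(2)(X) being the set of points whose local ring has dimension at least 2. Then F'
satisfies (S_2): at every point x, depth(F'_x) ≥ min(2, dim F'_x). -/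
theorem result (X : Scheme.{u}) [IsLocallyNoetherian X] (F : X.Modules) (hF : Coh.IsCoh F)
    (hsupp : ∀ x : X, Nontrivial (F.presheaf.stalk x))
    (hass : ∀ x ∈ AssSch.Ass F, ringKrullDim (X.presheaf.stalk x) ≠ 1)
    (hH : Coh.IsCoh ((ZClos.H0 (ZClos.dimGe X 2)).obj F)) (x : X) :
    min (2 : WithBot ℕ∞) (Module.supportDim (X.presheaf.stalk x) (((ZClos.H0 (ZClos.dimGe X 2)).obj F).presheaf.stalk x)) ≤
      ((LocCoh.depth (X.presheaf.stalk x) (((ZClos.H0 (ZClos.dimGe X 2)).obj F).presheaf.stalk x) : ℕ∞) : WithBot ℕ∞) := by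
  have hZ := ZClos5.stableUnderSpecialization_dimGe (X := X) 2
  by_cases hx : x ∈ ZClos.dimGe X 2
  · refine (min_le_left _ _).trans ?_
    exact WithBot.coe_le_coe.2 ((ZClos5.closd_iff_depth _ hH _ hZ).1
      ((ZClos5.isZClosed_iff _ _).1 (ZClos5.isZClosed_H0 _ hZ F)) x hx)
  · refine (min_le_right _ _).trans ((Module.supportDim_le_ringKrullDim _ _).trans ?_)
    rcases ZClos5.ringKrullDim_cases x hx with h | h
    · rw [h]
      exact WithBot.coe_le_coe.2 bot_le
    · rw [h]
      let e := LinearEquiv.ofBijective (RefHull.stalkMapₗ (ZClos.rhoApp (ZClos.dimGe X 2) F) x)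
        (ZClos5.bijective_rhoStalk (ZClos.dimGe X 2) hZ F hx)
      have hd := ZClos5.one_le_depth_of_dim F hF hass x h
      rw [LocCoh.depth, DepthLib.idealDepth_congr e] at hd
      exact WithBot.coe_le_coe.2 hd

end Groth.Agent.S5860
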