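import Groth.Statements.S5861
import Groth.Agent.Lib.ZClos5.Locus

set_option autoImplicit false
universe u
open ZClos

namespace Groth.Agent.S5861

open CategoryTheory CategoryTheory.Limits AlgebraicGeometry in
/-- Suppose X is a locally Noetherian scheme and F is a coherent O_X-module whose support is the whole
of X. Assume no associated point of F has a local ring of X of dimension 1, and assume H⁰_{X/Z}(F)
is coherent, where Z = Z^(2)(X) denotes the set of points whose local ring has dimension at least 2.
Consider the set U of points x where F satisfies (S_2), meaning depth(F_{x'}) ≥ min(2, dim F_{x'})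
holds at every generization x' of x. Then U is an open subset, and the points lying outside U form a
set of codimension ≥ 2: the local ring at any such point has dimension at least 2. -/
theorem result (X : Scheme.{u}) [IsLocallyNoetherian X] (F : X.Modules) (hF : Coh.IsCoh F)
    (hsupp : ∀ x : X, Nontrivial (F.presheaf.stalk x))
    (hass : ∀ x ∈ AssSch.Ass F, ringKrullDim (X.presheaf.stalk x) ≠ 1)
    (hH : Coh.IsCoh ((ZClos.H0 (ZClos.dimGe X 2)).obj F)) :
    IsOpen {x : X | ∀ x' : X, x' ⤳ x →
        min (2 : WithBot ℕ∞) (Module.supportDim (X.presheaf.stalk x') (F.presheaf.stalk x')) ≤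
          ((LocCoh.depth (X.presheaf.stalk x') (F.presheaf.stalk x') : ℕ∞) : WithBot ℕ∞)} ∧
      ∀ x : X, (¬ ∀ x' : X, x' ⤳ x →
        min (2 : WithBot ℕ∞) (Module.supportDim (X.presheaf.stalk x') (F.presheaf.stalk x')) ≤
          ((LocCoh.depth (X.presheaf.stalk x') (F.presheaf.stalk x') : ℕ∞) : WithBot ℕ∞)) →
        (2 : WithBot ℕ∞) ≤ ringKrullDim (X.presheaf.stalk x) := by
  have hZ := ZClos5.stableUnderSpecialization_dimGe (X := X) 2
  have key : ∀ x' : X,
      (min (2 : WithBot ℕ∞) (Module.supportDim (X.presheaf.stalk x') (F.presheaf.stalk x')) ≤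
        ((LocCoh.depth (X.presheaf.stalk x') (F.presheaf.stalk x') : ℕ∞) : WithBot ℕ∞)) ↔
      (x' ∈ ZClos.dimGe X 2 → (2 : ℕ∞) ≤ LocCoh.depth (X.presheaf.stalk x') (F.presheaf.stalk x')) := by
    intro x'
    rw [ZClos5.supportDim_stalk F hF hsupp x']
    constructor
    · intro h hx'
      rw [min_eq_left (show (2 : WithBot ℕ∞) ≤ ringKrullDim (X.presheaf.stalk x') from hx')] at h
      exact WithBot.coe_le_coe.1 h
    · intro h
      by_cases hx' : x' ∈ ZClos.dimGe X 2
      · exact (min_le_left _ _).trans (WithBot.coe_le_coe.2 (h hx'))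
      · refine (min_le_right _ _).trans ?_
        rcases ZClos5.ringKrullDim_cases x' hx' with h | h
        · rw [h]
          exact WithBot.coe_le_coe.2 bot_le
        · rw [h]
          exact WithBot.coe_le_coe.2 (ZClos5.one_le_depth_of_dim F hF hass x' h)
  simp only [key]
  refine ⟨ZClos5.isOpen_depth_locus F hF _ hZ hH, fun x hx => ?_⟩
  by_contra hxZ
  exact hx fun x' hx' hZ' => absurd (hZ hx' hZ') hxZ

end Groth.Agent.S5861
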