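import Groth.Statements.S5864
import Mathlib.AlgebraicGeometry.Morphisms.UniversallyOpen
import Mathlib.AlgebraicGeometry.Morphisms.Preimmersion
-- import your own Groth.Agent.* helpers here

set_option autoImplicit false
universe u
open RadPt

set_option backward.isDefEq.respectTransparency.types false
open CategoryTheory AlgebraicGeometry CategoryTheory.Limits

namespace Groth.Agent.S5864

/-- Maximal points are the points without proper generization. -/
theorem mem_genericPoints_iff {X : Scheme.{u}} (x : X) : x ∈ genericPoints X ↔ ∀ z : X, z ⤳ x → z = x := by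
  constructor
  · intro hx z hz
    have h1 : closure ({x} : Set X) ⊆ closure {z} :=
      closure_minimal (Set.singleton_subset_iff.2 hz.mem_closure) isClosed_closure
    exact ((specializes_iff_mem_closure.2 (hx.2 isIrreducible_singleton.closure h1 (subset_closure rfl))).antisymm hz).eq.symm
  · intro hx
    refine ⟨isIrreducible_singleton.closure, fun Z hZ hle => ?_⟩
    obtain ⟨z, hz⟩ := QuasiSober.sober hZ.closure isClosed_closure
    have h2 : z ⤳ x := hz.specializes (subset_closure (hle (subset_closure rfl)))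
    have h3 := hx z h2
    subst h3
    rw [hz.def]
    exact subset_closure

open CategoryTheory AlgebraicGeometry in
/-- Let f : X → Y be a morphism of schemes whose induced morphism of reduced schemes is birational (f
maps the maximal points of X bijectively onto those of Y, with one-point fibres and trivial residue
field extensions over the maximal points of Y), g : Y' → Y a flat morphism and f' : X ×_Y Y' → Y'
the base change (any cartesian square). Then the morphism of reduced schemes induced by f' is
birational in the same sense. -/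
theorem result {X Y X' Y' : Scheme.{u}} {f : X ⟶ Y} {g : Y' ⟶ Y} [Flat g] {f' : X' ⟶ Y'} {g' : X' ⟶ X}
    (sq : IsPullback g' f' f g) (hf : RadPt.IsBirational f) : RadPt.IsBirational f' := by
  haveI : Flat g' := MorphismProperty.of_isPullback sq.flip ‹_›
  obtain ⟨hbij, hfib⟩ := hf
  have hgen : ∀ y' ∈ genericPoints Y', g y' ∈ genericPoints Y := by
    intro y' hy'
    rw [mem_genericPoints_iff] at hy' ⊢
    intro z hz
    obtain ⟨w, hw, rfl⟩ := Flat.generalizingMap g hz
    rw [hy' w hw]
  -- the fibre over a maximal point of `Y`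
  have hfib' : ∀ y ∈ genericPoints Y, ∃ x : X, x ∈ genericPoints X ∧ f x = y ∧
      ∃ (Z : Scheme.{u}) (a : Z ⟶ X'), IsPreimmersion (a ≫ f') ∧ Set.range a = g' ⁻¹' {x} ∧
        Set.range (a ≫ f') = g ⁻¹' {y} := by
    intro y hy
    obtain ⟨x, hx, rfl⟩ := hbij.surjOn hy
    refine ⟨x, hx, rfl, pullback g' (X.fromSpecResidueField x), pullback.fst _ _, ?_, ?_, ?_⟩
    all_goals haveI : IsIso (f.residueFieldMap x) :=
      (ConcreteCategory.isIso_iff_bijective _).2 ((hfib _ hy).2 x rfl)
    all_goals have hb : X.fromSpecResidueField x ≫ f =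
        Spec.map (f.residueFieldMap x) ≫ Y.fromSpecResidueField (f x) :=
      (Scheme.Hom.SpecMap_residueFieldMap_fromSpecResidueField f x).symm
    all_goals have hpb := ((IsPullback.of_hasPullback g' (X.fromSpecResidueField x)).flip.paste_vert sq).flip
    · haveI : IsPreimmersion (X.fromSpecResidueField x ≫ f) := by rw [hb]; infer_instance
      exact MorphismProperty.of_isPullback hpb.flip inferInstance
    · rw [Scheme.Pullback.range_fst, Scheme.range_fromSpecResidueField]
    · rw [← hpb.isoPullback_hom_fst, Scheme.Hom.comp_base, TopCat.coe_comp, Set.range_comp,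
        Set.range_eq_univ.2 hpb.isoPullback.hom.surjective, Set.image_univ, Scheme.Pullback.range_fst, hb]
      rw [Scheme.Hom.comp_base, TopCat.coe_comp, Set.range_comp,
        Set.range_eq_univ.2 (Spec.map (f.residueFieldMap x)).surjective, Set.image_univ,
        Scheme.range_fromSpecResidueField]
  have hdown : ∀ x' ∈ genericPoints X', g' x' ∈ genericPoints X := by
    intro x' hx'
    rw [mem_genericPoints_iff] at hx' ⊢
    intro z hz
    obtain ⟨w, hw, rfl⟩ := Flat.generalizingMap g' hz
    rw [hx' w hw]
  have hw : ∀ x' : X', g (f' x') = f (g' x') := fun x' => by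
    rw [← Scheme.Hom.comp_apply, ← Scheme.Hom.comp_apply, sq.w]
  -- points of `X'` over a maximal point of `Y'`
  have huniq : ∀ y' ∈ genericPoints Y', ∀ p q : X', f' p = y' → f' q = y' → p = q := by
    intro y' hy' p q hp hq
    obtain ⟨x, hx, hxy, Z, a, ha, hra, -⟩ := hfib' _ (hgen y' hy')
    have hmem : ∀ r : X', f' r = y' → r ∈ Set.range a := fun r hr => by
      rw [hra]
      show g' r = x
      exact (hfib _ (hgen y' hy')).1 _ _ (by rw [← hw, hr]) hxy
    obtain ⟨p₀, rfl⟩ := hmem p hp
    obtain ⟨q₀, rfl⟩ := hmem q hq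
    rw [(a ≫ f').isEmbedding.injective (a₁ := p₀) (a₂ := q₀)
      (by rw [Scheme.Hom.comp_apply, Scheme.Hom.comp_apply, hp, hq])]
  have hmaps : Set.MapsTo f' (genericPoints X') (genericPoints Y') := by
    intro x' hx'
    have hy : f (g' x') ∈ genericPoints Y := hbij.mapsTo (hdown x' hx')
    obtain ⟨x, hx, hxy, Z, a, ha, hra, hra'⟩ := hfib' _ hy
    rw [mem_genericPoints_iff]
    intro w hww
    have h1 : g w = f (g' x') :=
      (mem_genericPoints_iff _).1 hy _ (by rw [← hw]; exact hww.map g.continuous)
    obtain ⟨p, hp⟩ : w ∈ Set.range (a ≫ f') := by rw [hra']; exact h1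
    obtain ⟨q, hq⟩ : x' ∈ Set.range a := by
      rw [hra]; exact (hfib _ hy).1 _ _ rfl hxy
    have h2 : p ⤳ q := by
      rw [← (a ≫ f').isEmbedding.isInducing.specializes_iff, hp, Scheme.Hom.comp_apply, hq]
      exact hww
    rw [← hp, Scheme.Hom.comp_apply, (mem_genericPoints_iff _).1 hx' (a p) (hq ▸ h2.map a.continuous)]
  refine ⟨⟨hmaps, fun p hp q hq e => huniq _ (hmaps hp) p q rfl e.symm, fun y' hy' => ?_⟩,
    fun y' hy' => ⟨huniq y' hy', fun p hp => ?_⟩⟩
  · obtain ⟨x, hx, hxy, Z, a, ha, hra, hra'⟩ := hfib' _ (hgen y' hy')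
    obtain ⟨p, hp⟩ : y' ∈ Set.range (a ≫ f') := by rw [hra']; rfl
    refine ⟨a p, ?_, hp⟩
    rw [mem_genericPoints_iff]
    intro r hr
    refine huniq y' hy' r _ ?_ hp
    exact (mem_genericPoints_iff _).1 hy' _ (hp ▸ hr.map f'.continuous)
  · obtain ⟨x, hx, hxy, Z, a, ha, hra, -⟩ := hfib' _ (hgen y' hy')
    obtain ⟨p₀, rfl⟩ : p ∈ Set.range a := by
      rw [hra]
      exact (hfib _ (hgen y' hy')).1 _ _ (by rw [← hw, hp]) hxy
    have hs : Function.Surjective ((a ≫ f').residueFieldMap p₀).hom := by
      intro c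
      obtain ⟨c, rfl⟩ := IsLocalRing.residue_surjective c
      obtain ⟨d, rfl⟩ := (a ≫ f').stalkMap_surjective p₀ c
      have h1 := Scheme.residue_residueFieldMap (a ≫ f') p₀
      exact ⟨Y'.residue _ d, (ConcreteCategory.congr_hom h1 d)⟩
    rw [Scheme.residueFieldMap_comp] at hs
    refine ⟨(f'.residueFieldMap (a p₀)).hom.injective, fun c => ?_⟩
    obtain ⟨d, hd⟩ := hs (a.residueFieldMap p₀ c)
    exact ⟨d, (a.residueFieldMap p₀).hom.injective hd⟩

end Groth.Agent.S5864
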