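import Groth.Statements.S5867
import Groth.Agent.Lib.ZClos5.Locus

set_option autoImplicit false
universe u
open ZClos

namespace Groth.Agent.S5867

open CategoryTheory CategoryTheory.Limits AlgebraicGeometry in
/-- a) ⇒ d): for a locally Noetherian scheme X, a subset Z of X stable under specialization and a
coherent O_X-module F none of whose associated points lies in Z: if H⁰_{X/Z}(F) is coherent, then
for every closed subset T of X contained in Z the direct image i_*(F|X∖T) along the inclusion i : X
∖ T → X is coherent. -/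
theorem result (X : Scheme.{u}) [IsLocallyNoetherian X] (Z : Set X)
    (hZ : StableUnderSpecialization Z) (F : X.Modules) (hF : Coh.IsCoh F)
    (hass : ∀ x ∈ AssSch.Ass F, x ∉ Z) (hH : Coh.IsCoh ((ZClos.H0 Z).obj F)) (T : ZClos.Cl Z) :
    Coh.IsCoh ((ZClos.resPush T.U).obj F) := by
  have hpure : ZClos5.Pure Z F := (ZClos5.pure_iff_depth F hF Z hZ).2 fun x hx =>
    (ZClos5.one_le_depth_iff F hF x).2 fun h => hass x h hx
  haveI : Mono (colimit.ι ((ZClos.diagram Z).obj F) T) := by
    refine M1.mono_of_basis _ {W | IsAffineOpen W} X.isBasis_affineOpens fun V hV => ?_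
    refine (injective_iff_map_eq_zero _).2 fun a ha => ?_
    obtain ⟨t, rfl⟩ := (ZClos5.toPush_bijective F T.U V).2 a
    obtain ⟨T', hle, hT'⟩ := ZClos5.exists_of_ins_eq_zero Z F hV.isCompact t ha
    have h1 : t = 0 := hpure T' (V ⊓ T.U) (by
      show M1.mres F inf_le_left t = M1.mres F inf_le_left 0
      rw [map_zero, ← M1.mres_mres F (inf_le_inf_left V (ZClos.Cl.U_anti hle))
        (inf_le_inf_right T'.U inf_le_left : (V ⊓ T.U) ⊓ T'.U ≤ V ⊓ T'.U), hT', map_zero])
    rw [h1, map_zero]; rfl
  exact @M1.isCoh_of_mono _ _ _ _ (colimit.ι ((ZClos.diagram Z).obj F) T) (by assumption) hH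
    (M1.isQCoh_push T.U.ι (M1.isQCoh_restrict hF.1 T.U.ι))

end Groth.Agent.S5867
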