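import Groth.Statements.S5868
import Groth.Agent.Lib.ZClos5.Family
-- import your own Groth.Agent.* helpers here

set_option autoImplicit false
universe u
open ZClos

namespace Groth.Agent.S5868

open CategoryTheory CategoryTheory.Limits AlgebraicGeometry in
/-- d) ⇒ a), second sufficient condition: let X be a locally Noetherian scheme, Z a subset of X stable
under specialization and F a coherent O_X-module none of whose associated points lies in Z. Assume
that for every affine open V of X with ring A and every associated point x of F in V, with prime
ideal p ⊂ A, the domain A/p is universally catenary and N-1 (its integral closure is a finite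
module); that is, the reduced closed subschemes on the closures of the associated points of F are
universally catenary with finite normalization. If, for a directed family of closed subsets T of X
contained in Z and covering Z, each direct image i_*(F|X∖T) is coherent, then H⁰_{X/Z}(F) is
coherent. (The published statement also allows, in place of the condition on the closures of the
associated points, that X be locally immersible in a regular scheme; this row omits that
alternative.) -/
theorem result (X : Scheme.{u}) [IsLocallyNoetherian X] (Z : Set X)
    (hZ : StableUnderSpecialization Z) (F : X.Modules) (hF : Coh.IsCoh F)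
    (hass : ∀ x ∈ AssSch.Ass F, x ∉ Z)
    (hX : ∀ (V : X.Opens) (hV : IsAffineOpen V) (x : X) (hxV : x ∈ V), x ∈ AssSch.Ass F →
        CAlg.IsUniversallyCatenary (Γ(X, V) ⧸ (hV.primeIdealOf ⟨x, hxV⟩).asIdeal) ∧
          CAlg.IsN1 (Γ(X, V) ⧸ (hV.primeIdealOf ⟨x, hxV⟩).asIdeal))
    (𝒯 : Set (ZClos.Cl Z)) (hdir : DirectedOn (· ≤ ·) 𝒯) (hcov : ∀ z ∈ Z, ∃ T ∈ 𝒯, z ∈ (T.1 : Set X))
    (hd : ∀ T ∈ 𝒯, Coh.IsCoh ((ZClos.resPush T.U).obj F)) :
    Coh.IsCoh ((ZClos.H0 Z).obj F) := by
  refine ZClos5.isCoh_H0_of_family X Z hZ F hF hass (fun V hV x hxV hx => ?_) fun z hz => ?_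
  · haveI : IsNoetherianRing Γ(X, V) := IsLocallyNoetherian.component_noetherian ⟨V, hV⟩
    exact ZClos5.heightOneHullFinite_of_universallyCatenary (hX V hV x hxV hx).1 (hX V hV x hxV hx).2
  · obtain ⟨T, hT, hzT⟩ := hcov z hz
    exact ⟨T, hzT, hd T hT⟩

end Groth.Agent.S5868
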