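import Groth.Statements.S5869
import Groth.Agent.Lib.ZClos5.AffFinite
import Groth.Agent.Lib.ModM1.FT
-- import your own Groth.Agent.* helpers here

set_option autoImplicit false
universe u
open ZClos

namespace Groth.Agent.S5869

open CategoryTheory CategoryTheory.Limits AlgebraicGeometry in
/-- a) ⇔ b): for a Noetherian ring A with X = Spec A, the following are equivalent: a) for every prime
ideal q of A, writing B = A/q, the ring B^(1) (intersection of the localizations of B at its
height-one primes) is a finite B-algebra; b) for every finite A-module M and every subset Z of X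
stable under specialization such that, for every associated prime p of M not in Z and every prime p'
∈ Z containing p, the image of p' in A/p has height at least 2, the Z-closure H⁰_{X/Z} of the module
M~ is coherent. -/
theorem result (A : Type u) [CommRing A] [IsNoetherianRing A] :
    (∀ (q : Ideal A) [q.IsPrime], EGA4.HeightOneHullFinite (A ⧸ q)) ↔
      ∀ (M : Type u) [AddCommGroup M] [Module A M] [Module.Finite A M]
        (Z : Set (PrimeSpectrum A)), StableUnderSpecialization Z →
        (∀ x : PrimeSpectrum A, x.asIdeal ∈ associatedPrimes A M → x ∉ Z →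
          ∀ y ∈ Z, x.asIdeal ≤ y.asIdeal → (2 : ℕ∞) ≤ (y.asIdeal.map (Ideal.Quotient.mk x.asIdeal)).height) →
        Coh.IsCoh ((ZClos.H0 (X := Spec (CommRingCat.of A)) Z).obj (EGA4.tildeOf A M)) := by
  constructor
  · intro h M _ _ _ Z hZ hass
    haveI : IsNoetherianRing (CommRingCat.of A) := ‹IsNoetherianRing A›
    haveI : Coh.IsQCoh (EGA4.tildeOf A M) := ZClos5.isQCoh_tilde (ModuleCat.of (CommRingCat.of A) M)
    have hH := Groth.Agent.S5841.result _ Z hZ (EGA4.tildeOf A M) inferInstance
    refine ⟨hH, (M1.isFT_iff_finite_spec _ hH).2 (ZClos5.lfin_of_assPrimes (R := CommRingCat.of A) Z hZ M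
      fun p _ hp => ?_)⟩
    by_cases hpZ : (⟨p, inferInstance⟩ : PrimeSpectrum A) ∈ Z
    · exact ZClos5.lfin_quotient_of_mem (R := CommRingCat.of A) Z hZ p hpZ
    · exact ZClos5.lfin_quotient (R := CommRingCat.of A) Z hZ p hpZ
        (fun y hy hle => hass ⟨p, inferInstance⟩ hp hpZ y hy hle) (h p)
  · intro h q _
    haveI : IsNoetherianRing (CommRingCat.of A) := ‹IsNoetherianRing A›
    let Z : Set (PrimeSpectrum A) :=
      {y | q ≤ y.asIdeal ∧ (2 : ℕ∞) ≤ (y.asIdeal.map (Ideal.Quotient.mk q)).height}
    have hZ : StableUnderSpecialization Z := fun y y' hyy' hy => by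
      have hle : y.asIdeal ≤ y'.asIdeal := (PrimeSpectrum.le_iff_specializes y y').2 hyy'
      exact ⟨hy.1.trans hle, hy.2.trans (Ideal.height_mono (Ideal.map_mono hle))⟩
    have hqZ : (⟨q, inferInstance⟩ : PrimeSpectrum A) ∉ Z := fun hq => by
      have h2 := hq.2
      rw [Ideal.map_quotient_self, Ideal.height_eq_zero_iff_eq_bot.2 rfl] at h2
      exact absurd h2 (by decide)
    have hass : ∀ x : PrimeSpectrum A, x.asIdeal ∈ associatedPrimes A (A ⧸ q) → x.asIdeal = q := fun x hx => by
      obtain ⟨-, b, hb⟩ := isAssociatedPrime_iff.1 hx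
      obtain ⟨b, rfl⟩ := Ideal.Quotient.mk_surjective b
      have hbq : b ∉ q := fun hbq => x.isPrime.ne_top (hb.trans (eq_top_iff.2 fun c _ => by
        rw [Submodule.mem_colon_singleton, Ideal.Quotient.eq_zero_iff_mem.2 hbq, smul_zero]
        exact Submodule.zero_mem _))
      refine hb.trans (Ideal.ext fun c => ?_)
      rw [Submodule.mem_colon_singleton, Submodule.mem_bot]
      refine (Ideal.Quotient.eq_zero_iff_mem (a := c * b)).trans ⟨fun hcb => ?_, fun hc => q.mul_mem_right b hc⟩
      exact (‹q.IsPrime›.mem_or_mem hcb).resolve_right hbq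
    have hcoh := h (A ⧸ q) Z hZ fun x hx _ y hy _ => by rw [hass x hx]; exact hy.2
    refine ZClos5.heightOneHullFinite_of_lfin (R := CommRingCat.of A) Z hZ q hqZ (fun x hx hle => ?_)
      ((M1.isFT_iff_finite_spec _ hcoh.1).1 hcoh.2)
    refine Order.le_of_lt_add_one (lt_of_not_ge fun h2 => hx ⟨hle, ?_⟩)
    exact_mod_cast h2

end Groth.Agent.S5869
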