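import Groth.Statements.S5870
import Groth.Agent.Lib.ZClos5.Support
import Groth.Agent.Lib.CohFound.ModulesInst
import Groth.Agent.Lib.ModM1.FT

set_option autoImplicit false
universe u
open ZClos

namespace Groth.Agent.S5870

open CategoryTheory CategoryTheory.Limits AlgebraicGeometry in
/-- For a locally Noetherian scheme X, a subset Z of X stable under specialization and an arbitrary
O_X-module F, the Z-closure H⁰_{X/Z}(F) is zero if and only if the support of F is contained in Z,
that is, the stalk of F at every point outside Z is zero. -/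
theorem result (X : Scheme.{u}) [IsLocallyNoetherian X] (Z : Set X)
    (hZ : StableUnderSpecialization Z) (F : X.Modules) :
    IsZero ((ZClos.H0 Z).obj F) ↔ ∀ x : X, x ∉ Z → Subsingleton (F.presheaf.stalk x) := by
  constructor
  · intro h x hx
    have h1 := ZClos5.bijective_rhoStalk Z hZ F hx
    have h2 : IsZero (((ZClos.H0 Z).obj F).presheaf.stalk x) :=
      (Scheme.Modules.toPresheaf X ⋙ TopCat.Presheaf.stalkFunctor (C := Ab.{u}) x).map_isZero h
    haveI : Subsingleton (((ZClos.H0 Z).obj F).presheaf.stalk x) := AddCommGrpCat.subsingleton_of_isZero h2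
    exact h1.1.subsingleton
  · intro h
    rw [IsZero.iff_id_eq_zero]
    refine M1.hom_eq_zero_of_cover _ (fun _ : Unit => (⊤ : X.Opens)) (fun x => ⟨(), trivial⟩) fun _ => ?_
    ext W s
    show (𝟙 ((ZClos.H0 Z).obj F) : (ZClos.H0 Z).obj F ⟶ _).app _ s = 0
    refine M1.modules_eq_of_locally_eq ((ZClos.H0 Z).obj F) _
      (fun O : {O : X.Opens // IsCompact (O : Set X) ∧ O ≤ (⊤ : X.Opens).ι ''ᵁ W} => O.1)
      (fun O => O.2.2) (fun x hx => ?_) _ _ fun O => ?_
    · obtain ⟨O, hO, hxO, hOV⟩ := ZClos5.exists_compact_nhd _ x hx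
      exact TopologicalSpace.Opens.mem_iSup.2 ⟨⟨O, hO, hOV⟩, hxO⟩
    · obtain ⟨T, t, ht⟩ := ZClos5.exists_ins Z F O.2.1 (M1.mres _ O.2.2 s)
      refine Eq.trans ?_ (map_zero _).symm
      show M1.mres _ O.2.2 s = 0
      rw [← ht]
      refine ZClos5.ins_eq_zero_of_germ Z hZ T O.1 t fun x hx hxZ => ?_
      haveI := h x hxZ
      exact Subsingleton.elim _ _

end Groth.Agent.S5870
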