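import Groth.Statements.S5874
import Groth.Agent.Lib.Cons12.AssDims
-- import your own Groth.Agent.* helpers here

set_option autoImplicit false
set_option backward.isDefEq.respectTransparency false
universe u
open CategoryTheory AlgebraicGeometry
open Cons9

namespace Groth.Agent.S5874

/-- Let f : X ⟶ S be a morphism of finite presentation (locally of finite presentation, quasi-compact
and quasi-separated) and F a quasi-coherent O_X-module of finite presentation; for s in S let F_s be
the pullback of F to the scheme-theoretic fibre X_s and E(s) the finite set of dimensions of the
associated prime cycles of F_s (closures in X_s of the associated points of F_s). Then s ↦ E(s) is a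
locally constructible function on S: for every finite set Φ of natural numbers, the set of s with
E(s) = Φ is locally constructible. -/
theorem result {X S : Scheme.{u}} (f : X ⟶ S)
    [LocallyOfFinitePresentation f] [QuasiCompact f] [QuasiSeparated f]
    (F : X.Modules) [Coh.IsQCoh F] (hF : CohB1.IsFP F) (Φ : Finset ℕ) :
    Topology.IsLocallyConstructible {s : S |
      (fun z : ↥(f.fiber s) => topologicalKrullDim ↥(closure ({z} : Set ↥(f.fiber s)))) ''
          AssSch.Ass ((Scheme.Modules.pullback (f.fiberι s)).obj F) =
        (fun n : ℕ => (n : WithBot ℕ∞)) '' (Φ : Set ℕ)} := by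
  refine (congrArg Topology.IsLocallyConstructible (Set.ext fun s => ?_)).mp
    (Groth.Agent.Cons12.isLocallyConstructible_assDims_eq f F hF ((fun n : ℕ => (n : WithBot ℕ∞)) '' (Φ : Set ℕ)))
  simp only [Set.mem_setOf_eq]
  rw [Groth.Agent.Cons12.image_dim_ass f F hF s]

end Groth.Agent.S5874
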