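import Groth.Statements.S5876
import Groth.Agent.Lib.SpecLim13.Basic

set_option autoImplicit false
universe u
open CategoryTheory CategoryTheory.Limits AlgebraicGeometry
open Lim8

set_option backward.isDefEq.respectTransparency false
set_option backward.isDefEq.respectTransparency.types false

namespace Groth.Agent.S5876

/-- Let S be a scheme and (A_j) a filtered direct system of quasi-coherent O_S-algebras, indexed by a
small filtered category, with a colimit cocone with vertex A. Write S_j = Spec(A_j) and S' = Spec(A)
for the relative spectra, and u_j : S' ⟶ S_j for the morphisms induced by the coprojections A_j ⟶ A.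
Then (S', (u_j)) is a limit of the inverse system (S_j) in the category of all schemes (not only of
S-schemes): for every scheme T and every family of morphisms v_j : T ⟶ S_j compatible with the
transition morphisms, there is exactly one morphism w : T ⟶ S' whose composite with each u_j is v_j. -/
theorem result {S : Scheme.{u}} {J : Type u} [SmallCategory J] [IsFiltered J]
    (A : J ⥤ RelSpec.QCAlg S) (c : Cocone A) (hc : IsColimit c)
    (T : Scheme.{u}) (v : ∀ j : J, T ⟶ (A.obj j).spec)
    (hv : ∀ (j j' : J) (φ : j ⟶ j'), v j' ≫ RelSpec.QCAlg.specMap (A.map φ) = v j) :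
    ∃! w : T ⟶ c.pt.spec, ∀ j : J, w ≫ RelSpec.QCAlg.specMap (c.ι.app j) = v j := by
  obtain ⟨hL⟩ := SpecLim13.exists_isLimit A hc
  let s : Limits.Cone (SpecLim13.diag A) :=
    { pt := T
      π :=
        { app := fun j => v j.unop
          naturality := fun i j φ => (Category.id_comp _).trans (hv _ _ φ.unop).symm } }
  refine ⟨hL.lift s, fun j => hL.fac s (Opposite.op j), fun w hw => ?_⟩
  exact hL.uniq s w fun j => hw j.unop

end Groth.Agent.S5876
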