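import Groth.Statements.S5880
import Groth.Agent.Lib.ConsH13.Engine

set_option autoImplicit false
universe u
open CategoryTheory AlgebraicGeometry
open ConsProp

namespace Groth.Agent.S5880

/-- First assertion, constructible case, for a relation on morphisms: let P(f, X, Y, k) be a
constructible property of morphisms of algebraic schemes, S a scheme, and f : X ⟶ Y, g : Y ⟶ S
morphisms with g and f ≫ g of finite presentation (locally of finite presentation, quasi-compact and
quasi-separated), so that f is an S-morphism of S-schemes of finite presentation. Then the set of
points s of S such that P holds for the induced morphism of fibres f_s : X_s ⟶ Y_s over κ(s) is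
locally constructible in S. (The published statement is for relations involving a scheme and a
module; its closing remark extends statement and proof unchanged to relations involving morphisms of
schemes, which is the form given here.) -/
theorem result
    {P : ∀ ⦃X Y T : Scheme.{u}⦄, (X ⟶ Y) → (Y ⟶ T) → Prop} (hP : ConsProp.IsConsMor P)
    {X Y S : Scheme.{u}} (f : X ⟶ Y) (g : Y ⟶ S)
    [LocallyOfFinitePresentation g] [QuasiCompact g] [QuasiSeparated g]
    [LocallyOfFinitePresentation (f ≫ g)] [QuasiCompact (f ≫ g)] [QuasiSeparated (f ≫ g)] :
    Topology.IsLocallyConstructible (ConsProp.locusMor P f g) := by
  exact Groth.Agent.ConsH13.isLocallyConstructible_locusMor hP f g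

end Groth.Agent.S5880
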