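import Groth.Statements.S5882
import Groth.Agent.Lib.ConsH13.ModEngine

set_option autoImplicit false
universe u
open CategoryTheory AlgebraicGeometry
open ConsProp

namespace Groth.Agent.S5882

/-- Let P(X, F, k) be a constructible property of algebraic schemes with a coherent module, S an
irreducible scheme with generic point η, u : X ⟶ S a morphism of finite presentation (locally of
finite presentation, quasi-compact and quasi-separated), F a quasi-coherent O_X-module of finite
presentation, and E the set of points s of S such that P holds for (X_s, F_s) over κ(s). Then one of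
E and its complement is a neighbourhood of η in S. -/
theorem result
    {P : ∀ ⦃Y T : Scheme.{u}⦄, (Y ⟶ T) → Y.Modules → Prop} (hP : ConsProp.IsConsMod P)
    {X S : Scheme.{u}} [IrreducibleSpace S] (u : X ⟶ S)
    [LocallyOfFinitePresentation u] [QuasiCompact u] [QuasiSeparated u]
    (F : X.Modules) [Coh.IsQCoh F] (hF : CohB1.IsFP F) :
    genericPoint S ∈ interior (ConsProp.locusMod P u F) ∨
      genericPoint S ∈ interior (ConsProp.locusMod P u F)ᶜ := by
  have hE := Groth.Agent.ConsH13.isLocallyConstructible_locusMod u F hF hP
  obtain ⟨U, hU, hηU, -⟩ :=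
    exists_isAffineOpen_mem_and_subset (X := S) (x := genericPoint S) (U := ⊤) trivial
  obtain ⟨p, hp⟩ : genericPoint S ∈ Set.range hU.fromSpec := by rw [hU.range_fromSpec]; exact hηU
  have hC : Topology.IsConstructible (hU.fromSpec ⁻¹' ConsProp.locusMod P u F) :=
    (hE.preimage_of_isOpenEmbedding hU.fromSpec.isOpenEmbedding).isConstructible
  by_cases h : p ∈ hU.fromSpec ⁻¹' ConsProp.locusMod P u F
  · exact Or.inl (Groth.Agent.ConsH13.genericPoint_mem_interior hU.fromSpec hp hC h subset_rfl)
  · exact Or.inr (Groth.Agent.ConsH13.genericPoint_mem_interior hU.fromSpec hp hC.compl h subset_rfl)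

end Groth.Agent.S5882
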