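import Groth.Statements.S5885
import Groth.Agent.Lib.ConsH13.ForallFibre

set_option autoImplicit false
universe u
open CategoryTheory AlgebraicGeometry
open ConsProp

namespace Groth.Agent.S5885

/-- Let P(X, k) be an ind-constructible property of algebraic schemes, and let P'(f, X, Y, k) be the
relation on k-morphisms f : X ⟶ Y of algebraic k-schemes: for every point y of Y, P holds for the
fibre f⁻¹(y) over κ(y). Then P' is an ind-constructible property of morphisms of algebraic schemes. -/
theorem result
    {P : ∀ ⦃Y T : Scheme.{u}⦄, (Y ⟶ T) → Prop} (hP : ConsProp.IsIndCons P) :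
    ConsProp.IsIndConsMor
      (fun X Y T f g => ∀ y : ↥Y, P (f.fiberToSpecResidueField y)) := by
  exact Groth.Agent.ConsH13.isIndConsMor_forall_fiber hP

end Groth.Agent.S5885
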