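import Groth.Statements.S5888
import Groth.Agent.Lib.ConsH13.Apps

set_option autoImplicit false
universe u
open CategoryTheory AlgebraicGeometry
open ConsProp

namespace Groth.Agent.S5888

/-- For a given set Φ of values (natural numbers, with −∞ = ⊥ the dimension of the empty scheme), the
property of an algebraic k-scheme X that the dimension of X belongs to Φ is a constructible property
of algebraic schemes. The dimension is the Krull dimension of the underlying topological space,
valued in WithBot ℕ∞. -/
theorem result (Φ : Set (WithBot ℕ∞)) :
    ConsProp.IsCons (fun Y T g => topologicalKrullDim ↥Y ∈ Φ) := by
  exact Groth.Agent.ConsH13.isCons_dim_mem Φ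

end Groth.Agent.S5888
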