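import Groth.Statements.S5889
import Groth.Agent.Lib.ConsH13.Apps
import Groth.Agent.S3445

set_option autoImplicit false
universe u
open CategoryTheory AlgebraicGeometry
open ConsProp

namespace Groth.Agent.S5889

/-- Being quasi-finite (locally of finite type, quasi-compact, with discrete fibres) is a constructible
property of morphisms of algebraic schemes. -/
theorem result :
    ConsProp.IsConsMor
      (fun X Y T f g => AlgebraicGeometry.LocallyOfFiniteType f ∧ AlgebraicGeometry.QuasiCompact f ∧
        AlgebraicGeometry.LocallyQuasiFinite f) := by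
  haveI : (Groth.Agent.ConsH13.quasiFiniteProp).DescendsAlong
      (@AlgebraicGeometry.Surjective ⊓ @Flat ⊓ @QuasiCompact) := by
    refine ⟨fun sq hf hfst => ?_⟩
    have h1 := (Groth.Agent.FpqcDesc.descendsAlong_locallyQuasiFinite).of_isPullback sq hf
      ⟨hfst.2.2, hfst.1⟩
    exact ⟨h1.2, (Groth.Agent.FpqcDesc.descendsAlong_quasiCompact).of_isPullback sq hf hfst.2.1, h1.1⟩
  refine Groth.Agent.ConsH13.isConsMor_of_constructible Groth.Agent.ConsH13.quasiFiniteProp
    fun {X Y S} f g _ _ _ _ _ _ => ?_
  haveI : QuasiCompact f := QuasiCompact.of_comp f g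
  haveI : LocallyOfFiniteType f := locallyOfFiniteType_of_comp f g
  refine (congrArg Topology.IsLocallyConstructible (Set.ext fun s => ?_)).mp (Groth.Agent.S3445.result f g)
  exact ⟨fun h => ⟨CategoryTheory.MorphismProperty.of_isPullback (Groth.Agent.ConsH13.isPullback_fiberMap f g s) inferInstance,
    CategoryTheory.MorphismProperty.of_isPullback (Groth.Agent.ConsH13.isPullback_fiberMap f g s) inferInstance, h⟩,
    fun h => h.2.2⟩

end Groth.Agent.S5889
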