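import Groth.Statements.S5904
import Groth.Agent.Lib.ConsH13.Spreads
import Groth.Agent.S2074

set_option autoImplicit false
universe u
open CategoryTheory AlgebraicGeometry
open ConsPropPair

namespace Groth.Agent.S5904

set_option backward.isDefEq.respectTransparency false
set_option linter.style.haveILetI false

open CategoryTheory AlgebraicGeometry in
theorem spreads_isProper : Groth.Agent.ConsH13.Spreads.{u} @IsProper := by
  intro I _ _ D c hc _ i₀ _ _ X₀ Y₀ f₀ g₀ _ _ _ _ _ _ X Y f g qY qX hY hX hf
  haveI : IsProper f := hf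
  haveI : CompactSpace Y₀ := Descend.compactSpace_stage g₀
  haveI : QuasiSeparatedSpace Y₀ := Descend.quasiSeparatedSpace_stage g₀
  haveI : CompactSpace X₀ := Descend.compactSpace_stage (f₀ ≫ g₀)
  haveI : QuasiSeparatedSpace X₀ := Descend.quasiSeparatedSpace_stage (f₀ ≫ g₀)
  haveI : LocallyOfFiniteType f₀ := locallyOfFiniteType_of_comp f₀ g₀
  exact S2074.result D c hc i₀ f₀ g₀ f g qY qX hY hX


/-- Case of the property of being proper: let P(X, Y, k) be the relation between a field k and two
algebraic k-schemes X, Y: there are an extension field k′ of k (a one-point integral scheme T′ over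
T = Spec k) and a k′-morphism g : X_(k′) ⟶ Y_(k′) between the base changes (cartesian squares over
T′ ⟶ T) which is proper. Then P is an ind-constructible property of pairs of algebraic schemes. -/
theorem result :
    ConsPropPair.IsIndConsPair
      (fun X Y T gX gY => ∃ (T' X' Y' : Scheme.{u}) (h : T' ⟶ T) (gX' : X' ⟶ T') (gY' : Y' ⟶ T')
        (eX : X' ⟶ X) (eY : Y' ⟶ Y), IsIntegral T' ∧ Subsingleton ↥T' ∧
          IsPullback eX gX' gX h ∧ IsPullback eY gY' gY h ∧
            ∃ g : X' ⟶ Y', g ≫ gY' = gX' ∧ AlgebraicGeometry.IsProper g) := by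
  exact Groth.Agent.ConsH13.isIndConsPair_pairRel @AlgebraicGeometry.IsProper spreads_isProper

end Groth.Agent.S5904
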