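import Groth.Statements.S5910
import Groth.Agent.Lib.SepMod5.FlatBase
import Groth.Agent.Lib.FlatH4.InjCrit
-- import your own Groth.Agent.* helpers here

set_option autoImplicit false
universe u
open CategoryTheory AlgebraicGeometry
open TensorProduct
open EGA43

set_option backward.isDefEq.respectTransparency.types false
set_option maxHeartbeats 800000
open TensorProduct

namespace Groth.Agent.S5910

/-- A family which is jointly injective modulo a nilpotent ideal with free graded quotients. -/
theorem alg {A : Type u} [CommRing A] (J : Ideal A) (hJ : IsNilpotent J)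
    (hfree : ∀ k : ℕ, Module.Free (A ⧸ J) ((A ⧸ J) ⊗[A] ↥(J ^ k))) {M : Type u} [AddCommGroup M] [Module A M]
    {κ : Type u} {N : κ → Type u} [∀ i, AddCommGroup (N i)] [∀ i, Module A (N i)] [∀ i, Module.Flat A (N i)]
    (φ : ∀ i, M →ₗ[A] N i)
    (h0 : ∀ c : (A ⧸ J) ⊗[A] M, (∀ i, (φ i).lTensor (A ⧸ J) c = 0) → c = 0)
    (t : M) (ht : ∀ i, φ i t = 0) : t = 0 := by
  classical
  suffices ∀ k : ℕ, t ∈ J ^ k • (⊤ : Submodule A M) by
    obtain ⟨n, hn⟩ := hJ
    simpa [hn] using this n
  intro k
  induction k with
  | zero => simp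
  | succ k ih =>
    let mul : ∀ (P : Type u) [AddCommGroup P] [Module A P], ↥(J ^ k) ⊗[A] P →ₗ[A] P := fun P _ _ =>
      (TensorProduct.lid A P).toLinearMap.comp ((J ^ k).subtype.rTensor P)
    obtain ⟨τ, rfl⟩ : ∃ τ, mul M τ = t := by
      refine Submodule.smul_induction_on ih (fun a ha m _ => ⟨(⟨a, ha⟩ : ↥(J ^ k)) ⊗ₜ m, by simp [mul]⟩) ?_
      rintro _ _ ⟨a, rfl⟩ ⟨b, rfl⟩
      exact ⟨a + b, map_add _ _ _⟩
    haveI := hfree k
    let Q := (A ⧸ J) ⊗[A] ↥(J ^ k)
    let bs := Module.Free.ChooseBasisIndex (A ⧸ J) Q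
    let e : Q ≃ₗ[A] bs →₀ A ⧸ J := (Module.Free.chooseBasis (A ⧸ J) Q).repr.restrictScalars A
    let q : ↥(J ^ k) →ₗ[A] bs →₀ A ⧸ J := e.toLinearMap.comp (TensorProduct.mk A (A ⧸ J) ↥(J ^ k) 1)
    have hi : ∀ i, (φ i).lTensor ↥(J ^ k) τ = 0 := by
      intro i
      have hinj : Function.Injective (mul (N i)) := (TensorProduct.lid A (N i)).injective.comp
        (Module.Flat.rTensor_preserves_injective_linearMap (M := N i) _ Subtype.val_injective)
      apply hinj
      rw [map_zero, ← ht i]
      clear ih ht
      induction τ using TensorProduct.induction_on with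
      | zero => simp
      | add a b ha hb => simp only [map_add, ha, hb]
      | tmul a m => simp [mul]
    have hq : q.rTensor M τ = 0 := by
      apply (TensorProduct.finsuppLeft A A (A ⧸ J) M bs).injective
      rw [map_zero]
      ext b
      refine h0 _ fun i => ?_
      rw [TensorProduct.finsuppLeft_apply, ← LinearMap.comp_apply, LinearMap.lTensor_comp_rTensor,
        ← LinearMap.rTensor_comp_lTensor, LinearMap.comp_apply]
      rw [show (φ i).lTensor (bs →₀ A ⧸ J) (q.rTensor M τ) = 0 by
        rw [← LinearMap.comp_apply, LinearMap.lTensor_comp_rTensor, ← LinearMap.rTensor_comp_lTensor,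
          LinearMap.comp_apply, hi i, map_zero], map_zero]
    have h1 : (1 : A ⧸ J) ⊗ₜ[A] τ = 0 := by
      apply (TensorProduct.assoc A (A ⧸ J) ↥(J ^ k) M).symm.injective
      rw [map_zero]
      apply (LinearEquiv.rTensor M e).injective
      rw [map_zero, ← hq]
      clear hq hi ih ht
      induction τ using TensorProduct.induction_on with
      | zero => simp
      | add a b ha hb => simp only [tmul_add, map_add, ha, hb]
      | tmul a m => simp [q]; rfl
    have h2 := Submodule.mem_map_of_mem (f := mul M) ((FlatH4.one_tmul_eq_zero_iff J τ).1 h1)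
    rw [Submodule.map_smul''] at h2
    rw [pow_succ', Submodule.mul_smul]
    refine Submodule.smul_mono le_rfl ?_ h2
    rintro _ ⟨w, -, rfl⟩
    induction w using TensorProduct.induction_on with
    | zero => simp
    | add a b ha hb => rw [map_add]; exact add_mem ha hb
    | tmul a m =>
      show (TensorProduct.lid A M) ((a : A) ⊗ₜ m) ∈ _
      rw [TensorProduct.lid_tmul]
      exact Submodule.smul_mem_smul a.2 trivial

open CategoryTheory.Limits in
/-- Separating assertion: over an affine base and in the case Z_λ = X: let A be a commutative ring, p :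
X ⟶ Spec A an A-scheme, F a quasi-coherent O_X-module, (G_i) quasi-coherent O_X-modules flat over
Spec A and u_i : F ⟶ G_i homomorphisms. Let J be a nilpotent ideal of A all of whose successive
quotients J^k/J^{k+1} are free (A/J)-modules, and X₀ = X ×_{Spec A} Spec(A/J). If the family of
pullbacks of the u_i to X₀ is separating (a section of the pulled-back F over an open subset killed
by every member is zero), then (u_i) is separating. (The published statement has an arbitrary base
S, a nilpotent quasi-coherent ideal of O_S whose successive quotients are locally free over O_S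
modulo the ideal, homomorphisms into direct images (f_λ)_*G_λ, and the same assertion for
universally separating families; the assertion is local on S and on X, and this row is the case of
an affine base with free successive quotients and Z_λ = X.) -/
theorem result {X : Scheme.{u}} (A : CommRingCat.{u}) (p : X ⟶ Spec A)
    (J : Ideal ↑A) (hJ : IsNilpotent J) (hfree : ∀ k : ℕ, Module.Free (↑A ⧸ J) ((↑A ⧸ J) ⊗[↑A] ↥(J ^ k)))
    (F : X.Modules) [Coh.IsQCoh F] {ι : Type u} (G : ι → X.Modules) [∀ i, Coh.IsQCoh (G i)]
    (hG : ∀ i, FlatMod.IsFlatOver p (G i)) (u : ∀ i, F ⟶ G i)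
    (h0 : ∀ (V : (pullback p (Spec.map (CommRingCat.ofHom (Ideal.Quotient.mk J)))).Opens) (t : ↑(((Scheme.Modules.pullback (pullback.fst p (Spec.map (CommRingCat.ofHom (Ideal.Quotient.mk J))))).obj F).presheaf.obj (Opposite.op V))), (∀ i, (Scheme.Modules.Hom.mapPresheaf ((Scheme.Modules.pullback (pullback.fst p (Spec.map (CommRingCat.ofHom (Ideal.Quotient.mk J))))).map (u i))).app (Opposite.op V) t = 0) → t = 0) :
    ∀ (V : (X).Opens) (t : ↑((F).presheaf.obj (Opposite.op V))), (∀ i, (Scheme.Modules.Hom.mapPresheaf (u i)).app (Opposite.op V) t = 0) → t = 0 := by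
  refine SepMod5.separating_of_affine u fun V x hx => ?_
  obtain ⟨W, hW, hxW, hWV⟩ := exists_isAffineOpen_mem_and_subset (X := X) (x := x) (U := V) hx
  refine ⟨W, hW, hWV, hxW, ?_⟩
  let C := Γ(X, W)
  letI : Algebra A C := (SepMod5.baseMap p hW).hom.toAlgebra
  letI : Module A Γ(F, W) := Module.compHom _ (algebraMap A C)
  letI : ∀ i, Module A Γ(G i, W) := fun i => Module.compHom _ (algebraMap A C)
  haveI : IsScalarTower A C Γ(F, W) := IsScalarTower.of_algebraMap_smul fun _ _ => rfl
  haveI : ∀ i, IsScalarTower A C Γ(G i, W) := fun i => IsScalarTower.of_algebraMap_smul fun _ _ => rfl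
  haveI : ∀ i, Module.Flat A Γ(G i, W) := fun i => SepMod5.flat_sections_base p (G i) (hG i) hW
  let φ := fun i => (SchDom.appLin (u i) W).restrictScalars A
  intro t ht
  refine alg J hJ hfree φ ?_ t ht
  intro c hc
  let T := C ⊗[↑A] (↑A ⧸ J)
  have hT : ∀ z : T ⊗[C] Γ(F, W), (∀ i, (SchDom.appLin (u i) W).baseChange T z = 0) → z = 0 := by
    have hL := SepMod5.Separating.base_chart h0 hW (↑A ⧸ J) (𝟙 _) (Category.id_comp _) (1 : T)
    exact fun z hz => SepMod5.baseChange_eq_zero_congr (R := C)
      ((IsLocalization.atUnit T (Localization.Away (1 : T)) 1 isUnit_one).symm.restrictScalars C) _ hL z hz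
  let E : ∀ (P : Type u) [AddCommGroup P] [Module A P] [Module C P] [IsScalarTower A C P],
      (↑A ⧸ J) ⊗[↑A] P ≃ₗ[A] T ⊗[C] P := fun P _ _ _ _ =>
    (TensorProduct.comm A _ _).trans
      (((TensorProduct.comm C T P).trans (AlgebraTensorModule.cancelBaseChange A C C P (↑A ⧸ J))).symm.restrictScalars A)
  have hnat : ∀ i, (SchDom.appLin (u i) W).baseChange T (E Γ(F, W) c) =
      E Γ(G i, W) ((φ i).lTensor (↑A ⧸ J) c) := by
    intro i
    clear hc
    induction c using TensorProduct.induction_on with
    | zero => simp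
    | add a b ha hb => simp only [map_add, ha, hb]
    | tmul a m => rfl
  apply (E Γ(F, W)).injective
  rw [map_zero]
  refine hT _ fun i => ?_
  rw [hnat, hc i, map_zero]

end Groth.Agent.S5910
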