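import Groth.Statements.S5911
import Mathlib.RingTheory.Flat.Stability
import Mathlib.RingTheory.Flat.Localization
import Mathlib.RingTheory.Flat.Tensor
import Mathlib.Algebra.Module.Torsion.Basic
import Mathlib.RingTheory.Localization.BaseChange
import Mathlib.RingTheory.Filtration
import Mathlib.LinearAlgebra.TensorProduct.RightExactness
import Mathlib.RingTheory.Ideal.Quotient.Noetherian
import Mathlib.RingTheory.Localization.AtPrime.Extension


set_option autoImplicit false
universe u
open TensorProduct
open EGA43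

namespace Groth.Agent.S5911

variable {A : Type u} [CommRing A] (J : Ideal A) (M : Type u) [AddCommGroup M] [Module A M]

lemma lTensor_mk_eq_zero_iff (S : Submonoid A) (N : Type u) [AddCommGroup N] [Module A N]
    (z : N ⊗[A] M) :
    (LocalizedModule.mkLinearMap S M).lTensor N z = 0 ↔ ∃ s ∈ S, s • z = 0 := by
  let g := AlgebraTensorModule.rTensor A N (LocalizedModule.mkLinearMap S M)
  have hg : ∀ z : N ⊗[A] M, g (TensorProduct.comm A N M z) =
      TensorProduct.comm A N _ ((LocalizedModule.mkLinearMap S M).lTensor N z) := by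
    intro z
    induction z using TensorProduct.induction_on with
    | zero => simp
    | tmul n m => rfl
    | add u v hu hv => simp [map_add, hu, hv]
  rw [← LinearEquiv.map_eq_zero_iff (TensorProduct.comm A N _), ← hg,
    IsLocalizedModule.eq_zero_iff S g]
  constructor
  · rintro ⟨⟨s, hs⟩, h⟩
    refine ⟨s, hs, (LinearEquiv.map_eq_zero_iff (TensorProduct.comm A N M)).mp ?_⟩
    rw [map_smul]; exact h
  · rintro ⟨s, hs, h⟩
    refine ⟨⟨s, hs⟩, ?_⟩
    change s • (TensorProduct.comm A N M z) = 0
    rw [← map_smul, h, map_zero]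

lemma killed_of_map_killed (S : Submonoid A) [Module.Flat A (LocalizedModule S M)]
    {N N' : Type u} [AddCommGroup N] [Module A N] [AddCommGroup N'] [Module A N']
    (ι : N' →ₗ[A] N) (hι : Function.Injective ι) (z : N' ⊗[A] M) (s : S)
    (h : (s : A) • ι.rTensor M z = 0) : ∃ t ∈ S, t • z = 0 := by
  refine (lTensor_mk_eq_zero_iff M S N' z).mp ?_
  refine Module.Flat.rTensor_preserves_injective_linearMap (M := LocalizedModule S M) ι hι ?_
  rw [map_zero, ← (lTensor_mk_eq_zero_iff M S N (ι.rTensor M z)).mpr ⟨s, s.2, h⟩]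
  rw [← LinearMap.comp_apply, ← LinearMap.comp_apply, LinearMap.rTensor_comp_lTensor,
    LinearMap.lTensor_comp_rTensor]

lemma rTensor_injective_of_quot [Module.Flat (A ⧸ J) ((A ⧸ J) ⊗[A] M)]
    {N N' : Type u} [AddCommGroup N] [Module A N] [Module (A ⧸ J) N] [IsScalarTower A (A ⧸ J) N]
    [AddCommGroup N'] [Module A N'] [Module (A ⧸ J) N'] [IsScalarTower A (A ⧸ J) N']
    (ψ : N →ₗ[A ⧸ J] N') (hψ : Function.Injective ψ) :
    Function.Injective ((ψ.restrictScalars A).rTensor M) := by
  let e := AlgebraTensorModule.cancelBaseChange A (A ⧸ J) (A ⧸ J) N M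
  let e' := AlgebraTensorModule.cancelBaseChange A (A ⧸ J) (A ⧸ J) N' M
  have h : ∀ z, (ψ.restrictScalars A).rTensor M (e z) =
      e' (ψ.rTensor ((A ⧸ J) ⊗[A] M) z) := by
    intro z
    induction z using TensorProduct.induction_on with
    | zero => simp
    | add u v hu hv => simp only [map_add, hu, hv]
    | tmul n bm =>
      induction bm using TensorProduct.induction_on with
      | zero => simp
      | add u v hu hv => simp only [TensorProduct.tmul_add, map_add, hu, hv]
      | tmul b m => simp [e, e']
  have hinj : Function.Injective (ψ.rTensor ((A ⧸ J) ⊗[A] M)) :=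
    Module.Flat.rTensor_preserves_injective_linearMap ψ hψ
  intro u v huv
  obtain ⟨u, rfl⟩ := e.surjective u
  obtain ⟨v, rfl⟩ := e.surjective v
  rw [h, h] at huv
  rw [hinj (e'.injective huv)]

variable {r : ℕ} (p : Fin r → Ideal A) [∀ i, (p i).IsPrime]

lemma base_case (hJ : Module.Flat (A ⧸ J) ((A ⧸ J) ⊗[A] M))
    (N : Type u) [AddCommGroup N] [Module A N]
    (hN : ∀ j ∈ J, ∀ x : N, j • x = 0)
    (hsN : ∀ x : N, (∀ i, ∃ s ∈ (p i).primeCompl, s • x = 0) → x = 0)
    (z : N ⊗[A] M) (hz : ∀ i, ∃ s ∈ (p i).primeCompl, s • z = 0) : z = 0 := by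
  classical
  let P := ∀ i, LocalizedModule (p i).primeCompl N
  let ψ : N →ₗ[A] P := LinearMap.pi fun i => LocalizedModule.mkLinearMap _ N
  have hψ : Function.Injective ψ := by
    rw [injective_iff_map_eq_zero]
    intro x hx
    refine hsN x fun i => ?_
    obtain ⟨⟨s, hs⟩, h⟩ := (IsLocalizedModule.eq_zero_iff (p i).primeCompl
      (LocalizedModule.mkLinearMap (p i).primeCompl N)).mp (congrFun hx i)
    exact ⟨s, hs, h⟩
  have tN : Module.IsTorsionBySet A N (J : Set A) := fun x j => hN j j.2 x
  have tP : Module.IsTorsionBySet A P (J : Set A) := by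
    rintro x ⟨j, hj⟩
    funext i
    change j • x i = 0
    induction x i using LocalizedModule.induction_on with
    | _ m s => rw [LocalizedModule.smul'_mk, hN j hj, LocalizedModule.zero_mk]
  let _ : Module (A ⧸ J) N := tN.module
  have : IsScalarTower A (A ⧸ J) N := tN.isScalarTower
  let _ : Module (A ⧸ J) P := tP.module
  have : IsScalarTower A (A ⧸ J) P := tP.isScalarTower
  let ψ' : N →ₗ[A ⧸ J] P :=
    ψ.extendScalarsOfSurjective Ideal.Quotient.mk_surjective
  have := rTensor_injective_of_quot J M ψ' hψ
  refine this ?_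
  rw [map_zero]
  change ψ.rTensor M z = 0
  have hid : (LinearMap.id : P →ₗ[A] P) =
      ∑ i, (LinearMap.single A (fun i => LocalizedModule (p i).primeCompl N) i) ∘ₗ
        LinearMap.proj i := by
    refine LinearMap.ext fun x => funext fun j => ?_
    simp [LinearMap.sum_apply, Finset.sum_apply, Pi.single_apply]
    rfl
  have : LinearMap.rTensor M (LinearMap.id : P →ₗ[A] P) (ψ.rTensor M z) = 0 := by
    rw [hid]
    have hsum : ∀ (f : Fin r → (P →ₗ[A] P)),
        LinearMap.rTensor M (∑ i, f i) = ∑ i, LinearMap.rTensor M (f i) :=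
      fun f => map_sum (LinearMap.rTensorHom M) f _
    rw [hsum, LinearMap.sum_apply]
    refine Finset.sum_eq_zero fun i _ => ?_
    rw [LinearMap.rTensor_comp_apply]
    obtain ⟨s, hs, hsz⟩ := hz i
    have hu := IsLocalizedModule.map_units (LocalizedModule.mkLinearMap (p i).primeCompl N) ⟨s, hs⟩
    obtain ⟨u, hu⟩ := hu
    have h1 : (s : A) • (LinearMap.proj i : P →ₗ[A] _).rTensor M (ψ.rTensor M z) = 0 := by
      rw [← map_smul, ← map_smul, hsz, map_zero, map_zero]
    have hv : ∀ q, (↑u⁻¹ : Module.End A (LocalizedModule (p i).primeCompl N)) (s • q) = q := by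
      intro q
      have h := LinearMap.congr_fun u.inv_mul q
      rw [Module.End.mul_apply, hu] at h
      exact h
    have hsv : s • (↑u⁻¹ : Module.End A (LocalizedModule (p i).primeCompl N)) = LinearMap.id := by
      refine LinearMap.ext fun q => ?_
      rw [LinearMap.smul_apply, ← map_smul, hv, LinearMap.id_apply]
    have h3 : (LinearMap.proj i : P →ₗ[A] _).rTensor M (ψ.rTensor M z) = 0 := by
      rw [← LinearMap.rTensor_id_apply M (LocalizedModule (p i).primeCompl N)
        ((LinearMap.proj i : P →ₗ[A] _).rTensor M (ψ.rTensor M z)), ← hsv, LinearMap.rTensor_smul,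
        LinearMap.smul_apply, ← map_smul, h1, map_zero]
    rw [h3, map_zero]
  simpa using this

lemma eq_zero_of_locally_killed [IsNoetherianRing A]
    (hJ : Module.Flat (A ⧸ J) ((A ⧸ J) ⊗[A] M))
    (hloc : ∀ i, Module.Flat A (LocalizedModule (p i).primeCompl M)) (k : ℕ) :
    ∀ (N : Type u) [AddCommGroup N] [Module A N] (_ : ∀ j ∈ J ^ k, ∀ x : N, j • x = 0)
    (_ : ∀ x : N, (∀ i, ∃ s ∈ (p i).primeCompl, s • x = 0) → x = 0)
    (z : N ⊗[A] M) (_ : ∀ i, ∃ s ∈ (p i).primeCompl, s • z = 0), z = 0 := by
  induction k with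
  | zero =>
    intro N _ _ hN _ z _
    haveI : Subsingleton N := subsingleton_of_forall_eq 0 fun x => by
      have := hN 1 (by simp) x
      rwa [one_smul] at this
    exact Subsingleton.elim _ _
  | succ k ih =>
    intro N _ _ hN hsN z hz
    obtain ⟨T, hT⟩ := J.fg_of_isNoetherianRing
    let φ : N →ₗ[A] (T → N) := LinearMap.pi fun j => (j : A) • LinearMap.id
    have hrange : (φ.rangeRestrict.rTensor M) z = 0 := by
      refine ih (LinearMap.range φ) ?_ ?_ _ fun i => ?_
      · rintro a ha ⟨_, x, rfl⟩
        ext t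
        change a • ((t : A) • x) = 0
        rw [smul_smul]
        refine hN _ ?_ x
        rw [pow_succ]
        exact Ideal.mul_mem_mul ha (hT ▸ Submodule.subset_span t.2)
      · rintro ⟨y, hy⟩ hk
        ext t
        refine hsN _ fun i => ?_
        obtain ⟨s, hs, h⟩ := hk i
        exact ⟨s, hs, congrFun (congrArg Subtype.val h) t⟩
      · obtain ⟨s, hs, h⟩ := hz i
        exact ⟨s, hs, by rw [← map_smul, h, map_zero]⟩
    have hex : Function.Exact (LinearMap.ker φ).subtype φ.rangeRestrict :=
      LinearMap.exact_iff.mpr (by rw [LinearMap.ker_rangeRestrict, Submodule.range_subtype])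
    obtain ⟨y, hy⟩ := (rTensor_exact M hex φ.surjective_rangeRestrict z).mp hrange
    have hy0 : y = 0 := by
      refine base_case J M p hJ (LinearMap.ker φ) ?_ ?_ y fun i => ?_
      · rintro j hj ⟨x, hx⟩
        ext
        have hle : J ≤ Submodule.annihilator (Submodule.span A {x}) := by
          rw [← hT, Submodule.span_le]
          intro t ht
          rw [SetLike.mem_coe, Submodule.mem_annihilator_span_singleton]
          exact congrFun hx ⟨t, ht⟩
        exact (Submodule.mem_annihilator_span_singleton x j).mp (hle hj)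
      · intro x hk
        ext
        refine hsN _ fun i => ?_
        obtain ⟨s, hs, h⟩ := hk i
        exact ⟨s, hs, congrArg Subtype.val h⟩
      · obtain ⟨s, hs, h⟩ := hz i
        haveI := hloc i
        exact killed_of_map_killed M (p i).primeCompl _ (Submodule.injective_subtype _) y ⟨s, hs⟩
          (by rw [hy]; exact h)
    rw [← hy, hy0, map_zero]


/-- Let A be a Noetherian ring, J an ideal of A and M an A-module which is ideally separated for the
J-adic topology (for every ideal a of A the module a ⊗_A M is J-adically separated). Let (p_i) be a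
finite family of prime ideals of A containing J, let J_n be the intersection of the symbolic powers
p_i^{(n)} (preimages in A of the n-th powers of the maximal ideals of the local rings A_{p_i}), and
assume every power J^n contains some J_m. Then M is flat if and only if (A/J) ⊗_A M is flat over A/J
and M_{p_i} is flat over A_{p_i} for every i. -/
theorem result {A : Type u} [CommRing A] [IsNoetherianRing A]
    (J : Ideal A) (M : Type u) [AddCommGroup M] [Module A M]
    (hsep : ∀ a : Ideal A, IsHausdorff J (↥a ⊗[A] M))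
    {r : ℕ} (p : Fin r → Ideal A) [∀ i, (p i).IsPrime] (hp : ∀ i, J ≤ p i)
    (htop : ∀ n : ℕ, ∃ m : ℕ,
      ⨅ i, Ideal.comap (algebraMap A (Localization.AtPrime (p i))) (IsLocalRing.maximalIdeal (Localization.AtPrime (p i)) ^ m) ≤ J ^ n) :
    Module.Flat A M ↔
      Module.Flat (A ⧸ J) ((A ⧸ J) ⊗[A] M) ∧
        ∀ i, Module.Flat (Localization.AtPrime (p i)) (LocalizedModule (p i).primeCompl M) := by
  constructor
  · intro hflat
    exact ⟨inferInstance, fun i => inferInstance⟩
  · rintro ⟨hJ, hloc⟩
    have hloc' : ∀ i, Module.Flat A (LocalizedModule (p i).primeCompl M) := fun i =>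
      haveI := hloc i
      haveI : Module.Flat A (Localization.AtPrime (p i)) :=
        IsLocalization.flat (Localization.AtPrime (p i)) (p i).primeCompl
      Module.Flat.trans A (Localization.AtPrime (p i)) _
    rw [Module.Flat.iff_rTensor_injective']
    intro a
    rw [injective_iff_map_eq_zero]
    intro x hx
    refine (hsep a).haus x fun n => SModEq.zero.mpr ?_
    obtain ⟨k, hk⟩ := Ideal.exists_pow_inf_eq_pow_smul J (M := A) a
    obtain ⟨m, hm⟩ := htop (n + k)
    let Jm : Ideal A := ⨅ i, Ideal.comap (algebraMap A (Localization.AtPrime (p i)))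
      (IsLocalRing.maximalIdeal (Localization.AtPrime (p i)) ^ m)
    have hJm : J ^ m ≤ Jm := by
      refine le_iInf fun i => ?_
      rw [← Ideal.map_le_iff_le_comap, Ideal.map_pow, ← Localization.AtPrime.map_eq_maximalIdeal]
      exact Ideal.pow_right_mono (Ideal.map_mono (hp i)) m
    let K : Submodule A a := Submodule.comap a.subtype Jm
    have h0 : K.mkQ.rTensor M x = 0 := by
      refine eq_zero_of_locally_killed J M p hJ hloc' m (a ⧸ K) ?_ ?_ _ ?_
      · rintro j hj ⟨y⟩
        change Submodule.Quotient.mk (j • y) = 0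
        rw [Submodule.Quotient.mk_eq_zero]
        exact Ideal.mul_mem_right _ _ (hJm hj)
      · rintro ⟨y⟩ hy
        change Submodule.Quotient.mk y = 0
        rw [Submodule.Quotient.mk_eq_zero]
        refine Submodule.mem_iInf _ |>.mpr fun i => ?_
        obtain ⟨s, hs, hsy⟩ := hy i
        change Submodule.Quotient.mk (s • y) = 0 at hsy
        rw [Submodule.Quotient.mk_eq_zero] at hsy
        have h2 := Submodule.mem_iInf _ |>.mp hsy i
        change algebraMap A (Localization.AtPrime (p i)) (s * (y : A)) ∈
          IsLocalRing.maximalIdeal (Localization.AtPrime (p i)) ^ m at h2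
        rw [map_mul] at h2
        change algebraMap A (Localization.AtPrime (p i)) (y : A) ∈
          IsLocalRing.maximalIdeal (Localization.AtPrime (p i)) ^ m
        exact (Ideal.unit_mul_mem_iff_mem _
          (IsLocalization.map_units (Localization.AtPrime (p i)) ⟨s, hs⟩)).mp h2
      · intro i
        haveI := hloc' i
        obtain ⟨t, ht, hts⟩ := killed_of_map_killed M (p i).primeCompl a.subtype
          a.injective_subtype x 1 (by rw [Submonoid.coe_one, one_smul]; exact hx)
        exact ⟨t, ht, by rw [← map_smul, hts, map_zero]⟩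
    obtain ⟨y, hy⟩ := (rTensor_exact M (LinearMap.exact_subtype_mkQ K)
      K.mkQ_surjective x).mp h0
    rw [← hy]
    clear hy h0
    induction y using TensorProduct.induction_on with
    | zero => rw [map_zero]; exact zero_mem _
    | add u v hu hv => rw [map_add]; exact add_mem hu hv
    | tmul c w =>
      rw [LinearMap.rTensor_tmul]
      have hc : ((c : a) : A) ∈ J ^ n • a := by
        have h1 : ((c : a) : A) ∈ J ^ (n + k) • ⊤ ⊓ a :=
          ⟨by rw [smul_eq_mul, Ideal.mul_top]; exact hm c.2, (c : a).2⟩
        rw [hk (n + k) (Nat.le_add_left k n), Nat.add_sub_cancel] at h1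
        exact Submodule.smul_mono le_rfl inf_le_right h1
      have hmem : ∀ u : A, u ∈ J ^ n • a → ∃ hu : u ∈ a, (⟨u, hu⟩ : a) ⊗ₜ[A] w ∈
          (J ^ n • ⊤ : Submodule A (a ⊗[A] M)) := by
        intro u hu
        refine Submodule.smul_induction_on hu ?_ ?_
        · intro j hj b hb
          refine ⟨Submodule.smul_mem a j hb, ?_⟩
          have : (⟨j • b, Submodule.smul_mem a j hb⟩ : a) ⊗ₜ[A] w = j • ((⟨b, hb⟩ : a) ⊗ₜ[A] w) :=
            TensorProduct.smul_tmul' j (⟨b, hb⟩ : a) w |>.symm
          rw [this]
          exact Submodule.smul_mem_smul hj Submodule.mem_top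
        · rintro u v ⟨hu, hu'⟩ ⟨hv, hv'⟩
          refine ⟨add_mem hu hv, ?_⟩
          have : (⟨u + v, add_mem hu hv⟩ : a) ⊗ₜ[A] w =
              (⟨u, hu⟩ : a) ⊗ₜ[A] w + (⟨v, hv⟩ : a) ⊗ₜ[A] w :=
            TensorProduct.add_tmul (⟨u, hu⟩ : a) ⟨v, hv⟩ w
          rw [this]
          exact add_mem hu' hv'
      exact (hmem _ hc).2


end Groth.Agent.S5911
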