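import Groth.Statements.S5912
import Groth.Agent.Lib.FlatH4.LocCrit
import Mathlib.RingTheory.Ideal.AssociatedPrime.Finiteness
import Mathlib.RingTheory.Flat.Localization
import Mathlib.RingTheory.Flat.TorsionFree
import Mathlib.RingTheory.Regular.IsSMulRegular
import Mathlib.RingTheory.Localization.BaseChange

set_option autoImplicit false
universe u
open TensorProduct
open EGA43

namespace Groth.Agent.S5912

section
variable {A : Type u} [CommRing A] [IsNoetherianRing A] (J : Ideal A) (M : Type u) [AddCommGroup M]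
  [Module A M]

/-- `ι ⊗ M` is injective if `ι : P → B` is, `P` is killed by `J`, flat over `A/J`, and `M` is flat
at the associated primes of `A/J`. -/
theorem lTensor_injective_of_ass
    (h2 : Module.Flat (A ⧸ J) ((A ⧸ J) ⊗[A] M))
    (hq : ∀ q ∈ associatedPrimes A (A ⧸ J), ∀ (_ : q.IsPrime),
      Module.Flat (Localization.AtPrime q) (LocalizedModule q.primeCompl M))
    {P B : Type u} [AddCommGroup P] [Module A P] [AddCommGroup B] [Module A B]
    (hP : Module.IsTorsionBySet A P (J : Set A))
    (hPflat : Module.Flat (A ⧸ J) ((A ⧸ J) ⊗[A] P))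
    (f : P →ₗ[A] B) (hf : Function.Injective f) : Function.Injective (f.lTensor M) := by
  rw [injective_iff_map_eq_zero]
  intro x hx
  let an : Ideal A := Submodule.annihilator (A ∙ x)
  have key : ∀ q ∈ associatedPrimes A (A ⧸ J), ¬ an ≤ q := by
    intro q hqm hle
    have : q.IsPrime := IsAssociatedPrime.isPrime hqm
    have := hq q hqm inferInstance
    have : Module.Flat A (LocalizedModule q.primeCompl M) :=
      Module.Flat.trans A (Localization.AtPrime q) _
    let g : M →ₗ[A] LocalizedModule q.primeCompl M := LocalizedModule.mkLinearMap q.primeCompl M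
    let gP : M ⊗[A] P →ₗ[A] LocalizedModule q.primeCompl M ⊗[A] P :=
      AlgebraTensorModule.rTensor A P g
    have : IsLocalizedModule q.primeCompl gP :=
      IsLocalizedModule.rTensor _ q.primeCompl g
    have hgx : gP x = 0 := by
      apply Module.Flat.lTensor_preserves_injective_linearMap
        (M := LocalizedModule q.primeCompl M) f hf
      rw [map_zero]
      show f.lTensor _ (g.rTensor P x) = 0
      rw [← LinearMap.comp_apply, LinearMap.lTensor_comp_rTensor, ← LinearMap.rTensor_comp_lTensor,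
        LinearMap.comp_apply, hx, map_zero]
    obtain ⟨s, hs⟩ := (IsLocalizedModule.eq_zero_iff q.primeCompl gP).1 hgx
    exact s.2 (hle ((Submodule.mem_annihilator_span_singleton _ _).2 hs))
  obtain ⟨s, hs, hsreg⟩ : ∃ s ∈ an, IsSMulRegular (A ⧸ J) s := by
    by_contra hcon
    push Not at hcon
    have hsub : (an : Set A) ⊆ ⋃ q ∈ (associatedPrimes.finite A (A ⧸ J)).toFinset,
        ((id q : Ideal A) : Set A) := by
      intro a ha
      have : a ∈ ⋃ p ∈ associatedPrimes A (A ⧸ J), (p : Set A) := by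
        rw [biUnion_associatedPrimes_eq_compl_regular]
        exact hcon a ha
      simpa using this
    obtain ⟨q, hqm, hle⟩ := (Ideal.subset_union_prime ⊥ ⊥
      (fun i hi _ _ => IsAssociatedPrime.isPrime ((Set.Finite.mem_toFinset _).1 hi))).1 hsub
    exact key q ((Set.Finite.mem_toFinset _).1 hqm) hle
  -- `s` is regular on `P`
  let e : (A ⧸ J) ⊗[A] P ≃ₗ[A] P :=
    quotTensorEquivQuotSMul P J ≪≫ₗ Submodule.quotEquivOfEqBot _ (by
      rw [eq_bot_iff, Submodule.smul_le]
      exact fun r hr p _ => (Submodule.mem_bot A).2 (@hP p ⟨r, hr⟩))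
  have hreg : IsSMulRegular P s := by
    have hmk : IsSMulRegular (A ⧸ J) (Ideal.Quotient.mk J s) := by
      intro a b hab
      apply hsreg
      simpa [Algebra.smul_def] using hab
    have h' : IsSMulRegular ((A ⧸ J) ⊗[A] P) (Ideal.Quotient.mk J s) :=
      Module.Flat.isSMulRegular_of_nonZeroDivisors (R := A ⧸ J) (M := (A ⧸ J) ⊗[A] P) (mem_nonZeroDivisors_iff_right.2 fun a ha =>
        hmk (by simpa [mul_comm] using ha))
    intro a b hab
    apply e.symm.injective
    apply h'
    show Ideal.Quotient.mk J s • e.symm a = Ideal.Quotient.mk J s • e.symm b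
    rw [← Ideal.Quotient.algebraMap_eq, algebraMap_smul, algebraMap_smul, ← map_smul, ← map_smul]
    exact congrArg e.symm hab
  have hinj := Groth.Agent.FlatH4.lTensor_injective_of_flat_mod J h2 hP hP
    (LinearMap.lsmul A P s) hreg
  apply hinj
  rw [map_zero]
  have : (LinearMap.lsmul A P s).lTensor M = LinearMap.lsmul A (M ⊗[A] P) s :=
    TensorProduct.ext' fun m p => by simp [TensorProduct.tmul_smul]
  rw [this]
  exact (Submodule.mem_annihilator_span_singleton _ _).1 hs

/-- The map `J ⊗ M → M` is injective. -/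
theorem injective_lTensor_subtype
    (hsep : IsHausdorff J (↥J ⊗[A] M))
    (hgr : ∀ k : ℕ, Module.Flat (A ⧸ J) ((A ⧸ J) ⊗[A] ↥(J ^ k)))
    (h2 : Module.Flat (A ⧸ J) ((A ⧸ J) ⊗[A] M))
    (hq : ∀ q ∈ associatedPrimes A (A ⧸ J), ∀ (_ : q.IsPrime),
      Module.Flat (Localization.AtPrime q) (LocalizedModule q.primeCompl M)) :
    Function.Injective (LinearMap.lTensor M J.subtype) := by
  rw [injective_iff_map_eq_zero]
  intro z hz
  have claim : ∀ k : ℕ, ∃ w : M ⊗[A] ↥(J ^ (k + 1)),
      (Submodule.inclusion (Ideal.pow_le_self k.succ_ne_zero)).lTensor M w = z := by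
    intro k
    induction k with
    | zero =>
      let e : ↥(J ^ (0 + 1)) ≃ₗ[A] ↥J := LinearEquiv.ofEq _ _ (by simp)
      exact ⟨e.symm.toLinearMap.lTensor M z, by
        rw [← LinearMap.lTensor_comp_apply]
        exact (LinearMap.congr_fun (LinearMap.lTensor_id M J) z)⟩
    | succ k ih =>
      obtain ⟨w, rfl⟩ := ih
      let Q : Submodule A ↥(J ^ (k + 1)) := J • ⊤
      let B : Submodule A A := J ^ (k + 2)
      let f : (↥(J ^ (k + 1)) ⧸ Q) →ₗ[A] A ⧸ B :=
        Q.mapQ B (J ^ (k + 1)).subtype (by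
          rw [← Submodule.map_le_iff_le_comap, Submodule.map_smul'', Submodule.map_top,
            Submodule.range_subtype]
          show J • J ^ (k + 1) ≤ J ^ (k + 2)
          rw [pow_succ' J (k + 1)]
          rfl)
      have hfinj : Function.Injective f := by
        rw [← LinearMap.ker_eq_bot]
        refine Submodule.ker_liftQ_eq_bot' _ _ ?_
        apply Submodule.map_injective_of_injective (J ^ (k + 1)).injective_subtype
        rw [LinearMap.ker_comp, Submodule.ker_mkQ, Submodule.map_comap_eq, Submodule.range_subtype,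
          Submodule.map_smul'', Submodule.map_top, Submodule.range_subtype]
        show J • J ^ (k + 1) = J ^ (k + 1) ⊓ J ^ (k + 2)
        rw [inf_eq_right.2 (Ideal.pow_le_pow_right (by omega)), pow_succ' J (k + 1)]
        rfl
      have hP : Module.IsTorsionBySet A (↥(J ^ (k + 1)) ⧸ Q) (J : Set A) :=
        Module.isTorsionBySet_quotient_ideal_smul _ J
      have hPflat : Module.Flat (A ⧸ J) ((A ⧸ J) ⊗[A] (↥(J ^ (k + 1)) ⧸ Q)) := by
        let e : (A ⧸ J) ⊗[A] (↥(J ^ (k + 1)) ⧸ Q) ≃ₗ[A] (A ⧸ J) ⊗[A] ↥(J ^ (k + 1)) :=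
          quotTensorEquivQuotSMul _ J ≪≫ₗ Submodule.quotEquivOfEqBot _ (by
            rw [eq_bot_iff, Submodule.smul_le]
            exact fun r hr p _ => (Submodule.mem_bot A).2 (@hP p ⟨r, hr⟩))
            ≪≫ₗ (quotTensorEquivQuotSMul _ J).symm
        exact Module.Flat.of_linearEquiv
          (LinearEquiv.extendScalarsOfSurjective (S := A ⧸ J) Ideal.Quotient.mk_surjective e)
      have h0 : Q.mkQ.lTensor M w = 0 := by
        apply lTensor_injective_of_ass J M h2 hq hP hPflat f hfinj
        rw [map_zero, ← LinearMap.lTensor_comp_apply]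
        have : f ∘ₗ Q.mkQ = B.mkQ ∘ₗ J.subtype ∘ₗ
            Submodule.inclusion (Ideal.pow_le_self k.succ_ne_zero) :=
          LinearMap.ext fun _ => rfl
        rw [this, LinearMap.lTensor_comp_apply, LinearMap.lTensor_comp_apply, hz, map_zero]
      obtain ⟨η, rfl⟩ :=
        (lTensor_exact M (LinearMap.exact_subtype_mkQ Q) Q.mkQ_surjective _).1 h0
      let t : ↥Q →ₗ[A] ↥(J ^ (k + 1 + 1)) :=
        ((J ^ (k + 1)).subtype ∘ₗ Q.subtype).codRestrict _ fun q => by
          have := Submodule.mem_map_of_mem (f := (J ^ (k + 1)).subtype) q.2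
          rw [Submodule.map_smul'', Submodule.map_top, Submodule.range_subtype] at this
          rw [pow_succ' J (k + 1)]
          exact this
      refine ⟨t.lTensor M η, ?_⟩
      rw [← LinearMap.lTensor_comp_apply, ← LinearMap.lTensor_comp_apply]
      rfl
  have hmem : ∀ n : ℕ, TensorProduct.comm A M ↥J z ∈ (J ^ n • ⊤ : Submodule A (↥J ⊗[A] M)) := by
    intro n
    obtain ⟨w, rfl⟩ := claim n
    clear hz claim
    induction w using TensorProduct.induction_on with
    | zero => simp
    | add a b ha hb => rw [map_add, map_add]; exact add_mem ha hb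
    | tmul m j =>
      suffices ∀ r ∈ J ^ n * J, ∃ hr : r ∈ J,
          (⟨r, hr⟩ : ↥J) ⊗ₜ[A] m ∈ (J ^ n • ⊤ : Submodule A (↥J ⊗[A] M)) by
        obtain ⟨hr, h⟩ := this j.1 (by rw [← pow_succ]; exact j.2)
        simp only [LinearMap.lTensor_tmul, TensorProduct.comm_tmul]
        exact h
      intro r hr
      refine Submodule.mul_induction_on hr (fun a ha b hb => ⟨J.mul_mem_left a hb, ?_⟩) ?_
      · have : (⟨a * b, J.mul_mem_left a hb⟩ : ↥J) ⊗ₜ[A] m = a • ((⟨b, hb⟩ : ↥J) ⊗ₜ[A] m) := by
          rw [TensorProduct.smul_tmul']; rfl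
        rw [this]
        exact Submodule.smul_mem_smul ha Submodule.mem_top
      · rintro a b ⟨ha, ha'⟩ ⟨hb, hb'⟩
        refine ⟨add_mem ha hb, ?_⟩
        have : (⟨a + b, add_mem ha hb⟩ : ↥J) = ⟨a, ha⟩ + ⟨b, hb⟩ := rfl
        rw [this, add_tmul]
        exact add_mem ha' hb'
  exact (TensorProduct.comm A M ↥J).map_eq_zero_iff.1
    (hsep.haus _ fun n => SModEq.zero.2 (hmem n))

/-- Ideally separated version of the local criterion. -/
theorem flat_of_forall_pow_of_hausdorff (hsep : ∀ a : Ideal A, IsHausdorff J (↥a ⊗[A] M))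
    (h : ∀ (n : ℕ) (p : Submodule A (A ⧸ J ^ n)), Function.Injective (p.subtype.lTensor M)) :
    Module.Flat A M := by
  refine Module.Flat.iff_lTensor_injective'.2 fun a => ?_
  rw [injective_iff_map_eq_zero]
  intro x hx
  obtain ⟨k, hk⟩ := J.exists_pow_inf_eq_pow_smul (a : Submodule A A)
  refine (TensorProduct.comm A M ↥a).map_eq_zero_iff.1 ((hsep a).haus _ fun i => SModEq.zero.2 ?_)
  let φ : a →ₗ[A] A ⧸ J ^ (k + i) := (J ^ (k + i)).mkQ ∘ₗ a.subtype
  have h0 : φ.rangeRestrict.lTensor M x = 0 := h (k + i) (LinearMap.range φ) <| by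
    rw [map_zero, ← LinearMap.lTensor_comp_apply,
      show (LinearMap.range φ).subtype ∘ₗ φ.rangeRestrict = (J ^ (k + i)).mkQ ∘ₗ a.subtype from rfl,
      LinearMap.lTensor_comp_apply, hx, map_zero]
  have hex : Function.Exact (LinearMap.ker φ).subtype φ.rangeRestrict := by
    rw [LinearMap.exact_iff, LinearMap.ker_rangeRestrict, Submodule.range_subtype]
  obtain ⟨η, rfl⟩ := (lTensor_exact M hex φ.surjective_rangeRestrict _).1 h0
  clear hx h0
  induction η using TensorProduct.induction_on with
  | zero => simp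
  | add y z hy hz => rw [map_add, map_add]; exact add_mem hy hz
  | tmul m j =>
    have hj1 : ((j : a) : A) ∈ J ^ (k + i) := by
      have := j.2
      simp only [φ, LinearMap.mem_ker, LinearMap.comp_apply, Submodule.mkQ_apply] at this
      exact (Submodule.Quotient.mk_eq_zero _).1 this
    have hj : ((j : a) : A) ∈ J ^ i • (a : Submodule A A) := by
      have : ((j : a) : A) ∈ J ^ (k + i) • (⊤ : Submodule A A) ⊓ a :=
        ⟨by simpa using hj1, (j : a).2⟩
      rw [hk _ (Nat.le_add_right k i), Nat.add_sub_cancel_left] at this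
      exact Submodule.smul_mono le_rfl inf_le_right this
    suffices ∀ z ∈ J ^ i • (a : Submodule A A), ∃ hz : z ∈ a,
        (⟨z, hz⟩ : a) ⊗ₜ[A] m ∈ (J ^ i • ⊤ : Submodule A (↥a ⊗[A] M)) by
      simpa using (this _ hj).2
    intro z hz
    refine Submodule.smul_induction_on hz (fun r hr y hy => ?_) (fun y z hy hz => ?_)
    · refine ⟨Submodule.smul_mem a r hy, ?_⟩
      have : (⟨r • y, Submodule.smul_mem a r hy⟩ : a) ⊗ₜ[A] m = r • ((⟨y, hy⟩ : a) ⊗ₜ[A] m) := by
        rw [TensorProduct.smul_tmul']; rfl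
      rw [this]
      exact Submodule.smul_mem_smul hr Submodule.mem_top
    · obtain ⟨hy1, hy2⟩ := hy
      obtain ⟨hz1, hz2⟩ := hz
      refine ⟨add_mem hy1 hz1, ?_⟩
      have : (⟨y + z, add_mem hy1 hz1⟩ : a) = ⟨y, hy1⟩ + ⟨z, hz1⟩ := rfl
      rw [this, add_tmul]
      exact add_mem hy2 hz2

end

/-- Let A be a Noetherian ring, J an ideal of A and M an A-module which is ideally separated for the
J-adic topology (for every ideal a of A the module a ⊗_A M is J-adically separated), and suppose
every quotient J^k/J^{k+1} is a flat (A/J)-module (the associated graded ring of A along J is flat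
over A/J). Then M is flat if and only if (A/J) ⊗_A M is flat over A/J and M_p is flat over A_p for
every associated prime p of the A-module A/J. -/
theorem result {A : Type u} [CommRing A] [IsNoetherianRing A]
    (J : Ideal A) (M : Type u) [AddCommGroup M] [Module A M]
    (hsep : ∀ a : Ideal A, IsHausdorff J (↥a ⊗[A] M))
    (hgr : ∀ k : ℕ, Module.Flat (A ⧸ J) ((A ⧸ J) ⊗[A] ↥(J ^ k))) :
    Module.Flat A M ↔
      Module.Flat (A ⧸ J) ((A ⧸ J) ⊗[A] M) ∧
        ∀ q : associatedPrimes A (A ⧸ J),
          haveI : q.1.IsPrime := IsAssociatedPrime.isPrime q.2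
          Module.Flat (Localization.AtPrime q.1) (LocalizedModule q.1.primeCompl M) := by
  refine ⟨fun h => ⟨Module.Flat.baseChange A (A ⧸ J) M, fun q => ?_⟩, fun ⟨h2, hq⟩ => ?_⟩
  · have : q.1.IsPrime := IsAssociatedPrime.isPrime q.2
    exact Module.Flat.of_isLocalizedModule (Localization.AtPrime q.1) q.1.primeCompl
      (LocalizedModule.mkLinearMap q.1.primeCompl M)
  · have h1 := injective_lTensor_subtype J M (hsep J) hgr h2 fun q hqm _ => hq ⟨q, hqm⟩
    refine flat_of_forall_pow_of_hausdorff J M hsep fun n p =>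
      Groth.Agent.FlatH4.lTensor_subtype_injective_of_pow_smul_le J h1 h2 n p ?_
    refine Submodule.smul_le.2 fun r hr x _ => ?_
    obtain ⟨x, rfl⟩ := Submodule.mkQ_surjective (J ^ n) x
    have : r • x ∈ J ^ n := (J ^ n).mul_mem_right x hr
    rw [← map_smul, Submodule.mkQ_apply, (Submodule.Quotient.mk_eq_zero _).2 this]
    exact zero_mem _

end Groth.Agent.S5912
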