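import Groth.Statements.S5915
import Groth.Agent.Lib.FlatDesc5.Basic
import Groth.Agent.Lib.FlatH4.PullFlat
import Groth.Agent.Lib.SchDom.Basic
-- import your own Groth.Agent.* helpers here

set_option autoImplicit false
universe u
open CategoryTheory AlgebraicGeometry
open EGA43

set_option backward.isDefEq.respectTransparency.types false
set_option maxHeartbeats 800000
open TensorProduct

namespace Groth.Agent.S5915

open CategoryTheory.Limits in
/-- Let Y be locally Noetherian, f : X ⟶ Y locally of finite type, F a coherent O_X-module, x a point of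
X and y = f x. Let φ : O_{Y,y} ⟶ A' be an injective ring homomorphism which is finite (A' finitely
generated as an O_{Y,y}-module), Y' = Spec A' ⟶ Y the induced Y-scheme, X' = X ×_Y Y' and F' the
pullback of F to X'. Then F is f-flat at x if and only if F' is flat over Y' at every point of X'
lying over x and over a closed point of Y'. (The published statement treats more generally a Zariski
ring A' whose radical pulls back to the maximal ideal and whose map on completions is injective;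
this row is the case of a finite algebra with injective structure map, in which those conditions
hold.) -/
theorem result {X Y : Scheme.{u}} [IsLocallyNoetherian Y]
    (f : X ⟶ Y) [LocallyOfFiniteType f] (F : X.Modules) (hF : Coh.IsCoh F) (x : X)
    (A' : CommRingCat.{u}) (φ : Y.presheaf.stalk (f.base x) ⟶ A') (hfin : φ.hom.Finite)
    (hinj : Function.Injective φ.hom) :
    FlatMod.IsFlatOverAt f F x ↔
      ∀ x' : ↥(pullback f (Spec.map φ ≫ Y.fromSpecStalk (f.base x))), pullback.fst f (Spec.map φ ≫ Y.fromSpecStalk (f.base x)) x' = x →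
        IsClosed ({pullback.snd f (Spec.map φ ≫ Y.fromSpecStalk (f.base x)) x'} : Set ↥(Spec A')) →
          FlatMod.IsFlatOverAt (pullback.snd f (Spec.map φ ≫ Y.fromSpecStalk (f.base x))) ((Scheme.Modules.pullback (pullback.fst f (Spec.map φ ≫ Y.fromSpecStalk (f.base x)))).obj F) x' := by
  let g := Spec.map φ ≫ Y.fromSpecStalk (f.base x)
  haveI : Coh.IsQCoh F := hF.1
  have H : IsPullback (pullback.fst f g) (pullback.snd f g) f g := IsPullback.of_hasPullback f g
  refine ⟨fun h x' hx' _ => FlatH4.isFlatOverAt_baseChange H F x' (by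
    have e : pullback.fst f g x' = x := hx'
    rw [e]; exact h), fun h => ?_⟩
  obtain ⟨V, hV, hyV, -⟩ := exists_isAffineOpen_mem_and_subset (X := Y) (x := f x) (U := ⊤) trivial
  obtain ⟨U, hU, hxU, hUV'⟩ := exists_isAffineOpen_mem_and_subset (X := X) (x := x) (U := f ⁻¹ᵁ V) hyV
  have hUV : U ≤ f ⁻¹ᵁ V := hUV'
  have hg : g = Spec.map (Y.presheaf.germ V (f.base x) hyV ≫ φ) ≫ hV.fromSpec := by
    rw [Spec.map_comp, Category.assoc]
    show Spec.map φ ≫ Y.fromSpecStalk (f.base x) = _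
    rw [← hV.fromSpecStalk_eq_fromSpecStalk hyV]
    rfl
  have hTV : (⊤ : (Spec A').Opens) ≤ g ⁻¹ᵁ V := fun z _ => by
    show g z ∈ V
    rw [hg, Scheme.Hom.comp_apply]
    exact hV.range_fromSpec.subset ⟨_, rfl⟩
  let W := pullback.fst f g ⁻¹ᵁ U ⊓ pullback.snd f g ⁻¹ᵁ ⊤
  have hW : IsAffineOpen W := FlatH4.isAffineOpen_of_isPullback H hTV hUV rfl hV (isAffineOpen_top _) hU
  have eX : W ≤ pullback.fst f g ⁻¹ᵁ U := inf_le_left
  have eT : W ≤ pullback.snd f g ⁻¹ᵁ ⊤ := inf_le_right
  letI : Algebra Γ(Y, V) Γ(Spec A', ⊤) := (g.appLE V ⊤ hTV).hom.toAlgebra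
  letI : Algebra Γ(Y, V) Γ(X, U) := (f.appLE V U hUV).hom.toAlgebra
  letI : Algebra Γ(X, U) Γ(pullback f g, W) := ((pullback.fst f g).appLE U W eX).hom.toAlgebra
  letI : Algebra Γ(Spec A', ⊤) Γ(pullback f g, W) := ((pullback.snd f g).appLE ⊤ W eT).hom.toAlgebra
  letI : Algebra Γ(Y, V) Γ(pullback f g, W) :=
    ((algebraMap Γ(X, U) Γ(pullback f g, W)).comp (algebraMap Γ(Y, V) Γ(X, U))).toAlgebra
  haveI : IsScalarTower Γ(Y, V) Γ(X, U) Γ(pullback f g, W) := IsScalarTower.of_algebraMap_eq fun _ => rfl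
  haveI : IsScalarTower Γ(Y, V) Γ(Spec A', ⊤) Γ(pullback f g, W) := IsScalarTower.of_algebraMap_eq fun r => by
    show (f.appLE V U hUV ≫ (pullback.fst f g).appLE U W eX) r = (g.appLE V ⊤ hTV ≫ (pullback.snd f g).appLE ⊤ W eT) r
    rw [Scheme.Hom.appLE_comp_appLE, Scheme.Hom.appLE_comp_appLE]
    simp only [H.w]
  haveI := FlatH4.algebra_isPushout_sections H hTV hUV (UY := W) rfl hV (isAffineOpen_top _) hU rfl rfl rfl rfl
  haveI : Algebra.IsPushout Γ(Y, V) Γ(X, U) Γ(Spec A', ⊤) Γ(pullback f g, W) := Algebra.IsPushout.symm inferInstance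
  -- the local ring
  letI : Algebra Γ(Y, V) (Y.presheaf.stalk (f.base x)) := Y.presheaf.algebra_section_stalk ⟨f.base x, hyV⟩
  haveI : IsLocalization.AtPrime (Y.presheaf.stalk (f.base x)) (hV.primeIdealOf ⟨f.base x, hyV⟩).asIdeal :=
    hV.isLocalization_stalk ⟨f.base x, hyV⟩
  letI : Algebra (Y.presheaf.stalk (f.base x)) Γ(Spec A', ⊤) := (φ ≫ (Scheme.ΓSpecIso A').inv).hom.toAlgebra
  haveI : IsScalarTower Γ(Y, V) (Y.presheaf.stalk (f.base x)) Γ(Spec A', ⊤) :=
    IsScalarTower.of_algebraMap_eq fun r => by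
      have key : ∀ (b : Spec A' ⟶ Y) (_ : b = Spec.map (Y.presheaf.germ V (f.base x) hyV ≫ φ) ≫ hV.fromSpec)
          (e : ⊤ ≤ b ⁻¹ᵁ V), b.appLE V ⊤ e r =
            (Scheme.ΓSpecIso A').inv (φ (Y.presheaf.germ V (f.base x) hyV r)) := by
        rintro _ rfl e
        exact SchDom.appLE_specMap_fromSpec hV _ e r
      exact key g hg hTV
  haveI : Module.Finite (Y.presheaf.stalk (f.base x)) Γ(Spec A', ⊤) := by
    show (φ ≫ (Scheme.ΓSpecIso A').inv).hom.Finite
    exact (RingHom.Finite.of_surjective _ (ConcreteCategory.bijective_of_isIso (Scheme.ΓSpecIso A').inv).2).comp hfin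
  have hinj' : Function.Injective (algebraMap (Y.presheaf.stalk (f.base x)) Γ(Spec A', ⊤)) :=
    (ConcreteCategory.bijective_of_isIso (Scheme.ΓSpecIso A').inv).1.comp hinj
  letI := FlatH4.secModuleOver f F V U hUV
  haveI : IsScalarTower Γ(Y, V) Γ(X, U) Γ(F, U) := IsScalarTower.of_algebraMap_smul fun _ _ => rfl
  rw [FlatH4.isFlatOverAt_iff f F V hV U hU hUV hxU]
  have hqp : (hU.primeIdealOf ⟨x, hxU⟩).asIdeal.comap (algebraMap Γ(Y, V) Γ(X, U)) =
      (hV.primeIdealOf ⟨f.base x, hyV⟩).asIdeal :=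
    congrArg PrimeSpectrum.asIdeal (IsAffineOpen.comap_primeIdealOf_appLE V hV U hU hUV hxU)
  refine FlatDesc5.flat_localized_of_over Γ(Y, V) Γ(Spec A', ⊤) Γ(X, U) Γ(pullback f g, W)
    (hV.primeIdealOf ⟨f.base x, hyV⟩).asIdeal (Y.presheaf.stalk (f.base x)) hinj' _ hqp fun Q _ hQ => ?_
  obtain ⟨⟨x', hx'⟩, hxQ⟩ := hW.isoSpec.hom.surjective ⟨Q, inferInstance⟩
  have hxQ' : hW.primeIdealOf ⟨x', hx'⟩ = ⟨Q, inferInstance⟩ := hxQ
  have hover : pullback.fst f g x' = x := by
    have h1 := IsAffineOpen.comap_primeIdealOf_appLE U hU W hW eX hx'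
    rw [hxQ'] at h1
    have h2 : hU.primeIdealOf ⟨pullback.fst f g x', eX hx'⟩ = hU.primeIdealOf ⟨x, hxU⟩ :=
      h1.symm.trans (PrimeSpectrum.ext hQ)
    have h3 := congrArg (fun z => hU.fromSpec z) h2
    simpa only [hU.fromSpec_primeIdealOf] using h3
  have hclosed : IsClosed ({pullback.snd f g x'} : Set ↥(Spec A')) := by
    let P : PrimeSpectrum A' := pullback.snd f g x'
    have h1 : g P = f.base x := by
      show (pullback.snd f g ≫ g) x' = _
      rw [← H.w, Scheme.Hom.comp_apply, hover]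
    have h2 : (Spec.map φ) P = IsLocalRing.closedPoint (Y.presheaf.stalk (f.base x)) := by
      apply (Y.fromSpecStalk (f.base x)).isEmbedding.injective
      exact h1.trans Scheme.fromSpecStalk_closedPoint.symm
    refine (PrimeSpectrum.isClosed_singleton_iff_isMaximal P).2 ?_
    letI := φ.hom.toAlgebra
    haveI : Algebra.IsIntegral (Y.presheaf.stalk (f.base x)) A' := ⟨hfin.to_isIntegral⟩
    refine Ideal.isMaximal_of_isIntegral_of_isMaximal_comap (R := Y.presheaf.stalk (f.base x)) P.asIdeal ?_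
    have h3 : (P.asIdeal.comap (algebraMap (Y.presheaf.stalk (f.base x)) A')) =
        IsLocalRing.maximalIdeal (Y.presheaf.stalk (f.base x)) := congrArg PrimeSpectrum.asIdeal h2
    rw [h3]
    exact IsLocalRing.maximalIdeal.isMaximal _
  have h4 := (FlatH4.isFlatOverAt_pullback_iff (pullback.fst f g) F hU hW eX (pullback.snd f g) ⊤
    (isAffineOpen_top _) eT hx').1 (h x' hover hclosed)
  have key : ∀ (a b : PrimeSpectrum Γ(pullback f g, W)), a = b →
      Module.Flat Γ(Spec A', ⊤) (LocalizedModule a.asIdeal.primeCompl (Γ(pullback f g, W) ⊗[Γ(X, U)] Γ(F, U))) →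
      Module.Flat Γ(Spec A', ⊤) (LocalizedModule b.asIdeal.primeCompl (Γ(pullback f g, W) ⊗[Γ(X, U)] Γ(F, U))) := by
    rintro a _ rfl h'; exact h'
  exact key _ _ hxQ' h4

end Groth.Agent.S5915
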