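import Groth.Statements.S5916
import Groth.Agent.Lib.SepMod5.FlatBase
-- import your own Groth.Agent.* helpers here

set_option autoImplicit false
universe u
open CategoryTheory AlgebraicGeometry
open EGA43

set_option backward.isDefEq.respectTransparency.types false
set_option maxHeartbeats 800000
open TensorProduct

namespace Groth.Agent.S5916

open CategoryTheory.Limits in
/-- Case Z_λ = X: let A be a commutative ring, p : X ⟶ Spec A an A-scheme, F a quasi-coherent
O_X-module, (G_i) quasi-coherent O_X-modules flat over Spec A and u_i : F ⟶ G_i a separating family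
of homomorphisms (a section of F over an open subset killed by every u_i is zero). Let φ : A ⟶ A' be
a ring homomorphism. If for every factorisation A ⟶ B ⟶ A' of φ with A ⟶ B of finite type and B ⟶ A'
injective (every finitely generated sub-A-algebra B of A') the family pulled back to X ×_{Spec A}
Spec B is separating, then the family pulled back to X ×_{Spec A} Spec A' is separating. (The
published statement allows homomorphisms into direct images (f_λ)_*G_λ of modules G_λ flat over the
base; this row is the case Z_λ = X.) -/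
theorem result {X : Scheme.{u}} (A A' : CommRingCat.{u}) (φ : A ⟶ A')
    (p : X ⟶ Spec A) (F : X.Modules) [Coh.IsQCoh F] {ι : Type u} (G : ι → X.Modules) [∀ i, Coh.IsQCoh (G i)]
    (hG : ∀ i, FlatMod.IsFlatOver p (G i)) (u : ∀ i, F ⟶ G i)
    (h : ∀ (V : (X).Opens) (t : ↑((F).presheaf.obj (Opposite.op V))), (∀ i, (Scheme.Modules.Hom.mapPresheaf (u i)).app (Opposite.op V) t = 0) → t = 0)
    (hfg : ∀ (B : CommRingCat.{u}) (a : A ⟶ B) (b : B ⟶ A'), a ≫ b = φ → Function.Injective b.hom → a.hom.FiniteType →
      ∀ (V : (pullback p (Spec.map a)).Opens) (t : ↑(((Scheme.Modules.pullback (pullback.fst p (Spec.map a))).obj F).presheaf.obj (Opposite.op V))), (∀ i, (Scheme.Modules.Hom.mapPresheaf ((Scheme.Modules.pullback (pullback.fst p (Spec.map a))).map (u i))).app (Opposite.op V) t = 0) → t = 0) :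
    ∀ (V : (pullback p (Spec.map φ)).Opens) (t : ↑(((Scheme.Modules.pullback (pullback.fst p (Spec.map φ))).obj F).presheaf.obj (Opposite.op V))), (∀ i, (Scheme.Modules.Hom.mapPresheaf ((Scheme.Modules.pullback (pullback.fst p (Spec.map φ))).map (u i))).app (Opposite.op V) t = 0) → t = 0 := by
  refine SepMod5.separating_pullback_of_base p (Spec.map φ) u fun y =>
    ⟨A', φ, 𝟙 _, inferInstance, Category.id_comp _, ⟨y, rfl⟩, fun W hW => ?_⟩
  letI : Algebra A Γ(X, W) := (SepMod5.baseMap p hW).hom.toAlgebra
  letI : Algebra A A' := φ.hom.toAlgebra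
  intro h z hz
  obtain ⟨n, w, hw⟩ := SepMod5.exists_pow_smul_eq_locMap (A := Γ(X, W)) (T := Γ(X, W) ⊗[A] A') h z
  obtain ⟨B₀, hfgB, h₀, w₀, hh₀, hw₀⟩ := SepMod5.exists_fg_lift (k := A) (A := Γ(X, W)) (B := A') h w
  haveI : Algebra.FiniteType A B₀ := B₀.fg_iff_finiteType.1 hfgB
  refine SepMod5.eq_zero_of_stage (A := Γ(X, W))
    (Algebra.TensorProduct.map (AlgHom.id Γ(X, W) Γ(X, W)) B₀.val)
    (fun i => SchDom.appLin (u i) W) (fun i => ?_) h₀ ?_ hh₀ w₀ z n (by rw [hw₀]; exact hw) hz
  · letI : Module A Γ(G i, W) := Module.compHom _ (algebraMap A Γ(X, W))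
    haveI : IsScalarTower A Γ(X, W) Γ(G i, W) := IsScalarTower.of_algebraMap_smul fun _ _ => rfl
    haveI : Module.Flat A Γ(G i, W) := SepMod5.flat_sections_base p (G i) (hG i) hW
    exact SepMod5.rTensor_val_injective_of_flat (k := A) (A := Γ(X, W)) B₀ Γ(G i, W)
  · intro y' hy'
    exact SepMod5.Separating.base_chart
      (hfg (CommRingCat.of B₀) (CommRingCat.ofHom (algebraMap A B₀)) (CommRingCat.ofHom B₀.val.toRingHom)
        (CommRingCat.hom_ext (RingHom.ext fun _ => rfl)) Subtype.val_injective
        (RingHom.finiteType_algebraMap.2 ‹_›))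
      hW B₀ (𝟙 _) (Category.id_comp _) h₀ y' hy' 

end Groth.Agent.S5916
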