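import Groth.Statements.S5918
import Groth.Agent.S4856
import Groth.Agent.Lib.SchDom.FlatStage
-- import your own Groth.Agent.* helpers here

set_option autoImplicit false
universe u
open CategoryTheory AlgebraicGeometry
open EGA43

set_option backward.isDefEq.respectTransparency.types false

namespace Groth.Agent.S5918

open CategoryTheory.Limits in
/-- Let A be an Artinian local ring, f : X ⟶ Spec A locally of finite type, F a coherent O_X-module and
x a point of X. Let (g_i : Y_i ⟶ Spec A) be a family of A-schemes such that an element of A whose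
image in every Γ(Y_i, O_{Y_i}) is zero is itself zero. If, for every i, the pullback of F to X
×_{Spec A} Y_i is flat over Y_i at every point lying over x, then F is f-flat at x. -/
theorem result {A : Type u} [CommRing A]
    [IsArtinianRing A] [IsLocalRing A] {X : Scheme.{u}} (f : X ⟶ Spec (CommRingCat.of A))
    [LocallyOfFiniteType f] (F : X.Modules) (hF : Coh.IsCoh F) (x : X)
    {ι : Type u} (Y : ι → Scheme.{u}) (g : ∀ i, Y i ⟶ Spec (CommRingCat.of A))
    (hg : ∀ a : A, (∀ i, (g i).appTop ((Scheme.ΓSpecIso (CommRingCat.of A)).inv a) = 0) → a = 0)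
    (hflat : ∀ (i : ι) (x' : ↥(pullback f (g i))), pullback.fst f (g i) x' = x →
      FlatMod.IsFlatOverAt (pullback.snd f (g i)) ((Scheme.Modules.pullback (pullback.fst f (g i))).obj F) x') :
    FlatMod.IsFlatOverAt f F x := by
  haveI : Coh.IsQCoh F := hF.1
  let κ := Σ i, (Y i : Type u)
  let A' : κ → Type u := fun j => (Y j.1).presheaf.stalk j.2
  let u : ∀ j : κ, A →+* A' j := fun j =>
    ((Scheme.ΓSpecIso (CommRingCat.of A)).inv ≫ (g j.1).appTop ≫ (Y j.1).presheaf.germ ⊤ j.2 trivial).hom
  have hfac : ∀ j : κ, Spec.map (CommRingCat.ofHom (u j)) = (Y j.1).fromSpecStalk j.2 ≫ g j.1 := by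
    intro j
    rw [show CommRingCat.ofHom (u j) = (Scheme.ΓSpecIso (CommRingCat.of A)).inv ≫ (g j.1).appTop ≫
      (Y j.1).presheaf.germ ⊤ j.2 trivial from rfl, Spec.map_comp, Spec.map_comp, Category.assoc,
      ← Scheme.fromSpecStalk_toSpecΓ, Category.assoc]
    congr 1
    rw [← Category.assoc, ← Scheme.toSpecΓ_naturality, Category.assoc, ← Scheme.isoSpec_hom,
      Scheme.isoSpec_Spec_hom, ← Spec.map_comp, Iso.inv_hom_id, Spec.map_id]
    exact Category.comp_id _
  refine Groth.Agent.S4856.result f F hF x A' u (fun a ha => hg a fun i => ?_) fun j x' hx' _ => ?_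
  · refine TopCat.Presheaf.section_ext (Y i).sheaf ⊤ _ _ fun y hy => ?_
    refine Eq.trans ?_ (map_zero ((Y i).presheaf.germ ⊤ y hy).hom).symm
    exact ha ⟨i, y⟩
  · let hy := (Y j.1).fromSpecStalk j.2
    revert x' hx'
    rw [hfac j]
    intro x' hx' _
    let m : pullback f (hy ≫ g j.1) ⟶ pullback f (g j.1) :=
      pullback.lift (pullback.fst f _) (pullback.snd f _ ≫ hy) (by rw [pullback.condition, Category.assoc])
    have H' : IsPullback m (pullback.snd f (hy ≫ g j.1)) (pullback.snd f (g j.1)) hy := by
      refine IsPullback.of_right ?_ (pullback.lift_snd _ _ _) (IsPullback.of_hasPullback f (g j.1))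
      rw [pullback.lift_fst]
      exact IsPullback.of_hasPullback f (hy ≫ g j.1)
    haveI : Coh.IsQCoh ((Scheme.Modules.pullback (pullback.fst f (g j.1))).obj F) := M1.isQCoh_pullback _ hF.1
    have h1 := FlatH4.isFlatOverAt_baseChange H' _ x' (hflat j.1 (m x') (by
      rw [← Scheme.Hom.comp_apply, pullback.lift_fst]; exact hx'))
    have h2 := SchDom.isFlatOverAt_of_iso _ ((Scheme.Modules.pullbackComp m (pullback.fst f (g j.1))).app F) x' h1
    have key : ∀ (φ : pullback f (hy ≫ g j.1) ⟶ X) (_ : φ = pullback.fst f (hy ≫ g j.1)),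
        FlatMod.IsFlatOverAt (pullback.snd f (hy ≫ g j.1)) ((Scheme.Modules.pullback φ).obj F) x' →
        FlatMod.IsFlatOverAt (pullback.snd f (hy ≫ g j.1))
          ((Scheme.Modules.pullback (pullback.fst f (hy ≫ g j.1))).obj F) x' := by
      rintro _ rfl h; exact h
    exact key _ (pullback.lift_fst _ _ _) h2

end Groth.Agent.S5918
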