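import Groth.Agent.Lib.FibDepth5.Apps
import Groth.Statements.S5922
-- Template for statement S5922 (row 5921; see the milestone table for weights).
-- Copy to Groth/Agent/S5922.lean and replace the sorry. The statement below is byte-identical to the frozen
-- statement EGA43.GrothFrozen.S5922 (Groth/Statements/S5922.lean; the theorem EGA43.isOpen_setOf_flatAt_and_fibre_coprof_le);
-- the grader kernel-checks Groth.Agent.S5922.result against that frozen type. Keep the theorem IN THIS FILE
-- (a `result` declared elsewhere and merely imported here is not credited); helpers may live anywhere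
-- under Groth/Agent/.
-- import your own Groth.Agent.* helpers here

set_option autoImplicit false
open CategoryTheory AlgebraicGeometry
universe u
open EGA43

namespace Groth.Agent.S5922

/-- Let f : X ⟶ Y be a morphism locally of finite presentation and n a natural number. The set of points
x of X such that f is flat at x and the local ring at x of the fibre of f through x has codepth at
most n, i.e. its Krull dimension is at most its depth plus n, is open in X. -/
theorem result {X Y : Scheme.{u}} (f : X ⟶ Y) [LocallyOfFinitePresentation f]
    (n : ℕ) :
    IsOpen {x : X | (f.stalkMap x).hom.Flat ∧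
      ringKrullDim ((f.fiber (f.base x)).presheaf.stalk (f.asFiber x)) ≤
        ((LocCoh.depth ((f.fiber (f.base x)).presheaf.stalk (f.asFiber x)) ((f.fiber (f.base x)).presheaf.stalk (f.asFiber x)) : ℕ∞) : WithBot ℕ∞) + n} := by
  exact FibDepth5.isOpen_flatAt_and f
    (fun R _ _ => ringKrullDim R ≤ ((LocCoh.depth R R : ℕ∞) : WithBot ℕ∞) + n)
    (fun R R' _ _ _ _ e h => by rwa [← ringKrullDim_eq_of_ringEquiv e, SMT.depth_eq_of_ringEquiv e])
    (fun g _ _ => FibDepth5.isOpen_fibre_coprof g n)

end Groth.Agent.S5922
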