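import Groth.Statements.S5924
import Mathlib.AlgebraicGeometry.Morphisms.FiniteType
import Mathlib.RingTheory.Ideal.MinimalPrime.Noetherian
-- import your own Groth.Agent.* helpers here

set_option autoImplicit false
open CategoryTheory AlgebraicGeometry
universe u
open EGA43

set_option backward.isDefEq.respectTransparency.types false
open AlgebraicGeometry CategoryTheory

namespace Groth.Agent.S5924

/-- Let Y be an irreducible locally Noetherian scheme, f : X ⟶ Y a morphism locally of finite type which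
is equidimensional at the point x, and suppose that x is not a maximal point of its fibre f⁻¹(f x),
i.e. some point of the fibre other than x specializes to x. Then there exist an affine open
neighbourhood U of x and a section g of O_X over U such that g vanishes at x (x is not in the basic
open set of g) while every maximal point of f⁻¹(f x) lying in U is in the basic open set of g. -/
theorem result {X Y : Scheme.{u}} [IrreducibleSpace Y]
    [IsLocallyNoetherian Y] (f : X ⟶ Y) [LocallyOfFiniteType f] (x : X) (hf : EGA43.IsEquidimAt f x)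
    (hx : ∃ x' : X, f.base x' = f.base x ∧ x' ≠ x ∧ x ∈ closure ({x'} : Set X)) :
    ∃ U : X.Opens, IsAffineOpen U ∧ x ∈ U ∧ ∃ g : Γ(X, U), x ∉ X.basicOpen g ∧
      ∀ z : X, f.base z = f.base x → (∀ z' : X, f.base z' = f.base x → z ∈ closure ({z'} : Set X) → z' = z) →
        z ∈ U → z ∈ X.basicOpen g := by
  haveI : IsLocallyNoetherian X := LocallyOfFiniteType.isLocallyNoetherian f
  obtain ⟨U, hU, hxU, -⟩ := exists_isAffineOpen_mem_and_subset (X := X) (x := x) (U := ⊤) trivial
  haveI : IsNoetherianRing Γ(X, U) := IsLocallyNoetherian.component_noetherian ⟨U, hU⟩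
  let C : Set (PrimeSpectrum Γ(X, U)) := {P | f.base (hU.fromSpec P) = f.base x}
  let I := PrimeSpectrum.vanishingIdeal C
  let S := I.minimalPrimes
  obtain ⟨x', hx'y, hx'ne, hx'x⟩ := hx
  let q := hU.primeIdealOf ⟨x, hxU⟩
  have hq : hU.fromSpec q = x := hU.fromSpec_primeIdealOf ⟨x, hxU⟩
  have hspec : ∀ P Q : PrimeSpectrum Γ(X, U), P.asIdeal ≤ Q.asIdeal → hU.fromSpec P ⤳ hU.fromSpec Q :=
    fun P Q h => ((PrimeSpectrum.le_iff_specializes P Q).1 h).map hU.fromSpec.continuous
  -- maximal points of the fibre in `U` are minimal primes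
  have hmin : ∀ z : X, f.base z = f.base x →
      (∀ z' : X, f.base z' = f.base x → z ∈ closure ({z'} : Set X) → z' = z) → ∀ hz : z ∈ U,
      (hU.primeIdealOf ⟨z, hz⟩).asIdeal ∈ S := by
    intro z hzy hzmax hz
    let P := hU.primeIdealOf ⟨z, hz⟩
    have hP : hU.fromSpec P = z := hU.fromSpec_primeIdealOf ⟨z, hz⟩
    have hPC : P ∈ C := by show f.base (hU.fromSpec P) = _; rw [hP, hzy]
    have hIP : I ≤ P.asIdeal := by
      intro a ha
      exact (PrimeSpectrum.mem_vanishingIdeal C a).1 ha P hPC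
    obtain ⟨P₀, hP₀, hle⟩ := Ideal.exists_minimalPrimes_le hIP
    haveI := hP₀.1.1
    let P₁ : PrimeSpectrum Γ(X, U) := ⟨P₀, inferInstance⟩
    have h1 : P₁ ∈ closure C := by
      rw [← PrimeSpectrum.zeroLocus_vanishingIdeal_eq_closure]
      exact hP₀.1.2
    have h2 : hU.fromSpec P₁ ⤳ z := hP ▸ hspec P₁ P hle
    have h3 : f.base x ⤳ f.base (hU.fromSpec P₁) := by
      rw [specializes_iff_mem_closure]
      exact map_mem_closure (f := fun P => f.base (hU.fromSpec P)) (f.continuous.comp hU.fromSpec.continuous) h1 (fun P hP => hP)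
    have h4 : f.base (hU.fromSpec P₁) = f.base x :=
      ((h2.map f.continuous).trans (specializes_of_eq hzy)).antisymm h3 |>.eq
    have h5 := hzmax _ h4 (specializes_iff_mem_closure.1 h2)
    have h6 : P₁ = P := hU.fromSpec.isOpenEmbedding.injective (h5.trans hP.symm)
    show P.asIdeal ∈ S
    rw [← h6]
    exact hP₀
  have hx'U : x' ∈ U := (specializes_iff_mem_closure.2 hx'x).mem_open U.2 hxU
  let T := {P ∈ S | ¬ q.asIdeal ≤ P}
  have hT : T.Finite := (Ideal.finite_minimalPrimes_of_isNoetherianRing Γ(X, U) I).subset fun _ h => h.1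
  have hnot : ¬ (q.asIdeal : Set Γ(X, U)) ⊆ ⋃ P ∈ (hT.toFinset : Set (Ideal Γ(X, U))), (P : Set Γ(X, U)) := by
    intro h
    obtain ⟨P, hP, hle⟩ := (Ideal.subset_union_prime ⊥ ⊥ fun P hP _ _ =>
      (hT.mem_toFinset.1 hP).1.1.1).1 h
    exact (hT.mem_toFinset.1 hP).2 hle
  obtain ⟨g, hgq, hgT⟩ := Set.not_subset.1 hnot
  refine ⟨U, hU, hxU, g, fun h => ?_, fun z hzy hzmax hz => ?_⟩
  · rw [← hq] at h
    have h' : q ∈ hU.fromSpec ⁻¹' (X.basicOpen g : Set X) := h
    rw [← TopologicalSpace.Opens.map_coe, hU.fromSpec_preimage_basicOpen] at h'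
    exact h' hgq
  · let P := hU.primeIdealOf ⟨z, hz⟩
    have hP : hU.fromSpec P = z := hU.fromSpec_primeIdealOf ⟨z, hz⟩
    have hPS := hmin z hzy hzmax hz
    have hqP : ¬ q.asIdeal ≤ P.asIdeal := fun h => by
      have h1 : x ⤳ z := hq ▸ hP ▸ hspec q P h
      have h2 : x = z := hzmax x rfl (specializes_iff_mem_closure.1 h1)
      subst h2
      exact hx'ne (hzmax x' hx'y hx'x)
    rw [← hP]
    show P ∈ hU.fromSpec ⁻¹' (X.basicOpen g : Set X)
    rw [← TopologicalSpace.Opens.map_coe, hU.fromSpec_preimage_basicOpen]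
    intro hgP
    exact hgT (Set.mem_biUnion (hT.mem_toFinset.2 ⟨hPS, hqP⟩) hgP)

end Groth.Agent.S5924
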