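import Groth.Statements.S5925
import Groth.Agent.Lib.QuasiSection4

set_option autoImplicit false
open CategoryTheory AlgebraicGeometry
universe u
open EGA43

set_option backward.isDefEq.respectTransparency.types false

namespace Groth.Agent.S5925


open Order Topology in
theorem coheight_le_one {X : Scheme.{u}} [IsLocallyNoetherian X] (g : Γ(X, ⊤)) {t : X}
    (ht : t ∈ X.zeroLocus ({g} : Set Γ(X, ⊤)))
    (hmin : ∀ y, y ⤳ t → y ∈ X.zeroLocus ({g} : Set Γ(X, ⊤)) → y = t) : coheight t ≤ (1 : ℕ∞) := by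
  obtain ⟨A, hA, htA, -⟩ := exists_isAffineOpen_mem_and_subset (U := (⊤ : X.Opens)) (x := t) trivial
  haveI : IsNoetherianRing Γ(X, A) := IsLocallyNoetherian.component_noetherian ⟨A, hA⟩
  let s : Γ(X, A) := (X.presheaf.map (homOfLE (le_top : A ≤ ⊤)).op).hom g
  have hmem : ∀ r : Spec Γ(X, A), hA.fromSpec r ∈ X.zeroLocus ({g} : Set Γ(X, ⊤)) ↔ s ∈ r.asIdeal := fun r => by
    have hrA : hA.fromSpec r ∈ A := by
      have : hA.fromSpec r ∈ Set.range hA.fromSpec := ⟨r, rfl⟩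
      rwa [hA.range_fromSpec] at this
    have h1 : (hA.fromSpec r ∈ X.basicOpen s) ↔ hA.fromSpec r ∈ X.basicOpen g := by
      rw [Scheme.basicOpen_res]
      exact ⟨fun h => h.2, fun h => ⟨hrA, h⟩⟩
    have h2 : r ∈ hA.fromSpec ⁻¹ᵁ X.basicOpen s ↔ s ∉ r.asIdeal := by
      rw [hA.fromSpec_preimage_basicOpen]
      rfl
    rw [Scheme.mem_zeroLocus_iff]
    simp only [Set.mem_singleton_iff, forall_eq]
    rw [← h1]
    exact (not_congr h2).trans not_not
  let q : Spec Γ(X, A) := hA.primeIdealOf ⟨t, htA⟩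
  have hq : hA.fromSpec q = t := hA.fromSpec_primeIdealOf ⟨t, htA⟩
  haveI : q.asIdeal.IsPrime := q.2
  have hQ : q.asIdeal ∈ (Ideal.span {s}).minimalPrimes := by
    refine ⟨⟨q.2, (Ideal.span_singleton_le_iff_mem _).2 ((hmem q).1 (hq.symm ▸ ht))⟩, fun J hJ hJq => ?_⟩
    let r : Spec Γ(X, A) := ⟨J, hJ.1⟩
    have h2 := hmin (hA.fromSpec r) (hq ▸ ((PrimeSpectrum.le_iff_specializes r q).1 hJq).map hA.fromSpec.continuous)
      ((hmem r).2 (hJ.2 (Ideal.mem_span_singleton_self s)))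
    rw [← hq] at h2
    exact (congrArg PrimeSpectrum.asIdeal (hA.fromSpec.isOpenEmbedding.injective h2)).ge
  have hqA : hA.fromSpec q ∈ A := hq.symm ▸ htA
  letI := X.presheaf.algebra_section_stalk (⟨_, hqA⟩ : A)
  haveI : IsLocalization.AtPrime (X.presheaf.stalk (hA.fromSpec q)) q.asIdeal := hA.isLocalization_stalk' q hqA
  have h1 := IsLocalization.AtPrime.ringKrullDim_eq_height q.asIdeal (X.presheaf.stalk (hA.fromSpec q))
  rw [ringKrullDim_stalk_eq_coheight, hq] at h1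
  exact (WithBot.coe_injective h1).le.trans (Ideal.height_le_one_of_isPrincipal_of_mem_minimalPrimes _ _ hQ)


/-- Let Y be an irreducible locally Noetherian scheme, f : X ⟶ Y a morphism locally of finite type which
is equidimensional at the point x, y = f x and e = dim_x(f⁻¹(y)). Let g be a global section of O_X
vanishing at x whose zero set X' contains no maximal point of f⁻¹(y). Then X', with its reduced
closed subscheme structure, is equidimensional over Y at x; dim_x(X' ∩ f⁻¹(y)) = e − 1; and every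
irreducible component of X' containing x has codimension 1 in X, i.e. the local ring of X at its
generic point has Krull dimension 1. (Stated for a global section; the published statement takes g
on an affine open neighbourhood of x, to which this applies after restriction, and its codimension
assertion codim(X', X) = 1 is read for the components of X' through x: a component of the zero set
not passing through x can be a whole irreducible component of X disjoint from the fibre, of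
codimension 0.) -/
theorem result {X Y : Scheme.{u}} [IrreducibleSpace Y]
    [IsLocallyNoetherian Y] (f : X ⟶ Y) [LocallyOfFiniteType f] (x : X) (hf : EGA43.IsEquidimAt f x)
    (g : Γ(X, ⊤)) (hgx : x ∈ X.zeroLocus ({g} : Set Γ(X, ⊤)))
    (hmax : ∀ z : X, f.base z = f.base x → (∀ z' : X, f.base z' = f.base x → z ∈ closure ({z'} : Set X) → z' = z) →
      z ∉ X.zeroLocus ({g} : Set Γ(X, ⊤))) :
    (∀ w : ↥(Scheme.IdealSheafData.vanishingIdeal ⟨X.zeroLocus ({g} : Set Γ(X, ⊤)), X.zeroLocus_isClosed _⟩).subscheme,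
        (Scheme.IdealSheafData.vanishingIdeal ⟨X.zeroLocus ({g} : Set Γ(X, ⊤)), X.zeroLocus_isClosed _⟩).subschemeι.base w = x →
        EGA43.IsEquidimAt ((Scheme.IdealSheafData.vanishingIdeal ⟨X.zeroLocus ({g} : Set Γ(X, ⊤)), X.zeroLocus_isClosed _⟩).subschemeι ≫ f) w) ∧
      FlatMor.localDim ↥(X.zeroLocus ({g} : Set Γ(X, ⊤)) ∩ f.base ⁻¹' {f.base x}) ⟨x, ⟨hgx, rfl⟩⟩ + 1 = FlatMor.fibreDimAt f x ∧
      ∀ Z ∈ irreducibleComponents ↥(X.zeroLocus ({g} : Set Γ(X, ⊤))), (⟨x, hgx⟩ : ↥(X.zeroLocus ({g} : Set Γ(X, ⊤)))) ∈ Z →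
        ∀ ξ : ↥(X.zeroLocus ({g} : Set Γ(X, ⊤))), closure ({ξ} : Set ↥(X.zeroLocus ({g} : Set Γ(X, ⊤)))) = Z →
          ringKrullDim (X.presheaf.stalk (ξ : X)) = 1 := by
  obtain ⟨e, U, hxU, hU⟩ := EquidimAt4.exists_eqD f hf
  haveI : IsLocallyNoetherian X := LocallyOfFiniteType.isLocallyNoetherian f
  let j := (Scheme.IdealSheafData.vanishingIdeal
    ⟨X.zeroLocus ({g} : Set Γ(X, ⊤)), X.zeroLocus_isClosed _⟩).subschemeι
  have hrange : Set.range j = X.zeroLocus ({g} : Set Γ(X, ⊤)) := by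
    rw [Scheme.IdealSheafData.range_subschemeι, Scheme.IdealSheafData.coe_support_vanishingIdeal]
    rfl
  have hmemj : ∀ z, j z ∈ X.zeroLocus ({g} : Set Γ(X, ⊤)) := fun z => hrange.subset ⟨z, rfl⟩
  obtain ⟨w, hw⟩ : x ∈ Set.range j := by rw [hrange]; exact hgx
  have hwU : j w ∈ U := hw.symm ▸ hxU
  have hrd : ∀ z, FibDim14.rd (j ≫ f) z = FibDim14.rd f (j z) := fun z => by
    rw [FibDim14.rd_comp, FibDim14.rd_of_surjectiveOnStalks j, add_zero]
  obtain ⟨a, ha, hea, hd, -⟩ := FibDim14.exists_fibreDimAt_eq (j ≫ f) w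
  have hde : FibDim14.rd f (j a) + 1 ≤ e := by
    have hsp : j a ⤳ x := hw ▸ ha.map j.continuous
    have hfa : f (j a) = f x := by rw [← hw]; exact hea
    obtain ⟨b, hb, heb, hne⟩ : ∃ b, b ⤳ j a ∧ f b = f (j a) ∧ b ≠ j a := by
      by_contra hn
      push Not at hn
      exact hmax (j a) hfa (fun z' h1 h2 => hn z' (specializes_iff_mem_closure.2 h2) (h1.trans hfa.symm))
        (hmemj a)
    have h3 := FibDim14.rd_lt_of_specializes f hb hne heb
    have h4 := FibDim14.rd_le_fibreDimAt f (hb.trans hsp) (heb.trans hfa)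
    rw [EquidimAt4.fibreDimAt_eq f hU hxU] at h4
    have h4' : FibDim14.rd f b ≤ e := by exact_mod_cast h4
    omega
  rw [hrd] at hd
  have hgen : ∀ ξ, (∀ y, y ⤳ ξ → y = ξ) → ξ ⤳ w →
      f (j ξ) = genericPoint Y ∧ FibDim14.rd f (j ξ) = FibDim14.rd f (j a) ∧ FibDim14.rd f (j a) + 1 = e ∧
        Order.coheight (j ξ) = (1 : ℕ∞) := by
    intro ξ hξ hξw
    have hξU : j ξ ∈ U := (hξw.map j.continuous).mem_open U.2 hwU
    obtain ⟨h1, h2⟩ := EquidimAt4.coheight_ge f hU hξU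
    have hco : Order.coheight (j ξ) ≤ (1 : ℕ∞) := coheight_le_one g (hmemj ξ) fun y hy hyg => by
      rw [← hrange] at hyg
      obtain ⟨y', rfl⟩ := hyg
      rw [hξ y' (j.isEmbedding.isInducing.specializes_iff.1 hy)]
    obtain ⟨c, hc⟩ := ENat.ne_top_iff_exists.1 (ne_top_of_le_ne_top (ENat.natCast_ne_top 1) hco)
    rw [← hc] at hco h1 h2 ⊢
    have hc1 : c ≤ 1 := by exact_mod_cast hco
    have h1' : e ≤ c + FibDim14.rd f (j ξ) := by exact_mod_cast h1
    have hle := (FibDim14.fibreDimAt_le_iff (j ≫ f)).1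
      (hξw.mem_open (FibDim14.isOpen_fibreDimAt_le (j ≫ f) (FibDim14.rd f (j a))) hd.le) ξ specializes_rfl rfl
    rw [hrd] at hle
    refine ⟨?_, by omega, by omega, congrArg Nat.cast (by omega : c = 1)⟩
    by_contra hne
    have h2' : e + 1 ≤ c + FibDim14.rd f (j ξ) := by exact_mod_cast h2 hne
    omega
  have hde1 : FibDim14.rd f (j a) + 1 = e := by
    obtain ⟨ξ, hξ1, hξ2⟩ := EquidimAt4.exists_max_specializes w
    exact (hgen ξ hξ2 hξ1).2.2.1
  refine ⟨fun w' hw' => ?_, ?_, fun Z hZ hxZ ξ hξ => ?_⟩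
  · obtain rfl : w' = w := j.isEmbedding.injective (hw'.trans hw.symm)
    obtain ⟨A, hA, hxA, -⟩ := exists_isAffineOpen_mem_and_subset (U := (⊤ : X.Opens)) (x := x) trivial
    let B := j ⁻¹ᵁ A
    have hwB : w' ∈ B := show j w' ∈ A from hw.symm ▸ hxA
    haveI : IsAffine (B : Scheme) := hA.preimage j
    haveI : IsLocallyNoetherian (Scheme.IdealSheafData.vanishingIdeal
      ⟨X.zeroLocus ({g} : Set Γ(X, ⊤)), X.zeroLocus_isClosed _⟩).subscheme := LocallyOfFiniteType.isLocallyNoetherian j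
    haveI : IsNoetherian (B : Scheme) := ⟨⟩
    have hfin := TopologicalSpace.NoetherianSpace.finite_irreducibleComponents (α := (B : Scheme))
    let bad := {T ∈ irreducibleComponents (B : Scheme) | (⟨w', hwB⟩ : (B : Scheme)) ∉ T}
    have hbad : IsClosed (⋃ T ∈ bad, T) :=
      (hfin.subset fun T hT => hT.1).isClosed_biUnion fun T hT => isClosed_of_mem_irreducibleComponents T hT.1
    let O := B.ι ''ᵁ ⟨(⋃ T ∈ bad, T)ᶜ, hbad.isOpen_compl⟩ ⊓ j ⁻¹ᵁ U ⊓
      ⟨_, FibDim14.isOpen_fibreDimAt_le (j ≫ f) (FibDim14.rd f (j a))⟩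
    have hwO : w' ∈ O := ⟨⟨⟨⟨w', hwB⟩, fun h => by
      obtain ⟨T, hT, hxT⟩ := Set.mem_iUnion₂.1 h
      exact hT.2 hxT, rfl⟩, hwU⟩, hd.le⟩
    have hOw : ∀ ξ ∈ O, (∀ y, y ⤳ ξ → y = ξ) → ξ ⤳ w' := by
      rintro ξ ⟨⟨⟨v, hv, rfl⟩, -⟩, -⟩ hξ
      have hvmax : closure {v} ∈ irreducibleComponents (B : Scheme) :=
        (VarDim.maximal_iff_mem_irreducibleComponents (X := (B : Scheme)) v).1
          ((EquidimAt4.max_opens_iff v).2 hξ)
      have hmem : (⟨w', hwB⟩ : (B : Scheme)) ∈ closure {v} := by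
        by_contra hn
        exact hv (Set.mem_biUnion (⟨hvmax, hn⟩ : closure {v} ∈ bad) (subset_closure rfl))
      exact (specializes_iff_mem_closure.2 hmem).map B.ι.continuous
    refine EquidimAt4.isEquidimAt _ hwO (e := FibDim14.rd f (j a)) ⟨fun t ht hmax' => ?_, fun b hb hmax' => ?_⟩
    · exact (hgen t hmax' (hOw t ht hmax')).1
    · have h3 : FlatMor.fibreDimAt (j ≫ f) b ≤ (FibDim14.rd f (j a) : WithBot ℕ∞) := hb.2
      rw [FibGen4.fibreDimAt_eq_rd_of_isMaxFib (j ≫ f) hmax'] at h3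
      refine le_antisymm (by exact_mod_cast h3) ?_
      obtain ⟨ξ, hξb, hξ⟩ := EquidimAt4.exists_max_specializes b
      obtain ⟨-, h4, -, -⟩ := hgen ξ hξ (hOw ξ (hξb.mem_open O.2 hb) hξ)
      have hbS : b ∈ {c | FlatMor.fibreDimAt (j ≫ f) c ≤ (FibDim14.rd (j ≫ f) b : WithBot ℕ∞)} :=
        (FibGen4.fibreDimAt_eq_rd_of_isMaxFib (j ≫ f) hmax').le
      have := (FibDim14.fibreDimAt_le_iff (j ≫ f)).1
        (hξb.mem_open (FibDim14.isOpen_fibreDimAt_le (j ≫ f) _) hbS) ξ specializes_rfl rfl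
      rw [hrd, hrd, h4] at this
      rw [hrd]
      omega
  · have hloc : FlatMor.fibreDimAt (j ≫ f) w =
        FlatMor.localDim ↥(X.zeroLocus ({g} : Set Γ(X, ⊤)) ∩ f.base ⁻¹' {f.base x}) ⟨x, ⟨hgx, rfl⟩⟩ := by
      rw [FibDim14.fibreDimAt_eq_localDim_preimage]
      refine FibDim14.localDim_of_range (e := fun z : ((j ≫ f) ⁻¹' {(j ≫ f) w} : Set _) => j z.1)
        (T := X.zeroLocus ({g} : Set Γ(X, ⊤)) ∩ f.base ⁻¹' {f.base x})
        (j.isEmbedding.comp Topology.IsEmbedding.subtypeVal) ?_ ⟨w, rfl⟩ hw ⟨hgx, rfl⟩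
      ext c
      constructor
      · rintro ⟨⟨z, hz⟩, rfl⟩
        exact ⟨hmemj z, by rw [← hw]; exact hz⟩
      · rintro ⟨hc1, hc2⟩
        rw [← hrange] at hc1
        obtain ⟨z, rfl⟩ := hc1
        exact ⟨⟨z, by rw [← hw] at hc2; exact hc2⟩, rfl⟩
    rw [← hloc, hd, EquidimAt4.fibreDimAt_eq f hU hxU]
    exact_mod_cast hde1
  · obtain ⟨ξ', hξ'⟩ : (ξ : X) ∈ Set.range j := by rw [hrange]; exact ξ.2
    have hξmax : ∀ y, y ⤳ ξ' → y = ξ' := fun y hy => by
      let y' : ↥(X.zeroLocus ({g} : Set Γ(X, ⊤))) := ⟨j y, hmemj y⟩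
      have hy' : y' ⤳ ξ := by
        rw [subtype_specializes_iff]
        exact hξ' ▸ hy.map j.continuous
      have h1 : Z ⊆ closure {y'} := hξ ▸ specializes_iff_closure_subset.1 hy'
      have h2 : closure {y'} ⊆ Z := hZ.2 isIrreducible_singleton.closure h1
      have h3 : ξ ⤳ y' := specializes_iff_mem_closure.2 (hξ.symm ▸ h2 (subset_closure rfl))
      exact j.isEmbedding.injective ((congrArg Subtype.val (hy'.antisymm h3).eq).trans hξ'.symm)
    have hξw : ξ' ⤳ w := by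
      have h1 : ξ ⤳ (⟨x, hgx⟩ : ↥(X.zeroLocus ({g} : Set Γ(X, ⊤)))) :=
        specializes_iff_mem_closure.2 (hξ.symm ▸ hxZ)
      rw [subtype_specializes_iff] at h1
      refine j.isEmbedding.isInducing.specializes_iff.1 ?_
      rw [hξ', hw]
      exact h1
    obtain ⟨-, -, -, h4⟩ := hgen ξ' hξmax hξw
    rw [ringKrullDim_stalk_eq_coheight, ← hξ', h4]
    rfl

end Groth.Agent.S5925
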