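import Groth.Statements.S5928
import Groth.Agent.Lib.SectionCompModel4

set_option autoImplicit false
open CategoryTheory AlgebraicGeometry
universe u
open EGA43

set_option backward.isDefEq.respectTransparency.types false

namespace Groth.Agent.S5928

/-- Let f : X ⟶ Y be a morphism with a section g : Y ⟶ X, and suppose that either Y is locally
Noetherian and f is locally of finite type, or f is of finite presentation. Let X_y^0 be the
connected component of f⁻¹(y) containing g y and X^0 ⊆ X the union of the X_y^0, and suppose every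
X_y^0 is geometrically irreducible over κ(y). Then the set W of points x of X^0 such that y ↦ dim
X_y^0 is constant on a neighbourhood of f x and the fibre f⁻¹(f x) is geometrically reduced at x
over κ(f x) is open in X. (The published statement asks that the whole component X_{f x}^0 be
geometrically reduced rather than geometrically reduced at x; with that reading the set need not be
open: over the affine line Spec k[t] take X = Spec k[t, s, e]/(e², e(ts − 1)) with the section s = e
= 0, whose fibres are lines carrying an embedded point at s = 1/t for t ≠ 0 and a reduced line at t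
= 0, so that the set would be the closed fibre over t = 0; the published proof, through the openness
of the locus where the fibre is geometrically reduced at the point, gives the pointwise form stated
here.) -/
theorem result {X Y : Scheme.{u}} (f : X ⟶ Y) (g : Y ⟶ X)
    (hg : g ≫ f = 𝟙 Y)
    (hfin : (IsLocallyNoetherian Y ∧ LocallyOfFiniteType f) ∨
      (LocallyOfFinitePresentation f ∧ QuasiCompact f ∧ QuasiSeparated f))
    (hirr : ∀ y : Y, (∀ (K : Type u) [Field K] [Algebra (IsLocalRing.ResidueField (Y.presheaf.stalk y)) K],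
        IsIrreducible ((FBase.bcπ (f.fiberToSpecResidueField y) K ≫ f.fiberι y).base ⁻¹' connectedComponentIn (f.base ⁻¹' {y}) (g.base y)))) :
    IsOpen {x : X | x ∈ MoreMor.sectionComponents f g ∧ (∃ V ∈ nhds (f.base x), ∀ z ∈ V, topologicalKrullDim ↥(connectedComponentIn (f.base ⁻¹' {z}) (g.base z)) = topologicalKrullDim ↥(connectedComponentIn (f.base ⁻¹' {(f.base x)}) (g.base (f.base x)))) ∧
      FBase.IsGeomReducedAt (f.fiberToSpecResidueField (f.base x)) (f.asFiber x)} := by
  rcases hfin with ⟨h1, h2⟩ | ⟨h1, h2, h3⟩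
  · haveI := h1; haveI := h2
    exact Groth.Agent.SectionCompIrr4.isOpen_const_geomReduced f g hg hirr
  haveI := h1; haveI := h2; haveI := h3
  rw [isOpen_iff_mem_nhds]
  rintro x ⟨hx, hc, hred⟩
  obtain ⟨O, hyO, hOc, A, R, hR, σ, hσ, P, X₁, p, u, t, q, u₁, s₁, π, hrange, hsq, ht, htp, sq₁, hs₁, htq, hu₁, -,
    hgi₁, hc₁, -⟩ := Groth.Agent.SectionCompModel4.exists_model f g hg hirr hc
  haveI := hσ; haveI := hR; haveI := hu₁
  haveI : IsOpenImmersion p := MorphismProperty.of_isPullback hsq.flip hσ
  obtain ⟨b, hb⟩ : f x ∈ Set.range σ := hrange.ge hyO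
  obtain ⟨a, ha, -⟩ := Scheme.exists_preimage_of_isPullback hsq x b hb.symm
  subst ha
  let W₁ : Set X₁ := {x : X₁ | x ∈ MoreMor.sectionComponents u₁ s₁ ∧
    (∃ V ∈ nhds (u₁ x), ∀ z ∈ V, topologicalKrullDim ↥(Groth.Agent.SectionCompIrr4.comp u₁ s₁ z) =
      topologicalKrullDim ↥(Groth.Agent.SectionCompIrr4.comp u₁ s₁ (u₁ x))) ∧
    FBase.IsGeomReducedAt (u₁.fiberToSpecResidueField (u₁ x)) (u₁.asFiber x)}
  have hW₁ : IsOpen W₁ := Groth.Agent.SectionCompIrr4.isOpen_const_geomReduced u₁ s₁ hs₁ hgi₁
  have hS := Groth.Agent.SectionCompConn4.sectionComponents_baseChange hg hsq ht htp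
  have hS₁ := Groth.Agent.SectionCompConn4.sectionComponents_baseChange hs₁ sq₁ ht htq
  have haW : q a ∈ W₁ := by
    refine ⟨?_, ⟨Set.univ, Filter.univ_mem, fun z _ => hc₁ _ _⟩,
      Groth.Agent.SectionCompFlat4.isGeomReducedAt_of_baseChange u₁ sq₁ a
        (Groth.Agent.FlatUnivOpen4.isGeomReducedAt_baseChange f hsq a hred)⟩
    exact (hS₁.symm.trans hS).ge hx
  refine Filter.mem_of_superset ((p.isOpenEmbedding.isOpenMap _ (hW₁.preimage q.continuous)).mem_nhds ⟨a, haW, rfl⟩) ?_
  rintro _ ⟨c, ⟨hc1, -, hc3⟩, rfl⟩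
  have hcO : f (p c) ∈ O := by
    rw [← Scheme.Hom.comp_apply, hsq.w, Scheme.Hom.comp_apply]
    exact hrange.le ⟨u c, rfl⟩
  refine ⟨(hS.symm.trans hS₁).ge hc1, ⟨O, O.2.mem_nhds hcO, fun z hz => (hOc z hz).trans (hOc _ hcO).symm⟩, ?_⟩
  exact Groth.Agent.SectionCompFlat4.isGeomReducedAt_of_baseChange f hsq c
    (Groth.Agent.FlatUnivOpen4.isGeomReducedAt_baseChange u₁ sq₁ c hc3)

end Groth.Agent.S5928
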