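import Groth.Statements.S5929
import Groth.Agent.Lib.FlatSyz.ProjDim
import Mathlib.CategoryTheory.Preadditive.Projective.Resolution
import Mathlib.Algebra.Homology.QuasiIso

set_option autoImplicit false
universe u
open TensorProduct CategoryTheory
open EGA43

namespace Groth.Agent.S5929

section

open Groth.Agent.FlatSyz

/-- A syzygy: a submodule of a finite free module, finitely presented and flat over the base. -/
structure Stage (A B : Type u) [CommRing A] [CommRing B] [Algebra A B] where
  rk : ℕ
  K : Submodule B (Fin rk → B)
  fp : Module.FinitePresentation B K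
  flat : Module.Flat A K

variable {A B : Type u} [CommRing A] [CommRing B] [Algebra A B] [Algebra.FinitePresentation A B]
  [Module.Flat A B]

theorem exists_stage {M : Type u} [AddCommGroup M] [Module A M] [Module B M] [IsScalarTower A B M]
    [Module.FinitePresentation B M] [Module.Flat A M] :
    ∃ (T : Stage A B) (π : (Fin T.rk → B) →ₗ[B] M), Function.Surjective π ∧ LinearMap.ker π = T.K := by
  classical
  obtain ⟨k, π, hπ⟩ := Module.Finite.exists_fin' B M
  have : Module.Flat A (Fin k → B) :=
    haveI : Module.Flat A (Π₀ _ : Fin k, B) := Module.Flat.dfinsupp_iff.2 fun _ => inferInstance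
    Module.Flat.of_linearEquiv
      ((Finsupp.linearEquivFunOnFinite A B (Fin k)).symm.trans (finsuppLequivDFinsupp A))
  exact ⟨⟨k, LinearMap.ker π, finitePresentation_ker (A := A) π hπ,
    flat_of_exact ((LinearMap.ker π).subtype.restrictScalars A) (LinearMap.ker π).injective_subtype
      (π.restrictScalars A) (LinearMap.exact_subtype_ker_map π) hπ⟩, π, hπ, rfl⟩

theorem exists_next (S : Stage A B) :
    ∃ (T : Stage A B) (π : (Fin T.rk → B) →ₗ[B] S.K), Function.Surjective π ∧ LinearMap.ker π = T.K :=
  haveI := S.fp
  haveI := S.flat
  exists_stage

end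

/-- Let A be a commutative ring, B a finitely presented A-algebra which is flat as an A-module, and M a
finitely presented B-module which is flat as an A-module. Then M admits a left resolution by free
B-modules of finite type: there is a projective resolution of M in the category of B-modules (a
chain complex of projective modules with a quasi-isomorphism to M in degree 0) every term of which
is a finitely generated free B-module. -/
theorem result (A B M : Type u) [CommRing A] [CommRing B] [Algebra A B]
    [Algebra.FinitePresentation A B] [Module.Flat A B] [AddCommGroup M] [Module B M] [Module A M]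
    [IsScalarTower A B M] [Module.FinitePresentation B M] [Module.Flat A M] :
    ∃ P : ProjectiveResolution (ModuleCat.of B M),
      ∀ n : ℕ, Module.Finite B (P.complex.X n) ∧ Module.Free B (P.complex.X n) := by
  obtain ⟨T₀, π₀, hπ₀, hker₀⟩ := exists_stage (A := A) (B := B) (M := M)
  choose next π hπ hker using exists_next (A := A) (B := B)
  let stage : ℕ → Stage A B := fun n => Nat.rec T₀ (fun _ S => next S) n
  let X : ℕ → ModuleCat.{u} B := fun n => ModuleCat.of B (Fin (stage n).rk → B)
  let d : ∀ n, (Fin (stage (n + 1)).rk → B) →ₗ[B] (Fin (stage n).rk → B) := fun n =>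
    (stage n).K.subtype.comp (π (stage n))
  have hd_range : ∀ n, LinearMap.range (d n) = (stage n).K := fun n => by
    rw [LinearMap.range_comp, LinearMap.range_eq_top.2 (hπ (stage n)), Submodule.map_top,
      Submodule.range_subtype]
  have hd_ker : ∀ n, LinearMap.ker (d n) = (stage (n + 1)).K := fun n => by
    rw [LinearMap.ker_comp, Submodule.ker_subtype]
    exact hker (stage n)
  let C : ChainComplex (ModuleCat.{u} B) ℕ := ChainComplex.of X (fun n => ModuleCat.ofHom (d n))
    fun n => ModuleCat.hom_ext (LinearMap.range_le_ker_iff.1 (le_of_eq ((hd_range (n + 1)).trans (hd_ker n).symm)))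
  have hC : ∀ n, C.d (n + 1) n = ModuleCat.ofHom (d n) := fun n => by simp [C]
  have hπd : C.d 1 0 ≫ ModuleCat.ofHom π₀ = 0 := by
    rw [hC]
    exact ModuleCat.hom_ext (LinearMap.range_le_ker_iff.1 (le_of_eq ((hd_range 0).trans hker₀.symm)))
  let P : ProjectiveResolution (ModuleCat.of B M) :=
    { complex := C
      projective := fun n => (IsProjective.iff_projective (R := B) (Fin (stage n).rk → B)).1 inferInstance
      π := (ChainComplex.toSingle₀Equiv C (ModuleCat.of B M)).symm ⟨ModuleCat.ofHom π₀, hπd⟩
      quasiIso := ⟨fun n => by
        cases n with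
        | zero =>
          rw [ChainComplex.quasiIsoAt₀_iff, ShortComplex.quasiIso_iff_of_zeros']
          · refine (ShortComplex.exact_and_epi_g_iff_of_iso
              (S₂ := ShortComplex.mk (ModuleCat.ofHom (d 0)) (ModuleCat.ofHom π₀)
                (ModuleCat.hom_ext (LinearMap.range_le_ker_iff.1 (le_of_eq ((hd_range 0).trans hker₀.symm))))) ?_).2
              ⟨ShortComplex.Exact.moduleCat_of_range_eq_ker _ _ ((hd_range 0).trans hker₀.symm),
                (ModuleCat.epi_iff_surjective _).2 hπ₀⟩
            exact ShortComplex.isoMk (Iso.refl _) (Iso.refl _) (Iso.refl _)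
              (by
                show 𝟙 _ ≫ ModuleCat.ofHom (d 0) = C.d 1 0 ≫ 𝟙 _
                rw [Category.id_comp, Category.comp_id]
                exact (hC 0).symm)
              (ModuleCat.hom_ext (LinearMap.ext fun x => by
                simp only [Iso.refl_hom]
                exact (congrArg (fun g => ModuleCat.Hom.hom g x) (ChainComplex.toSingle₀Equiv_symm_apply_f_zero
                  (C := C) (X := ModuleCat.of B M) (ModuleCat.ofHom π₀) hπd)).symm))
          all_goals rfl
        | succ n =>
          rw [quasiIsoAt_iff_exactAt']
          · rw [HomologicalComplex.exactAt_iff' _ (n + 1 + 1) (n + 1) n (by simp) (by simp),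
              ShortComplex.moduleCat_exact_iff_range_eq_ker]
            show LinearMap.range (C.d (n + 1 + 1) (n + 1)).hom = LinearMap.ker (C.d (n + 1) n).hom
            rw [hC, hC]
            exact (hd_range (n + 1)).trans (hd_ker n).symm
          · apply ChainComplex.exactAt_succ_single_obj⟩ }
  exact ⟨P, fun n => ⟨inferInstanceAs (Module.Finite B (Fin (stage n).rk → B)),
    inferInstanceAs (Module.Free B (Fin (stage n).rk → B))⟩⟩

end Groth.Agent.S5929
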