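import Groth.Statements.S5931
import Groth.Agent.Lib.FibDepth5.GeomRkOpenApps
-- import your own Groth.Agent.* helpers here

set_option autoImplicit false
open CategoryTheory AlgebraicGeometry
universe u
open EGA43

namespace Groth.Agent.S5931

/-- Let f : X ⟶ Y be a flat morphism locally of finite presentation and k a natural number. The set of
points x of X such that the fibre X_{f x} satisfies the geometric condition (R_k) at x (for every
finite field extension K of the residue field of f x and every point x' over x of the base change of
X_{f x} to K, the local ring at x' satisfies Serre's condition (R_k)), the local ring of X_{f x} at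
x is equidimensional (the quotients by its minimal primes all have its dimension), and x lies on no
embedded associated cycle of X_{f x} (every associated prime of that local ring is a minimal prime),
is open in X. -/
theorem result {X Y : Scheme.{u}} (f : X ⟶ Y) [Flat f]
    [LocallyOfFinitePresentation f] (k : ℕ) :
    IsOpen {x : X | (∀ (K : Type u) [Field K] [Algebra (IsLocalRing.ResidueField (Y.presheaf.stalk (f.base x))) K],
        Module.Finite (IsLocalRing.ResidueField (Y.presheaf.stalk (f.base x))) K →
        ∀ x' : ↥(FBase.bc (f.fiberToSpecResidueField (f.base x)) K),
          (FBase.bcπ (f.fiberToSpecResidueField (f.base x)) K).base x' = f.asFiber x →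
          LocCoh.HasRk k ((FBase.bc (f.fiberToSpecResidueField (f.base x)) K).presheaf.stalk x')) ∧
      EGA4.IsEquidim ↑((f.fiber (f.base x)).presheaf.stalk (f.asFiber x)) ∧ (∀ p ∈ associatedPrimes ↑((f.fiber (f.base x)).presheaf.stalk (f.asFiber x)) ↑((f.fiber (f.base x)).presheaf.stalk (f.asFiber x)), p ∈ minimalPrimes ↑((f.fiber (f.base x)).presheaf.stalk (f.asFiber x)))} := by
  exact FibDepth5.isOpen_geomRk_noEmbedded f k

end Groth.Agent.S5931
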