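import Groth.Statements.S5936
import Groth.Agent.Lib.FlatSyz.TorDim

set_option autoImplicit false
universe u
open TensorProduct CategoryTheory
open EGA43

namespace Groth.Agent.S5936

/-- Let A be a commutative ring, B a finitely presented A-algebra which is flat as an A-module, and M a
finitely presented B-module which is flat as an A-module. Then the projective dimension of M as a
B-module equals its Tor-dimension, the least n such that Tor_i^B(M, N) = 0 for every i > n and every
B-module N. (Both sides are valued in WithBot ℕ∞, with the zero module of dimension ⊥; Tor_i^B(M, −)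
is the i-th left derived functor of M ⊗_B −. In general only Tor-dimension ≤ projective dimension
holds.) -/
theorem result (A B M : Type u) [CommRing A] [CommRing B] [Algebra A B]
    [Algebra.FinitePresentation A B] [Module.Flat A B] [AddCommGroup M] [Module B M] [Module A M]
    [IsScalarTower A B M] [Module.FinitePresentation B M] [Module.Flat A M] :
    projectiveDimension (ModuleCat.of B M) =
      sInf {n : WithBot ℕ∞ | ∀ i : ℕ, n < i → ∀ N : ModuleCat.{u} B,
        Limits.IsZero (((Tor (ModuleCat.{u} B) i).obj (ModuleCat.of B M)).obj N)} := by
  let S := {n : WithBot ℕ∞ | ∀ i : ℕ, n < i → ∀ N : ModuleCat.{u} B,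
    Limits.IsZero (((Tor (ModuleCat.{u} B) i).obj (ModuleCat.of B M)).obj N)}
  have hup : ∀ n : ℕ, projectiveDimension (ModuleCat.of B M) ≤ n ↔ (n : WithBot ℕ∞) ∈ S := fun n => by
    rw [projectiveDimension_le_iff, Groth.Agent.FlatSyz.hasProjectiveDimensionLE_iff_forall_tor (A := A) n M]
    show _ ↔ ∀ i : ℕ, (n : WithBot ℕ∞) < i → _
    simp only [Nat.cast_lt]
  apply le_antisymm
  · refine le_sInf fun c hc => ?_
    induction c with
    | bot =>
      rw [le_bot_iff, projectiveDimension_eq_bot_iff, ModuleCat.isZero_iff_subsingleton]
      exact Groth.Agent.FlatSyz.subsingleton_of_isZero_tor_zero (hc 0 (WithBot.bot_lt_coe _) _)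
    | coe c =>
      induction c with
      | top => simp
      | coe n =>
        norm_cast
        exact (hup n).2 hc
  · refine sInf_le ?_
    generalize hd : projectiveDimension (ModuleCat.of B M) = d
    intro i hi
    induction d with
    | bot =>
      rw [projectiveDimension_eq_bot_iff, ModuleCat.isZero_iff_subsingleton] at hd
      haveI : Subsingleton M := hd
      exact fun N => Groth.Agent.FlatSyz.isZero_tor_of_subsingleton i N
    | coe c =>
      induction c with
      | top => exact absurd hi (by simp)
      | coe n => exact (hup n).1 hd.le i hi

end Groth.Agent.S5936
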