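import Groth.Statements.S5939
import Groth.Agent.Lib.SchBasic.Basic

set_option autoImplicit false
universe u
open CategoryTheory AlgebraicGeometry
open Unram17

namespace Groth.Agent.S5939

/-- Let f : X ⟶ Y be faithfully flat, locally of finite presentation and quasi-compact, and let g : Y ⟶
Z be a morphism such that f ≫ g is of finite presentation (locally of finite presentation,
quasi-compact and quasi-separated). Then g is quasi-compact and quasi-separated; together with the
descent of local finite presentation along f this says that g is of finite presentation. This is the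
case f quasi-compact. -/
theorem result {X Y Z : Scheme.{u}} (f : X ⟶ Y) (g : Y ⟶ Z)
    [Surjective f] [Flat f] [LocallyOfFinitePresentation f] [QuasiCompact f]
    [LocallyOfFinitePresentation (f ≫ g)] [QuasiCompact (f ≫ g)] [QuasiSeparated (f ≫ g)] :
    QuasiCompact g ∧ QuasiSeparated g := by
  refine ⟨SchBasic.quasiCompact_of_comp_surjective f g, ?_⟩
  rw [quasiSeparated_iff]
  let m := Limits.pullback.map (f ≫ g) (f ≫ g) g g f f (𝟙 Z) (Category.comp_id _) (Category.comp_id _)
  haveI : QuasiCompact m := MorphismProperty.pullbackMap (P := @QuasiCompact) (inferInstanceAs (QuasiCompact f)) (inferInstanceAs (QuasiCompact f)) rfl rfl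
  have hm : f ≫ Limits.pullback.diagonal g = Limits.pullback.diagonal (f ≫ g) ≫ m := by
    apply Limits.pullback.hom_ext <;> simp only [m, Category.assoc, Limits.pullback.lift_fst, Limits.pullback.lift_snd,
        Limits.pullback.diagonal_fst, Limits.pullback.diagonal_snd, Limits.pullback.diagonal_fst_assoc, Limits.pullback.diagonal_snd_assoc, Category.comp_id]
  haveI : QuasiCompact (f ≫ Limits.pullback.diagonal g) := hm ▸ inferInstance
  exact SchBasic.quasiCompact_of_comp_surjective f _

end Groth.Agent.S5939
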