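import Groth.Statements.S5946
import Groth.Agent.Lib.DiagDesc5.Main

set_option autoImplicit false
universe u
open CategoryTheory CategoryTheory.Limits AlgebraicGeometry
open Unram17

namespace Groth.Agent.S5946

/-- Let S = lim S_i be a cofiltered limit of schemes with affine transition maps, f₀ : X₀ ⟶ S_{i₀} a
morphism locally of finite presentation with X₀ quasi-compact, and f : X ⟶ S its base change along S
⟶ S_{i₀} (a pullback square). Then f is differentially smooth, i.e. the diagonal X ⟶ X ×_S X is a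
quasi-regular immersion, if and only if, for some index j over i₀, the base change f_j : X_j ⟶ S_j
of f₀ along S_j ⟶ S_{i₀} is differentially smooth. (The published statement also asserts that f_k is
differentially smooth for every index k over j; that part is a base change and this row does not
restate it.) -/
theorem result {I : Type u} [SmallCategory I] [IsCofiltered I]
    (D : I ⥤ Scheme.{u}) (c : Limits.Cone D) (hc : Limits.IsLimit c)
    [∀ (i j : I) (f : i ⟶ j), IsAffineHom (D.map f)] (i₀ : I)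
    {X₀ : Scheme.{u}} (f₀ : X₀ ⟶ D.obj i₀) [LocallyOfFinitePresentation f₀] [CompactSpace ↥X₀]
    {X : Scheme.{u}} (f : X ⟶ c.pt) (qX : X ⟶ X₀) (hX : IsPullback qX f f₀ (c.π.app i₀)) :
    RegImm.IsRegularImmersion RegImm.Kind.quasi (pullback.diagonal f) ↔
      ∃ (j : I) (φ : j ⟶ i₀) (Xj : Scheme.{u}) (fj : Xj ⟶ D.obj j) (pX : Xj ⟶ X₀),
        IsPullback pX fj f₀ (D.map φ) ∧ RegImm.IsRegularImmersion RegImm.Kind.quasi (pullback.diagonal fj) := by
  rw [Groth.Agent.DiagDesc5.quasi_diagonal_iff_good f₀ qX f (c.π.app i₀) hX]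
  constructor
  · intro hG
    let c' := c.whisker (Over.forget i₀)
    have hc' : Limits.IsLimit c' := (Functor.Initial.isLimitWhiskerEquiv (Over.forget i₀) c).symm hc
    have hq : ∀ k, c'.π.app k ≫ (Groth.Agent.Descend.overT D i₀).app k = c.π.app i₀ := fun k => c.w k.hom
    haveI : ∀ k, IsAffineHom ((Groth.Agent.Descend.pbFst (Over.forget i₀ ⋙ D)
      (Groth.Agent.Descend.overT D i₀) f₀).app k) := fun k => inferInstance
    obtain ⟨k, hk⟩ := Groth.Agent.DiagDesc5.exists_good f₀ (h := Groth.Agent.Descend.pbFst (Over.forget i₀ ⋙ D) (Groth.Agent.Descend.overT D i₀) f₀)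
      (Groth.Agent.Descend.pbIsLimit _ (Groth.Agent.Descend.overT D i₀) f₀ c' hq hX hc')
      (fun k => Groth.Agent.Descend.pbCone_fst _ (Groth.Agent.Descend.overT D i₀) f₀ c' hq hX k) hG
    exact ⟨k.left, k.hom, _, pullback.snd f₀ (D.map k.hom), pullback.fst f₀ (D.map k.hom),
      IsPullback.of_hasPullback _ _,
      (Groth.Agent.DiagDesc5.quasi_diagonal_iff_good f₀ _ _ _ (IsPullback.of_hasPullback _ _)).2 hk⟩
  · rintro ⟨j, φ, Xj, fj, pX, hj, hq⟩
    have hG := (Groth.Agent.DiagDesc5.quasi_diagonal_iff_good f₀ pX fj _ hj).1 hq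
    have h1 : qX ≫ f₀ = (f ≫ c.π.app j) ≫ D.map φ := by rw [Category.assoc, c.w, hX.w]
    rw [← hj.lift_fst qX (f ≫ c.π.app j) h1]
    exact Groth.Agent.DiagDesc5.good_comp f₀ _ pX hG

end Groth.Agent.S5946
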