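import Groth.Statements.S5947
import Groth.Agent.Lib.Omega12.AffineDer
-- import your own Groth.Agent.* helpers here

set_option autoImplicit false
universe u
open CategoryTheory AlgebraicGeometry TopologicalSpace
open Nrm16

namespace Groth.Agent.S5947

/-- Let A be a commutative ring, B an A-algebra and L a B-module; put S = Spec A, X = Spec B and let F
be the O_X-module associated with L. For an S-derivation D of O_X into F write Γ(D) : B → L for its
effect on global sections (global sections of O_X and of F being identified with B and L by the
canonical isomorphisms). Then D ↦ Γ(D) is a bijection from the set of S-derivations of O_X into F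
onto the set of A-derivations of B into L: every Γ(D) is an A-derivation, and every A-derivation of
B into L is Γ(D) for exactly one D. (The published statement asserts an isomorphism of B-modules; no
module structure is placed on sheaf derivations here, so this row states the bijection.) -/
theorem result (A B : Type u) [CommRing A] [CommRing B] [Algebra A B]
    (L : Type u) [AddCommGroup L] [Module B L] [Module A L] [IsScalarTower A B L] :
    (∀ D : OmegaSh.Der (Spec.map (CommRingCat.ofHom (algebraMap A B))) (tilde (ModuleCat.of (CommRingCat.of B) L)),
      ∃ δ : Derivation A B L, ∀ t : B, D.app ⊤ ((Scheme.ΓSpecIso (CommRingCat.of B)).inv t) =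
        (tilde.isoTop (ModuleCat.of (CommRingCat.of B) L)).hom (δ t)) ∧
    ∀ δ : Derivation A B L,
      ∃! D : OmegaSh.Der (Spec.map (CommRingCat.ofHom (algebraMap A B))) (tilde (ModuleCat.of (CommRingCat.of B) L)),
        ∀ t : B, D.app ⊤ ((Scheme.ΓSpecIso (CommRingCat.of B)).inv t) =
          (tilde.isoTop (ModuleCat.of (CommRingCat.of B) L)).hom (δ t) := by
  exact Groth.Agent.Omega12.der_tilde A B L

end Groth.Agent.S5947
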