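import Groth.Statements.S5948
import Groth.Agent.Lib.FibFlat5.Constr

set_option autoImplicit false
universe u
open CategoryTheory CategoryTheory.Limits AlgebraicGeometry TopologicalSpace Topology
open Unram17

set_option backward.isDefEq.respectTransparency false
set_option linter.style.haveILetI false

namespace Groth.Agent.S5948

/-- Let g : X ⟶ S and h : Y ⟶ S be locally of finite presentation, f : X ⟶ Y a morphism with f ≫ h = g,
and F a quasi-coherent O_X-module of finite presentation. For x in X with s = g(x), the fibres X_s ⟶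
Y_s ⟶ Spec κ(s) of f over s are given by pullback squares, F_s is the pullback of F to X_s, and x is
identified with the unique point of X_s over it. Then the set E of points x such that F_s is flat
over Y_s at x (the stalk of F_s at x is a flat module over the local ring of Y_s at f_s(x)) is
locally constructible in X. -/
theorem result {X Y S : Scheme.{u}} (g : X ⟶ S) (h : Y ⟶ S)
    [LocallyOfFinitePresentation g] [LocallyOfFinitePresentation h] (f : X ⟶ Y) (w : f ≫ h = g)
    (F : X.Modules) [Coh.IsQCoh F] (hF : CohB1.IsFP F) :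
    IsLocallyConstructible {x : ↥X | ∀ (Xs Ys : Scheme.{u}) (ιX : Xs ⟶ X) (ιY : Ys ⟶ Y) (fs : Xs ⟶ Ys)
      (pY : Ys ⟶ Spec (S.residueField (g.base x))),
      IsPullback ιY pY h (S.fromSpecResidueField (g.base x)) → IsPullback ιX fs f ιY →
        ∀ x' : ↥Xs, ιX.base x' = x → FlatMod.IsFlatOverAt fs ((Scheme.Modules.pullback ιX).obj F) x'} := by
  subst w
  refine (congrArg IsLocallyConstructible (Set.ext fun x => ?_)).mp
    (FibFlat5.isLocallyConstructible f h F hF)
  constructor
  · intro hx Xs Ys ιX ιY fs pY hY hX x' hx'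
    let eY : Ys ⟶ h.fiber ((f ≫ h) x) := hY.isoPullback.hom
    have heY : eY ≫ h.fiberι _ = ιY := hY.isoPullback_hom_fst
    have hc := FibFlat5.fmap_isPullback f h ((f ≫ h) x)
    let m : Xs ⟶ (f ≫ h).fiber ((f ≫ h) x) := hc.lift ιX (fs ≫ eY) (by rw [Category.assoc, heY]; exact hX.w)
    have hm : m ≫ (f ≫ h).fiberι _ = ιX := hc.lift_fst _ _ _
    have hsq : IsPullback m fs (FibFlat5.fmap f h ((f ≫ h) x)) eY := by
      refine IsPullback.of_right ?_ (hc.lift_snd _ _ _) hc
      rw [hm, heY]
      exact hX
    have hmx : (f ≫ h).fiberι _ (m x') = x := by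
      rw [← Scheme.Hom.comp_apply, hm]; exact hx'
    haveI := M1.isQCoh_pullback ((f ≫ h).fiberι ((f ≫ h) x)) (M := F) inferInstance
    have h1 : FlatMod.IsFlatOverAt _ _ (m x') := (FibFlat5.fibFlat_iff f h F (m x')).1 (by rw [hmx]; exact hx)
    refine SchDom.isFlatOverAt_of_iso _ ?_ x' (FlatH4.isFlatOverAt_baseChange hsq _ x' h1)
    exact (Scheme.Modules.pullbackComp m _).app F ≪≫ (Scheme.Modules.pullbackCongr hm).app F
  · intro hx
    show FibFlat5.FibFlat f h F x
    rw [← (f ≫ h).fiberι_asFiber x, FibFlat5.fibFlat_iff]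
    exact hx _ _ _ _ _ (h.fiberToSpecResidueField ((f ≫ h) x))
      (IsPullback.of_hasPullback h (S.fromSpecResidueField _)) (FibFlat5.fmap_isPullback f h _) _
      ((f ≫ h).fiberι_asFiber x)

end Groth.Agent.S5948
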