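import Groth.Statements.S5949
import Groth.Agent.Lib.NormChar5.Basic

set_option autoImplicit false
universe u
open CategoryTheory AlgebraicGeometry
open Unram17

set_option backward.isDefEq.respectTransparency.types false

namespace Groth.Agent.S5949

/-- Let X be an integral scheme, X' ⟶ X its normalization (the normalization of X in its function
field), and f : Y ⟶ X a morphism of schemes. Then there is an isomorphism Y ≅ X' over X if and only
if: every local ring of Y is an integrally closed domain, f is an integral morphism, and f is
birational, i.e. Y is irreducible, the fibre of f over the generic point of X consists of the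
generic point of Y alone, and the induced map of local rings at the generic points is an
isomorphism. (The published statement allows X reduced with locally finitely many irreducible
components, the normalization then being taken componentwise; this row states the case of an
integral X. The quasi-compactness and quasi-separatedness binders on the generic point always hold
and only serve to form the normalization.) -/
theorem result (X : Scheme.{u}) [IsIntegral X]
    [QuasiCompact (X.fromSpecStalk (genericPoint X))] [QuasiSeparated (X.fromSpecStalk (genericPoint X))]
    {Y : Scheme.{u}} (f : Y ⟶ X) :
    (∃ e : Y ≅ Curv2.normalization X, e.hom ≫ Curv2.normalizationι X = f) ↔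
      Pi1.IsNormalScheme Y ∧ IsIntegralHom f ∧
        ∃ _ : IrreducibleSpace ↥Y, f.base ⁻¹' {genericPoint X} = {genericPoint Y} ∧
          IsIso (f.stalkMap (genericPoint Y)) := by
  let g := X.fromSpecStalk (genericPoint X)
  constructor
  · rintro ⟨e, rfl⟩
    haveI : IsIntegralHom (Curv2.normalizationι X) := inferInstanceAs (IsIntegralHom g.fromNormalization)
    obtain ⟨hi, hn⟩ := CurveNF.isIntegral_and_normal (g := g) NormUP12.id_hg
    haveI : IrreducibleSpace Y := e.hom.homeomorph.irreducibleSpace_iff.2 inferInstance
    have hgenY : e.hom (genericPoint Y) = genericPoint (Curv2.normalization X) := by
      refine IsGenericPoint.eq ?_ (genericPoint_spec _)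
      have := (genericPoint_spec Y).image e.hom.continuous
      rw [Set.image_univ, show Set.range e.hom = Set.univ from e.hom.homeomorph.surjective.range_eq, closure_univ] at this
      exact this
    refine ⟨Groth.Agent.NormChar5.isNormal_of_iso e.hom hn, inferInstance, inferInstance, ?_, ?_⟩
    · ext y
      simp only [Set.mem_preimage, Set.mem_singleton_iff]
      constructor
      · intro h
        apply e.hom.homeomorph.injective
        show e.hom y = e.hom (genericPoint Y)
        rw [hgenY]
        exact (CurveNF.preimage_genericPoint (g := g) NormUP12.id_hg).le
          (show Curv2.normalizationι X (e.hom y) = genericPoint X from h)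
      · rintro rfl
        show Curv2.normalizationι X (e.hom (genericPoint Y)) = _
        rw [hgenY]
        exact CurveNF.fromNormalization_genericPoint (g := g) NormUP12.id_hg
    · rw [Scheme.Hom.stalkMap_comp]
      haveI : IsIso ((Curv2.normalizationι X).stalkMap (e.hom (genericPoint Y))) := by
        rw [hgenY]; exact NormChar5.isIso_stalkMap_generic
      exact IsIso.comp_isIso' this (inferInstance : IsIso (e.hom.stalkMap (genericPoint Y)))
  · rintro ⟨hn, hint, hirr, hpre, hiso⟩
    exact NormChar5.exists_iso_of_birational f hn (hpre.ge rfl)

end Groth.Agent.S5949
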