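import Groth.Statements.S5950
import Groth.Agent.S5949
import Groth.Agent.Lib.CurveNF.Complete

set_option autoImplicit false
universe u
open CategoryTheory AlgebraicGeometry
open Unram17

set_option backward.isDefEq.respectTransparency.types false

namespace Groth.Agent.CurveNF'

theorem generic_mem' {Y : Scheme.{u}} [IrreducibleSpace Y] {V : Y.Opens} (hV : (V : Set Y).Nonempty) :
    genericPoint Y ∈ V :=
  ((genericPoint_spec Y).mem_open_set_iff V.isOpen).mpr (by simpa using hV)

end Groth.Agent.CurveNF'

namespace Groth.Agent.S5950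

/-- Let X be an integral scheme which has a nonempty (hence dense) open subset at whose points the local
rings are integrally closed, let X' ⟶ X be its normalization, and let f : Y ⟶ X be a morphism of
schemes. Then there is an isomorphism Y ≅ X' over X if and only if: every local ring of Y is an
integrally closed domain, f is an integral morphism, and there is a dense open subset U of X whose
preimage is dense in Y and such that the restriction f⁻¹(U) ⟶ U of f is an isomorphism. (The
published statement allows X reduced with locally finitely many irreducible components and a dense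
normal open subset; this row states the case of an integral X. The quasi-compactness and
quasi-separatedness binders on the generic point always hold and only serve to form the
normalization.) -/
theorem result (X : Scheme.{u}) [IsIntegral X]
    [QuasiCompact (X.fromSpecStalk (genericPoint X))] [QuasiSeparated (X.fromSpecStalk (genericPoint X))]
    (hV : ∃ V : X.Opens, (V : Set ↥X).Nonempty ∧ ∀ x ∈ V, IsIntegrallyClosed (X.presheaf.stalk x))
    {Y : Scheme.{u}} (f : Y ⟶ X) :
    (∃ e : Y ≅ Curv2.normalization X, e.hom ≫ Curv2.normalizationι X = f) ↔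
      Pi1.IsNormalScheme Y ∧ IsIntegralHom f ∧
        ∃ U : X.Opens, Dense (U : Set ↥X) ∧ Dense ((f ⁻¹ᵁ U : Y.Opens) : Set ↥Y) ∧ IsIso (f ∣_ U) := by
  let g := X.fromSpecStalk (genericPoint X)
  constructor
  · intro h
    obtain ⟨hn, hint, hirr, hpre, hiso⟩ := (S5949.result X f).1 h
    obtain ⟨V, ⟨x, hx⟩, hV⟩ := hV
    obtain ⟨W, hW, hxW, hWV⟩ := exists_isAffineOpen_mem_and_subset (x := x) (U := V) hx
    haveI : Nonempty W := ⟨⟨x, hxW⟩⟩
    haveI : IsDomain Γ(X, W) := IsIntegral.component_integral _
    haveI : IsIntegrallyClosed Γ(X, W) := by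
      refine IsIntegrallyClosed.of_localization_maximal fun P _ hP => ?_
      let y : PrimeSpectrum Γ(X, W) := ⟨P, hP.isPrime⟩
      have hy : hW.fromSpec y ∈ W := hW.range_fromSpec.le ⟨y, rfl⟩
      letI : Algebra Γ(X, W) (X.presheaf.stalk (hW.fromSpec y)) := (X.presheaf.germ W _ hy).hom.toAlgebra
      haveI : IsLocalization.AtPrime (X.presheaf.stalk (hW.fromSpec y)) P := hW.isLocalization_stalk' y hy
      haveI := hV _ (hWV hy)
      exact IsIntegrallyClosed.of_equiv (IsLocalization.algEquiv P.primeCompl (X.presheaf.stalk (hW.fromSpec y))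
        (Localization.AtPrime P)).toRingEquiv
    obtain ⟨e, rfl⟩ := h
    haveI := CurveNF.isIso_morphismRestrict_fromNormalization W hW ⟨x, hxW⟩
    refine ⟨hn, hint, W, W.2.dense ⟨x, hxW⟩, ((e.hom ≫ Curv2.normalizationι X) ⁻¹ᵁ W).2.dense ?_, ?_⟩
    · exact ⟨genericPoint Y, show (e.hom ≫ Curv2.normalizationι X) (genericPoint Y) ∈ W from
        (hpre.ge rfl : _ = genericPoint X).symm ▸ CurveNF.generic_mem ⟨x, hxW⟩⟩
    · rw [morphismRestrict_comp]
      have h5 : IsIso (Curv2.normalizationι X ∣_ W) := ‹_›
      have h6 : ∀ U : (Curv2.normalization X).Opens, IsIso (e.hom ∣_ U) := fun U =>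
        MorphismProperty.of_isPullback (P := MorphismProperty.isomorphisms Scheme)
          (isPullback_morphismRestrict e.hom U).flip (inferInstance : IsIso e.hom)
      exact IsIso.comp_isIso' (h6 (Curv2.normalizationι X ⁻¹ᵁ W)) h5
  · rintro ⟨hn, hint, U, hU, hfU, hiso⟩
    refine (S5949.result X f).2 ⟨hn, hint, ?_⟩
    haveI := hiso
    have hUne : (U : Set X).Nonempty := hU.nonempty
    have hηU : genericPoint X ∈ U := CurveNF.generic_mem hUne
    let r := (f ∣_ U).homeomorph
    haveI : IrreducibleSpace U :=
      (Subtype.irreducibleSpace ⟨hUne, (PreirreducibleSpace.isPreirreducible_univ (X := X)).open_subset U.2 (Set.subset_univ _)⟩ : IrreducibleSpace (U : Set X))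
    haveI : IrreducibleSpace Y := by
      have h1 : IsIrreducible ((f ⁻¹ᵁ U : Y.Opens) : Set Y) := by
        haveI : IrreducibleSpace (f ⁻¹ᵁ U).toScheme := r.irreducibleSpace_iff.2 ‹_›
        have := IrreducibleSpace.isIrreducible_univ (f ⁻¹ᵁ U).toScheme
        have h2 := this.image (f ⁻¹ᵁ U).ι (f ⁻¹ᵁ U).ι.continuous.continuousOn
        rwa [Set.image_univ, Scheme.Opens.range_ι] at h2
      have h3 := h1.closure
      rw [hfU.closure_eq] at h3
      exact irreducibleSpace_def _ |>.2 h3
    have hgenU : genericPoint Y ∈ f ⁻¹ᵁ U := CurveNF'.generic_mem' hfU.nonempty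
    have hfgen : f (genericPoint Y) = genericPoint X := by
      refine S9791.genericPoint_eq_of_specializes ?_
      obtain ⟨⟨y, hy⟩, hy'⟩ := r.surjective ⟨genericPoint X, hηU⟩
      have h4 : f y = genericPoint X := (morphismRestrict_base_coe f U ⟨y, hy⟩).symm.trans (congrArg Subtype.val hy')
      rw [← h4]
      exact (genericPoint_specializes y).map f.continuous
    refine ⟨inferInstance, ?_, ?_⟩
    · ext y
      simp only [Set.mem_preimage, Set.mem_singleton_iff]
      refine ⟨fun h => ?_, fun h => h ▸ hfgen⟩
      have hy : y ∈ f ⁻¹ᵁ U := show f y ∈ U from h.symm ▸ hηU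
      refine congrArg Subtype.val (r.injective (a₁ := ⟨y, hy⟩) (a₂ := ⟨genericPoint Y, hgenU⟩) ?_)
      apply Subtype.ext
      show ((f ∣_ U) ⟨y, hy⟩).1 = ((f ∣_ U) ⟨genericPoint Y, hgenU⟩).1
      rw [morphismRestrict_base_coe, morphismRestrict_base_coe]
      exact h.trans hfgen.symm
    · exact ((MorphismProperty.isomorphisms CommRingCat).arrow_mk_iso_iff
        (morphismRestrictStalkMap f U ⟨genericPoint Y, hgenU⟩)).1 (inferInstance : IsIso _)

end Groth.Agent.S5950
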