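import Groth.Statements.S5951
import Groth.Agent.Lib.FormalH7.Ideal
-- import your own Groth.Agent.* helpers here

set_option autoImplicit false
universe u
open CategoryTheory CategoryTheory.Limits AlgebraicGeometry TopologicalSpace Opposite
open Nrm16

namespace Groth.Agent.S5951

/-- Let f : Y ⟶ X be a closed immersion, v : X' ⟶ X a morphism and Y' a fibre product of Y and X' over
X, with projections u : Y' ⟶ Y and f' : Y' ⟶ X'. For each n let w be the morphism from the n-th
infinitesimal neighbourhood of f' to that of f compatible with the two inclusions and v (it is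
unique, the inclusions being closed immersions). Then w and the inclusion of the neighbourhood of f'
into X' exhibit that neighbourhood as the fibre product of the n-th infinitesimal neighbourhood of f
with X' over X. (The published statement allows f to be any immersion, or any morphism with
surjective comorphism when v is flat; this row states the case of a closed immersion.) -/
theorem result {Y X Y' X' : Scheme.{u}} (f : Y ⟶ X) [IsClosedImmersion f]
    (v : X' ⟶ X) (u : Y' ⟶ Y) (f' : Y' ⟶ X') (hsq : IsPullback u f' f v) (n : ℕ)
    (w : PrinPart.infNbhd f' n ⟶ PrinPart.infNbhd f n)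
    (hw : w ≫ PrinPart.infNbhdι f n = PrinPart.infNbhdι f' n ≫ v) :
    IsPullback w (PrinPart.infNbhdι f' n) (PrinPart.infNbhdι f n) v := by
  haveI : IsClosedImmersion f' := MorphismProperty.of_isPullback hsq inferInstance
  have hk : f'.ker = f.ker.comap v := Groth.Agent.FormalH7.ker_of_isPullback hsq.flip
  have hK : (f.ker ^ (n + 1)).comap v = f'.ker ^ (n + 1) := by
    rw [Groth.Agent.BlowUpExist.comap_pow, hk]
  let e : PrinPart.infNbhd f' n ≅ pullback v (PrinPart.infNbhdι f n) :=
    eqToIso (by rw [PrinPart.infNbhd, hK]) ≪≫ (f.ker ^ (n + 1)).comapIso v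
  have key : ∀ (M N : X'.IdealSheafData) (_ : M = N) (h' : M.subscheme = N.subscheme),
      eqToHom h' ≫ N.subschemeι = M.subschemeι := by
    intro M N h h'; subst h; simp
  have he : e.hom ≫ pullback.fst v (PrinPart.infNbhdι f n) = PrinPart.infNbhdι f' n := by
    show (eqToHom (congrArg Scheme.IdealSheafData.subscheme hK.symm) ≫ ((f.ker ^ (n + 1)).comapIso v).hom) ≫ pullback.fst v (f.ker ^ (n + 1)).subschemeι =
      (f'.ker ^ (n + 1)).subschemeι
    rw [Category.assoc, Scheme.IdealSheafData.comapIso_hom_fst]
    exact key _ _ hK.symm _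
  have hw' : e.hom ≫ pullback.snd v (PrinPart.infNbhdι f n) = w := by
    haveI : Mono (PrinPart.infNbhdι f n) := by unfold PrinPart.infNbhdι; infer_instance
    rw [← cancel_mono (PrinPart.infNbhdι f n), Category.assoc, ← pullback.condition, ← Category.assoc, he, hw]
  refine (IsPullback.of_iso (IsPullback.of_hasPullback v (PrinPart.infNbhdι f n)) e.symm (Iso.refl _) (Iso.refl _)
    (Iso.refl _) ?_ ?_ ?_ ?_).flip
  · simp only [Iso.symm_hom, Iso.refl_hom, Category.comp_id]
    rw [← he, Iso.inv_hom_id_assoc]
  · simp only [Iso.symm_hom, Iso.refl_hom, Category.comp_id]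
    rw [← hw', Iso.inv_hom_id_assoc]
  · simp
  · simp

end Groth.Agent.S5951
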