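import Groth.Statements.S5953
import Groth.Agent.Lib.GrMap12.Basic
-- import your own Groth.Agent.* helpers here

set_option autoImplicit false
universe u
open CategoryTheory CategoryTheory.Limits AlgebraicGeometry TopologicalSpace Opposite
open Nrm16

namespace Groth.Agent.S5953

/-- Let f : Y ⟶ X be a closed immersion, v : X' ⟶ X a flat morphism, Y' a fibre product of Y and X' over
X with projections u : Y' ⟶ Y and f' : Y' ⟶ X', and n a natural number. Let φ : u^* Gr_n(f) ⟶
Gr_n(f') be the canonical O_{Y'}-linear map between the n-th graded pieces of the ideals of f and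
f'. Then φ is an isomorphism. (The published statement assumes only that v is flat and that f is a
morphism of schemes with surjective comorphism; this row also assumes f a closed immersion, the case
in which the graded pieces are formed here.) -/
theorem result {Y X Y' X' : Scheme.{u}} (f : Y ⟶ X) [IsClosedImmersion f]
    (v : X' ⟶ X) [Flat v] (u : Y' ⟶ Y) (f' : Y' ⟶ X') (hsq : IsPullback u f' f v) (n : ℕ)
    (φ : (Scheme.Modules.pullback u).obj (PrinPart.grMod f n) ⟶ PrinPart.grMod f' n)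
    (hφ : PrinPart.IsGrMap f' f v u n φ) :
    IsIso φ := by
  have hk : f'.ker ^ n = (f.ker ^ n).comap v := by
    rw [Groth.Agent.BlowUpExist.comap_pow, Groth.Agent.FormalH7.ker_of_isPullback hsq.flip]
  have key : ∀ (K : X'.IdealSheafData) (_ : K = (f.ker ^ n).comap v)
      (ψ : (Scheme.Modules.pullback u).obj (PrinPart.grMod f n) ⟶ (Scheme.Modules.pullback f').obj (ClSub.idealMod K)),
      (∀ (U' : X.Opens) (s' : Γ(ClSub.idealMod (f.ker ^ n), U')) (s : Γ(ClSub.idealMod K, v ⁻¹ᵁ U')),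
        OmegaSh.idealSect K (v ⁻¹ᵁ U') s = v.app U' (OmegaSh.idealSect (f.ker ^ n) U' s') →
        ∀ (V : Y'.Opens) (h₁ : V ≤ u ⁻¹ᵁ (f ⁻¹ᵁ U')) (h₂ : V ≤ f' ⁻¹ᵁ (v ⁻¹ᵁ U')),
          ((Scheme.Modules.pullback f').obj (ClSub.idealMod K)).presheaf.map (homOfLE h₁).op
              (ψ.app (u ⁻¹ᵁ (f ⁻¹ᵁ U')) (OmegaSh.pullSect u _ (f ⁻¹ᵁ U') (PrinPart.grSect f n U' s'))) =
            ((Scheme.Modules.pullback f').obj (ClSub.idealMod K)).presheaf.map (homOfLE h₂).op
              (OmegaSh.pullSect f' (ClSub.idealMod K) (v ⁻¹ᵁ U') s)) →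
      IsIso ψ := by
    rintro K rfl ψ hψ
    rw [Groth.Agent.GrMap12.eq_canMap hφ.1 (f.ker ^ n) ((f.ker ^ n).comap v)
      (Scheme.IdealSheafData.le_map_iff_comap_le.2 le_rfl) ψ hψ]
    exact Groth.Agent.GrMap12.isIso_canMap hφ.1 _
  exact key (f'.ker ^ n) hk φ hφ.2

end Groth.Agent.S5953
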