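import Groth.Statements.S5963
import Groth.Agent.Lib.GrMap12.Section
-- import your own Groth.Agent.* helpers here

set_option autoImplicit false
universe u
open CategoryTheory CategoryTheory.Limits AlgebraicGeometry TopologicalSpace Opposite
open Nrm16

namespace Groth.Agent.S5963

/-- Let g : X ⟶ Y be a morphism with a section f : Y ⟶ X which is a closed immersion, u : Y' ⟶ Y a
morphism, X' a fibre product of X and Y' over Y with projections v : X' ⟶ X and g' : X' ⟶ Y', and f'
: Y' ⟶ X' the induced section of g' (so f' ≫ g' = 𝟙 and f' ≫ v = u ≫ f). Let φ : u^* Gr_1(f) ⟶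
Gr_1(f') be the canonical O_{Y'}-linear map between the conormal sheaves I/I² and I'/I'² of f and
f'. Then φ is an isomorphism. (The published statement allows any section f, and also identifies,
for every n, the n-th infinitesimal neighbourhood of f', as a scheme over X' and as a scheme affine
over Y', with the base change of the n-th infinitesimal neighbourhood of f along v and along u; this
row assumes f a closed immersion, the case in which the conormal sheaves are formed here, and states
only the assertion on conormal sheaves.) -/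
theorem result {X Y X' Y' : Scheme.{u}} (g : X ⟶ Y) (f : Y ⟶ X)
    [IsClosedImmersion f] (hf : f ≫ g = 𝟙 Y) (u : Y' ⟶ Y) (v : X' ⟶ X) (g' : X' ⟶ Y')
    (hsq : IsPullback v g' g u) (f' : Y' ⟶ X') (hf' : f' ≫ g' = 𝟙 Y') (hf'v : f' ≫ v = u ≫ f)
    (φ : (Scheme.Modules.pullback u).obj (PrinPart.grMod f 1) ⟶ PrinPart.grMod f' 1)
    (hφ : PrinPart.IsGrMap f' f v u 1 φ) :
    IsIso φ := by
  have key : ∀ (K : X.IdealSheafData) (K' : X'.IdealSheafData), f.ker = K → f'.ker = K' →
      ∀ (ψ : (Scheme.Modules.pullback u).obj ((Scheme.Modules.pullback f).obj (ClSub.idealMod K)) ⟶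
        (Scheme.Modules.pullback f').obj (ClSub.idealMod K')),
      (∀ (U' : X.Opens) (s' : Γ(ClSub.idealMod K, U')) (s : Γ(ClSub.idealMod K', v ⁻¹ᵁ U')),
        OmegaSh.idealSect K' (v ⁻¹ᵁ U') s = v.app U' (OmegaSh.idealSect K U' s') →
        ∀ (V : Y'.Opens) (h₁ : V ≤ u ⁻¹ᵁ (f ⁻¹ᵁ U')) (h₂ : V ≤ f' ⁻¹ᵁ (v ⁻¹ᵁ U')),
          ((Scheme.Modules.pullback f').obj (ClSub.idealMod K')).presheaf.map (homOfLE h₁).op
              (ψ.app (u ⁻¹ᵁ (f ⁻¹ᵁ U')) (OmegaSh.pullSect u _ (f ⁻¹ᵁ U')
                (OmegaSh.pullSect f (ClSub.idealMod K) U' s'))) =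
            ((Scheme.Modules.pullback f').obj (ClSub.idealMod K')).presheaf.map (homOfLE h₂).op
              (OmegaSh.pullSect f' (ClSub.idealMod K') (v ⁻¹ᵁ U') s)) →
      IsIso ψ := by
    rintro K K' rfl rfl ψ hψ
    exact Groth.Agent.GrMap12.isIso_conormalMap_section g f hf u v g' hsq f' hf' hf'v ψ ⟨hφ.1, hψ⟩
  exact key (f.ker ^ 1) (f'.ker ^ 1) (pow_one _).symm (pow_one _).symm φ hφ.2

end Groth.Agent.S5963
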