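import Groth.Statements.S5969
import Groth.Agent.Lib.FormalH7.Ideal
import Groth.Agent.S5951
-- import your own Groth.Agent.* helpers here

set_option autoImplicit false
universe u
open CategoryTheory CategoryTheory.Limits AlgebraicGeometry TopologicalSpace Opposite
open Nrm16

namespace Groth.Agent.S5969

/-- Let f : X ⟶ S be a morphism of schemes and n a natural number. On the order-n infinitesimal
thickening of the diagonal of f there is an endomorphism σ which is compatible, under the immersion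
into X ×_S X, with the symmetry exchanging the two factors; σ is an involution, it exchanges the two
projections to X (so it exchanges the two O_X-algebra structures of P^n_{X/S}) and it fixes the
diagonal section. -/
theorem result {X S : Scheme.{u}} (f : X ⟶ S) (n : ℕ) :
    ∃ σ : PrinPart.nbhd f n ⟶ PrinPart.nbhd f n,
      σ ≫ PrinPart.nbhdι f n = PrinPart.nbhdι f n ≫ (pullbackSymmetry f f).hom ∧
      σ ≫ σ = 𝟙 (PrinPart.nbhd f n) ∧
      σ ≫ PrinPart.pr1 f n = PrinPart.pr2 f n ∧ σ ≫ PrinPart.pr2 f n = PrinPart.pr1 f n ∧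
      PrinPart.toNbhd f n ≫ σ = PrinPart.toNbhd f n := by
  let Δ := pullback.diagonal f
  let τ₀ : pullback f f ≅ pullback f f := pullbackSymmetry f f
  have hd : Δ ≫ τ₀.hom = Δ := by
    apply pullback.hom_ext <;> simp [Δ, τ₀]
  have hττ : τ₀.hom ≫ τ₀.hom = 𝟙 _ := by
    apply pullback.hom_ext <;> simp [τ₀]
  let W := Δ.coborderRange
  have hW : τ₀.hom ⁻¹ᵁ W = W := by
    apply TopologicalSpace.Opens.ext
    show τ₀.hom ⁻¹' coborder (Set.range Δ) = coborder (Set.range Δ)
    refine (coborder_preimage (f := ⇑τ₀.hom) (Scheme.homeoOfIso τ₀).isOpenMap τ₀.hom.continuous _).symm.trans ?_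
    congr 1
    ext z
    constructor
    · rintro ⟨x, hx⟩
      refine ⟨x, ?_⟩
      have := congrArg τ₀.hom hx
      rw [← Scheme.Hom.comp_apply, hd, ← Scheme.Hom.comp_apply, hττ] at this
      exact this
    · rintro ⟨x, rfl⟩
      exact ⟨x, by rw [← Scheme.Hom.comp_apply, hd]⟩
  let τ : (W : Scheme.{u}) ⟶ W := IsOpenImmersion.lift W.ι (W.ι ≫ τ₀.hom) (by
    rw [Scheme.Opens.range_ι]
    rintro _ ⟨z, rfl⟩
    rw [Scheme.Hom.comp_apply]
    show W.ι z ∈ τ₀.hom ⁻¹ᵁ W
    rw [hW]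
    exact z.2)
  have hτ : τ ≫ W.ι = W.ι ≫ τ₀.hom := IsOpenImmersion.lift_fac _ _ _
  have hττ' : τ ≫ τ = 𝟙 _ := by
    rw [← cancel_mono W.ι, Category.assoc, hτ, reassoc_of% hτ, hττ]; simp
  haveI : IsIso τ := ⟨τ, hττ', hττ'⟩
  let i := PrinPart.diagCl f
  have hi : i ≫ τ = i := by
    rw [← cancel_mono W.ι, Category.assoc, hτ]
    show Δ.liftCoborder ≫ W.ι ≫ τ₀.hom = Δ.liftCoborder ≫ W.ι
    rw [Scheme.Hom.liftCoborder_ι_assoc, Scheme.Hom.liftCoborder_ι]
    exact hd
  have hsq : IsPullback (𝟙 X) i i τ := IsPullback.of_horiz_isIso ⟨by rw [hi]; simp⟩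
  have hk : (i.ker ^ (n + 1)).comap τ = i.ker ^ (n + 1) := by
    rw [Groth.Agent.BlowUpExist.comap_pow, ← Groth.Agent.FormalH7.ker_of_isPullback hsq.flip]
  let σ : PrinPart.nbhd f n ⟶ PrinPart.nbhd f n :=
    IsClosedImmersion.lift (i.ker ^ (n + 1)).subschemeι (PrinPart.infNbhdι i n ≫ τ) (by
      rw [Scheme.IdealSheafData.ker_subschemeι]
      exact Scheme.IdealSheafData.le_map_iff_comap_le.2 hk.le)
  have hσ : σ ≫ PrinPart.infNbhdι i n = PrinPart.infNbhdι i n ≫ τ := IsClosedImmersion.lift_fac _ _ _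
  haveI : Mono (PrinPart.infNbhdι i n) := by unfold PrinPart.infNbhdι; infer_instance
  have hσι : σ ≫ PrinPart.nbhdι f n = PrinPart.nbhdι f n ≫ τ₀.hom := by
    show σ ≫ PrinPart.infNbhdι i n ≫ W.ι = (PrinPart.infNbhdι i n ≫ W.ι) ≫ τ₀.hom
    rw [reassoc_of% hσ, hτ, Category.assoc]
  refine ⟨σ, hσι, ?_, ?_, ?_, ?_⟩
  · rw [← cancel_mono (PrinPart.infNbhdι i n), Category.assoc, hσ, reassoc_of% hσ, hττ', Category.id_comp]
    exact Category.comp_id _
  · rw [PrinPart.pr1, PrinPart.pr2, ← Category.assoc, hσι, Category.assoc]; simp [τ₀]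
  · rw [PrinPart.pr1, PrinPart.pr2, ← Category.assoc, hσι, Category.assoc]; simp [τ₀]
  · rw [← cancel_mono (PrinPart.infNbhdι i n), Category.assoc, hσ, PrinPart.toInfNbhd_ι_assoc, hi,
      PrinPart.toInfNbhd_ι]

end Groth.Agent.S5969
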