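import Groth.Statements.S5967
import Groth.Agent.Lib.PP12.Flat
import Groth.Agent.Lib.ModLimH13.Flat
import Groth.Agent.S5969
-- import your own Groth.Agent.* helpers here

set_option autoImplicit false
universe u
open CategoryTheory CategoryTheory.Limits AlgebraicGeometry TopologicalSpace Opposite
open Nrm16

namespace Groth.Agent.S5967

/-- Let f : X ⟶ S be a morphism of schemes and n a natural number, and assume that P^n_{X/S} is a flat
O_X-module for its left structure. Then the functor F ↦ P^n_{X/S}(F) on O_X-modules preserves finite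
limits (so it is exact). -/
theorem result {X S : Scheme.{u}} (f : X ⟶ S) (n : ℕ)
    (hP : FlatMod.IsFlat (PrinPart.P f n)) :
    PreservesFiniteLimits
      ((Scheme.Modules.pullback (PrinPart.pr2 f n)) ⋙ (Scheme.Modules.pushforward (PrinPart.pr1 f n))) := by
  have h1 : Flat (PrinPart.pr1 f n) :=
    Groth.Agent.PP12.flat_of_isFlat_pushforward _ (Groth.Agent.PP12.pr1Homeo f n).isInducing
      (Groth.Agent.PinchH7.isFlat_of_iso
        ((Scheme.Modules.pushforward (PrinPart.pr1 f n)).mapIso
          (Groth.Agent.Twist.pullbackUnitIso (PrinPart.pr2 f n))) hP)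
  obtain ⟨σ, -, hσ, h12, -, -⟩ := Groth.Agent.S5969.result f n
  haveI : IsIso σ := ⟨σ, hσ, hσ⟩
  haveI : Flat (PrinPart.pr2 f n) := h12 ▸ inferInstance
  haveI := Groth.Agent.ModLimH13.preservesFiniteLimits_pullback_of_flat (PrinPart.pr2 f n)
  haveI : PreservesLimitsOfSize.{0, 0} (Scheme.Modules.pushforward (PrinPart.pr1 f n)) :=
    (Scheme.Modules.pullbackPushforwardAdjunction (PrinPart.pr1 f n)).rightAdjoint_preservesLimits
  haveI : PreservesFiniteLimits (Scheme.Modules.pushforward (PrinPart.pr1 f n)) := inferInstance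
  exact comp_preservesFiniteLimits _ _

end Groth.Agent.S5967
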