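import Groth.Statements.S5971
import Groth.Agent.Lib.PP12.PMod
-- import your own Groth.Agent.* helpers here

set_option autoImplicit false
universe u
open CategoryTheory CategoryTheory.Limits AlgebraicGeometry TopologicalSpace Opposite
open Nrm16

namespace Groth.Agent.S5971

/-- Let f : X ⟶ S be a morphism locally of finite presentation, n a natural number and F a
quasi-coherent O_X-module of finite presentation. Then the sheaf of principal parts P^n_{X/S}(F),
with its left O_X-module structure, is of finite presentation. (The published statement asserts this
for either of the two O_X-module structures of P^n_{X/S}(F); this row states it for the left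
structure, the one the sheaf of principal parts carries here.) -/
theorem result {X S : Scheme.{u}} (f : X ⟶ S) [LocallyOfFinitePresentation f] (n : ℕ)
    (F : X.Modules) (hF : CohB1.IsFP F) :
    CohB1.IsFP (PrinPart.PMod f n F) := by
  exact Groth.Agent.PP12.isFP_PMod f n F hF

end Groth.Agent.S5971
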