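import Groth.Statements.S5973
import Groth.Agent.Lib.LimH13.KerFG
import Groth.Agent.Lib.TensorMod.IdealMod
import Groth.Agent.Lib.ModM1.Coh
import Groth.Agent.Lib.ModM1.Pull
-- import your own Groth.Agent.* helpers here

set_option autoImplicit false
universe u
open CategoryTheory CategoryTheory.Limits AlgebraicGeometry TopologicalSpace Opposite
open Nrm16

namespace Groth.Agent.S5973

/-- Let f : Y ⟶ X be a closed immersion which is locally of finite presentation. Then for every n the
n-th graded piece Gr_n(f) = I^n/I^(n+1) of the ideal of f, as an O_Y-module, is quasi-coherent of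
finite type. (The published statement allows any immersion locally of finite presentation; this row
states the case of a closed immersion.) -/
theorem result {Y X : Scheme.{u}} (f : Y ⟶ X) [IsClosedImmersion f]
    [LocallyOfFinitePresentation f] (n : ℕ) :
    Coh.IsCoh (PrinPart.grMod f n) := by
  refine Groth.Agent.M1.isCoh_pullback f ?_
  refine ⟨Groth.Agent.M2.isQCoh_idealMod _, Groth.Agent.M1.isFT_of_finite_sections (Groth.Agent.M2.isQCoh_idealMod _)
    fun U hU => ?_⟩
  let J := f.ker ^ n
  have hfg : (J.ideal ⟨U, hU⟩).FG := by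
    simp only [J, Scheme.IdealSheafData.ideal_pow, Pi.pow_apply]
    exact Ideal.FG.pow (Groth.Agent.LimH13.ifg_ker f ⟨U, hU⟩)
  let φ : Γ(ClSub.idealMod J, U) →ₗ[Γ(X, U)] Γ(X, U) :=
    { toFun := Groth.Agent.M2.idealIncl J
      map_add' := Groth.Agent.M2.idealIncl_add J
      map_smul' := fun r a => Groth.Agent.M2.idealIncl_smul J r a }
  have hφ : Function.Injective φ := Groth.Agent.M2.idealIncl_injective J U
  have hr : LinearMap.range φ = J.ideal ⟨U, hU⟩ :=
    SetLike.coe_injective ((LinearMap.coe_range φ).trans (Groth.Agent.M2.range_idealIncl J ⟨U, hU⟩))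
  haveI : Module.Finite Γ(X, U) (LinearMap.range φ) := Module.Finite.iff_fg.2 (hr ▸ hfg)
  exact Module.Finite.equiv (LinearEquiv.ofInjective φ hφ).symm

end Groth.Agent.S5973
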