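import Groth.Statements.S5977
import Groth.Agent.Lib.PP12.Maps
-- import your own Groth.Agent.* helpers here

set_option autoImplicit false
universe u
open CategoryTheory CategoryTheory.Limits AlgebraicGeometry TopologicalSpace Opposite
open Nrm16

namespace Groth.Agent.S5977

/-- Let f : Y ⟶ Z be a morphism and j : X ⟶ Y a closed immersion, and let φ : j^* P^n_{Y/Z} ⟶ P^n_{X/Z}
be the canonical O_X-linear map of sheaves of principal parts of order n, the one sending the
pullback of d^n b to d^n (j♯ b). Then φ is an epimorphism. (The published statement also identifies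
the kernel of φ as the ideal generated by the pullback of d^n of the ideal of j; this row states the
surjectivity.) -/
theorem result {X Y Z : Scheme.{u}} (f : Y ⟶ Z) (j : X ⟶ Y) [IsClosedImmersion j] (n : ℕ)
    (φ : (Scheme.Modules.pullback j).obj (PrinPart.P f n) ⟶ PrinPart.P (j ≫ f) n)
    (hφ : PrinPart.IsPMap f (j ≫ f) j n φ) :
    Epi φ := by
  refine Groth.Agent.PP12.epi_of_dn (j ≫ f) n φ fun U b x hx => ?_
  obtain ⟨W, hW⟩ := (j.isClosedEmbedding.isInducing.isOpen_iff.1 U.2)
  obtain ⟨O, hO, hxO, hOW⟩ := exists_isAffineOpen_mem_and_subset (X := Y) (x := j x) (U := ⟨W, hW.1⟩)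
    (by show j x ∈ W; exact (Set.ext_iff.1 hW.2 x).2 hx)
  have hle : j ⁻¹ᵁ O ≤ U := fun y hy => (Set.ext_iff.1 hW.2 y).1 (hOW hy)
  obtain ⟨c, hc⟩ := j.app_surjective O hO (X.presheaf.map (homOfLE hle).op b)
  exact ⟨j ⁻¹ᵁ O, hle, hxO, _, (hφ O c).trans (congrArg (PrinPart.dn (j ≫ f) n (j ⁻¹ᵁ O)) hc)⟩

end Groth.Agent.S5977
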