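import Groth.Statements.S5978
import Groth.Agent.Lib.PP12.OneParts
-- import your own Groth.Agent.* helpers here

set_option autoImplicit false
universe u
open CategoryTheory CategoryTheory.Limits AlgebraicGeometry TopologicalSpace Opposite
open Nrm16

namespace Groth.Agent.S5978

/-- Let f : X ⟶ S be a quasi-separated morphism, Ω_{X/S} its sheaf of differentials (the conormal sheaf
of the diagonal) with its derivation d, e : O_X ⟶ P^1_{X/S} the O_X-linear map s ↦ s·1 and ι :
Ω_{X/S} ⟶ P^1_{X/S} the O_X-linear map with ι(d s) = d^1 s − s·1 for every local function s. Then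
the map O_X ⊕ Ω_{X/S} ⟶ P^1_{X/S} induced by e and ι is an isomorphism of O_X-modules for the left
structure of P^1_{X/S}; in other words Ω_{X/S} is identified with the augmentation ideal of
P^1_{X/S} and d s = d^1 s − s. (The published text takes this as the definition of Ω_{X/S} for every
f; here Ω_{X/S} is the conormal sheaf of the diagonal, formed for quasi-separated f, and the
identification is stated.) -/
theorem result {X S : Scheme.{u}} (f : X ⟶ S) [QuasiSeparated f]
    (e : Coh.structureModule X ⟶ PrinPart.P f 1)
    (he : ∀ (U : X.Opens) (s : Γ(X, U)), e.app U (OmegaSh.strSect X U s) = s • PrinPart.dn f 1 U 1)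
    (ι : Omega.sheaf f ⟶ PrinPart.P f 1)
    (hι : ∀ (U : X.Opens) (s : Γ(X, U)),
      ι.app U ((OmegaSh.dOmega f).app U s) = PrinPart.dn f 1 U s - s • PrinPart.dn f 1 U 1) :
    IsIso (coprod.desc e ι) := by
  exact Groth.Agent.PP12.isIso_coprod_desc f e he ι hι

end Groth.Agent.S5978
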