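import Groth.Statements.S5979
import Groth.Agent.Lib.PP12.Zero
-- import your own Groth.Agent.* helpers here

set_option autoImplicit false
universe u
open CategoryTheory CategoryTheory.Limits AlgebraicGeometry TopologicalSpace Opposite
open Nrm16

namespace Groth.Agent.S5979

/-- Let f : X ⟶ S be a morphism of schemes and F an O_X-module. For every open U of X the canonical
operator d^0 : Γ(U, F) ⟶ Γ(U, P^0_{X/S}(F)) is bijective; so P^0_{X/S}(F) is identified with F, and
P^0_{X/S} with O_X, through d^0. -/
theorem result {X S : Scheme.{u}} (f : X ⟶ S) (F : X.Modules) (U : X.Opens) :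
    Function.Bijective (PrinPart.dP f 0 F U) := by
  exact Groth.Agent.PP12.dP_zero_bijective f F U

end Groth.Agent.S5979
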