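import Groth.Statements.S5980
import Groth.Agent.Lib.GrMap12.StalkZero
-- import your own Groth.Agent.* helpers here

set_option autoImplicit false
universe u
open CategoryTheory CategoryTheory.Limits AlgebraicGeometry TopologicalSpace Opposite
open Nrm16

namespace Groth.Agent.S5980

/-- Consider a point y of Y and an immersion j : Y ⟶ X that is quasi-compact and locally of finite
presentation. The stalk at y of the conormal sheaf N_{Y/X} = I/I² is zero exactly when y has an open
neighbourhood U in Y on which the restriction of j is an open immersion. (The published statement
covers every immersion locally of finite presentation. Here j is additionally assumed quasi-compact,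
since in that case the conormal sheaf used here is the one attached to j.) -/
theorem result {Y X : Scheme.{u}} (j : Y ⟶ X) [IsImmersion j]
    [QuasiCompact j] [LocallyOfFinitePresentation j] (y : Y) :
    (∃ U : Y.Opens, y ∈ U ∧ IsOpenImmersion (U.ι ≫ j)) ↔
      Subsingleton ((Omega.conormal j).presheaf.stalk y) := by
  refine ⟨fun ⟨U, hy, hU⟩ => ?_, Groth.Agent.GrMap12.exists_open_of_subsingleton j y⟩
  haveI := hU
  exact Groth.Agent.GrMap12.subsingleton_conormal_stalk_of_open j hy

end Groth.Agent.S5980
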