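import Groth.Statements.S5984
import Groth.Agent.Lib.KS29.TransRegImm
-- import your own Groth.Agent.* helpers here

set_option autoImplicit false
universe u
open CategoryTheory AlgebraicGeometry
open CInt

namespace Groth.Agent.S5984

/-- Let S = lim S_i be a cofiltered limit of schemes with affine transition maps, S_{i₀} a stage, g₀ :
X₀ ⟶ S_{i₀} locally of finite presentation with X₀ quasi-compact, and j₀ : Y₀ ⟶ X₀ an immersion
locally of finite presentation with Y₀ quasi-compact. Then the base change Y₀ ×_{S_{i₀}} S ⟶ X₀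
×_{S_{i₀}} S of j₀ is an immersion transversally regular relative to S if and only if, for some
index j over i₀, the base change Y₀ ×_{S_{i₀}} S_j ⟶ X₀ ×_{S_{i₀}} S_j is transversally regular
relative to S_j. -/
theorem result {I : Type u} [SmallCategory I]
    [IsCofiltered I] (D : I ⥤ Scheme.{u}) (c : Limits.Cone D) (hc : Limits.IsLimit c)
    [∀ (i j : I) (f : i ⟶ j), IsAffineHom (D.map f)]
    (i₀ : I) {X₀ Y₀ : Scheme.{u}} (g₀ : X₀ ⟶ D.obj i₀) [CompactSpace X₀]
    [LocallyOfFinitePresentation g₀] (j₀ : Y₀ ⟶ X₀) [CompactSpace Y₀] [IsImmersion j₀]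
    [LocallyOfFinitePresentation j₀] :
    RegImm.IsTransRegularImmersion (Limits.pullback.snd g₀ (c.π.app i₀))
        (Limits.pullback.snd j₀ (Limits.pullback.fst g₀ (c.π.app i₀))) ↔
      ∃ (j : I) (φ : j ⟶ i₀), RegImm.IsTransRegularImmersion (Limits.pullback.snd g₀ (D.map φ))
        (Limits.pullback.snd j₀ (Limits.pullback.fst g₀ (D.map φ))) := by
  exact Groth.Agent.KS29.TRI.limit_iff D c hc i₀ g₀ j₀

end Groth.Agent.S5984
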