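import Groth.Statements.S5985
import Groth.Agent.Lib.Weight4.NbhdFinite
import Groth.Agent.Lib.CohFound.FiniteFibre
-- import your own Groth.Agent.* helpers here

set_option autoImplicit false
universe u
open CategoryTheory AlgebraicGeometry
open Unram

namespace Groth.Agent.S5985

/-- Let f : X ⟶ Y be separated and locally of finite type, and y a point of Y whose fibre f⁻¹(y) is
finite (hence discrete). Then there are an étale morphism g : Y' ⟶ Y, a point y' of Y' with g(y') =
y inducing an isomorphism of residue fields κ(y) ≅ κ(y'), and two complementary open subschemes V, W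
of X' = X ×_Y Y' such that V ⟶ Y' is finite and W contains no point of X' lying over y'. -/
theorem result {X Y : Scheme.{u}} (f : X ⟶ Y)
    [LocallyOfFiniteType f] [IsSeparated f] (y : Y) (hfin : (f ⁻¹' {y}).Finite) :
    ∃ (Y' : Scheme.{u}) (g : Y' ⟶ Y) (y' : Y'), Etale g ∧ g y' = y ∧
      IsIso (g.residueFieldMap y') ∧
      ∃ (V W : (Limits.pullback f g).Opens), IsCompl V W ∧
        IsFinite (V.ι ≫ Limits.pullback.snd f g) ∧
        ∀ x : ↥(Limits.pullback f g), Limits.pullback.snd f g x = y' → x ∈ V := by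
  haveI := hfin.to_subtype
  let e := Finite.equivFin ↥(f ⁻¹' {y})
  obtain ⟨T, g, σ, V, hg, hσ, hVc, hVf, hV⟩ := Weight.exists_elementary_clopen f y (Nat.card ↥(f ⁻¹' {y}))
    (fun i => (e.symm i).1) (fun i => (e.symm i).2)
    (fun i => CohFound.quasiFiniteAt_of_finite_fibre f _ (by rw [(e.symm i).2]; exact hfin))
  let u := σ (IsLocalRing.closedPoint (Y.residueField y))
  have hgu : g u = y := by
    show g (σ _) = y
    rw [← Scheme.Hom.comp_apply, hσ]
    exact Y.fromSpecResidueField_apply y _
  refine ⟨T, g, u, hg, hgu,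
    (ConcreteCategory.isIso_iff_bijective _).2 ⟨(g.residueFieldMap u).hom.injective,
      Weight.residueFieldMap_surjective_of_section g u y hgu σ hσ rfl⟩,
    V, ⟨(V : Set _)ᶜ, hVc.isOpen_compl⟩, ?_, hVf, fun w hw => hV w hw ?_⟩
  · refine ⟨disjoint_iff.2 (TopologicalSpace.Opens.ext (Set.inter_compl_self _)), codisjoint_iff.2 ?_⟩
    exact TopologicalSpace.Opens.ext (Set.union_compl_self _)
  · have hfy : f (Limits.pullback.fst f g w) = y := by
      rw [← Scheme.Hom.comp_apply, Limits.pullback.condition, Scheme.Hom.comp_apply, hw, hgu]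
    exact ⟨e ⟨_, hfy⟩, by rw [e.symm_apply_apply]⟩

end Groth.Agent.S5985
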