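import Groth.Statements.S5991
import Groth.Agent.S4558
import Groth.Agent.Lib.Compl.Complete
import Mathlib.RingTheory.AdicCompletion.Exactness
import Mathlib.RingTheory.AdicCompletion.Completeness
import Mathlib.RingTheory.Kaehler.JacobiZariski

set_option autoImplicit false
universe u
open scoped TensorProduct
open EGA418

namespace Groth.Agent.S5991

/-- Let k be a field, R and S complete Noetherian local k-algebras such that the module of differentials
of the residue field of S over k is finite-dimensional, and let S be a finite R-algebra through a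
k-algebra homomorphism R → S. Write m for the maximal ideal of S and complete m-adically. Then the
S-module Ω_{S/R} is m-adically complete (it is its own completion), and the sequence of completed
modules (S ⊗_R Ω_{R/k})^ ⟶ (Ω_{S/k})^ ⟶ (Ω_{S/R})^ ⟶ 0, induced by the canonical maps S ⊗_R Ω_{R/k}
⟶ Ω_{S/k} ⟶ Ω_{S/R}, is exact: the second map is surjective and its kernel is the image of the
first. -/
theorem result (k R S : Type u) [Field k] [CommRing R] [IsNoetherianRing R]
    [IsLocalRing R] [Algebra k R] [IsAdicComplete (IsLocalRing.maximalIdeal R) R]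
    [CommRing S] [IsNoetherianRing S] [IsLocalRing S] [Algebra k S]
    [IsAdicComplete (IsLocalRing.maximalIdeal S) S] [Algebra R S] [IsScalarTower k R S]
    [Module.Finite R S] [Module.Finite (IsLocalRing.ResidueField S) (Ω[IsLocalRing.ResidueField S⁄k])] :
    IsAdicComplete (IsLocalRing.maximalIdeal S) (Ω[S⁄R]) ∧
      Function.Surjective (AdicCompletion.map (IsLocalRing.maximalIdeal S) (KaehlerDifferential.map k R S S)) ∧
      LinearMap.range (AdicCompletion.map (IsLocalRing.maximalIdeal S) (KaehlerDifferential.mapBaseChange k R S)) =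
        LinearMap.ker (AdicCompletion.map (IsLocalRing.maximalIdeal S) (KaehlerDifferential.map k R S S)) := by
  haveI : Module.Finite (S ⧸ IsLocalRing.maximalIdeal S) Ω[S ⧸ IsLocalRing.maximalIdeal S⁄k] :=
    ‹Module.Finite (IsLocalRing.ResidueField S) Ω[IsLocalRing.ResidueField S⁄k]›
  haveI : Module.Finite (S ⧸ IsLocalRing.maximalIdeal S) (IsLocalRing.maximalIdeal S).Cotangent :=
    (inferInstance : Module.Finite (IsLocalRing.ResidueField S) (IsLocalRing.CotangentSpace S))
  haveI hfin : Module.Finite S (AdicCompletion (IsLocalRing.maximalIdeal S) Ω[S⁄k]) :=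
    S4558.result (A := k) (IsLocalRing.maximalIdeal S)
  haveI : Algebra.EssFiniteType R S := inferInstance
  haveI : Module.Finite S Ω[S⁄R] := inferInstance
  have hsurj : Function.Surjective (KaehlerDifferential.map k R S S) := KaehlerDifferential.map_surjective k R S
  refine ⟨Compl.isAdicComplete_of_finite _ _, AdicCompletion.map_surjective _ hsurj, le_antisymm ?_ fun y hy => ?_⟩
  · rintro _ ⟨x, rfl⟩
    rw [LinearMap.mem_ker, AdicCompletion.map_comp_apply,
      show KaehlerDifferential.map k R S S ∘ₗ KaehlerDifferential.mapBaseChange k R S = 0 from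
        LinearMap.ext fun z => (KaehlerDifferential.exact_mapBaseChange_map k R S).apply_apply_eq_zero z,
      AdicCompletion.map_zero, LinearMap.zero_apply]
  · have hfg : (IsLocalRing.maximalIdeal S).FG := IsNoetherian.noetherian (IsLocalRing.maximalIdeal S)
    let N : Submodule S (AdicCompletion (IsLocalRing.maximalIdeal S) Ω[S⁄k]) :=
      (LinearMap.range (AdicCompletion.map (IsLocalRing.maximalIdeal S) (KaehlerDifferential.mapBaseChange k R S))).restrictScalars S
    have hsub : ∀ n : ℕ, Submodule.Quotient.mk (p := N) y ∈ ((IsLocalRing.maximalIdeal S) ^ n • ⊤ : Submodule S (AdicCompletion (IsLocalRing.maximalIdeal S) Ω[S⁄k] ⧸ N)) := by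
      intro n
      obtain ⟨w, hw⟩ := Submodule.Quotient.mk_surjective _ (y.val n)
      have h0 := congrArg (fun z : AdicCompletion (IsLocalRing.maximalIdeal S) Ω[S⁄R] => z.val n) (LinearMap.mem_ker.1 hy)
      simp only [AdicCompletion.map_val_apply, AdicCompletion.val_zero, Pi.zero_apply] at h0
      rw [← hw, LinearMap.reduceModIdeal_apply, Submodule.Quotient.mk_eq_zero] at h0
      have hmap : ((IsLocalRing.maximalIdeal S) ^ n • ⊤ : Submodule S Ω[S⁄R]) =
          Submodule.map ((KaehlerDifferential.map k R S S).restrictScalars S) ((IsLocalRing.maximalIdeal S) ^ n • ⊤) := by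
        rw [Submodule.map_smul'', Submodule.map_top, LinearMap.range_eq_top.2]
        exact hsurj
      rw [hmap] at h0
      obtain ⟨u, hu, hu'⟩ := h0
      obtain ⟨x, hx⟩ := (KaehlerDifferential.exact_mapBaseChange_map k R S (w - u)).1 (by
        rw [map_sub]; exact sub_eq_zero.2 hu'.symm)
      have hz : y - AdicCompletion.of (IsLocalRing.maximalIdeal S) _ (KaehlerDifferential.mapBaseChange k R S x) ∈
          ((IsLocalRing.maximalIdeal S) ^ n • ⊤ : Submodule S (AdicCompletion (IsLocalRing.maximalIdeal S) Ω[S⁄k])) := by
        rw [AdicCompletion.pow_smul_top_eq_ker_eval hfg, LinearMap.mem_ker, map_sub, sub_eq_zero]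
        change y.val n = _
        rw [← hw, hx]
        exact (Submodule.Quotient.eq _).2 (by rw [sub_sub_cancel]; exact hu)
      have hmem : AdicCompletion.of (IsLocalRing.maximalIdeal S) _ (KaehlerDifferential.mapBaseChange k R S x) ∈ N :=
        ⟨AdicCompletion.of (IsLocalRing.maximalIdeal S) _ x, AdicCompletion.map_of (IsLocalRing.maximalIdeal S) _ x⟩
      have := Submodule.mem_map_of_mem (f := N.mkQ) hz
      rw [Submodule.map_smul'', Submodule.map_top, Submodule.range_mkQ, map_sub, Submodule.mkQ_apply,
        Submodule.mkQ_apply, (Submodule.Quotient.mk_eq_zero N).2 hmem, sub_zero] at this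
      exact this
    haveI : IsAdicComplete (IsLocalRing.maximalIdeal S) (AdicCompletion (IsLocalRing.maximalIdeal S) Ω[S⁄k] ⧸ N) := Compl.isAdicComplete_of_finite _ _
    have h := IsHausdorff.haus' (I := IsLocalRing.maximalIdeal S) (Submodule.Quotient.mk (p := N) y) fun n => by
      rw [SModEq.zero]; exact hsub n
    exact (Submodule.Quotient.mk_eq_zero N).1 h

end Groth.Agent.S5991
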