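import Groth.Statements.S5995
import Groth.Agent.Lib.Branch14.Section

set_option autoImplicit false
universe u
open CategoryTheory AlgebraicGeometry
open Unram

namespace Groth.Agent.S5995

/-- Let Y be a reduced scheme whose irreducible components form a locally finite family and all of whose
local rings are geometrically unibranch, f : X ⟶ Y a separated, locally of finite type, formally
unramified morphism, and u : U ⟶ X a section of f over a dense open U of Y which cannot be extended:
whenever v is a section of f over an open V agreeing with u on U ∩ V, V is contained in U (so U is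
the domain of definition of the rational section defined by u). Then the image u(U) is an open and
closed subset of X. -/
theorem result {X Y : Scheme.{u}} [IsReduced Y]
    (hcomp : LocallyFinite (fun Z : ↥(irreducibleComponents ↥Y) => (Z : Set ↥Y)))
    (f : X ⟶ Y) [IsSeparated f] [LocallyOfFiniteType f] [FormallyUnramified f]
    (U : Y.Opens) (hU : Dense (U : Set ↥Y)) (u : (U : Scheme.{u}) ⟶ X) (hu : u ≫ f = U.ι)
    (hY : ∀ y : Y, CAlg2.IsGeomUnibranch (Y.presheaf.stalk y))
    (hmax : ∀ (V : Y.Opens) (v : (V : Scheme.{u}) ⟶ X), v ≫ f = V.ι →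
      Y.homOfLE (inf_le_left : U ⊓ V ≤ U) ≫ u = Y.homOfLE (inf_le_right : U ⊓ V ≤ V) ≫ v → V ≤ U) :
    IsOpen (Set.range u) ∧ IsClosed (Set.range u) := by
  haveI := Branch14.isOpenImmersion_section f u hu
  refine ⟨u.opensRange.2, closure_eq_iff_isClosed.1 (Set.Subset.antisymm (fun x hx => ?_) subset_closure)⟩
  obtain ⟨V, v, hxV, hv, hag⟩ :=
    Branch14.exists_section_nhd f hcomp U hU u hu (f x) (hY _) ⟨x, hx, rfl⟩
  have hxU : f x ∈ U := hmax V v hv hag hxV
  let u' : (U : Scheme.{u}) ⟶ (f ⁻¹ᵁ U : X.Opens) := IsOpenImmersion.lift (f ⁻¹ᵁ U).ι u (by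
    rw [Scheme.Opens.range_ι]
    rintro _ ⟨a, rfl⟩
    have h : f (u a) = a.1 := congr($hu a)
    show f (u a) ∈ U
    rw [h]
    exact a.2)
  have hu' : u' ≫ (f ⁻¹ᵁ U).ι = u := IsOpenImmersion.lift_fac _ _ _
  haveI : IsSeparated (f ∣_ U) := IsZariskiLocalAtTarget.restrict ‹_› U
  haveI : IsClosedImmersion (u' ≫ f ∣_ U) := by
    rw [show u' ≫ f ∣_ U = 𝟙 _ by rw [← cancel_mono U.ι, Category.assoc, morphismRestrict_ι, reassoc_of% hu', hu, Category.id_comp]]
    infer_instance
  haveI : IsClosedImmersion u' := IsClosedImmersion.of_comp u' (f ∣_ U)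
  let x' : ((f ⁻¹ᵁ U : X.Opens) : Scheme.{u}) := ⟨x, hxU⟩
  have hmem : x' ∈ closure (Set.range u') := by
    rw [(f ⁻¹ᵁ U).ι.isOpenEmbedding.isInducing.closure_eq_preimage_closure_image, Set.mem_preimage,
      ← Set.range_comp]
    convert hx using 3 <;> try rfl
    exact funext fun a => congr($hu' a)
  rw [u'.isClosedEmbedding.isClosed_range.closure_eq] at hmem
  obtain ⟨a, ha⟩ := hmem
  exact ⟨a, by rw [← hu', Scheme.Hom.comp_apply, ha]; rfl⟩

end Groth.Agent.S5995
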