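import Groth.Statements.S5996
import Groth.Agent.Lib.Branch14.Section

set_option autoImplicit false
universe u
open CategoryTheory AlgebraicGeometry
open Unram

namespace Groth.Agent.S5996

/-- Let Y be a reduced scheme whose irreducible components form a locally finite family, f : X ⟶ Y a
separated, locally of finite type, formally unramified morphism such that f(T) is closed in Y for
every closed irreducible subset T of X, and u : U ⟶ X a section of f over a dense open U of Y. Then
for every point y of Y whose local ring is geometrically unibranch there are an open V ∋ y and a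
section v : V ⟶ X of f agreeing with u on U ∩ V: the rational section defined by u is defined at
every geometrically unibranch point. -/
theorem result {X Y : Scheme.{u}} [IsReduced Y]
    (hcomp : LocallyFinite (fun Z : ↥(irreducibleComponents ↥Y) => (Z : Set ↥Y)))
    (f : X ⟶ Y) [IsSeparated f] [LocallyOfFiniteType f] [FormallyUnramified f]
    (U : Y.Opens) (hU : Dense (U : Set ↥Y)) (u : (U : Scheme.{u}) ⟶ X) (hu : u ≫ f = U.ι)
    (hcl : ∀ T : Set ↥X, IsClosed T → IsIrreducible T → IsClosed (f '' T))
    (y : Y) (hy : CAlg2.IsGeomUnibranch (Y.presheaf.stalk y)) :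
    ∃ (V : Y.Opens) (v : (V : Scheme.{u}) ⟶ X), y ∈ V ∧ v ≫ f = V.ι ∧
      Y.homOfLE (inf_le_left : U ⊓ V ≤ U) ≫ u = Y.homOfLE (inf_le_right : U ⊓ V ≤ V) ≫ v := by
  have hnil : (nilradical (Y.presheaf.stalk y)).IsPrime := (Ideal.Quotient.isDomain_iff_prime _).1 hy.1.1
  obtain ⟨W, hyW, hW⟩ := Branch14.exists_irreducible_nhd hcomp y hnil
  let η := hW.closure.genericPoint
  have hη : IsGenericPoint η (closure (W : Set Y)) := hW.closure.isGenericPoint_genericPoint isClosed_closure
  obtain ⟨z, hzW, hzU⟩ := hU.inter_open_nonempty W W.2 ⟨y, hyW⟩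
  have hηU : η ∈ U := (hη.specializes (subset_closure hzW)).mem_open U.2 hzU
  let t : X := u ⟨η, hηU⟩
  have ht : f t = η := congr($hu ⟨η, hηU⟩)
  have hcl' := hcl (closure {t}) isClosed_closure isIrreducible_singleton.closure
  have hηmem : η ∈ f '' closure {t} := ⟨t, subset_closure rfl, ht⟩
  obtain ⟨x, hx, hxy⟩ := (hη.specializes (subset_closure hyW)).mem_closed hcl' hηmem
  exact Branch14.exists_section_nhd f hcomp U hU u hu y hy
    ⟨x, closure_mono (Set.singleton_subset_iff.2 (Set.mem_range_self (f := u) ⟨η, hηU⟩)) hx, hxy⟩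

end Groth.Agent.S5996
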