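import Groth.Statements.S5998
import Groth.Agent.Lib.LeftInv.Jacobian
import Mathlib.LinearAlgebra.Matrix.Nondegenerate

set_option autoImplicit false
universe u
open SGA1

namespace Groth.Agent.S5998

open TensorProduct

theorem eq_zero_of_forall_dual {A : Type u} [CommRing A] {M : Type u} [AddCommGroup M] [Module A M]
    [Module.Projective A M] (K : Type u) [CommRing K] [Algebra A K] (x : K ⊗[A] M)
    (h : ∀ φ : M →ₗ[A] A, (Algebra.linearMap A K ∘ₗ φ).liftBaseChange K x = 0) : x = 0 := by
  classical
  obtain ⟨s, hs⟩ := Module.projective_def.1 ‹Module.Projective A M›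
  obtain ⟨T, rfl⟩ := TensorProduct.exists_finset x
  have hm : ∀ m : M, m = (s m).sum fun i c => c • i := fun m => by
    conv_lhs => rw [← hs m]
    rw [Finsupp.linearCombination_apply]; rfl
  let supp : Finset M := T.biUnion fun p => (s p.2).support
  have key : ∑ p ∈ T, p.1 ⊗ₜ[A] p.2 =
      ∑ i ∈ supp, (Algebra.linearMap A K ∘ₗ ((Finsupp.lapply i).comp s)).liftBaseChange K (∑ p ∈ T, p.1 ⊗ₜ[A] p.2) ⊗ₜ[A] i := by
    simp only [map_sum, LinearMap.liftBaseChange_tmul, LinearMap.comp_apply, Algebra.linearMap_apply,
      Finsupp.lapply_apply, TensorProduct.sum_tmul]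
    rw [Finset.sum_comm]
    refine Finset.sum_congr rfl fun p hp => ?_
    conv_lhs => rw [hm p.2, Finsupp.sum_of_support_subset (s p.2) (Finset.subset_biUnion_of_mem (fun p : K × M => (s p.2).support) hp)
      _ (fun i _ => zero_smul A i), TensorProduct.tmul_sum]
    refine Finset.sum_congr rfl fun i _ => ?_
    rw [smul_eq_mul, mul_comm, ← Algebra.smul_def, TensorProduct.smul_tmul]
  rw [key]
  exact Finset.sum_eq_zero fun i _ => by rw [h]; exact TensorProduct.zero_tmul _ _

open TensorProduct in
/-- Let R be a Noetherian ring, A a smooth R-algebra, I an ideal of A, P a prime ideal of A/I and q its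
preimage in A. Then A/I is smooth over R at P (that is, the local ring of A/I at P is formally
smooth over R) exactly when there are finitely many elements g_1, ..., g_p of I generating the ideal
I·A_q whose differentials dg_i have linearly independent images in κ(q) ⊗_A Ω_{A/R}. -/
theorem result
    (R A : Type u) [CommRing R] [CommRing A] [IsNoetherianRing R] [Algebra R A] [Algebra.Smooth R A]
    (I : Ideal A) (P : Ideal (A ⧸ I)) [P.IsPrime] :
    letI q : Ideal A := P.comap (Ideal.Quotient.mk I)
    Algebra.IsSmoothAt R P ↔ ∃ s : Finset A, (↑s : Set A) ⊆ (I : Set A) ∧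
      Ideal.map (algebraMap A (Localization.AtPrime q)) I =
        Ideal.span ((algebraMap A (Localization.AtPrime q)) '' (↑s : Set A)) ∧
      LinearIndependent q.ResidueField
        (fun g : ↥s => (1 : q.ResidueField) ⊗ₜ[A] KaehlerDifferential.D R A (g : A)) := by
  classical
  let q : Ideal A := P.comap (Ideal.Quotient.mk I)
  haveI : IsNoetherianRing A := Algebra.FiniteType.isNoetherianRing R A
  have hsurj : Function.Surjective (algebraMap A (A ⧸ I)) := Ideal.Quotient.mk_surjective
  have hker : ∀ x : A, x ∈ RingHom.ker (algebraMap A (A ⧸ I)) ↔ x ∈ I := fun x => Ideal.Quotient.eq_zero_iff_mem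
  refine (LeftInv.formallySmooth_localization_iff_jacobian hsurj P).trans ?_
  constructor
  · rintro ⟨m, f, D, hf, hgen, hdet⟩
    let κ := algebraMap A q.ResidueField
    let φ : Fin m → (q.ResidueField ⊗[A] Ω[A⁄R] →ₗ[q.ResidueField] q.ResidueField) := fun j =>
      (Algebra.linearMap A q.ResidueField ∘ₗ (D j).liftKaehlerDifferential).liftBaseChange q.ResidueField
    have hφ : ∀ j (x : A), φ j (1 ⊗ₜ[A] KaehlerDifferential.D R A x) = κ (D j x) := fun j x => by
      simp [φ, κ]
    have hdet' : (Matrix.of fun i j => κ (D j (f i))).det ≠ 0 := by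
      rw [show (Matrix.of fun i j => κ (D j (f i))) = κ.mapMatrix (Matrix.of fun i j => D j (f i)) from rfl,
        ← RingHom.map_det, Ne, Ideal.algebraMap_residueField_eq_zero]
      exact hdet
    have hli : LinearIndependent q.ResidueField (fun i => (1 : q.ResidueField) ⊗ₜ[A] KaehlerDifferential.D R A (f i)) := by
      rw [Fintype.linearIndependent_iff]
      intro c hc
      have h0 : Matrix.vecMul c (Matrix.of fun i j => κ (D j (f i))) = 0 := by
        funext j
        have h := congrArg (φ j) hc
        simp only [map_sum, map_smul, hφ, map_zero, smul_eq_mul] at h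
        exact h
      exact congrFun (Matrix.eq_zero_of_vecMul_eq_zero hdet' h0)
    have hfinj : Function.Injective f := fun i j h => hli.injective (by simp only [h])
    refine ⟨Finset.univ.image f, ?_, ?_, ?_⟩
    · intro x hx
      obtain ⟨i, -, rfl⟩ := Finset.mem_image.1 (Finset.mem_coe.1 hx)
      exact (hker _).1 (hf i)
    · refine le_antisymm ?_ ?_
      · rw [Ideal.map_le_iff_le_comap]
        intro x hx
        obtain ⟨t, ht, htx⟩ := hgen x ((hker x).2 hx)
        have h1 := Ideal.mem_map_of_mem (algebraMap A (Localization.AtPrime q)) htx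
        rw [map_mul, Ideal.unit_mul_mem_iff_mem _
          (IsLocalization.map_units (Localization.AtPrime q) (⟨t, ht⟩ : q.primeCompl)), Ideal.map_span] at h1
        rw [Ideal.mem_comap, Finset.coe_image, Finset.coe_univ, Set.image_univ]
        exact h1
      · rw [Ideal.span_le]
        rintro _ ⟨x, hx, rfl⟩
        obtain ⟨i, -, rfl⟩ := Finset.mem_image.1 (Finset.mem_coe.1 hx)
        exact Ideal.mem_map_of_mem _ ((hker _).1 (hf i))
    · let e : Fin m ≃ ↥(Finset.univ.image f) := Equiv.ofBijective
        (fun i => ⟨f i, Finset.mem_image_of_mem f (Finset.mem_univ i)⟩)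
        ⟨fun i j h => hfinj (congrArg Subtype.val h), fun ⟨x, hx⟩ => by
          obtain ⟨i, -, rfl⟩ := Finset.mem_image.1 hx
          exact ⟨i, rfl⟩⟩
      rw [← linearIndependent_equiv e]
      exact hli
  · rintro ⟨s, hs, hspan, hli⟩
    let e := s.equivFin.symm
    let f : Fin s.card → A := fun i => e i
    let v : Fin s.card → (Ω[A⁄R] →ₗ[A] A) → q.ResidueField :=
      fun i ψ => algebraMap A _ (ψ (KaehlerDifferential.D R A (f i)))
    have hv : LinearIndependent q.ResidueField v := by
      rw [Fintype.linearIndependent_iff]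
      intro c hc
      have hx : ∑ i, c i • ((1 : q.ResidueField) ⊗ₜ[A] KaehlerDifferential.D R A (f i)) = 0 := by
        refine eq_zero_of_forall_dual q.ResidueField _ fun ψ => ?_
        have h := congrFun hc ψ
        simp only [map_sum, map_smul, LinearMap.liftBaseChange_tmul, one_smul, LinearMap.comp_apply,
          Algebra.linearMap_apply]
        simpa [Finset.sum_apply, v] using h
      exact Fintype.linearIndependent_iff.1 (hli.comp e e.injective) c hx
    obtain ⟨ψ, hψ⟩ := LeftInv.exists_columns_det_ne_zero v hv
    refine ⟨s.card, f, fun j => (ψ j).compDer (KaehlerDifferential.D R A),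
      fun i => (hker _).2 (hs (e i).2), fun x hx => ?_, ?_⟩
    · have h1 := Ideal.mem_map_of_mem (algebraMap A (Localization.AtPrime q)) ((hker x).1 hx)
      rw [hspan, ← Ideal.map_span, IsLocalization.algebraMap_mem_map_algebraMap_iff q.primeCompl] at h1
      obtain ⟨t, ht, htx⟩ := h1
      refine ⟨t, ht, ?_⟩
      have : Set.range f = (↑s : Set A) := by
        ext y
        exact ⟨by rintro ⟨i, rfl⟩; exact (e i).2, fun hy => ⟨e.symm ⟨y, hy⟩, by simp [f]⟩⟩
      rwa [this]
    · intro hbad
      refine hψ ?_
      rw [show (Matrix.of fun i j => v i (ψ j)) = (algebraMap A q.ResidueField).mapMatrix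
          (Matrix.of fun i j => ψ j (KaehlerDifferential.D R A (f i))) from rfl, ← RingHom.map_det,
        Ideal.algebraMap_residueField_eq_zero]
      exact hbad

end Groth.Agent.S5998
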