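import Groth.Statements.S5999
import Mathlib.RingTheory.Smooth.Local
import Mathlib.RingTheory.Etale.Kaehler

set_option autoImplicit false
universe u
open SGA1

namespace Groth.Agent.S5999

open TensorProduct KaehlerDifferential

/-- Jacobian criterion for a principal quotient of a formally smooth local ring. -/
theorem formallySmooth_iff_of_ker_eq_span_singleton {R P S : Type u} [CommRing R] [CommRing P] [CommRing S]
    [IsLocalRing P] [IsLocalRing S] [Algebra R P] [Algebra P S] [Algebra R S] [IsScalarTower R P S]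
    [Algebra.FormallySmooth R P] [Module.Free P Ω[P⁄R]] [Module.Finite P Ω[P⁄R]]
    (h₁ : Function.Surjective (algebraMap P S)) (f : P) (hker : RingHom.ker (algebraMap P S) = Ideal.span {f}) :
    Algebra.FormallySmooth R S ↔ f = 0 ∨
      (1 : IsLocalRing.ResidueField P) ⊗ₜ[P] KaehlerDifferential.D R P f ≠ 0 := by
  let K := IsLocalRing.ResidueField P
  have hle : RingHom.ker (algebraMap P S) ≤ RingHom.ker (IsLocalRing.residue P) := by
    intro x hx
    rw [IsLocalRing.ker_residue]
    refine IsLocalRing.le_maximalIdeal ?_ hx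
    exact RingHom.ker_ne_top _
  let φ : S →+* K := (algebraMap P S).liftOfSurjective h₁ ⟨IsLocalRing.residue P, hle⟩
  have hφ : ∀ x : P, φ (algebraMap P S x) = IsLocalRing.residue P x := fun x =>
    RingHom.liftOfRightInverse_comp_apply _ _ _ _ x
  letI : Algebra S K := φ.toAlgebra
  haveI : IsScalarTower P S K := IsScalarTower.of_algebraMap_eq fun x => (hφ x).symm
  have h₃ : IsLocalRing.maximalIdeal S ≤ RingHom.ker (algebraMap S K) := by
    intro x hx
    obtain ⟨y, rfl⟩ := h₁ x
    rw [RingHom.mem_ker, ← IsScalarTower.algebraMap_apply]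
    exact IsLocalRing.residue_eq_zero_iff y |>.mpr fun hu => hx (hu.map (algebraMap P S))
  rw [Algebra.FormallySmooth.iff_injective_cotangentComplexBaseChange P K h₁ (hker ▸ ⟨{f}, by simp⟩) h₃]
  let g : RingHom.ker (algebraMap P S) := ⟨f, hker ▸ Ideal.mem_span_singleton_self f⟩
  have hgen : ∀ z : K ⊗[P] RingHom.ker (algebraMap P S), ∃ c : K, z = c • ((1 : K) ⊗ₜ[P] g) := by
    intro z
    induction z using TensorProduct.induction_on with
    | zero => exact ⟨0, (zero_smul _ _).symm⟩
    | tmul k x =>
      obtain ⟨x, hx⟩ := x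
      obtain ⟨a, rfl⟩ := Ideal.mem_span_singleton'.1 (hker ▸ hx)
      refine ⟨a • k, ?_⟩
      rw [TensorProduct.smul_tmul', smul_eq_mul, mul_one, TensorProduct.smul_tmul]
      rfl
    | add x y hx hy =>
      obtain ⟨a, rfl⟩ := hx
      obtain ⟨b, rfl⟩ := hy
      exact ⟨a + b, (add_smul _ _ _).symm⟩
  have himg : cotangentComplexBaseChange R S P K ((1 : K) ⊗ₜ[P] g) =
      (1 : K) ⊗ₜ[P] KaehlerDifferential.D R P f := by
    rw [cotangentComplexBaseChange_tmul, one_smul]
    rfl
  constructor
  · intro hinj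
    by_contra hne
    push Not at hne
    have h0 : (1 : K) ⊗ₜ[P] g = 0 := hinj (by rw [himg, hne.2, map_zero])
    haveI : Module.Finite P (RingHom.ker (algebraMap P S)) := Module.Finite.of_fg (hker ▸ ⟨{f}, by simp⟩)
    have hsub : Subsingleton (K ⊗[P] RingHom.ker (algebraMap P S)) := subsingleton_of_forall_eq 0 fun z => by
      obtain ⟨c, rfl⟩ := hgen z
      rw [h0, smul_zero]
    haveI := IsLocalRing.subsingleton_tensorProduct.1 hsub
    exact hne.1 (congrArg Subtype.val (Subsingleton.elim g 0))
  · intro h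
    rw [injective_iff_map_eq_zero]
    intro z hz
    obtain ⟨c, rfl⟩ := hgen z
    rw [map_smul, himg] at hz
    rcases h with rfl | h
    · rw [show g = 0 from rfl, TensorProduct.tmul_zero, smul_zero]
    · rw [(smul_eq_zero.1 hz).resolve_right h, zero_smul]

open TensorProduct in
/-- Let R be a Noetherian ring, A an R-algebra of finite type, F an element of A, P a prime ideal of
A/(F) and q its preimage in A, and suppose A is smooth over R at q. Then the hypersurface A/(F) is
smooth over R at P if and only if either F is zero in the local ring A_q (F vanishes on a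
neighbourhood of q) or the image dF(q) of the differential of F in κ(q) ⊗_A Ω_{A/R} is nonzero. -/
theorem result
    (R A : Type u) [CommRing R] [CommRing A] [IsNoetherianRing R] [Algebra R A] [Algebra.FiniteType R A]
    (F : A) (P : Ideal (A ⧸ Ideal.span ({F} : Set A))) [P.IsPrime]
    (hX : Algebra.IsSmoothAt R (P.comap (Ideal.Quotient.mk (Ideal.span ({F} : Set A))))) :
    letI q : Ideal A := P.comap (Ideal.Quotient.mk (Ideal.span ({F} : Set A)))
    Algebra.IsSmoothAt R P ↔ algebraMap A (Localization.AtPrime q) F = 0 ∨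
      (1 : q.ResidueField) ⊗ₜ[A] KaehlerDifferential.D R A F ≠ 0 := by
  let J : Ideal A := Ideal.span ({F} : Set A)
  let q : Ideal A := P.comap (Ideal.Quotient.mk J)
  haveI : Algebra.IsSmoothAt R q := hX
  let Aq := Localization.AtPrime q
  let Bp := Localization.AtPrime P
  let π : Aq →+* Bp := Localization.localRingHom q P (Ideal.Quotient.mk J) rfl
  letI : Algebra Aq Bp := π.toAlgebra
  have hπ : ∀ a : A, π (algebraMap A Aq a) = algebraMap (A ⧸ J) Bp (Ideal.Quotient.mk J a) :=
    fun a => Localization.localRingHom_to_map _ _ _ _ a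
  haveI : IsScalarTower R Aq Bp := IsScalarTower.of_algebraMap_eq fun r => by
    rw [RingHom.algebraMap_toAlgebra, IsScalarTower.algebraMap_apply R A Aq, hπ,
      ← Ideal.Quotient.algebraMap_eq, ← IsScalarTower.algebraMap_apply R A (A ⧸ J), ← IsScalarTower.algebraMap_apply]
  have h₁ : Function.Surjective (algebraMap Aq Bp) := fun z => by
    obtain ⟨⟨x, t⟩, rfl⟩ := IsLocalization.mk'_surjective P.primeCompl z
    obtain ⟨x, rfl⟩ := Ideal.Quotient.mk_surjective x
    obtain ⟨t, ht⟩ := t
    obtain ⟨t, rfl⟩ := Ideal.Quotient.mk_surjective t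
    refine ⟨IsLocalization.mk' Aq x (⟨t, ht⟩ : q.primeCompl), ?_⟩
    exact Localization.localRingHom_mk' _ _ _ _ x ⟨t, ht⟩
  have hker : RingHom.ker (algebraMap Aq Bp) = Ideal.span {algebraMap A Aq F} := by
    refine le_antisymm (fun z hz => ?_) ?_
    · obtain ⟨⟨x, t⟩, rfl⟩ := IsLocalization.mk'_surjective q.primeCompl z
      rw [RingHom.mem_ker, RingHom.algebraMap_toAlgebra, Localization.localRingHom_mk',
        IsLocalization.mk'_eq_zero_iff] at hz
      obtain ⟨⟨m, hm⟩, hmx⟩ := hz
      obtain ⟨m, rfl⟩ := Ideal.Quotient.mk_surjective m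
      rw [← map_mul, Ideal.Quotient.eq_zero_iff_mem] at hmx
      have h := Ideal.mem_map_of_mem (algebraMap A Aq) hmx
      rw [map_mul, Ideal.unit_mul_mem_iff_mem _ (IsLocalization.map_units Aq (⟨m, hm⟩ : q.primeCompl)),
        Ideal.map_span, Set.image_singleton] at h
      show IsLocalization.mk' Aq x t ∈ _
      rw [IsLocalization.mk'_eq_mul_mk'_one]
      exact Ideal.mul_mem_right _ _ h
    · rw [Ideal.span_le, Set.singleton_subset_iff, SetLike.mem_coe, RingHom.mem_ker, RingHom.algebraMap_toAlgebra,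
        hπ, Ideal.Quotient.eq_zero_iff_mem.2 (Ideal.mem_span_singleton_self F), map_zero]
  haveI : Algebra.EssFiniteType R Aq := Algebra.EssFiniteType.comp R A Aq
  haveI : Module.Free Aq Ω[Aq⁄R] := Module.free_of_flat_of_isLocalRing
  refine (formallySmooth_iff_of_ker_eq_span_singleton h₁ (algebraMap A Aq F) hker).trans ?_
  refine or_congr Iff.rfl (not_congr ?_)
  let e : q.ResidueField ⊗[Aq] Ω[Aq⁄R] ≃ₗ[q.ResidueField] q.ResidueField ⊗[A] Ω[A⁄R] :=
    (LinearEquiv.baseChange Aq q.ResidueField _ _ (tensorKaehlerEquivOfFormallyEtale R A Aq).symm).trans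
      (TensorProduct.AlgebraTensorModule.cancelBaseChange A Aq q.ResidueField q.ResidueField Ω[A⁄R])
  have he : e ((1 : q.ResidueField) ⊗ₜ[Aq] KaehlerDifferential.D R Aq (algebraMap A Aq F)) =
      (1 : q.ResidueField) ⊗ₜ[A] KaehlerDifferential.D R A F := by
    simp [e, LinearEquiv.baseChange, tensorKaehlerEquivOfFormallyEtale_symm_D_algebraMap]
  rw [← he, LinearEquiv.map_eq_zero_iff]

end Groth.Agent.S5999
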