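import Groth.Statements.S6000
import Mathlib.RingTheory.Flat.Basic
import Mathlib.RingTheory.Flat.Stability
import Mathlib.RingTheory.Flat.Tensor
import Mathlib.LinearAlgebra.TensorProduct.RightExactness
import Mathlib.LinearAlgebra.TensorProduct.Quotient
import Mathlib.RingTheory.TensorProduct.Finite
import Mathlib.Algebra.Module.Torsion.Basic

set_option autoImplicit false
universe u v
open SGA1

namespace Groth.Agent.S6000


universe w
section
open TensorProduct LinearMap

variable {A : Type u} [CommRing A] {M : Type w} [AddCommGroup M] [Module A M]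

/-- If `M / a M` is flat over `A / a`, tensoring with `M` preserves injective maps between
modules killed by `a`. -/
theorem lTensor_injective_of_flat_mod (a : Ideal A)
    (h2 : Module.Flat (A ⧸ a) ((A ⧸ a) ⊗[A] M))
    {N N' : Type u} [AddCommGroup N] [Module A N] [AddCommGroup N'] [Module A N']
    (hN : Module.IsTorsionBySet A N (a : Set A)) (hN' : Module.IsTorsionBySet A N' (a : Set A))
    (f : N →ₗ[A] N') (hf : Function.Injective f) : Function.Injective (f.lTensor M) := by
  let _ := hN.module
  let _ := hN'.module
  have : IsScalarTower A (A ⧸ a) N := hN.isScalarTower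
  have : IsScalarTower A (A ⧸ a) N' := hN'.isScalarTower
  rw [lTensor_inj_iff_rTensor_inj]
  let g : N →ₗ[A ⧸ a] N' := f.extendScalarsOfSurjective Ideal.Quotient.mk_surjective
  have hg : Function.Injective (g.rTensor ((A ⧸ a) ⊗[A] M)) :=
    Module.Flat.rTensor_preserves_injective_linearMap g hf
  let e := AlgebraTensorModule.cancelBaseChange A (A ⧸ a) (A ⧸ a) N M
  let e' := AlgebraTensorModule.cancelBaseChange A (A ⧸ a) (A ⧸ a) N' M
  have key : ∀ x, f.rTensor M x = e' (g.rTensor _ (e.symm x)) := by
    intro x
    induction x using TensorProduct.induction_on with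
    | zero => simp
    | tmul n m => simp [e, e', g]
    | add x y hx hy => simp [map_add, hx, hy]
  intro x y hxy
  rw [key, key] at hxy
  exact e.symm.injective (hg (e'.injective hxy))

/-- Injectivity of `M ⊗ -` on an inclusion can be checked after pulling back along a surjection. -/
theorem lTensor_subtype_injective_of_surjective {F B : Type u} [AddCommGroup F] [Module A F]
    [AddCommGroup B] [Module A B] (q : F →ₗ[A] B) (hq : Function.Surjective q) (p : Submodule A B)
    (h : Function.Injective ((p.comap q).subtype.lTensor M)) :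
    Function.Injective (p.subtype.lTensor M) := by
  let q' : p.comap q →ₗ[A] p := q.restrict fun _ h => h
  have hq' : Function.Surjective q' := fun y => by
    obtain ⟨x, hx⟩ := hq y.1
    exact ⟨⟨x, by simp [hx]⟩, Subtype.ext hx⟩
  rw [injective_iff_map_eq_zero]
  intro x hx
  obtain ⟨x', rfl⟩ := lTensor_surjective M hq' x
  have h0 : q.lTensor M ((p.comap q).subtype.lTensor M x') = 0 := by
    rw [← hx, ← lTensor_comp_apply, ← lTensor_comp_apply]; rfl
  obtain ⟨η, hη⟩ := (lTensor_exact M (LinearMap.exact_subtype_ker_map q) hq _).1 h0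
  have hle : LinearMap.ker q ≤ p.comap q := fun z hz => by
    simp [LinearMap.mem_ker.1 hz]
  have hx' : x' = (Submodule.inclusion hle).lTensor M η := h <| by
    rw [← hη, ← lTensor_comp_apply]; rfl
  have h00 : q' ∘ₗ Submodule.inclusion hle = 0 := LinearMap.ext fun z => Subtype.ext z.2
  rw [hx', ← lTensor_comp_apply, h00]; simp

theorem lTensor_subtype_injective_of_flat (a : Ideal A)
    (h1 : Function.Injective (LinearMap.lTensor M a.subtype))
    (h2 : Module.Flat (A ⧸ a) ((A ⧸ a) ⊗[A] M))
    {F : Type u} [AddCommGroup F] [Module A F] [Module.Flat A F] (P : Submodule A F)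
    (hP : a • ⊤ ≤ P) : Function.Injective (P.subtype.lTensor M) := by
  -- the multiplication map `a ⊗ F → F`, with image in `a • ⊤`
  let μ : (a : Submodule A A) ⊗[A] F →ₗ[A] F :=
    (TensorProduct.lid A F).toLinearMap ∘ₗ a.subtype.rTensor F
  have hμ : ∀ x, μ x ∈ P := by
    intro x
    induction x using TensorProduct.induction_on with
    | zero => simp
    | tmul r n => exact hP (by simpa [μ] using Submodule.smul_mem_smul r.2 Submodule.mem_top)
    | add x y hx hy => rw [map_add]; exact add_mem hx hy
  -- `M ⊗ μ` is injective since `F` is flat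
  have hμinj : Function.Injective (μ.lTensor M) := by
    let e := (TensorProduct.assoc A M a F).symm
    let e' : (M ⊗[A] A) ⊗[A] F ≃ₗ[A] M ⊗[A] F :=
      TensorProduct.congr (TensorProduct.rid A M) (LinearEquiv.refl A F)
    have key : ∀ x, μ.lTensor M x = e' ((a.subtype.lTensor M).rTensor F (e x)) := by
      intro x
      induction x using TensorProduct.induction_on with
      | zero => simp
      | tmul m y =>
        induction y using TensorProduct.induction_on with
        | zero => simp
        | tmul r n => simp [e, e', μ, TensorProduct.smul_tmul]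
        | add y z hy hz => simp only [tmul_add, map_add, hy, hz]
      | add x y hx hy => simp [map_add, hx, hy]
    intro x y hxy
    rw [key, key] at hxy
    exact e.injective (Module.Flat.rTensor_preserves_injective_linearMap _ h1 (e'.injective hxy))
  -- the quotient `P / aF` sits in `F / aF`, both killed by `a`
  let K : Submodule A P := (a • ⊤ : Submodule A F).comap P.subtype
  let ι : (P ⧸ K) →ₗ[A] F ⧸ (a • ⊤ : Submodule A F) := K.mapQ _ P.subtype le_rfl
  have hι : Function.Injective ι := by
    rw [← LinearMap.ker_eq_bot]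
    exact Submodule.ker_liftQ_eq_bot' _ _ (by simp [K, LinearMap.ker_comp])
  have hF : Module.IsTorsionBySet A (F ⧸ (a • ⊤ : Submodule A F)) (a : Set A) :=
    Module.isTorsionBySet_quotient_ideal_smul F a
  have hQ : Module.IsTorsionBySet A (P ⧸ K) (a : Set A) := fun x r => hι <| by
    rw [map_smul, map_zero]; exact @hF (ι x) r
  have hinj := lTensor_injective_of_flat_mod a h2 hQ hF ι hι
  rw [injective_iff_map_eq_zero]
  intro x hx
  have h0 : K.mkQ.lTensor M x = 0 := hinj <| by
    rw [map_zero, ← lTensor_comp_apply,
      show ι ∘ₗ K.mkQ = (a • ⊤ : Submodule A F).mkQ ∘ₗ P.subtype from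
        Submodule.mapQ_mkQ _ _ _, lTensor_comp_apply, hx, map_zero]
  obtain ⟨η, rfl⟩ :=
    (lTensor_exact M (LinearMap.exact_subtype_mkQ K) K.mkQ_surjective _).1 h0
  -- `aF = K` is the image of `μ`
  let μ' : (a : Submodule A A) ⊗[A] F →ₗ[A] K :=
    (μ.codRestrict P hμ).codRestrict K fun x => by
      show μ x ∈ (a • ⊤ : Submodule A F)
      induction x using TensorProduct.induction_on with
      | zero => simp
      | tmul r n => simpa [μ] using Submodule.smul_mem_smul r.2 Submodule.mem_top
      | add x y hx hy => rw [map_add]; exact add_mem hx hy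
  have hμ' : Function.Surjective μ' := by
    intro z
    have hz : (z : P).1 ∈ (a • ⊤ : Submodule A F) := z.2
    have : ∃ x, μ x = (z : P).1 := by
      refine Submodule.smul_induction_on hz (fun r hr n _ => ⟨⟨r, hr⟩ ⊗ₜ n, by simp [μ]⟩) ?_
      rintro _ _ ⟨x, rfl⟩ ⟨y, rfl⟩
      exact ⟨x + y, map_add _ _ _⟩
    obtain ⟨x, hx⟩ := this
    exact ⟨x, Subtype.ext (Subtype.ext hx)⟩
  obtain ⟨ζ, rfl⟩ := lTensor_surjective M hμ' η
  have hζ : μ.lTensor M ζ = 0 := by
    rw [← hx, ← lTensor_comp_apply, ← lTensor_comp_apply]; rfl
  rw [(injective_iff_map_eq_zero _).1 hμinj ζ hζ]; simp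

/-- The basic step: if `a ⊗ M → M` is injective and `M / a M` is flat over `A / a`, then
tensoring with `M` preserves inclusions whose cokernel is killed by `a`. -/
theorem lTensor_subtype_injective_of_smul_le (a : Ideal A)
    (h1 : Function.Injective (LinearMap.lTensor M a.subtype))
    (h2 : Module.Flat (A ⧸ a) ((A ⧸ a) ⊗[A] M))
    {B : Type u} [AddCommGroup B] [Module A B] (p : Submodule A B) (hp : a • ⊤ ≤ p) :
    Function.Injective (p.subtype.lTensor M) :=
  lTensor_subtype_injective_of_surjective (Finsupp.linearCombination A (id : B → B))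
    (Finsupp.linearCombination_surjective A Function.surjective_id) p <|
    lTensor_subtype_injective_of_flat a h1 h2 _ <| Submodule.smul_le.2 fun r hr x _ => by
      simpa using hp (Submodule.smul_mem_smul hr Submodule.mem_top)

/-- Iterate `lTensor_subtype_injective_of_smul_le`. -/
theorem lTensor_subtype_injective_of_pow_smul_le (a : Ideal A)
    (h1 : Function.Injective (LinearMap.lTensor M a.subtype))
    (h2 : Module.Flat (A ⧸ a) ((A ⧸ a) ⊗[A] M)) (n : ℕ)
    {B : Type u} [AddCommGroup B] [Module A B] (p : Submodule A B) (hp : a ^ n • ⊤ ≤ p) :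
    Function.Injective (p.subtype.lTensor M) := by
  induction n generalizing p with
  | zero =>
    have : p = ⊤ := top_unique (by simpa using hp)
    subst this
    exact ((LinearEquiv.ofTop (⊤ : Submodule A B) rfl).lTensor M).injective
  | succ n ih =>
    set p' := p ⊔ a ^ n • ⊤ with hp'
    have hle : p ≤ p' := le_sup_left
    have h' : a • ⊤ ≤ p.comap p'.subtype := Submodule.smul_le.2 fun r hr x _ => by
      obtain ⟨y, hy, z, hz, hyz⟩ := Submodule.mem_sup.1 x.2
      show r • (x : B) ∈ p
      rw [← hyz, smul_add]
      refine add_mem (Submodule.smul_mem _ _ hy) (hp ?_)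
      rw [pow_succ', Submodule.mul_smul]
      exact Submodule.smul_mem_smul hr hz
    have hstep := lTensor_subtype_injective_of_smul_le a h1 h2 (p.comap p'.subtype) h'
    have : p.subtype = p'.subtype ∘ₗ ((p.comap p'.subtype).subtype ∘ₗ
        (Submodule.comapSubtypeEquivOfLe hle).symm.toLinearMap) := rfl
    rw [this, lTensor_comp, lTensor_comp]
    exact (ih p' le_sup_right).comp
      (hstep.comp ((Submodule.comapSubtypeEquivOfLe hle).symm.lTensor M).injective)

/-- Local criterion of flatness for a nilpotent ideal. -/
theorem flat_of_isNilpotent (a : Ideal A) (ha : IsNilpotent a)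
    (h1 : Function.Injective (LinearMap.lTensor M a.subtype))
    (h2 : Module.Flat (A ⧸ a) ((A ⧸ a) ⊗[A] M)) : Module.Flat A M := by
  obtain ⟨n, hn⟩ := ha
  refine Module.Flat.iff_lTensor_injective'.2 fun J => ?_
  exact lTensor_subtype_injective_of_pow_smul_le a h1 h2 n J (by simp [hn])

end

open TensorProduct in
/-- Let A be a commutative ring, I a nilpotent ideal of A and M an A-module. Then M is A-flat if and
only if M/IM = (A/I) ⊗_A M is flat over A/I and Tor_1^A(M, A/I) = 0, the latter condition being
expressed as injectivity of the canonical map I ⊗_A M ⟶ A ⊗_A M. -/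
theorem result (A : Type u) [CommRing A]
    (I : Ideal A) (hI : IsNilpotent I) (M : Type v) [AddCommGroup M] [Module A M] :
    Module.Flat A M ↔ Module.Flat (A ⧸ I) ((A ⧸ I) ⊗[A] M) ∧
      Function.Injective (LinearMap.rTensor M (Submodule.subtype I)) := by
  refine ⟨fun h => ⟨?_, ?_⟩, fun ⟨h1, h2⟩ => ?_⟩
  · exact Module.Flat.baseChange A (A ⧸ I) M
  · exact Module.Flat.rTensor_preserves_injective_linearMap _ Subtype.val_injective
  · exact flat_of_isNilpotent I hI ((LinearMap.lTensor_inj_iff_rTensor_inj _ _).2 h2) h1

end Groth.Agent.S6000
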