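import Groth.Statements.S6001
import Groth.Prelude.Def_EGA4b
import Groth.Agent.Lib.FlatDepth.CplMap
import Groth.Agent.Lib.FlatDepth.RingFib
import Mathlib.RingTheory.Unramified.LocalStructure
import Mathlib.RingTheory.Smooth.Flat
import Mathlib.RingTheory.Unramified.Field

set_option autoImplicit false
universe u
open SGA1

namespace Groth.Agent.S6001

theorem flat_of_isEtaleAt (A C : Type u) [CommRing A] [CommRing C] [Algebra A C] [Algebra.FinitePresentation A C]
    (q : Ideal C) [q.IsPrime] [Algebra.IsEtaleAt A q] : Module.Flat A (Localization.AtPrime q) := by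
  obtain ⟨f, hf, hfe⟩ := Algebra.exists_etale_of_isEtaleAt (R := A) q
  haveI : Algebra.Smooth A (Localization.Away f) := inferInstance
  have hle : Submonoid.powers f ≤ q.primeCompl := by
    rintro _ ⟨n, rfl⟩
    exact fun hn => hf (‹q.IsPrime›.mem_of_pow_mem n hn)
  letI : Algebra (Localization.Away f) (Localization.AtPrime q) :=
    (IsLocalization.lift (M := Submonoid.powers f) (g := algebraMap C (Localization.AtPrime q))
      fun y => IsLocalization.map_units (Localization.AtPrime q) (⟨y.1, hle y.2⟩ : q.primeCompl)).toAlgebra
  haveI : IsScalarTower C (Localization.Away f) (Localization.AtPrime q) :=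
    IsScalarTower.of_algebraMap_eq fun c => (IsLocalization.lift_eq _ c).symm
  haveI : IsScalarTower A (Localization.Away f) (Localization.AtPrime q) :=
    IsScalarTower.of_algebraMap_eq fun a => by
      rw [IsScalarTower.algebraMap_apply A C (Localization.Away f),
        ← IsScalarTower.algebraMap_apply C (Localization.Away f) (Localization.AtPrime q),
        ← IsScalarTower.algebraMap_apply A C (Localization.AtPrime q)]
  haveI := IsLocalization.isLocalization_of_submonoid_le (Localization.Away f) (Localization.AtPrime q) (Submonoid.powers f) q.primeCompl hle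
  haveI : Module.Flat (Localization.Away f) (Localization.AtPrime q) := IsLocalization.flat _ (q.primeCompl.map (algebraMap C (Localization.Away f)))
  exact Module.Flat.trans A (Localization.Away f) _

/-- Let A be a Noetherian local ring which is analytically reduced (its completion has no nonzero
nilpotents), and let B be the local ring at a prime q, lying over the maximal ideal of A, of an
A-algebra C of finite type that is etale over A at q (an etale local homomorphism A ⟶ B). Then B is
analytically reduced, and in particular reduced. -/
theorem result (A C : Type u) [CommRing A] [IsLocalRing A]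
    [IsNoetherianRing A] [CommRing C] [Algebra A C] [Algebra.FiniteType A C] (q : Ideal C) [q.IsPrime]
    (hq : Ideal.comap (algebraMap A C) q = IsLocalRing.maximalIdeal A) (hC : Algebra.IsEtaleAt A q)
    (hA : IsReduced (AdicCompletion (IsLocalRing.maximalIdeal A) A)) :
    IsReduced (AdicCompletion (IsLocalRing.maximalIdeal (Localization.AtPrime q)) (Localization.AtPrime q)) ∧
      IsReduced (Localization.AtPrime q) := by
  haveI := hC
  haveI : Algebra.FinitePresentation A C := Algebra.FinitePresentation.of_finiteType.mp ‹_›
  haveI : Algebra.FormallyUnramified A (Localization.AtPrime q) := inferInstance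
  haveI : IsNoetherianRing C := Algebra.FiniteType.isNoetherianRing A C
  haveI : IsNoetherianRing (Localization.AtPrime q) := IsLocalization.isNoetherianRing q.primeCompl _ inferInstance
  haveI : IsLocalHom (algebraMap A (Localization.AtPrime q)) := by
    refine ((IsLocalRing.local_hom_TFAE _).out 4 0).1 ?_
    rw [IsScalarTower.algebraMap_eq A C, ← Ideal.comap_comap]
    exact (congrArg (Ideal.comap (algebraMap A C)) (IsLocalization.AtPrime.comap_maximalIdeal (Localization.AtPrime q) q)).trans hq
  have hflat : Module.Flat A (Localization.AtPrime q) := flat_of_isEtaleAt A C q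
  obtain ⟨alg, htow, hff⟩ := FlatDepth.exists_cpl_tower A (Localization.AtPrime q)
  letI := alg
  haveI := htow
  haveI := hff hflat
  haveI : IsReduced (EGA4.Cpl A) := hA
  haveI : IsNoetherianRing (EGA4.Cpl A) := CplLocH7.isNoetherianRing_cpl A
  haveI : IsNoetherianRing (EGA4.Cpl (Localization.AtPrime q)) := CplLocH7.isNoetherianRing_cpl _
  have hm := Algebra.FormallyUnramified.map_maximalIdeal (R := A) (S := Localization.AtPrime q)
  haveI : Module.Finite (EGA4.Cpl A) (EGA4.Cpl (Localization.AtPrime q)) := CplLocH7.finite (A := A) hm
  haveI : Algebra.FormallyUnramified (EGA4.Cpl A) (EGA4.Cpl (Localization.AtPrime q)) :=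
    CplLocH7.formallyUnramified_iff.2 ⟨hm, inferInstance⟩
  have hB : IsReduced (EGA4.Cpl (Localization.AtPrime q)) :=
    FlatDepth.reduced_of_flat_fibres (A := EGA4.Cpl A) fun p _ =>
      Algebra.FormallyUnramified.isReduced_of_field p.ResidueField (p.Fiber (EGA4.Cpl (Localization.AtPrime q)))
  refine ⟨hB, ?_⟩
  haveI := CplLocH7.faithfullyFlat_cpl (Localization.AtPrime q)
  exact isReduced_of_injective _ (FaithfulSMul.algebraMap_injective (Localization.AtPrime q) (EGA4.Cpl (Localization.AtPrime q)))

end Groth.Agent.S6001
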