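import Groth.Statements.S6002
import Groth.Agent.Lib.SmoothLiftAffH7.Main

set_option linter.style.haveILetI false

set_option autoImplicit false
universe u
open SGA1

namespace Groth.Agent.S6002

open AlgebraicGeometry CategoryTheory CategoryTheory.Limits in
/-- Let Y be a locally Noetherian scheme, Y₀ a closed subscheme of Y with the same underlying space (a
closed immersion i : Y₀ ⟶ Y that is surjective on points) and X₀ an affine scheme smooth over Y₀.
Then there is a smooth Y-scheme X together with a Y₀-isomorphism e : X₀ ≅ X ×_Y Y₀, and X is unique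
up to a (non-unique) isomorphism: for every smooth Y-scheme X' with a Y₀-isomorphism e' : X₀ ≅ X'
×_Y Y₀ there is a Y-isomorphism φ : X ≅ X' under which the closed immersion of X₀ into X given by e
corresponds to the one into X' given by e'. -/
theorem result {Y₀ Y X₀ : Scheme.{u}} [IsLocallyNoetherian Y]
    (i : Y₀ ⟶ Y) [IsClosedImmersion i] (hi : Function.Surjective i.base)
    (f₀ : X₀ ⟶ Y₀) [Smooth f₀] [IsAffine X₀] :
    ∃ (X : Scheme.{u}) (g : X ⟶ Y) (_ : Smooth g) (e : X₀ ≅ pullback g i),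
      e.hom ≫ pullback.snd g i = f₀ ∧
      ∀ (X' : Scheme.{u}) (g' : X' ⟶ Y) [Smooth g'] (e' : X₀ ≅ pullback g' i),
        e'.hom ≫ pullback.snd g' i = f₀ →
        ∃ φ : X ≅ X', φ.hom ≫ g' = g ∧
          (e.hom ≫ pullback.fst g i) ≫ φ.hom = e'.hom ≫ pullback.fst g' i := by
  haveI : Surjective i := ⟨hi⟩
  obtain ⟨W, hW, hfW⟩ : ∃ W : Y.Opens, IsCompact (W : Set Y) ∧ Set.range (f₀ ≫ i) ⊆ W := by
    obtain ⟨t, ht⟩ := (isCompact_range (f₀ ≫ i).continuous).elim_finite_subcover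
      (fun V : Y.affineOpens => ((V.1 : Y.Opens) : Set Y)) (fun V => V.1.2) fun y _ => by
        obtain ⟨V, hV, hy, -⟩ := exists_isAffineOpen_mem_and_subset (x := y) (U := ⊤) trivial
        exact Set.mem_iUnion.2 ⟨⟨V, hV⟩, hy⟩
    refine ⟨⨆ V ∈ t, V.1, ?_, ht.trans (fun z hz => by simpa using hz)⟩
    simp only [TopologicalSpace.Opens.coe_iSup]
    exact t.finite_toSet.isCompact_biUnion fun V _ => V.2.isCompact
  haveI : CompactSpace W.toScheme := isCompact_iff_compactSpace.1 hW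
  let W₀ := i ⁻¹ᵁ W
  let iW : W₀.toScheme ⟶ W.toScheme := i ∣_ W
  have hsqW : IsPullback W₀.ι iW i W.ι := (isPullback_morphismRestrict i W).flip
  haveI : IsClosedImmersion iW := IsZariskiLocalAtTarget.restrict (P := @IsClosedImmersion) inferInstance W
  haveI : Surjective iW := IsZariskiLocalAtTarget.restrict (P := @Surjective) inferInstance W
  have hr : Set.range f₀ ⊆ Set.range W₀.ι := by
    rw [Scheme.Opens.range_ι]
    rintro _ ⟨x, rfl⟩
    exact hfW ⟨x, rfl⟩
  let fW : X₀ ⟶ W₀.toScheme := IsOpenImmersion.lift W₀.ι f₀ hr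
  have hfW' : fW ≫ W₀.ι = f₀ := IsOpenImmersion.lift_fac _ _ _
  haveI : Smooth fW := by
    have hpb : IsPullback (𝟙 X₀) fW f₀ W₀.ι := by
      refine ⟨⟨by rw [Category.id_comp, hfW']⟩, ⟨PullbackCone.IsLimit.mk (fst := 𝟙 X₀) (snd := fW) _
        (fun c => c.fst) (fun c => Category.comp_id _) (fun c => ?_) fun c m h1 _ => by rw [← h1, Category.comp_id]⟩⟩
      rw [← cancel_mono W₀.ι, Category.assoc, hfW']
      exact c.condition
    exact MorphismProperty.of_isPullback hpb ‹Smooth f₀›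
  have hn := SmoothLiftAffH7.isNilpotent_ker iW
  obtain ⟨n, hn'⟩ : ∃ n, iW.ker ^ (n + 2) = ⊥ := by
    obtain ⟨n, hn⟩ := hn
    exact ⟨n, by rw [pow_add, show iW.ker ^ n = 0 from hn, zero_mul]; rfl⟩
  obtain ⟨X, gW, j, hgW, hsq⟩ := SmoothLiftAffH7.exists_smooth_sq n iW hn' fW
  haveI := hgW
  have hbig : IsPullback (W₀.ι : W₀.toScheme ⟶ Y₀) iW i W.ι := hsqW
  have hsqY : IsPullback j f₀ (gW ≫ W.ι) i := by
    have h2 : IsPullback (𝟙 X) gW (gW ≫ W.ι) W.ι := by
      refine ⟨⟨by rw [Category.id_comp]⟩, ⟨PullbackCone.IsLimit.mk (fst := 𝟙 X) (snd := gW) _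
        (fun c => c.fst) (fun c => Category.comp_id _) (fun c => ?_) fun c m h1 _ => by rw [← h1, Category.comp_id]⟩⟩
      rw [← cancel_mono W.ι, Category.assoc]
      exact c.condition
    have h3 : IsPullback j (fW ≫ W₀.ι) (gW ≫ W.ι) i := by
      refine ⟨⟨by rw [reassoc_of% hsq.w, Category.assoc]; exact congrArg (fW ≫ ·) hbig.w.symm⟩,
        ⟨PullbackCone.IsLimit.mk (fst := j) (snd := fW ≫ W₀.ι) _
          (fun c => hsq.lift c.fst (hsqW.lift c.snd (c.fst ≫ gW) (by rw [Category.assoc]; exact c.condition.symm))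
            (by rw [hsqW.lift_snd]))
          (fun c => hsq.lift_fst _ _ _) (fun c => by rw [← Category.assoc, hsq.lift_snd, hsqW.lift_fst])
          fun c m h1 h2 => hsq.hom_ext (by rw [h1, hsq.lift_fst])
            (hsqW.hom_ext (by rw [Category.assoc, h2, hsq.lift_snd, hsqW.lift_fst])
              (by rw [hsq.lift_snd, hsqW.lift_snd, Category.assoc, ← hsq.w, ← Category.assoc, h1]))⟩⟩
    rwa [hfW'] at h3
  haveI : Smooth (gW ≫ W.ι) := inferInstance
  refine ⟨X, gW ≫ W.ι, inferInstance, hsqY.isoPullback, hsqY.isoPullback_hom_snd, fun X' g' _ e' he' => ?_⟩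
  have hsq' : IsPullback (e'.hom ≫ pullback.fst g' i) f₀ g' i :=
    (IsPullback.of_hasPullback g' i).of_iso e'.symm (Iso.refl _) (Iso.refl _) (Iso.refl _)
      (by simp) (by simp [← he']) (by simp) (by simp)
  haveI : Surjective (e'.hom ≫ pullback.fst g' i) := MorphismProperty.of_isPullback hsq'.flip ‹Surjective i›
  have hrg : Set.range g' ⊆ Set.range W.ι := by
    rw [Scheme.Opens.range_ι]
    rintro _ ⟨z, rfl⟩
    obtain ⟨x, rfl⟩ := (e'.hom ≫ pullback.fst g' i).surjective z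
    rw [← Scheme.Hom.comp_apply, hsq'.w]
    exact hfW ⟨x, rfl⟩
  let gW' : X' ⟶ W.toScheme := IsOpenImmersion.lift W.ι g' hrg
  have hgW' : gW' ≫ W.ι = g' := IsOpenImmersion.lift_fac _ _ _
  haveI : Smooth gW' := by
    have hpb : IsPullback (𝟙 X') gW' g' W.ι := by
      refine ⟨⟨by rw [Category.id_comp, hgW']⟩, ⟨PullbackCone.IsLimit.mk (fst := 𝟙 X') (snd := gW') _
        (fun c => c.fst) (fun c => Category.comp_id _) (fun c => ?_) fun c m h1 _ => by rw [← h1, Category.comp_id]⟩⟩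
      rw [← cancel_mono W.ι, Category.assoc, hgW']
      exact c.condition
    exact MorphismProperty.of_isPullback hpb ‹Smooth g'›
  have hw' : (e'.hom ≫ pullback.fst g' i) ≫ gW' = fW ≫ iW := by
    rw [← cancel_mono W.ι, Category.assoc _ gW', hgW', Category.assoc fW, ← hsqW.w, reassoc_of% hfW']
    exact hsq'.w
  have hsqW' : IsPullback (e'.hom ≫ pullback.fst g' i) fW gW' iW := by
    have h4 : IsPullback (e'.hom ≫ pullback.fst g' i) (fW ≫ W₀.ι) (gW' ≫ W.ι) i := by
      rw [hfW', hgW']; exact hsq'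
    exact IsPullback.of_bot h4 hw' hsqW.flip
  obtain ⟨φ, hφ, hjφ⟩ := SmoothLiftAffH7.exists_iso iW hn hsq hsqW'
  refine ⟨φ, by rw [← hgW', ← Category.assoc, hφ], ?_⟩
  rw [hsqY.isoPullback_hom_fst, hjφ]

end Groth.Agent.S6002
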