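import Groth.Statements.S6006
import Groth.Agent.Lib.TorsorSch25.Transfer
import Groth.Agent.Lib.TorsTriv25.Scheme
import Mathlib.LinearAlgebra.SymmetricAlgebra.Basis

set_option autoImplicit false
universe u
open CategoryTheory AlgebraicGeometry
open SGA1

namespace Groth.Agent.S6006

/-- Every principal homogeneous bundle under the additive group over S (a pseudo-torsor which acquires
sections on the members of some fpqc covering family of S) is locally trivial, i.e. is a torsor for
the Zariski topology: S is covered by open subschemes over which it acquires sections. -/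
theorem result {S : Scheme.{u}} (X : Over S)
    (a : AlgGrp.Action (Red.Ga S) X) (h : NonAbH1.IsTorsorFor Scheme.fpqcPrecoverage a) :
    NonAbH1.IsTorsorFor Scheme.zariskiPrecoverage a := by
  haveI : IsAffineHom (Red.Ga S).hom :=
    MorphismProperty.pullback_snd (P := @IsAffineHom) _ _ (inferInstanceAs (IsAffineHom (Spec.map _)))
  haveI : Flat (Red.Ga S).hom :=
    MorphismProperty.pullback_snd (P := @Flat) _ _ (by
      show Flat (Spec.map (CommRingCat.ofHom (algebraMap (ULift.{u} ℤ) (SymmetricAlgebra (ULift.{u} ℤ) (ULift.{u} ℤ)))))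
      rw [HasRingHomProperty.Spec_iff (P := @Flat)]
      exact RingHom.flat_algebraMap_iff.2 (Module.Flat.of_linearEquiv
        (SymmetricAlgebra.equivMvPolynomial (Module.Basis.singleton PUnit.{u+1} (ULift.{u} ℤ))).toLinearEquiv))
  have hXp : IsAffineHom X.hom ∧ Flat X.hom := by
    haveI := Groth.Agent.TorsorSch25.flat_descendsAlong.{u}
    haveI := Groth.Agent.FpqcDesc.descendsAlong_isAffineHom.{u}
    exact ⟨Groth.Agent.TorsorSch25.prop_of_isTorsorFor @IsAffineHom h inferInstance,
      Groth.Agent.TorsorSch25.prop_of_isTorsorFor @Flat h inferInstance⟩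
  haveI := hXp.1
  haveI := hXp.2
  have key : ∀ s : S, ∃ (T : Scheme.{u}) (g : T ⟶ S), IsOpenImmersion g ∧ s ∈ Set.range g ∧
      NonAbH1.HasSectionOver X g := fun s => by
    obtain ⟨U, hU, hsU, -⟩ := exists_isAffineOpen_mem_and_subset (X := S) (x := s) (U := ⊤) trivial
    have hW : IsAffineOpen (X.hom ⁻¹ᵁ U) := hU.preimage X.hom
    have hff := Groth.Agent.TorsTriv25.faithfullyFlat_appLE h hU hW
    algebraize [(X.hom.appLE U (X.hom ⁻¹ᵁ U) le_rfl).hom]
    haveI : Module.FaithfullyFlat Γ(S, U) Γ(X.left, X.hom ⁻¹ᵁ U) := hff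
    obtain ⟨P⟩ := Groth.Agent.TorsTriv25.exists_addPts hU hW rfl a h.1
    obtain ⟨φ⟩ := P.exists_point
    refine ⟨_, Spec.map (CommRingCat.ofHom (algebraMap Γ(S, U) Γ(S, U))) ≫ hU.fromSpec, ?_, ?_,
      Groth.Agent.TorsTriv25.hasSectionOver_of_point hU hW rfl φ⟩
    · simp only [Algebra.algebraMap_self, CommRingCat.ofHom_id, Spec.map_id, Category.id_comp]
      infer_instance
    · refine ⟨hU.primeIdealOf ⟨s, hsU⟩, ?_⟩
      simp [hU.fromSpec_primeIdealOf]
  choose T g hg hsg hsec using key
  refine ⟨h.1, Presieve.ofArrows T g, ?_, fun _ _ hR => ?_⟩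
  · exact (Scheme.ofArrows_mem_precoverage_iff @IsOpenImmersion).2 ⟨fun x => ⟨x, hsg x⟩, hg⟩
  · obtain ⟨i⟩ := hR
    exact hsec i

end Groth.Agent.S6006
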