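import Groth.Statements.S6008
import Mathlib.FieldTheory.Finite.Basic
import Mathlib.RingTheory.SimpleRing.Field
import Mathlib.RingTheory.AdjoinRoot
import Groth.Agent.Lib.GaPts.Basic
import Groth.Agent.Lib.TorsorSch25.ExactPts

set_option autoImplicit false
universe u
open CategoryTheory AlgebraicGeometry MonoidalCategory CartesianMonoidalCategory MonObj GrpObj
open SGA1t

namespace Groth.Agent.S6008

set_option backward.isDefEq.respectTransparency.types false
open CategoryTheory.Limits

theorem mul_comp' {S : Scheme.{u}} {X A B : Over S} [GrpObj A] [GrpObj B] (i : A ⟶ B) [IsMonHom i] (x y : X ⟶ A) :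
    (x * y) ≫ i = (x ≫ i) * (y ≫ i) := MonObj.mul_comp _ _ _

/-- `ZMod p` inside a ring where `p = 0`. -/
noncomputable def q {p : ℕ} [Fact p.Prime] {R : Type*} [CommRing R] (hR : (p : R) = 0) : ZMod p →+* R :=
  have key : ∀ m : ℕ, ((m % p : ℕ) : R) = m := fun m => by
    conv_rhs => rw [← Nat.mod_add_div m p, Nat.cast_add, Nat.cast_mul, hR, zero_mul, add_zero]
  { toFun := fun a => (a.val : R)
    map_one' := by simp [ZMod.val_one p]
    map_zero' := by simp
    map_mul' := fun a b => by rw [ZMod.val_mul, key, Nat.cast_mul]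
    map_add' := fun a b => by rw [ZMod.val_add, key, Nat.cast_add] }

theorem q_map {p : ℕ} [Fact p.Prime] {R R' : Type*} [CommRing R] [CommRing R'] (f : R →+* R') (hR : (p : R) = 0)
    (hR' : (p : R') = 0) (a : ZMod p) : f (q hR a) = q hR' a := map_natCast f _

theorem sub_pow_char {p : ℕ} [Fact p.Prime] {R : Type*} [CommRing R] (hR : (p : R) = 0) (x y : R) :
    (x - y) ^ p = x ^ p - y ^ p := by
  obtain ⟨r, hr⟩ := exists_add_pow_prime_eq (R := R) (Fact.out : p.Prime) (x - y) y
  rw [hR, sub_add_cancel, zero_mul, zero_mul, zero_mul, add_zero] at hr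
  rw [hr, add_sub_cancel_right]

theorem exists_eq_q {p : ℕ} [Fact p.Prime] {R : Type*} [CommRing R] [IsLocalRing R] (hR : (p : R) = 0) {v : R}
    (hv : v ^ p = v) : ∃ a, v = q hR a := by
  classical
  let π := IsLocalRing.residue R
  have hK : (p : IsLocalRing.ResidueField R) = 0 := by rw [← map_natCast π, hR, map_zero]
  have h1 : 1 < p := (Fact.out : p.Prime).one_lt
  obtain ⟨a, ha⟩ : ∃ a, q hK a = π v := by
    by_contra hne
    push_neg at hne
    let Z := insert (π v) (Finset.univ.image (q hK))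
    have hcard : Z.card = p + 1 := by
      rw [Finset.card_insert_of_notMem (by simpa using hne),
        Finset.card_image_of_injective _ (q hK).injective, Finset.card_univ, ZMod.card]
    let f : Polynomial (IsLocalRing.ResidueField R) := Polynomial.X ^ p - Polynomial.X
    have hf : f ≠ 0 := FiniteField.X_pow_card_sub_X_ne_zero _ h1
    have hsub : Z.val ⊆ f.roots := by
      intro z hz
      rw [Polynomial.mem_roots hf]
      simp only [Polynomial.IsRoot.def, f, Polynomial.eval_sub, Polynomial.eval_pow, Polynomial.eval_X]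
      rcases Finset.mem_insert.1 hz with rfl | hz
      · rw [← map_pow, hv, sub_self]
      · obtain ⟨b, -, rfl⟩ := Finset.mem_image.1 hz
        rw [← map_pow, ZMod.pow_card, sub_self]
    have h2 := Polynomial.card_le_degree_of_subset_roots hsub
    rw [hcard, FiniteField.X_pow_card_sub_X_natDegree_eq _ h1] at h2
    omega
  refine ⟨a, ?_⟩
  have hw : π (v - q hR a) = 0 := by rw [map_sub, q_map π hR hK, ha, sub_self]
  have hu : IsUnit (1 - (v - q hR a) ^ (p - 1)) := by
    apply IsUnit.of_map π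
    rw [map_sub, map_one, map_pow, hw, zero_pow (by omega), sub_zero]
    exact isUnit_one
  have : (1 - (v - q hR a) ^ (p - 1)) * (v - q hR a) = 0 := by
    rw [sub_mul, _root_.one_mul, ← pow_succ, Nat.sub_add_cancel h1.le, sub_pow_char hR, hv, ← map_pow, ZMod.pow_card, sub_self]
  exact sub_eq_zero.1 (hu.mul_right_eq_zero.1 this)

theorem char_Γ {p : ℕ} {S X : Scheme.{u}} (f : X ⟶ S) (hp : (p : Γ(S, ⊤)) = 0) : (p : Γ(X, ⊤)) = 0 := by
  rw [← map_natCast f.appTop.hom, hp, map_zero]

/-- The endomorphism `X ↦ X - X ^ p` of the coordinate ring. -/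
noncomputable def g (p : ℕ) : GaPts.Coord.{u} →+* GaPts.Coord.{u} := GaPts.ringHomOfFn (GaPts.gen - GaPts.gen ^ p)

theorem g_faithfullyFlat (p : ℕ) [Fact p.Prime] : (g.{u} p).FaithfullyFlat := by
  haveI : Nontrivial GaPts.Coord.{u} := (GaPts.ringHomOfFn (R := ULift.{u} ℤ) 0).domain_nontrivial
  let f : Polynomial GaPts.Coord.{u} := Polynomial.X ^ p + (Polynomial.C GaPts.gen - Polynomial.X)
  have hf : f.Monic := by
    refine Polynomial.monic_X_pow_add (lt_of_le_of_lt (Polynomial.degree_sub_le _ _) ?_)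
    have h1 : 1 < p := (Fact.out : p.Prime).one_lt
    refine max_lt (Polynomial.degree_C_le.trans_lt (by exact_mod_cast (by omega : 0 < p))) ?_
    rw [Polynomial.degree_X]
    exact_mod_cast h1
  have h0 : f.eval₂ (g p) GaPts.gen = 0 := by
    simp [f, g, GaPts.ringHomOfFn_gen]
  let φ : AdjoinRoot f →+* GaPts.Coord.{u} := AdjoinRoot.lift (g p) GaPts.gen h0
  let ψ : GaPts.Coord.{u} →+* AdjoinRoot f := GaPts.ringHomOfFn (AdjoinRoot.root f)
  have hroot : AdjoinRoot.root f ^ p + (AdjoinRoot.of f GaPts.gen - AdjoinRoot.root f) = 0 := by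
    have := AdjoinRoot.eval₂_root f
    simpa [f] using this
  have hψg : ψ.comp (g p) = AdjoinRoot.of f := GaPts.ringHom_ext_gen (by
    simp only [g, RingHom.comp_apply, GaPts.ringHomOfFn_gen, map_sub, map_pow, ψ]
    linear_combination hroot - 2 * hroot)
  have h1 : φ.comp ψ = RingHom.id _ := GaPts.ringHom_ext_gen (by
    simp [φ, ψ, GaPts.ringHomOfFn_gen])
  have h2 : ψ.comp φ = RingHom.id _ := by
    refine RingHom.ext fun x => ?_
    induction x using AdjoinRoot.induction_on with
    | ih F =>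
      induction F using Polynomial.induction_on with
      | C a =>
        simp only [AdjoinRoot.mk_C, RingHom.comp_apply, φ, AdjoinRoot.lift_of, RingHom.id_apply]
        exact DFunLike.congr_fun hψg a
      | add F G hF hG => simp only [map_add, hF, hG]
      | monomial n a _ =>
        simp only [map_mul, map_pow, AdjoinRoot.mk_C, AdjoinRoot.mk_X, RingHom.comp_apply, φ, AdjoinRoot.lift_of,
          AdjoinRoot.lift_root, RingHom.id_apply, ψ, GaPts.ringHomOfFn_gen]
        exact congrArg (· * _) (DFunLike.congr_fun hψg a)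
  have hbij : Function.Bijective φ :=
    ⟨Function.LeftInverse.injective (g := ψ) fun x => DFunLike.congr_fun h2 x,
      Function.RightInverse.surjective (g := ψ) fun x => DFunLike.congr_fun h1 x⟩
  have hφ : φ.comp (AdjoinRoot.of f) = g p := RingHom.ext fun x => by simp [φ]
  rw [← hφ]
  refine RingHom.FaithfullyFlat.stableUnderComposition _ _ ?_ (RingHom.FaithfullyFlat.of_bijective hbij)
  haveI : Nontrivial (AdjoinRoot f) := φ.domain_nontrivial
  haveI := Polynomial.Monic.free_adjoinRoot hf
  rw [← AdjoinRoot.algebraMap_eq]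
  exact RingHom.faithfullyFlat_algebraMap_iff.2 inferInstance

theorem surjective_specMap {A B : Type u} [CommRing A] [CommRing B] (f : A →+* B) (h : f.FaithfullyFlat) :
    Surjective (Spec.map (CommRingCat.ofHom f)) := by
  constructor
  letI := f.toAlgebra
  haveI : Module.FaithfullyFlat A B := h
  exact PrimeSpectrum.comap_surjective_of_faithfullyFlat (A := A) (B := B)

noncomputable def gOver (p : ℕ) : GaPts.GaZ.{u} ⟶ GaPts.GaZ.{u} :=
  Over.homMk (Spec.map (CommRingCat.ofHom (g p))) (specULiftZIsTerminal.hom_ext _ _)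

theorem gaFn_comp_gMap {S : Scheme.{u}} (p : ℕ) {T : Over S} (x : T ⟶ Red.Ga S) :
    Red.gaFn (x ≫ (Over.pullback (GmPts.toBaseZ S)).map (gOver p)) = Red.gaFn x - Red.gaFn x ^ p := by
  change (GaPts.specPt (x ≫ (Over.pullback (GmPts.toBaseZ S)).map (gOver p))).appTop (GaPts.coordIso.inv GaPts.gen) = _
  have h : GaPts.specPt (x ≫ (Over.pullback (GmPts.toBaseZ S)).map (gOver p)) =
      GaPts.specPt x ≫ Spec.map (CommRingCat.ofHom (g p)) := by
    simp only [GaPts.specPt, Over.comp_left, Category.assoc]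
    exact congrArg (x.left ≫ ·) (GmPts.pullback_map_left_fst (S := S) (gOver p))
  rw [h, GmPts.appTop_comp_apply]
  erw [GaPts.specMap_appTop_coordIso_inv]
  show GaPts.ringHomOfPt x (g p GaPts.gen) = _
  rw [g, GaPts.ringHomOfFn_gen, map_sub, map_pow, GaPts.ringHomOfPt_gen]

theorem gMap_props {S : Scheme.{u}} (p : ℕ) [Fact p.Prime] :
    Flat ((Over.pullback (GmPts.toBaseZ S)).map (gOver p)).left ∧
      Surjective ((Over.pullback (GmPts.toBaseZ S)).map (gOver p)).left ∧
      QuasiCompact ((Over.pullback (GmPts.toBaseZ S)).map (gOver p)).left := by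
  let f := Spec.map (CommRingCat.ofHom (g.{u} p))
  haveI : Flat f := HasRingHomProperty.Spec_iff.2 (g_faithfullyFlat p).flat
  haveI : Surjective f := surjective_specMap _ (g_faithfullyFlat p)
  haveI : QuasiCompact f := inferInstanceAs (QuasiCompact (Spec.map _))
  let m := ((Over.pullback (GmPts.toBaseZ S)).map (gOver.{u} p)).left
  have hpb : IsPullback (pullback.fst GaPts.GaZ.hom (GmPts.toBaseZ S)) m f
      (pullback.fst GaPts.GaZ.hom (GmPts.toBaseZ S)) := by
    refine IsPullback.of_bot ?_ ?_ (IsPullback.of_hasPullback GaPts.GaZ.hom (GmPts.toBaseZ S))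
    · erw [show f ≫ GaPts.GaZ.hom = GaPts.GaZ.hom from Over.w (gOver p),
        show m ≫ pullback.snd _ _ = pullback.snd _ _ from Over.w ((Over.pullback (GmPts.toBaseZ S)).map (gOver p))]
      exact IsPullback.of_hasPullback _ _
    · exact (pullback.lift_fst _ _ _).symm
  exact ⟨MorphismProperty.of_isPullback hpb ‹_›, MorphismProperty.of_isPullback hpb ‹_›,
    MorphismProperty.of_isPullback hpb ‹_›⟩

/-- A piece of `T` mapping to the copy `a`. -/
theorem exists_comp_eq_pt {S : Scheme.{u}} {M : Type} {T : Over S} (k : T ⟶ TwC.const S M) (a : M)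
    (U : T.left.Opens) (hU : ∀ x ∈ U, k.left x ∈ (Sigma.ι (fun _ : M => S) a).opensRange) :
    (Over.homMk U.ι rfl : Over.mk (U.ι ≫ T.hom) ⟶ T) ≫ k = toUnit _ ≫ TwC.pt S M a := by
  have hr : Set.range (U.ι ≫ k.left) ⊆ Set.range (Sigma.ι (fun _ : M => S) a) := by
    rintro _ ⟨x, rfl⟩
    rw [Scheme.Hom.comp_apply]
    exact hU _ x.2
  have hl := IsOpenImmersion.lift_fac (Sigma.ι (fun _ : M => S) a) (U.ι ≫ k.left) hr
  have hl' : IsOpenImmersion.lift (Sigma.ι (fun _ : M => S) a) (U.ι ≫ k.left) hr = U.ι ≫ T.hom := by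
    have := congrArg (· ≫ (TwC.const S M).hom) hl
    simp only [Category.assoc] at this
    erw [Sigma.ι_desc, Over.w k, Category.comp_id] at this
    exact this
  refine Over.OverMorphism.ext ?_
  show U.ι ≫ k.left = _
  rw [← hl, hl']
  rfl

/-- Let p be a prime and S a scheme of characteristic p (p = 0 in the ring of global functions). Let F
be the Frobenius endomorphism of the additive group over S, the S-endomorphism which raises the
coordinate function of every point to the p-th power, and let P be the difference of the identity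
and F in the group of endomorphisms (on points x ↦ x − x^p). Let G' be the constant S-group (Z/p)_S:
an S-group together with an isomorphism of S-schemes e from G' to the disjoint union of copies of S
indexed by Z/p, under which the S-points of indices m and n multiply to the S-point of index m + n;
and let i : G' → G_a be the homomorphism of S-groups which sends the S-point of index 1 to the point
whose coordinate is the unit global function. Then the Artin-Schreier sequence 1 → (Z/p)_S → G_a →
G_a → 1 is exact for the fpqc topology: i and P are homomorphisms with trivial composite, (x, g) ↦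
(x, x + i(g)) identifies G_a ×_S G' with the fibre product of P with itself (so that i is a kernel
of P), and P acquires sections on the members of some fpqc covering family of its target. -/
theorem result (p : ℕ) [Fact p.Prime] {S : Scheme.{u}}
    (hp : (p : Γ(S, ⊤)) = 0) (F : Red.Ga S ⟶ Red.Ga S)
    (hF : ∀ (T : Over S) (x : T ⟶ Red.Ga S), Red.gaFn (x ≫ F) = Red.gaFn x ^ p)
    {G' : Over S} [GrpObj G'] (e : G' ≅ TwC.const S (Multiplicative (ZMod p)))
    (he : TwC.IsConstGrp (Multiplicative (ZMod p)) G' e)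
    (i : G' ⟶ Red.Ga S) [IsMonHom i]
    (hi : Red.gaFn (TwC.pt S (Multiplicative (ZMod p)) (Multiplicative.ofAdd 1) ≫ e.inv ≫ i) = 1) :
    NonAbH1.IsExactSeq Scheme.fpqcPrecoverage i (𝟙 (Red.Ga S) * F⁻¹) := by
  classical
  have hT : ∀ T : Over S, (p : Γ(T.left, ⊤)) = 0 := fun T => char_Γ T.hom hp
  have hp1 : 1 < p := (Fact.out : p.Prime).one_lt
  let M := Multiplicative (ZMod p)
  let P := 𝟙 (Red.Ga S) * F⁻¹
  have hP : ∀ {T : Over S} (x : T ⟶ Red.Ga S), Red.gaFn (x ≫ P) = Red.gaFn x - Red.gaFn x ^ p := fun {T} x => by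
    simp only [P, MonObj.comp_mul, GrpObj.comp_inv, Category.comp_id, GaPts.gaFn_mul, GaPts.gaFn_inv, hF, sub_eq_add_neg]
  haveI : IsMonHom P := TorsorSch25.isMonHom_of_points _ fun T x y => GaPts.gaFn_injective (by
    show Red.gaFn _ = Red.gaFn _
    rw [GaPts.gaFn_mul, hP, hP, hP, GaPts.gaFn_mul]
    obtain ⟨r, hr⟩ := exists_add_pow_prime_eq (R := Γ(T.left, ⊤)) (Fact.out : p.Prime) (Red.gaFn x) (Red.gaFn y)
    rw [hr, hT, zero_mul, zero_mul, zero_mul, add_zero]
    ring)
  let j : TwC.const S M ⟶ Red.Ga S := e.inv ≫ i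
  have hj : ∀ (T : Over S) (a : ZMod p), Red.gaFn (toUnit T ≫ TwC.pt S M (Multiplicative.ofAdd a) ≫ j) = q (hT T) a := by
    intro T a
    let φ : ZMod p →+ Γ(T.left, ⊤) := AddMonoidHom.mk'
      (fun a => Red.gaFn (toUnit T ≫ TwC.pt S M (Multiplicative.ofAdd a) ≫ j)) fun a b => by
        have := he (Multiplicative.ofAdd a) (Multiplicative.ofAdd b)
        rw [ofAdd_add]
        simp only [j]
        rw [← Category.assoc (TwC.pt S M _), ← this, mul_comp' i, MonObj.comp_mul, GaPts.gaFn_mul, Category.assoc,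
          Category.assoc]
    have h1 : φ 1 = 1 := by
      simp only [φ, AddMonoidHom.mk'_apply]
      rw [GaPts.gaFn_comp]
      show _ = (1 : Γ(T.left, ⊤))
      rw [show Red.gaFn (TwC.pt S M (Multiplicative.ofAdd 1) ≫ j) = 1 from hi, map_one]
    show φ a = _
    conv_lhs => rw [show a = a.val • (1 : ZMod p) by simp, map_nsmul, h1, nsmul_one]
    rfl
  have huv : i ≫ P = 1 := by
    rw [← cancel_epi e.inv, MonObj.comp_one]
    refine Over.OverMorphism.ext (Sigma.hom_ext _ _ fun a => ?_)
    have : TwC.pt S M a ≫ j ≫ P = TwC.pt S M a ≫ 1 := by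
      rw [MonObj.comp_one]
      refine GaPts.gaFn_injective ?_
      show Red.gaFn _ = Red.gaFn _
      have hq := hj (𝟙_ (Over S)) a.toAdd
      rw [toUnit_unique (toUnit (𝟙_ (Over S))) (𝟙 _), Category.id_comp, ofAdd_toAdd] at hq
      rw [← Category.assoc, hP, hq, GaPts.gaFn_one, ← map_pow, ZMod.pow_card, sub_self]
    simp only [j, Category.assoc] at this
    exact congrArg (fun z : 𝟙_ (Over S) ⟶ Red.Ga S => z.left) this
  have hPeq : P = (Over.pullback (GmPts.toBaseZ S)).map (gOver p) := by
    refine GaPts.gaFn_injective ?_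
    show Red.gaFn P = Red.gaFn _
    have h1 := hP (𝟙 (Red.Ga S))
    have h2 := gaFn_comp_gMap p (𝟙 (Red.Ga S))
    rw [Category.id_comp] at h1 h2
    rw [h1, h2]
  haveI : Flat P.left := hPeq ▸ (gMap_props p).1
  haveI : Surjective P.left := hPeq ▸ (gMap_props p).2.1
  haveI : QuasiCompact P.left := hPeq ▸ (gMap_props p).2.2
  refine TorsorSch25.isExactSeq_of_points _ _ huv fun T x y hxy => ?_
  let v := Red.gaFn y - Red.gaFn x
  have hv : v ^ p = v := by
    have h := congrArg Red.gaFn hxy
    rw [hP, hP] at h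
    show (Red.gaFn y - Red.gaFn x) ^ p = _
    rw [sub_pow_char (hT T)]
    linear_combination h
  let w : ZMod p → Γ(T.left, ⊤) := fun a => v - q (hT T) a
  let c : ZMod p → Γ(T.left, ⊤) := fun a => 1 - w a ^ (p - 1)
  have hcw : ∀ a, c a * w a = 0 := fun a => by
    simp only [c]
    rw [sub_mul, _root_.one_mul, ← pow_succ, Nat.sub_add_cancel hp1.le]
    simp only [w]
    rw [sub_pow_char (hT T), hv, ← map_pow, ZMod.pow_card, sub_self]
  let U : ZMod p → T.left.Opens := fun a => T.left.basicOpen (c a)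
  let germ : ∀ z : T.left, Γ(T.left, ⊤) →+* T.left.presheaf.stalk z := fun z => (T.left.presheaf.germ ⊤ z trivial).hom
  have hmem : ∀ z a, z ∈ U a ↔ germ z (w a) = 0 := fun z a => by
    rw [show z ∈ U a ↔ IsUnit (germ z (c a)) from Scheme.mem_basicOpen_top _ _ _]
    refine ⟨fun h => ?_, fun h => ?_⟩
    · refine h.mul_right_eq_zero.1 ?_
      rw [← map_mul, hcw, map_zero]
    · simp only [c]
      rw [map_sub, map_one, map_pow, h, zero_pow (by omega), sub_zero]
      exact isUnit_one
  have hcov : ∀ z, ∃ a, z ∈ U a := fun z => by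
    have hR : (p : T.left.presheaf.stalk z) = 0 := by rw [← map_natCast (germ z), hT, map_zero]
    obtain ⟨a, ha⟩ := exists_eq_q hR (v := germ z v) (by rw [← map_pow, hv])
    exact ⟨a, (hmem z a).2 (by simp only [w]; rw [map_sub, q_map _ _ hR, ha, sub_self])⟩
  have hdisj : Pairwise (fun a b => Disjoint (U a).ι.opensRange (U b).ι.opensRange) := fun a b hab => by
    show Disjoint (U a).ι.opensRange (U b).ι.opensRange
    rw [Scheme.Opens.opensRange_ι, Scheme.Opens.opensRange_ι, disjoint_iff, eq_bot_iff]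
    intro z hz
    have hR : (p : T.left.presheaf.stalk z) = 0 := by rw [← map_natCast (germ z), hT, map_zero]
    refine absurd ((q hR).injective ?_) hab
    have ha := (hmem z a).1 hz.1
    have hb := (hmem z b).1 hz.2
    simp only [w, map_sub, q_map _ _ hR, sub_eq_zero] at ha hb
    exact ha.symm.trans hb
  have hsup : ⨆ a, (U a).ι.opensRange = ⊤ := eq_top_iff.2 fun z _ => by
    obtain ⟨a, ha⟩ := hcov z
    exact TopologicalSpace.Opens.mem_iSup.2 ⟨a, by rwa [Scheme.Opens.opensRange_ι]⟩
  obtain ⟨hlim⟩ := nonempty_isColimit_cofanMk_of (fun a => (U a).ι) hsup hdisj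
  let kl : T.left ⟶ (TwC.const S M).left := Cofan.IsColimit.desc hlim fun a =>
    (U a).ι ≫ T.hom ≫ Sigma.ι (fun _ : M => S) (Multiplicative.ofAdd a)
  have hkl : ∀ a, (U a).ι ≫ kl = (U a).ι ≫ T.hom ≫ Sigma.ι (fun _ : M => S) (Multiplicative.ofAdd a) := fun a =>
    Cofan.IsColimit.fac hlim _ a
  let k : T ⟶ TwC.const S M := Over.homMk kl (Cofan.IsColimit.hom_ext hlim _ _ fun a => by
    show (U a).ι ≫ kl ≫ (TwC.const S M).hom = (U a).ι ≫ T.hom
    rw [← Category.assoc, hkl, Category.assoc, Category.assoc]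
    erw [Sigma.ι_desc, Category.comp_id])
  have hk : k ≫ j = GaPts.ptOfFn v := by
    refine Over.OverMorphism.ext (Cofan.IsColimit.hom_ext hlim _ _ fun a => ?_)
    let r : Over.mk ((U a).ι ≫ T.hom) ⟶ T := Over.homMk (U a).ι rfl
    have hrk : r ≫ k = toUnit _ ≫ TwC.pt S M (Multiplicative.ofAdd a) := Over.OverMorphism.ext (by
      show (U a).ι ≫ kl = _
      rw [hkl, ← Category.assoc]
      rfl)
    have hunit : IsUnit ((U a).ι.appTop (c a)) := by
      apply RingedSpace.isUnit_of_isUnit_germ
      intro z _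
      have hz : z ∈ (U a).toScheme.basicOpen ((U a).ι.appTop (c a)) := by
        rw [← Scheme.preimage_basicOpen_top]
        exact z.2
      exact (Scheme.mem_basicOpen_top _ _ _).1 hz
    have hva : (U a).ι.appTop v = q (hT (Over.mk ((U a).ι ≫ T.hom))) a := by
      have h0 : (U a).ι.appTop (c a) * (U a).ι.appTop (w a) = 0 := by rw [← map_mul, hcw, map_zero]
      have h1 := hunit.mul_right_eq_zero.1 h0
      simp only [w, map_sub, sub_eq_zero] at h1
      rw [h1]
      exact q_map _ _ _ _
    have h : r ≫ k ≫ j = r ≫ GaPts.ptOfFn v := by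
      refine GaPts.gaFn_injective ?_
      show Red.gaFn _ = Red.gaFn _
      rw [GaPts.gaFn_comp r (GaPts.ptOfFn v), GaPts.gaFn_ptOfFn, reassoc_of% hrk, hj]
      exact hva.symm
    exact congrArg (fun z : Over.mk ((U a).ι ≫ T.hom) ⟶ Red.Ga S => z.left) h
  have key : x * ((k ≫ e.inv) ≫ i) = y := by
    refine GaPts.gaFn_injective ?_
    show Red.gaFn _ = Red.gaFn _
    rw [Category.assoc, hk, GaPts.gaFn_mul, GaPts.gaFn_ptOfFn]
    exact add_sub_cancel _ _
  refine ⟨k ≫ e.inv, key, fun k' hk' => ?_⟩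
  rw [← cancel_mono e.hom, Category.assoc, e.inv_hom_id, Category.comp_id]
  have hk'j : (k' ≫ e.hom) ≫ j = k ≫ j := by
    simp only [j, Category.assoc, Iso.hom_inv_id_assoc]
    rw [← Category.assoc k e.inv]
    letI : Group (T ⟶ Red.Ga S) := Hom.group
    exact (_root_.mul_right_inj x).1 (hk'.trans key.symm)
  let V : ZMod p × ZMod p → T.left.Opens := fun ab =>
    (k' ≫ e.hom).left ⁻¹ᵁ (Sigma.ι (fun _ : M => S) (Multiplicative.ofAdd ab.1)).opensRange ⊓
      k.left ⁻¹ᵁ (Sigma.ι (fun _ : M => S) (Multiplicative.ofAdd ab.2)).opensRange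
  have hV : TopologicalSpace.IsOpenCover V := by
    refine eq_top_iff.2 fun z _ => ?_
    obtain ⟨a, za, ha⟩ := (sigmaOpenCover (fun _ : M => S)).exists_eq ((k' ≫ e.hom).left z)
    obtain ⟨b, zb, hb⟩ := (sigmaOpenCover (fun _ : M => S)).exists_eq (k.left z)
    exact TopologicalSpace.Opens.mem_iSup.2 ⟨(a.toAdd, b.toAdd), ⟨za, ha⟩, ⟨zb, hb⟩⟩
  refine Over.OverMorphism.ext ((T.left.openCoverOfIsOpenCover V hV).hom_ext _ _ fun ab => ?_)
  obtain ⟨a, b⟩ := ab
  show (V (a, b)).ι ≫ _ = (V (a, b)).ι ≫ _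
  have h1 := exists_comp_eq_pt (k' ≫ e.hom) (Multiplicative.ofAdd a) (V (a, b)) fun z hz => hz.1
  have h2 := exists_comp_eq_pt k (Multiplicative.ofAdd b) (V (a, b)) fun z hz => hz.2
  rcases isEmpty_or_nonempty (V (a, b)).toScheme with hE | hE
  · exact (isInitialOfIsEmpty (X := (V (a, b)).toScheme)).hom_ext _ _
  have hab : a = b := by
    haveI : Nontrivial Γ((Over.mk ((V (a, b)).ι ≫ T.hom)).left, ⊤) :=
      haveI : Nonempty ((⊤ : (V (a, b)).toScheme.Opens)) := ⟨⟨hE.some, trivial⟩⟩
      inferInstanceAs (Nontrivial Γ((V (a, b)).toScheme, ⊤))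
    apply (q (hT (Over.mk ((V (a, b)).ι ≫ T.hom)))).injective
    rw [← hj, ← hj, ← reassoc_of% h1, ← reassoc_of% h2]
    first | done | rw [← Category.assoc k' e.hom, hk'j]
  subst hab
  exact congrArg (fun z : Over.mk ((V (a, a)).ι ≫ T.hom) ⟶ TwC.const S M => z.left) (h1.trans h2.symm)

end Groth.Agent.S6008
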