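import Groth.Statements.S6009
import Groth.Agent.Lib.TorsorSch25.Descend

set_option autoImplicit false
universe u
open CategoryTheory AlgebraicGeometry MonoidalCategory CartesianMonoidalCategory MonObj GrpObj
open SGA1

namespace Groth.Agent.S6009

theorem exists_eq_of_comp_eq_one {S : Scheme.{u}} {G G' G'' : Over S} [GrpObj G] [GrpObj G'] [GrpObj G'']
    {u : G' ⟶ G} {v : G ⟶ G''} (hex : NonAbH1.IsExactSeq Scheme.fpqcPrecoverage u v) {T : Over S} (t : T ⟶ G)
    (ht : t ≫ v = 1) : ∃! k : T ⟶ G', k ≫ u = t := by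
  obtain ⟨_, _, -, hpb, -⟩ := hex
  have key : ∀ k : T ⟶ G', lift (1 : T ⟶ G) k ≫ (G ◁ u) ≫ μ[G] = k ≫ u := fun k => by
    rw [lift_whiskerLeft_assoc, ← Hom.mul_def, _root_.one_mul]
  obtain ⟨h, h1, h2⟩ : ∃ h : T ⟶ G ⊗ G', h ≫ fst G G' = 1 ∧ h ≫ (G ◁ u) ≫ μ[G] = t :=
    have w : (1 : T ⟶ G) ≫ v = t ≫ v := by rw [MonObj.one_comp, ht]
    ⟨hpb.lift 1 t w, hpb.lift_fst _ _ w, hpb.lift_snd _ _ w⟩
  have hh : h = lift (1 : T ⟶ G) (h ≫ snd G G') := by
    rw [← h1, ← comp_lift, lift_fst_snd, Category.comp_id]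
  refine ⟨h ≫ snd G G', ?_, fun k hk => ?_⟩
  · show _ ≫ u = t
    rw [← key, ← hh, h2]
  · have e : lift (1 : T ⟶ G) k = h := by
      refine hpb.hom_ext (by rw [lift_fst, h1]) (by rw [key, hk, h2])
    rw [← e, lift_snd]

/-- Exactness of the cohomology sequence at H^1(S, G'): let u : G' → G and v : G → G'' be homomorphisms
of affine commutative S-groups forming a sequence 1 → G' → G → G'' → 1 which is exact for the fpqc
topology, and let Q be a principal homogeneous bundle under G' (fpqc torsor). Then the bundle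
deduced from Q by extension of the structure group along u is trivial, in the sense that Q admits a
u-equivariant S-morphism to G acting on itself by left translation, if and only if Q is the boundary
of some section f of G'' over S: there is a morphism i : Q → G making Q the inverse image of f under
v, with G' acting through right translation by inverses. -/
theorem result {S : Scheme.{u}}
    {G G' G'' : Over S} [GrpObj G] [GrpObj G'] [GrpObj G'']
    [IsCommMonObj G] [IsCommMonObj G'] [IsCommMonObj G'']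
    [IsAffineHom G.hom] [IsAffineHom G'.hom] [IsAffineHom G''.hom]
    (u : G' ⟶ G) (v : G ⟶ G'') (hex : NonAbH1.IsExactSeq Scheme.fpqcPrecoverage u v)
    (Q : NonAbH1.TorsorSch G' Scheme.fpqcPrecoverage) :
    NonAbH1.IsPushforwardAlongSch u Q.act (NonAbH1.trivialAction G) ↔
      ∃ (f : 𝟙_ (Over S) ⟶ G'') (i : Q.X ⟶ G), NonAbH1.IsPullbackTorsor u v f i Q.act := by
  obtain ⟨hQ, R, hR, hsec⟩ := id Q.isTorsor
  haveI := hex.1; haveI := hex.2.1
  have hact : ∀ (f₀ : Q.X ⟶ G), Q.act.act ≫ f₀ = lift (fst G' Q.X ≫ u) (snd G' Q.X ≫ f₀) ≫ μ[G] ↔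
      ∀ (T : Over S) (g : T ⟶ G') (p : T ⟶ Q.X), lift g p ≫ Q.act.act ≫ f₀ = (g ≫ u) * (p ≫ f₀) := by
    intro f₀
    refine ⟨fun h T g p => ?_, fun h => AlgGrp.Action.hom_ext_lift₂ fun T g p => ?_⟩
    · rw [h, comp_lift_assoc, lift_fst_assoc, lift_snd_assoc, Hom.mul_def]
    · rw [h, comp_lift_assoc, lift_fst_assoc, lift_snd_assoc, Hom.mul_def]
  constructor
  · rintro ⟨f₀, hf₀⟩
    have h0 := (hact f₀).1 hf₀
    let i : Q.X ⟶ G := f₀⁻¹
    have hi : ∀ {T : Over S} (p : T ⟶ Q.X), p ≫ i = (p ≫ f₀)⁻¹ := fun p => GrpObj.comp_inv _ _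
    have hia : ∀ (T : Over S) (g : T ⟶ G') (p : T ⟶ Q.X), lift g p ≫ Q.act.act ≫ i = (p ≫ i) * (g ≫ u)⁻¹ := by
      intro T g p
      rw [← Category.assoc, hi, Category.assoc, h0, hi, _root_.mul_inv_rev]
    have huv : ∀ {T : Over S} (g : T ⟶ G'), g ≫ u ≫ v = 1 := fun g => by rw [hex.2.2.1, MonObj.comp_one]
    have hinv : Q.act.act ≫ i ≫ v = snd G' Q.X ≫ i ≫ v := by
      refine AlgGrp.Action.hom_ext_lift₂ fun T g p => ?_
      have h3 := congrArg (fun q => q ≫ v) (hia T g p)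
      simp only [Category.assoc, MonObj.mul_comp, GrpObj.inv_comp, huv, inv_one, _root_.mul_one] at h3
      rw [h3, lift_snd_assoc]
    obtain ⟨f, hf, -⟩ := TorsorSch25.existsUnique_descend Q.isTorsor (i ≫ v) hinv
    refine ⟨f, i, hex.1, hex.2.1, ?_, hia⟩
    have inj : ∀ {T : Over S} (p p' : T ⟶ Q.X), p ≫ i = p' ≫ i → p = p' := by
      intro T p p' e
      obtain ⟨g, hg, -⟩ := TorsorSch25.existsUnique_smul hQ p p'
      have h1 := hia T g p
      rw [reassoc_of% hg, ← e, left_eq_mul, inv_eq_one] at h1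
      have hg1 : g = 1 := (exists_eq_of_comp_eq_one hex (1 : T ⟶ G) (MonObj.one_comp v)).unique h1 (MonObj.one_comp u)
      rw [← hg, hg1, AlgGrp.Action.lift_one_act]
    have hlift : ∀ (s : Limits.PullbackCone v f), ∃ q : s.pt ⟶ Q.X, q ≫ i = s.fst := by
      intro s
      obtain ⟨R', hR', hR''⟩ := TorsorSch25.exists_cover_over hR s.pt
      obtain ⟨q, hq⟩ := TorsorSch25.exists_glue (T := s.pt) (Z := Q.X) (fun T' c z => z ≫ i = c ≫ s.fst)
        (fun T' T'' b c z hz => by rw [Category.assoc, hz, Category.assoc])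
        (fun T' c z z' h1 h2 => inj z z' (h1.trans h2.symm)) hR' (fun T' c hc => by
          obtain ⟨p⟩ := hR'' hsec c hc
          have e : ((c ≫ s.fst)⁻¹ * (p ≫ i)) ≫ v = 1 := by
            rw [MonObj.mul_comp, GrpObj.inv_comp, Category.assoc, Category.assoc, ← hf, s.condition,
              ← Category.assoc, ← Category.assoc, toUnit_unique (c ≫ s.snd) (p ≫ toUnit Q.X), inv_mul_cancel]
          obtain ⟨k, hk, -⟩ := exists_eq_of_comp_eq_one hex _ e
          refine ⟨lift k p ≫ Q.act.act, ?_⟩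
          rw [Category.assoc, hia, hk, _root_.mul_inv_rev, _root_.inv_inv, mul_inv_cancel_left])
      refine ⟨q, TorsorSch25.hom_ext_of_cover hR' fun T' c hc => ?_⟩
      rw [← Category.assoc]
      exact hq c hc
    choose l hl using hlift
    exact ⟨⟨hf.symm⟩, ⟨Limits.PullbackCone.IsLimit.mk _ l hl (fun s => toUnit_unique _ _)
      (fun s m h1 _ => inj _ _ (h1.trans (hl s).symm))⟩⟩
  · rintro ⟨f, i, -, -, -, hia⟩
    refine ⟨i⁻¹, (hact _).2 fun T g p => ?_⟩
    rw [← Category.assoc, GrpObj.comp_inv, Category.assoc, hia, _root_.mul_inv_rev, _root_.inv_inv, GrpObj.comp_inv]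

end Groth.Agent.S6009
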