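import Groth.Statements.S6010
import Groth.Agent.Lib.TorsorSch25.Descend

set_option autoImplicit false
universe u
open CategoryTheory AlgebraicGeometry MonoidalCategory CartesianMonoidalCategory MonObj GrpObj
open SGA1

namespace Groth.Agent.S6010

/-- Exactness of the cohomology sequence at H^1(S, G): let u : G' → G and v : G → G'' be homomorphisms
of affine commutative S-groups forming a sequence 1 → G' → G → G'' → 1 which is exact for the fpqc
topology, and let P be a principal homogeneous bundle under G (fpqc torsor). Then the bundle deduced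
from P by extension of the structure group along v is trivial, in the sense that P admits a
v-equivariant S-morphism to G'' acting on itself by left translation, if and only if P comes from
G': there is a principal homogeneous bundle Q under G' with a u-equivariant S-morphism Q → P. -/
theorem result {S : Scheme.{u}}
    {G G' G'' : Over S} [GrpObj G] [GrpObj G'] [GrpObj G'']
    [IsCommMonObj G] [IsCommMonObj G'] [IsCommMonObj G'']
    [IsAffineHom G.hom] [IsAffineHom G'.hom] [IsAffineHom G''.hom]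
    (u : G' ⟶ G) (v : G ⟶ G'') (hex : NonAbH1.IsExactSeq Scheme.fpqcPrecoverage u v)
    (P : NonAbH1.TorsorSch G Scheme.fpqcPrecoverage) :
    NonAbH1.IsPushforwardAlongSch v P.act (NonAbH1.trivialAction G'') ↔
      ∃ Q : NonAbH1.TorsorSch G' Scheme.fpqcPrecoverage, NonAbH1.IsPushforwardAlongSch u Q.act P.act := by
  obtain ⟨hP, R, hR, hsec⟩ := id P.isTorsor
  haveI := hex.1; haveI := hex.2.1
  have hF : ∀ {G₁ G₂ : Over S} [GrpObj G₁] [GrpObj G₂] {X Y : Over S} (φ : G₁ ⟶ G₂) (α : AlgGrp.Action G₁ X)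
      (β : AlgGrp.Action G₂ Y) (F : X ⟶ Y), α.act ≫ F = lift (fst G₁ X ≫ φ) (snd G₁ X ≫ F) ≫ β.act ↔
      ∀ (T : Over S) (g : T ⟶ G₁) (p : T ⟶ X), lift g p ≫ α.act ≫ F = lift (g ≫ φ) (p ≫ F) ≫ β.act := by
    intro G₁ G₂ _ _ X Y φ α β F
    refine ⟨fun h T g p => ?_, fun h => AlgGrp.Action.hom_ext_lift₂ fun T g p => ?_⟩
    · rw [h, comp_lift_assoc, lift_fst_assoc, lift_snd_assoc]
    · rw [h, comp_lift_assoc, lift_fst_assoc, lift_snd_assoc]
  have huv : ∀ {T : Over S} (g : T ⟶ G'), g ≫ u ≫ v = 1 := fun g => by rw [hex.2.2.1, MonObj.comp_one]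
  constructor
  · rintro ⟨F, hF'⟩
    have h0 : ∀ (T : Over S) (g : T ⟶ G) (p : T ⟶ P.X), lift g p ≫ P.act.act ≫ F = (g ≫ v) * (p ≫ F) :=
      fun T g p => ((hF v P.act _ F).1 hF' T g p).trans (Hom.mul_def _ _).symm
    let π : Limits.pullback F (1 : 𝟙_ (Over S) ⟶ G'') ⟶ P.X := Limits.pullback.fst _ _
    have hπ : ∀ {T : Over S} (q : T ⟶ Limits.pullback F (1 : 𝟙_ (Over S) ⟶ G'')), q ≫ π ≫ F = 1 := fun q => by
      rw [Limits.pullback.condition, MonObj.comp_one, MonObj.comp_one]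
    have hext : ∀ {T : Over S} (q q' : T ⟶ Limits.pullback F (1 : 𝟙_ (Over S) ⟶ G'')), q ≫ π = q' ≫ π → q = q' :=
      fun q q' h => Limits.pullback.hom_ext h (toUnit_unique _ _)
    have hcond : ((u ▷ P.X) ≫ P.act.act) = (P.act.restrict u).act := rfl
    let act : G' ⊗ Limits.pullback F (1 : 𝟙_ (Over S) ⟶ G'') ⟶ Limits.pullback F (1 : 𝟙_ (Over S) ⟶ G'') :=
      Limits.pullback.lift ((G' ◁ π) ≫ (P.act.restrict u).act) (toUnit _) (by
        refine AlgGrp.Action.hom_ext_lift₂ fun T g q => ?_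
        simp only [Category.assoc]
        rw [lift_whiskerLeft_assoc, AlgGrp.Action.lift_restrict_act_assoc, h0, Category.assoc, huv, _root_.one_mul,
          Category.assoc, hπ, MonObj.comp_one, MonObj.comp_one])
    have hact : ∀ {T : Over S} (g : T ⟶ G') (q : T ⟶ Limits.pullback F (1 : 𝟙_ (Over S) ⟶ G'')),
        lift g q ≫ act ≫ π = lift (g ≫ u) (q ≫ π) ≫ P.act.act := fun g q => by
      rw [Limits.pullback.lift_fst, lift_whiskerLeft_assoc, AlgGrp.Action.lift_restrict_act]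
    let α : AlgGrp.Action G' (Limits.pullback F (1 : 𝟙_ (Over S) ⟶ G'')) :=
      { act := act
        one_act := by
          refine AlgGrp.Action.hom_ext_lift₂ fun T e q => hext _ _ ?_
          have he : e ≫ η[G'] = 1 := by rw [Hom.one_def, toUnit_unique (toUnit T) e]
          simp only [Category.assoc]
          rw [lift_whiskerRight_assoc, he, hact, MonObj.one_comp, AlgGrp.Action.lift_one_act, leftUnitor_hom,
            lift_snd_assoc]
        mul_act := by
          refine AlgGrp.Action.hom_ext_lift₃ fun T g g' q => hext _ _ ?_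
          simp only [Category.assoc]
          rw [lift_whiskerRight_assoc, ← Hom.mul_def, hact, MonObj.mul_comp, AlgGrp.Action.lift_mul_act,
            lift_lift_associator_hom_assoc, lift_whiskerLeft_assoc, hact, Category.assoc, hact] }
    have hps : NonAbH1.IsPseudoTorsorSch α := TorsorSch25.isPseudoTorsorSch_of_existsUnique fun T x y => by
      obtain ⟨g, hg, hgu⟩ := TorsorSch25.existsUnique_smul hP (x ≫ π) (y ≫ π)
      have hg' : g ≫ v = 1 := by
        have := h0 T g (x ≫ π)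
        rw [reassoc_of% hg, Category.assoc, hπ, hπ, _root_.mul_one] at this
        exact this.symm
      obtain ⟨k, hk, hku⟩ := TorsorSch25.exists_eq_of_comp_eq_one hex g hg'
      refine ⟨k, hext _ _ ?_, fun k' hk' => hku k' (hgu _ ?_)⟩
      · rw [Category.assoc, hact, hk, hg]
      · show lift _ _ ≫ _ = _
        rw [← hact, ← hk', Category.assoc]
    refine ⟨⟨_, α, hps, ?_⟩, π, (hF u α P.act π).2 fun T g q => hact g q⟩
    refine TorsorSch25.exists_cover_comp hR fun V f hf => ?_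
    obtain ⟨s, hs⟩ := hsec f hf
    let p : Over.mk f ⟶ P.X := Over.homMk s hs
    let c : Over.mk f ⟶ G'' := (p ≫ F)⁻¹
    obtain ⟨R'', hR'', hsec''⟩ := hex.2.2.2.2
    refine ⟨R''.pullbackArrows c.left, Precoverage.pullbackArrows_mem _ hR'', fun W g hg => ?_⟩
    obtain ⟨W', b, hb, q, hq⟩ : ∃ (W' : Scheme.{u}) (b : W' ⟶ G''.left) (_ : R'' b) (q : W ⟶ W'),
        q ≫ b = g ≫ c.left := TorsorSch25.exists_of_pullbackArrows hg
    obtain ⟨t, ht⟩ := hsec'' b hb
    have ht' : t ≫ v.left = b := ht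
    let gW : Over.mk (g ≫ f) ⟶ Over.mk f := Over.homMk g rfl
    let tW : Over.mk (g ≫ f) ⟶ G := Over.homMk (q ≫ t) (by
      show (q ≫ t) ≫ G.hom = g ≫ f
      rw [← Over.w v, Category.assoc, reassoc_of% ht', reassoc_of% hq, Over.w c]
      rfl)
    have e : tW ≫ v = gW ≫ c := Over.OverMorphism.ext (by
      show (q ≫ t) ≫ v.left = g ≫ c.left
      rw [Category.assoc, ht', hq])
    let x : Over.mk (g ≫ f) ⟶ P.X := lift tW (gW ≫ p) ≫ P.act.act
    have hx : x ≫ F = 1 := by
      rw [Category.assoc, h0, e, GrpObj.comp_inv, Category.assoc, inv_mul_cancel]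
    let y : Over.mk (g ≫ f) ⟶ Limits.pullback F (1 : 𝟙_ (Over S) ⟶ G'') :=
      Limits.pullback.lift x (toUnit _) (by rw [hx, MonObj.comp_one])
    exact ⟨y.left, Over.w y⟩
  · rintro ⟨Q, h, hh⟩
    have h0 := (hF u Q.act P.act h).1 hh
    obtain ⟨hQ, RQ, hRQ, hsecQ⟩ := id Q.isTorsor
    have key : ∀ {T : Over S} (q q' : T ⟶ Q.X) (g g' : T ⟶ G) (p : T ⟶ P.X),
        lift g (q ≫ h) ≫ P.act.act = p → lift g' (q' ≫ h) ≫ P.act.act = p → g ≫ v = g' ≫ v := by
      intro T q q' g g' p e e'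
      obtain ⟨k, hk, -⟩ := TorsorSch25.existsUnique_smul hQ q q'
      have : q' ≫ h = lift (k ≫ u) (q ≫ h) ≫ P.act.act := by rw [← h0, reassoc_of% hk]
      rw [this, ← AlgGrp.Action.lift_mul_act] at e'
      rw [TorsorSch25.smul_cancel hP (e.trans e'.symm), MonObj.mul_comp, Category.assoc, huv, _root_.mul_one]
    obtain ⟨R', hR', hR''⟩ := TorsorSch25.exists_cover_over hRQ P.X
    obtain ⟨F, hFP⟩ := TorsorSch25.exists_glue (T := P.X) (Z := G'')
      (fun T' c z => ∀ ⦃W : Over S⦄ (b : W ⟶ T') (q : W ⟶ Q.X) (g : W ⟶ G),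
        lift g (q ≫ h) ≫ P.act.act = b ≫ c → b ≫ z = g ≫ v)
      (fun T' T'' e c z hz W b q g hg => by
        rw [← Category.assoc]
        exact hz (b ≫ e) q g (by rw [hg, Category.assoc]))
      (fun T' c z z' hz hz' => by
        obtain ⟨R₁, hR₁, hR₁'⟩ := TorsorSch25.exists_cover_over hRQ T'
        refine TorsorSch25.hom_ext_of_cover hR₁ fun W b hb => ?_
        obtain ⟨q⟩ := hR₁' hsecQ b hb
        obtain ⟨g, hg, -⟩ := TorsorSch25.existsUnique_smul hP (q ≫ h) (b ≫ c)
        rw [hz b q g hg, hz' b q g hg])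
      hR' (fun T' c hc => by
        obtain ⟨q⟩ := hR'' hsecQ c hc
        obtain ⟨g, hg, -⟩ := TorsorSch25.existsUnique_smul hP (q ≫ h) c
        refine ⟨g ≫ v, fun W b q' g' hg' => ?_⟩
        rw [← Category.assoc]
        refine key (b ≫ q) q' (b ≫ g) g' (b ≫ c) ?_ hg'
        rw [Category.assoc, ← comp_lift_assoc, hg])
    have hFg : ∀ ⦃W : Over S⦄ (p : W ⟶ P.X) (q : W ⟶ Q.X) (g : W ⟶ G),
        lift g (q ≫ h) ≫ P.act.act = p → p ≫ F = g ≫ v := by
      intro W p q g hg
      have hR₂ : R'.pullbackArrows p.left ∈ Scheme.fpqcPrecoverage W.left := Precoverage.pullbackArrows_mem _ hR'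
      refine TorsorSch25.hom_ext_of_cover hR₂ fun V b hb => ?_
      obtain ⟨V', c₀, hc₀, e, he⟩ : ∃ (V' : Scheme.{u}) (c₀ : V' ⟶ P.X.left) (_ : R' c₀) (e : V.left ⟶ V'),
          e ≫ c₀ = b.left ≫ p.left := TorsorSch25.exists_of_pullbackArrows hb
      let c : Over.mk (c₀ ≫ P.X.hom) ⟶ P.X := Over.homMk c₀ rfl
      let e' : V ⟶ Over.mk (c₀ ≫ P.X.hom) := Over.homMk e (by
        show e ≫ c₀ ≫ P.X.hom = V.hom
        rw [reassoc_of% he, Over.w p, Over.w b])
      have hec : e' ≫ c = b ≫ p := Over.OverMorphism.ext he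
      have h1 := hFP c hc₀ e' (b ≫ q) (b ≫ g) (by rw [Category.assoc, ← comp_lift_assoc, hg, hec])
      rw [← Category.assoc, hec, Category.assoc, Category.assoc] at h1
      exact h1
    refine ⟨F, (hF v P.act _ F).2 fun T g p => ?_⟩
    obtain ⟨R₁, hR₁, hR₁'⟩ := TorsorSch25.exists_cover_over hRQ T
    refine TorsorSch25.hom_ext_of_cover hR₁ fun W b hb => ?_
    obtain ⟨q⟩ := hR₁' hsecQ b hb
    obtain ⟨k, hk, -⟩ := TorsorSch25.existsUnique_smul hP (q ≫ h) (b ≫ p)
    have h1 := hFg (b ≫ lift g p ≫ P.act.act) q ((b ≫ g) * k) (by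
      rw [AlgGrp.Action.lift_mul_act, hk, comp_lift_assoc])
    rw [Category.assoc, Category.assoc] at h1
    rw [h1, MonObj.mul_comp, ← hFg (b ≫ p) q k hk, Category.assoc, Category.assoc, comp_lift_assoc]
    exact Hom.mul_def _ _

end Groth.Agent.S6010
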