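import Groth.Statements.S6011
import Groth.Agent.Lib.TorsorSch25.Transfer

set_option autoImplicit false
universe u
open CategoryTheory AlgebraicGeometry
open SGA1

namespace Groth.Agent.S6011

open MonoidalCategory CartesianMonoidalCategory MonObj

/-- An S-scheme X with an action of the S-group G is trivial — equivariantly isomorphic over S to G
acting on itself by translation — if and only if it is formally principal homogeneous (a
pseudo-torsor) and admits a section over S. -/
theorem result {S : Scheme.{u}}
    (G X : Over S) [GrpObj G] (a : AlgGrp.Action G X) :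
    Nonempty (NonAbH1.EquivIso (NonAbH1.trivialAction G) a) ↔
      (NonAbH1.IsPseudoTorsorSch a ∧ NonAbH1.HasSectionOver X (𝟙 S)) := by
  constructor
  · rintro ⟨e⟩
    refine ⟨?_, ⟨(η[G] ≫ e.iso.hom).left, Over.w (η[G] ≫ e.iso.hom)⟩⟩
    refine TorsorSch25.isPseudoTorsorSch_of_existsUnique fun T x y => ?_
    have hx : ∀ g : T ⟶ G, lift g x ≫ a.act = (g * (x ≫ e.iso.inv)) ≫ e.iso.hom := fun g => by
      rw [Hom.mul_def, Category.assoc, show μ[G] ≫ e.iso.hom = (G ◁ e.iso.hom) ≫ a.act from e.comm,
        lift_whiskerLeft_assoc, Category.assoc, Iso.inv_hom_id, Category.comp_id]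
    refine ⟨(y ≫ e.iso.inv) * (x ≫ e.iso.inv)⁻¹, by
      show lift _ x ≫ a.act = y
      rw [hx, inv_mul_cancel_right, Category.assoc, Iso.inv_hom_id, Category.comp_id], fun g hg => ?_⟩
    rw [← hg, hx, Category.assoc, Iso.hom_inv_id, Category.comp_id, mul_inv_cancel_right]
  · rintro ⟨h, s, hs⟩
    obtain ⟨e, -⟩ := TorsorSch25.exists_equivIso h (Over.homMk s hs)
    exact ⟨e⟩

end Groth.Agent.S6011
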