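import Groth.Statements.S6012
import Groth.Agent.Lib.FC16.Basic

set_option autoImplicit false
open CategoryTheory
universe v₁ v₂ u₁ u₂
open FibCat FibCat.Cleavage

namespace Groth.Agent.S6012
open CategoryTheory.Functor Groth.Agent.FC16
set_option linter.style.haveILetI false
set_option linter.unusedVariables false
set_option backward.isDefEq.respectTransparency false
set_option backward.isDefEq.respectTransparency.types false


/-- Let `K` be a cleavage of an arbitrary functor `p : 𝒳 ⥤ 𝒮` (one chosen cartesian lift of every base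
morphism at every object over its target; `p` is not assumed fibred). Then `p` is a fibred category
(composites of cartesian morphisms are cartesian) if and only if, for all composable base morphisms
`g : R ⟶ T` and `f : T ⟶ S`, the comparison natural transformation `c_{f,g}` from `g^* f^*` to
`(fg)^*` determined by `K` is an isomorphism. -/
theorem result (𝒮 : Type u₁) (𝒳 : Type u₂) [Category.{v₁} 𝒮] [Category.{v₂} 𝒳] (p : 𝒳 ⥤ 𝒮) (K : FibCat.Cleavage p) :
    p.IsFibered ↔ ∀ (R S T : 𝒮) (f : T ⟶ S) (g : R ⟶ T), IsIso (K.comp f g) := by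
  constructor
  · intro _ R S T f g
    haveI : ∀ a : p.Fiber S, IsIso ((K.comp f g).app a) := fun a => by
      rw [isIso_fiber_iff]
      let ψ := K.lift (K.obj_proj a.2 f) g ≫ K.lift a.2 f
      haveI : p.IsCartesian (g ≫ f) ψ := IsFibered.comp g f _ _
      show IsIso (IsCartesian.map p (g ≫ f) (K.lift a.2 (g ≫ f)) ψ)
      exact inferInstanceAs (IsIso (IsCartesian.domainUniqueUpToIso p (g ≫ f) (K.lift a.2 (g ≫ f)) ψ).hom)
    exact NatIso.isIso_of_isIso_app _
  · intro h
    haveI := K.isPreFibered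
    refine { comp := fun {R S T} f g {a b c} φ ψ hφ hψ => ?_ }
    have hb : p.obj b = S := IsHomLift.codomain_eq p f φ
    have hc : p.obj c = T := IsHomLift.codomain_eq p g ψ
    haveI := h R T S g f
    let θ := (K.comp g f).app ⟨c, hc⟩
    haveI : IsIso θ.1 := (isIso_fiber_iff θ).1 inferInstance
    haveI : p.IsHomLift (𝟙 R) θ.1 := θ.2
    have hθ : θ.1 ≫ K.lift hc (f ≫ g) = K.lift (K.obj_proj hc g) f ≫ K.lift hc g :=
      IsCartesian.fac p (f ≫ g) (K.lift hc (f ≫ g)) _
    haveI : p.IsHomLift (𝟙 R) (asIso θ.1).hom := θ.2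
    haveI h0 : p.IsCartesian (f ≫ g) (K.lift (K.obj_proj hc g) f ≫ K.lift hc g) := by
      rw [← hθ]
      exact inferInstanceAs (p.IsCartesian (f ≫ g) ((asIso θ.1).hom ≫ K.lift hc (f ≫ g)))
    -- compare `ψ` with the chosen lift
    let u := IsCartesian.domainUniqueUpToIso p g (K.lift hc g) ψ
    have hu : p.IsHomLift (𝟙 S) u.hom := IsCartesian.map_isHomLift p g (K.lift hc g) ψ
    have hu' : u.hom ≫ K.lift hc g = ψ := IsCartesian.fac p g (K.lift hc g) ψ
    haveI := hu
    haveI : p.IsCartesian f (φ ≫ u.hom) := inferInstance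
    let w := IsCartesian.domainUniqueUpToIso p f (K.lift (K.obj_proj hc g) f) (φ ≫ u.hom)
    have hw : p.IsHomLift (𝟙 R) w.hom :=
      IsCartesian.map_isHomLift p f (K.lift (K.obj_proj hc g) f) (φ ≫ u.hom)
    have hw' : w.hom ≫ K.lift (K.obj_proj hc g) f = φ ≫ u.hom :=
      IsCartesian.fac p f (K.lift (K.obj_proj hc g) f) (φ ≫ u.hom)
    haveI := hw
    have e : φ ≫ ψ = w.hom ≫ K.lift (K.obj_proj hc g) f ≫ K.lift hc g := by
      rw [reassoc_of% hw', hu']
    rw [e]
    infer_instance

end Groth.Agent.S6012
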