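import Groth.Statements.S6013
import Groth.Agent.Lib.FC16.Basic

set_option autoImplicit false
open CategoryTheory
universe v₁ v₂ u₁ u₂
open FibCat FibCat.Cleavage

namespace Groth.Agent.S6013
open CategoryTheory.Functor Groth.Agent.FC16
set_option linter.style.haveILetI false
set_option linter.unusedVariables false
set_option backward.isDefEq.respectTransparency false
set_option backward.isDefEq.respectTransparency.types false


/-- Let `p : 𝒳 ⥤ 𝒮` be a fibred category with a cleavage `K`, and let `f : T ⟶ S` be an isomorphism of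
the base. Then the inverse-image functor `f^*` of `K`, from the fibre over `S` to the fibre over
`T`, is an equivalence of categories. -/
theorem result (𝒮 : Type u₁) (𝒳 : Type u₂) [Category.{v₁} 𝒮] [Category.{v₂} 𝒳] (p : 𝒳 ⥤ 𝒮) [p.IsFibered] (K : FibCat.Cleavage p)
    (S T : 𝒮) (f : T ⟶ S) [IsIso f] : (K.inverseImage f).IsEquivalence := by
  have hc : ∀ (R : 𝒮) (g : R ⟶ T), IsIso (K.comp f g) := fun R g => by
    haveI : ∀ a : p.Fiber S, IsIso ((K.comp f g).app a) := fun a => by
      rw [isIso_fiber_iff]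
      let ψ := K.lift (K.obj_proj a.2 f) g ≫ K.lift a.2 f
      haveI : p.IsCartesian (g ≫ f) ψ := IsFibered.comp g f _ _
      show IsIso (IsCartesian.map p (g ≫ f) (K.lift a.2 (g ≫ f)) ψ)
      exact inferInstanceAs (IsIso (IsCartesian.domainUniqueUpToIso p (g ≫ f) (K.lift a.2 (g ≫ f)) ψ).hom)
    exact NatIso.isIso_of_isIso_app _
  have hi : ∀ a : p.Fiber S, IsIso (K.lift a.2 f) := fun a =>
    IsStronglyCartesian.isIso_of_base_isIso p f _
  have : (K.inverseImage f).Faithful := ⟨fun {a b φ ψ} e => by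
    haveI := hi a
    apply Functor.Fiber.hom_ext
    rw [← cancel_epi (K.lift a.2 f)]
    have h := congrArg (fun q => Functor.Fiber.fiberInclusion.map q ≫ K.lift b.2 f) e
    simp only [FibCat.Cleavage.inverseImage_map, IsCartesian.fac] at h
    exact h⟩
  have : (K.inverseImage f).Full := ⟨fun {a b} χ => by
    haveI := hi a
    haveI := χ.2
    haveI : p.IsHomLift f (χ.1 ≫ K.lift b.2 f) := inferInstance
    haveI : p.IsHomLift (𝟙 S) (inv (K.lift a.2 f) ≫ χ.1 ≫ K.lift b.2 f) := by
      rw [← IsIso.inv_hom_id f]; infer_instance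
    refine ⟨⟨inv (K.lift a.2 f) ≫ χ.1 ≫ K.lift b.2 f, inferInstance⟩, ?_⟩
    apply Functor.Fiber.hom_ext
    rw [FibCat.Cleavage.inverseImage_map]
    refine (IsCartesian.map_uniq p f (K.lift b.2 f) _ χ.1 ?_).symm
    show χ.1 ≫ K.lift b.2 f = K.lift a.2 f ≫ inv (K.lift a.2 f) ≫ χ.1 ≫ K.lift b.2 f
    rw [IsIso.hom_inv_id_assoc]⟩
  have : (K.inverseImage f).EssSurj := ⟨fun b => by
    let c : p.Fiber S := ⟨K.obj b.2 (inv f), K.obj_proj b.2 (inv f)⟩
    let ψ := K.lift c.2 f ≫ K.lift b.2 (inv f)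
    haveI := hi c
    haveI : IsIso (K.lift b.2 (inv f)) := IsStronglyCartesian.isIso_of_base_isIso p (inv f) _
    have hψ : p.IsHomLift (𝟙 T) ψ := by rw [← IsIso.hom_inv_id f]; infer_instance
    exact ⟨c, ⟨fiberIso (asIso ψ) hψ⟩⟩⟩
  exact { }

end Groth.Agent.S6013
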