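import Groth.Statements.S6018
import Groth.Agent.Lib.FC16.Basic

set_option autoImplicit false
open CategoryTheory
universe v₁ v₂ v₃ u₁ u₂ u₃
open FibCat FibCat.Cleavage

namespace Groth.Agent.S6018
open CategoryTheory.Functor Groth.Agent.FC16
set_option linter.style.haveILetI false
set_option linter.unusedVariables false
set_option backward.isDefEq.respectTransparency false
set_option backward.isDefEq.respectTransparency.types false


/-- Let `K` be a cleavage of a functor `p : 𝒳 ⥤ 𝒮` (neither fibredness nor normalisation is assumed),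
let `F, G : 𝒳 ⥤ C` be functors, and for every object `S` of the base let `u_S` be a natural
transformation between the restrictions of `F` and `G` to the fibre over `S`. If the family is
compatible with the transport morphisms `α_f(a) : f^* a ⟶ a` of `K`, i.e. `G(α_f(a)) ∘ u_T(f^* a) =
u_S(a) ∘ F(α_f(a))` for every base morphism `f : T ⟶ S` and every `a` over `S`, then there is
exactly one natural transformation `F ⟶ G` whose component at every object is the prescribed one.
(The published statement is an isomorphism between the category of all functors `𝒳 ⥤ C` and the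
category of compatible families of functors on the fibres of a normalised cloven category; this row
is its assertion on morphisms, whose published proof does not use the normalisation, so none is
assumed here.) -/
theorem result (𝒮 : Type u₁) (𝒳 : Type u₂) [Category.{v₁} 𝒮]
    [Category.{v₂} 𝒳] (p : 𝒳 ⥤ 𝒮) (K : FibCat.Cleavage p) (C : Type u₃) [Category.{v₃} C] (F G : 𝒳 ⥤ C)
    (u : ∀ S : 𝒮, (Functor.Fiber.fiberInclusion ⋙ F : p.Fiber S ⥤ C) ⟶ Functor.Fiber.fiberInclusion ⋙ G)
    (hu : ∀ ⦃T S : 𝒮⦄ (f : T ⟶ S) (a : p.Fiber S),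
      F.map ((K.transport f).app a) ≫ (u S).app a = (u T).app ((K.inverseImage f).obj a) ≫ G.map ((K.transport f).app a)) :
    ∃! v : F ⟶ G, ∀ (S : 𝒮) (a : p.Fiber S), v.app a.1 = (u S).app a := by
  let v : ∀ x : 𝒳, F.obj x ⟶ G.obj x := fun x => (u (p.obj x)).app ⟨x, rfl⟩
  have hv : ∀ (S : 𝒮) (a : p.Fiber S), v a.1 = (u S).app a := fun S ⟨x, hx⟩ => by
    subst hx; rfl
  have nat : ∀ {a b : 𝒳} (φ : a ⟶ b), F.map φ ≫ v b = v a ≫ G.map φ := fun {a b} φ => by
    let f := p.map φ
    let B : p.Fiber (p.obj b) := ⟨b, rfl⟩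
    let A : p.Fiber (p.obj a) := ⟨a, rfl⟩
    let χ : A ⟶ (K.inverseImage f).obj B :=
      ⟨IsCartesian.map p f ((K.transport f).app B) φ, IsCartesian.map_isHomLift p f _ φ⟩
    have e : χ.1 ≫ (K.transport f).app B = φ := IsCartesian.fac p f _ φ
    have h1 := hu f B
    have h2 : F.map χ.1 ≫ (u (p.obj a)).app ((K.inverseImage f).obj B) =
        (u (p.obj a)).app A ≫ G.map χ.1 := (u (p.obj a)).naturality χ
    calc F.map φ ≫ v b = F.map χ.1 ≫ F.map ((K.transport f).app B) ≫ (u (p.obj b)).app B := by
            rw [← F.map_comp_assoc, e]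
      _ = (u (p.obj a)).app A ≫ G.map χ.1 ≫ G.map ((K.transport f).app B) := by
            rw [h1, reassoc_of% h2]
      _ = v a ≫ G.map φ := by rw [← G.map_comp, e]
  refine ⟨{ app := v, naturality := fun a b φ => nat φ }, hv, fun w hw => ?_⟩
  ext x
  exact hw (p.obj x) ⟨x, rfl⟩

end Groth.Agent.S6018
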