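import Groth.Statements.S6019

set_option autoImplicit false
open CategoryTheory
universe v₁ v₂ u₁ u₂
open FibCat FibCat.Cleavage

namespace Groth.Agent.S6019
open CategoryTheory.Functor
set_option linter.style.haveILetI false
set_option linter.unusedVariables false
set_option backward.isDefEq.respectTransparency false
set_option backward.isDefEq.respectTransparency.types false


/-- A pre-fibred category admits a normalised cleavage: if every base morphism `R ⟶ p(a)` has a
cartesian morphism over it with target `a`, then one cartesian lift can be chosen for every base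
morphism at every object over its target in such a way that the chosen lift of each identity `𝟙 S`
at each object `a` over `S` is the identity of `a` (identities are transport morphisms). -/
theorem result (𝒮 : Type u₁) (𝒳 : Type u₂) [Category.{v₁} 𝒮] [Category.{v₂} 𝒳]
    (p : 𝒳 ⥤ 𝒮) [p.IsPreFibered] : ∃ K : FibCat.Cleavage p, K.IsNormalised := by
  classical
  let P : ∀ {R S : 𝒮} {a : 𝒳} (ha : p.obj a = S) (f : R ⟶ S),
      { q : Σ b : 𝒳, (b ⟶ a) // p.IsCartesian f q.2 } := fun {R S a} ha f =>
    if h : ∃ e : R = S, f = eqToHom e then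
      ⟨⟨a, 𝟙 a⟩, by
        obtain ⟨rfl, rfl⟩ := h
        haveI : p.IsHomLift (eqToHom (rfl : R = R)) (Iso.refl a).hom := IsHomLift.id ha
        exact inferInstanceAs (p.IsCartesian (eqToHom (rfl : R = R)) (Iso.refl a).hom)⟩
    else ⟨⟨IsPreFibered.pullbackObj ha f, IsPreFibered.pullbackMap ha f⟩, inferInstance⟩
  refine ⟨⟨fun ha f => (P ha f).1.1, fun ha f => (P ha f).1.2, fun ha f => (P ha f).2⟩, fun S a ha => ?_⟩
  have h : ∃ e : S = S, 𝟙 S = eqToHom e := ⟨rfl, rfl⟩
  have hP : (P ha (𝟙 S)).1 = ⟨a, 𝟙 a⟩ := by simp only [P, dif_pos h]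
  obtain ⟨h1, h2⟩ := Sigma.ext_iff.1 hP
  have key : ∀ {b : 𝒳} (φ : b ⟶ a) (e : b = a), HEq φ (𝟙 a) → φ = eqToHom e := by
    intro b φ e h'; subst e; exact eq_of_heq h'
  exact ⟨h1, key _ h1 h2⟩

end Groth.Agent.S6019
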