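import Groth.Statements.S6020
import Groth.Agent.Lib.LocCohZ.Local

set_option autoImplicit false
universe u
open CategoryTheory CategoryTheory.Limits TopologicalSpace
open LocCohZ

namespace Groth.Agent.S6020


/-- Consider a topological space X carrying a sheaf F of abelian groups, an open subset U whose
complement is the closed set Z, and a natural number N. The local cohomology sheaves ℋ^i_Z(F) are
zero for all i ≤ N exactly when, for each open V of X, restricting H^i(V, F) → H^i(V ∩ U, F) gives a
bijection whenever i < N and an injection when i = N. -/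
theorem result {X : TopCat.{u}} (F : CohTop.Ab X) (U : Opens X) (N : ℕ) :
    (∀ i : ℕ, i ≤ N → IsZero ((LocCohZ.HZsh U i).obj F)) ↔
      ∀ V : Opens X, (∀ i : ℕ, i < N → Function.Bijective (CohTop.res F i (inf_le_left : V ⊓ U ≤ V))) ∧
        Function.Injective (CohTop.res F N (inf_le_left : V ⊓ U ≤ V)) := by
  constructor
  · intro h V
    have hz := fun i (hi : i < N + 1) =>
      LocCohZ.subsingleton_HZ_of_isZero_HZsh U F (N + 1) (fun j hj => h j (by omega)) V i hi
    exact ⟨fun i hi => ⟨(LocCohZ.res_injective_iff U F i V).2 (LocCohZ.rs_injective U F i V (hz i (by omega))),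
      (LocCohZ.res_surjective_iff U F i V).2 (LocCohZ.rs_surjective U F i V (hz (i + 1) (by omega)))⟩,
      (LocCohZ.res_injective_iff U F N V).2 (LocCohZ.rs_injective U F N V (hz N (by omega)))⟩
  · intro h i hi
    refine LocCohZ.isZero_HZsh_of_subsingleton U F i fun V => LocCohZ.subsingleton_HZ_of_rs U F i V ?_ ?_
    · intro j hj
      exact (LocCohZ.res_surjective_iff U F j V).1 ((h V).1 j (by omega)).2
    · rcases Nat.lt_or_eq_of_le hi with hlt | rfl
      · exact (LocCohZ.res_injective_iff U F i V).1 ((h V).1 i hlt).1
      · exact (LocCohZ.res_injective_iff U F i V).1 (h V).2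


end Groth.Agent.S6020
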