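import Groth.Statements.S6021
import Groth.Agent.Lib.LocCohZ.Local

set_option autoImplicit false
universe u
open CategoryTheory CategoryTheory.Limits TopologicalSpace
open LocCohZ

namespace Groth.Agent.S6021


/-- Consider a topological space X carrying an abelian sheaf F, a closed subset Z whose open complement
is U, and a natural number N > 0. Assume that, for each open V of X and each i < N, restricting
H^i(V, F) → H^i(V ∩ U, F) gives a bijection. Then ℋ^i_Z(F), the local cohomology sheaves, are zero
for every i ≤ N (no separate injectivity hypothesis in degree N is needed, since it follows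
automatically). -/
theorem result {X : TopCat.{u}} (F : CohTop.Ab X) (U : Opens X) (N : ℕ) (hN : 0 < N)
    (h : ∀ (V : Opens X) (i : ℕ), i < N → Function.Bijective (CohTop.res F i (inf_le_left : V ⊓ U ≤ V))) :
    ∀ i : ℕ, i ≤ N → IsZero ((LocCohZ.HZsh U i).obj F) := by
  obtain ⟨M, rfl⟩ : ∃ M, N = M + 1 := ⟨N - 1, by omega⟩
  have hs : ∀ j, j < M + 1 → ∀ V : Opens X,
      Function.Surjective (CohFound.rs F j (inf_le_left : V ⊓ U ≤ V)) :=
    fun j hj V => (LocCohZ.res_surjective_iff U F j V).1 (h V j hj).2
  have hlow : ∀ j, j < M + 1 → IsZero ((_root_.LocCohZ.HZsh U j).obj F) := fun j hj =>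
    LocCohZ.isZero_HZsh_of_subsingleton U F j fun V => LocCohZ.subsingleton_HZ_of_rs U F j V
      (fun k hk => hs k (by omega) V) ((LocCohZ.res_injective_iff U F j V).1 (h V j hj).1)
  intro i hi
  rcases Nat.lt_or_eq_of_le hi with hlt | rfl
  · exact hlow i hlt
  · exact LocCohZ.isZero_HZsh_of_subsingleton U F (M + 1) fun V => subsingleton_of_forall_eq 0 fun x =>
      LocCohZ.eq_zero_of U M F
        (LocCohZ.isFlasque_of_isZero _ (LocCohZ.isZero_sectSupp U F (hlow 0 (by omega))))
        (fun j _ hj => hlow j (by omega)) V x
        (Or.inr (LocCohZ.locallyZero_of_surjective U F M (hs M (by omega)) V x))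


end Groth.Agent.S6021
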