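import Groth.Statements.S6031
import Groth.Agent.Lib.CohFound.QcohAffine

set_option autoImplicit false
universe u
open CategoryTheory CategoryTheory.Limits TopologicalSpace AlgebraicGeometry
open LocCohZ
open TopologicalSpace

namespace Groth.Agent.S6031


/-- Let Y be an affine scheme, U an open subset with closed complement Z and M a quasi-coherent
O_Y-module with underlying abelian sheaf F. Then 0 → H^0_Z(Y, F) → H^0(Y, F) → H^0(U, F) → H^1_Z(Y,
F) → 0 is exact, i.e. the connecting map H^0(U, F) → H^1_Z(Y, F) is surjective, and the connecting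
maps H^i(U, F) → H^{i+1}_Z(Y, F) are bijective for all i ≥ 1. (The published statement assumes U
quasi-compact; the printed proof of these two assertions only uses the vanishing of the higher
cohomology of F on the affine scheme Y, so U is an arbitrary open here.) -/
theorem result (Y : Scheme.{u}) [IsAffine Y] (M : Y.Modules)
    (hM : Coh.IsQCoh M) (U : Y.Opens) :
    Function.Surjective (LocCohZ.delta (X := Y.carrier) (Coh.toAb M) 0 (le_top : U ≤ ⊤)) ∧
      ∀ i : ℕ, 1 ≤ i →
        Function.Bijective (LocCohZ.delta (X := Y.carrier) (Coh.toAb M) i (le_top : U ≤ ⊤)) := by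
  haveI : M.IsQuasicoherent := hM
  have h0 : ∀ q : ℕ, Subsingleton (CategoryTheory.Abelian.Ext.{u}
      (CohCx.freeSheaf (Opens.grothendieckTopology (Y.carrier : TopCat.{u})) (⊤ : Opens (Y.carrier : TopCat.{u}))) (Coh.toAb M) (q + 1)) :=
    fun q => Groth.Agent.CohFound.subsingleton_hc_isAffineOpen M (isAffineOpen_top Y) q
  have hs : ∀ i : ℕ, Function.Surjective (LocCohZ.delta (X := Y.carrier) (Coh.toAb M) i (le_top : U ≤ ⊤)) := by
    intro i x
    have hx := @Subsingleton.elim _ (h0 i) ((CategoryTheory.Abelian.Ext.mk₀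
      (LocCohZ.zqSeq (X := Y.carrier) (le_top : U ≤ ⊤)).g).comp x (zero_add (i + 1))) 0
    exact CategoryTheory.Abelian.Ext.contravariant_sequence_exact₃
      (LocCohZ.zqSeq_shortExact (X := Y.carrier) (le_top : U ≤ ⊤)) _ x hx (by omega)
  refine ⟨hs 0, fun i hi => ⟨?_, hs i⟩⟩
  rw [injective_iff_map_eq_zero]
  intro y hy
  obtain ⟨k, rfl⟩ : ∃ k, i = k + 1 := ⟨i - 1, by omega⟩
  obtain ⟨z, rfl⟩ := CategoryTheory.Abelian.Ext.contravariant_sequence_exact₁
    (LocCohZ.zqSeq_shortExact (X := Y.carrier) (le_top : U ≤ ⊤)) _ y (by omega) hy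
  have hz := @Subsingleton.elim _ (h0 k) z 0
  rw [hz]
  exact CategoryTheory.Abelian.Ext.comp_zero ..



end Groth.Agent.S6031
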