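import Groth.Statements.S6032
import Groth.Agent.Lib.KoszulTransp8.Basic
import Groth.Agent.Lib.KoszulH13.CechMain
import Groth.Agent.S6031
import Groth.Agent.S2442

set_option autoImplicit false
universe u
open CategoryTheory CategoryTheory.Limits TopologicalSpace AlgebraicGeometry
open LocCohZ

namespace Groth.Agent.S6032

open CategoryTheory CategoryTheory.Limits AlgebraicGeometry Opposite

section pair

variable {X : TopCat.{u}} (F : CohTop.Ab X) {W : TopologicalSpace.Opens X}

local notation "JX" => Opens.grothendieckTopology X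

/-- Degree zero cohomology over an open. -/
noncomputable def sec0 (V : TopologicalSpace.Opens X) :
    CategoryTheory.Abelian.Ext.{u} (CohCx.freeSheaf (Opens.grothendieckTopology X) V) F 0 ≃+ F.obj.obj (op V) :=
  Abelian.Ext.addEquiv₀.trans
    { toFun := fun φ => CohFree.evalGen (Opens.grothendieckTopology X) V F φ
      invFun := fun s => CohFree.ofSect (Opens.grothendieckTopology X) V F s
      left_inv := fun φ => CohFree.ofSect_evalGen _ _ _ φ
      right_inv := fun s => CohFree.evalGen_ofSect _ _ _ s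
      map_add' := fun a b => map_add _ a b }

theorem sec0_res {V : TopologicalSpace.Opens X} (h : W ≤ V)
    (z : CategoryTheory.Abelian.Ext.{u} (CohCx.freeSheaf (Opens.grothendieckTopology X) V) F 0) :
    sec0 F W ((Abelian.Ext.mk₀ (LocCohZ.zqSeq h).f).comp z (zero_add 0)) =
      (F.obj.map (homOfLE h).op).hom (sec0 F V z) := by
  show CohFree.evalGen (Opens.grothendieckTopology X) W F (Abelian.Ext.addEquiv₀ _) = _
  obtain ⟨φ, rfl⟩ := Abelian.Ext.addEquiv₀.symm.surjective z
  refine (congrArg (CohFree.evalGen (Opens.grothendieckTopology X) W F) (show Abelian.Ext.addEquiv₀ ((Abelian.Ext.mk₀ (LocCohZ.zqSeq h).f).comp (Abelian.Ext.addEquiv₀.symm φ) (zero_add 0)) =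
      (LocCohZ.zqSeq h).f ≫ φ by
    apply Abelian.Ext.addEquiv₀.symm.injective
    rw [AddEquiv.symm_apply_apply]
    exact Abelian.Ext.mk₀_comp_mk₀ _ _)).trans ?_
  refine (CohFree.evalGen_freeSheafMap_comp _ _ _ _).trans ?_
  show _ = (F.obj.map (homOfLE h).op).hom (CohFree.evalGen _ V F (Abelian.Ext.addEquiv₀ (Abelian.Ext.addEquiv₀.symm φ)))
  rw [AddEquiv.apply_symm_apply]

/-- `H¹_Z` as a cokernel when the connecting map is surjective. -/
theorem nonempty_coker {V : TopologicalSpace.Opens X} (h : W ≤ V) (hs : Function.Surjective (LocCohZ.delta F 0 h)) :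
    Nonempty (↑(F.obj.obj (op W)) ⧸ (F.obj.map (homOfLE h).op).hom.range ≃+ LocCohZ.HZ F 1 h) := by
  let D : ↑(F.obj.obj (op W)) →+ LocCohZ.HZ F 1 h := (LocCohZ.delta F 0 h).comp (sec0 F W).symm.toAddMonoidHom
  have hD : Function.Surjective D := hs.comp (sec0 F W).symm.surjective
  have hker : D.ker = (F.obj.map (homOfLE h).op).hom.range := by
    ext t
    constructor
    · intro ht
      obtain ⟨z, hz⟩ := CategoryTheory.Abelian.Ext.contravariant_sequence_exact₁
        (LocCohZ.zqSeq_shortExact h) _ ((sec0 F W).symm t) (by omega) ht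
      exact ⟨sec0 F V z, ((sec0_res F h z).symm.trans (congrArg (sec0 F W) hz)).trans ((sec0 F W).apply_symm_apply t)⟩
    · rintro ⟨s, rfl⟩
      obtain ⟨z, rfl⟩ := (sec0 F V).surjective s
      show LocCohZ.delta F 0 h ((sec0 F W).symm _) = 0
      rw [← sec0_res F h z]
      refine (congrArg (LocCohZ.delta F 0 h) (AddEquiv.symm_apply_apply (sec0 F W) _)).trans ?_
      exact (LocCohZ.zqSeq_shortExact h).extClass_comp_assoc _ (h := by omega)
  exact ⟨(QuotientAddGroup.quotientAddEquivOfEq hker.symm).trans (QuotientAddGroup.quotientKerEquivOfSurjective D hD)⟩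

end pair

theorem puncturedOpen_eq (A : Type u) [CommRing A] (fs : List A)
    (fs' : List Γ(Spec (CommRingCat.of A), ⊤))
    (h : fs' = fs.map (Scheme.ΓSpecIso (CommRingCat.of A)).inv) :
    LocCoh.puncturedOpen A (Ideal.span {a | a ∈ fs}) =
      ⨆ i : Fin fs'.length, (Spec (CommRingCat.of A)).basicOpen (fs'.get i) := by
  subst h
  apply TopologicalSpace.Opens.ext
  refine Set.ext fun (x : PrimeSpectrum A) => ?_
  rw [TopologicalSpace.Opens.coe_iSup]
  refine Iff.trans ?_ Set.mem_iUnion.symm
  show x ∈ (PrimeSpectrum.zeroLocus (R := A) (↑(Ideal.span {a | a ∈ fs}) : Set A))ᶜ ↔ _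
  rw [Set.mem_compl_iff, PrimeSpectrum.zeroLocus_span, PrimeSpectrum.mem_zeroLocus, Set.not_subset]
  constructor
  · rintro ⟨a, ha, hax⟩
    obtain ⟨i, hi⟩ := List.mem_iff_get.1 (List.mem_map.2 ⟨a, ha, rfl⟩ :
      (Scheme.ΓSpecIso (CommRingCat.of A)).inv a ∈ fs.map (Scheme.ΓSpecIso (CommRingCat.of A)).inv)
    exact ⟨i, (congrArg (fun V : (Spec (CommRingCat.of A)).Opens => x ∈ (SetLike.coe V : Set ↥(Spec (CommRingCat.of A))))
      ((congrArg (Spec (CommRingCat.of A)).basicOpen hi).trans (basicOpen_eq_of_affine (R := CommRingCat.of A) a))).mpr hax⟩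
  · rintro ⟨i, hi⟩
    obtain ⟨a, ha, e⟩ := List.mem_map.1 (List.get_mem (fs.map (Scheme.ΓSpecIso (CommRingCat.of A)).inv) i)
    exact ⟨a, ha, (congrArg (fun V : (Spec (CommRingCat.of A)).Opens => x ∈ (SetLike.coe V : Set ↥(Spec (CommRingCat.of A))))
      ((congrArg (Spec (CommRingCat.of A)).basicOpen e.symm).trans (basicOpen_eq_of_affine (R := CommRingCat.of A) a))).mp hi⟩

open CategoryTheory in
/-- Let A be a commutative ring, f = (f_1, …, f_r) a finite family of elements of A with zero locus Y in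
X = Spec A, and M an A-module with associated sheaf M~. For every i the group colim_n H^i(f^n, M)
(direct limit of Koszul cohomology of the powers) is isomorphic to H^i_Y(X, M~). (Existence of an
additive isomorphism in each degree; the published statement has an isomorphism of ∂-functors in M.) -/
theorem result (A : Type u) [CommRing A] (fs : List A) (M : Type u)
    [AddCommGroup M] [Module A M] (i : ℕ) :
    Nonempty (CohIII.koszulHLim fs (ModuleCat.of A M) i ≃+
      LocCohZ.HZM (Spec (CommRingCat.of A)) (AlgebraicGeometry.tilde (R := CommRingCat.of A) (ModuleCat.of A M)) i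
        (LocCoh.puncturedOpen A (Ideal.span {a | a ∈ fs}))) := by
  let N : (Spec (CommRingCat.of A)).Modules := AlgebraicGeometry.tilde (R := CommRingCat.of A) (ModuleCat.of A M)
  let σ : A ≃+* Γ(Spec (CommRingCat.of A), ⊤) := (Scheme.ΓSpecIso (CommRingCat.of A)).symm.commRingCatIsoToRingEquiv
  let fs' := fs.map σ
  haveI : IsIso (tilde.toOpen (R := CommRingCat.of A) (ModuleCat.of A M) ⊤) := tilde.isIso_toOpen_top (R := CommRingCat.of A) (M := ModuleCat.of A M)
  let g : M ≃+ Γ(N, ⊤) := AddEquiv.ofBijective (tilde.toOpen (R := CommRingCat.of A) (ModuleCat.of A M) ⊤).hom.toAddMonoidHom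
    (ConcreteCategory.bijective_of_isIso (tilde.toOpen (R := CommRingCat.of A) (ModuleCat.of A M) ⊤))
  have hg : ∀ (a : A) (x : M), g (a • x) = σ a • g x := fun a x => by
    show (tilde.toOpen (R := CommRingCat.of A) (ModuleCat.of A M) ⊤).hom (a • x) = _
    refine (map_smul _ a x).trans ?_
    exact Scheme.Modules.smul_Spec_def (R := CommRingCat.of A) a _
  obtain ⟨T⟩ := Groth.Agent.KoszulTransp8.nonempty_koszulHLim_addEquiv σ (ModuleCat.of A M)
    (ModuleCat.of Γ(Spec (CommRingCat.of A), ⊤) (N.val.obj (op ⊤))) g hg fs i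
  suffices H : Nonempty (CohIII.koszulHLim fs' (ModuleCat.of Γ(Spec (CommRingCat.of A), ⊤) (N.val.obj (op ⊤))) i ≃+
      LocCohZ.HZM (Spec (CommRingCat.of A)) N i (LocCoh.puncturedOpen A (Ideal.span {a | a ∈ fs}))) from
    H.map fun e => T.trans e
  rw [puncturedOpen_eq A fs fs' rfl]
  haveI hN : Coh.IsQCoh N := inferInstanceAs (Coh.IsQCoh (AlgebraicGeometry.tilde (R := CommRingCat.of A) (ModuleCat.of A M)))
  obtain ⟨e0, e1⟩ := Groth.Agent.S2442.result (Spec (CommRingCat.of A)) fs' N
  have hd := Groth.Agent.S6031.result (Spec (CommRingCat.of A)) N hN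
    (⨆ j : Fin fs'.length, (Spec (CommRingCat.of A)).basicOpen (fs'.get j))
  match i with
  | 0 =>
    exact e0.map fun e => e.symm.trans (LocCohZ.sect0Equiv (X := (Spec (CommRingCat.of A)).carrier) (Coh.toAb N) le_top).symm
  | 1 =>
    obtain ⟨c⟩ := nonempty_coker (X := (Spec (CommRingCat.of A)).carrier) (Coh.toAb N)
      (le_top : (⨆ j : Fin fs'.length, (Spec (CommRingCat.of A)).basicOpen (fs'.get j)) ≤ ⊤) hd.1
    exact e1.map fun e => e.symm.trans c
  | q + 2 =>
    obtain ⟨e⟩ := KoszulH13.nonempty_HHon_koszul N fs'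
      (fun j => (isAffineOpen_top (Spec (CommRingCat.of A))).basicOpen (fs'.get j)) (q + 1) (by omega)
    obtain ⟨e₁⟩ := Groth.Agent.CohFound.nonempty_HHon_addEquiv N
      (⨆ j : Fin fs'.length, (Spec (CommRingCat.of A)).basicOpen (fs'.get j)) (q + 1)
    exact ⟨((e.symm.trans e₁).trans (Groth.Agent.CohFound.huExt _ (q + 1) _).symm).trans
      (AddEquiv.ofBijective _ (hd.2 (q + 1) (by omega)))⟩


end Groth.Agent.S6032
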