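import Groth.Statements.S6033
import Groth.Agent.S6032
import Groth.Agent.Lib.LocCohZ.Vanish
import Groth.Agent.Lib.CohFound.Flasque

set_option autoImplicit false
universe u
open CategoryTheory CategoryTheory.Limits TopologicalSpace AlgebraicGeometry
open LocCohZ

namespace Groth.Agent.S6033

open CategoryTheory CategoryTheory.Limits TopologicalSpace AlgebraicGeometry Opposite

/-- If `H^1` with supports in every closed subset vanishes, the sheaf is flasque. -/
theorem isFlasque_of_HZ_one {X : TopCat.{u}} (F : CohTop.Ab X)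
    (h : ∀ U : Opens X, Subsingleton (_root_.LocCohZ.HZ F 1 (le_top : U ≤ ⊤))) :
    TopCat.Sheaf.IsFlasque F := by
  have htop : ∀ U : Opens X, Function.Surjective (F.obj.map (homOfLE (le_top : U ≤ ⊤)).op) := by
    intro U s
    let φ : (_root_.LocCohZ.zqSeq (le_top : U ≤ ⊤)).X₁ ⟶ F := CohFree.ofSect (Opens.grothendieckTopology X) U F s
    have hφ := @Subsingleton.elim _ (h U)
      ((_root_.LocCohZ.zqSeq_shortExact (le_top : U ≤ ⊤)).extClass.comp (Abelian.Ext.mk₀ φ) (add_zero 1)) 0
    obtain ⟨y, hy⟩ := Abelian.Ext.contravariant_sequence_exact₁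
      (_root_.LocCohZ.zqSeq_shortExact (le_top : U ≤ ⊤)) F (Abelian.Ext.mk₀ φ) (by omega) hφ
    obtain ⟨ψ, rfl⟩ := (Abelian.Ext.mk₀_bijective _ _).2 y
    rw [Abelian.Ext.mk₀_comp_mk₀] at hy
    have e : (_root_.LocCohZ.zqSeq (le_top : U ≤ ⊤)).f ≫ ψ = φ := (Abelian.Ext.mk₀_bijective _ _).1 hy
    refine ⟨CohFree.evalGen (Opens.grothendieckTopology X) ⊤ F ψ, ?_⟩
    refine (CohFree.evalGen_freeSheafMap_comp (Opens.grothendieckTopology X) (homOfLE (le_top : U ≤ ⊤)) F ψ).symm.trans ?_
    exact (congrArg (CohFree.evalGen (Opens.grothendieckTopology X) U F) e).trans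
      (CohFree.evalGen_ofSect _ _ _ _)
  refine Groth.Agent.CohFound.isFlasque_mk F fun U V hVU s => ?_
  obtain ⟨t, rfl⟩ := htop V s
  refine ⟨F.obj.map (homOfLE (le_top : U ≤ ⊤)).op t, ?_⟩
  rw [← ConcreteCategory.comp_apply, ← F.obj.map_comp]
  rfl


/-- Let A be a commutative ring such that the underlying space of X = Spec A is Noetherian. Then M~ is
flasque for every injective A-module M if and only if colim_n H^1(f^n, M) = 0 (direct limit of
Koszul cohomology of the powers) for every finite family f of elements of A and every injective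
A-module M; and in that case colim_n H^i(f^n, M) = 0 for all i > 0 as well. -/
theorem result (A : Type u) [CommRing A]
    [NoetherianSpace (PrimeSpectrum A)] :
    ((∀ (M : Type u) [AddCommGroup M] [Module A M], Module.Injective A M →
        TopCat.Sheaf.IsFlasque (Coh.toAb (AlgebraicGeometry.tilde (R := CommRingCat.of A) (ModuleCat.of A M)))) ↔
      ∀ (fs : List A) (M : Type u) [AddCommGroup M] [Module A M], Module.Injective A M →
        Subsingleton (CohIII.koszulHLim fs (ModuleCat.of A M) 1)) ∧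
    ((∀ (M : Type u) [AddCommGroup M] [Module A M], Module.Injective A M →
        TopCat.Sheaf.IsFlasque (Coh.toAb (AlgebraicGeometry.tilde (R := CommRingCat.of A) (ModuleCat.of A M)))) →
      ∀ (fs : List A) (M : Type u) [AddCommGroup M] [Module A M], Module.Injective A M →
        ∀ i : ℕ, 0 < i → Subsingleton (CohIII.koszulHLim fs (ModuleCat.of A M) i)) := by
  have key : ∀ (fs : List A) (M : Type u) [AddCommGroup M] [Module A M] (i : ℕ),
      (TopCat.Sheaf.IsFlasque (Coh.toAb (AlgebraicGeometry.tilde (R := CommRingCat.of A) (ModuleCat.of A M))) → 0 < i →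
        Subsingleton (CohIII.koszulHLim fs (ModuleCat.of A M) i)) ∧
      (Subsingleton (CohIII.koszulHLim fs (ModuleCat.of A M) i) → Subsingleton
        (LocCohZ.HZM (Spec (CommRingCat.of A)) (AlgebraicGeometry.tilde (R := CommRingCat.of A) (ModuleCat.of A M)) i
          (LocCoh.puncturedOpen A (Ideal.span {a | a ∈ fs})))) := by
    intro fs M _ _ i
    obtain ⟨e⟩ := Groth.Agent.S6032.result A fs M i
    refine ⟨fun hF hi => ?_, fun hs => e.symm.injective.subsingleton⟩
    obtain ⟨k, rfl⟩ : ∃ k, i = k + 1 := ⟨i - 1, by omega⟩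
    haveI := hF
    haveI := Groth.Agent.LocCohZ.subsingleton_HZ_of_isFlasque
      (X := (Spec (CommRingCat.of A)).carrier)
      (Coh.toAb (AlgebraicGeometry.tilde (R := CommRingCat.of A) (ModuleCat.of A M)))
      (le_top : LocCoh.puncturedOpen A (Ideal.span {a | a ∈ fs}) ≤ ⊤) k
    exact e.injective.subsingleton
  refine ⟨⟨fun h fs M _ _ hM => (key fs M 1).1 (h M hM) one_pos, fun h M _ _ hM => ?_⟩,
    fun h fs M _ _ hM i hi => (key fs M i).1 (h M hM) hi⟩
  refine isFlasque_of_HZ_one _ fun U => ?_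
  obtain ⟨t, ht⟩ := PrimeSpectrum.isCompact_isOpen_iff.1
    (⟨NoetherianSpace.isCompact (α := PrimeSpectrum A) (SetLike.coe U : Set ↥(Spec (CommRingCat.of A))), U.isOpen⟩ :
      IsCompact (SetLike.coe U : Set ↥(Spec (CommRingCat.of A))) ∧ IsOpen (SetLike.coe U : Set ↥(Spec (CommRingCat.of A))))
  have hU : U = LocCoh.puncturedOpen A (Ideal.span {a | a ∈ t.toList}) := by
    apply TopologicalSpace.Opens.ext
    refine ht.symm.trans ?_
    show (PrimeSpectrum.zeroLocus (t : Set A))ᶜ =
      (PrimeSpectrum.zeroLocus (R := A) (↑(Ideal.span {a | a ∈ t.toList}) : Set A))ᶜ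
    rw [PrimeSpectrum.zeroLocus_span]
    simp only [Finset.mem_toList]
    rfl
  rw [hU]
  exact (key t.toList M 1).2 (h t.toList M hM)


end Groth.Agent.S6033
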