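import Groth.Statements.S6026
import Groth.Agent.Lib.LocCohZ.Restr
import Groth.Agent.Lib.LocCohZ.Vanish
import Groth.Agent.Lib.ExtDerived.Natural

set_option autoImplicit false
universe u
open CategoryTheory CategoryTheory.Limits TopologicalSpace
open LocCohZ

namespace Groth.Agent.S6026

open CategoryTheory CategoryTheory.Limits TopologicalSpace Opposite

variable {X : TopCat.{u}} {W V : Opens X}

theorem map_eq (F : CohTop.Ab X) {A B : (Opens X)ᵒᵖ} (f g : A ⟶ B) (x : F.obj.obj A) :
    F.obj.map f x = F.obj.map g x := by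
  rw [Subsingleton.elim f g]

theorem map_map (F : CohTop.Ab X) {A B C : (Opens X)ᵒᵖ} (f : A ⟶ B) (g : B ⟶ C) (h : A ⟶ C) (x : F.obj.obj A) :
    F.obj.map g (F.obj.map f x) = F.obj.map h x := by
  rw [← ConcreteCategory.comp_apply, ← F.obj.map_comp, Subsingleton.elim (f ≫ g) h]

theorem map_self (F : CohTop.Ab X) {A : (Opens X)ᵒᵖ} (f : A ⟶ A) (x : F.obj.obj A) :
    F.obj.map f x = x := by
  rw [Subsingleton.elim f (𝟙 A), F.obj.map_id]
  rfl

variable (V) in
abbrev img (Z : Opens (TopCat.of V)) : Opens X := V.isOpenEmbedding.isOpenMap.functor.obj Z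

theorem img_top : img V (⊤ : Opens (TopCat.of V)) = V := by
  ext x
  exact ⟨fun ⟨y, _, hy⟩ => hy ▸ y.2, fun hx => ⟨⟨x, hx⟩, trivial, rfl⟩⟩

theorem img_map (h : W ≤ V) : img V ((Opens.map (CohCx.incl V)).obj W) = W := by
  ext x
  exact ⟨fun ⟨y, hy, hyx⟩ => hyx ▸ hy, fun hx => ⟨⟨x, h hx⟩, hx, rfl⟩⟩

theorem natural_sect {F G : CohTop.Ab X} (φ : F ⟶ G) {A B : (Opens X)ᵒᵖ} (f : A ⟶ B) (x : F.obj.obj A) :
    G.obj.map f (φ.hom.app A x) = φ.hom.app B (F.obj.map f x) :=
  (ConcreteCategory.congr_hom (φ.hom.naturality f) x).symm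

/-- Sections with supports and restriction to an open. -/
noncomputable def sectEquiv (h : W ≤ V) (F : CohTop.Ab X) :
    _root_.LocCohZ.sectZ F h ≃+
      _root_.LocCohZ.sectZ (CohTop.restr F V) (le_top : (Opens.map (CohCx.incl V)).obj W ≤ ⊤) where
  toFun s := ⟨F.obj.map (eqToHom (img_top (V := V))).op s.1, by
    show F.obj.map _ (F.obj.map _ s.1) = 0
    refine (map_map F _ _ ((homOfLE h).op ≫ (eqToHom (img_map h)).op) s.1).trans ?_
    rw [F.obj.map_comp, ConcreteCategory.comp_apply, (show F.obj.map (homOfLE h).op s.1 = 0 from s.2)]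
    exact map_zero _⟩
  invFun t := ⟨F.obj.map (eqToHom (img_top (V := V)).symm).op t.1, by
    show F.obj.map _ (F.obj.map _ t.1) = 0
    refine (map_map F _ _ ((V.isOpenEmbedding.isOpenMap.functor.map
      (homOfLE (le_top : (Opens.map (CohCx.incl V)).obj W ≤ ⊤))).op ≫ (eqToHom (img_map h).symm).op) t.1).trans ?_
    refine (map_map F (V.isOpenEmbedding.isOpenMap.functor.map
      (homOfLE (le_top : (Opens.map (CohCx.incl V)).obj W ≤ ⊤))).op (eqToHom (img_map h).symm).op _ t.1).symm.trans ?_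
    exact (congrArg (F.obj.map (eqToHom (img_map h).symm).op) (t.2 :
      F.obj.map (V.isOpenEmbedding.isOpenMap.functor.map
        (homOfLE (le_top : (Opens.map (CohCx.incl V)).obj W ≤ ⊤))).op t.1 = 0)).trans (map_zero _)⟩
  left_inv s := Subtype.ext ((map_map F _ _ (𝟙 _) s.1).trans (map_self F _ _))
  right_inv t := Subtype.ext ((map_map F _ _ (𝟙 _) t.1).trans (map_self F _ _))
  map_add' s t := Subtype.ext (map_add _ _ _)

theorem zqHomEquiv_naturality {Y : TopCat.{u}} {A B : Opens Y} (hAB : A ≤ B) {F G : CohTop.Ab Y} (φ : F ⟶ G)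
    (x : _root_.LocCohZ.zq hAB ⟶ F) :
    (Groth.Agent.LocCohZ.zqHomEquiv G hAB (x ≫ φ)).1 =
      φ.hom.app (op B) (Groth.Agent.LocCohZ.zqHomEquiv F hAB x).1 := by
  refine (Groth.Agent.LocCohZ.zqHomEquiv_val _ _ _).trans ?_
  refine Eq.trans ?_ (congrArg (φ.hom.app (op B)) (Groth.Agent.LocCohZ.zqHomEquiv_val _ _ _)).symm
  rw [← Category.assoc]
  rfl

set_option maxHeartbeats 1000000 in
/-- `Hom(ℤ_V/ℤ_W, -)` factors through restriction to `V`. -/
noncomputable def coyonedaIso (h : W ≤ V) :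
    preadditiveCoyoneda.obj (op (_root_.LocCohZ.zq h)) ≅
      CohTop.restrFunctor V ⋙ preadditiveCoyoneda.obj
        (op (_root_.LocCohZ.zq (le_top : (Opens.map (CohCx.incl V)).obj W ≤ ⊤))) :=
  NatIso.ofComponents
    (fun F => AddEquiv.toAddCommGrpIso ((Groth.Agent.LocCohZ.zqHomEquiv F h).trans ((sectEquiv h F).trans
      (Groth.Agent.LocCohZ.zqHomEquiv (CohTop.restr F V) le_top).symm)))
    (fun {F G} φ => by
      ext x
      apply (Groth.Agent.LocCohZ.zqHomEquiv (CohTop.restr G V) le_top).injective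
      refine Eq.trans (AddEquiv.apply_symm_apply _ _) ?_
      apply Subtype.ext
      refine Eq.trans (congrArg (G.obj.map _) (zqHomEquiv_naturality h φ x)) ?_
      refine Eq.trans (natural_sect φ _ _) ?_
      refine Eq.trans ?_ (zqHomEquiv_naturality (le_top : (Opens.map (CohCx.incl V)).obj W ≤ ⊤)
        ((CohTop.restrFunctor V).map φ) _).symm
      exact (congrArg (fun z : _root_.LocCohZ.sectZ (CohTop.restr F V)
          (le_top : (Opens.map (CohCx.incl V)).obj W ≤ ⊤) => ((CohTop.restrFunctor V).map φ).hom.app (op ⊤) z.1)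
        (AddEquiv.apply_symm_apply (Groth.Agent.LocCohZ.zqHomEquiv (CohTop.restr F V) le_top)
          (sectEquiv h F (Groth.Agent.LocCohZ.zqHomEquiv F h x)))).symm)


noncomputable def extIso (h : W ≤ V) (i : ℕ) : Abelian.extFunctorObj.{u} (_root_.LocCohZ.zq h) i ≅
      CohTop.restrFunctor V ⋙ Abelian.extFunctorObj.{u}
        (_root_.LocCohZ.zq (le_top : (Opens.map (CohCx.incl V)).obj W ≤ ⊤)) i := by
  refine (Groth.Agent.ExtDerived.rightDerivedCoyonedaNatIso _ i).symm ≪≫ ?_
  refine Groth.Agent.ExtDerived.rightDerivedMapIso i (coyonedaIso h) ≪≫ ?_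
  refine Groth.Agent.RDComp.rightDerivedCompIso (CohTop.restrFunctor V) _ i ≪≫ ?_
  exact Functor.isoWhiskerLeft (CohTop.restrFunctor V) (Groth.Agent.ExtDerived.rightDerivedCoyonedaNatIso _ i)

theorem nat_of_iso {C : Type*} [Category C] [Abelian C] [HasExt.{u} C] {D : Type*} [Category D] [Abelian D] [HasExt.{u} D]
    (R : C ⥤ D) (P : C) (Q : D) (i : ℕ)
    (N : Abelian.extFunctorObj.{u} P i ≅ R ⋙ Abelian.extFunctorObj.{u} Q i) :
    ∃ e : ∀ F : C, Abelian.Ext.{u} P F i ≃+ Abelian.Ext.{u} Q (R.obj F) i,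
      ∀ (F G : C) (φ : F ⟶ G) (x : Abelian.Ext.{u} P F i),
        e G ((Abelian.Ext.mk₀ φ).postcomp P (add_zero i) x) =
          (Abelian.Ext.mk₀ (R.map φ)).postcomp Q (add_zero i) (e F x) := by
  refine ⟨fun F => ⟨⟨fun x => (N.hom.app F).hom x, fun x => (N.inv.app F).hom x, ?_, ?_⟩, ?_⟩, ?_⟩
  · intro x
    exact ConcreteCategory.congr_hom (N.hom_inv_id_app F) x
  · intro x
    exact ConcreteCategory.congr_hom (N.inv_hom_id_app F) x
  · intro a b
    exact map_add _ a b
  · intro G G' φ x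
    have n := N.hom.naturality φ
    have n2 := congrArg (fun f => f.hom x) n
    exact n2

attribute [local irreducible] extIso

/-- Let X be a topological space, W ⊆ V opens of X and Z = V − W. For every i there is an isomorphism
H^i_Z(X, F) ≅ H^i_Z(V, F|_V), natural in the abelian sheaf F on X, between cohomology with supports
in Z computed on X and computed on the open subspace V. (Existence of a natural family of
isomorphisms; the published statement has the canonical maps of cohomological functors.) -/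
theorem result {X : TopCat.{u}} {W V : Opens X} (h : W ≤ V) (i : ℕ) :
    ∃ e : ∀ F : CohTop.Ab X,
        LocCohZ.HZ F i h ≃+ LocCohZ.HZc (CohTop.restr F V) i ((Opens.map (CohCx.incl V)).obj W),
      ∀ (F G : CohTop.Ab X) (φ : F ⟶ G) (x : LocCohZ.HZ F i h),
        e G (LocCohZ.map φ i h x) =
          LocCohZ.map ((CohTop.restrFunctor V).map φ) i
            (le_top : (Opens.map (CohCx.incl V)).obj W ≤ ⊤) (e F x) := by
  exact nat_of_iso (CohTop.restrFunctor V) (_root_.LocCohZ.zq h)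
    (_root_.LocCohZ.zq (le_top : (Opens.map (CohCx.incl V)).obj W ≤ ⊤)) i (extIso h i)


end Groth.Agent.S6026
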