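import Groth.Statements.S6027
import Groth.Agent.Lib.LocCohZ.Sections
import Groth.Agent.Lib.ExtDerived.Natural

set_option autoImplicit false
universe u
open CategoryTheory CategoryTheory.Limits TopologicalSpace
open LocCohZ

namespace Groth.Agent.S6027

open Opposite Groth.Agent in
/-- Global sections are maps out of `ℤ_X`. -/
noncomputable def gammaZFIso {X : TopCat.{u}} (U : Opens X) :
    _root_.LocCohZ.gammaZF U ≅ preadditiveCoyoneda.obj (op (_root_.LocCohZ.zq (le_top : U ≤ ⊤))) :=
  (NatIso.ofComponents
    (fun F => (CohFree.homEquivSect (Opens.grothendieckTopology X) (⊤ : Opens X)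
      ((_root_.LocCohZ.sectSuppF U).obj F)).symm.toAddCommGrpIso)
    (fun {F G} f => by
      ext s
      apply (CohFree.homEquivSect (Opens.grothendieckTopology X) (⊤ : Opens X) _).injective
      refine (AddEquiv.apply_symm_apply _ _).trans ?_
      exact (congrArg (((_root_.LocCohZ.sectSuppF U).map f).hom.app (op ⊤)).hom
        (CohFree.evalGen_ofSect (Opens.grothendieckTopology X) ⊤ _ s)).symm)) ≪≫
    LocCohZ.sectSuppCompIso U


/-- The case of a closed subset. Let X be a topological space and Z a closed subset with open complement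
U. For every q the q-th right derived functor of F ↦ Γ_Z(X, F) is isomorphic to the functor F ↦
Ext^q(ℤ_{Z,X}, F), where ℤ_{Z,X} = ℤ_X/ℤ_U. (Existence of an isomorphism of functors for each q;
compatibility with connecting maps is not asserted.) -/
theorem result {X : TopCat.{u}} (U : Opens X) (q : ℕ) :
    Nonempty (LocCohZ.RHZ U q ≅ ToposFin.HZFunctor (LocCohZ.openSh U) q) := by
  haveI : EnoughInjectives (CohTop.Ab X) := inferInstance
  haveI : (_root_.LocCohZ.gammaZF U).Additive := inferInstance
  exact ⟨ExtDerived.rightDerivedMapIso q (gammaZFIso U) ≪≫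
    ExtDerived.rightDerivedCoyonedaNatIso _ q ≪≫
    (Abelian.extFunctor.{u} q).mapIso (_root_.LocCohZ.zqIsoQuotZ U).symm.op⟩


end Groth.Agent.S6027
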