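import Groth.Statements.S6028
import Mathlib.CategoryTheory.Abelian.Refinements

set_option autoImplicit false
universe u
open CategoryTheory CategoryTheory.Limits TopologicalSpace
open LocCohZ

namespace Groth.Agent.S6028

open CategoryTheory CategoryTheory.Limits in
theorem aux {A : Type*} [Category A] [Abelian A] {P Q R : A} (a : P ⟶ Q) (b : Q ⟶ R) (c : P ⟶ R) [Mono b]
    (f : cokernel a ⟶ cokernel c) (g : cokernel c ⟶ cokernel b) (hc : a ≫ b = c)
    (hf : cokernel.π a ≫ f = b ≫ cokernel.π c) (hg : cokernel.π c ≫ g = cokernel.π b) :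
    ∃ w : f ≫ g = 0, (ShortComplex.mk f g w).ShortExact := by
  have w : f ≫ g = 0 := by
    rw [← cancel_epi (cokernel.π a), ← Category.assoc, hf, Category.assoc, hg, cokernel.condition, comp_zero]
  haveI : Epi g := epi_of_epi_fac hg
  haveI : Mono f := by
    refine Preadditive.mono_of_cancel_zero _ fun {W} x hx => ?_
    obtain ⟨W', p, hp, y, hy⟩ := surjective_up_to_refinements_of_epi (cokernel.π a) x
    have h0 : (y ≫ b) ≫ cokernel.π c = 0 := by
      rw [Category.assoc, ← hf, ← Category.assoc, ← hy, Category.assoc, hx, comp_zero]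
    obtain ⟨W'', p', hp', z, hz⟩ := (ShortComplex.exact_cokernel c).exact_up_to_refinements (y ≫ b) h0
    have hya : p' ≫ y = z ≫ a := by
      rw [← cancel_mono b, Category.assoc, Category.assoc, hc]
      exact hz
    rw [← cancel_epi (p' ≫ p), comp_zero, Category.assoc, hy, ← Category.assoc, hya, Category.assoc,
      cokernel.condition, comp_zero]
  refine ⟨w, ⟨ShortComplex.exact_of_g_is_cokernel _ (CokernelCofork.IsColimit.ofπ' _ _ fun {T} t ht => ?_)⟩⟩
  have hb : b ≫ cokernel.π c ≫ t = 0 := by rw [← Category.assoc, ← hf, Category.assoc, ht, comp_zero]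
  refine ⟨cokernel.desc b (cokernel.π c ≫ t) hb, ?_⟩
  rw [← cancel_epi (cokernel.π c), ← Category.assoc, hg, cokernel.π_desc]


/-- Let X be a topological space and W ⊆ V ⊆ T opens of X; put Z = T − W, Z' = T − V and Z'' = V − W, so
that Z' is closed in Z with complement Z''. Then 0 → ℤ_{Z'',X} → ℤ_{Z,X} → ℤ_{Z',X} → 0 is a short
exact sequence of abelian sheaves on X, where ℤ_{Z,X} = ℤ_T/ℤ_W and the maps are the induced ones. -/
theorem result {X : TopCat.{u}} {W V T : Opens X} (hWV : W ≤ V) (hVT : V ≤ T) :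
    ∃ w : LocCohZ.zqMap (hWV.trans hVT) hWV le_rfl hVT ≫ LocCohZ.zqMap hVT (hWV.trans hVT) hWV le_rfl = 0,
      (ShortComplex.mk _ _ w).ShortExact := by
  haveI := (LocCohZ.zqSeq_shortExact (X := X) hVT).mono_f
  refine aux (CohCx.freeSheafMap (Opens.grothendieckTopology X) (homOfLE hWV))
    (CohCx.freeSheafMap (Opens.grothendieckTopology X) (homOfLE hVT))
    (CohCx.freeSheafMap (Opens.grothendieckTopology X) (homOfLE (hWV.trans hVT))) _ _ ?_ ?_ ?_
  · exact (CohFree.freeSheafMap_comp ..).symm
  · exact cokernel.π_desc _ _ _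
  · refine (cokernel.π_desc _ _ _).trans ?_
    simp [CohFree.freeSheafMap_id]


end Groth.Agent.S6028
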