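import Groth.Statements.S6036
import Mathlib
import Groth.Agent.Lib.CohFound16.ClosedEmb
import Groth.Agent.Lib.LocCohZ.Support

set_option autoImplicit false
universe u
open CategoryTheory CategoryTheory.Limits TopologicalSpace
open LocCohZ

namespace Groth.Agent.S6036

open Groth.Agent.LocCohZ Limits
set_option backward.isDefEq.respectTransparency false

noncomputable section
variable {X : TopCat.{u}} (U : Opens X)

theorem range_inclCompl : Set.range (CohCx.inclCompl U) = (U : Set X)ᶜ := Subtype.range_coe

theorem closedEmb : Topology.IsClosedEmbedding (CohCx.inclCompl U) :=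
  U.isOpen.isClosed_compl.isClosedEmbedding_subtypeVal

theorem η_eq_zero (K : CohTop.Ab X) (hK : ∀ x ∈ U, IsZero (CohTop.stalk K x)) : η U K = 0 := by
  apply ObjectProperty.hom_ext
  ext V s
  refine (η_app_eq_zero_iff U K (Opposite.unop V) s).2 ?_
  refine TopCat.Presheaf.section_ext K _ _ _ fun x hx => ?_
  exact (AddCommGrpCat.subsingleton_of_isZero (hK x hx.2)).elim _ _

theorem isZero_stalk_sectSupp (F : CohTop.Ab X) (x : X) (hx : x ∈ U) :
    IsZero (CohTop.stalk (CohCx.sectSupp U F) x) := by
  refine (AddCommGrpCat.isZero_iff_subsingleton ..).2 (subsingleton_of_forall_eq 0 fun z => ?_)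
  obtain ⟨V, hxV, t, rfl⟩ := TopCat.Presheaf.germ_exist (F := (CohCx.sectSupp U F).obj) z
  have hι : ((η U F).hom.app (Opposite.op V)).hom ((((kernel.ι (η U F)).hom).app (Opposite.op V)).hom t) = 0 :=
    ConcreteCategory.congr_hom (NatTrans.congr_app (congrArg InducedCategory.Hom.hom (kernel.condition (η U F)))
      (Opposite.op V)) t
  rw [η_app_eq_zero_iff] at hι
  have hn := ConcreteCategory.congr_hom ((kernel.ι (η U F)).hom.naturality (homOfLE (inf_le_left : V ⊓ U ≤ V)).op) t
  simp only [ConcreteCategory.comp_apply] at hn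
  have hinj : Function.Injective ((kernel.ι (η U F)).hom.app (Opposite.op (V ⊓ U))) := by
    haveI : Mono ((sheafToPresheaf _ _).map (kernel.ι (η U F))) := inferInstance
    haveI : Mono ((kernel.ι (η U F)).hom.app (Opposite.op (V ⊓ U))) :=
      (NatTrans.mono_iff_mono_app ((sheafToPresheaf _ _).map (kernel.ι (η U F)))).1 inferInstance _
    exact (AddCommGrpCat.mono_iff_injective _).1 this
  have h0 : (CohCx.sectSupp U F).obj.map (homOfLE (inf_le_left : V ⊓ U ≤ V)).op t = 0 :=
    hinj ((hn.trans hι).trans (map_zero _).symm)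
  rw [← TopCat.Presheaf.germ_res_apply (CohCx.sectSupp U F).obj (homOfLE (inf_le_left : V ⊓ U ≤ V)) x ⟨hxV, hx⟩]
  exact (congrArg _ h0).trans (map_zero _)

theorem isIso_unit_sectSupp (F : CohTop.Ab X) :
    IsIso ((TopCat.Sheaf.pullbackPushforwardAdjunction AddCommGrpCat.{u} (CohCx.inclCompl U)).unit.app
      ((LocCohZ.sectSuppF U).obj F)) :=
  Groth.Agent.CohFound16.isIso_unit _ (closedEmb U) _ fun x hx =>
    isZero_stalk_sectSupp U F x (by rw [range_inclCompl] at hx; exact not_not.1 hx)

theorem push_η_zero (G : CohTop.Ab (TopCat.of ((U : Set X)ᶜ : Set X))) :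
    η U ((CohTop.push (CohCx.inclCompl U)).obj G) = 0 :=
  η_eq_zero U _ fun x hx => Groth.Agent.CohFound16.isZero_stalk_push _ (closedEmb U).isClosed_range G x
    (by rw [range_inclCompl]; exact not_not.2 hx)

theorem hcond {G : CohTop.Ab (TopCat.of ((U : Set X)ᶜ : Set X))} {F : CohTop.Ab X}
    (φ : (CohTop.push (CohCx.inclCompl U)).obj G ⟶ F) : φ ≫ η U F = 0 :=
  ((TopCat.Sheaf.pullbackPushforwardAdjunction AddCommGrpCat.{u} (CohCx.incl U)).unit.naturality φ).trans
    ((congrArg (· ≫ _) (push_η_zero U G)).trans zero_comp)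

theorem sectSuppF_map_ι {F F' : CohTop.Ab X} (g : F ⟶ F') :
    (LocCohZ.sectSuppF U).map g ≫ kernel.ι (η U F') = kernel.ι (η U F) ≫ g := kernel.lift_ι _ _ _

end


/-- For a closed subset. Let X be a topological space and Z a closed subset with open complement U and
inclusion i : Z → X. Then i_* : (abelian sheaves on Z) → (abelian sheaves on X) is left adjoint to F
↦ i⁻¹ Γ_Z(F), the sheaf on Z of sections of F supported in Z: Hom(i_* G, F) ≅ Hom(G, i⁻¹ Γ_Z(F))
naturally in G and F. (Existence of an adjunction; for Z closed the extension by zero i_! is i_*.) -/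
theorem result {X : TopCat.{u}} (U : Opens X) :
    Nonempty (CohTop.push (CohCx.inclCompl U) ⊣ LocCohZ.sectSuppF U ⋙ CohTop.pull (CohCx.inclCompl U)) := by
  let i := CohCx.inclCompl U
  let adj := TopCat.Sheaf.pullbackPushforwardAdjunction AddCommGrpCat.{u} i
  haveI := Groth.Agent.CohFound16.isIso_counit i (closedEmb U).isInducing
  let hff : (CohTop.push i).FullyFaithful := adj.fullyFaithfulROfIsIsoCounit
  haveI : ∀ F, IsIso (adj.unit.app ((LocCohZ.sectSuppF U).obj F)) := isIso_unit_sectSupp U
  refine ⟨Adjunction.mkOfHomEquiv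
    { homEquiv := fun G F =>
        { toFun := fun φ => hff.preimage (kernel.lift (η U F) φ
            (hcond U φ) ≫ adj.unit.app ((LocCohZ.sectSuppF U).obj F))
          invFun := fun g => (CohTop.push i).map g ≫ inv (adj.unit.app ((LocCohZ.sectSuppF U).obj F)) ≫
            kernel.ι (η U F)
          left_inv := fun φ => by
            simp only [Functor.FullyFaithful.map_preimage, Category.assoc, IsIso.hom_inv_id_assoc]
            exact kernel.lift_ι _ _ _
          right_inv := fun g => by
            apply hff.map_injective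
            rw [Functor.FullyFaithful.map_preimage, ← IsIso.eq_comp_inv]
            apply (cancel_mono (kernel.ι (η U F))).1
            rw [kernel.lift_ι, Category.assoc] }
      homEquiv_naturality_left_symm := fun f g => by
        dsimp
        rw [Functor.map_comp, Category.assoc]
      homEquiv_naturality_right := fun {G F F'} φ g => by
        apply hff.map_injective
        refine (hff.map_preimage _).trans ?_
        refine Eq.trans ?_ ((CohTop.push i).map_comp _ _).symm
        refine Eq.trans ?_ (congrArg (· ≫ _) (hff.map_preimage _)).symm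
        refine Eq.trans ?_ (Category.assoc _ _ _).symm
        refine Eq.trans ?_ (congrArg (kernel.lift (η U F) φ (hcond U φ) ≫ ·) (adj.unit.naturality ((LocCohZ.sectSuppF U).map g)))
        refine Eq.trans ?_ (Category.assoc _ _ _)
        refine congrArg (· ≫ adj.unit.app _) ?_
        apply (cancel_mono (kernel.ι (η U F'))).1
        refine (kernel.lift_ι _ _ _).trans (Eq.trans ?_ (Category.assoc _ _ _).symm)
        refine Eq.trans ?_ (congrArg (kernel.lift (η U F) φ (hcond U φ) ≫ ·) (sectSuppF_map_ι U g)).symm
        refine Eq.trans ?_ (Category.assoc _ _ _)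
        exact (congrArg (· ≫ g) (kernel.lift_ι _ _ _)).symm }⟩


end Groth.Agent.S6036
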