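import Groth.Statements.S6037
import Groth.Agent.Lib.LocCohZ.Vanish
import Groth.Agent.Lib.SpObj.Grothendieck
import Groth.Agent.Lib.CohFound.Push

set_option autoImplicit false
universe u
open CategoryTheory CategoryTheory.Limits TopologicalSpace
open LocCohZ

namespace Groth.Agent.S6037

open Groth.Agent Opposite


/-- Let f : X → Y be a continuous map of topological spaces, Y' a closed subset of Y with open
complement V, X' = f⁻¹(Y') and F an abelian sheaf on X. There is an E₂ spectral sequence of abelian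
groups with E₂^{p,q} ≅ H^p_{Y'}(Y, R^q f_* F) for p, q ≥ 0 (0 otherwise), bounded, abutting with
finite filtrations to H^n_{X'}(X, F). (The published statement is for a morphism of ringed spaces
and records module structures over the global sections of O_Y; here only abelian groups. Existence
only: the E₂ identifications and abutment isomorphisms are some isomorphisms, not the canonical
ones.) -/
theorem result {X Y : TopCat.{u}} (f : X ⟶ Y)
    (V : Opens Y) (F : CohTop.Ab X) :
    ∃ (E : E₂CohomologicalSpectralSequence AddCommGrpCat.{u})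
      (a : SpSeq.Abutment E (fun n : ℤ =>
        if 0 ≤ n then AddCommGrpCat.of (LocCohZ.HZc F n.toNat ((Opens.map f).obj V))
          else AddCommGrpCat.of PUnit.{u + 1})),
      (∀ n : ℤ, a.IsFinite n) ∧ SpSeq.IsBounded E ∧
      ∀ p q : ℤ, Nonempty ((E.page 2 le_rfl).X (p, q) ≅
        (if 0 ≤ p ∧ 0 ≤ q then AddCommGrpCat.of (LocCohZ.HZc ((CohTop.Rpush f q.toNat).obj F) p.toNat V)
          else AddCommGrpCat.of PUnit.{u + 1})) := by
  letI := HasDerivedCategory.standard (CohTop.Ab Y)
  letI := HasDerivedCategory.standard AddCommGrpCat.{u}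
  let T := CohTop.push f
  let S := preadditiveCoyoneda.obj (op (_root_.LocCohZ.zq (le_top : V ≤ ⊤)))
  obtain ⟨E, a, ha, hb, hE, hz⟩ := SpObj.grothendieck_spectralSequence' T S
    (fun Q hQ q hq =>
      have : TopCat.Sheaf.IsFlasque Q := CohFound.isFlasque_of_injective Q
      have : TopCat.Sheaf.IsFlasque (T.obj Q) := TopCat.Sheaf.IsFlasque.pushforward_isFlasque Q f
      LocCohZ.isZero_rightDerived_zq (T.obj Q) (le_top : V ≤ ⊤) q hq) F
    (fun n : ℤ => if 0 ≤ n then AddCommGrpCat.of (_root_.LocCohZ.HZc F n.toNat ((Opens.map f).obj V))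
      else AddCommGrpCat.of PUnit.{u + 1})
    (fun n => ⟨(ExtDerived.nonempty_rightDerived_iso_of_iso n (LocCohZ.pushCompIso f V) F).some ≪≫
      ExtDerived.rightDerivedCoyonedaIso _ n F ≪≫ eqToIso (by simp)⟩)
    (fun n hn => by simp only [if_neg (not_le.2 hn)]; exact AddCommGrpCat.isZero_of_subsingleton _)
  refine ⟨E, a, ha, hb, fun p q => ?_⟩
  by_cases hpq : 0 ≤ p ∧ 0 ≤ q
  · obtain ⟨m, rfl⟩ := Int.eq_ofNat_of_zero_le hpq.1
    obtain ⟨k, rfl⟩ := Int.eq_ofNat_of_zero_le hpq.2
    exact ⟨(hE m k).some ≪≫ ExtDerived.rightDerivedCoyonedaIso _ m _ ≪≫ eqToIso (by simp [hpq]; rfl)⟩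
  · exact ⟨(hz p q hpq).iso (by rw [if_neg hpq]; exact AddCommGrpCat.isZero_of_subsingleton _)⟩


end Groth.Agent.S6037
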