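import Groth.Statements.S6038
import Groth.Agent.Lib.LocCohZ.DimVanish

set_option autoImplicit false
universe u
open CategoryTheory CategoryTheory.Limits TopologicalSpace AlgebraicGeometry
open LocCohZ

namespace Groth.Agent.S6038


/-- In the case F = O_X (where Ext^i_Y(O_X, G) is the local cohomology sheaf ℋ^i_Y(G)). Let X be a
locally Noetherian scheme whose local rings are all regular, Y a closed subset with open complement
U, G a coherent O_X-module with underlying abelian sheaf F, and i a natural number with dim O_{X,x}
< i for every x ∈ Y. Then ℋ^i_Y(F) = 0. -/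
theorem result (X : Scheme.{u}) [IsLocallyNoetherian X]
    (hreg : ∀ x : X, IsRegularLocalRing (X.presheaf.stalk x)) (U : X.Opens) (G : X.Modules) (hG : Coh.IsCoh G)
    (i : ℕ) (hi : ∀ x : X, x ∉ (U : Set X) → ringKrullDim (X.presheaf.stalk x) < (i : WithBot ℕ∞)) :
    IsZero ((LocCohZ.HZsh (X := X.carrier) U i).obj (Coh.toAb G)) := by
  exact Groth.Agent.LocCohZQ.isZero_of_dim_lt U G hG i hi


end Groth.Agent.S6038
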