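import Groth.Statements.S6041
import Groth.Agent.Lib.GrpQuot.FppfQuot

set_option autoImplicit false
open CategoryTheory CategoryTheory.Limits AlgebraicGeometry MonoidalCategory
universe u
open GrpQ

namespace Groth.Agent.S6041

set_option backward.isDefEq.respectTransparency.types false

open Groth.Agent.GrpQuot in
theorem existsUnique_of_cover {S : Scheme.{u}} {R U Z T : Over S} (s t : R ⟶ U) (q : Z ⟶ T) (g : Z ⟶ U)
    [Flat q.left] [Surjective q.left] [LocallyOfFinitePresentation q.left]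
    (h : ∀ (T' : Over S) (z₁ z₂ : T' ⟶ Z), z₁ ≫ q = z₂ ≫ q → ∃ r : T' ⟶ R, r ≫ s = z₁ ≫ g ∧ r ≫ t = z₂ ≫ g) :
    ∃! σ : QuotSh.rep Scheme.fppfPrecoverage T ⟶ QuotSh.quot Scheme.fppfPrecoverage s t,
      QuotSh.repMap Scheme.fppfPrecoverage g ≫ QuotSh.quotπ Scheme.fppfPrecoverage s t =
        QuotSh.repMap Scheme.fppfPrecoverage q ≫ σ := by
  obtain ⟨w, hiso⟩ := isQuotient_of_isKernelPair (q := q) (IsPullback.of_hasPullback q q)
  haveI := hiso
  obtain ⟨r, hr₁, hr₂⟩ := h _ (pullback.fst q q) (pullback.snd q q) pullback.condition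
  have repComp : ∀ {A B C : Over S} (a : A ⟶ B) (b : B ⟶ C),
      QuotSh.repMap Scheme.fppfPrecoverage a ≫ QuotSh.repMap Scheme.fppfPrecoverage b =
        QuotSh.repMap Scheme.fppfPrecoverage (a ≫ b) := fun a b => by
    simp only [QuotSh.repMap, ← Functor.map_comp, ← Functor.whiskerRight_comp, ← yoneda.map_comp]
  let d : QuotSh.quot Scheme.fppfPrecoverage (pullback.fst q q) (pullback.snd q q) ⟶
      QuotSh.quot Scheme.fppfPrecoverage s t :=
    coequalizer.desc (QuotSh.repMap Scheme.fppfPrecoverage g ≫ QuotSh.quotπ Scheme.fppfPrecoverage s t) (by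
      rw [← Category.assoc, ← Category.assoc, repComp, repComp, ← hr₁, ← hr₂, ← repComp, ← repComp,
        Category.assoc, Category.assoc, QuotSh.quot_condition])
  have hπ : QuotSh.quotπ Scheme.fppfPrecoverage (pullback.fst q q) (pullback.snd q q) ≫
      QuotSh.quotDesc Scheme.fppfPrecoverage q w = QuotSh.repMap Scheme.fppfPrecoverage q := coequalizer.π_desc _ _
  refine ⟨inv (QuotSh.quotDesc Scheme.fppfPrecoverage q w) ≫ d, ?_, fun σ hσ => ?_⟩
  · show _ = QuotSh.repMap Scheme.fppfPrecoverage q ≫ _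
    rw [← hπ, Category.assoc, IsIso.hom_inv_id_assoc]
    exact (coequalizer.π_desc _ _).symm
  · rw [← cancel_epi (QuotSh.quotDesc Scheme.fppfPrecoverage q w), IsIso.hom_inv_id_assoc]
    refine coequalizer.hom_ext ?_
    exact ((Category.assoc _ _ _).symm.trans (congrArg (· ≫ σ) hπ)).trans (hσ.symm.trans (coequalizer.π_desc _ _).symm)


open CartesianMonoidalCategory in
/-- For schemes and the fppf topology, easy direction: let `s, t : R ⇉ U` be a pair of morphisms of
schemes over `S` (in the source an equivalence relation), `T` a scheme over `S` and `i : Z ⟶ U ×_S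
T` such that `Z ⟶ T` is flat, surjective and locally of finite presentation and any two points of
`Z` over the same point of `T` have `R`-related images in `U`. Then the composite `h_Z ⟶ h_U ⟶ U/R`
descends to exactly one section of the fppf quotient sheaf `U/R` over `T`. -/
theorem result {S : Scheme.{u}} {R U : Over S} (s t : R ⟶ U)
    (T Z : Over S) (i : Z ⟶ U ⊗ T)
    [Flat (i ≫ snd U T).left] [Surjective (i ≫ snd U T).left] [LocallyOfFinitePresentation (i ≫ snd U T).left]
    (hZZ : ∀ (T' : Over S) (z₁ z₂ : T' ⟶ Z), z₁ ≫ i ≫ snd U T = z₂ ≫ i ≫ snd U T →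
      ∃ r : T' ⟶ R, r ≫ s = z₁ ≫ i ≫ fst U T ∧ r ≫ t = z₂ ≫ i ≫ fst U T) :
    ∃! σ : QuotSh.rep Scheme.fppfPrecoverage T ⟶ QuotSh.quot Scheme.fppfPrecoverage s t,
      QuotSh.repMap Scheme.fppfPrecoverage (i ≫ fst U T) ≫ QuotSh.quotπ Scheme.fppfPrecoverage s t =
        QuotSh.repMap Scheme.fppfPrecoverage (i ≫ snd U T) ≫ σ := by
  exact existsUnique_of_cover s t _ _ hZZ

end Groth.Agent.S6041
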