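import Groth.Statements.S6043
import Groth.Agent.Lib.GrpQuot.QuotCompare

set_option autoImplicit false
open CategoryTheory CategoryTheory.Limits AlgebraicGeometry MonoidalCategory
universe u
open GrpQ

namespace Groth.Agent.S6043

set_option backward.isDefEq.respectTransparency.types false

open CartesianMonoidalCategory in
/-- The comparison of topologies, for an equivalence relation of schemes over a base scheme `S` with
closed graph: let `s, t : R ⇉ U` be an equivalence relation of schemes over `S` with `s` flat,
surjective and locally of finite presentation and `(t, s) : R ⟶ U ×_S U` a closed immersion. Then
the fppf quotient sheaf `U/R` on schemes over `S` satisfies the sheaf condition for the fpqc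
topology. (The published statement takes `R ⟶ U` faithfully flat and quasi-compact and says that its
fpqc quotient sheaf is also the quotient for the canonical topology; this row takes `R ⟶ U` flat,
surjective and locally of finite presentation and says that the fppf quotient sheaf is already an
fpqc sheaf.) -/
theorem result {S : Scheme.{u}} {R U : Over S} (s t : R ⟶ U)
    [IsEquivalenceRelation s t]
    [Flat s.left] [Surjective s.left] [LocallyOfFinitePresentation s.left]
    (hc : IsClosedImmersion (lift t s).left) :
    Presheaf.IsSheaf (QuotSh.J Scheme.fpqcPrecoverage S)
      (QuotSh.quot Scheme.fppfPrecoverage s t).obj := by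
  exact Groth.Agent.GrpQuot.QuotCompare.isSheaf_fpqc s t hc

end Groth.Agent.S6043
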