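import Groth.Statements.S6048
import Groth.Agent.Lib.ShfCatH13.Quot
import Groth.Agent.Lib.ShfCatH13.Sub

set_option autoImplicit false
open CategoryTheory CategoryTheory.Limits MonoidalCategory
universe w v₁ u₁
open ShfCat

namespace Groth.Agent.S6048

set_option backward.isDefEq.respectTransparency false


open CartesianMonoidalCategory SemiCartesianMonoidalCategory in
/-- For sheaves of sets on a site with sheafification: let `p₁, p₂ : R ⇉ X` be an equivalence relation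
of sheaves with universally effective quotient `π : X ⟶ X/R` and `Y` a sheaf. (a) A subsheaf `Z ⊆ X
× Y` stable under `R × Y`, covering `Y`, and any two of whose points over the same point of `Y` are
`R`-related, is the pullback of `π` along exactly one `f : Y ⟶ X/R`; (b) every `f : Y ⟶ X/R` arises
in this way. -/
theorem result {C : Type u₁} [Category.{v₁} C]
    (J : GrothendieckTopology C) [HasSheafify J (Type w)]
    {R X : Sheaf J (Type w)} {p₁ p₂ : R ⟶ X}
    (e : UniversallyEffectiveEquivalenceRelation p₁ p₂) (Y : Sheaf J (Type w)) :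
    (∀ (Z : Sheaf J (Type w)) (ι : Z ⟶ X ⊗ Y), Mono ι →
      (∀ (W : Sheaf J (Type w)) (r : W ⟶ R) (y : W ⟶ Y),
        (∃ z : W ⟶ Z, z ≫ ι = lift (r ≫ p₁) y) ↔ (∃ z : W ⟶ Z, z ≫ ι = lift (r ≫ p₂) y)) →
      Epi (ι ≫ snd X Y) →
      (∀ (W : Sheaf J (Type w)) (z₁ z₂ : W ⟶ Z), z₁ ≫ ι ≫ snd X Y = z₂ ≫ ι ≫ snd X Y →
        ∃ r : W ⟶ R, r ≫ p₁ = z₁ ≫ ι ≫ fst X Y ∧ r ≫ p₂ = z₂ ≫ ι ≫ fst X Y) →
      ∃! f : Y ⟶ e.B, IsPullback (ι ≫ fst X Y) (ι ≫ snd X Y) e.π f) ∧
    (∀ f : Y ⟶ e.B, ∃ (Z : Sheaf J (Type w)) (ι : Z ⟶ X ⊗ Y), Mono ι ∧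
      (∀ (W : Sheaf J (Type w)) (r : W ⟶ R) (y : W ⟶ Y),
        (∃ z : W ⟶ Z, z ≫ ι = lift (r ≫ p₁) y) ↔ (∃ z : W ⟶ Z, z ≫ ι = lift (r ≫ p₂) y)) ∧
      Epi (ι ≫ snd X Y) ∧
      (∀ (W : Sheaf J (Type w)) (z₁ z₂ : W ⟶ Z), z₁ ≫ ι ≫ snd X Y = z₂ ≫ ι ≫ snd X Y →
        ∃ r : W ⟶ R, r ≫ p₁ = z₁ ≫ ι ≫ fst X Y ∧ r ≫ p₂ = z₂ ≫ ι ≫ fst X Y) ∧
      IsPullback (ι ≫ fst X Y) (ι ≫ snd X Y) e.π f) := by

  haveI hπ : Epi e.π := ⟨fun a b h => Cofork.IsColimit.hom_ext e.isCoequalizer h⟩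
  constructor
  · intro Z ι hι hst hepi hrel
    haveI := hι
    haveI := hepi
    have hinv : ∀ (W : Sheaf J (Type w)) (z₁ z₂ : W ⟶ Z),
        z₁ ≫ ι ≫ snd X Y = z₂ ≫ ι ≫ snd X Y → z₁ ≫ (ι ≫ fst X Y) ≫ e.π = z₂ ≫ (ι ≫ fst X Y) ≫ e.π := by
      intro W z₁ z₂ hz
      obtain ⟨r, h1, h2⟩ := hrel W z₁ z₂ hz
      rw [← Category.assoc z₁ (ι ≫ fst X Y), ← Category.assoc z₂ (ι ≫ fst X Y), ← h1, ← h2,
        Category.assoc, Category.assoc, e.isKernelPair.w]
    obtain ⟨f, hf, hfu⟩ := ShfCatH13.existsUnique_desc (ι ≫ snd X Y) ((ι ≫ fst X Y) ≫ e.π) hinv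
    have hex : ∀ s : PullbackCone e.π f, (Subobject.mk ι).Factors (lift s.fst s.snd) := fun s => by
      obtain ⟨W, t, z, ht, htz⟩ := ShfCatH13.exists_local_lift (ι ≫ snd X Y) s.snd
      refine ShfCatH13.factors_of_epi _ _ t ((Subobject.mk_factors_iff _ _).2 ?_)
      show ∃ g : W ⟶ Z, g ≫ ι = t ≫ lift s.fst s.snd
      have h1 : (t ≫ s.fst) ≫ e.π = (z ≫ ι ≫ fst X Y) ≫ e.π := by
        rw [Category.assoc, s.condition, reassoc_of% htz, Category.assoc]
        simp only [Category.assoc] at hf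
        rw [hf]
        simp only [Category.assoc]
      have hr1 := e.isKernelPair.lift_fst _ _ h1
      have hr2 := e.isKernelPair.lift_snd _ _ h1
      obtain ⟨g, hg⟩ := (hst W (e.isKernelPair.lift _ _ h1) (t ≫ s.snd)).2 ⟨z, by
        rw [hr2, htz]
        refine CartesianMonoidalCategory.hom_ext _ _ ?_ ?_ <;> simp⟩
      exact ⟨g, by rw [hg, hr1, comp_lift]⟩
    choose l hl using fun s => (Subobject.mk_factors_iff ι _).1 (hex s)
    refine ⟨f, IsPullback.of_isLimit' ⟨hf.symm⟩ (PullbackCone.IsLimit.mk _ (fun s => (l s : s.pt ⟶ Z))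
      (fun s => ?_) (fun s => ?_) fun s m h₁ h₂ => ?_), fun f' hf' => hfu f' hf'.w.symm⟩
    · have := congrArg (fun t => t ≫ fst X Y) (hl s)
      simpa using this
    · have := congrArg (fun t => t ≫ snd X Y) (hl s)
      simpa using this
    · rw [← cancel_mono ι]
      refine Eq.trans ?_ (hl s).symm
      refine CartesianMonoidalCategory.hom_ext _ _ ?_ ?_ <;> simp [h₁, h₂]
  · intro f
    have e1 : lift (pullback.fst e.π f) (pullback.snd e.π f) ≫ fst X Y = pullback.fst e.π f := lift_fst _ _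
    have e2 : lift (pullback.fst e.π f) (pullback.snd e.π f) ≫ snd X Y = pullback.snd e.π f := lift_snd _ _
    refine ⟨pullback e.π f, lift (pullback.fst e.π f) (pullback.snd e.π f), ⟨fun a b h => ?_⟩, ?_, ?_, ?_, ?_⟩
    · refine pullback.hom_ext ?_ ?_
      · simpa using congrArg (fun t => t ≫ fst X Y) h
      · simpa using congrArg (fun t => t ≫ snd X Y) h
    · intro W r y
      have : ∀ x : W ⟶ X, (∃ z : W ⟶ pullback e.π f,
          z ≫ lift (pullback.fst e.π f) (pullback.snd e.π f) = lift x y) ↔ x ≫ e.π = y ≫ f := fun x => by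
        refine ⟨fun ⟨z, hz⟩ => ?_, fun h => ⟨pullback.lift x y h, ?_⟩⟩
        · have h1 := congrArg (fun t => t ≫ fst X Y) hz
          have h2 := congrArg (fun t => t ≫ snd X Y) hz
          simp only [Category.assoc, lift_fst, lift_snd, e1, e2] at h1 h2
          rw [← h1, ← h2, Category.assoc, Category.assoc, pullback.condition]
        · rw [comp_lift, pullback.lift_fst, pullback.lift_snd]
      rw [this, this, Category.assoc, Category.assoc, e.isKernelPair.w]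
    · rw [e2]
      exact ShfCatH13.epi_of_isPullback J (IsPullback.of_hasPullback e.π f)
    · intro W z₁ z₂ hz
      rw [e2] at hz
      rw [e1]
      exact ⟨e.isKernelPair.lift _ _ (by
        rw [Category.assoc, Category.assoc, pullback.condition, reassoc_of% hz]),
        e.isKernelPair.lift_fst _ _ _, e.isKernelPair.lift_snd _ _ _⟩
    · rw [e1, e2]
      exact IsPullback.of_hasPullback e.π f

end Groth.Agent.S6048
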