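import Groth.Statements.S6049
import Groth.Agent.Lib.GrpQuot.QuotSection

set_option autoImplicit false
open CategoryTheory CategoryTheory.Limits AlgebraicGeometry MonoidalCategory
universe u
open GrpQ

namespace Groth.Agent.S6049

open Groth.Agent.GrpQuot Groth.Agent.GrpQuot.QuotSection
set_option backward.isDefEq.respectTransparency.types false

open CartesianMonoidalCategory in
/-- The case of an open graph, for schemes over a base scheme `S` and the fpqc topology: let `s, t : R ⇉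
U` be an equivalence relation of schemes over `S` with `s` flat, surjective and quasi-compact and
`(t, s) : R ⟶ U ×_S U` an open immersion. For every scheme `T` over `S`, every section `σ` of the
fpqc quotient sheaf `U/R` over `T` is induced by an open subscheme `Z ⊆ U ×_S T` which is stable
under `R ×_S T`, is flat, surjective and quasi-compact over `T`, and any two of whose points over
the same point of `T` are `R`-related (so that `R_Z ⇉ Z ⟶ T` is exact); such a `Z` is unique up to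
isomorphism over `U ×_S T`. (So the `T`-points of `U/R` are exactly these open subschemes. The
published statement also says that this fpqc quotient sheaf is the quotient for the canonical
topology; that clause is not part of this row.) -/
theorem result {S : Scheme.{u}} {R U : Over S} (s t : R ⟶ U)
    [IsEquivalenceRelation s t]
    [Flat s.left] [Surjective s.left] [QuasiCompact s.left]
    (hc : IsOpenImmersion (lift t s).left)
    (T : Over S) (σ : QuotSh.rep Scheme.fpqcPrecoverage T ⟶ QuotSh.quot Scheme.fpqcPrecoverage s t) :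
    (∃ (Z : Over S) (i : Z ⟶ U ⊗ T), IsOpenImmersion i.left ∧
      (∀ (T' : Over S) (r : T' ⟶ R ⊗ T),
        (∃ z : T' ⟶ Z, z ≫ i = r ≫ (s ▷ T)) ↔ (∃ z : T' ⟶ Z, z ≫ i = r ≫ (t ▷ T))) ∧
      Flat (i ≫ snd U T).left ∧ Surjective (i ≫ snd U T).left ∧
      QuasiCompact (i ≫ snd U T).left ∧
      (∀ (T' : Over S) (z₁ z₂ : T' ⟶ Z), z₁ ≫ i ≫ snd U T = z₂ ≫ i ≫ snd U T →
        ∃ r : T' ⟶ R, r ≫ s = z₁ ≫ i ≫ fst U T ∧ r ≫ t = z₂ ≫ i ≫ fst U T) ∧
      QuotSh.repMap Scheme.fpqcPrecoverage (i ≫ fst U T) ≫ QuotSh.quotπ Scheme.fpqcPrecoverage s t =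
        QuotSh.repMap Scheme.fpqcPrecoverage (i ≫ snd U T) ≫ σ) ∧
    (∀ (Z Z' : Over S) (i : Z ⟶ U ⊗ T) (i' : Z' ⟶ U ⊗ T),
      IsOpenImmersion i.left → IsOpenImmersion i'.left →
      (∀ (T' : Over S) (r : T' ⟶ R ⊗ T),
        (∃ z : T' ⟶ Z, z ≫ i = r ≫ (s ▷ T)) ↔ (∃ z : T' ⟶ Z, z ≫ i = r ≫ (t ▷ T))) →
      (∀ (T' : Over S) (r : T' ⟶ R ⊗ T),
        (∃ z : T' ⟶ Z', z ≫ i' = r ≫ (s ▷ T)) ↔ (∃ z : T' ⟶ Z', z ≫ i' = r ≫ (t ▷ T))) →
      Flat (i ≫ snd U T).left → Surjective (i ≫ snd U T).left →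
      QuasiCompact (i ≫ snd U T).left →
      Flat (i' ≫ snd U T).left → Surjective (i' ≫ snd U T).left →
      QuasiCompact (i' ≫ snd U T).left →
      (∀ (T' : Over S) (z₁ z₂ : T' ⟶ Z), z₁ ≫ i ≫ snd U T = z₂ ≫ i ≫ snd U T →
        ∃ r : T' ⟶ R, r ≫ s = z₁ ≫ i ≫ fst U T ∧ r ≫ t = z₂ ≫ i ≫ fst U T) →
      (∀ (T' : Over S) (z₁ z₂ : T' ⟶ Z'), z₁ ≫ i' ≫ snd U T = z₂ ≫ i' ≫ snd U T →
        ∃ r : T' ⟶ R, r ≫ s = z₁ ≫ i' ≫ fst U T ∧ r ≫ t = z₂ ≫ i' ≫ fst U T) →
      QuotSh.repMap Scheme.fpqcPrecoverage (i ≫ fst U T) ≫ QuotSh.quotπ Scheme.fpqcPrecoverage s t =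
        QuotSh.repMap Scheme.fpqcPrecoverage (i ≫ snd U T) ≫ σ →
      QuotSh.repMap Scheme.fpqcPrecoverage (i' ≫ fst U T) ≫ QuotSh.quotπ Scheme.fpqcPrecoverage s t =
        QuotSh.repMap Scheme.fpqcPrecoverage (i' ≫ snd U T) ≫ σ →
      ∃ e : Z ≅ Z', e.hom ≫ i' = i) := by
  haveI := descendsAlong_flat.{u}
  haveI := FpqcDesc.descendsAlong_quasiCompact.{u}
  have conv : ∀ {Z : Over S} (i : Z ⟶ U ⊗ T),
      (QuotSh.repMap Scheme.fpqcPrecoverage (i ≫ fst U T) ≫ QuotSh.quotπ Scheme.fpqcPrecoverage s t =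
        QuotSh.repMap Scheme.fpqcPrecoverage (i ≫ snd U T) ≫ σ) ↔ Mem s t T σ i := fun i ↦ Iff.rfl
  constructor
  · obtain ⟨Z, i, hi, hZ⟩ := exists_open (s := s) (t := t) (T := T) (σ := σ) hc
    haveI := hi
    haveI : Mono i := (Over.forget S).mono_of_mono_map (inferInstanceAs (Mono i.left))
    have hiσ : Mem s t T σ i := (hZ i).1 ⟨𝟙 Z, Category.id_comp i⟩
    refine ⟨Z, i, hi, fun T' r ↦ ?_, property_snd i hZ @Flat ‹_›, property_snd i hZ @Surjective ‹_›,
      property_snd i hZ @QuasiCompact ‹_›, fun T' z₁ z₂ e ↦ ?_, (conv i).2 hiσ⟩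
    · rw [hZ, hZ]; exact mem_s_iff_mem_t r
    · obtain ⟨r, h1, h2⟩ := rel_of_mem (mem_comp z₁ i hiσ) (mem_comp z₂ i hiσ)
        (by rw [Category.assoc, Category.assoc, e])
      exact ⟨r, h1.trans (Category.assoc _ _ _), h2.trans (Category.assoc _ _ _)⟩
  · intro Z Z' i i' hi hi' hst hst' hf hs hq hf' hs' hq' _ _ hσ hσ'
    haveI : Mono i := (Over.forget S).mono_of_mono_map (inferInstanceAs (Mono i.left))
    haveI : Mono i' := (Over.forget S).mono_of_mono_map (inferInstanceAs (Mono i'.left))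
    obtain ⟨A, p, q, _, _, hpq⟩ := exists_cover_factor i i' hst' hf' hs' ((conv i).1 hσ) ((conv i').1 hσ')
    obtain ⟨A', p', q', _, _, hpq'⟩ := exists_cover_factor i' i hst hf hs ((conv i').1 hσ') ((conv i).1 hσ)
    obtain ⟨w, hw⟩ := factor_of_cover_open i i' p q hpq
    obtain ⟨w', hw'⟩ := factor_of_cover_open i' i p' q' hpq'
    refine ⟨⟨w, w', ?_, ?_⟩, hw⟩
    · rw [← cancel_mono i, Category.assoc, hw', hw, Category.id_comp]
    · rw [← cancel_mono i', Category.assoc, hw, hw', Category.id_comp]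

end Groth.Agent.S6049
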