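import Groth.Statements.S6050
import Groth.Agent.Lib.ShfCatH13.Quot
import Groth.Agent.Lib.ShfCatH13.Sub
import Mathlib.Tactic.Group

set_option autoImplicit false
open CategoryTheory CategoryTheory.Limits MonoidalCategory
universe w v₁ u₁
open ShfCat

namespace Groth.Agent.S6050

set_option backward.isDefEq.respectTransparency false

open MonObj CartesianMonoidalCategory SemiCartesianMonoidalCategory in
theorem exists_grpObj {E : Type*} [Category E] [CartesianMonoidalCategory E] {M G : E} [GrpObj G]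
    (m : M ⟶ G) [Mono m] (h1 : ∃ o : 𝟙_ E ⟶ M, o ≫ m = MonObj.one)
    (hmul : ∃ z : M ⊗ M ⟶ M, z ≫ m = (fst M M ≫ m) * (snd M M ≫ m))
    (hinv : ∃ i : M ⟶ M, i ≫ m = m⁻¹) :
    ∃ str : GrpObj M, @IsMonHom E _ _ M G str.toMonObj _ m := by
  obtain ⟨o, ho⟩ := h1
  obtain ⟨z, hz⟩ := hmul
  obtain ⟨i, hi⟩ := hinv
  have hz' : ∀ {Y : E} (a b : Y ⟶ M), lift a b ≫ z ≫ m = (a ≫ m) * (b ≫ m) := fun a b => by
    rw [hz, MonObj.comp_mul, lift_fst_assoc, lift_snd_assoc]
  have hone : ∀ {Y : E} (t : Y ⟶ 𝟙_ E), (t ≫ o) ≫ m = 1 := fun t => by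
    rw [Category.assoc, ho, Hom.one_def, Subsingleton.elim t (toUnit _)]
  have e1 : o ▷ M = lift (fst (𝟙_ E) M ≫ o) (snd (𝟙_ E) M) := by
    refine CartesianMonoidalCategory.hom_ext _ _ ?_ ?_ <;> simp
  have e2 : M ◁ o = lift (fst M (𝟙_ E)) (snd M (𝟙_ E) ≫ o) := by
    refine CartesianMonoidalCategory.hom_ext _ _ ?_ ?_ <;> simp
  have e3 : z ▷ M = lift (fst (M ⊗ M) M ≫ z) (snd (M ⊗ M) M) := by
    refine CartesianMonoidalCategory.hom_ext _ _ ?_ ?_ <;> simp
  have e4 : M ◁ z = lift (fst M (M ⊗ M)) (snd M (M ⊗ M) ≫ z) := by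
    refine CartesianMonoidalCategory.hom_ext _ _ ?_ ?_ <;> simp
  suffices hs : ∃ str : GrpObj M, str.one = o ∧ str.mul = z by
    obtain ⟨str, h1, h2⟩ := hs
    refine ⟨str, ?_⟩
    letI := str
    refine ⟨(h1 ▸ ho :), ?_⟩
    show str.mul ≫ m = _
    rw [h2, hz, Hom.mul_def]
    congr 1
    refine CartesianMonoidalCategory.hom_ext _ _ ?_ ?_ <;> simp
  refine ⟨{ one := o, mul := z, inv := i, one_mul := ?_, mul_one := ?_, mul_assoc := ?_,
            left_inv := ?_, right_inv := ?_ }, rfl, rfl⟩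
  · rw [← cancel_mono m, Category.assoc, e1, hz', hone, _root_.one_mul, leftUnitor_hom]
  · rw [← cancel_mono m, Category.assoc, e2, hz', hone, _root_.mul_one, rightUnitor_hom]
  · have e5 : (α_ M M M).hom ≫ snd M (M ⊗ M) = lift (fst (M ⊗ M) M ≫ snd M M) (snd (M ⊗ M) M) := by
      refine CartesianMonoidalCategory.hom_ext _ _ ?_ ?_ <;> simp
    have e6 : (α_ M M M).hom ≫ (M ◁ z) = lift ((α_ M M M).hom ≫ fst M (M ⊗ M))
        (lift (fst (M ⊗ M) M ≫ snd M M) (snd (M ⊗ M) M) ≫ z) := by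
      rw [e4, comp_lift, ← Category.assoc _ (snd _ _), e5]
    have hz2 : ∀ {Y : E} (a b : Y ⟶ M), (lift a b ≫ z) ≫ m = (a ≫ m) * (b ≫ m) := fun a b => by
      rw [Category.assoc]; exact hz' a b
    rw [← cancel_mono m, ← Category.assoc (α_ M M M).hom, e6, e3, hz2, hz2, hz2,
      Category.assoc (fst (M ⊗ M) M) z m, hz, MonObj.comp_mul]
    simp [_root_.mul_assoc]
  · rw [← cancel_mono m, Category.assoc, hz', hi, Category.id_comp, inv_mul_cancel, hone]
  · rw [← cancel_mono m, Category.assoc, hz', hi, Category.id_comp, mul_inv_cancel, hone]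

open MonObj CartesianMonoidalCategory SemiCartesianMonoidalCategory in
theorem closed_of_grpObj {E : Type*} [Category E] [CartesianMonoidalCategory E] {G : E} [GrpObj G]
    (K : Subobject G) (h : ∃ str : GrpObj (K : E), @IsMonHom E _ _ _ _ str.toMonObj _ K.arrow) :
    (∀ Y : E, K.Factors (1 : Y ⟶ G)) ∧
      (∀ (Y : E) (a b : Y ⟶ G), K.Factors a → K.Factors b → K.Factors (a * b)) ∧
      (∀ (Y : E) (a : Y ⟶ G), K.Factors a → K.Factors a⁻¹) := by
  obtain ⟨str, hs⟩ := h
  haveI := hs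
  refine ⟨fun Y => ?_, fun Y a b ha hb => ?_, fun Y a ha => ?_⟩
  · rw [← MonObj.one_comp (M := (K : E)) K.arrow]
    exact Subobject.factors_comp_arrow _
  · rw [← Subobject.factorThru_arrow K a ha, ← Subobject.factorThru_arrow K b hb, ← MonObj.mul_comp]
    exact Subobject.factors_comp_arrow _
  · rw [← Subobject.factorThru_arrow K a ha, ← GrpObj.inv_comp]
    exact Subobject.factors_comp_arrow _

open MonObj CartesianMonoidalCategory SemiCartesianMonoidalCategory in
theorem grpObj_of_closed {E : Type*} [Category E] [CartesianMonoidalCategory E] {G : E} [GrpObj G]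
    (K : Subobject G) (h1 : ∀ Y : E, K.Factors (1 : Y ⟶ G))
    (h2 : ∀ (Y : E) (a b : Y ⟶ G), K.Factors a → K.Factors b → K.Factors (a * b))
    (h3 : ∀ (Y : E) (a : Y ⟶ G), K.Factors a → K.Factors a⁻¹) :
    ∃ str : GrpObj (K : E), @IsMonHom E _ _ _ _ str.toMonObj _ K.arrow :=
  exists_grpObj K.arrow
    ⟨K.factorThru _ (h1 (𝟙_ E)), by
      rw [Subobject.factorThru_arrow, Hom.one_def, Subsingleton.elim (toUnit (𝟙_ E)) (𝟙 _), Category.id_comp]⟩
    ⟨K.factorThru _ (h2 _ _ _ (Subobject.factors_comp_arrow _) (Subobject.factors_comp_arrow _)),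
      Subobject.factorThru_arrow _ _ _⟩
    ⟨K.factorThru _ (h3 _ _ (Subobject.factors_self K)), Subobject.factorThru_arrow _ _ _⟩


open MonObj CartesianMonoidalCategory SemiCartesianMonoidalCategory in
/-- Let `u : H ⟶ G` be a normal subgroup sheaf of a sheaf of groups `G` on a site, `G' = G/H` the
quotient sheaf with its group structure making `π : G ⟶ G'` a homomorphism. Then `K' ↦ K' ×_{G'} G`
is a bijection from the subgroup sheaves of `G'` onto the subgroup sheaves of `G` containing `H`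
(its inverse is `K ↦ K/H`), and normal subgroup sheaves correspond to normal subgroup sheaves.
Stated for sheaves of sets in `Type w` with sheafification; a subgroup sheaf is a subobject
admitting a group structure for which its inclusion is a homomorphism. -/
theorem result {C : Type u₁} [Category.{v₁} C]
    (J : GrothendieckTopology C) [HasSheafify J (Type w)]
    {H G : Sheaf J (Type w)} [hH : GrpObj H] [hG : GrpObj G] (u : H ⟶ G) [Mono u]
    (hu : @IsMonHom (Sheaf J (Type w)) _ _ H G hH.toMonObj hG.toMonObj u)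
    (hn : ∀ (Y : Sheaf J (Type w)) (g : Y ⟶ G) (h : Y ⟶ H), ∃ h' : Y ⟶ H, g * (h ≫ u) * g⁻¹ = h' ≫ u)
    [hQ : GrpObj (coequalizer (fst G H) ((G ◁ u) ≫ hG.mul))]
    (hπ : @IsMonHom (Sheaf J (Type w)) _ _ G (coequalizer (fst G H) ((G ◁ u) ≫ hG.mul)) hG.toMonObj hQ.toMonObj
      (coequalizer.π (fst G H) ((G ◁ u) ≫ hG.mul))) :
    Set.BijOn (Subobject.pullback (coequalizer.π (fst G H) ((G ◁ u) ≫ hG.mul))).obj
      {K' : Subobject (coequalizer (fst G H) ((G ◁ u) ≫ hG.mul)) |
        ∃ str : GrpObj (K' : Sheaf J (Type w)),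
          @IsMonHom (Sheaf J (Type w)) _ _ _ _ str.toMonObj hQ.toMonObj K'.arrow}
      {K : Subobject G | Subobject.mk u ≤ K ∧
        ∃ str : GrpObj (K : Sheaf J (Type w)),
          @IsMonHom (Sheaf J (Type w)) _ _ _ _ str.toMonObj hG.toMonObj K.arrow} ∧
    ∀ (K' : Subobject (coequalizer (fst G H) ((G ◁ u) ≫ hG.mul)))
      (str' : GrpObj (K' : Sheaf J (Type w)))
      (str : GrpObj ((Subobject.pullback (coequalizer.π (fst G H) ((G ◁ u) ≫ hG.mul))).obj K' : Sheaf J (Type w))),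
      @IsMonHom (Sheaf J (Type w)) _ _ _ _ str'.toMonObj hQ.toMonObj K'.arrow →
      @IsMonHom (Sheaf J (Type w)) _ _ _ _ str.toMonObj hG.toMonObj
        ((Subobject.pullback (coequalizer.π (fst G H) ((G ◁ u) ≫ hG.mul))).obj K').arrow →
      ((∀ (Y : Sheaf J (Type w)) (g : Y ⟶ coequalizer (fst G H) ((G ◁ u) ≫ hG.mul))
          (k : Y ⟶ (K' : Sheaf J (Type w))),
          ∃ k' : Y ⟶ (K' : Sheaf J (Type w)), g * (k ≫ K'.arrow) * g⁻¹ = k' ≫ K'.arrow) ↔
        (∀ (Y : Sheaf J (Type w)) (g : Y ⟶ G)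
          (k : Y ⟶ ((Subobject.pullback (coequalizer.π (fst G H) ((G ◁ u) ≫ hG.mul))).obj K' : Sheaf J (Type w))),
          ∃ k' : Y ⟶ ((Subobject.pullback (coequalizer.π (fst G H) ((G ◁ u) ≫ hG.mul))).obj K' : Sheaf J (Type w)),
            g * (k ≫ ((Subobject.pullback (coequalizer.π (fst G H) ((G ◁ u) ≫ hG.mul))).obj K').arrow) * g⁻¹ =
              k' ≫ ((Subobject.pullback (coequalizer.π (fst G H) ((G ◁ u) ≫ hG.mul))).obj K').arrow)) := by

  haveI := hu
  haveI := hπ
  let π := coequalizer.π (fst G H) ((G ◁ u) ≫ hG.mul)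
  haveI : Epi π := coequalizer.π_epi
  have hmem : ∀ (K' : Subobject (coequalizer (fst G H) ((G ◁ u) ≫ hG.mul))) (Y : Sheaf J (Type w))
      (x : Y ⟶ G), ((Subobject.pullback π).obj K').Factors x ↔ K'.Factors (x ≫ π) :=
    fun K' Y x => pullback_factors_iff π K' x
  have hone : ∀ (Y : Sheaf J (Type w)) (x : Y ⟶ H), (x ≫ u) ≫ π = 1 := fun Y x => by
    have := ShfCatH13.mul_right_π u (1 : Y ⟶ G) x
    rwa [_root_.one_mul, MonObj.one_comp] at this
  refine ⟨⟨?_, (ShfCatH13.pullback_injective π).injOn, ?_⟩, ?_⟩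
  · intro K' hK'
    obtain ⟨h1, h2, h3⟩ := closed_of_grpObj K' hK'
    refine ⟨Subobject.mk_le_of_comm
      (((Subobject.pullback π).obj K').factorThru u ((hmem _ _ _).2 ?_)) (Subobject.factorThru_arrow _ _ _),
      grpObj_of_closed _ (fun Y => (hmem _ _ _).2 (by rw [MonObj.one_comp]; exact h1 Y))
        (fun Y a b ha hb => (hmem _ _ _).2 ?_) (fun Y a ha => (hmem _ _ _).2 ?_)⟩
    · have h' := hone H (𝟙 H)
      simp only [Category.id_comp] at h'
      rw [h']; exact h1 _
    · rw [MonObj.mul_comp]; exact h2 _ _ _ ((hmem _ _ _).1 ha) ((hmem _ _ _).1 hb)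
    · rw [GrpObj.inv_comp]; exact h3 _ _ ((hmem _ _ _).1 ha)
  · rintro K ⟨hle, hK⟩
    obtain ⟨h1, h2, h3⟩ := closed_of_grpObj K hK
    have hH : ∀ (Y : Sheaf J (Type w)) (x : Y ⟶ H), K.Factors (x ≫ u) := fun Y x =>
      Subobject.factors_of_le _ hle (Subobject.factors_of_factors_right x (Subobject.mk_factors_self u))
    have hpb : (Subobject.pullback π).obj (ShfCatH13.img (K.arrow ≫ π)) = K :=
      ShfCatH13.pullback_img π K fun Y a y hay hy => by
        obtain ⟨x, hx⟩ := (ShfCatH13.π_eq_iff u y a).1 hay.symm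
        rw [hx]
        exact h2 _ _ _ hy (hH _ x)
    refine ⟨ShfCatH13.img (K.arrow ≫ π), ?_, hpb⟩
    have him : ∀ (Y : Sheaf J (Type w)) (a : Y ⟶ G), K.Factors a →
        (ShfCatH13.img (K.arrow ≫ π)).Factors (a ≫ π) := fun Y a ha => by
      rw [← hmem, hpb]; exact ha
    refine grpObj_of_closed _ (fun Y => ?_) (fun Y a b ha hb => ?_) (fun Y a ha => ?_)
    · rw [← MonObj.one_comp (M := G) π]; exact him _ _ (h1 Y)
    · obtain ⟨Y₁, s, x, hs, hsx⟩ := (ShfCatH13.img_factors_iff _ _).1 ha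
      obtain ⟨Y₂, t, y, ht, hty⟩ := (ShfCatH13.img_factors_iff _ _).1
        (Subobject.factors_of_factors_right s hb)
      refine ShfCatH13.factors_of_epi _ _ s (ShfCatH13.factors_of_epi _ _ t ?_)
      rw [MonObj.comp_mul, hsx, MonObj.comp_mul, hty, ← Category.assoc t, ← Category.assoc (t ≫ x),
        ← Category.assoc y, ← MonObj.mul_comp]
      exact him _ _ (h2 _ _ _ (Subobject.factors_comp_arrow _) (Subobject.factors_comp_arrow _))
    · obtain ⟨Y₁, s, x, hs, hsx⟩ := (ShfCatH13.img_factors_iff _ _).1 ha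
      refine ShfCatH13.factors_of_epi _ _ s ?_
      rw [GrpObj.comp_inv, hsx, ← Category.assoc, ← GrpObj.inv_comp]
      exact him _ _ (h3 _ _ (Subobject.factors_comp_arrow _))
  · intro K' str' str hK' hP
    constructor
    · intro hN Y g k
      have hf : ((Subobject.pullback π).obj K').Factors
          (g * (k ≫ ((Subobject.pullback π).obj K').arrow) * g⁻¹) := by
        rw [hmem, MonObj.mul_comp, MonObj.mul_comp, GrpObj.inv_comp]
        have hkf := (hmem K' Y _).1 (Subobject.factors_comp_arrow k)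
        obtain ⟨k', hk'⟩ := hN Y (g ≫ π) (K'.factorThru _ hkf)
        rw [Subobject.factorThru_arrow] at hk'
        rw [hk']
        exact Subobject.factors_comp_arrow _
      exact ⟨_, (Subobject.factorThru_arrow _ _ hf).symm⟩
    · intro hN Y g k
      have hf : K'.Factors (g * (k ≫ K'.arrow) * g⁻¹) := by
        obtain ⟨Y₁, s, a, hs, hsa⟩ := ShfCatH13.exists_local_lift π g
        obtain ⟨Y₂, t, b, ht, htb⟩ := ShfCatH13.exists_local_lift π (s ≫ k ≫ K'.arrow)
        refine ShfCatH13.factors_of_epi _ _ s (ShfCatH13.factors_of_epi _ _ t ?_)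
        have hbf : ((Subobject.pullback π).obj K').Factors b := (hmem _ _ _).2 (by
          rw [← htb, ← Category.assoc s k, ← Category.assoc t (s ≫ k)]
          exact Subobject.factors_comp_arrow _)
        obtain ⟨k', hk'⟩ := hN Y₂ (t ≫ a) (((Subobject.pullback π).obj K').factorThru _ hbf)
        rw [Subobject.factorThru_arrow] at hk'
        have := (hmem K' Y₂ _).1 (hk' ▸ Subobject.factors_comp_arrow k')
        rw [MonObj.mul_comp, MonObj.mul_comp, GrpObj.inv_comp, Category.assoc, ← hsa, ← htb] at this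
        simpa only [MonObj.comp_mul, GrpObj.comp_inv] using this
      exact ⟨_, (Subobject.factorThru_arrow _ _ hf).symm⟩

end Groth.Agent.S6050
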