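import Groth.Statements.S6054
import Groth.Agent.Lib.ShfCatH13.Quot
import Mathlib.Tactic.Group

set_option autoImplicit false
open CategoryTheory CategoryTheory.Limits MonoidalCategory
universe w v₁ u₁
open ShfCat

namespace Groth.Agent.S6054

set_option backward.isDefEq.respectTransparency false

open CartesianMonoidalCategory SemiCartesianMonoidalCategory in
theorem lift_comp {E : Type*} [Category E] [CartesianMonoidalCategory E] {A B A' B' X : E}
    (f : A ⟶ B) (g : A' ⟶ B') (a : X ⟶ A) (b : X ⟶ A') :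
    lift (a ≫ f) (b ≫ g) = lift a b ≫ (f ⊗ₘ g) := by
  refine CartesianMonoidalCategory.hom_ext _ _ ?_ ?_ <;> simp

open CartesianMonoidalCategory SemiCartesianMonoidalCategory in
theorem comp_tensor {E : Type*} [Category E] [CartesianMonoidalCategory E] {A B A' B' X : E}
    (f : A ⟶ B) (g : A' ⟶ B') (c : X ⟶ A ⊗ A') :
    c ≫ (f ⊗ₘ g) = lift ((c ≫ fst A A') ≫ f) ((c ≫ snd A A') ≫ g) := by
  refine CartesianMonoidalCategory.hom_ext _ _ ?_ ?_ <;> simp


open MonObj CartesianMonoidalCategory SemiCartesianMonoidalCategory in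
/-- Let `G` be a sheaf of groups on a site, `K ⊆ G` a subgroup sheaf and `H ⊆ K` a subgroup sheaf normal
in `K`. With `G/H`, `K/H`, `G/K` the quotient sheaves, the right action of `K/H` on `G/H` induced by
multiplication is free, and the canonical map `G/H ⟶ G/K` identifies `G/K` with the quotient
`(G/H)/(K/H)` (it is a coequalizer of the projection and the action). Sheaves of sets in `Type w`
with sheafification; the action and the map `G/H ⟶ G/K` are pinned by their compatibility with `G ×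
K ⟶ G ⟶ G/H` and with `G ⟶ G/K`. (The published statement adds that for `K` normal in `G` the
identification respects the group structures; that clause is not stated.) -/
theorem result {C : Type u₁} [Category.{v₁} C]
    (J : GrothendieckTopology C) [HasSheafify J (Type w)]
    {H K G : Sheaf J (Type w)} [hH : GrpObj H] [hK : GrpObj K] [hG : GrpObj G]
    (h : H ⟶ K) (k : K ⟶ G) [Mono h] [Mono k]
    (hh : @IsMonHom (Sheaf J (Type w)) _ _ H K hH.toMonObj hK.toMonObj h)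
    (hk : @IsMonHom (Sheaf J (Type w)) _ _ K G hK.toMonObj hG.toMonObj k)
    (hn : ∀ (Y : Sheaf J (Type w)) (x : Y ⟶ K) (y : Y ⟶ H), ∃ y' : Y ⟶ H, x * (y ≫ h) * x⁻¹ = y' ≫ h)
    (act : coequalizer (fst G H) ((G ◁ (h ≫ k)) ≫ hG.mul) ⊗ coequalizer (fst K H) ((K ◁ h) ≫ hK.mul) ⟶
      coequalizer (fst G H) ((G ◁ (h ≫ k)) ≫ hG.mul))
    (hact : (coequalizer.π (fst G H) ((G ◁ (h ≫ k)) ≫ hG.mul) ⊗ₘ coequalizer.π (fst K H) ((K ◁ h) ≫ hK.mul)) ≫ act =
      (G ◁ k) ≫ hG.mul ≫ coequalizer.π (fst G H) ((G ◁ (h ≫ k)) ≫ hG.mul))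
    (qbar : coequalizer (fst G H) ((G ◁ (h ≫ k)) ≫ hG.mul) ⟶ coequalizer (fst G K) ((G ◁ k) ≫ hG.mul))
    (hq : coequalizer.π (fst G H) ((G ◁ (h ≫ k)) ≫ hG.mul) ≫ qbar = coequalizer.π (fst G K) ((G ◁ k) ≫ hG.mul)) :
    Mono (lift act (fst _ _)) ∧
    ∃ wq : fst _ _ ≫ qbar = act ≫ qbar, Nonempty (IsColimit (Cofork.ofπ qbar wq)) := by

  haveI := hh
  haveI := hk
  haveI : @IsMonHom (Sheaf J (Type w)) _ _ H G hH.toMonObj hG.toMonObj (h ≫ k) := inferInstance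
  let π := coequalizer.π (fst G H) ((G ◁ (h ≫ k)) ≫ hG.mul)
  let π' := coequalizer.π (fst K H) ((K ◁ h) ≫ hK.mul)
  let πK := coequalizer.π (fst G K) ((G ◁ k) ≫ hG.mul)
  haveI := ShfCatH13.epi_tensorHom π π'
  have hpt : ∀ {Y : Sheaf J (Type w)} (a : Y ⟶ G) (x : Y ⟶ K),
      lift (a ≫ π) (x ≫ π') ≫ act = (a * (x ≫ k)) ≫ π := fun a x => by
    have h0 : lift (a ≫ π) (x ≫ π') = lift a x ≫ (π ⊗ₘ π') := lift_comp _ _ _ _
    rw [h0, Category.assoc, hact, lift_whiskerLeft_assoc, Hom.mul_def, Category.assoc]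
  have hsplit : ∀ {Y : Sheaf J (Type w)} (c : Y ⟶ G ⊗ K),
      c ≫ (π ⊗ₘ π') = lift ((c ≫ fst G K) ≫ π) ((c ≫ snd G K) ≫ π') := fun c => comp_tensor _ _ _
  refine ⟨⟨fun {Y} m₁ m₂ hm => ?_⟩, ?_⟩
  · obtain ⟨Y₁, s, c₁, hs, hs₁⟩ : ∃ (Y₁ : Sheaf J (Type w)) (s : Y₁ ⟶ Y) (c₁ : Y₁ ⟶ G ⊗ K),
        Epi s ∧ s ≫ m₁ = c₁ ≫ (π ⊗ₘ π') :=
      ⟨_, pullback.snd (π ⊗ₘ π') m₁, pullback.fst _ _,
        ShfCatH13.epi_of_isPullback J (IsPullback.of_hasPullback (π ⊗ₘ π') m₁), pullback.condition.symm⟩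
    obtain ⟨Y₂, t, c₂, ht, ht₂⟩ : ∃ (Y₂ : Sheaf J (Type w)) (t : Y₂ ⟶ Y₁) (c₂ : Y₂ ⟶ G ⊗ K),
        Epi t ∧ t ≫ s ≫ m₂ = c₂ ≫ (π ⊗ₘ π') :=
      ⟨_, pullback.snd (π ⊗ₘ π') (s ≫ m₂), pullback.fst _ _,
        ShfCatH13.epi_of_isPullback J (IsPullback.of_hasPullback (π ⊗ₘ π') (s ≫ m₂)),
        pullback.condition.symm⟩
    have ht₁ : t ≫ s ≫ m₁ = (t ≫ c₁) ≫ (π ⊗ₘ π') := by rw [hs₁, Category.assoc]
    rw [← cancel_epi s, ← cancel_epi t, ht₁, ht₂]
    have h3 : (t ≫ s ≫ m₁) ≫ lift act (fst _ _) = (t ≫ s ≫ m₂) ≫ lift act (fst _ _) := by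
      simp only [Category.assoc, hm]
    rw [ht₁, ht₂, hsplit, hsplit, comp_lift, comp_lift, hpt, hpt, lift_fst, lift_fst] at h3
    have e1 := congrArg (fun t => t ≫ fst _ _) h3
    have e2 := congrArg (fun t => t ≫ snd _ _) h3
    simp only [lift_fst, lift_snd] at e1 e2
    rw [hsplit, hsplit]
    generalize (t ≫ c₁) ≫ fst G K = a at *
    generalize (t ≫ c₁) ≫ snd G K = x at *
    generalize c₂ ≫ fst G K = b at *
    generalize c₂ ≫ snd G K = y at *
    obtain ⟨h₀, hb⟩ := (ShfCatH13.π_eq_iff (h ≫ k) a b).1 e2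
    obtain ⟨h₁, hby⟩ := (ShfCatH13.π_eq_iff (h ≫ k) _ _).1 e1
    rw [hb, ← Category.assoc h₀, ← Category.assoc h₁, _root_.mul_assoc, _root_.mul_assoc,
      ← MonObj.mul_comp, ← MonObj.mul_comp] at hby
    have hK' := (cancel_mono k).1 (mul_left_cancel hby)
    obtain ⟨h', hh'⟩ := hn Y₂ x⁻¹ h₀⁻¹
    have hy : y = x * ((h' * h₁) ≫ h) := by
      rw [MonObj.mul_comp, ← hh', GrpObj.inv_comp]
      have : y = (h₀ ≫ h)⁻¹ * (x * h₁ ≫ h) := by rw [← hK', inv_mul_cancel_left]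
      rw [this]
      group
    have hxy : x ≫ π' = y ≫ π' := (ShfCatH13.π_eq_iff h x y).2 ⟨_, hy⟩
    rw [show a ≫ π = b ≫ π from e2, hxy]
  · have hKπ : ∀ {Y : Sheaf J (Type w)} (a : Y ⟶ G) (x : Y ⟶ K), (a * (x ≫ k)) ≫ πK = a ≫ πK :=
      fun a x => ShfCatH13.mul_right_π k a x
    have wq : fst _ _ ≫ qbar = act ≫ qbar := by
      rw [← cancel_epi (π ⊗ₘ π'), ← Category.assoc, tensorHom_fst, Category.assoc, hq, ← Category.assoc,
        hact]
      simp only [Category.assoc, hq]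
      rw [← Category.assoc (G ◁ k)]
      exact coequalizer.condition (fst G K) ((G ◁ k) ≫ hG.mul)
    haveI : Epi πK := coequalizer.π_epi
    haveI : Epi π := coequalizer.π_epi
    refine ⟨wq, ⟨Cofork.IsColimit.mk' _ fun s => ?_⟩⟩
    have hex : ∃! ψ, πK ≫ ψ = π ≫ s.π := ShfCatH13.existsUnique_desc_π k (π ≫ s.π) fun Y a x => by
      have h0 := congrArg (fun t => lift (a ≫ π) (x ≫ π') ≫ t) s.condition
      simp only [← Category.assoc, lift_fst, hpt] at h0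
      rw [← Category.assoc, ← Category.assoc]
      exact h0.symm
    refine ⟨hex.choose, ?_, fun {m} hm => ?_⟩
    · show qbar ≫ hex.choose = s.π
      rw [← cancel_epi π, reassoc_of% hq]
      exact hex.choose_spec.1
    · refine hex.choose_spec.2 m ?_
      show πK ≫ m = π ≫ s.π
      rw [show πK = π ≫ qbar from hq.symm, Category.assoc]
      exact congrArg (fun t => π ≫ t) hm

end Groth.Agent.S6054
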