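import Groth.Statements.S6055
import Groth.Agent.Lib.ShfCatH13.Quot

set_option autoImplicit false
open CategoryTheory CategoryTheory.Limits MonoidalCategory
universe w v₁ u₁
open ShfCat

namespace Groth.Agent.S6055

set_option backward.isDefEq.respectTransparency false


open MonObj CartesianMonoidalCategory SemiCartesianMonoidalCategory in
/-- Let `G` be a sheaf of groups on a site, `H, L ⊆ G` subgroup sheaves and `π : G ⟶ G/H` the quotient
sheaf map. Then the pair `L × (H ∩ L) ⇉ L` (projection, right multiplication) is the kernel pair of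
`L ⟶ G ⟶ G/H`, so that the image of `L` in `G/H` is the quotient sheaf `L/(H ∩ L)`. Sheaves of sets
in `Type w` with sheafification; `H ∩ L` is the fibre product `H ×_G L`. (The published statement
assumes `H` normal and also identifies this image with `(L·H)/H`; normality is not needed for the
part stated here.) -/
theorem result {C : Type u₁} [Category.{v₁} C]
    (J : GrothendieckTopology C) [HasSheafify J (Type w)]
    {H L G : Sheaf J (Type w)} [hH : GrpObj H] [hL : GrpObj L] [hG : GrpObj G]
    (u : H ⟶ G) (l : L ⟶ G) [Mono u] [Mono l]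
    (hu : @IsMonHom (Sheaf J (Type w)) _ _ H G hH.toMonObj hG.toMonObj u)
    (hl : @IsMonHom (Sheaf J (Type w)) _ _ L G hL.toMonObj hG.toMonObj l) :
    IsKernelPair (l ≫ coequalizer.π (fst G H) ((G ◁ u) ≫ hG.mul))
      (fst L (pullback u l)) ((L ◁ pullback.snd u l) ≫ hL.mul) := by

  have key : ∀ {Y : Sheaf J (Type w)} (x : Y ⟶ L ⊗ pullback u l),
      x ≫ (L ◁ pullback.snd u l) ≫ hL.mul =
        (x ≫ fst L (pullback u l)) * ((x ≫ snd L (pullback u l)) ≫ pullback.snd u l) := fun x => by
    rw [ShfCatH13.pair_eq, MonObj.comp_mul, Category.assoc]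
  have w : fst L (pullback u l) ≫ l ≫ coequalizer.π (fst G H) ((G ◁ u) ≫ hG.mul) =
      ((L ◁ pullback.snd u l) ≫ hL.mul) ≫ l ≫ coequalizer.π (fst G H) ((G ◁ u) ≫ hG.mul) := by
    have e := key (𝟙 (L ⊗ pullback u l))
    simp only [Category.id_comp] at e
    rw [e, ← Category.assoc _ l, ← Category.assoc _ l, MonObj.mul_comp,
      Category.assoc (snd L (pullback u l)), ← pullback.condition,
      ← Category.assoc (snd L (pullback u l))]
    exact (ShfCatH13.mul_right_π u _ _).symm
  have hlift : ∀ s : PullbackCone (l ≫ coequalizer.π (fst G H) ((G ◁ u) ≫ hG.mul))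
      (l ≫ coequalizer.π (fst G H) ((G ◁ u) ≫ hG.mul)),
      ∃ z : s.pt ⟶ pullback u l, s.snd = s.fst * (z ≫ pullback.snd u l) := fun s => by
    obtain ⟨h, hh⟩ := (ShfCatH13.π_eq_iff u (s.fst ≫ l) (s.snd ≫ l)).1 (by
      simpa only [Category.assoc] using s.condition)
    refine ⟨pullback.lift h (s.fst⁻¹ * s.snd) ?_, ?_⟩
    · rw [MonObj.mul_comp, GrpObj.inv_comp, hh, inv_mul_cancel_left]
    · rw [pullback.lift_snd, mul_inv_cancel_left]
  choose z hz using hlift
  refine IsPullback.of_isLimit' ⟨w⟩ (PullbackCone.IsLimit.mk _ (fun s => lift s.fst (z s))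
    (fun s => lift_fst _ _) (fun s => ?_) (fun s m h₁ h₂ => ?_))
  · rw [key, lift_fst, lift_snd]
    exact (hz s).symm
  · rw [key, h₁] at h₂
    have h3 := mul_left_cancel (h₂.trans (hz s))
    refine CartesianMonoidalCategory.hom_ext _ _ (h₁.trans (lift_fst _ _).symm) ?_
    rw [lift_snd]
    exact (cancel_mono (pullback.snd u l)).1 h3

end Groth.Agent.S6055
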