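import Groth.Statements.S6056
import Groth.Agent.Lib.Desc.Quot
import Groth.Agent.Lib.FppfSource.Scheme
import Groth.Agent.Lib.AlgSpDescent.SchemeSource
-- import your own Groth.Agent.* helpers here

set_option autoImplicit false
open CategoryTheory CategoryTheory.Limits AlgebraicGeometry MonoidalCategory
universe u
open RedSub

namespace Groth.Agent.S6056

set_option linter.style.haveILetI false
set_option backward.isDefEq.respectTransparency.types false

open MonObj GrpObj CartesianMonoidalCategory SemiCartesianMonoidalCategory MonoidalCategory Groth.Agent.Desc in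
theorem descend_point {S : Scheme.{u}} {X A T T' : Over S} {π : T' ⟶ T} (hπ : IsCover π) (c' : T' ⟶ A)
    (e : A ⟶ X) (d : T ⟶ X) (hc : c' ≫ e = π ≫ d)
    (uniq : ∀ (R : Over S) (r : R ⟶ T) (c₁ c₂ : R ⟶ A), c₁ ≫ e = r ≫ d → c₂ ≫ e = r ≫ d → c₁ = c₂) :
    ∃ c : T ⟶ A, π ≫ c = c' ∧ c ≫ e = d := by
  obtain ⟨c, hc1, -⟩ := hπ.descend c' fun R x y h => by
    refine uniq R (x ≫ π) _ _ ?_ ?_
    · rw [Category.assoc, hc, Category.assoc]
    · rw [Category.assoc, hc, ← Category.assoc, ← h, Category.assoc]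
  refine ⟨c, hc1, ?_⟩
  have := hπ.epi
  rw [← cancel_epi π, ← Category.assoc, hc1, hc]

open MonObj GrpObj CartesianMonoidalCategory SemiCartesianMonoidalCategory MonoidalCategory in
theorem quot_pts {S : Scheme.{u}} {H G Q : Over S} [GrpObj G] (i : H ⟶ G) (q : G ⟶ Q)
    (hP : IsPullback (fst G H) ((G ◁ i) ≫ μ[G]) q q) :
    (∀ (T : Over S) (g : T ⟶ G) (h : T ⟶ H), (g * (h ≫ i)) ≫ q = g ≫ q) ∧
    (∀ (T : Over S) (x y : T ⟶ G), x ≫ q = y ≫ q → ∃ h : T ⟶ H, y = x * (h ≫ i)) := by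
  have key : ∀ (T : Over S) (g : T ⟶ G) (h : T ⟶ H), lift g h ≫ (G ◁ i) ≫ μ[G] = g * (h ≫ i) := fun T g h => by
    rw [lift_whiskerLeft_assoc, Hom.mul_def]
  refine ⟨fun T g h => ?_, fun T x y e => ⟨hP.lift x y e ≫ snd G H, ?_⟩⟩
  · have := congrArg (lift g h ≫ ·) hP.w
    rw [lift_fst_assoc, ← Category.assoc (lift g h), key] at this
    exact this.symm
  · have h2 := hP.lift_snd x y e
    have e3 : hP.lift x y e = lift x (hP.lift x y e ≫ snd G H) :=
      CartesianMonoidalCategory.hom_ext _ _ (by rw [lift_fst, hP.lift_fst]) (by rw [lift_snd])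
    rw [e3, key] at h2
    exact h2.symm




open MonObj CartesianMonoidalCategory SemiCartesianMonoidalCategory in
/-- For group schemes and fppf quotients: let `K ⊆ G` be a subgroup scheme and `H ⊆ K` a subgroup scheme
normal in `K`; suppose `G/H` is represented by `q_H : G ⟶ Q_H` and `K/H` by a homomorphism `K ⟶ K'`
of group schemes, and let `act : Q_H ×_S K' ⟶ Q_H` be the right action induced by the multiplication
of `G`. Then: (i) if `G/K` is represented by `q_K : G ⟶ Q_K`, the map `Q_H ⟶ Q_K` under `G` is an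
fppf covering whose kernel pair is `Q_H ×_S K' ⇉ Q_H` (projection, action), i.e. `Q_K =
(G/H)/(K/H)`; (ii) conversely, if `p : Q_H ⟶ Y` is an fppf covering with that kernel pair, then `q_H
≫ p` represents `G/K`. -/
theorem result {S : Scheme.{u}} {H K G QH Kb : Over S}
    [hH : GrpObj H] [hK : GrpObj K] [hG : GrpObj G] [hKb : GrpObj Kb]
    (h : H ⟶ K) (k : K ⟶ G) [Mono h] [Mono k] [IsMonHom h] [IsMonHom k]
    (hn : AlgGrp.IsNormalHom h)
    (qH : G ⟶ QH) (hqH : RedSub.IsQuotient (h ≫ k) qH)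
    (qKb : K ⟶ Kb) [IsMonHom qKb] (hqKb : RedSub.IsQuotient h qKb)
    (act : QH ⊗ Kb ⟶ QH) (hact : (qH ⊗ₘ qKb) ≫ act = (G ◁ k) ≫ μ[G] ≫ qH) :
    (∀ (QK : Over S) (qK : G ⟶ QK), RedSub.IsQuotient k qK →
      ∀ qbar : QH ⟶ QK, qH ≫ qbar = qK →
        Surjective qbar.left ∧ Flat qbar.left ∧ LocallyOfFinitePresentation qbar.left ∧
          IsPullback (fst QH Kb) act qbar qbar) ∧
    (∀ (Y : Over S) (p : QH ⟶ Y),
      Surjective p.left → Flat p.left → LocallyOfFinitePresentation p.left →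
      IsPullback (fst QH Kb) act p p → RedSub.IsQuotient k (qH ≫ p)) := by
  classical
obtain ⟨sH, flH, fpH, PH⟩ := hqH
obtain ⟨sK, flK, fpK, PK⟩ := hqKb
have cH : Desc.IsCover qH := ⟨sH, flH, fpH⟩
have cKb : Desc.IsCover qKb := ⟨sK, flK, fpK⟩
obtain ⟨invH, sepH⟩ := quot_pts (h ≫ k) qH PH
obtain ⟨invK, sepK⟩ := quot_pts h qKb PK
have hpt : ∀ (T : Over S) (g : T ⟶ G) (x : T ⟶ K), lift (g ≫ qH) (x ≫ qKb) ≫ act = (g * (x ≫ k)) ≫ qH := fun T g x => by
  rw [← lift_map, Category.assoc, hact, lift_whiskerLeft_assoc, ← Category.assoc, Hom.mul_def]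
have free : ∀ (T : Over S) (a : T ⟶ QH) (c₁ c₂ : T ⟶ Kb), lift a c₁ ≫ act = lift a c₂ ≫ act → c₁ = c₂ := fun T a c₁ c₂ e => by
  obtain ⟨T₁, π₁, g, h₁, eg⟩ := cH.exists_lift a
  obtain ⟨T₂, π₂, x₁, x₂, h₂, e₁, e₂⟩ := cKb.exists_lift₂ (π₁ ≫ c₁) (π₁ ≫ c₂)
  have := (h₂.comp h₁).epi
  rw [← cancel_epi (π₂ ≫ π₁), Category.assoc, Category.assoc, ← e₁, ← e₂]
  have e' : lift ((π₂ ≫ g) ≫ qH) (x₁ ≫ qKb) ≫ act = lift ((π₂ ≫ g) ≫ qH) (x₂ ≫ qKb) ≫ act := by
    have h3 : lift ((π₂ ≫ π₁) ≫ a) ((π₂ ≫ π₁) ≫ c₁) ≫ act = lift ((π₂ ≫ π₁) ≫ a) ((π₂ ≫ π₁) ≫ c₂) ≫ act := by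
      simp only [← comp_lift, Category.assoc, e]
    rw [e₁, e₂, Category.assoc π₂ g, eg]
    simpa only [Category.assoc] using h3
  rw [hpt, hpt] at e'
  obtain ⟨y, hy⟩ := sepH _ _ _ e'
  rw [_root_.mul_assoc, mul_left_cancel_iff, ← Category.assoc, ← MonObj.mul_comp] at hy
  rw [cancel_mono] at hy
  rw [hy, invK]
refine ⟨fun QK qK hqK qbar hq => ?_, fun Y p sp flp fpp Pp => ?_⟩
· obtain ⟨sq, flq, fpq, PQ⟩ := hqK
  obtain ⟨invQ, sepQ⟩ := quot_pts k qK PQ
  have hcomp : qH.left ≫ qbar.left = qK.left := by rw [← Over.comp_left, hq]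
  have i1 : Surjective (qH.left ≫ qbar.left) := by rw [hcomp]; exact sq
  have i2 : Flat (qH.left ≫ qbar.left) := by rw [hcomp]; exact flq
  have i3 : LocallyOfFinitePresentation (qH.left ≫ qbar.left) := by rw [hcomp]; exact fpq
  refine ⟨Surjective.of_comp qH.left qbar.left, AlgSpDescent.flat_of_comp_flat_surjective qH.left qbar.left,
    FppfSource.locallyOfFinitePresentation_of_fppf_comp qH.left qbar.left, ?_⟩
  have w : fst QH Kb ≫ qbar = act ≫ qbar := by
    have := (cH.tensor cKb).epi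
    rw [← cancel_epi (qH ⊗ₘ qKb), tensorHom_fst_assoc, hq, ← Category.assoc, hact, Category.assoc, Category.assoc, hq]
    simpa only [Category.assoc] using PQ.w
  have ex : ∀ (s : PullbackCone qbar qbar), ∃ c : s.pt ⟶ Kb, lift s.fst c ≫ act = s.snd := fun s => by
    obtain ⟨T', π, a', b', hπ, ea, eb⟩ := cH.exists_lift₂ s.fst s.snd
    obtain ⟨x, hx⟩ := sepQ T' a' b' (by
      rw [← hq, ← Category.assoc, ea, ← Category.assoc, eb, Category.assoc, Category.assoc, s.condition])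
    have e0 : lift (π ≫ s.fst) (x ≫ qKb) ≫ act = π ≫ s.snd := by rw [← ea, hpt, ← hx, eb]
    obtain ⟨c, -, hc⟩ := descend_point hπ (lift (π ≫ s.fst) (x ≫ qKb)) (lift (fst QH Kb) act) (lift s.fst s.snd)
      (by rw [comp_lift, comp_lift, lift_fst, e0]) (fun R r c₁ c₂ h₁ h₂ => by
        have f₁ : c₁ ≫ fst QH Kb = c₂ ≫ fst QH Kb := by
          have := congrArg (· ≫ fst QH QH) (h₁.trans h₂.symm)
          simpa using this
        have f₂ : c₁ ≫ act = c₂ ≫ act := by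
          have := congrArg (· ≫ snd QH QH) (h₁.trans h₂.symm)
          simpa using this
        refine CartesianMonoidalCategory.hom_ext _ _ f₁ (free R (c₁ ≫ fst QH Kb) _ _ ?_)
        conv_rhs => rw [f₁]
        simpa [← comp_lift] using f₂)
    refine ⟨c ≫ snd QH Kb, ?_⟩
    have h1 := congrArg (· ≫ fst QH QH) hc
    have h2 := congrArg (· ≫ snd QH QH) hc
    simp only [Category.assoc, lift_fst, lift_snd] at h1 h2
    rw [← h1, ← comp_lift, lift_fst_snd, Category.comp_id, h2]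
  refine IsPullback.of_isLimit' ⟨w⟩ (PullbackCone.IsLimit.mk _ (fun s => lift s.fst (ex s).choose)
    (fun s => lift_fst _ _) (fun s => (ex s).choose_spec) (fun s m h1 h2 => ?_))
  refine CartesianMonoidalCategory.hom_ext _ _ (by rw [h1, lift_fst]) (free _ s.fst _ _ ?_)
  rw [lift_snd, (ex s).choose_spec, ← h2, ← h1, ← comp_lift, lift_fst_snd, Category.comp_id]
· refine ⟨?_, ?_, ?_, ?_⟩
  · rw [Over.comp_left]; infer_instance
  · rw [Over.comp_left]; infer_instance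
  · rw [Over.comp_left]; infer_instance
  have w : fst G K ≫ qH ≫ p = ((G ◁ k) ≫ μ[G]) ≫ qH ≫ p := by
    have := congrArg ((qH ⊗ₘ qKb) ≫ ·) Pp.w
    simp only [← Category.assoc, tensorHom_fst, hact] at this
    simpa only [Category.assoc] using this
  have ex : ∀ (s : PullbackCone (qH ≫ p) (qH ≫ p)), ∃ x : s.pt ⟶ K, x ≫ k = s.fst⁻¹ * s.snd := fun s => by
    have cond : (s.fst ≫ qH) ≫ p = (s.snd ≫ qH) ≫ p := by simpa only [Category.assoc] using s.condition
    obtain ⟨T', π, c', hπ, ec⟩ := cKb.exists_lift (Pp.lift _ _ cond ≫ snd QH Kb)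
    have e1 : lift ((π ≫ s.fst) ≫ qH) (c' ≫ qKb) ≫ act = (π ≫ s.snd) ≫ qH := by
      have e3 : Pp.lift _ _ cond = lift (s.fst ≫ qH) (Pp.lift _ _ cond ≫ snd QH Kb) :=
        CartesianMonoidalCategory.hom_ext _ _ (by rw [lift_fst, Pp.lift_fst]) (by rw [lift_snd])
      have e2 : lift (s.fst ≫ qH) (Pp.lift _ _ cond ≫ snd QH Kb) ≫ act = s.snd ≫ qH := by
        rw [← e3, Pp.lift_snd]
      rw [ec, Category.assoc π, ← comp_lift, Category.assoc π, e2, Category.assoc]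
    rw [hpt] at e1
    obtain ⟨y, hy⟩ := sepH _ _ _ e1
    obtain ⟨x, -, hx⟩ := descend_point hπ (c' * (y ≫ h)) k (s.fst⁻¹ * s.snd) (by
      rw [MonObj.mul_comp, MonObj.comp_mul, GrpObj.comp_inv, hy, Category.assoc, _root_.mul_assoc (π ≫ s.fst),
        inv_mul_cancel_left]) (fun R r c₁ c₂ h₁ h₂ => by rw [← cancel_mono k, h₁, h₂])
    exact ⟨x, hx⟩
  refine IsPullback.of_isLimit' ⟨w⟩ (PullbackCone.IsLimit.mk _ (fun s => lift s.fst (ex s).choose)
    (fun s => lift_fst _ _) (fun s => ?_) (fun s m h1 h2 => ?_))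
  · rw [lift_whiskerLeft_assoc, ← Hom.mul_def, (ex s).choose_spec, mul_inv_cancel_left]
  · refine CartesianMonoidalCategory.hom_ext _ _ (by rw [h1, lift_fst]) ?_
    rw [lift_snd, ← cancel_mono k, (ex s).choose_spec, ← h1, ← h2]
    have e4 : m ≫ (G ◁ k) ≫ μ[G] = (m ≫ fst G K) * ((m ≫ snd G K) ≫ k) := by
      rw [Hom.mul_def, ← lift_whiskerLeft_assoc, ← comp_lift, lift_fst_snd, Category.comp_id]
    rw [e4, inv_mul_cancel_left]

end Groth.Agent.S6056
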