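import Groth.Statements.S6057
import Mathlib.CategoryTheory.Sites.Over

set_option autoImplicit false
open CategoryTheory
universe v₁ u₁
open ShfCat

namespace Groth.Agent.S6057

/-- Let `S` be an object whose representable presheaf is a sheaf for `J` and `φ : F ⟶ h_S` a morphism of
presheaves of sets. The relative presheaf on `C/S` (sections of `F` over `T` lying over the given `T
⟶ S`) is separated (resp. a sheaf) for the induced topology on `C/S` if and only if `F` is separated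
(resp. a sheaf). -/
theorem result {C : Type u₁} [Category.{v₁} C] (J : GrothendieckTopology C)
    {S : C} (hS : Presieve.IsSheaf J (yoneda.obj S)) {F : Cᵒᵖ ⥤ Type v₁} (φ : F ⟶ yoneda.obj S) :
    (Presieve.IsSeparated (J.over S) (ShfCat.relPsh φ) ↔ Presieve.IsSeparated J F) ∧
    (Presieve.IsSheaf (J.over S) (ShfCat.relPsh φ) ↔ Presieve.IsSheaf J F) := by
  have hnat : ∀ {Y U : C} (g : Y ⟶ U) (t : F.obj (Opposite.op U)),
      φ.app _ (F.map g.op t) = g ≫ φ.app (Opposite.op U) t := fun g t =>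
    ConcreteCategory.congr_hom (φ.naturality g.op) t
  have sep₁ : Presieve.IsSeparated J F → Presieve.IsSeparated (J.over S) (ShfCat.relPsh φ) := by
    intro hF T R hR x t₁ t₂ h₁ h₂
    apply Subtype.ext
    refine (hF (Sieve.overEquiv T R) (GrothendieckTopology.mem_over_iff J R |>.1 hR)).ext fun Y g hg => ?_
    rw [Sieve.overEquiv_iff] at hg
    exact congrArg Subtype.val ((h₁ _ hg).trans (h₂ _ hg).symm)
  have sep₂ : Presieve.IsSeparated (J.over S) (ShfCat.relPsh φ) → Presieve.IsSeparated J F := by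
    intro hR U R hU x t₁ t₂ h₁ h₂
    have e : φ.app (Opposite.op U) t₁ = φ.app (Opposite.op U) t₂ := by
      refine (Presieve.IsSheaf.isSeparated hS R hU).ext fun Y g hg => ?_
      show g ≫ φ.app (Opposite.op U) t₁ = g ≫ φ.app (Opposite.op U) t₂
      rw [← hnat, ← hnat, h₁ g hg, h₂ g hg]
    let T : Over S := Over.mk (φ.app (Opposite.op U) t₁ : U ⟶ S)
    let a₁ : (ShfCat.relPsh φ).obj (Opposite.op T) := ⟨t₁, rfl⟩
    let a₂ : (ShfCat.relPsh φ).obj (Opposite.op T) := ⟨t₂, e.symm⟩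
    have := (hR ((Sieve.overEquiv T).symm R) (GrothendieckTopology.overEquiv_symm_mem_over J T R hU)).ext
      (t₁ := a₁) (t₂ := a₂) fun Y g hg => Subtype.ext ((h₁ g.left hg).trans (h₂ g.left hg).symm)
    exact congrArg Subtype.val this
  refine ⟨⟨sep₂, sep₁⟩, ⟨fun hR U R hU => ?_, fun hF T R hR => ?_⟩⟩
  · refine (Presieve.isSeparatedFor_and_exists_isAmalgamation_iff_isSheafFor).1
      ⟨sep₂ (Presieve.IsSheaf.isSeparated hR) R hU, fun x hx => ?_⟩
    let y : Presieve.FamilyOfElements (yoneda.obj S) R.arrows := fun Y g hg => φ.app _ (x g hg)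
    have hy : y.Compatible := fun Y₁ Y₂ Z g₁ g₂ f₁ f₂ h₁ h₂ h => by
      show g₁ ≫ φ.app _ (x f₁ h₁) = g₂ ≫ φ.app _ (x f₂ h₂)
      rw [← hnat, ← hnat, hx g₁ g₂ h₁ h₂ h]
    obtain ⟨t₀, ht₀, -⟩ := hS R hU y hy
    let T : Over S := Over.mk (t₀ : U ⟶ S)
    let z : Presieve.FamilyOfElements (ShfCat.relPsh φ) ((Sieve.overEquiv T).symm R).arrows :=
      fun Z g hg => ⟨x g.left hg, (ht₀ g.left hg).symm.trans (Over.w g)⟩
    have hz : z.Compatible := fun Y₁ Y₂ Z g₁ g₂ f₁ f₂ h₁ h₂ h =>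
      Subtype.ext (hx g₁.left g₂.left h₁ h₂ (congrArg (fun k => k.left) h))
    obtain ⟨t, ht, -⟩ := hR _ (GrothendieckTopology.overEquiv_symm_mem_over J T R hU) z hz
    refine ⟨t.1, fun Y g hg => ?_⟩
    exact congrArg Subtype.val (ht (Over.homMk g : Over.mk (g ≫ T.hom) ⟶ T) hg)
  · refine (Presieve.isSeparatedFor_and_exists_isAmalgamation_iff_isSheafFor).1
      ⟨sep₁ (Presieve.IsSheaf.isSeparated hF) R hR, fun x hx => ?_⟩
    let z : Presieve.FamilyOfElements F (Sieve.overEquiv T R).arrows :=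
      fun Y g hg => (x (Over.homMk g : Over.mk (g ≫ T.hom) ⟶ T) ((Sieve.overEquiv_iff R g).1 hg)).1
    have hz : z.Compatible := fun Y₁ Y₂ Z g₁ g₂ f₁ f₂ h₁ h₂ h => by
      exact congrArg Subtype.val (hx (Over.homMk g₁ : Over.mk (g₁ ≫ f₁ ≫ T.hom) ⟶ Over.mk (f₁ ≫ T.hom))
        (Over.homMk g₂ (by simp [reassoc_of% h]) : Over.mk (g₁ ≫ f₁ ≫ T.hom) ⟶ Over.mk (f₂ ≫ T.hom))
        ((Sieve.overEquiv_iff R f₁).1 h₁) ((Sieve.overEquiv_iff R f₂).1 h₂) (by ext; exact h))
    obtain ⟨t, ht, -⟩ := hF _ (GrothendieckTopology.mem_over_iff J R |>.1 hR) z hz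
    have htφ : φ.app (Opposite.op T.left) t = T.hom := by
      refine (Presieve.IsSheaf.isSeparated hS _ (GrothendieckTopology.mem_over_iff J R |>.1 hR)).ext
        fun Y g hg => ?_
      show g ≫ φ.app (Opposite.op T.left) t = g ≫ T.hom
      rw [← hnat, ht g hg]
      exact (x (Over.homMk g : Over.mk (g ≫ T.hom) ⟶ T) ((Sieve.overEquiv_iff R g).1 hg)).2
    refine ⟨⟨t, htφ⟩, fun Z g hg => Subtype.ext ?_⟩
    have hg' : Sieve.overEquiv T R g.left := ⟨Z, g, 𝟙 _, hg, by simp⟩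
    refine (ht g.left hg').trans ?_
    let i : Over.mk (g.left ≫ T.hom) ⟶ Z := Over.homMk (𝟙 Z.left) (by simp)
    have := hx (𝟙 (Over.mk (g.left ≫ T.hom))) i ((Sieve.overEquiv_iff R g.left).1 hg') hg
      (by ext; simp [i])
    have h' := congrArg Subtype.val this
    rw [ShfCat.relPsh_map_val, ShfCat.relPsh_map_val] at h'
    simpa [z, i] using h'

end Groth.Agent.S6057
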