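import Groth.Statements.S6063
import Groth.Agent.Lib.SchDense29.Devissage

set_option autoImplicit false
universe u
open CategoryTheory AlgebraicGeometry
open TensorProduct
open SGA3x

namespace Groth.Agent.S6063

open CategoryTheory.Limits in
/-- Over an affine base with free successive quotients. Let A be a ring, J a nilpotent ideal of A such
that every quotient J^k/J^(k+1) is a free (A/J)-module, p : X ⟶ Spec A a flat morphism and (v_i :
Z_i ⟶ X) a family of subschemes of X (immersions) with every Z_i flat over Spec A. If the family of
reductions Z_i ×_A (A/J) ⟶ X ×_A (A/J) is schematically dense, i.e. a section of the structure sheaf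
of X ×_A (A/J) over an open subset whose pullback to every member vanishes is zero, then the family
(v_i) is schematically dense in X in the same sense. (The published statement has an arbitrary base
S and a nilpotent quasi-coherent ideal of the structure sheaf whose successive quotients are locally
free modulo the ideal; the assertion is local on S and on X, and this row is the case of an affine
base with free successive quotients.) -/
theorem result {X : Scheme.{u}} (A : CommRingCat.{u}) (p : X ⟶ Spec A) [Flat p]
    (J : Ideal ↑A) (hJ : IsNilpotent J) (hfree : ∀ k : ℕ, Module.Free (↑A ⧸ J) ((↑A ⧸ J) ⊗[↑A] ↥(J ^ k)))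
    {ι : Type u} (Z : ι → Scheme.{u}) (v : ∀ i, Z i ⟶ X) [∀ i, IsImmersion (v i)] [∀ i, Flat (v i ≫ p)]
    (h0 : ∀ (V : (pullback p (Spec.map (CommRingCat.ofHom (Ideal.Quotient.mk J)))).Opens) (t : Γ(pullback p (Spec.map (CommRingCat.ofHom (Ideal.Quotient.mk J))), V)),
      (∀ i, (pullback.map (v i ≫ p) (Spec.map (CommRingCat.ofHom (Ideal.Quotient.mk J))) p (Spec.map (CommRingCat.ofHom (Ideal.Quotient.mk J))) (v i) (𝟙 _) (𝟙 _)
        (Category.comp_id _) ((Category.comp_id _).trans (Category.id_comp _).symm)).app V t = 0) → t = 0) :
    ∀ (V : X.Opens) (t : Γ(X, V)), (∀ i, (v i).app V t = 0) → t = 0 := by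
  exact SchDense29.eq_zero_of_dense Z p v hJ hfree h0

end Groth.Agent.S6063
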