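import Groth.Statements.S6066
import Groth.Agent.Lib.LMSimple8.TorsTransporter

set_option autoImplicit false
open CategoryTheory MonoidalCategory CartesianMonoidalCategory MonObj GrpObj AlgebraicGeometry
universe u
open SGA3x

namespace Groth.Agent.S6066

open CategoryTheory.Limits in
/-- Let S be a locally Noetherian scheme, H a commutative S-group which is of finite type over S, and E
a nonempty set of integers n > 0 stable under multiplication such that a) every kernel ₙH of the
n-th power map (n ∈ E; the pullback of the unit section along that map) is finite and flat over S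
and b) for every s ∈ S the family of fibres (ₙH)_s ⟶ H_s, n ∈ E, is schematically dense in H_s. Let
u : H ⟶ G be a homomorphism into an S-group G locally of finite type over S and k : K ⟶ G a closed
sub-group-scheme. Then the transporter of u into K — the subfunctor of G of those points g, with
values in an S-scheme X, such that for every X' ⟶ X and every X'-valued point h of H the point g
u(h) g⁻¹ lies in K — is representable by a closed subscheme of G; and if the scheme G is Noetherian
there is n ∈ E such that a point g of G lies in the transporter if and only if g u(h) g⁻¹ lies in K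
for all points h of H with h^n = 1. (The published statement is over an arbitrary base S and also
asserts that the transporter is smooth over S when G is smooth, K is smooth or of multiplicative
type and the ₙH, n ∈ E, are of multiplicative type; this row assumes S locally Noetherian, the
setting in which the printed argument through the base G applies, and does not state the smoothness
assertion.) -/
theorem result {S : Scheme.{u}} [IsLocallyNoetherian S]
    (H : Over S) [GrpObj H] [IsCommMonObj H] [LocallyOfFiniteType H.hom] [QuasiCompact H.hom]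
    (E : Set ℕ) (hE : E.Nonempty) (hE0 : ∀ n ∈ E, 0 < n) (hEmul : ∀ m ∈ E, ∀ n ∈ E, m * n ∈ E)
    (ha : ∀ n ∈ E, IsFinite ((pullback.snd η[H].left (𝟙 H ^ n : H ⟶ H).left) ≫ H.hom) ∧ Flat ((pullback.snd η[H].left (𝟙 H ^ n : H ⟶ H).left) ≫ H.hom))
    (hb : ∀ (s : S) (V : (H.hom.fiber s).Opens) (t : Γ(H.hom.fiber s, V)),
      (∀ n ∈ E, (MoreMor.fiberMap (pullback.snd η[H].left (𝟙 H ^ n : H ⟶ H).left) H.hom s).app V t = 0) → t = 0)
    (G K : Over S) [GrpObj G] [GrpObj K] [LocallyOfFiniteType G.hom] (u : H ⟶ G) [IsMonHom u]
    (k : K ⟶ G) [IsMonHom k] [IsClosedImmersion k.left] :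
    (∃ (T : Over S) (j : T ⟶ G), IsClosedImmersion j.left ∧
      ∀ (X : Over S) (g : X ⟶ G), (∃ t : X ⟶ T, t ≫ j = g) ↔
        ∀ (X' : Over S) (x : X' ⟶ X) (h : X' ⟶ H), ∃ κ : X' ⟶ K, (x ≫ g) * (h ≫ u) * (x ≫ g)⁻¹ = κ ≫ k) ∧
    (AlgebraicGeometry.IsNoetherian G.left → ∃ n ∈ E, ∀ (X : Over S) (g : X ⟶ G),
      (∀ (X' : Over S) (x : X' ⟶ X) (h : X' ⟶ H), ∃ κ : X' ⟶ K, (x ≫ g) * (h ≫ u) * (x ≫ g)⁻¹ = κ ≫ k) ↔
        ∀ (X' : Over S) (x : X' ⟶ X) (h : X' ⟶ H), h ^ n = 1 → ∃ κ : X' ⟶ K, (x ≫ g) * (h ≫ u) * (x ≫ g)⁻¹ = κ ≫ k) := by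
  exact Groth.Agent.LMSimple8.TorsWeil.transporter_closed E hE hEmul ha hb u k

end Groth.Agent.S6066
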