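import Groth.Statements.S6070
import Groth.Agent.Lib.TorsLift20.Lift
import Groth.Agent.Lib.TorsLift20.Ker
import Groth.Agent.S5294
-- import your own Groth.Agent.* helpers here

set_option autoImplicit false
open CategoryTheory MonoidalCategory CartesianMonoidalCategory MonObj GrpObj AlgebraicGeometry
universe u
open SGA3x

namespace Groth.Agent.S6070

set_option linter.style.haveILetI false
set_option backward.isDefEq.respectTransparency.types false

/-- In lifting form: what formal smoothness of the morphism H ↦ ₙH of the functor of multiplicative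
subgroups means. Let S = Spec R be affine, J a nilpotent ideal of R, S₀ = Spec (R/J), n a natural
number and G an S-group which is smooth over S. Let j₀ : H₀ ⟶ G₀ = G ×_S S₀ be a sub-group-scheme (a
homomorphism which is an immersion) of multiplicative type (fpqc-locally isomorphic, as a group, to
diagonalisable groups D(M), M allowed to vary and taken in Type 0), and l : L ⟶ G a sub-group-scheme
of multiplicative type whose base change to S₀ is the n-torsion of H₀ inside G₀: a point of G₀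
factors through L ×_S S₀ if and only if it is j₀(h) for a point h of H₀ with h^n = 1. Then there is
a sub-group-scheme j : H ⟶ G of multiplicative type whose base change to S₀ coincides with H₀ as a
subgroup of G₀ (an isomorphism compatible with the maps to G₀) and whose n-torsion is L: a point of
G factors through L if and only if it is j(h) for a point h of H with h^n = 1. -/
theorem result {R : Type u} [CommRing R] (J : Ideal R) (hJ : IsNilpotent J) (n : ℕ)
    (G : Over (Spec (CommRingCat.of R))) [GrpObj G] (hG : Smooth G.hom)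
    (H₀ : Over (Spec (CommRingCat.of (R ⧸ J)))) [GrpObj H₀]
    (hH₀ : TwC.Locally (Spec (CommRingCat.of (R ⧸ J))) TwC.Topology.fpqc (fun S' f => ∃ (M : Type) (_ : AddCommGroup M), Nonempty (Grp.mk (Red.bc f H₀) ≅ Grp.mk (Red.DS S' M))))
    (j₀ : H₀ ⟶ Red.bc (Spec.map (CommRingCat.ofHom (Ideal.Quotient.mk J))) G) [IsMonHom j₀] [IsImmersion j₀.left]
    (L : Over (Spec (CommRingCat.of R))) [GrpObj L] (hL : TwC.Locally (Spec (CommRingCat.of R)) TwC.Topology.fpqc (fun S' f => ∃ (M : Type) (_ : AddCommGroup M), Nonempty (Grp.mk (Red.bc f L) ≅ Grp.mk (Red.DS S' M))))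
    (l : L ⟶ G) [IsMonHom l] [IsImmersion l.left]
    (hL0 : ∀ (X : Over (Spec (CommRingCat.of (R ⧸ J)))) (g : X ⟶ Red.bc (Spec.map (CommRingCat.ofHom (Ideal.Quotient.mk J))) G),
      (∃ y : X ⟶ Red.bc (Spec.map (CommRingCat.ofHom (Ideal.Quotient.mk J))) L, y ≫ (Over.pullback (Spec.map (CommRingCat.ofHom (Ideal.Quotient.mk J)))).map l = g) ↔
        ∃ h : X ⟶ H₀, h ^ n = 1 ∧ h ≫ j₀ = g) :
    ∃ (H : Over (Spec (CommRingCat.of R))) (_ : GrpObj H) (j : H ⟶ G), IsMonHom j ∧ IsImmersion j.left ∧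
      TwC.Locally (Spec (CommRingCat.of R)) TwC.Topology.fpqc (fun S' f => ∃ (M : Type) (_ : AddCommGroup M), Nonempty (Grp.mk (Red.bc f H) ≅ Grp.mk (Red.DS S' M))) ∧
      (∃ φ : Red.bc (Spec.map (CommRingCat.ofHom (Ideal.Quotient.mk J))) H ≅ H₀, φ.hom ≫ j₀ = (Over.pullback (Spec.map (CommRingCat.ofHom (Ideal.Quotient.mk J)))).map j) ∧
      ∀ (X : Over (Spec (CommRingCat.of R))) (g : X ⟶ G),
        (∃ y : X ⟶ L, y ≫ l = g) ↔ ∃ h : X ⟶ H, h ^ n = 1 ∧ h ≫ j = g := by
  obtain ⟨H, _, j, hj, hjimm, hHft, φ, hφ⟩ := TorsLift20.exists_subgroup_lift_mt J hJ G hG H₀ hH₀ j₀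
  haveI := hj
  haveI := hjimm
  let q := Spec.map (CommRingCat.ofHom (Ideal.Quotient.mk J))
  haveI : Mono j₀ := Over.mono_of_mono_left j₀
  haveI : IsMonHom φ.hom := by
    haveI : IsMonHom (φ.hom ≫ j₀) := hφ ▸ inferInstance
    exact CentLift20.isMonHom_of_mul φ.hom fun X a b => by
      rw [← cancel_mono j₀, Category.assoc, MonObj.mul_comp, MonObj.mul_comp, Category.assoc, Category.assoc]
  obtain ⟨K, _, k, hk, hkimm, hfac, hKmt⟩ := TorsLift20.exists_ker H hHft n
  haveI := hk
  haveI := hkimm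
  haveI : IsImmersion (k ≫ j).left := MorphismProperty.comp_mem @IsImmersion _ _ hkimm hjimm
  have hflpow : ∀ {W : Over (Spec (CommRingCat.of (R ⧸ J)))} (x : W ⟶ Red.bc q H) (m : ℕ),
      DiagGL.fl q H (x ^ m) = DiagGL.fl q H x ^ m := by
    intro W x m
    induction m with
    | zero => rw [pow_zero, pow_zero, MTRigid29.fl_one]
    | succ m ih => rw [pow_succ, pow_succ, DiagGL.fl_mul, ih]
  obtain ⟨g, hg, ψ, hψ⟩ := Groth.Agent.S5294.result J hJ G K L hG hKmt hL (k ≫ j) l
    (1 : (Over.mk q : Over (Spec (CommRingCat.of R))) ⟶ G) (fun X p => by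
      let T : Over (Spec (CommRingCat.of (R ⧸ J))) := Over.mk p.left
      let m : (Over.map q).obj T ⟶ X := Over.homMk (𝟙 X.left) (by
        show 𝟙 X.left ≫ X.hom = p.left ≫ q
        rw [Category.id_comp]; exact (Over.w p).symm)
      let m' : X ⟶ (Over.map q).obj T := Over.homMk (𝟙 X.left) (by
        show 𝟙 X.left ≫ p.left ≫ q = X.hom
        rw [Category.id_comp]; exact Over.w p)
      have hm : m' ≫ m = 𝟙 X := Over.OverMorphism.ext (Category.id_comp _)
      simp only [MonObj.comp_one, inv_one, _root_.one_mul, _root_.mul_one]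
      constructor
      · intro h
        obtain ⟨h₀, hh₀⟩ := DiagGL.fl_surjective q H (T := T) (m ≫ h ≫ k)
        have hp : h₀ ^ n = 1 := DiagGL.fl_injective q H (by
          rw [hflpow, hh₀, MTRigid29.fl_one]
          exact (hfac _ _).1 ⟨m ≫ h, Category.assoc _ _ _⟩)
        obtain ⟨z, hz⟩ := (hL0 T (h₀ ≫ (Over.pullback q).map j)).2
          ⟨h₀ ≫ φ.hom, by rw [← MonObj.pow_comp, hp, MonObj.one_comp], by rw [Category.assoc, hφ]⟩
        refine ⟨m' ≫ DiagGL.fl q L z, ?_⟩
        rw [Category.assoc, ← DiagGL.fl_comp_map, hz, DiagGL.fl_comp_map, hh₀]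
        simp only [Category.assoc]
        rw [reassoc_of% hm]
      · intro h'
        obtain ⟨z, hz⟩ := DiagGL.fl_surjective q L (T := T) (m ≫ h')
        obtain ⟨y, hy, hyz⟩ := (hL0 T (z ≫ (Over.pullback q).map l)).1 ⟨z, rfl⟩
        have hp : (y ≫ φ.inv) ^ n = 1 := by
          rw [← cancel_mono φ.hom, MonObj.pow_comp, Category.assoc, Iso.inv_hom_id, Category.comp_id, hy,
            MonObj.one_comp]
        obtain ⟨w, hw⟩ := (hfac _ (DiagGL.fl q H (y ≫ φ.inv))).2 (by rw [← hflpow, hp, MTRigid29.fl_one])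
        refine ⟨m' ≫ w, ?_⟩
        rw [Category.assoc, reassoc_of% hw, ← DiagGL.fl_comp_map, Category.assoc, ← hφ, Iso.inv_hom_id_assoc,
          hyz, DiagGL.fl_comp_map, hz, Category.assoc, reassoc_of% hm])
  let c : G ⟶ G := (toUnit G ≫ g) * 𝟙 G * (toUnit G ≫ g)⁻¹
  let c' : G ⟶ G := (toUnit G ≫ g)⁻¹ * 𝟙 G * (toUnit G ≫ g)
  have hc : ∀ {X : Over (Spec (CommRingCat.of R))} (x : X ⟶ G),
      x ≫ c = (toUnit X ≫ g) * x * (toUnit X ≫ g)⁻¹ := fun x => by
    simp [c, MonObj.comp_mul, GrpObj.comp_inv]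
  have hc' : ∀ {X : Over (Spec (CommRingCat.of R))} (x : X ⟶ G),
      x ≫ c' = (toUnit X ≫ g)⁻¹ * x * (toUnit X ≫ g) := fun x => by
    simp [c', MonObj.comp_mul, GrpObj.comp_inv]
  haveI : IsIso c := ⟨c', by rw [hc']; simp only [c]; group, by rw [hc]; simp only [c']; group⟩
  haveI : IsIso c.left := inferInstanceAs (IsIso ((Over.forget _).map c))
  haveI : IsMonHom c := CentLift20.isMonHom_of_mul c fun X a b => by
    rw [hc, hc, hc]; group
  have hkj : k ≫ j ≫ c = ψ.hom ≫ l := by
    rw [← Category.assoc, hc]; exact hψ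
  refine ⟨H, inferInstance, j ≫ c, inferInstance,
    MorphismProperty.comp_mem @IsImmersion _ _ hjimm (inferInstance : IsImmersion c.left),
    MTRigid29.isMT_of_ft hHft, ⟨φ, ?_⟩, fun X g' => ⟨?_, ?_⟩⟩
  · rw [hφ]
    rw [← Category.id_comp ((Over.pullback q).map j), ← Category.id_comp ((Over.pullback q).map (j ≫ c))]
    refine DiagGL.fl_injective q G ?_
    rw [DiagGL.fl_comp_map, DiagGL.fl_comp_map, ← Category.assoc, hc]
    let W := (Over.map q).obj ((Over.pullback q).obj H)
    have hone : toUnit W ≫ g = 1 := by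
      let t : W ⟶ (Over.mk q : Over (Spec (CommRingCat.of R))) :=
        Over.homMk ((Over.pullback q).obj H).hom rfl
      rw [show toUnit W = t ≫ toUnit _ from toUnit_unique _ _, Category.assoc, hg, MonObj.comp_one]
    rw [hone, inv_one, _root_.one_mul, _root_.mul_one]
  · rintro ⟨y, rfl⟩
    refine ⟨y ≫ ψ.inv ≫ k, (hfac _ _).1 ⟨y ≫ ψ.inv, Category.assoc _ _ _⟩, ?_⟩
    rw [Category.assoc, Category.assoc, hkj, Iso.inv_hom_id_assoc]
  · rintro ⟨h, hn, rfl⟩
    obtain ⟨z, rfl⟩ := (hfac _ h).2 hn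
    exact ⟨z ≫ ψ.hom, by rw [Category.assoc, Category.assoc, hkj]⟩

end Groth.Agent.S6070
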