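import Groth.Statements.S6073
import Groth.Agent.Lib.GrpGen20.CommBound

set_option autoImplicit false
universe u
open CategoryTheory CategoryTheory.Limits MonoidalCategory CartesianMonoidalCategory MonObj GrpObj AlgebraicGeometry
open SGA3

open scoped commutatorElement

namespace Groth.Agent.S6073

/-- Let k be an algebraically closed field, G a group scheme locally of finite type over k, and a : A →
G, b : B → G two closed subgroup schemes which are geometrically reduced over k, such that either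
(a) A and B are normal in G and of finite type over k, or (b) A is connected and B is of finite type
over k. Let i : Γ → G be the commutator subgroup scheme (A, B): the smallest closed subgroup scheme
of G through which A ×_k B → G, (x, y) ↦ a(x) b(y) a(x)⁻¹ b(y)⁻¹, factors. Then the image of Γ(k) in
G(k) is the commutator subgroup of the images of A(k) and B(k): the subgroup of G(k) generated by
the commutators of a k-point of A with a k-point of B. -/
theorem result (k : Type u) [Field k] [IsAlgClosed k]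
    (G A B : Over (Spec (CommRingCat.of k))) [GrpObj G] [GrpObj A] [GrpObj B] [LocallyOfFiniteType G.hom]
    (a : A ⟶ G) [IsMonHom a] [IsClosedImmersion a.left] (b : B ⟶ G) [IsMonHom b] [IsClosedImmersion b.left]
    [GeometricallyReduced A.hom] [GeometricallyReduced B.hom] [QuasiCompact B.hom]
    (hcase : (AlgGrp.IsNormalHom a ∧ AlgGrp.IsNormalHom b ∧ QuasiCompact A.hom) ∨ ConnectedSpace A.left)
    (Γ : Over (Spec (CommRingCat.of k))) [GrpObj Γ] (i : Γ ⟶ G) [IsMonHom i] [IsClosedImmersion i.left]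
    (hf : ∃ f' : A ⊗ B ⟶ Γ, f' ≫ i = (((fst A B) ≫ a) * ((snd A B) ≫ b) * ((fst A B) ≫ a)⁻¹ * ((snd A B) ≫ b)⁻¹))
    (hmin : ∀ (Γ' : Over (Spec (CommRingCat.of k))) (_ : GrpObj Γ') (i' : Γ' ⟶ G), IsMonHom i' → IsClosedImmersion i'.left →
        (∃ f'' : A ⊗ B ⟶ Γ', f'' ≫ i' = (((fst A B) ≫ a) * ((snd A B) ≫ b) * ((fst A B) ≫ a)⁻¹ * ((snd A B) ≫ b)⁻¹)) → ∃ j : Γ ⟶ Γ', j ≫ i' = i) :
    Set.range (fun z : 𝟙_ (Over (Spec (CommRingCat.of k))) ⟶ Γ => z ≫ i) =
      ((⁅Subgroup.closure (Set.range (fun x : 𝟙_ (Over (Spec (CommRingCat.of k))) ⟶ A => x ≫ a)),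
         Subgroup.closure (Set.range (fun y : 𝟙_ (Over (Spec (CommRingCat.of k))) ⟶ B => y ≫ b))⁆ : Subgroup (𝟙_ (Over (Spec (CommRingCat.of k))) ⟶ G)) :
        Set (𝟙_ (Over (Spec (CommRingCat.of k))) ⟶ G)) := by
  haveI : LocallyOfFiniteType A.hom := by rw [← Over.w a]; infer_instance
  haveI : LocallyOfFiniteType B.hom := by rw [← Over.w b]; infer_instance
  haveI : QuasiCompact A.hom := by
    rcases hcase with ⟨-, -, h⟩ | h
    · exact h
    · haveI := h; exact GrpGen20.quasiCompact_of_connected A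
  haveI : LocallyOfFiniteType (A ⊗ B).hom :=
    inferInstanceAs (LocallyOfFiniteType (Limits.pullback.fst A.hom B.hom ≫ A.hom))
  haveI : QuasiCompact (A ⊗ B).hom := inferInstanceAs (QuasiCompact (Limits.pullback.fst A.hom B.hom ≫ A.hom))
  haveI : GeometricallyReduced (A ⊗ B).hom := GrpGen20.geometricallyReduced_tensorObj _ _
  let f : A ⊗ B ⟶ G := GrpGen20.commHom a b
  obtain ⟨Z, hZ, iz, hiz, hizc, hfz, -, hZr, -⟩ := GrpGen20.exists_generated f
  obtain ⟨j, hj⟩ := hmin Z hZ iz hiz hizc hfz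
  have h1 : Set.range i.left ⊆ closure (⋃ m, GrpGen20.wordSet f m) := by
    refine Set.Subset.trans ?_ (closure_mono (GrpGen20.genSet_subset_iUnion f))
    rw [← hZr, ← hj]
    rintro _ ⟨w, rfl⟩
    exact ⟨j.left w, by rw [AbRigid.left_comp_apply]⟩
  have hconn : ConnectedSpace A.left → ∃ (n : ℕ) (W : Set G.left), IsIrreducible W ∧
      W ⊆ closure (GrpGen20.wordSet f n) ∧ ∀ m, GrpGen20.wordSet f m ⊆ closure W := fun h => by
    haveI := h
    haveI := GrpGen20.geometricallyConnected_of_connected A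
    exact GrpGen20.exists_bound_commHom_connected a b
  obtain ⟨n, hn⟩ : ∃ n, ∀ m, GrpGen20.wordSet f m ⊆ closure (GrpGen20.wordSet f n) := by
    rcases hcase with ⟨ha, hb, -⟩ | h
    · exact GrpGen20.exists_bound_commHom_normal a b ha hb
    · obtain ⟨n, W, -, hWn, hW⟩ := hconn h
      exact ⟨n, fun m => (hW m).trans (closure_minimal hWn isClosed_closure)⟩
  have hr := GrpGen20.range_eq_wordSet f i hf n
    (h1.trans (closure_minimal (Set.iUnion_subset hn) isClosed_closure))
  let P := 𝟙_ (Over (Spec (CommRingCat.of k)))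
  have hAr : ∀ x : P ⟶ A, x ≫ a ∈ Subgroup.closure (Set.range (fun x : P ⟶ A => x ≫ a)) :=
    fun x => Subgroup.subset_closure ⟨x, rfl⟩
  have hBr : ∀ y : P ⟶ B, y ≫ b ∈ Subgroup.closure (Set.range (fun y : P ⟶ B => y ≫ b)) :=
    fun y => Subgroup.subset_closure ⟨y, rfl⟩
  refine Set.Subset.antisymm ?_ ?_
  · rintro _ ⟨z, rfl⟩
    have hz : (z ≫ i).left (IsLocalRing.closedPoint k) ∈ GrpGen20.wordSet f (n + n) :=
      hr ▸ ⟨z.left (IsLocalRing.closedPoint k), (AbRigid.left_comp_apply z i _).symm⟩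
    obtain ⟨T, p, x, ε, hx⟩ := hz
    obtain ⟨w, hw⟩ := GrpGen20.exists_rational_word f p x ε (z ≫ i) (IsLocalRing.closedPoint k) hx
    show z ≫ i ∈ _
    rw [← hw]
    refine Subgroup.list_prod_mem _ fun t ht => ?_
    obtain ⟨j, rfl⟩ := List.mem_ofFn.1 ht
    have hm : w j ≫ f ∈ ⁅Subgroup.closure (Set.range (fun x : P ⟶ A => x ≫ a)),
        Subgroup.closure (Set.range (fun y : P ⟶ B => y ≫ b))⁆ := by
      show w j ≫ GrpGen20.commHom a b ∈ _
      rw [GrpGen20.comp_commHom]
      exact Subgroup.commutator_mem_commutator (hAr _) (hBr _)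
    split_ifs
    · exact hm
    · exact inv_mem hm
  · let R : Subgroup (P ⟶ G) :=
      { carrier := Set.range fun z : P ⟶ Γ => z ≫ i
        one_mem' := ⟨1, MonObj.one_comp i⟩
        mul_mem' := by rintro _ _ ⟨x, rfl⟩ ⟨y, rfl⟩; exact ⟨x * y, MonObj.mul_comp x y i⟩
        inv_mem' := by rintro _ ⟨x, rfl⟩; exact ⟨x⁻¹, GrpObj.inv_comp x i⟩ }
    have hle : ⁅Subgroup.closure (Set.range (fun x : P ⟶ A => x ≫ a)),
        Subgroup.closure (Set.range (fun y : P ⟶ B => y ≫ b))⁆ ≤ R := by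
      rw [Subgroup.commutator_le]
      intro u hu v hv
      let Ak : Subgroup (P ⟶ G) :=
        { carrier := Set.range fun z : P ⟶ A => z ≫ a
          one_mem' := ⟨1, MonObj.one_comp a⟩
          mul_mem' := by rintro _ _ ⟨x, rfl⟩ ⟨y, rfl⟩; exact ⟨x * y, MonObj.mul_comp x y a⟩
          inv_mem' := by rintro _ ⟨x, rfl⟩; exact ⟨x⁻¹, GrpObj.inv_comp x a⟩ }
      let Bk : Subgroup (P ⟶ G) :=
        { carrier := Set.range fun z : P ⟶ B => z ≫ b
          one_mem' := ⟨1, MonObj.one_comp b⟩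
          mul_mem' := by rintro _ _ ⟨x, rfl⟩ ⟨y, rfl⟩; exact ⟨x * y, MonObj.mul_comp x y b⟩
          inv_mem' := by rintro _ ⟨x, rfl⟩; exact ⟨x⁻¹, GrpObj.inv_comp x b⟩ }
      obtain ⟨x, rfl⟩ := (Subgroup.closure_le Ak).2 subset_rfl hu
      obtain ⟨y, rfl⟩ := (Subgroup.closure_le Bk).2 subset_rfl hv
      obtain ⟨f', hf'⟩ := hf
      refine ⟨lift x y ≫ f', ?_⟩
      show (lift x y ≫ f') ≫ i = _
      rw [Category.assoc, hf']
      show lift x y ≫ GrpGen20.commHom a b = _
      rw [GrpGen20.comp_commHom, lift_fst, lift_snd]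
    exact hle


end Groth.Agent.S6073
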