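import Groth.Statements.S6074
import Groth.Agent.Lib.GrpGen20.BoundedField

set_option autoImplicit false
universe u
open CategoryTheory CategoryTheory.Limits MonoidalCategory CartesianMonoidalCategory MonObj GrpObj AlgebraicGeometry
open SGA3

namespace Groth.Agent.S6074

/-- Let k be a field, G a group scheme locally of finite type over k, X a k-scheme of finite type,
geometrically reduced and geometrically connected, and f : X → G a k-morphism whose image contains
the unit point of G. Let i : Γ → G be the smallest closed subgroup scheme of G through which f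
factors. Then there is a natural number N such that the underlying set of Γ is the set of points of
G lying under a word of length N in f: a point g of G is in the image of i if and only if there are
a k-scheme T, a point p of T, T-valued points x_1, …, x_N of X and signs such that the T-valued
point f(x_1)^{±1} ⋯ f(x_N)^{±1} of G maps p to g. (The set of points of G lying under words of
length exactly N is the image of the N-th iterated word morphism X^N → G built from f and its
inverse.) -/
theorem result (k : Type u) [Field k]
    (G X : Over (Spec (CommRingCat.of k))) [GrpObj G] [LocallyOfFiniteType G.hom]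
    [LocallyOfFiniteType X.hom] [QuasiCompact X.hom] [GeometricallyReduced X.hom] [GeometricallyConnected X.hom]
    (f : X ⟶ G) (he : ∃ x : X.left, f.left.base x ∈ Set.range (η[G] : 𝟙_ (Over (Spec (CommRingCat.of k))) ⟶ G).left.base)
    (Γ : Over (Spec (CommRingCat.of k))) [GrpObj Γ] (i : Γ ⟶ G) [IsMonHom i] [IsClosedImmersion i.left]
    (hf : ∃ f' : X ⟶ Γ, f' ≫ i = f)
    (hmin : ∀ (Γ' : Over (Spec (CommRingCat.of k))) (_ : GrpObj Γ') (i' : Γ' ⟶ G), IsMonHom i' → IsClosedImmersion i'.left →
        (∃ f'' : X ⟶ Γ', f'' ≫ i' = f) → ∃ j : Γ ⟶ Γ', j ≫ i' = i) :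
    ∃ N : ℕ, Set.range i.left.base =
      {g : G.left | ∃ (T : Over (Spec (CommRingCat.of k))) (p : T.left) (x : Fin N → (T ⟶ X)) (ε : Fin N → Bool),
        ((List.ofFn fun j : Fin N => if ε j then x j ≫ f else (x j ≫ f)⁻¹).prod : T ⟶ G).left.base p = g} := by
  obtain ⟨x₀, p₀, hx₀⟩ := he
  rw [Subsingleton.elim (α := Spec (CommRingCat.of k)) p₀ (IsLocalRing.closedPoint k)] at hx₀
  let K := AlgebraicClosure k
  let σ : Spec (CommRingCat.of K) ⟶ Spec (CommRingCat.of k) := Spec.map (CommRingCat.ofHom (algebraMap k K))
  haveI : ConnectedSpace ↥(Red.bc σ X).left :=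
    GeometricallyConnected.geometrically_connectedSpace _ _ _ (IsPullback.of_hasPullback X.hom σ)
  haveI : Surjective σ := ⟨fun p => ⟨IsLocalRing.closedPoint K, Subsingleton.elim (α := PrimeSpectrum k) _ _⟩⟩
  obtain ⟨z, hz⟩ := (MorphismProperty.pullback_fst (P := @Surjective) X.hom σ inferInstance).surj x₀
  obtain ⟨n, W, -, hWn, hW⟩ := GrpGen20.exists_bound_field f σ fun x =>
    ⟨Set.univ, isPreconnected_univ, trivial, z, trivial, by rw [hz]; exact hx₀.symm⟩
  obtain ⟨Z, hZ, iz, hiz, hizc, hfz, -, hZr, -⟩ := GrpGen20.exists_generated f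
  obtain ⟨j, hj⟩ := hmin Z hZ iz hiz hizc hfz
  have hcl : Set.range i.left ⊆ closure (GrpGen20.wordSet f n) := by
    have h1 : Set.range i.left ⊆ closure (⋃ m, GrpGen20.wordSet f m) := by
      refine Set.Subset.trans ?_ (closure_mono (GrpGen20.genSet_subset_iUnion f))
      rw [← hZr, ← hj]
      rintro _ ⟨w, rfl⟩
      exact ⟨j.left w, by rw [AbRigid.left_comp_apply]⟩
    exact h1.trans (closure_minimal ((Set.iUnion_subset hW).trans
      (closure_minimal hWn isClosed_closure)) isClosed_closure)
  exact ⟨n + n, GrpGen20.range_eq_wordSet f i hf n hcl⟩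


end Groth.Agent.S6074
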