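import Groth.Statements.S6075
import Groth.Agent.Lib.GrpGen20.WordPoints

set_option autoImplicit false
universe u
open CategoryTheory CategoryTheory.Limits MonoidalCategory CartesianMonoidalCategory MonObj GrpObj AlgebraicGeometry
open SGA3

namespace Groth.Agent.S6075

/-- Let k be an algebraically closed field, G a group scheme locally of finite type over k, X a
geometrically reduced k-scheme locally of finite type, and f : X → G a k-morphism. Consider the
k-points g of G whose underlying point lies under a word in f: there are a k-scheme T, a point p of
T, n ≥ 0, T-valued points x_1, …, x_n of X and signs such that the T-valued point f(x_1)^{±1} ⋯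
f(x_n)^{±1} of G maps p to the point of g. These k-points form exactly the subgroup of G(k)
generated by the k-points of G whose underlying point lies in the image of f. (Words of length zero
are allowed here, so that the unit is on both sides when X is empty; for nonempty X this changes
nothing, while the published statement, with words of positive length only, fails for empty X.) -/
theorem result (k : Type u) [Field k] [IsAlgClosed k]
    (G X : Over (Spec (CommRingCat.of k))) [GrpObj G] [LocallyOfFiniteType G.hom]
    [LocallyOfFiniteType X.hom] [GeometricallyReduced X.hom] (f : X ⟶ G) :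
    {g : 𝟙_ (Over (Spec (CommRingCat.of k))) ⟶ G | ∃ (n : ℕ) (T : Over (Spec (CommRingCat.of k))) (p : T.left) (p₀ : (𝟙_ (Over (Spec (CommRingCat.of k)))).left)
        (x : Fin n → (T ⟶ X)) (ε : Fin n → Bool), ((List.ofFn fun j : Fin n => if ε j then x j ≫ f else (x j ≫ f)⁻¹).prod : T ⟶ G).left.base p = g.left.base p₀} =
      ((Subgroup.closure {g : 𝟙_ (Over (Spec (CommRingCat.of k))) ⟶ G | ∃ p₀ : (𝟙_ (Over (Spec (CommRingCat.of k)))).left, g.left.base p₀ ∈ Set.range f.left.base} :
        Subgroup (𝟙_ (Over (Spec (CommRingCat.of k))) ⟶ G)) : Set (𝟙_ (Over (Spec (CommRingCat.of k))) ⟶ G)) := by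
  exact GrpGen20.rational_words_eq_closure f


end Groth.Agent.S6075
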