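import Groth.Statements.S6077
import Groth.Agent.Lib.GrpGen20.BoundedNormal

set_option autoImplicit false
universe u
open CategoryTheory CategoryTheory.Limits MonoidalCategory CartesianMonoidalCategory MonObj GrpObj AlgebraicGeometry
open SGA3

namespace Groth.Agent.S6077

/-- Let k be an algebraically closed field, G a group scheme locally of finite type over k, X a
geometrically reduced k-scheme locally of finite type, f : X → G a k-morphism, and h : H → G a
closed subgroup scheme whose underlying set is contained in the image of f. Let i : Γ → G be the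
smallest closed subgroup scheme of G through which f factors. Say that a point of G lies under a
word of length n in f when there are a k-scheme T, a point p of T, T-valued points x_1, …, x_n of X
and signs such that f(x_1)^{±1} ⋯ f(x_n)^{±1} maps p to it; let Γ'₀ be the set of k-points of G
whose point lies under some word (of any length n ≥ 0). Suppose that Γ'₀ is covered by finitely many
left translates a · H(k) of the image of H(k) in G(k), with the a in Γ'₀ (H(k) has finite index in
Γ'₀). Then there is m such that the underlying set of Γ is the set of points of G lying under a word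
of length m, and there are finitely many k-points a_1, …, a_r of G such that the underlying set of Γ
is the union of the left translates a_j · H of the underlying set of H. -/
theorem result (k : Type u) [Field k] [IsAlgClosed k]
    (G X H : Over (Spec (CommRingCat.of k))) [GrpObj G] [GrpObj H] [LocallyOfFiniteType G.hom]
    [LocallyOfFiniteType X.hom] [GeometricallyReduced X.hom] (f : X ⟶ G)
    (h : H ⟶ G) [IsMonHom h] [IsClosedImmersion h.left] (hH : Set.range h.left.base ⊆ Set.range f.left.base)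
    (Γ : Over (Spec (CommRingCat.of k))) [GrpObj Γ] (i : Γ ⟶ G) [IsMonHom i] [IsClosedImmersion i.left]
    (hf : ∃ f' : X ⟶ Γ, f' ≫ i = f)
    (hmin : ∀ (Γ' : Over (Spec (CommRingCat.of k))) (_ : GrpObj Γ') (i' : Γ' ⟶ G), IsMonHom i' → IsClosedImmersion i'.left →
        (∃ f'' : X ⟶ Γ', f'' ≫ i' = f) → ∃ j : Γ ⟶ Γ', j ≫ i' = i)
    (hfin : ∃ F : Finset (𝟙_ (Over (Spec (CommRingCat.of k))) ⟶ G),
      (∀ a ∈ F, ∃ (n : ℕ) (T : Over (Spec (CommRingCat.of k))) (p : T.left) (p₀ : (𝟙_ (Over (Spec (CommRingCat.of k)))).left) (x : Fin n → (T ⟶ X)) (ε : Fin n → Bool),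
        ((List.ofFn fun j : Fin n => if ε j then x j ≫ f else (x j ≫ f)⁻¹).prod : T ⟶ G).left.base p = a.left.base p₀) ∧
      ∀ g : 𝟙_ (Over (Spec (CommRingCat.of k))) ⟶ G, (∃ (n : ℕ) (T : Over (Spec (CommRingCat.of k))) (p : T.left) (p₀ : (𝟙_ (Over (Spec (CommRingCat.of k)))).left) (x : Fin n → (T ⟶ X)) (ε : Fin n → Bool),
        ((List.ofFn fun j : Fin n => if ε j then x j ≫ f else (x j ≫ f)⁻¹).prod : T ⟶ G).left.base p = g.left.base p₀) →
        ∃ a ∈ F, ∃ y : 𝟙_ (Over (Spec (CommRingCat.of k))) ⟶ H, g = a * (y ≫ h)) :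
    (∃ m : ℕ, Set.range i.left.base =
      {g : G.left | ∃ (T : Over (Spec (CommRingCat.of k))) (p : T.left) (x : Fin m → (T ⟶ X)) (ε : Fin m → Bool),
        ((List.ofFn fun j : Fin m => if ε j then x j ≫ f else (x j ≫ f)⁻¹).prod : T ⟶ G).left.base p = g}) ∧
    ∃ F : Finset (𝟙_ (Over (Spec (CommRingCat.of k))) ⟶ G), Set.range i.left.base =
      ⋃ a ∈ F, (fun z => ((λ_ G).inv ≫ (a ▷ G) ≫ μ[G]).left.base z) '' Set.range h.left.base := by
  classical
  obtain ⟨F, hFw, hFcov⟩ := hfin
  let P := 𝟙_ (Over (Spec (CommRingCat.of k)))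
  let L : (P ⟶ G) → (G ⟶ G) := fun a => (λ_ G).inv ≫ (a ▷ G) ≫ μ[G]
  have hL : ∀ (a : P ⟶ G) {T : Over (Spec (CommRingCat.of k))} (g : T ⟶ G), g ≫ L a = (toUnit T ≫ a) * g := by
    intro a T g
    have hl : (λ_ G).inv = lift (toUnit G) (𝟙 G) := by
      apply CartesianMonoidalCategory.hom_ext <;> simp
    simp only [L, hl, ← Category.assoc, comp_lift, lift_whiskerRight, Category.comp_id]
    rw [toUnit_unique (g ≫ toUnit G) (toUnit T)]
    rfl
  have hLiso : ∀ a : P ⟶ G, IsIso (L a) := fun a => by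
    refine ⟨L a⁻¹, ?_, ?_⟩
    · rw [← Category.id_comp (L a), Category.assoc, ← Category.assoc (𝟙 G), hL, hL, ← _root_.mul_assoc,
        GrpObj.comp_inv, inv_mul_cancel, _root_.one_mul]
    · rw [← Category.id_comp (L a⁻¹), Category.assoc, ← Category.assoc (𝟙 G), hL, hL, ← _root_.mul_assoc,
        GrpObj.comp_inv, mul_inv_cancel, _root_.one_mul]
  let A : Set G.left := ⋃ a ∈ F, (L a).left '' Set.range h.left
  have hclosed : IsClosed A := by
    refine F.finite_toSet.isClosed_biUnion fun a _ => ?_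
    haveI : IsIso (L a).left := by haveI := hLiso a; exact inferInstanceAs (IsIso ((Over.forget _).map (L a)))
    exact (L a).left.homeomorph.isClosedMap _ h.left.isClosedEmbedding.isClosed_range
  have hpt : ∀ (a : P ⟶ G) (y : P ⟶ H), GrpGen20.pt (a * (y ≫ h)) ∈ (L a).left '' Set.range h.left := fun a y => by
    refine ⟨_, ⟨GrpGen20.pt y, rfl⟩, ?_⟩
    rw [← AbRigid.left_comp_apply, ← GrpGen20.pt_comp]
    congr 1
    rw [← Category.assoc, hL, toUnit_unique (toUnit P) (𝟙 P), Category.id_comp]
  have hsub : ∀ m, GrpGen20.wordSet f m ⊆ A := by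
    rintro m _ ⟨T, p, x, ε, rfl⟩
    obtain ⟨W, y, t, hW, hy⟩ := GrpGen20.exists_tuple X x
    haveI := hW
    haveI : JacobsonSpace W.left := LocallyOfFiniteType.jacobsonSpace W.hom
    rw [show x = fun j => t ≫ y j from (funext hy).symm, ← GrpGen20.comp_sval, AbRigid.left_comp_apply]
    have h1 : closedPoints W.left ⊆ (GrpGen20.sval f y ε).left ⁻¹' A := by
      intro w hw
      let pw : P ⟶ W := Over.homMk (pointOfClosedPoint W.hom w hw) (pointOfClosedPoint_comp W.hom w hw)
      have hpw : GrpGen20.pt pw = w := pointOfClosedPoint_apply W.hom w hw _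
      rw [Set.mem_preimage, ← hpw, ← GrpGen20.pt_comp, GrpGen20.comp_sval]
      obtain ⟨a, ha, z, hz⟩ := hFcov _ ⟨m, P, IsLocalRing.closedPoint k, IsLocalRing.closedPoint k,
        fun j => pw ≫ y j, ε, rfl⟩
      refine Set.mem_iUnion₂.2 ⟨a, ha, ?_⟩
      show GrpGen20.pt (GrpGen20.sval f (fun j => pw ≫ y j) ε) ∈ _
      rw [show GrpGen20.sval f (fun j => pw ≫ y j) ε = a * (z ≫ h) from hz]
      exact hpt a z
    exact closure_minimal h1 (hclosed.preimage (GrpGen20.sval f y ε).left.continuous) (closure_closedPoints.ge trivial)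
  have he : η[G].left (IsLocalRing.closedPoint k) ∈ Set.range f.left :=
    hH ⟨η[H].left (IsLocalRing.closedPoint k), by rw [← AbRigid.left_comp_apply, IsMonHom.one_hom]⟩
  choose nF TF pF p0F xF εF hFw using hFw
  let N := F.attach.sup fun a => nF a.1 a.2
  have hA : A ⊆ GrpGen20.wordSet f (N + 1) := by
    intro g hg
    obtain ⟨a, ha, z, hz, rfl⟩ := Set.mem_iUnion₂.1 hg
    rw [show L a = lift (toUnit G ≫ a) (𝟙 G) ≫ μ[G] by
      rw [← Category.id_comp (L a), hL, Hom.mul_def], AbRigid.left_comp_apply]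
    refine GrpGen20.mul_mem_wordSet f _ ?_ ?_
    · rw [← AbRigid.left_comp_apply, lift_fst, AbRigid.left_comp_apply,
        Subsingleton.elim (α := Spec (CommRingCat.of k)) ((toUnit G).left z) (p0F a ha)]
      exact GrpGen20.wordSet_mono f he (Finset.le_sup (f := fun a : F => nF a.1 a.2) (F.mem_attach ⟨a, ha⟩))
        ⟨TF a ha, pF a ha, xF a ha, εF a ha, hFw a ha⟩
    · rw [← AbRigid.left_comp_apply, lift_snd]
      exact GrpGen20.range_subset_wordSet f (hH hz)
  obtain ⟨Z, hZ, iz, hiz, hizc, hfz, -, hZr, -⟩ := GrpGen20.exists_generated f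
  obtain ⟨j, hj⟩ := hmin Z hZ iz hiz hizc hfz
  have h1 : Set.range i.left ⊆ A := by
    refine Set.Subset.trans ?_ (closure_minimal (Set.iUnion_subset hsub) hclosed)
    refine Set.Subset.trans ?_ (closure_mono (GrpGen20.genSet_subset_iUnion f))
    rw [← hZr, ← hj]
    rintro _ ⟨w, rfl⟩
    exact ⟨j.left w, by rw [AbRigid.left_comp_apply]⟩
  have h2 := GrpGen20.wordSet_subset_range f i hf (N + 1)
  exact ⟨⟨N + 1, (h1.trans hA).antisymm h2⟩, F, h1.antisymm (hA.trans h2)⟩


end Groth.Agent.S6077
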