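import Groth.Prelude.Def_SGA3
import Mathlib.RingTheory.RegularLocalRing.Defs
import Mathlib.RingTheory.KrullDimension.Basic
import Mathlib.LinearAlgebra.Matrix.Determinant.Basic
import Mathlib.RingTheory.Flat.Basic
import Mathlib.Algebra.Module.Projective
import Mathlib.RingTheory.FiniteType
import Mathlib.RingTheory.Finiteness.Defs
import Mathlib.RingTheory.HopfAlgebra.Basic
import Mathlib.RingTheory.TensorProduct.Basic
import Groth.Agent.Lib.LinGrp3.Basic
-- import your own Groth.Agent.* helpers here

namespace SGA3
end SGA3

set_option autoImplicit false
universe u
open TensorProduct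
open SGA3

namespace Groth.Agent.S6081

/-- Let R be a Noetherian ring and A a commutative Hopf algebra over R which is flat and of finite type
as an R-algebra, so that G = Spec A is an affine flat R-group scheme of finite type. Suppose that
the pair (G, Spec R) has the equivariant resolution property: for every A-comodule F which is
finitely generated as an R-module there are an A-comodule E which is finitely generated and
projective as an R-module and a surjective R-linear map E → F compatible with the coactions. Then
there are a natural number d and a d × d matrix (a_ij) of elements of A with Δ(a_ij) = Σ_l a_il ⊗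
a_lj and ε(a_ij) = δ_ij (a matrix corepresentation, i.e. a homomorphism G → GL_{d,R}) whose
determinant is a unit, such that A is generated as an R-algebra by the entries a_ij together with
the inverse of det(a_ij): G is a closed subgroup scheme of GL_{d,R}. (The published statement is
over a Noetherian scheme S, with G-equivariant coherent modules; this row is its assertion (ii), the
case S affine, in Hopf-algebra form.) -/
theorem result (R : Type u) [CommRing R] [IsNoetherianRing R]
    (A : Type u) [CommRing A] [HopfAlgebra R A] [Module.Flat R A] [Algebra.FiniteType R A]
    (hRE : ∀ (F : Type u) [AddCommGroup F] [Module R F] [HopfRep.Comod R A F] [Module.Finite R F],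
      ∃ (E : Type u) (_ : AddCommGroup E) (_ : Module R E) (_ : HopfRep.Comod R A E) (π : E →ₗ[R] F),
        Module.Finite R E ∧ Module.Projective R E ∧ Function.Surjective π ∧
        HopfRep.Comod.coact (k := R) (A := A) ∘ₗ π = π.rTensor A ∘ₗ HopfRep.Comod.coact (k := R) (A := A) (V := E)) :
    ∃ (d : ℕ) (a : Matrix (Fin d) (Fin d) A),
      (∀ i j, CoalgebraStruct.comul (R := R) (a i j) = ∑ l, a i l ⊗ₜ[R] a l j) ∧
      (∀ i j, CoalgebraStruct.counit (R := R) (a i j) = if i = j then 1 else 0) ∧
      ∃ u : A, u * a.det = 1 ∧ Algebra.adjoin R (Set.range (fun p : Fin d × Fin d => a p.1 p.2) ∪ {u}) = ⊤ := by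
  exact Groth.Agent.LinGrp3.linear_of_resolution hRE

end Groth.Agent.S6081
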