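import Groth.Statements.S6082
import Groth.Agent.Lib.CoQuot20.Main

set_option autoImplicit false
universe u
open TensorProduct
open SGA3

namespace Groth.Agent.S6082

/-- Let R be a Noetherian regular ring of Krull dimension at most 2, C a (coassociative, counital)
R-coalgebra which is projective as an R-module, and F a right C-comodule which is finitely generated
as an R-module. Then F is a quotient of a C-comodule which is finitely generated and projective as
an R-module: there are such a comodule V and a surjective R-linear map V → F compatible with the
coactions. -/
theorem result (R : Type u) [CommRing R] [IsRegularRing R]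
    (hdim : ringKrullDim R ≤ 2) (C : Type u) [AddCommGroup C] [Module R C] [Coalgebra R C] [Module.Projective R C]
    (F : Type u) [AddCommGroup F] [Module R F] [HopfRep.Comod R C F] [Module.Finite R F] :
    ∃ (V : Type u) (_ : AddCommGroup V) (_ : Module R V) (_ : HopfRep.Comod R C V) (φ : V →ₗ[R] F),
      Module.Finite R V ∧ Module.Projective R V ∧ Function.Surjective φ ∧ HopfRep.Comod.coact (k := R) (A := C) ∘ₗ φ = φ.rTensor C ∘ₗ HopfRep.Comod.coact (k := R) (A := C) (V := V) := by
  exact Groth.Agent.CoQuot20.exists_projective_cover R C hdim F


end Groth.Agent.S6082
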