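import Groth.Statements.S6083
import Groth.Agent.Lib.QSect20.Gen

set_option autoImplicit false
universe u
open CategoryTheory CategoryTheory.Limits MonoidalCategory CartesianMonoidalCategory MonObj GrpObj AlgebraicGeometry
open SGA3

namespace Groth.Agent.S6083

/-- Let f : X → S be a morphism locally of finite presentation, s a point of S, x a point of the fibre
X_s = f⁻¹(s), n the local dimension of X_s at x, q : 𝔸^n_S → S the affine n-space over S and u : X →
𝔸^n_S a locally quasi-finite morphism with u q = f. Suppose that f is universally open at the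
generic point z of an irreducible component Z of X_s which contains x and has dimension n. Then u is
universally open at x. -/
theorem result (X S : Scheme.{u}) (f : X ⟶ S) [LocallyOfFinitePresentation f]
    (s : S) (x : X) (hxs : f.base x = s) (n : ℕ)
    (u : X ⟶ 𝔸(ULift.{u} (Fin n); S)) [LocallyQuasiFinite u] (hu : u ≫ (𝔸(ULift.{u} (Fin n); S) ↘ S) = f)
    (Z : Set ↥(f.base ⁻¹' {s})) (hZ : Z ∈ irreducibleComponents ↥(f.base ⁻¹' {s})) (hxZ : x ∈ (Subtype.val '' Z))
    (z : X) (hz : z ∈ Subtype.val '' Z ∧ Subtype.val '' Z ⊆ closure {z}) (hopen : EGA43.IsUnivOpenAt f z)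
    (hdimZ : topologicalKrullDim ↥Z = n) (hdimx : FlatMor.localDim ↥(f.base ⁻¹' {s}) ⟨x, hxs⟩ = n) :
    EGA43.IsUnivOpenAt u x := by
  subst hxs
  obtain ⟨hzZ, hZcl⟩ := hz
  obtain ⟨⟨z', hz's⟩, hz'Z, rfl⟩ := hzZ
  have hzf : f z' = f x := hz's
  have hzx : z' ⤳ x := specializes_iff_mem_closure.2 (hZcl hxZ)
  have hmax : Groth.Agent.FibDim14.IsMaxFib f z' := by
    intro y hy he
    let y₀ : ↥(f.base ⁻¹' {f.base x}) := ⟨y, he.trans hzf⟩
    have hsub : Z ⊆ closure {y₀} := fun a ha => by
      rw [closure_subtype, Set.image_singleton]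
      exact (hy.trans (specializes_iff_mem_closure.2 (hZcl ⟨a, ha, rfl⟩))).mem_closure
    have hy₀ : y₀ ∈ Z := hZ.2 isIrreducible_singleton.closure hsub (subset_closure rfl)
    exact (hy.antisymm (specializes_iff_mem_closure.2 (hZcl ⟨_, hy₀, rfl⟩))).eq
  have hval : Subtype.val '' Z = closure {z'} ∩ f.base ⁻¹' {f.base z'} := by
    ext a
    constructor
    · rintro ⟨b, hb, rfl⟩
      exact ⟨hZcl ⟨b, hb, rfl⟩, b.2.trans hzf.symm⟩
    · rintro ⟨ha, has⟩
      refine ⟨⟨a, (Set.mem_singleton_iff.1 has).trans hzf⟩, ?_, rfl⟩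
      refine (Specializes.mem_closed ?_ (isClosed_of_mem_irreducibleComponents Z hZ) hz'Z)
      rw [subtype_specializes_iff]
      exact specializes_iff_mem_closure.2 ha
  have hd : Groth.Agent.FibDim14.rd f z' = n := by
    have h1 := (Topology.IsEmbedding.subtypeVal.homeomorphImage Z).isHomeomorph.topologicalKrullDim_eq
    rw [hdimZ, hval, (Groth.Agent.FibSub4.closure_fibre f z').1] at h1
    exact_mod_cast h1.symm
  exact Groth.Agent.QSect20.isUnivOpenAt_of_toAffineSpace f u hu hzx hzf hmax hd hopen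

end Groth.Agent.S6083
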