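import Groth.Statements.S6091
import Groth.Agent.Lib.GrpLimit2.Quotient

set_option autoImplicit false
set_option backward.isDefEq.respectTransparency false
universe u
open CategoryTheory CategoryTheory.Limits MonoidalCategory CartesianMonoidalCategory MonObj GrpObj AlgebraicGeometry
open SGA3

namespace Groth.Agent.S6091

/-- Let S be the limit of a cofiltered system (S_i) of quasi-compact quasi-separated schemes with affine
transition morphisms, j an index, X_j an S_j-scheme of finite presentation over S_j, and s_j, t_j :
R_j → X_j two S_j-morphisms (an equivalence relation on X_j) such that (s_j, t_j) : R_j → X_j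
×_{S_j} X_j is a monomorphism and s_j is flat with R_j of finite presentation over S_j. Say that the
quotient of a base change X by the base change R is representable when there are Y and a morphism p
: X → Y which is flat, surjective and locally of finite presentation such that the square s, t, p, p
is cartesian (R = X ×_Y X). Then the quotient is representable over S for the base changes to S if
and only if there is an index i over j such that it is representable over S_i for the base changes
to S_i. (The published statement is for representability of the fppf or fpqc quotient sheaf X/R; for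
R flat of finite presentation over X this is the existence of such a p. The published setting takes
all S_i affine over a fixed quasi-compact quasi-separated S_0.) -/
theorem result {I : Type u} [SmallCategory I] [IsCofiltered I]
    (D : I ⥤ Scheme.{u}) (c : Limits.Cone D) (hc : Limits.IsLimit c)
    [∀ (i i' : I) (f : i ⟶ i'), IsAffineHom (D.map f)] [∀ i, CompactSpace (D.obj i)] [∀ i, QuasiSeparatedSpace (D.obj i)]
    (j : I) (Xj Rj : Over (D.obj j))
    [LocallyOfFinitePresentation Xj.hom] [QuasiCompact Xj.hom] [QuasiSeparated Xj.hom]
    [LocallyOfFinitePresentation Rj.hom] [QuasiCompact Rj.hom] [QuasiSeparated Rj.hom]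
    (sj tj : Rj ⟶ Xj) [Mono (lift sj tj)] [Flat sj.left] :
    (∃ (Y : Over c.pt) (p : (Red.bc (c.π.app j) Xj) ⟶ Y), Flat p.left ∧ Surjective p.left ∧ LocallyOfFinitePresentation p.left ∧ IsPullback ((Over.pullback (c.π.app j)).map sj) ((Over.pullback (c.π.app j)).map tj) p p) ↔
    ∃ (i : I) (f : i ⟶ j), ∃ (Y : Over (D.obj i)) (p : (Red.bc (D.map f) Xj) ⟶ Y), Flat p.left ∧ Surjective p.left ∧ LocallyOfFinitePresentation p.left ∧ IsPullback ((Over.pullback (D.map f)).map sj) ((Over.pullback (D.map f)).map tj) p p := by
  haveI : ∀ {i i' : I} (f : i ⟶ i'), IsAffineHom (D.map f) := fun f => inferInstance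
  exact Groth.Agent.GrpLimit2.hasQ_iff_stage hc sj tj

end Groth.Agent.S6091
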