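import Groth.Statements.S6094
import Groth.Agent.Lib.GModComod21.Basic
-- import your own Groth.Agent.* helpers here

set_option autoImplicit false
universe u
open CategoryTheory MonObj GrpObj AlgebraicGeometry
open scoped TensorProduct
open SGA3

namespace Groth.Agent.S6094

/-- Let R be a commutative ring, A a commutative Hopf algebra over R, G = Spec A the corresponding
affine group scheme over Spec R, and E an R-module. A G-module structure on E (for every R-algebra
B, a natural action of the B-valued points of G on B ⊗_R E by B-linear automorphisms) and a right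
A-comodule structure δ : E → E ⊗_R A are said to correspond when, for every R-algebra B, every
B-valued point g of G with associated algebra map f : A → B and every x ∈ E, the point g sends 1 ⊗ x
to the image of δ(x) under E ⊗_R A → B ⊗_R E, y ⊗ a ↦ f(a) ⊗ y. Then every comodule structure on E
corresponds to exactly one G-module structure, and every G-module structure corresponds to exactly
one R-linear δ : E → E ⊗_R A which is coassociative and counital. -/
theorem result (R : Type u) [CommRing R] (A : Type u) [CommRing A] [HopfAlgebra R A]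
    (E : Type u) [AddCommGroup E] [Module R E] :
    (∀ [HopfRep.Comod R A E], ∃! m : VecGrp.GMod ((Spec (CommRingCat.of A)).asOver (Spec (CommRingCat.of R))) E,
        (∀ (B : Type u) [CommRing B] [Algebra R B] (g : VecGrp.pt R B ⟶ ((Spec (CommRingCat.of A)).asOver (Spec (CommRingCat.of R)))) (x : E),
          m.ρ B g ((1 : B) ⊗ₜ[R] x) =
            (TensorProduct.comm R E B) (LinearMap.lTensor E (Spec.mapMulEquiv.symm g).ofConv.toLinearMap (HopfRep.Comod.coact (k := R) (A := A) x)))) ∧
    (∀ m : VecGrp.GMod ((Spec (CommRingCat.of A)).asOver (Spec (CommRingCat.of R))) E, ∃! δ : E →ₗ[R] E ⊗[R] A,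
        ((TensorProduct.assoc R E A A).toLinearMap ∘ₗ δ.rTensor A ∘ₗ δ =
            (CoalgebraStruct.comul (R := R) (A := A)).lTensor E ∘ₗ δ ∧
          (CoalgebraStruct.counit (R := R) (A := A)).lTensor E ∘ₗ δ = (TensorProduct.mk R E R).flip 1) ∧
        (∀ (B : Type u) [CommRing B] [Algebra R B] (g : VecGrp.pt R B ⟶ ((Spec (CommRingCat.of A)).asOver (Spec (CommRingCat.of R)))) (x : E),
          m.ρ B g ((1 : B) ⊗ₜ[R] x) =
            (TensorProduct.comm R E B) (LinearMap.lTensor E (Spec.mapMulEquiv.symm g).ofConv.toLinearMap (δ x)))) := by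
  refine ⟨fun {_} => ?_, fun m => ?_⟩
  · refine ⟨GModComod21.modOf R A E, fun B _ _ g x => GModComod21.modOf_one_tmul g x, fun m hm => ?_⟩
    obtain ⟨ρ, nat⟩ := m
    have e : ρ = (GModComod21.modOf R A E).ρ := by
      funext B _ _
      refine MonoidHom.ext fun g => LinearEquiv.ext fun z => ?_
      exact GModComod21.ext_one_tmul (f := (ρ B g).toLinearMap) (f' := ((GModComod21.modOf R A E).ρ B g).toLinearMap)
        (fun x => (hm B g x).trans (GModComod21.modOf_one_tmul g x).symm) z
    subst e
    rfl
  · refine ⟨GModComod21.coactOf m, ⟨⟨GModComod21.coactOf_coassoc m, GModComod21.coactOf_counit m⟩,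
      fun B _ _ g x => ?_⟩, fun δ hδ => ?_⟩
    · have h := GModComod21.val_coactOf m (GModComod21.ofPt g) x
      rw [GModComod21.toPt_ofPt] at h
      exact h.symm
    · refine LinearMap.ext fun x => (TensorProduct.comm R E A).injective ?_
      have h1 := hδ.2 A (GModComod21.toPt (AlgHom.id R A)) x
      have h2 := GModComod21.val_coactOf m (AlgHom.id R A) x
      have h3 : ∀ d : E →ₗ[R] E ⊗[R] A, GModComod21.val d (AlgHom.id R A) x = TensorProduct.comm R E A (d x) := by
        intro d
        simp [GModComod21.val]
      have h4 : (Spec.mapMulEquiv.symm (GModComod21.toPt (AlgHom.id R A))).ofConv = AlgHom.id R A :=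
        GModComod21.ofPt_toPt _
      rw [h4] at h1
      rw [← h3, ← h3]
      exact h1.symm.trans h2.symm

end Groth.Agent.S6094
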