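import Groth.Statements.S6100
import Groth.Agent.Lib.RadH19.Basic
-- import your own Groth.Agent.* helpers here

set_option autoImplicit false
open CategoryTheory MonoidalCategory CartesianMonoidalCategory MonObj GrpObj AlgebraicGeometry
universe u
set_option backward.isDefEq.respectTransparency false
set_option backward.isDefEq.respectTransparency.types false
set_option maxSynthPendingDepth 3
open RedSub

namespace Groth.Agent.S6100

/-- Let G be a reductive S-group, H ⟶ G a subgroup of type (R) which is a reductive S-group, rad(H) ⟶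
Z(H) ⟶ H its radical, z : Z ⟶ G the centraliser of rad(H) in G, Z(Z) ⟶ Z the centre of Z and rad(Z)
⟶ Z(Z) a maximal torus. Then H ⊆ Centr_G(rad H), and rad(Centr_G(rad H)) = rad(H) as subgroups of G,
so that rad(H) is a C-critical torus (the radical of its own centraliser). -/
theorem result {S : Scheme.{u}} {G H ZH R Z ZZ RZ : Over S} [GrpObj G] [GrpObj H]
    [GrpObj ZH] [GrpObj R] [GrpObj Z] [GrpObj ZZ] [GrpObj RZ] (hG : Red.IsReductive G)
    (i : H ⟶ G) (hi : RedSub.IsTypeR i) (hH : Red.IsReductive H)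
    (jz : ZH ⟶ H) (hZH : Red.IsCentre jz) (r : R ⟶ ZH) (hR : Red.IsMaximalTorus r)
    (z : Z ⟶ G) (hZ : Red.IsCentralizerOf (r ≫ jz ≫ i) z)
    (jzz : ZZ ⟶ Z) (hZZ : Red.IsCentre jzz) (rz : RZ ⟶ ZZ) (hRZ : Red.IsMaximalTorus rz) :
    (∃ k : H ⟶ Z, k ≫ z = i) ∧ ∃ e : R ≅ RZ, e.hom ≫ rz ≫ jzz ≫ z = r ≫ jz ≫ i := by
  haveI := hi.1.1
  haveI := hi.1.2
  haveI : Mono i := Over.mono_of_mono_left i
  haveI := hZH.1
  haveI := hZH.2.1
  haveI := hR.1
  haveI := hR.2.1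
  haveI := hZZ.1
  haveI := hZZ.2.1
  haveI := hRZ.1
  haveI := hRZ.2.1
  haveI := hG.1
  haveI := hG.2.1
  haveI : IsMonHom (r ≫ jz ≫ i) := inferInstance
  haveI : Mono (r ≫ jz ≫ i) := inferInstance
  have hcommR : ∀ {X : Over S} (x : X ⟶ R) (g : X ⟶ H), (x ≫ r ≫ jz) * g = g * (x ≫ r ≫ jz) := fun {X} x g => by
    have h := (hZH.2.2 X ((x ≫ r) ≫ jz)).1 ⟨x ≫ r, rfl⟩ X (𝟙 X) g
    simpa only [Category.id_comp, Category.comp_id, Category.assoc] using h
  obtain ⟨k, hk⟩ := (hZ.2.2 H i).2 fun X' x h => by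
    have h1 := congrArg (· ≫ i) (hcommR h x)
    simp only [MonObj.mul_comp, Category.assoc] at h1
    exact h1.symm
  haveI := PMor16.isClosedImmersion_centralizer hG (r ≫ jz ≫ i) hR.2.2.1 z hZ
  haveI := hZ.1
  haveI := hZ.2.1
  haveI : IsAffineHom Z.hom := by rw [← Over.w z]; infer_instance
  haveI : Smooth Z.hom := by
    obtain ⟨Z', _, z', hz', -, hs⟩ := MTRigid29.exists_centralizer
      (MTRigid29.isMT_of_ft (TorPts21.isMultTypeFT_of_isTorus hR.2.2.1)) hG.2.1 hG.1 (r ≫ jz ≫ i)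
    haveI := hz'.2.1
    haveI := hs
    obtain ⟨u, hu⟩ := (hz'.2.2 Z z).2 ((hZ.2.2 Z z).1 ⟨𝟙 Z, Category.id_comp z⟩)
    obtain ⟨v, hv⟩ := (hZ.2.2 Z' z').2 ((hz'.2.2 Z' z').1 ⟨𝟙 Z', Category.id_comp z'⟩)
    haveI : IsIso u := ⟨v, (cancel_mono z).1 (by rw [Category.assoc, hv, hu, Category.id_comp]),
      (cancel_mono z').1 (by rw [Category.assoc, hu, hv, Category.id_comp])⟩
    haveI : IsIso u.left := inferInstanceAs (IsIso ((Over.forget _).map u))
    rw [← Over.w u]; infer_instance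
  have hcenZ : ∀ (X : Over S) (x : X ⟶ RZ) (g : X ⟶ Z),
      (x ≫ rz ≫ jzz) * g = g * (x ≫ rz ≫ jzz) := fun X x g => by
    have h := (hZZ.2.2 X ((x ≫ rz) ≫ jzz)).1 ⟨x ≫ rz, rfl⟩ X (𝟙 X) g
    simpa only [Category.id_comp, Category.comp_id, Category.assoc] using h
  obtain ⟨l, hl⟩ := RadH19.exists_factor hG i hi hH jz hZH r hR z k hk hRZ.2.2.1 (rz ≫ jzz) hcenZ
  obtain ⟨m, hm⟩ := PMor16.factor_radical hG (r ≫ jz ≫ i) hR.2.2.1 z hZ jzz hZZ rz hRZ hR.2.2.1 (r ≫ jz ≫ i)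
    (fun X x h => by
      have h1 := congrArg (· ≫ i) (hcommR x (h ≫ r ≫ jz))
      simpa only [MonObj.mul_comp, Category.assoc] using h1)
    (fun X x w => by
      have h1 := (hZ.2.2 X (w ≫ z)).1 ⟨w, rfl⟩ X (𝟙 X) x
      simp only [Category.id_comp] at h1
      exact h1.symm)
  rw [Category.assoc] at hl
  refine ⟨⟨k, hk⟩, ⟨m, l, ?_, ?_⟩, hm⟩
  · exact (cancel_mono (r ≫ jz ≫ i)).1 (by rw [Category.assoc, hl, hm, Category.id_comp])
  · haveI : Mono (rz ≫ jzz ≫ z) := inferInstance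
    exact (cancel_mono (rz ≫ jzz ≫ z)).1 (by rw [Category.assoc, hm, hl, Category.id_comp])

end Groth.Agent.S6100
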