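import Groth.Statements.S6101
import Groth.Agent.Lib.RedCell16.Tail

set_option linter.style.haveILetI false
set_option backward.isDefEq.respectTransparency false
set_option backward.isDefEq.respectTransparency.types false
-- import your own Groth.Agent.* helpers here

set_option autoImplicit false
open CategoryTheory MonoidalCategory CartesianMonoidalCategory MonObj GrpObj AlgebraicGeometry
universe u
open RedSub

namespace Groth.Agent.S6101

/-- On points: let G be a split reductive S-group (splitting D with torus T, lattice M and root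
homomorphisms u_a), fix a total order on M compatible with addition, and let a_1 < ⋯ < a_N be the
roots which are positive for it, enumerated increasingly by e. For i + m = N write U_{>i} for the
products u_{a_{i+1}}(y_1) ⋯ u_{a_N}(y_m) of points of G_a, taken in increasing order. Then: U_{>i}
is closed under products and inverses; it is normalised by the points of T and by the points of
U_{>0}; and conjugating a point of U_{>i} by a point of U_{>0} does not change its first factor y_1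
(inner automorphisms of U_{>0} act trivially on U_{>i}/U_{>i+1} = U_{a_{i+1}}). -/
theorem result {S : Scheme.{u}} {G : Over S} [GrpObj G] (D : Red.SplitRed G)
    [LinearOrder D.M] [IsOrderedAddMonoid D.M] {N : ℕ} (e : Fin N → D.idx) (he : Function.Injective e)
    (hrange : ∀ a : D.idx, a ∈ Set.range e ↔ 0 < D.P.root a) (hmono : StrictMono (fun k => D.P.root (e k)))
    (i m : ℕ) (h : i + m = N) :
    (∀ (X : Over S) (y y' : Fin m → (X ⟶ Red.Ga S)), ∃ z : Fin m → (X ⟶ Red.Ga S),
      (List.ofFn (fun k => z k ≫ D.u (e (Fin.cast h (Fin.natAdd i k))))).prod =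
        (List.ofFn (fun k => y k ≫ D.u (e (Fin.cast h (Fin.natAdd i k))))).prod *
          (List.ofFn (fun k => y' k ≫ D.u (e (Fin.cast h (Fin.natAdd i k))))).prod) ∧
    (∀ (X : Over S) (y : Fin m → (X ⟶ Red.Ga S)), ∃ z : Fin m → (X ⟶ Red.Ga S),
      (List.ofFn (fun k => z k ≫ D.u (e (Fin.cast h (Fin.natAdd i k))))).prod =
        ((List.ofFn (fun k => y k ≫ D.u (e (Fin.cast h (Fin.natAdd i k))))).prod)⁻¹) ∧
    (∀ (X : Over S) (t : X ⟶ D.T) (y : Fin m → (X ⟶ Red.Ga S)), ∃ z : Fin m → (X ⟶ Red.Ga S),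
      (List.ofFn (fun k => z k ≫ D.u (e (Fin.cast h (Fin.natAdd i k))))).prod =
        (t ≫ D.i) * (List.ofFn (fun k => y k ≫ D.u (e (Fin.cast h (Fin.natAdd i k))))).prod * (t ≫ D.i)⁻¹) ∧
    (∀ (X : Over S) (x : Fin N → (X ⟶ Red.Ga S)) (y : Fin m → (X ⟶ Red.Ga S)), ∃ z : Fin m → (X ⟶ Red.Ga S),
      (List.ofFn (fun k => z k ≫ D.u (e (Fin.cast h (Fin.natAdd i k))))).prod =
        (List.ofFn (fun k => x k ≫ D.u (e k))).prod *
          (List.ofFn (fun k => y k ≫ D.u (e (Fin.cast h (Fin.natAdd i k))))).prod *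
            ((List.ofFn (fun k => x k ≫ D.u (e k))).prod)⁻¹ ∧
      ∀ k : Fin m, (k : ℕ) = 0 → z k = y k) := by

  classical
  set ι' : Fin m → Fin N := fun k => Fin.cast h (Fin.natAdd i k) with hι
  rcases isEmpty_or_nonempty S with hS | hS
  · refine ⟨fun X y y' => ⟨y, ?_⟩, fun X y => ⟨y, ?_⟩, fun X t y => ⟨y, ?_⟩, fun X x y => ⟨y, ?_, fun k _ => rfl⟩⟩
    all_goals exact (RedCell16.hom_subsingleton X G).2.elim _ _
  obtain ⟨s⟩ := hS
  haveI := RedCell16.isReduced D s
  have O : RedCell16.IsOrdEnum D e := ⟨he, hrange, hmono⟩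
  have hu : ∀ l, IsMonHom (D.u (e l)) := fun l => (D.rootHom (e l)).1
  -- passage from tail vectors to full vectors
  have toFull : ∀ (X : Over S) (y : Fin m → (X ⟶ Red.Ga S)), ∃ v : Fin N → Γ(X.left, ⊤),
      (∀ l : Fin N, (l : ℕ) < i → v l = 0) ∧
      (List.ofFn (fun k => y k ≫ D.u (e (ι' k)))).prod = RedCell16.rp D e v ∧ ∀ k, v (ι' k) = Red.gaFn (y k) := by
    intro X y
    let v : Fin N → Γ(X.left, ⊤) := fun l =>
      if hl : i ≤ (l : ℕ) then Red.gaFn (y ⟨(l : ℕ) - i, by omega⟩) else 0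
    have hv : ∀ k, v (ι' k) = Red.gaFn (y k) := fun k => by
      simp only [v, ι', Fin.val_cast, Fin.val_natAdd, Nat.le_add_right, dite_true, Nat.add_sub_cancel_left]
    refine ⟨v, fun l hl => dif_neg (by omega), ?_, hv⟩
    rw [RedCell16.Fp_pts (fun k => D.u (e (ι' k))) y, RedCell16.rp_eq_Fp,
      RedCell16.Fp_tail h (fun l => D.u (e l)) hu v (fun l hl => dif_neg (by omega))]
    congr 1
    funext k
    exact (hv k).symm
  have ofFull : ∀ (X : Over S) (z : Fin N → Γ(X.left, ⊤)), (∀ l : Fin N, (l : ℕ) < i → z l = 0) →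
      (List.ofFn (fun k => GaPts.ptOfFn (z (ι' k)) ≫ D.u (e (ι' k)))).prod = RedCell16.rp D e z := fun X z hz => by
    rw [RedCell16.Fp_pts (fun k => D.u (e (ι' k))) (fun k => GaPts.ptOfFn (z (ι' k))), RedCell16.rp_eq_Fp,
      RedCell16.Fp_tail h (fun l => D.u (e l)) hu z hz]
    congr 1
    funext k
    exact GaPts.gaFn_ptOfFn _
  have key : ∀ (X : Over S) (w : X ⟶ G), w ∈ RedCell16.gens D (RedCell16.Tl D e i) X →
      ∃ z : Fin m → (X ⟶ Red.Ga S), (List.ofFn (fun k => z k ≫ D.u (e (ι' k)))).prod = w := fun X w hw => by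
    obtain ⟨z, hz, hzw⟩ := O.exists_coords hw
    exact ⟨fun k => GaPts.ptOfFn (z (ι' k)), (ofFull X z hz).trans hzw.symm⟩
  have mem : ∀ (X : Over S) (y : Fin m → (X ⟶ Red.Ga S)),
      (List.ofFn (fun k => y k ≫ D.u (e (ι' k)))).prod ∈ RedCell16.gens D (RedCell16.Tl D e i) X := fun X y => by
    obtain ⟨v, hv, hvy, -⟩ := toFull X y
    rw [hvy]
    exact O.rp_mem hv
  refine ⟨fun X y y' => key X _ (mul_mem (mem X y) (mem X y')), fun X y => key X _ (inv_mem (mem X y)),
    fun X t y => key X _ (RedCell16.torus_conj_gens D t (mem X y)), fun X x y => ?_⟩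
  obtain ⟨v, hv, hvy, hvk⟩ := toFull X y
  have hx : (List.ofFn (fun k => x k ≫ D.u (e k))).prod ∈ RedCell16.gens D (Set.range e) X := by
    rw [RedCell16.Fp_pts (fun k => D.u (e k)) x, ← RedCell16.rp_eq_Fp]
    exact RedCell16.rp_mem_gens D e _ fun l => ⟨l, rfl⟩
  obtain ⟨z, hz, hzw, hzi⟩ := O.exists_conj_coords hx hv
  refine ⟨fun k => GaPts.ptOfFn (z (ι' k)), ?_, fun k hk => GaPts.gaFn_injective ?_⟩
  · exact ((ofFull X z hz).trans hzw).trans (by rw [← hvy])
  · show Red.gaFn (GaPts.ptOfFn (z (ι' k))) = Red.gaFn (y k)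
    rw [GaPts.gaFn_ptOfFn, hzi _ (by simp [ι', hk]), hvk k]

end Groth.Agent.S6101
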