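import Groth.Statements.S6102
import Groth.Agent.Lib.RedCell16.TailPoly

set_option linter.style.haveILetI false
set_option backward.isDefEq.respectTransparency false
set_option backward.isDefEq.respectTransparency.types false
-- import your own Groth.Agent.* helpers here

set_option autoImplicit false
open CategoryTheory MonoidalCategory CartesianMonoidalCategory MonObj GrpObj AlgebraicGeometry
universe u
open RedSub

namespace Groth.Agent.S6102

/-- Existence, uniqueness and triangular form of the polynomial group law: let G be a split reductive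
S-group (splitting D with root homomorphisms u_a and lattice M), fix a total order on M compatible
with addition, and let a_1 < ⋯ < a_N be the positive roots, enumerated increasingly by e. Then there
is a unique family (Q_k) of polynomials in 2N variables over Γ(S, O_S) expressing the group law in
the coordinates x ↦ u_{a_1}(x_1) ⋯ u_{a_N}(x_N): for points x, y, z of G_a^N one has u(z) = u(x)
u(y) if and only if the coordinate of each z_k is Q_k(x, y); moreover Q_k = x_k + y_k + Q'_k with
Q'_k a polynomial in the x_j, y_j for j < k only. (The further assertion that the coefficients lie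
in the subring generated by the structure constants of the commutator formulas is not stated.) -/
theorem result {S : Scheme.{u}} {G : Over S} [GrpObj G] (D : Red.SplitRed G)
    [LinearOrder D.M] [IsOrderedAddMonoid D.M] {N : ℕ} (e : Fin N → D.idx) (he : Function.Injective e)
    (hrange : ∀ a : D.idx, a ∈ Set.range e ↔ 0 < D.P.root a) (hmono : StrictMono (fun k => D.P.root (e k))) :
    ∃! Q : Fin N → MvPolynomial (Fin N ⊕ Fin N) Γ(S, ⊤),
      (∀ (X : Over S) (x y z : Fin N → (X ⟶ Red.Ga S)),
        (List.ofFn (fun k => z k ≫ D.u (e k))).prod =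
            (List.ofFn (fun k => x k ≫ D.u (e k))).prod * (List.ofFn (fun k => y k ≫ D.u (e k))).prod ↔
          ∀ k, Red.gaFn (z k) = MvPolynomial.eval₂ X.hom.appTop.hom
            (Sum.elim (fun j => Red.gaFn (x j)) (fun j => Red.gaFn (y j))) (Q k)) ∧
      (∀ k : Fin N, ∀ v ∈ (Q k - MvPolynomial.X (Sum.inl k) - MvPolynomial.X (Sum.inr k)).vars,
        Sum.elim (fun j : Fin N => j < k) (fun j : Fin N => j < k) v) := by

  classical
  have pG : ∀ {X : Over S} (x : Fin N → (X ⟶ Red.Ga S)),
      (List.ofFn fun k => x k ≫ D.u (e k)).prod = RedCell16.rp D e fun k => Red.gaFn (x k) := fun x => by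
    rw [RedCell16.Fp_pts, RedCell16.rp_eq_Fp]
  let elim : ∀ {X : Over S}, (Fin N → Γ(X.left, ⊤)) → (Fin N → Γ(X.left, ⊤)) → Fin N ⊕ Fin N → Γ(X.left, ⊤) :=
    fun a b => Sum.elim a b
  rcases isEmpty_or_nonempty S with hS | hS
  · have hΓ : ∀ (X : Over S) (a b : Γ(X.left, ⊤)), a = b := fun X a b => by
      rw [← GaPts.gaFn_ptOfFn (T := X) a, ← GaPts.gaFn_ptOfFn (T := X) b]
      exact congrArg _ ((RedCell16.hom_subsingleton X _).2.elim _ _)
    refine ⟨fun k => MvPolynomial.X (Sum.inl k) + MvPolynomial.X (Sum.inr k),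
      ⟨fun X x y z => ⟨fun _ k => hΓ X _ _, fun _ => (RedCell16.hom_subsingleton X G).2.elim _ _⟩, fun k v hv => ?_⟩,
      fun Q hQ => funext fun k => RedCell16.pev_ext fun X v => hΓ X _ _⟩
    simp [MvPolynomial.vars_0] at hv
  obtain ⟨s⟩ := hS
  haveI := RedCell16.isReduced D s
  have O : RedCell16.IsOrdEnum D e := ⟨he, hrange, hmono⟩
  obtain ⟨R, -, hR⟩ := O.mul_pol (σ := Fin N ⊕ Fin N) N 0 (by omega)
    (fun _ v => RedCell16.rp D e fun l => RedCell16.pev v (MvPolynomial.X (Sum.inl l)))
    (fun _ v => RedCell16.rp D e fun l => RedCell16.pev v (MvPolynomial.X (Sum.inr l)))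
    ⟨_, fun l hl => absurd hl (Nat.not_lt_zero _), fun _ _ => rfl⟩
    ⟨_, fun l hl => absurd hl (Nat.not_lt_zero _), fun _ _ => rfl⟩
  have law : ∀ (X : Over S) (a b : Fin N → Γ(X.left, ⊤)),
      RedCell16.rp D e (fun l => RedCell16.pev (Sum.elim a b) (R l)) = RedCell16.rp D e a * RedCell16.rp D e b := by
    intro X a b
    rw [← hR X (Sum.elim a b)]
    simp only [RedCell16.pev, MvPolynomial.eval₂_X, Sum.elim_inl, Sum.elim_inr]
  let sub : Fin N → Fin N ⊕ Fin N → MvPolynomial (Fin N ⊕ Fin N) Γ(S, ⊤) := fun k v =>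
    if Sum.elim (fun j : Fin N => j < k) (fun j : Fin N => j < k) v then MvPolynomial.X v else 0
  let Q : Fin N → MvPolynomial (Fin N ⊕ Fin N) Γ(S, ⊤) := fun k =>
    MvPolynomial.X (Sum.inl k) + MvPolynomial.X (Sum.inr k) + MvPolynomial.bind₁ (sub k) (R k)
  have hQR : ∀ (X : Over S) (a b : Fin N → Γ(X.left, ⊤)) (k : Fin N),
      RedCell16.pev (Sum.elim a b) (Q k) = RedCell16.pev (Sum.elim a b) (R k) := by
    intro X a b k
    have h1 := O.coord_trunc k (law X a b) (law X (RedCell16.trunc (k : ℕ) a) (RedCell16.trunc (k : ℕ) b))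
    rw [h1]
    have h2 : RedCell16.pev (Sum.elim a b) (MvPolynomial.bind₁ (sub k) (R k)) =
        RedCell16.pev (Sum.elim (RedCell16.trunc (k : ℕ) a) (RedCell16.trunc (k : ℕ) b)) (R k) := by
      rw [RedCell16.pev, RedCell16.pev, ← MvPolynomial.coe_eval₂Hom, MvPolynomial.eval₂Hom_bind₁,
        ← MvPolynomial.coe_eval₂Hom]
      congr 2
      funext v
      rcases v with j | j <;>
      · by_cases hj : j < k
        · simp [sub, RedCell16.trunc, hj]
        · simp [sub, RedCell16.trunc, hj]
    simp only [RedCell16.pev, Q, MvPolynomial.eval₂_add, MvPolynomial.eval₂_X, Sum.elim_inl, Sum.elim_inr] at h2 ⊢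
    rw [h2]
  have char : ∀ (X : Over S) (x y z : Fin N → (X ⟶ Red.Ga S)),
      (List.ofFn (fun k => z k ≫ D.u (e k))).prod =
          (List.ofFn (fun k => x k ≫ D.u (e k))).prod * (List.ofFn (fun k => y k ≫ D.u (e k))).prod ↔
        ∀ k, Red.gaFn (z k) = MvPolynomial.eval₂ X.hom.appTop.hom
          (Sum.elim (fun j => Red.gaFn (x j)) (fun j => Red.gaFn (y j))) (Q k) := by
    intro X x y z
    rw [pG, pG, pG, ← law]
    refine ⟨fun h k => ?_, fun h => ?_⟩
    · show _ = RedCell16.pev _ (Q k)
      rw [hQR]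
      exact congrFun (O.rp_inj h) k
    · congr 1
      funext k
      rw [h k]
      exact hQR X _ _ k
  refine ⟨Q, ⟨char, fun k v hv => ?_⟩, fun Q' hQ' => funext fun k => RedCell16.pev_ext fun X w => ?_⟩
  · rw [show Q k - MvPolynomial.X (Sum.inl k) - MvPolynomial.X (Sum.inr k) = MvPolynomial.bind₁ (sub k) (R k) by
      simp only [Q]; abel] at hv
    obtain ⟨u, -, hu⟩ := Finset.mem_biUnion.1 (MvPolynomial.vars_bind₁ _ _ hv)
    by_cases hk : Sum.elim (fun j : Fin N => j < k) (fun j : Fin N => j < k) u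
    · simp only [sub, if_pos hk] at hu
      by_cases hnt : Nontrivial Γ(S, ⊤)
      · rw [MvPolynomial.vars_X, Finset.mem_singleton] at hu
        exact hu ▸ hk
      · haveI := not_nontrivial_iff_subsingleton.1 hnt
        rw [Subsingleton.elim (MvPolynomial.X u) (0 : MvPolynomial (Fin N ⊕ Fin N) Γ(S, ⊤))] at hu
        simp at hu
    · simp only [sub, if_neg hk, MvPolynomial.vars_0, Finset.notMem_empty] at hu
  · obtain ⟨z, -, hz⟩ := O.exists_coords (k := 0) (X := X)
      (mul_mem (O.rp_mem (v := fun j => w (Sum.inl j)) fun l hl => absurd hl (Nat.not_lt_zero _))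
        (O.rp_mem (v := fun j => w (Sum.inr j)) fun l hl => absurd hl (Nat.not_lt_zero _)))
    let x : Fin N → (X ⟶ Red.Ga S) := fun j => GaPts.ptOfFn (w (Sum.inl j))
    let y : Fin N → (X ⟶ Red.Ga S) := fun j => GaPts.ptOfFn (w (Sum.inr j))
    let z' : Fin N → (X ⟶ Red.Ga S) := fun j => GaPts.ptOfFn (z j)
    have hprod : (List.ofFn (fun k => z' k ≫ D.u (e k))).prod =
        (List.ofFn (fun k => x k ≫ D.u (e k))).prod * (List.ofFn (fun k => y k ≫ D.u (e k))).prod := by
      rw [pG, pG, pG]
      simp only [x, y, z', GaPts.gaFn_ptOfFn]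
      exact hz.symm
    have h1 := ((hQ'.1 X x y z').1 hprod k).symm.trans ((char X x y z').1 hprod k)
    have hw : Sum.elim (fun j => Red.gaFn (x j)) (fun j => Red.gaFn (y j)) = w := by
      funext v
      rcases v with j | j <;> simp [x, y, GaPts.gaFn_ptOfFn]
    rw [hw] at h1
    exact h1

end Groth.Agent.S6102
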