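import Groth.Statements.S6104
import Groth.Agent.Lib.PMor16.CoradHom

set_option linter.style.haveILetI false
set_option backward.isDefEq.respectTransparency false
set_option backward.isDefEq.respectTransparency.types false
-- import your own Groth.Agent.* helpers here

set_option autoImplicit false
open CategoryTheory MonoidalCategory CartesianMonoidalCategory MonObj GrpObj AlgebraicGeometry
universe u
open RedSub

namespace Groth.Agent.S6104

/-- Let G be a split reductive S-group (splitting D, T ≅ D_S(M), system of simple roots b, big cell Ω =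
U⁻ · T · U for enumerations of the negative and positive roots), N = {m | (α*, m) = 0 for all
coroots}, T' = D_S(M/N) ⊆ T and Ω' = U⁻ · T' · U. For every S-point w of G normalising T there is an
open V_w ⊆ G containing the unit section such that int(w)Ω' ∩ V_w ⊆ Ω': if g is a point of Ω' and
the point w g w⁻¹ of G lies in V_w, then w g w⁻¹ is a point of Ω'. -/
theorem result {S : Scheme.{u}} {G : Over S} [GrpObj G] (D : Red.SplitRed G)
    (b : D.P.Base) {n m : ℕ} (eneg : Fin n → D.idx) (epos : Fin m → D.idx)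
    (hneg : RedSub.Enumerates (RedSub.negRoots D.P b) eneg) (hpos : RedSub.Enumerates (RedSub.posRoots D.P b) epos)
    (N : AddSubgroup D.M) (hN : ∀ x : D.M, x ∈ N ↔ ∀ c : D.idx, D.P.coroot c x = 0)
    (w : 𝟙_ (Over S) ⟶ G)
    (hw : ∀ (X : Over S) (t : X ⟶ D.T), (∃ t' : X ⟶ D.T, (toUnit X ≫ w) * (t ≫ D.i) * (toUnit X ≫ w)⁻¹ = t' ≫ D.i) ∧
      (∃ t' : X ⟶ D.T, (toUnit X ≫ w)⁻¹ * (t ≫ D.i) * (toUnit X ≫ w) = t' ≫ D.i)) :
    ∃ V : Set ↥G.left, IsOpen V ∧ Set.range η[G].left.base ⊆ V ∧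
      ∀ (X : Over S) (g : X ⟶ RedSub.pow (Red.Ga S) n ⊗ (Red.DS S (D.M ⧸ N) ⊗ RedSub.pow (Red.Ga S) m)),
        Set.range ((toUnit X ≫ w) * (g ≫ ((fst _ _ ≫ RedSub.prodMap (Red.Ga S) n (fun k => D.u (eneg k))) *
        ((snd _ _ ≫ fst _ _ ≫ Red.DSmap S (QuotientAddGroup.mk' N) ≫ D.split.inv.hom.hom ≫ D.i) *
          (snd _ _ ≫ snd _ _ ≫ RedSub.prodMap (Red.Ga S) m (fun k => D.u (epos k)))))) * (toUnit X ≫ w)⁻¹).left.base ⊆ V →
        ∃ g' : X ⟶ RedSub.pow (Red.Ga S) n ⊗ (Red.DS S (D.M ⧸ N) ⊗ RedSub.pow (Red.Ga S) m),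
          (toUnit X ≫ w) * (g ≫ ((fst _ _ ≫ RedSub.prodMap (Red.Ga S) n (fun k => D.u (eneg k))) *
        ((snd _ _ ≫ fst _ _ ≫ Red.DSmap S (QuotientAddGroup.mk' N) ≫ D.split.inv.hom.hom ≫ D.i) *
          (snd _ _ ≫ snd _ _ ≫ RedSub.prodMap (Red.Ga S) m (fun k => D.u (epos k)))))) * (toUnit X ≫ w)⁻¹ = g' ≫ ((fst _ _ ≫ RedSub.prodMap (Red.Ga S) n (fun k => D.u (eneg k))) *
        ((snd _ _ ≫ fst _ _ ≫ Red.DSmap S (QuotientAddGroup.mk' N) ≫ D.split.inv.hom.hom ≫ D.i) *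
          (snd _ _ ≫ snd _ _ ≫ RedSub.prodMap (Red.Ga S) m (fun k => D.u (epos k))))) := by
  haveI := RedCell16.isOpenImmersion_cellMap D b eneg epos hneg hpos
  haveI := D.maximalTorus.1
  have hmk : ∀ (Y : Over S) (y₁ : Fin n → Γ(Y.left, ⊤)) (t : Y ⟶ D.T) (x₁ : Fin m → Γ(Y.left, ⊤)),
      (∀ a ∈ N, (RedCell16.chars D).ch t (Multiplicative.ofAdd a) = 1) →
      ∃ g' : Y ⟶ RedSub.pow (Red.Ga S) n ⊗ (Red.DS S (D.M ⧸ N) ⊗ RedSub.pow (Red.Ga S) m),
        RedCell16.cellPt D eneg epos y₁ t x₁ = g' ≫ ((fst _ _ ≫ RedSub.prodMap (Red.Ga S) n (fun k => D.u (eneg k))) *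
        ((snd _ _ ≫ fst _ _ ≫ Red.DSmap S (QuotientAddGroup.mk' N) ≫ D.split.inv.hom.hom ≫ D.i) *
          (snd _ _ ≫ snd _ _ ≫ RedSub.prodMap (Red.Ga S) m (fun k => D.u (epos k))))) := fun Y y₁ t x₁ h => by
    let ψ : D.M ⧸ N →+ Additive (Γ(Y.left, ⊤))ˣ := QuotientAddGroup.lift N
      (MonoidHom.toAdditiveRight ((RedCell16.chars D).ch t).toHomUnits) fun a ha =>
      AddMonoidHom.mem_ker.2 (congrArg Additive.ofMul (Units.ext (h a ha)))
    obtain ⟨q, hq⟩ := (DiagGL.charsDS S (D.M ⧸ N)).surj ((Units.coeHom _).comp (MonoidHom.toAdditiveRight.symm ψ))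
    refine ⟨lift (AttrBorel21.powPt n y₁) (lift q (AttrBorel21.powPt m x₁)), ?_⟩
    simp only [MonObj.comp_mul, lift_fst_assoc, lift_snd_assoc]
    rw [RedCell16.cellPt_eq, RedCell16.rp, RedCell16.rp, show t = q ≫ Red.DSmap S (QuotientAddGroup.mk' N) ≫ D.split.inv.hom.hom from
      (RedCell16.chars D).inj fun a => ?_]
    · simp only [Category.assoc]
    · show (DiagGL.charsDS S D.M).ch (_ ≫ D.split.hom.hom.hom) a = (DiagGL.charsDS S D.M).ch (_ ≫ D.split.hom.hom.hom) a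
      rw [Category.assoc, Category.assoc, show D.split.inv.hom.hom ≫ D.split.hom.hom.hom = 𝟙 _ by
        simp [← Grp.comp', ← Mon.comp_hom'], Category.comp_id, RedCell16.DSmap_ch, hq]
      rfl
  refine ⟨Set.range (RedSub.cellMap D eneg epos).left,
    (RedSub.cellMap D eneg epos).left.isOpenEmbedding.isOpen_range,
    Set.range_subset_iff.2 fun s => RedCell16.unit_mem D eneg epos s, ?_⟩
  intro X g hV
  obtain ⟨f, hf, -, hcell⟩ := PMor16.exists_torusHom D N hN hneg hpos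
  haveI := hf
  obtain ⟨y₃, t₃, x₃, h⟩ := RedCell16.exists_cellPt D eneg epos hneg hpos _ fun p => hV ⟨p, rfl⟩
  obtain ⟨g', hg'⟩ := hmk X y₃ t₃ x₃ fun a ha => by
    have key : ∀ {H : Over S} [GrpObj H] (F : G ⟶ H) [IsMonHom F], (∀ p q : X ⟶ H, p * q = q * p) →
        ∀ p q : X ⟶ G, (p * q * p⁻¹) ≫ F = q ≫ F := fun {H} _ F _ hc p q => by
      rw [MonObj.mul_comp, MonObj.mul_comp, GrpObj.inv_comp, hc (p ≫ F), mul_inv_cancel_right]
    have h1 := (key f (fun p q => (DiagGL.charsDS S N).inj fun c => by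
      rw [(DiagGL.charsDS S N).mul, (DiagGL.charsDS S N).mul, mul_comm]) _ _).symm.trans (congrArg (· ≫ f) h)
    simp only [hcell] at h1
    let t₀ : X ⟶ D.T := (g ≫ snd _ _ ≫ fst _ _) ≫ Red.DSmap S (QuotientAddGroup.mk' N) ≫ D.split.inv.hom.hom
    have h2 : g ≫ ((fst _ _ ≫ RedSub.prodMap (Red.Ga S) n (fun k => D.u (eneg k))) *
        ((snd _ _ ≫ fst _ _ ≫ Red.DSmap S (QuotientAddGroup.mk' N) ≫ D.split.inv.hom.hom ≫ D.i) *
          (snd _ _ ≫ snd _ _ ≫ RedSub.prodMap (Red.Ga S) m (fun k => D.u (epos k))))) =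
        RedCell16.cellPt D eneg epos (AttrBorel21.powFn n (g ≫ fst _ _)) t₀
          (AttrBorel21.powFn m (g ≫ snd _ _ ≫ snd _ _)) := by
      rw [RedCell16.cellPt_eq]
      simp only [t₀, MonObj.comp_mul, RedCell16.rp, AttrBorel21.powPt_powFn, Category.assoc]
    rw [h2, hcell] at h1
    have h3 := congrArg (fun z => (DiagGL.charsDS S N).ch z (Multiplicative.ofAdd (⟨a, ha⟩ : N))) h1
    simp only [← Category.assoc, RedCell16.DSmap_ch] at h3
    refine h3.symm.trans ?_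
    show (DiagGL.charsDS S D.M).ch (_ ≫ D.split.hom.hom.hom) _ = 1
    simp only [t₀]
    simp only [Category.assoc]
    rw [show D.split.inv.hom.hom ≫ D.split.hom.hom.hom = 𝟙 _ by
      simp [← Grp.comp', ← Mon.comp_hom'], Category.comp_id]
    simp only [← Category.assoc]
    rw [RedCell16.DSmap_ch,
      show AddMonoidHom.toMultiplicative (QuotientAddGroup.mk' N) (AddMonoidHom.toMultiplicative N.subtype (Multiplicative.ofAdd (⟨a, ha⟩ : N))) = 1 from
        congrArg Multiplicative.ofAdd ((QuotientAddGroup.eq_zero_iff a).2 ha), map_one]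
  exact ⟨g', h.trans hg'⟩

end Groth.Agent.S6104
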