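import Groth.Statements.S6105
import Groth.Agent.Lib.PMor16.CoradHom

set_option linter.style.haveILetI false
set_option backward.isDefEq.respectTransparency false
set_option backward.isDefEq.respectTransparency.types false
-- import your own Groth.Agent.* helpers here

set_option autoImplicit false
open CategoryTheory MonoidalCategory CartesianMonoidalCategory MonObj GrpObj AlgebraicGeometry
universe u
open RedSub

namespace Groth.Agent.S6105

/-- Let G be a split reductive S-group (splitting D, T ≅ D_S(M), system of simple roots b, enumerations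
of the negative and positive roots, U = ∏_{a > 0} U_a, U⁻ = ∏_{a < 0} U_a), N = {m | (α*, m) = 0 for
all coroots}, T' = D_S(M/N) ⊆ T and Ω' = U⁻ · T' · U. Then there is an open V₀ ⊆ G containing the
unit section such that U(S') U⁻(S') ∩ V₀(S') ⊆ Ω'(S') for every S': a product x y of a point x of U
and a point y of U⁻ which lies in V₀ is a point of Ω'. -/
theorem result {S : Scheme.{u}} {G : Over S} [GrpObj G]
    (D : Red.SplitRed G) (b : D.P.Base) {n m : ℕ} (eneg : Fin n → D.idx) (epos : Fin m → D.idx)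
    (hneg : RedSub.Enumerates (RedSub.negRoots D.P b) eneg) (hpos : RedSub.Enumerates (RedSub.posRoots D.P b) epos)
    (N : AddSubgroup D.M) (hN : ∀ x : D.M, x ∈ N ↔ ∀ c : D.idx, D.P.coroot c x = 0) :
    ∃ V : Set ↥G.left, IsOpen V ∧ Set.range η[G].left.base ⊆ V ∧
      ∀ (X : Over S) (x : X ⟶ RedSub.pow (Red.Ga S) m) (y : X ⟶ RedSub.pow (Red.Ga S) n),
        Set.range ((x ≫ RedSub.prodMap (Red.Ga S) m (fun k => D.u (epos k))) *
          (y ≫ RedSub.prodMap (Red.Ga S) n (fun k => D.u (eneg k)))).left.base ⊆ V →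
        ∃ g' : X ⟶ RedSub.pow (Red.Ga S) n ⊗ (Red.DS S (D.M ⧸ N) ⊗ RedSub.pow (Red.Ga S) m),
          (x ≫ RedSub.prodMap (Red.Ga S) m (fun k => D.u (epos k))) *
            (y ≫ RedSub.prodMap (Red.Ga S) n (fun k => D.u (eneg k))) = g' ≫ ((fst _ _ ≫ RedSub.prodMap (Red.Ga S) n (fun k => D.u (eneg k))) *
        ((snd _ _ ≫ fst _ _ ≫ Red.DSmap S (QuotientAddGroup.mk' N) ≫ D.split.inv.hom.hom ≫ D.i) *
          (snd _ _ ≫ snd _ _ ≫ RedSub.prodMap (Red.Ga S) m (fun k => D.u (epos k))))) := by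
  haveI := RedCell16.isOpenImmersion_cellMap D b eneg epos hneg hpos
  haveI := D.maximalTorus.1
  have hmk : ∀ (Y : Over S) (y₁ : Fin n → Γ(Y.left, ⊤)) (t : Y ⟶ D.T) (x₁ : Fin m → Γ(Y.left, ⊤)),
      (∀ a ∈ N, (RedCell16.chars D).ch t (Multiplicative.ofAdd a) = 1) →
      ∃ g' : Y ⟶ RedSub.pow (Red.Ga S) n ⊗ (Red.DS S (D.M ⧸ N) ⊗ RedSub.pow (Red.Ga S) m),
        RedCell16.cellPt D eneg epos y₁ t x₁ = g' ≫ ((fst _ _ ≫ RedSub.prodMap (Red.Ga S) n (fun k => D.u (eneg k))) *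
        ((snd _ _ ≫ fst _ _ ≫ Red.DSmap S (QuotientAddGroup.mk' N) ≫ D.split.inv.hom.hom ≫ D.i) *
          (snd _ _ ≫ snd _ _ ≫ RedSub.prodMap (Red.Ga S) m (fun k => D.u (epos k))))) := fun Y y₁ t x₁ h => by
    let ψ : D.M ⧸ N →+ Additive (Γ(Y.left, ⊤))ˣ := QuotientAddGroup.lift N
      (MonoidHom.toAdditiveRight ((RedCell16.chars D).ch t).toHomUnits) fun a ha =>
      AddMonoidHom.mem_ker.2 (congrArg Additive.ofMul (Units.ext (h a ha)))
    obtain ⟨q, hq⟩ := (DiagGL.charsDS S (D.M ⧸ N)).surj ((Units.coeHom _).comp (MonoidHom.toAdditiveRight.symm ψ))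
    refine ⟨lift (AttrBorel21.powPt n y₁) (lift q (AttrBorel21.powPt m x₁)), ?_⟩
    simp only [MonObj.comp_mul, lift_fst_assoc, lift_snd_assoc]
    rw [RedCell16.cellPt_eq, RedCell16.rp, RedCell16.rp, show t = q ≫ Red.DSmap S (QuotientAddGroup.mk' N) ≫ D.split.inv.hom.hom from
      (RedCell16.chars D).inj fun a => ?_]
    · simp only [Category.assoc]
    · show (DiagGL.charsDS S D.M).ch (_ ≫ D.split.hom.hom.hom) a = (DiagGL.charsDS S D.M).ch (_ ≫ D.split.hom.hom.hom) a
      rw [Category.assoc, Category.assoc, show D.split.inv.hom.hom ≫ D.split.hom.hom.hom = 𝟙 _ by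
        simp [← Grp.comp', ← Mon.comp_hom'], Category.comp_id, RedCell16.DSmap_ch, hq]
      rfl
  refine ⟨Set.range (RedSub.cellMap D eneg epos).left,
    (RedSub.cellMap D eneg epos).left.isOpenEmbedding.isOpen_range,
    Set.range_subset_iff.2 fun s => RedCell16.unit_mem D eneg epos s, ?_⟩
  intro X x y hV
  obtain ⟨y₃, t₃, x₃, h⟩ := RedCell16.exists_cellPt D eneg epos hneg hpos _ fun p => hV ⟨p, rfl⟩
  obtain ⟨g', hg'⟩ := hmk X y₃ t₃ x₃ fun a ha => by
    have h' := PMor16.char_mul_cell D hneg hpos ((hN a).1 ha) (y₁ := 0) (t₁ := 1) (x₁ := AttrBorel21.powFn m x)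
      (y₂ := AttrBorel21.powFn n y) (t₂ := 1) (x₂ := 0) (h.symm.trans (by
        rw [RedCell16.cellPt_eq, RedCell16.cellPt_eq, RedCell16.rp_zero_fn, RedCell16.rp_zero_fn, MonObj.one_comp]
        simp only [_root_.one_mul, _root_.mul_one, RedCell16.rp, AttrBorel21.powPt_powFn]))
    rwa [(RedCell16.chars D).one, _root_.one_mul] at h'
  exact ⟨g', h.trans hg'⟩

end Groth.Agent.S6105
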