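import Groth.Statements.S6106
import Groth.Agent.Lib.PMor16.CentralTorus

set_option linter.style.haveILetI false
set_option backward.isDefEq.respectTransparency false
set_option backward.isDefEq.respectTransparency.types false
-- import your own Groth.Agent.* helpers here

set_option autoImplicit false
open CategoryTheory MonoidalCategory CartesianMonoidalCategory MonObj GrpObj AlgebraicGeometry
universe u
open RedSub

namespace Groth.Agent.S6106

/-- Let G be a reductive S-group, q : Q ⟶ G a subtorus, Z = Centr_G(Q), Z(Z) its centre and rad(Z) ⟶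
Z(Z) a maximal torus. If q' : Q' ⟶ G is a subtorus containing Q which is C-critical (Q' is the
radical of its centraliser Z': it factors through the centre Z(Z') as a maximal torus of Z(Z')),
then rad(Centr_G(Q)) ⊆ Q' as subgroups of G. Since rad(Centr_G(Q)) contains Q and is itself
C-critical, this says it is the smallest C-critical torus of G containing Q. -/
theorem result {S : Scheme.{u}} {G Q Z ZZ RZ Q' Z' ZZ' : Over S} [GrpObj G]
    [GrpObj Q] [GrpObj Z] [GrpObj ZZ] [GrpObj RZ] [GrpObj Q'] [GrpObj Z'] [GrpObj ZZ'] (hG : Red.IsReductive G)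
    (q : Q ⟶ G) [IsMonHom q] [Mono q] (hQ : Red.IsTorus Q) (z : Z ⟶ G) (hZ : Red.IsCentralizerOf q z)
    (jzz : ZZ ⟶ Z) (hZZ : Red.IsCentre jzz) (rz : RZ ⟶ ZZ) (hRZ : Red.IsMaximalTorus rz)
    (q' : Q' ⟶ G) [IsMonHom q'] [Mono q'] (hQ' : Red.IsTorus Q') (k : Q ⟶ Q') (hk : k ≫ q' = q)
    (z' : Z' ⟶ G) (hZ' : Red.IsCentralizerOf q' z') (jzz' : ZZ' ⟶ Z') (hZZ' : Red.IsCentre jzz')
    (m' : Q' ⟶ ZZ') (hm' : m' ≫ jzz' ≫ z' = q') (hcrit : Red.IsMaximalTorus m') :
    ∃ l : RZ ⟶ Q', l ≫ q' = rz ≫ jzz ≫ z := by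
  obtain ⟨hzm, hzmono, hzu⟩ := hZ
  haveI := hzm
  haveI := hZZ'.1
  haveI := hZZ.1
  haveI := hRZ.1
  haveI : IsMonHom (rz ≫ jzz ≫ z) := inferInstance
  have hcommQ' : ∀ {X : Over S} (a b : X ⟶ Q'), a * b = b * a := fun a b =>
    MTRigid29.commute_of_isMultTypeFT (TorPts21.isMultTypeFT_of_isTorus hQ') a b
  -- points commuting with all of `Q'` lie in `Z`
  have hinZ : ∀ (X : Over S) (g : X ⟶ G),
      (∀ (X' : Over S) (x : X' ⟶ X) (h : X' ⟶ Q'), (x ≫ g) * (h ≫ q') = (h ≫ q') * (x ≫ g)) →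
      ∃ w : X ⟶ Z, w ≫ z = g := fun X g hg => (hzu X g).2 fun X' x h => by
    rw [← hk, ← Category.assoc h k q']; exact hg X' x (h ≫ k)
  have hcen : ∀ (X : Over S) (x : X ⟶ RZ) (w : X ⟶ Z),
      (x ≫ rz ≫ jzz ≫ z) * (w ≫ z) = (w ≫ z) * (x ≫ rz ≫ jzz ≫ z) := fun X x w => by
    have h1 := (hZZ.2.2 X ((x ≫ rz) ≫ jzz)).1 ⟨x ≫ rz, rfl⟩ X (𝟙 X) w
    have h2 := congrArg (· ≫ z) h1
    simpa only [MonObj.mul_comp, Category.id_comp, Category.assoc, Category.comp_id] using h2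
  obtain ⟨l, hl⟩ := PMor16.factor_radical hG q' hQ' z' hZ' jzz' hZZ' m' hcrit hRZ.2.2.1 (rz ≫ jzz ≫ z)
    (fun X x h => by
      obtain ⟨w, hw⟩ := hinZ X (h ≫ q') fun X' a b => by
        rw [← Category.assoc, ← MonObj.mul_comp, hcommQ', MonObj.mul_comp]
      rw [← hw]; exact hcen X x w)
    (fun X x w => by
      obtain ⟨v, hv⟩ := hinZ X (w ≫ z') fun X' a b => by
        have h := (hZ'.2.2 X' ((a ≫ w) ≫ z')).1 ⟨a ≫ w, rfl⟩ X' (𝟙 X') b
        simpa only [Category.id_comp, Category.assoc] using h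
      rw [← hv]; exact hcen X x v)
  exact ⟨l, by rw [← hm', hl]⟩

end Groth.Agent.S6106
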