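import Groth.Statements.S6107
import Groth.Agent.Lib.PMor16.CentralTorus
import Groth.Agent.Lib.PMor16.UnipTorus
import Groth.Agent.Lib.SubCartan21.Main
import Groth.Agent.Lib.CentMT21.Preimage
import Groth.Agent.Lib.AttrBorel21.MaxTori
import Groth.Agent.S3917
-- import your own Groth.Agent.* helpers here

set_option autoImplicit false
open CategoryTheory MonoidalCategory CartesianMonoidalCategory MonObj GrpObj AlgebraicGeometry
universe u
set_option backward.isDefEq.respectTransparency false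
set_option backward.isDefEq.respectTransparency.types false
set_option maxSynthPendingDepth 3
open RedSub

namespace Groth.Agent.S6107

/-- Let G be a reductive S-group, H ⟶ G a subgroup of type (R) which is a reductive S-group, rad(H) ⟶
Z(H) ⟶ H its radical and z : Z ⟶ G the centraliser of rad(H) in G. If H'' ⟶ G is a subgroup of type
(R), reductive, containing H and critical (H'' is the centraliser in G of its radical rad(H'')),
then Centr_G(rad H) ⊆ H'' as subgroups of G. Since Centr_G(rad H) contains H and is itself critical,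
this says it is the smallest critical reductive subgroup of type (R) of G containing H. -/
theorem result {S : Scheme.{u}} {G H ZH R Z H'' ZH'' R'' : Over S}
    [GrpObj G] [GrpObj H] [GrpObj ZH] [GrpObj R] [GrpObj Z] [GrpObj H''] [GrpObj ZH''] [GrpObj R'']
    (hG : Red.IsReductive G) (i : H ⟶ G) (hi : RedSub.IsTypeR i) (hH : Red.IsReductive H)
    (jz : ZH ⟶ H) (hZH : Red.IsCentre jz) (r : R ⟶ ZH) (hR : Red.IsMaximalTorus r)
    (z : Z ⟶ G) (hZ : Red.IsCentralizerOf (r ≫ jz ≫ i) z)
    (i'' : H'' ⟶ G) (hi'' : RedSub.IsTypeR i'') (hH'' : Red.IsReductive H'') (k : H ⟶ H'') (hk : k ≫ i'' = i)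
    (jz'' : ZH'' ⟶ H'') (hZH'' : Red.IsCentre jz'') (r'' : R'' ⟶ ZH'') (hR'' : Red.IsMaximalTorus r'')
    (hcrit : Red.IsCentralizerOf (r'' ≫ jz'' ≫ i'') i'') :
    ∃ l : Z ⟶ H'', l ≫ i'' = z := by
  obtain ⟨⟨hiM, hiI⟩, -, -, hiC, hiT⟩ := hi
  obtain ⟨⟨hiM'', hiI''⟩, -⟩ := hi''
  haveI := hiM
  haveI := hiI
  haveI := hiM''
  haveI := hiI''
  haveI : Mono i := Over.mono_of_mono_left i
  haveI : Mono i'' := Over.mono_of_mono_left i''
  haveI : IsMonHom k := TorsorSch25.isMonHom_of_points k fun X a b => (cancel_mono i'').1 (by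
    rw [Category.assoc, hk, MonObj.mul_comp, MonObj.mul_comp, Category.assoc, Category.assoc, hk])
  haveI : Mono k := by
    haveI : Mono (k ≫ i'') := by rw [hk]; infer_instance
    exact mono_of_mono k i''
  haveI := hH''.1
  haveI := hH''.2.1
  haveI := hH.1
  haveI := hH.2.1
  haveI := hR''.1
  haveI := hZH''.1
  haveI := hZH.1
  haveI := hZH.2.1
  have hcen : ∀ (X : Over S) (x : X ⟶ R'') (g : X ⟶ H''),
      (x ≫ r'' ≫ jz'') * g = g * (x ≫ r'' ≫ jz'') := fun X x g => by
    have h := (hZH''.2.2 X ((x ≫ r'') ≫ jz'')).1 ⟨x ≫ r'', rfl⟩ X (𝟙 X) g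
    simpa only [Category.id_comp, Category.comp_id, Category.assoc] using h
  obtain ⟨f, hf⟩ := SubCartan21.exists_lift_central k (CentMT21.connectedSpace_geomFibre H hiC) (fun s => by
    obtain ⟨T, _, t, htm, ht⟩ := hiT s
    haveI := htm
    set ks := (Over.pullback (Red.geomPt s)).map k
    set i''s := (Over.pullback (Red.geomPt s)).map i''
    haveI : IsMonHom ks := MTRigid29.isMonHom_map k _
    haveI : IsMonHom i''s := MTRigid29.isMonHom_map i'' _
    haveI : Mono i''s := Functor.map_mono _ _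
    rw [← hk, Functor.map_comp, ← Category.assoc] at ht
    obtain ⟨-, hm, hT, hmax⟩ := TorPts21.isMaxTorus_of_isMaximalTorus ht
    haveI := hm
    haveI : Mono (t ≫ ks) := mono_of_mono (t ≫ ks) i''s
    have hG'' := PMor16.isReductive_geomPt hH'' s
    haveI := hG''.1
    haveI := hG''.2.1
    have h'' : Red.IsMaximalTorus (t ≫ ks) := AttrBorel21.isMaximalTorus_of_isMaxTorus
      ⟨inferInstance, inferInstance, hT, fun T' _ j _ _ g hT' hg =>
        hmax T' (j ≫ i''s) g hT' (by rw [← Category.assoc, hg])⟩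
    exact ⟨T, inferInstance, t, inferInstance, inferInstance, T, inferInstance, t ≫ ks, h'',
      (S3917.result _ _ hG'' T (t ≫ ks) hT).1 h''⟩) (r'' ≫ jz'') hcen
  haveI : IsMonHom f := TorsorSch25.isMonHom_of_points f fun X a b => (cancel_mono k).1 (by
    rw [Category.assoc, hf, MonObj.mul_comp, MonObj.mul_comp, Category.assoc, Category.assoc, hf])
  obtain ⟨t₁, ht₁⟩ := (hZH.2.2 R'' f).2 fun X x g => (cancel_mono k).1 (by
    rw [Category.comp_id, MonObj.mul_comp, MonObj.mul_comp, Category.assoc, hf]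
    exact hcen X x (g ≫ k))
  haveI : IsMonHom t₁ := TorsorSch25.isMonHom_of_points t₁ fun X a b => (cancel_mono jz).1 (by
    rw [Category.assoc, ht₁, MonObj.mul_comp, MonObj.mul_comp, Category.assoc, Category.assoc, ht₁])
  obtain ⟨l, hl⟩ := PMor16.factor_maximalTorus jz hZH r hR hR''.2.2.1 t₁
  have hfac : l ≫ r ≫ jz ≫ i = r'' ≫ jz'' ≫ i'' := by
    rw [← Category.assoc, hl, ← Category.assoc, ht₁, ← hk, ← Category.assoc, hf, Category.assoc]
  refine (hcrit.2.2 Z z).2 fun X x h => ?_
  have h1 := (hZ.2.2 X (x ≫ z)).1 ⟨x, rfl⟩ X (𝟙 X) (h ≫ l)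
  rw [Category.id_comp, Category.assoc, hfac] at h1
  exact h1

end Groth.Agent.S6107
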