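import Groth.Statements.S6108
import Groth.Agent.Lib.RedCell16.Tail

set_option linter.style.haveILetI false
set_option backward.isDefEq.respectTransparency false
set_option backward.isDefEq.respectTransparency.types false
-- import your own Groth.Agent.* helpers here

set_option autoImplicit false
open CategoryTheory MonoidalCategory CartesianMonoidalCategory MonObj GrpObj AlgebraicGeometry
universe u
open RedSub

namespace Groth.Agent.S6108

/-- Let G be a split reductive S-group (splitting D with root homomorphisms u_a, lattice M), fix a total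
order on M compatible with addition, let a_1 < ⋯ < a_N be the positive roots enumerated increasingly
by e, and let f_1, …, f_N : G_a ⟶ H be homomorphisms into an S-group scheme H. Let F be the map
u_{a_1}(x_1) ⋯ u_{a_N}(x_N) ↦ f_1(x_1) ⋯ f_N(x_N) on points of U = U_{a_1} ⋯ U_{a_N}. Then F is
multiplicative if and only if, for all i < j and all points a, c of G_a, F applied to the
coordinates of u_{a_j}(c) u_{a_i}(a) u_{a_j}(c)⁻¹ equals f_j(c) f_i(a) f_j(c)⁻¹. (The published
statement allows H to be any group functor over S; this row takes H to be a group scheme over S.) -/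
theorem result {S : Scheme.{u}} {G H : Over S} [GrpObj G] [GrpObj H]
    (D : Red.SplitRed G) [LinearOrder D.M] [IsOrderedAddMonoid D.M] {N : ℕ} (e : Fin N → D.idx)
    (he : Function.Injective e) (hrange : ∀ a : D.idx, a ∈ Set.range e ↔ 0 < D.P.root a)
    (hmono : StrictMono (fun k => D.P.root (e k))) (f : Fin N → (Red.Ga S ⟶ H)) (hf : ∀ k, IsMonHom (f k)) :
    (∀ (X : Over S) (x y z : Fin N → (X ⟶ Red.Ga S)),
      (List.ofFn (fun k => z k ≫ D.u (e k))).prod =
          (List.ofFn (fun k => x k ≫ D.u (e k))).prod * (List.ofFn (fun k => y k ≫ D.u (e k))).prod →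
        (List.ofFn (fun k => z k ≫ f k)).prod =
          (List.ofFn (fun k => x k ≫ f k)).prod * (List.ofFn (fun k => y k ≫ f k)).prod) ↔
    (∀ (X : Over S) (i j : Fin N), i < j → ∀ (a c : X ⟶ Red.Ga S) (z : Fin N → (X ⟶ Red.Ga S)),
      (List.ofFn (fun k => z k ≫ D.u (e k))).prod = (c ≫ D.u (e j)) * (a ≫ D.u (e i)) * (c ≫ D.u (e j))⁻¹ →
        (List.ofFn (fun k => z k ≫ f k)).prod = (c ≫ f j) * (a ≫ f i) * (c ≫ f j)⁻¹) := by

  classical
  rcases isEmpty_or_nonempty S with hS | hS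
  · exact ⟨fun _ X i j _ a c z _ => (RedCell16.hom_subsingleton X H).2.elim _ _,
      fun _ X x y z _ => (RedCell16.hom_subsingleton X H).2.elim _ _⟩
  obtain ⟨s⟩ := hS
  haveI := RedCell16.isReduced D s
  have O : RedCell16.IsOrdEnum D e := ⟨he, hrange, hmono⟩
  have hu : ∀ l, IsMonHom (D.u (e l)) := fun l => (D.rootHom (e l)).1
  have pG : ∀ {X : Over S} (x : Fin N → (X ⟶ Red.Ga S)),
      (List.ofFn fun k => x k ≫ D.u (e k)).prod = RedCell16.rp D e fun k => Red.gaFn (x k) := fun x => by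
    rw [RedCell16.Fp_pts, RedCell16.rp_eq_Fp]
  have pt : ∀ {X : Over S} (v : Fin N → Γ(X.left, ⊤)),
      (fun k => Red.gaFn (GaPts.ptOfFn (v k) : X ⟶ Red.Ga S)) = v := fun v => funext fun k => GaPts.gaFn_ptOfFn _
  have sgl : ∀ {X : Over S} (l : Fin N) (a : Γ(X.left, ⊤)),
      RedCell16.rp D e (Pi.single l a) = RankOne.P (D.u (e l)) a := fun l a => by
    rw [RedCell16.rp_eq_Fp]; exact RedCell16.Fp_single _ hu l a
  have Pc : ∀ {X : Over S} {K : Over S} (g : Red.Ga S ⟶ K) (c : X ⟶ Red.Ga S),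
      c ≫ g = RankOne.P g (Red.gaFn c) := fun g c => by
    rw [RankOne.P, GaPts.gaFn_injective (GaPts.gaFn_ptOfFn (Red.gaFn c))]
  have memT : ∀ (l : Fin N) (k : ℕ), k ≤ (l : ℕ) → e l ∈ RedCell16.Tl D e k := fun l k hl => ⟨l, hl, rfl⟩
  constructor
  · intro L X i j _ a c z hz
    have L' : ∀ (v w u : Fin N → Γ(X.left, ⊤)), RedCell16.rp D e u = RedCell16.rp D e v * RedCell16.rp D e w →
        RedCell16.Fp f u = RedCell16.Fp f v * RedCell16.Fp f w := fun v w u huv => by
      have := L X (fun k => GaPts.ptOfFn (v k)) (fun k => GaPts.ptOfFn (w k)) (fun k => GaPts.ptOfFn (u k))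
        (by rw [pG, pG, pG, pt, pt, pt]; exact huv)
      rwa [RedCell16.Fp_pts, RedCell16.Fp_pts, RedCell16.Fp_pts, pt, pt, pt] at this
    rw [pG, Pc (D.u (e j)), Pc (D.u (e i))] at hz
    rw [RedCell16.Fp_pts, Pc (f j), Pc (f i)]
    have hmem : RankOne.P (D.u (e j)) (Red.gaFn c) * RankOne.P (D.u (e i)) (Red.gaFn a) ∈
        RedCell16.gens D (RedCell16.Tl D e 0) X :=
      mul_mem (RedCell16.P_mem_gens D (memT j 0 (Nat.zero_le _)) _) (RedCell16.P_mem_gens D (memT i 0 (Nat.zero_le _)) _)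
    obtain ⟨w, -, hw⟩ := O.exists_coords hmem
    have h1 := L' (Pi.single j (Red.gaFn c)) (Pi.single i (Red.gaFn a)) w (by rw [sgl, sgl]; exact hw.symm)
    have h2 := L' (fun k => Red.gaFn (z k)) (Pi.single j (Red.gaFn c)) w (by rw [sgl, hz, ← hw]; group)
    rw [RedCell16.Fp_single f hf, RedCell16.Fp_single f hf] at h1
    rw [RedCell16.Fp_single f hf, h1] at h2
    exact eq_mul_inv_of_mul_eq h2.symm
  · intro R X x y z hz
    let Φ : (X ⟶ G) → (X ⟶ H) := fun g =>
      if hg : ∃ v, g = RedCell16.rp D e v then RedCell16.Fp f hg.choose else 1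
    have hΦ : ∀ v, Φ (RedCell16.rp D e v) = RedCell16.Fp f v := fun v => by
      have hg : ∃ v', RedCell16.rp D e v = RedCell16.rp D e v' := ⟨v, rfl⟩
      simp only [Φ, dif_pos hg]
      exact congrArg (RedCell16.Fp f) (O.rp_inj hg.choose_spec).symm
    have hΦ1 : Φ 1 = 1 := by rw [← RedCell16.rp_zero_fn D e (X := X), hΦ, RedCell16.Fp_zero f hf]
    suffices main : ∀ t k : ℕ, N ≤ k + t → ∀ a b, a ∈ RedCell16.gens D (RedCell16.Tl D e k) X →
        b ∈ RedCell16.gens D (RedCell16.Tl D e k) X → Φ (a * b) = Φ a * Φ b by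
      rw [pG, pG, pG] at hz
      rw [RedCell16.Fp_pts, RedCell16.Fp_pts, RedCell16.Fp_pts, ← hΦ, ← hΦ, ← hΦ, hz]
      exact main N 0 (by omega) _ _ (O.rp_mem fun l hl => absurd hl (Nat.not_lt_zero _))
        (O.rp_mem fun l hl => absurd hl (Nat.not_lt_zero _))
    intro t
    induction t with
    | zero =>
      intro k hk a b ha hb
      have one : ∀ w ∈ RedCell16.gens D (RedCell16.Tl D e k) X, w = 1 := fun w hw => by
        obtain ⟨v, hv, rfl⟩ := O.exists_coords hw
        rw [show v = 0 from funext fun l => hv l (by omega), RedCell16.rp_zero_fn]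
      rw [one a ha, one b hb, _root_.mul_one, hΦ1, _root_.mul_one]
    | succ t ih =>
      intro k hk
      by_cases hkN : N ≤ k + t
      · exact ih k hkN
      have hkN' : k < N := by omega
      haveI := hu ⟨k, hkN'⟩
      haveI := hf ⟨k, hkN'⟩
      let p : Γ(X.left, ⊤) → (X ⟶ G) := RankOne.P (D.u (e ⟨k, hkN'⟩))
      let q : Γ(X.left, ⊤) → (X ⟶ H) := RankOne.P (f ⟨k, hkN'⟩)
      let U := RedCell16.gens D (RedCell16.Tl D e (k + 1)) X
      have hp : ∀ c, p c ∈ RedCell16.gens D (Set.range e) X := fun c => RedCell16.P_mem_gens D (Set.mem_range_self _) _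
      have hom : ∀ a b, a ∈ U → b ∈ U → Φ (a * b) = Φ a * Φ b := ih (k + 1) (by omega)
      have inv : ∀ a ∈ U, Φ a⁻¹ = (Φ a)⁻¹ := fun a ha => eq_inv_of_mul_eq_one_left (by
        rw [← hom _ _ (inv_mem ha) ha, inv_mul_cancel, hΦ1])
      have gen : ∀ (l : Fin N) (a : Γ(X.left, ⊤)), Φ (RankOne.P (D.u (e l)) a) = RankOne.P (f l) a :=
        fun l a => by rw [← sgl, hΦ, RedCell16.Fp_single f hf]
      have cons : ∀ (c : Γ(X.left, ⊤)), ∀ w ∈ U, Φ (p c * w) = q c * Φ w := by
        intro c w hw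
        obtain ⟨v, hv, rfl⟩ := O.exists_coords hw
        have h0 : v ⟨k, hkN'⟩ = 0 := hv _ (Nat.lt_succ_self k)
        have hv' : ∀ l : Fin N, (l : ℕ) < k → Function.update v ⟨k, hkN'⟩ c l = 0 := fun l hl => by
          rw [Function.update_of_ne (fun hlk => by rw [hlk] at hl; exact lt_irrefl _ hl)]
          exact hv l (by omega)
        have hup : Function.update (Function.update v ⟨k, hkN'⟩ c) ⟨k, hkN'⟩ 0 = v := by
          rw [Function.update_idem, ← h0, Function.update_eq_self]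
        have e1 := RedCell16.rp_split_first (D := D) (e := e) hkN' _ hv'
        rw [Function.update_self, hup] at e1
        have e2 := RedCell16.Fp_split f hf (Function.update v ⟨k, hkN'⟩ c) ⟨k, hkN'⟩ fun l hl => hv' l hl
        rw [Function.update_self, hup] at e2
        show Φ (RankOne.P (D.u (e ⟨k, hkN'⟩)) c * RedCell16.rp D e v) = _
        rw [← e1, hΦ, e2, hΦ]
      have cj : ∀ (d : Γ(X.left, ⊤)), ∀ w ∈ U,
          (p d)⁻¹ * w * p d ∈ U ∧ Φ ((p d)⁻¹ * w * p d) = (q d)⁻¹ * Φ w * q d := by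
        intro d w hw
        refine Subgroup.closure_induction ?_ ?_ ?_ ?_ hw
        · rintro _ ⟨r, a, ⟨l, hl, rfl⟩, rfl⟩
          have hg : RankOne.P (D.u (e l)) a ∈ RedCell16.gens D (Set.range e) X :=
            RedCell16.P_mem_gens D (Set.mem_range_self l) _
          have hwl : RankOne.P (D.u (e l)) a ∈ U := RedCell16.P_mem_gens D (memT l _ hl) _
          have hcen := O.central hg (q := e ⟨k, hkN'⟩) (k := k) ⟨⟨k, hkN'⟩, le_rfl, rfl⟩ d
          have hw0 : (p d)⁻¹ * (RankOne.P (D.u (e l)) a * p d * (RankOne.P (D.u (e l)) a)⁻¹) ∈ U := by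
            have h' : (p d)⁻¹ * _ * (p d)⁻¹⁻¹ ∈ U := O.conj_mem (inv_mem (hp d)) hcen
            rw [show (p d)⁻¹ * (RankOne.P (D.u (e l)) a * p d * (RankOne.P (D.u (e l)) a)⁻¹) = (p d)⁻¹ *
              (RankOne.P (D.u (e l)) a * p d * (RankOne.P (D.u (e l)) a)⁻¹ * (p d)⁻¹) * (p d)⁻¹⁻¹ by group]
            exact h'
          refine ⟨by simpa using O.conj_mem (inv_mem (hp d)) hwl, ?_⟩
          obtain ⟨v, hv, hvw⟩ := O.exists_coords (k := 0) (X := X)
            (w := RankOne.P (D.u (e l)) a * p d * (RankOne.P (D.u (e l)) a)⁻¹)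
            (by rw [RedCell16.Tl_zero]; exact mul_mem (mul_mem hg (hp d)) (inv_mem hg))
          have hrel := R X ⟨k, hkN'⟩ l hl (GaPts.ptOfFn d) (GaPts.ptOfFn a) (fun r => GaPts.ptOfFn (v r))
            (by rw [pG, pt, ← hvw]; rfl)
          rw [RedCell16.Fp_pts, pt, ← hΦ, ← hvw] at hrel
          have hc := cons d _ hw0
          rw [mul_inv_cancel_left, hrel] at hc
          have hcalc : (p d)⁻¹ * RankOne.P (D.u (e l)) a * p d =
              ((p d)⁻¹ * (RankOne.P (D.u (e l)) a * p d * (RankOne.P (D.u (e l)) a)⁻¹)) * RankOne.P (D.u (e l)) a := by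
            group
          rw [hcalc, hom _ _ hw0 hwl, gen, eq_inv_mul_of_mul_eq hc.symm]
          show (q d)⁻¹ * (RankOne.P (f l) a * q d * (RankOne.P (f l) a)⁻¹) * RankOne.P (f l) a = _
          group
        · simp [hΦ1]
        · intro x y hxU hyU hx hy
          have h' : (p d)⁻¹ * (x * y) * p d = ((p d)⁻¹ * x * p d) * ((p d)⁻¹ * y * p d) := by group
          refine ⟨h' ▸ mul_mem hx.1 hy.1, ?_⟩
          rw [h', hom _ _ hx.1 hy.1, hx.2, hy.2, hom _ _ hxU hyU]
          group
        · intro x hxU hx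
          have h' : (p d)⁻¹ * x⁻¹ * p d = ((p d)⁻¹ * x * p d)⁻¹ := by group
          refine ⟨h' ▸ inv_mem hx.1, ?_⟩
          rw [h', inv _ hx.1, hx.2, inv _ hxU]
          group
      intro a b ha hb
      have dec : ∀ w ∈ RedCell16.gens D (RedCell16.Tl D e k) X, ∃ c, ∃ w' ∈ U, w = p c * w' := fun w hw => by
        obtain ⟨v, hv, rfl⟩ := O.exists_coords hw
        exact ⟨_, _, O.rp_mem (RedCell16.supp_update hkN' v hv), RedCell16.rp_split_first hkN' v hv⟩
      obtain ⟨c, a', ha', rfl⟩ := dec a ha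
      obtain ⟨d, b', hb', rfl⟩ := dec b hb
      have hab : p c * a' * (p d * b') = p (c + d) * (((p d)⁻¹ * a' * p d) * b') := by
        simp only [p, RankOne.P_add]; group
      rw [hab, cons _ _ (mul_mem (cj d a' ha').1 hb'), hom _ _ (cj d a' ha').1 hb', (cj d a' ha').2,
        cons c a' ha', cons d b' hb']
      simp only [q, RankOne.P_add]
      group

end Groth.Agent.S6108
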