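import Groth.Statements.S6119
import Groth.Agent.Lib.RedCell16.Extend
import Groth.Agent.Lib.QuotFlat20.Basic
import Groth.Agent.Lib.MTRigid29.MonoClosedGlobal
import Groth.Agent.Lib.TorPts21.Cartan
import Groth.Agent.Lib.WEtaleH7.Misc
import Mathlib.AlgebraicGeometry.Morphisms.LocalFlatDescent

set_option autoImplicit false
open CategoryTheory MonoidalCategory CartesianMonoidalCategory MonObj GrpObj AlgebraicGeometry
universe u
open RedSub

namespace Groth.Agent.S6119

set_option backward.isDefEq.respectTransparency.types false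

variable {S : Scheme.{u}}

theorem act_comp {X G H : Over S} [GrpObj G] (k : H ⟶ G) (a : X ⟶ G) (h : X ⟶ H) :
    lift a h ≫ (G ◁ k) ≫ μ[G] = a * (h ≫ k) := by
  rw [← Category.assoc, lift_whiskerLeft]
  rfl

/-- Flatness descends along a flat surjective morphism at the source. -/
theorem flat_of_comp {X Y Z : Scheme.{u}} (f : X ⟶ Y) (g : Y ⟶ Z) [Flat f] [Surjective f] [Flat (f ≫ g)] :
    Flat g := by
  rw [Flat.iff_flat_stalkMap]
  intro y
  obtain ⟨x, rfl⟩ := f.surjective y
  have h2 : (f.stalkMap x).hom.Flat := Flat.stalkMap f x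
  have h3 : (f.stalkMap x).hom.FaithfullyFlat := by
    letI := (f.stalkMap x).hom.toAlgebra
    haveI : Module.Flat (Y.presheaf.stalk (f x)) (X.presheaf.stalk x) := h2
    haveI : IsLocalHom (algebraMap (Y.presheaf.stalk (f x)) (X.presheaf.stalk x)) :=
      inferInstanceAs (IsLocalHom (f.stalkMap x).hom)
    exact Module.FaithfullyFlat.of_flat_of_isLocalHom
  refine Groth.Agent.WEtaleH7.flat_of_comp_faithfullyFlat _ _ h3 ?_
  have h := Flat.stalkMap (f ≫ g) x
  rw [Scheme.Hom.stalkMap_comp] at h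
  exact h

/-- The identification G/H ≅ corad(G)/corad(H): let G be a reductive S-group, d : D ⟶ G its derived
group and f₀ : G ⟶ C its coradical (C commutative, D = Ker f₀, f₀ the fppf quotient G/D, D killed by
every homomorphism to a commutative S-group scheme). Let t : T'' ⟶ C be a subtorus, H = G x_C T''
its preimage under f₀ (with projections k : H ⟶ G and g : H ⟶ T''), and q : G ⟶ Q the fppf quotient
of G by H. Then q factors uniquely as f₀ followed by q' : C ⟶ Q, and q' exhibits Q as the fppf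
quotient of C by T''. -/
theorem result {S : Scheme.{u}} {G D C T'' H Q : Over S} [GrpObj G] [GrpObj D]
    [GrpObj C] [GrpObj T''] [GrpObj H] (hG : Red.IsReductive G) (d : D ⟶ G) [IsMonHom d]
    (f₀ : G ⟶ C) [IsMonHom f₀] (hC : ∀ (X : Over S) (a b : X ⟶ C), a * b = b * a) (hker : AlgGrp.IsKernel d f₀)
    (hquot : RedSub.IsQuotient d f₀) (hkill : RedSub.KilledByCommutative d)
    (t : T'' ⟶ C) [IsMonHom t] [Mono t] (hT'' : Red.IsTorus T'') (k : H ⟶ G) [IsMonHom k] (g : H ⟶ T'') [IsMonHom g]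
    (hsq : IsPullback k g f₀ t) (q : G ⟶ Q) (hq : RedSub.IsQuotient k q) :
    ∃! q' : C ⟶ Q, f₀ ≫ q' = q ∧ RedSub.IsQuotient t q' := by
  obtain ⟨hq1, hq2, hq3, hqs⟩ := hq
  obtain ⟨hf1, hf2, hf3, hfs⟩ := hquot
  haveI := hq1; haveI := hq2; haveI := hq3; haveI := hf1; haveI := hf2; haveI := hf3
  haveI hepi : Epi f₀ := by
    haveI : Epi f₀.left := Flat.epi_of_flat_of_surjective _
    exact Over.epi_of_epi_left _
  -- points of `G` with the same image in `Q` differ by `H`
  have hqinv : ∀ {X : Over S} (a : X ⟶ G) (h : X ⟶ H), (a * (h ≫ k)) ≫ q = a ≫ q := fun {X} a h => by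
    have := congrArg (fun z => lift a h ≫ z) hqs.w
    simp only [← Category.assoc, lift_fst] at this
    rw [← act_comp k a h, ← Category.assoc]
    simpa only [Category.assoc] using this.symm
  have hqrel : ∀ {X : Over S} (a b : X ⟶ G), a ≫ q = b ≫ q → ∃ h : X ⟶ H, b = a * (h ≫ k) := fun {X} a b e => by
    refine ⟨hqs.lift a b e ≫ snd G H, ?_⟩
    have h₁ := hqs.lift_fst a b e
    have h₂ := hqs.lift_snd a b e
    have h₃ : hqs.lift a b e = lift a (hqs.lift a b e ≫ snd G H) := by
      apply CartesianMonoidalCategory.hom_ext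
      · rw [h₁, lift_fst]
      · rw [lift_snd]
    rw [h₃] at h₂
    rw [← act_comp k]
    exact h₂.symm
  -- a point of `G` over `T''` lies in `H`
  have hlift : ∀ {X : Over S} (a : X ⟶ G) (x : X ⟶ T''), a ≫ f₀ = x ≫ t → ∃ h : X ⟶ H, h ≫ k = a :=
    fun {X} a x e => ⟨hsq.lift a x e, hsq.lift_fst a x e⟩
  have hconst : ∀ (Z : Over S) (a b : Z ⟶ G), a ≫ f₀ = b ≫ f₀ → a ≫ q = b ≫ q := by
    intro Z a b e
    obtain ⟨h, hh⟩ := hlift (a⁻¹ * b) 1 (by
      rw [MonObj.mul_comp, GrpObj.inv_comp, e, inv_mul_cancel, MonObj.one_comp])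
    rw [← hqinv a h, hh, mul_inv_cancel_left]
  obtain ⟨q', hq'⟩ := Groth.Agent.RedCell16.Extend.exists_desc f₀ q hconst
  -- descending the difference
  have hdiff : ∀ {X : Over S} (a b : X ⟶ C), a ≫ q' = b ≫ q' → ∃ x : X ⟶ T'', x ≫ t = a⁻¹ * b := by
    intro X a b e
    let π₁ : Over.mk (Limits.pullback.fst a.left f₀.left ≫ X.hom) ⟶ X :=
      Over.homMk (Limits.pullback.fst a.left f₀.left) rfl
    haveI : Flat π₁.left := inferInstanceAs (Flat (Limits.pullback.fst a.left f₀.left))
    haveI : Surjective π₁.left := inferInstanceAs (Surjective (Limits.pullback.fst a.left f₀.left))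
    haveI : LocallyOfFinitePresentation π₁.left :=
      inferInstanceAs (LocallyOfFinitePresentation (Limits.pullback.fst a.left f₀.left))
    let g₁ : Over.mk (Limits.pullback.fst a.left f₀.left ≫ X.hom) ⟶ G :=
      Over.homMk (Limits.pullback.snd a.left f₀.left) (by
        show Limits.pullback.snd a.left f₀.left ≫ G.hom = Limits.pullback.fst a.left f₀.left ≫ X.hom
        rw [← Over.w f₀, ← Over.w a, ← Limits.pullback.condition_assoc])
    have hg₁ : π₁ ≫ a = g₁ ≫ f₀ := Over.OverMorphism.ext Limits.pullback.condition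
    let π₂ : Over.mk (Limits.pullback.fst (π₁ ≫ b).left f₀.left ≫
        (Over.mk (Limits.pullback.fst a.left f₀.left ≫ X.hom)).hom) ⟶
        Over.mk (Limits.pullback.fst a.left f₀.left ≫ X.hom) :=
      Over.homMk (Limits.pullback.fst (π₁ ≫ b).left f₀.left) rfl
    haveI : Flat π₂.left := inferInstanceAs (Flat (Limits.pullback.fst (π₁ ≫ b).left f₀.left))
    haveI : Surjective π₂.left := inferInstanceAs (Surjective (Limits.pullback.fst (π₁ ≫ b).left f₀.left))
    haveI : LocallyOfFinitePresentation π₂.left :=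
      inferInstanceAs (LocallyOfFinitePresentation (Limits.pullback.fst (π₁ ≫ b).left f₀.left))
    let g₂ : Over.mk (Limits.pullback.fst (π₁ ≫ b).left f₀.left ≫
        (Over.mk (Limits.pullback.fst a.left f₀.left ≫ X.hom)).hom) ⟶ G :=
      Over.homMk (Limits.pullback.snd (π₁ ≫ b).left f₀.left) (by
        show Limits.pullback.snd (π₁ ≫ b).left f₀.left ≫ G.hom =
          Limits.pullback.fst (π₁ ≫ b).left f₀.left ≫ (Over.mk (Limits.pullback.fst a.left f₀.left ≫ X.hom)).hom
        rw [← Over.w f₀, ← Over.w (π₁ ≫ b), ← Limits.pullback.condition_assoc])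
    have hg₂ : π₂ ≫ π₁ ≫ b = g₂ ≫ f₀ := Over.OverMorphism.ext Limits.pullback.condition
    obtain ⟨h, hh⟩ := hqrel (π₂ ≫ g₁) g₂ (by
      rw [← hq', Category.assoc, ← reassoc_of% hg₁, ← reassoc_of% hg₂, e])
    have key : (h ≫ g) ≫ t = π₂ ≫ π₁ ≫ (a⁻¹ * b) := by
      rw [MonObj.comp_mul, MonObj.comp_mul, GrpObj.comp_inv, GrpObj.comp_inv, hg₂, hg₁, hh, MonObj.mul_comp,
        Category.assoc, Category.assoc, Category.assoc, hsq.w, inv_mul_cancel_left]
    obtain ⟨m, hm⟩ := Groth.Agent.QuotFlat20.exists_desc_mono π₂ (h ≫ g) t (π₁ ≫ (a⁻¹ * b)) key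
    exact Groth.Agent.QuotFlat20.exists_desc_mono π₁ m t (a⁻¹ * b) hm
  have hw : fst C T'' ≫ q' = ((C ◁ t) ≫ μ[C]) ≫ q' := by
    let π₀ : Over.mk (Limits.pullback.fst (fst C T'').left f₀.left ≫ (C ⊗ T'').hom) ⟶ C ⊗ T'' :=
      Over.homMk (Limits.pullback.fst (fst C T'').left f₀.left) rfl
    haveI : Flat π₀.left := inferInstanceAs (Flat (Limits.pullback.fst (fst C T'').left f₀.left))
    haveI : Surjective π₀.left := inferInstanceAs (Surjective (Limits.pullback.fst (fst C T'').left f₀.left))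
    haveI : Epi π₀.left := Flat.epi_of_flat_of_surjective _
    haveI : Epi π₀ := Over.epi_of_epi_left _
    let g₀ : Over.mk (Limits.pullback.fst (fst C T'').left f₀.left ≫ (C ⊗ T'').hom) ⟶ G :=
      Over.homMk (Limits.pullback.snd (fst C T'').left f₀.left) (by
        show Limits.pullback.snd (fst C T'').left f₀.left ≫ G.hom =
          Limits.pullback.fst (fst C T'').left f₀.left ≫ (C ⊗ T'').hom
        rw [← Over.w f₀, ← Over.w (fst C T''), ← Limits.pullback.condition_assoc])
    have hg₀ : π₀ ≫ fst C T'' = g₀ ≫ f₀ := Over.OverMorphism.ext Limits.pullback.condition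
    let π' : Over.mk (Limits.pullback.fst (π₀ ≫ snd C T'' ≫ t).left f₀.left ≫
        (Over.mk (Limits.pullback.fst (fst C T'').left f₀.left ≫ (C ⊗ T'').hom)).hom) ⟶
        Over.mk (Limits.pullback.fst (fst C T'').left f₀.left ≫ (C ⊗ T'').hom) :=
      Over.homMk (Limits.pullback.fst (π₀ ≫ snd C T'' ≫ t).left f₀.left) rfl
    haveI : Flat π'.left := inferInstanceAs (Flat (Limits.pullback.fst (π₀ ≫ snd C T'' ≫ t).left f₀.left))
    haveI : Surjective π'.left :=
      inferInstanceAs (Surjective (Limits.pullback.fst (π₀ ≫ snd C T'' ≫ t).left f₀.left))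
    haveI : Epi π'.left := Flat.epi_of_flat_of_surjective _
    haveI : Epi π' := Over.epi_of_epi_left _
    let g' : Over.mk (Limits.pullback.fst (π₀ ≫ snd C T'' ≫ t).left f₀.left ≫
        (Over.mk (Limits.pullback.fst (fst C T'').left f₀.left ≫ (C ⊗ T'').hom)).hom) ⟶ G :=
      Over.homMk (Limits.pullback.snd (π₀ ≫ snd C T'' ≫ t).left f₀.left) (by
        show Limits.pullback.snd (π₀ ≫ snd C T'' ≫ t).left f₀.left ≫ G.hom =
          Limits.pullback.fst (π₀ ≫ snd C T'' ≫ t).left f₀.left ≫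
            (Over.mk (Limits.pullback.fst (fst C T'').left f₀.left ≫ (C ⊗ T'').hom)).hom
        rw [← Over.w f₀, ← Over.w (π₀ ≫ snd C T'' ≫ t), ← Limits.pullback.condition_assoc])
    have hg' : π' ≫ π₀ ≫ snd C T'' ≫ t = g' ≫ f₀ := Over.OverMorphism.ext Limits.pullback.condition
    obtain ⟨h, hh⟩ := hlift g' (π' ≫ π₀ ≫ snd C T'') (by rw [← hg', Category.assoc, Category.assoc])
    have e : (C ◁ t) ≫ μ[C] = fst C T'' * (snd C T'' ≫ t) := by
      rw [← act_comp t (fst C T'') (snd C T''), lift_fst_snd, Category.id_comp]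
    rw [e, ← cancel_epi π₀, ← cancel_epi π', ← Category.assoc π₀ (_ * _) q', ← Category.assoc π' _ q',
      MonObj.comp_mul, MonObj.comp_mul, hg', hg₀, ← Category.assoc π' g₀ f₀, ← MonObj.mul_comp, Category.assoc,
      hq', ← hh, hqinv, reassoc_of% hg₀, hq', Category.assoc]
  have hpb : IsPullback (fst C T'') ((C ◁ t) ≫ μ[C]) q' q' := by
    refine ⟨⟨hw⟩, ⟨Limits.PullbackCone.IsLimit.mk hw (fun c => lift c.fst (hdiff c.fst c.snd c.condition).choose)
      (fun c => lift_fst _ _) (fun c => ?_) (fun c m h₁ h₂ => ?_)⟩⟩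
    · rw [act_comp, (hdiff c.fst c.snd c.condition).choose_spec, mul_inv_cancel_left]
    · apply CartesianMonoidalCategory.hom_ext
      · rw [h₁, lift_fst]
      · rw [lift_snd, ← cancel_mono t, (hdiff c.fst c.snd c.condition).choose_spec, eq_inv_mul_iff_mul_eq,
          Category.assoc, ← h₁, ← h₂, ← MonObj.comp_mul]
        congr 1
  refine ⟨q', ⟨hq', ?_⟩, fun y hy => by rw [← cancel_epi f₀, hy.1, hq']⟩
  haveI hs' : Surjective q'.left := by
    haveI : Surjective (f₀.left ≫ q'.left) := by rw [← Over.comp_left, hq']; infer_instance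
    exact Surjective.of_comp f₀.left q'.left
  haveI hfl' : Flat q'.left := by
    haveI : Flat (f₀.left ≫ q'.left) := by rw [← Over.comp_left, hq']; infer_instance
    exact flat_of_comp f₀.left q'.left
  refine ⟨hs', hfl', ?_, hpb⟩
  haveI : LocallyOfFinitePresentation T''.hom :=
    Groth.Agent.MTRigid29.lfp_of_isMultTypeFT (Groth.Agent.TorPts21.isMultTypeFT_of_isTorus hT'')
  haveI : LocallyOfFinitePresentation (fst C T'').left :=
    inferInstanceAs (LocallyOfFinitePresentation (Limits.pullback.fst C.hom T''.hom))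
  have hm : IsPullback ((C ◁ t) ≫ μ[C]).left (fst C T'').left q'.left q'.left :=
    (hpb.map (Over.forget S)).flip
  have big := (IsPullback.of_hasPullback f₀.left (fst C T'').left).flip.paste_horiz hm
  have hcomp : f₀.left ≫ q'.left = q.left := by rw [← Over.comp_left, hq']
  erw [hcomp] at big
  refine MorphismProperty.of_isPullback_of_descendsAlong (P := @LocallyOfFinitePresentation)
    (Q := @Surjective ⊓ @Flat ⊓ @LocallyOfFinitePresentation) big.flip ⟨⟨hq1, hq2⟩, hq3⟩ ?_
  exact MorphismProperty.pullback_fst _ _ ‹_›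

end Groth.Agent.S6119
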