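import Groth.Statements.S6120
import Mathlib.CategoryTheory.Limits.Shapes.Equalizers

set_option autoImplicit false
open CategoryTheory CategoryTheory.Limits Opposite
universe w v₁ v₂ u₁ u₂
open SGA4

namespace Groth.Agent.S6120

/-- Let `I` be a category with a family of objects `i α` (`α : A`) such that every binary product `i α ⨯
i β` exists in `I` and every object of `I` admits a morphism to some `i α`. Let `F : Iᵒᵖ ⥤ C` be a
functor, and assume that `C` has equalizers and that the products `∏ F (i α)` and `∏ F (i α ⨯ i β)`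
exist in `C`. Then the limit of `F` exists, the canonical map `lim F ⟶ ∏ F (i α)` is a monomorphism,
and a map `t : T ⟶ ∏ F (i α)` factors through `lim F` exactly when its composites with the two maps
`∏ F (i α) ⇉ ∏ F (i α ⨯ i β)` induced by the two projections agree: `lim F` is the equalizer of that
pair. (The published statement assumes that `C` has all limits of the size of `A`; only equalizers
and the two products named are assumed here, which is what the equalizer construction uses.) -/
theorem result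
    {I : Type u₁} [Category.{v₁} I] {C : Type u₂} [Category.{v₂} C] {A : Type w} (i : A → I)
    [∀ α β, HasBinaryProduct (i α) (i β)]
    (hcov : ∀ j : I, ∃ α, Nonempty (j ⟶ i α))
    (F : Iᵒᵖ ⥤ C) [HasEqualizers C]
    [HasProduct (fun α => F.obj (op (i α)))]
    [HasProduct (fun p : A × A => F.obj (op (i p.1 ⨯ i p.2)))] :
    HasLimit F ∧ ∀ [HasLimit F],
      Mono (Pi.lift (fun α => limit.π F (op (i α)))) ∧
      ∀ (T : C) (t : T ⟶ ∏ᶜ (fun α => F.obj (op (i α)))),
        (∃ s : T ⟶ limit F, s ≫ Pi.lift (fun α => limit.π F (op (i α))) = t) ↔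
        t ≫ Pi.lift (fun p : A × A =>
            Pi.π (fun α => F.obj (op (i α))) p.1 ≫ F.map (prod.fst : i p.1 ⨯ i p.2 ⟶ i p.1).op) =
        t ≫ Pi.lift (fun p : A × A =>
            Pi.π (fun α => F.obj (op (i α))) p.2 ≫ F.map (prod.snd : i p.1 ⨯ i p.2 ⟶ i p.2).op) := by
  classical
  choose idx hidx using hcov
  let Pi₁ := fun α => F.obj (op (i α))
  let a : (∏ᶜ Pi₁) ⟶ ∏ᶜ (fun p : A × A => F.obj (op (i p.1 ⨯ i p.2))) :=
    Pi.lift fun p => Pi.π Pi₁ p.1 ≫ F.map (prod.fst : i p.1 ⨯ i p.2 ⟶ i p.1).op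
  let b : (∏ᶜ Pi₁) ⟶ ∏ᶜ (fun p : A × A => F.obj (op (i p.1 ⨯ i p.2))) :=
    Pi.lift fun p => Pi.π Pi₁ p.2 ≫ F.map (prod.snd : i p.1 ⨯ i p.2 ⟶ i p.2).op
  have hind : ∀ {T : C} (t : T ⟶ ∏ᶜ Pi₁), t ≫ a = t ≫ b → ∀ {α β : A} {j : I} (g : j ⟶ i α) (g' : j ⟶ i β),
      t ≫ Pi.π Pi₁ α ≫ F.map g.op = t ≫ Pi.π Pi₁ β ≫ F.map g'.op := by
    intro T t h α β j g g'
    have h' := congrArg (fun m => m ≫ Pi.π (fun p : A × A => F.obj (op (i p.1 ⨯ i p.2))) (α, β) ≫
      F.map (prod.lift g g').op) h
    simp only [a, b, Category.assoc, Pi.lift_π_assoc, ← Functor.map_comp, ← op_comp] at h'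
    erw [Limits.prod.lift_fst, Limits.prod.lift_snd] at h'
    exact h'
  let c : Cone F :=
    { pt := equalizer a b
      π :=
        { app := fun j => equalizer.ι a b ≫ Pi.π Pi₁ (idx j.unop) ≫ F.map (hidx j.unop).some.op
          naturality := fun j k f => by
            refine (Category.id_comp _).trans (Eq.trans ?_ (Category.assoc _ _ _).symm)
            rw [Category.assoc, ← F.map_comp]
            exact hind _ (equalizer.condition a b) (hidx k.unop).some (f.unop ≫ (hidx j.unop).some) } }
  have hcomp : ∀ (s : Cone F), Pi.lift (fun α => s.π.app (op (i α))) ≫ a =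
      Pi.lift (fun α => s.π.app (op (i α))) ≫ b := fun s => Pi.hom_ext _ _ fun p => by
    simp [a, b, Pi₁]
  have hπ : ∀ (s : Cone F) (j : Iᵒᵖ) (α : A) (g : j.unop ⟶ i α),
      s.π.app j = s.π.app (op (i α)) ≫ F.map g.op := fun s j α g => (s.w g.op).symm
  let hc : IsLimit c :=
    { lift := fun s => equalizer.lift (Pi.lift fun α => s.π.app (op (i α))) (hcomp s)
      fac := fun s j => by
        simp only [c]
        rw [equalizer.lift_ι_assoc, Pi.lift_π_assoc]
        exact (hπ s j _ _).symm
      uniq := fun s m hm => equalizer.hom_ext (Pi.hom_ext _ _ fun α => by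
        rw [equalizer.lift_ι, Pi.lift_π, ← hm (op (i α)), Category.assoc]
        refine congrArg (m ≫ ·) ?_
        have h' := hind _ (equalizer.condition a b) (𝟙 (i α)) (hidx (i α)).some
        simp only [op_id, F.map_id] at h'
        erw [Category.comp_id] at h'
        exact h') }
  refine ⟨⟨c, hc⟩, fun {_} => ⟨⟨fun {T} x y h => limit.hom_ext fun j => ?_⟩, fun T t => ⟨?_, fun h => ?_⟩⟩⟩
  · have := congrArg (fun m => m ≫ Pi.π Pi₁ (idx j.unop) ≫ F.map (hidx j.unop).some.op) h
    simpa [Pi₁] using this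
  · rintro ⟨s, rfl⟩
    refine Pi.hom_ext _ _ fun p => ?_
    simp
  · refine ⟨equalizer.lift t h ≫ ((limit.isLimit F).conePointUniqueUpToIso hc).inv, Pi.hom_ext _ _ fun α => ?_⟩
    have h' := hind t h (hidx (i α)).some (𝟙 (i α))
    simp only [Category.assoc, Pi.lift_π]
    erw [IsLimit.conePointUniqueUpToIso_inv_comp]
    simp only [c]
    erw [equalizer.lift_ι_assoc]
    simp only [op_id, F.map_id] at h'
    erw [Category.comp_id] at h'
    exact h'

end Groth.Agent.S6120
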