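import Groth.Statements.S6121
-- import your own Groth.Agent.* helpers here

set_option autoImplicit false
open CategoryTheory
universe v₁ v₂ u₁ u₂
open SGA4

namespace Groth.Agent.S6121

/-- For a fibered functor `p : E ⥤ B` (every morphism of `B` has a cartesian lift with prescribed
codomain, and cartesian morphisms compose), `p` reflects isomorphisms if and only if every fibre
category of `p` (objects over `b`, morphisms lying over the identity of `b`) is a groupoid. -/
theorem result
    {B : Type u₁} [Category.{v₁} B] {E : Type u₂} [Category.{v₂} E] (p : E ⥤ B) [p.IsFibered] :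
    p.ReflectsIsomorphisms ↔ ∀ b : B, IsGroupoid (p.Fiber b) := by
  constructor
  · intro hp b
    refine ⟨fun {x y} g => ?_⟩
    have : IsIso (p.map g.1) := by
      have := g.2
      rw [IsHomLift.fac' p (𝟙 b) g.1]; infer_instance
    have := g.2
    have hg : IsIso g.1 := isIso_of_reflects_iso g.1 p
    have : p.IsHomLift (𝟙 b) (inv g.1) := by
      have := IsHomLift.inv p (𝟙 b) g.1
      simpa using this
    exact ⟨⟨⟨inv g.1, this⟩, Functor.Fiber.hom_ext (by simp [Functor.Fiber.fiberInclusion]),
      Functor.Fiber.hom_ext (by simp [Functor.Fiber.fiberInclusion])⟩⟩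
  · intro h
    refine ⟨fun {X Y} f hf => ?_⟩
    obtain ⟨Z, φ, hφ⟩ := IsPreFibered.exists_isCartesian p rfl (p.map f)
    have e1 := Functor.IsCartesian.fac p (p.map f) φ f
    have hZ : p.obj Z = p.obj X := IsHomLift.domain_eq p (p.map f) φ
    have hiso : IsIso φ := Functor.IsStronglyCartesian.isIso_of_base_isIso p (p.map f) φ
    let m : Functor.Fiber.mk (p := p) rfl ⟶ Functor.Fiber.mk hZ :=
      Functor.Fiber.homMk p (p.obj X) (Functor.IsCartesian.map p (p.map f) φ f)
    have : IsIso m := (h (p.obj X)).all_isIso m
    have : IsIso (Functor.IsCartesian.map p (p.map f) φ f) :=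
      (inferInstance : IsIso (Functor.Fiber.fiberInclusion.map m))
    rw [← e1]; infer_instance

end Groth.Agent.S6121
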