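import Groth.Statements.S6122
-- import your own Groth.Agent.* helpers here

set_option autoImplicit false
open CategoryTheory
universe v₁ v₂ u₁ u₂
open SGA4

namespace Groth.Agent.S6122

/-- For a fibered functor `p : E ⥤ B` (every morphism of `B` has a cartesian lift with prescribed
codomain, and cartesian morphisms compose), `p` is faithful if and only if every fibre category of
`p` (objects over `b`, morphisms lying over the identity of `b`) has at most one morphism between
any two objects. -/
theorem result
    {B : Type u₁} [Category.{v₁} B] {E : Type u₂} [Category.{v₂} E] (p : E ⥤ B) [p.IsFibered] :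
    p.Faithful ↔ ∀ (b : B) (x y : p.Fiber b), Subsingleton (x ⟶ y) := by
  constructor
  · intro hp b x y
    exact ⟨fun g g' => Functor.Fiber.hom_ext (p.map_injective (by
      have := g.2; have := g'.2
      exact (IsHomLift.fac' p (𝟙 b) g.1).trans (IsHomLift.fac' p (𝟙 b) g'.1).symm))⟩
  · intro h
    refine ⟨fun {X Y} f g hfg => ?_⟩
    obtain ⟨Z, φ, hφ⟩ := IsPreFibered.exists_isCartesian p rfl (p.map f)
    have : p.IsHomLift (p.map f) g := hfg ▸ inferInstance
    have e1 := Functor.IsCartesian.fac p (p.map f) φ f
    have e2 := Functor.IsCartesian.fac p (p.map f) φ g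
    have hZ : p.obj Z = p.obj X := IsHomLift.domain_eq p (p.map f) φ
    have := (h (p.obj X) (Functor.Fiber.mk rfl) (Functor.Fiber.mk hZ)).elim
      (Functor.Fiber.homMk p (p.obj X) (Functor.IsCartesian.map p (p.map f) φ f))
      (Functor.Fiber.homMk p (p.obj X) (Functor.IsCartesian.map p (p.map f) φ g))
    rw [← e1, ← e2]
    congr 1
    exact congrArg Subtype.val this

end Groth.Agent.S6122
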