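import Groth.Statements.S6124
import Mathlib.CategoryTheory.Limits.Shapes.Diagonal

set_option autoImplicit false
open CategoryTheory CategoryTheory.Limits Opposite
universe w v₁ v₂ u₁ u₂
open SGA4

namespace Groth.Agent.S6124

/-- Let `E` have pullbacks, let `P` be a detecting family of objects of `E` (a morphism `f` is
invertible as soon as every map out of an object of `P` factors uniquely through `f`), and let `φ i
: E ⥤ E' i` be functors preserving pullbacks. Then the `φ i` jointly reflect isomorphisms if and
only if, for every `X` with `P X` and every subobject `X'` of `X` other than `⊤`, some `φ i` takes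
the inclusion `X' ⟶ X` to a morphism that is not invertible. -/
theorem result
    {E : Type u₁} [Category.{v₁} E] [HasPullbacks E] (P : ObjectProperty E) (hP : P.IsDetecting)
    {κ : Type w} {E' : κ → Type u₂} [∀ k, Category.{v₂} (E' k)] (φ : ∀ k, E ⥤ E' k)
    [∀ k, PreservesLimitsOfShape WalkingCospan (φ k)] :
    (∀ ⦃X Y : E⦄ (f : X ⟶ Y), (∀ k, IsIso ((φ k).map f)) → IsIso f) ↔
      ∀ (X : E), P X → ∀ (X' : Subobject X), X' ≠ ⊤ → ∃ k, ¬ IsIso ((φ k).map X'.arrow) := by
  constructor
  · intro h X hX X' hne
    by_contra hh
    push Not at hh
    have := h X'.arrow hh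
    exact hne (Subobject.eq_top_of_isIso_arrow X')
  · intro h
    have hmono : ∀ ⦃X Y : E⦄ (f : X ⟶ Y), Mono f → (∀ k, IsIso ((φ k).map f)) → IsIso f := by
      intro X Y f _ hf
      refine hP f fun G hG g => ?_
      have hk : ∀ k, IsIso ((φ k).map (pullback.snd f g)) := fun k => by
        have := hf k
        have : HasPullback ((φ k).map f) ((φ k).map g) :=
          hasPullback_of_preservesPullback (φ k) f g
        rw [← PreservesPullback.iso_hom_snd (φ k) f g]; infer_instance
      have htop : Subobject.mk (pullback.snd f g) = ⊤ := by
        by_contra hne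
        obtain ⟨k, hk'⟩ := h G hG _ hne
        apply hk'
        have := hk k
        rw [← Subobject.underlyingIso_hom_comp_eq_mk, Functor.map_comp]
        infer_instance
      have : IsIso (pullback.snd f g) := (Subobject.isIso_iff_mk_eq_top _).2 htop
      refine ⟨inv (pullback.snd f g) ≫ pullback.fst f g, ?_, fun g' hg' => ?_⟩
      · simp [pullback.condition]
      · rw [← cancel_mono f, hg']; simp [pullback.condition]
    intro X Y f hf
    have hd : ∀ k, IsIso ((φ k).map (Limits.pullback.diagonal f)) := by
      intro k
      have := hf k
      have : IsIso ((φ k).map (pullback.fst f f)) := by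
        rw [← PreservesPullback.iso_hom_fst (φ k) f f]; infer_instance
      have h1 : (φ k).map (Limits.pullback.diagonal f) ≫ (φ k).map (pullback.fst f f) = 𝟙 _ := by
        rw [← (φ k).map_comp, Limits.pullback.diagonal_fst, (φ k).map_id]
      exact IsIso.of_isIso_fac_right h1
    have : IsIso (Limits.pullback.diagonal f) := hmono _ inferInstance hd
    exact hmono f ((Limits.pullback.isIso_diagonal_iff f).1 inferInstance) hf

end Groth.Agent.S6124
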