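import Groth.Statements.S6126
import Mathlib.CategoryTheory.EffectiveEpi.Basic
import Mathlib.CategoryTheory.Preadditive.Injective.Basic
import Mathlib.CategoryTheory.Generator.Basic

set_option autoImplicit false
open CategoryTheory CategoryTheory.Limits
universe v₁ u₁
open SGA4

namespace Groth.Agent.S6126

/-- Let `E` be a category with `v₁`-small hom-sets admitting a separating family of objects `G t`
indexed by a `v₁`-small type, in which every object admits a monomorphism into an injective object.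
Assume that each coproduct `G t ⨿ G t` exists and that every morphism out of `G t ⨿ G t` factors as
an effective epimorphism followed by a monomorphism. Then `E` admits a coseparating family of
injective objects indexed by a `v₁`-small type. (The published statement moreover bounds the size of
this family in terms of the hom-sets `Hom (G t', G t ⨿ G t)`; only existence is stated here. The
published statement speaks of generating and cogenerating families; its proof uses and produces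
joint faithfulness of maps out of, resp. into, the family, which is the sense taken here.) -/
theorem result
    {E : Type u₁} [Category.{v₁} E] {ι : Type v₁} (G : ι → E)
    (hG : (ObjectProperty.ofObj G).IsSeparating)
    [EnoughInjectives E] [∀ t, HasBinaryCoproduct (G t) (G t)]
    (hfac : ∀ (t : ι) (X : E) (f : G t ⨿ G t ⟶ X),
      ∃ (Y : E) (e : G t ⨿ G t ⟶ Y) (m : Y ⟶ X), EffectiveEpi e ∧ Mono m ∧ e ≫ m = f) :
    ∃ (κ : Type v₁) (H : κ → E),
      (∀ k, Injective (H k)) ∧ (ObjectProperty.ofObj H).IsCoseparating := by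
  classical
  let Rel : ∀ (t : ι) {Y : E} (_ : G t ⨿ G t ⟶ Y),
      Set (Σ s : ι, (G s ⟶ G t ⨿ G t) × (G s ⟶ G t ⨿ G t)) :=
    fun t Y e => {p | p.2.1 ≫ e = p.2.2 ≫ e}
  let κ := Σ t : ι, {R : Set (Σ s : ι, (G s ⟶ G t ⨿ G t) × (G s ⟶ G t ⨿ G t)) //
    ∃ (Y : E) (e : G t ⨿ G t ⟶ Y), EffectiveEpi e ∧ Rel t e = R}
  let Y₀ : κ → E := fun k => k.2.2.choose
  let H : κ → E := fun k => Injective.under (Y₀ k)
  refine ⟨κ, H, fun k => inferInstance, fun X X' f g hfg => hG f g ?_⟩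
  rintro _ ⟨t⟩ a
  by_contra hne
  obtain ⟨Y, e, m, he, hm, hem⟩ := hfac t X' (coprod.desc (a ≫ f) (a ≫ g))
  let k : κ := ⟨t, Rel t e, Y, e, he, rfl⟩
  obtain ⟨e₀, he₀, hR⟩ : ∃ e₀ : G t ⨿ G t ⟶ Y₀ k, EffectiveEpi e₀ ∧ Rel t e₀ = Rel t e :=
    k.2.2.choose_spec
  have hdesc : ∀ {Y₁ Y₂ : E} (e₁ : G t ⨿ G t ⟶ Y₁) (e₂ : G t ⨿ G t ⟶ Y₂), Rel t e₁ = Rel t e₂ →
      ∀ {Z : E} (g₁ g₂ : Z ⟶ G t ⨿ G t), g₁ ≫ e₁ = g₂ ≫ e₁ → g₁ ≫ e₂ = g₂ ≫ e₂ := by
    intro Y₁ Y₂ e₁ e₂ h Z g₁ g₂ hg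
    apply hG
    rintro _ ⟨s⟩ b
    have hmem : (⟨s, b ≫ g₁, b ≫ g₂⟩ : Σ s : ι, (G s ⟶ G t ⨿ G t) × (G s ⟶ G t ⨿ G t)) ∈ Rel t e₁ := by
      show (b ≫ g₁) ≫ e₁ = (b ≫ g₂) ≫ e₁
      simp only [Category.assoc, hg]
    rw [h] at hmem
    simpa [Rel] using hmem
  haveI := he
  haveI := he₀
  haveI := hm
  let c : Y ⟶ Y₀ k := EffectiveEpi.desc e e₀ (hdesc e e₀ hR.symm)
  let c' : Y₀ k ⟶ Y := EffectiveEpi.desc e₀ e (hdesc e₀ e hR)
  have hcc : c ≫ c' = 𝟙 Y := by
    rw [← cancel_epi e]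
    simp [c, c', EffectiveEpi.fac_assoc, EffectiveEpi.fac]
  haveI : Mono c := SplitMono.mono ⟨c', hcc⟩
  let j : Y ⟶ H k := c ≫ Injective.ι (Y₀ k)
  let q : X' ⟶ H k := Injective.factorThru j m
  have hq := congrArg (a ≫ ·) (hfg (H k) ⟨k⟩ q)
  have hinl : a ≫ f = (coprod.inl ≫ e) ≫ m := by rw [Category.assoc, hem, coprod.inl_desc]
  have hinr : a ≫ g = (coprod.inr ≫ e) ≫ m := by rw [Category.assoc, hem, coprod.inr_desc]
  simp only [← Category.assoc, hinl, hinr] at hq
  rw [Category.assoc _ m q, Category.assoc _ m q, Injective.comp_factorThru, cancel_mono] at hq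
  exact hne (by rw [hinl, hinr, hq])

end Groth.Agent.S6126
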