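import Groth.Statements.S6128
import Mathlib.CategoryTheory.Sites.Closed
import Mathlib.CategoryTheory.Sites.CoverLifting

set_option autoImplicit false
open CategoryTheory
universe u
open SGA4

namespace Groth.Agent.S6128

/-- Let `u : C ⥤ C'` be a functor between small sites. If the right Kan extension along `u` of the
underlying presheaf of every sheaf of sets on `C` is a sheaf on `C'`, then `u` is cocontinuous: for
every object `Y` of `C` and every covering sieve `R` of `u Y`, the sieve of morphisms `g : Z ⟶ Y`
with `u g ∈ R` covers `Y`. -/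
theorem result
    {C : Type u} [SmallCategory C] {C' : Type u} [SmallCategory C']
    (J : GrothendieckTopology C) (J' : GrothendieckTopology C') (u : C ⥤ C')
    (h : ∀ G : Sheaf J (Type u), Presheaf.IsSheaf J' ((u.op.ran).obj G.obj)) :
    u.IsCocontinuous J J' := by
  refine ⟨fun {Y R} hR => ?_⟩
  let Ω : Sheaf J (Type u) := ⟨(Functor.closedSieves J).toFunctor,
    (isSheaf_iff_isSheaf_of_type _ _).mpr (classifier_isSheaf J)⟩
  let φ : u.op ⋙ yoneda.obj (u.obj Y) ⟶ Ω.obj :=
    { app := fun X => ↾fun a => ⟨J.close ((R.pullback a).functorPullback u), J.close_isClosed _⟩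
      naturality := fun X X' g => by
        refine ConcreteCategory.hom_ext _ _ fun a => ?_
        apply Subtype.ext
        show J.close ((R.pullback (u.map g.unop ≫ a)).functorPullback u) =
          (J.close ((R.pullback a).functorPullback u)).pullback g.unop
        rw [← J.pullback_close]
        congr 1
        ext Z f
        show R _ ↔ R _
        simp }
  let ψ : u.op ⋙ yoneda.obj (u.obj Y) ⟶ Ω.obj :=
    { app := fun X => ↾fun _ => ⟨(⊤ : Sieve X.unop), fun _ _ _ => trivial⟩
      naturality := fun X X' g => by
        refine ConcreteCategory.hom_ext _ _ fun a => ?_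
        exact Subtype.ext (Sieve.pullback_top).symm }
  let adj := u.op.ranAdjunction (Type u)
  have hS := (Presieve.isSheafFor_iff_yonedaSheafCondition (S := R)).mp
    ((isSheaf_iff_isSheaf_of_type _ _).mp (h Ω) R hR)
  have hpsi : φ = ψ := by
    refine (adj.homEquiv _ _).injective ((hS (R.functorInclusion ≫ adj.homEquiv _ _ ψ)).unique ?_ rfl)
    refine (Adjunction.homEquiv_naturality_left adj R.functorInclusion φ).symm.trans
      ((congrArg (adj.homEquiv _ _) ?_).trans (Adjunction.homEquiv_naturality_left adj R.functorInclusion ψ))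
    ext X a
    obtain ⟨a, ha⟩ := a
    apply Subtype.ext
    show J.close ((R.pullback a).functorPullback u) = ⊤
    rw [R.pullback_eq_top_of_mem ha]
    exact (J.close_eq_top_iff_mem _).mpr (by rw [Sieve.functorPullback_top]; exact J.top_mem _)
  have := congrArg (fun t : u.op ⋙ yoneda.obj (u.obj Y) ⟶ Ω.obj => (t.app (Opposite.op Y) (𝟙 (u.obj Y))).val) hpsi
  have e : J.close ((R.pullback (𝟙 (u.obj Y))).functorPullback u) = ⊤ := this
  rw [Sieve.pullback_id] at e
  exact (J.close_eq_top_iff_mem _).mp e

end Groth.Agent.S6128
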