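import Groth.Statements.S6129
import Groth.Agent.Lib.LanFaithful.Basic

set_option autoImplicit false
open CategoryTheory CategoryTheory.Limits
universe u
open SGA4

namespace Groth.Agent.S6129

/-- Let `u : C ⥤ C'` be a faithful functor between small categories such that for every object `X` of
`C` the induced functor on over-categories `C/X ⥤ C'/u X` is full and faithful. Then the left Kan
extension functor `u_!` on presheaves of sets is faithful, the unit `H ⟶ u^* u_! H` of the
adjunction `u_! ⊣ u^*` is a monomorphism for every presheaf `H`, and for every morphism of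
presheaves `α : H ⟶ K` the naturality square of the unit at `α` (with sides `α` and `u^* u_! α`) is
cartesian. (The published statement assumes only the condition on the slice functors, and its proof
uses that `u` is faithful; the slice condition alone does not suffice: for a nontrivial group viewed
as a one-object category mapping to the point every slice functor is an equivalence, while `u_!` is
the orbit-set functor on `G`-sets, which is not faithful, and the unit `G ⟶ G/G` is not a
monomorphism. So `u` is taken faithful here.) -/
theorem result
    {C : Type u} [SmallCategory C] {C' : Type u} [SmallCategory C'] (u : C ⥤ C') [u.Faithful]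
    (hu : ∀ X : C, (Over.post (X := X) u).Full ∧ (Over.post (X := X) u).Faithful) :
    (u.op.lan : (Cᵒᵖ ⥤ Type u) ⥤ (C'ᵒᵖ ⥤ Type u)).Faithful ∧
    (∀ H : Cᵒᵖ ⥤ Type u, Mono ((u.op.lanAdjunction (Type u)).unit.app H)) ∧
    ∀ (H K : Cᵒᵖ ⥤ Type u) (α : H ⟶ K),
      IsPullback ((u.op.lanAdjunction (Type u)).unit.app H) α
        (((Functor.whiskeringLeft Cᵒᵖ C'ᵒᵖ (Type u)).obj u.op).map (u.op.lan.map α))
        ((u.op.lanAdjunction (Type u)).unit.app K) := by
  have hmono : ∀ H : Cᵒᵖ ⥤ Type u, Mono ((u.op.lanAdjunction (Type u)).unit.app H) := fun H => by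
    rw [Functor.lanAdjunction_unit]
    haveI : ∀ c, Mono (((u.op.lanUnit (H := Type u)).app H).app c) := fun c =>
      (mono_iff_injective _).mpr (LanFaithful.η_injective u hu c.unop H)
    exact NatTrans.mono_of_mono_app _
  refine ⟨(u.op.lanAdjunction (Type u)).faithful_L_of_mono_unit_app, hmono, fun H K α => ?_⟩
  rw [Functor.lanAdjunction_unit]
  refine IsPullback.of_forall_isPullback_app fun c => ?_
  rw [Types.isPullback_iff]
  refine ⟨congr(($((u.op.lanUnit (H := Type u)).naturality α)).app c).symm, ?_, ?_⟩
  · intro x y h
    exact LanFaithful.η_injective u hu c.unop H h.1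
  · intro z k e
    obtain ⟨x, h1, h2⟩ := LanFaithful.η_cartesian u hu c.unop H α z k e
    exact ⟨x, h1, h2⟩

end Groth.Agent.S6129
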