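import Groth.Statements.S6131
-- import your own Groth.Agent.* helpers here

set_option autoImplicit false
open CategoryTheory CategoryTheory.Limits
universe u
open SGA4

namespace Groth.Agent.S6131

/-- For a small site `(C, J)` and an object `X` of `C`, the sheaf associated to the presheaf represented
by `X` is an initial object of the category of sheaves of sets if and only if the empty sieve covers
`X`. -/
theorem result
    {C : Type u} [SmallCategory C] (J : GrothendieckTopology C) (X : C) :
    Nonempty (IsInitial ((presheafToSheaf J (Type u)).obj (yoneda.obj X))) ↔ (⊥ : Sieve X) ∈ J X := by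
  constructor
  · rintro ⟨hI⟩
    let P : Cᵒᵖ ⥤ Type u :=
      { obj := fun Y => ULift.{u} (PLift ((⊥ : Sieve Y.unop) ∈ J Y.unop))
        map := fun {Y Z} f => ↾fun a => ⟨⟨by simpa using J.pullback_stable f.unop a.down.down⟩⟩ }
    have hP : Presheaf.IsSheaf J P := by
      rw [isSheaf_iff_isSheaf_of_type]
      intro Z S hS x _
      refine ⟨⟨⟨J.transitive hS ⊥ fun W g hg => ?_⟩⟩, fun _ _ _ => rfl, fun _ _ => rfl⟩
      simpa using (x g hg).down.down
    let η := toSheafify J (yoneda.obj X)
    exact ((hI.to (⟨P, hP⟩ : Sheaf J (Type u))).hom.app (.op X) (η.app (.op X) (𝟙 X))).down.down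
  · intro h
    have key : ∀ G : Sheaf J (Type u), Nonempty (Unique (G.obj.obj (.op X))) := by
      intro G
      obtain ⟨t, _, ht⟩ := ((isSheaf_iff_isSheaf_of_type J G.obj).1 G.property) _ h
        (fun _ g hg => False.elim hg) (fun _ _ _ _ _ _ _ h => False.elim h)
      exact ⟨⟨⟨t⟩, fun y => ht y fun _ g hg => False.elim hg⟩⟩
    have : ∀ G : Sheaf J (Type u),
        Nonempty (Unique ((presheafToSheaf J (Type u)).obj (yoneda.obj X) ⟶ G)) := fun G => by
      obtain ⟨_⟩ := key G
      exact ⟨@Equiv.unique _ _ ‹_› (((sheafificationAdjunction J (Type u)).homEquiv _ G).trans yonedaEquiv)⟩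
    exact ⟨IsInitial.ofUniqueHom (fun G => (Classical.choice (this G)).default)
      fun G m => (Classical.choice (this G)).uniq m⟩

end Groth.Agent.S6131
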