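import Groth.Statements.S6132
import Groth.Agent.Lib.Giraud.Cofan

set_option autoImplicit false
open CategoryTheory CategoryTheory.Limits
universe u
open SGA4

namespace Groth.Agent.S6132

/-- Let `(C, J)` be a small site, `X` an object and `s i : Y i ⟶ X` a family of morphisms all of whose
base changes exist in `C`. If the family is covering, every `s i` is a monomorphism, and for `i ≠ j`
the fibre product `Y i ×_X Y j` is covered by the empty sieve, then the associated sheaf of `X`,
with the maps induced by the `s i`, is a coproduct of the associated sheaves of the `Y i` in the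
category of sheaves of sets. -/
theorem result
    {C : Type u} [SmallCategory C] (J : GrothendieckTopology C) {X : C} {ι : Type u}
    (Y : ι → C) (s : ∀ i, Y i ⟶ X) [∀ (i : ι) (Z : C) (g : Z ⟶ X), HasPullback (s i) g]
    (hcov : Sieve.ofArrows Y s ∈ J X) (hmono : ∀ i, Mono (s i))
    (hdisj : ∀ i j, i ≠ j → (⊥ : Sieve (pullback (s i) (s j))) ∈ J (pullback (s i) (s j))) :
    Nonempty (IsColimit (Cofan.mk ((presheafToSheaf J (Type u)).obj (yoneda.obj X))
      (fun i => (presheafToSheaf J (Type u)).map (yoneda.map (s i))))) := by
  open CategoryTheory.Limits in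
  rw [Groth.Agent.Giraud.isColimit_cofan_sheafify_iff]
  refine ⟨(Groth.Agent.Topos.jepi_eps_map_iff J s).2 hcov, fun i => ?_, fun i j hij => ?_⟩
  · have := hmono i
    infer_instance
  · let e := ((presheafToSheaf J (Type u)).mapIso (PreservesPullback.iso yoneda (s i) (s j)))
    refine Nonempty.map (fun h => IsInitial.ofIso h e) (Groth.Agent.Giraud.nonempty_isInitial_iff.2 fun U z => ?_)
    refine J.transitive (Groth.Agent.Topos.imageSieve_epsSec J z) _ ?_
    rintro V g ⟨r, -⟩
    refine J.superset_covering ?_ (J.pullback_stable r (hdisj i j hij))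
    exact fun W m hm => False.elim hm

end Groth.Agent.S6132
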