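import Groth.Statements.S6134
-- import your own Groth.Agent.* helpers here

set_option autoImplicit false
open CategoryTheory CategoryTheory.Limits
universe u
open SGA4

namespace Groth.Agent.S6134

/-- Let `C` be a small category with topologies `J ≤ J'` (every `J`-covering sieve is `J'`-covering),
`X` an object and `s i : Y i ⟶ X` a family of morphisms. If the associated `J`-sheaf of the presheaf
represented by `X`, with the maps induced by the `s i`, is a coproduct of the associated `J`-sheaves
of the `Y i` (in sheaves of sets), then the same holds for `J'`. -/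
theorem result
    {C : Type u} [SmallCategory C] {J J' : GrothendieckTopology C} (hJ : J ≤ J')
    {X : C} {ι : Type u} (Y : ι → C) (s : ∀ i, Y i ⟶ X)
    (h : Nonempty (IsColimit (Cofan.mk ((presheafToSheaf J (Type u)).obj (yoneda.obj X))
      (fun i => (presheafToSheaf J (Type u)).map (yoneda.map (s i)))))) :
    Nonempty (IsColimit (Cofan.mk ((presheafToSheaf J' (Type u)).obj (yoneda.obj X))
      (fun i => (presheafToSheaf J' (Type u)).map (yoneda.map (s i))))) := by
  obtain ⟨hc⟩ := h
  let toJ : Sheaf J' (Type u) → Sheaf J (Type u) := fun G =>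
    ⟨G.obj, (isSheaf_iff_isSheaf_of_type J G.obj).2
      (Presieve.isSheaf_of_le _ hJ ((isSheaf_iff_isSheaf_of_type J' G.obj).1 G.property))⟩
  let e : ∀ (P : Cᵒᵖ ⥤ Type u) (G : Sheaf J' (Type u)),
      ((presheafToSheaf J (Type u)).obj P ⟶ toJ G) ≃ ((presheafToSheaf J' (Type u)).obj P ⟶ G) :=
    fun P G => ((sheafificationAdjunction J (Type u)).homEquiv P (toJ G)).trans
      ((sheafificationAdjunction J' (Type u)).homEquiv P G).symm
  have he : ∀ {P Q : Cᵒᵖ ⥤ Type u} (φ : P ⟶ Q) (G : Sheaf J' (Type u)) (m : _ ⟶ toJ G),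
      (presheafToSheaf J' (Type u)).map φ ≫ e Q G m = e P G ((presheafToSheaf J (Type u)).map φ ≫ m) := by
    intro P Q φ G m
    simp only [e, Equiv.trans_apply]
    erw [Adjunction.homEquiv_naturality_left]
    exact (Adjunction.homEquiv_naturality_left_symm _ _ _).symm
  refine ⟨mkCofanColimit _ (fun c => e _ _ (Cofan.IsColimit.desc hc
    (fun i => (e _ c.pt).symm (c.inj i)))) (fun c i => ?_) fun c m hm => ?_⟩
  · simp only [cofan_mk_inj]
    rw [he]
    erw [Cofan.IsColimit.fac hc, Equiv.apply_symm_apply]
  · rw [← Equiv.symm_apply_eq]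
    refine Cofan.IsColimit.hom_ext hc _ _ fun i => ?_
    rw [Cofan.IsColimit.fac]
    apply (e _ _).injective
    simp only [cofan_mk_inj]
    erw [← he, Equiv.apply_symm_apply, Equiv.apply_symm_apply]
    exact hm i

end Groth.Agent.S6134
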