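import Groth.Statements.S6137
import Mathlib.CategoryTheory.Limits.Types.Limits
import Mathlib.CategoryTheory.Limits.Types.Filtered
import Mathlib.CategoryTheory.Limits.Yoneda
import Mathlib.CategoryTheory.Limits.Preserves.Shapes.Equalizers

set_option autoImplicit false
open CategoryTheory CategoryTheory.Limits
universe v u
open SGA4

open Opposite
namespace Groth.Agent.S6137

/-- Let `C` be a category with `v`-small hom-sets admitting all `v`-small limits, and `F : C ⥤ Type v` a
functor. Then `F` is corepresentable if and only if it is pro-representable (viewed as a presheaf on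
`Cᵒᵖ` it is an ind-object, i.e. a small filtered colimit of corepresentable functors) and preserves
all `v`-small limits. -/
theorem result
    {C : Type u} [Category.{v} C] [HasLimitsOfSize.{v, v} C] (F : C ⥤ Type v) :
    F.IsCorepresentable ↔
      IsIndObject (unopUnop C ⋙ F) ∧ PreservesLimitsOfSize.{v, v} F := by
  constructor
  · intro hF
    obtain ⟨X, ⟨r⟩⟩ := hF.has_corepresentation
    let e₀ : coyoneda.obj (op X) ≅ F := Functor.corepresentableByEquiv r
    refine ⟨?_, preservesLimits_of_natIso e₀⟩
    let e : yoneda.obj (op X) ≅ unopUnop C ⋙ F :=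
      NatIso.ofComponents (fun U => (opEquiv U.unop (op X)).toIso ≪≫ e₀.app U.unop.unop) (fun {U V} f => by
        ext g
        exact r.homEquiv_comp f.unop.unop g.unop)
    exact (isIndObject_yoneda (op X)).map e.hom
  · rintro ⟨⟨⟨P⟩⟩, hlim⟩
    let D : P.Iᵒᵖ ⥤ C := P.F.leftOp
    let x : ∀ i : P.I, F.obj (P.F.obj i).unop := fun i => (P.ι.app i).app (op (P.F.obj i)) (𝟙 _)
    have hx : ∀ (i : P.I) (Y : C) (g : op Y ⟶ P.F.obj i),
        (P.ι.app i).app (op (op Y)) g = F.map g.unop (x i) := fun i Y g => by
      have := NatTrans.naturality_apply (P.ι.app i) g.op (𝟙 (P.F.obj i))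
      refine Eq.trans ?_ this
      exact congrArg _ (Category.comp_id g).symm
    have hw : ∀ {i j : P.I} (f : i ⟶ j), F.map (P.F.map f).unop (x j) = x i := fun {i j} f => by
      refine (hx j _ (P.F.map f)).symm.trans ?_
      have h1 := congrArg (fun t : yoneda.obj (P.F.obj i) ⟶ unopUnop C ⋙ F =>
        t.app (op (P.F.obj i)) (𝟙 (P.F.obj i))) (P.ι.naturality f)
      refine Eq.trans (congrArg _ (Category.id_comp (P.F.map f)).symm) h1
    let sec : (D ⋙ F).sections := ⟨fun i => x i.unop, fun {i j} f => hw f.unop⟩
    let hL := isLimitOfPreserves F (limit.isLimit D)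
    let ξ : F.obj (limit D) := (Types.isLimitEquivSections hL).symm sec
    have hξ : ∀ i : P.I, F.map (limit.π D (op i)) ξ = x i := fun i =>
      Types.isLimitEquivSections_symm_apply hL sec (op i)
    have hcol : ∀ (Y : C) (y : F.obj Y), ∃ (i : P.I) (g : (P.F.obj i).unop ⟶ Y), F.map g (x i) = y := by
      intro Y y
      obtain ⟨i, g, hg⟩ := Types.jointly_surjective_of_isColimit
        (isColimitOfPreserves ((evaluation _ _).obj (op (op Y))) P.isColimit) y
      exact ⟨i, g.unop, (hx i Y g).symm.trans hg⟩
    refine ⟨limit D, ⟨{ homEquiv := fun {Y} => Equiv.ofBijective (fun a => F.map a ξ) ⟨?_, ?_⟩,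
                        homEquiv_comp := fun g a => by simp }⟩⟩
    · intro a b hab
      let E := equalizer a b
      obtain ⟨ξ', hξ'⟩ : ∃ ξ' : F.obj E, F.map (equalizer.ι a b) ξ' = ξ := by
        have hE := isLimitForkMapOfIsLimit F _ (equalizerIsEqualizer a b)
        have hcond : (TypeCat.ofHom fun _ : PUnit.{v+1} => ξ) ≫ F.map a =
            (TypeCat.ofHom fun _ : PUnit.{v+1} => ξ) ≫ F.map b := by
          ext
          exact hab
        refine ⟨Fork.IsLimit.lift hE _ hcond PUnit.unit, ?_⟩
        exact ConcreteCategory.congr_hom (Fork.IsLimit.lift_ι' hE _ hcond) PUnit.unit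
      obtain ⟨i, h, hh⟩ := hcol E ξ'
      let t : limit D ⟶ limit D := limit.π D (op i) ≫ h ≫ equalizer.ι a b
      have ht : t = 𝟙 _ := limit.hom_ext fun j => by
        let k := IsFiltered.max i j.unop
        have h1 : F.map ((P.F.map (IsFiltered.leftToMax i j.unop)).unop ≫ h ≫ equalizer.ι a b ≫ limit.π D j) (x k) =
            F.map (P.F.map (IsFiltered.rightToMax i j.unop)).unop (x k) := by
          rw [hw (IsFiltered.rightToMax i j.unop), Functor.map_comp_apply, hw, Functor.map_comp_apply, hh,
            Functor.map_comp_apply, hξ']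
          exact hξ j.unop
        obtain ⟨l, m, hm⟩ := (Types.FilteredColimit.isColimit_eq_iff'
          (isColimitOfPreserves ((evaluation _ _).obj (op (op (D.obj j)))) P.isColimit)
          (((P.F.map (IsFiltered.leftToMax i j.unop)).unop ≫ h ≫ equalizer.ι a b ≫ limit.π D j).op :)
          (((P.F.map (IsFiltered.rightToMax i j.unop)).unop).op :)).1 (by
            refine (hx k (D.obj j) _).trans (h1.trans (hx k (D.obj j) _).symm))
        have hm' : (P.F.map m).unop ≫ (P.F.map (IsFiltered.leftToMax i j.unop)).unop ≫ h ≫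
            equalizer.ι a b ≫ limit.π D j =
            (P.F.map m).unop ≫ (P.F.map (IsFiltered.rightToMax i j.unop)).unop := congrArg Quiver.Hom.unop hm
        have hwk : ∀ {p q : P.I} (f : p ⟶ q), limit.π D (op q) ≫ (P.F.map f).unop = limit.π D (op p) :=
          fun f => limit.w D f.op
        simp only [t, Category.assoc, Category.id_comp]
        rw [← hwk (IsFiltered.leftToMax i j.unop), ← hwk m, Category.assoc, Category.assoc, hm',
          reassoc_of% hwk m, hwk]
      rw [← Category.id_comp a, ← Category.id_comp b, ← ht]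
      simp only [t, Category.assoc]
      rw [equalizer.condition]
    · intro y
      obtain ⟨i, g, hg⟩ := hcol _ y
      refine ⟨limit.π D (op i) ≫ g, ?_⟩
      change F.map (limit.π D (op i) ≫ g) ξ = y
      rw [Functor.map_comp_apply, hξ, hg]

end Groth.Agent.S6137
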