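import Groth.Statements.S6138
import Mathlib.CategoryTheory.Limits.Types.Equalizers
import Mathlib.CategoryTheory.Limits.Preserves.Shapes.Equalizers
import Mathlib.CategoryTheory.Limits.Shapes.RegularMono

set_option autoImplicit false
open CategoryTheory CategoryTheory.Limits Opposite
universe v u
open SGA4

namespace Groth.Agent.S6138

/-- Let `C` have coequalizers and pullbacks, let `F` be a presheaf of sets on `C` taking coequalizers of
`C` to equalizers, and let `u ∈ F(X)`, viewed as a morphism `h_X ⟶ F`. Then this morphism is a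
monomorphism (the map `v ↦ F(v)(u)` is injective on `Hom(Y, X)` for every `Y`) if and only if `u` is
minimal: whenever `u = F(p)(u')` for an effective epimorphism `p : X ⟶ X'` and some `u' ∈ F(X')`,
`p` is an isomorphism. (Coequalizers are used for one implication and pullbacks for the other; both
are assumed here.) -/
theorem result
    {C : Type u} [Category.{v} C] [HasCoequalizers C] [HasPullbacks C]
    (F : Cᵒᵖ ⥤ Type v) [PreservesLimitsOfShape WalkingParallelPair F]
    {X : C} (u : F.obj (op X)) :
    (∀ (Y : C) (v v' : Y ⟶ X), F.map v.op u = F.map v'.op u → v = v') ↔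
      ∀ (X' : C) (p : X ⟶ X') (u' : F.obj (op X')),
        EffectiveEpi p → F.map p.op u' = u → IsIso p := by
  constructor
  · intro h X' p u' _ hu
    have : Mono p := ⟨fun {Y} v v' hv => h Y v v' (by
      rw [← hu, ← Functor.map_comp_apply, ← Functor.map_comp_apply, ← op_comp, ← op_comp, hv])⟩
    have hw : ∀ {Z : C} (g₁ g₂ : Z ⟶ X), g₁ ≫ p = g₂ ≫ p → g₁ ≫ 𝟙 X = g₂ ≫ 𝟙 X := fun g₁ g₂ h => by
      rw [(cancel_mono p).1 h]
    refine ⟨EffectiveEpi.desc p (𝟙 X) hw, EffectiveEpi.fac p (𝟙 X) hw, ?_⟩
    rw [← cancel_epi p, EffectiveEpi.fac_assoc]; simp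
  · intro h Y v v' hv
    have : PreservesLimit (parallelPair v.op v'.op) F := inferInstance
    have w : (coequalizer.π v v').op ≫ v.op = (coequalizer.π v v').op ≫ v'.op := by
      rw [← op_comp, ← op_comp, coequalizer.condition]
    have hf := isLimitForkMapOfIsLimit F w
      ((Cofork.isColimitOfπEquivIsLimitOp (coequalizer.π v v') (coequalizer.π v v')
        (coequalizer.condition v v') w rfl) (coequalizerIsCoequalizer v v'))
    obtain ⟨u', hu', _⟩ := Types.unique_of_type_equalizer _ _ hf u hv
    have := h _ (coequalizer.π v v') u' inferInstance hu'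
    rw [← cancel_mono (coequalizer.π v v'), coequalizer.condition]

end Groth.Agent.S6138
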