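import Groth.Statements.S6139
-- import your own Groth.Agent.* helpers here

set_option autoImplicit false
open CategoryTheory CategoryTheory.Limits
universe v u
open SGA4

namespace Groth.Agent.S6139

/-- For an object `X` of a category `C`, the empty sieve on `X` is covering for the canonical topology
of `C` (the finest topology for which every representable presheaf is a sheaf) if and only if `X` is
a strict initial object: `X` is initial and every morphism with target `X` is an isomorphism. (The
source phrases the first condition as: for some topology coarser than the canonical one the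
associated sheaf of `h_X` is initial; that sheaf is initial exactly when the empty sieve covers `X`,
and coverage by the empty sieve passes to the finer canonical topology.) -/
theorem result
    {C : Type u} [Category.{v} C] (X : C) :
    (⊥ : Sieve X) ∈ Sheaf.canonicalTopology C X ↔
      (Nonempty (IsInitial X) ∧ ∀ (Y : C) (f : Y ⟶ X), IsIso f) := by
  constructor
  · intro hb
    have hY : ∀ {Y : C} (f : Y ⟶ X), (⊥ : Sieve Y) ∈ Sheaf.canonicalTopology C Y := by
      intro Y f
      have := (Sheaf.canonicalTopology C).pullback_stable f hb
      convert this using 1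
      ext Z g; simp
    have hs : ∀ {Y : C} (f : Y ⟶ X), Nonempty (IsInitial Y) := by
      intro Y f
      have key : ∀ Z : C, ∃! t : Y ⟶ Z, True := by
        intro Z
        obtain ⟨t, _, ht2⟩ := (Sheaf.isSheaf_yoneda_obj Z) _ (hY f)
          (fun _ g hg => False.elim hg) (fun _ _ _ _ _ _ _ h => False.elim h)
        exact ⟨t, trivial, fun y _ => ht2 y fun _ g hg => False.elim hg⟩
      choose t _ ht2 using key
      exact ⟨IsInitial.ofUniqueHom t fun Z m => ht2 Z m trivial⟩
    obtain ⟨hX⟩ := hs (𝟙 X)
    refine ⟨⟨hX⟩, fun Y f => ?_⟩
    obtain ⟨hY⟩ := hs f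
    exact ⟨⟨hX.to Y, hY.hom_ext _ _, hX.hom_ext _ _⟩⟩
  · rintro ⟨⟨hX⟩, hiso⟩
    refine Sheaf.mem_finestTopology_of_forall_isSheafFor ?_
    rintro P ⟨Z, rfl⟩ Y f x _
    have := hiso Y f
    have hY : IsInitial Y := hX.ofIso (asIso f).symm
    refine ⟨hY.to Z, fun V g hg => ?_, fun t _ => hY.hom_ext _ _⟩
    exact False.elim (by simpa using hg)

end Groth.Agent.S6139
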