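import Groth.Statements.S6140
import Groth.Agent.Lib.ToposFin.Present
import Mathlib.CategoryTheory.Sites.Canonical
import Mathlib.CategoryTheory.Sites.EffectiveEpimorphic

set_option autoImplicit false
open CategoryTheory CategoryTheory.Limits
universe u
open SGA4 Opposite

namespace Groth.Agent.S6140

/-- Let `C` be a small category with pullbacks, `p₁ p₂ : R ⇉ X` an equivalence relation in `C` admitting
a coequalizer cofork `c`, and `ε` the canonical functor to sheaves of sets for the canonical
topology of `C`. Then the equivalence relation is effective and universal (`R` is the kernel pair of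
the quotient map, which is a coequalizer all of whose base changes are effective epimorphisms) if
and only if `ε` takes `c` to a coequalizer of `ε p₁, ε p₂`. (For a small category every topology has
a small topologically generating family, so both implications of the published statement apply. The
published statement asks only that the quotient map have all base changes; this row assumes that `C`
has all pullbacks.) -/
theorem result
    {C : Type u} [SmallCategory C] [HasPullbacks C] {R X : C} (p₁ p₂ : R ⟶ X)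
    (hR : SGA4.IsEquivRel p₁ p₂) (c : Cofork p₁ p₂) (hc : IsColimit c) :
    SGA4.IsEffectiveUniversalEquivRel p₁ p₂ ↔
      Nonempty (IsColimit ((yoneda ⋙ presheafToSheaf (Sheaf.canonicalTopology C) (Type u)).mapCocone c)) := by
  let Jc := Sheaf.canonicalTopology C
  let F := yoneda ⋙ presheafToSheaf Jc (Type u)
  have hinj : ∀ {T : C} (f g : T ⟶ R), f ≫ p₁ = g ≫ p₁ → f ≫ p₂ = g ≫ p₂ → f = g :=
    fun f g h₁ h₂ => (hR _).1 (Prod.ext h₁ h₂)
  have hep : c.π = Cofork.π c := rfl
  have hsieve : ∀ {A B : C} (π : A ⟶ B), Epi (F.map π) ↔ Sieve.generate (Presieve.singleton π) ∈ Jc B := by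
    intro A B π
    have h := Groth.Agent.Topos.jepi_eps_map_iff Jc (V := fun _ : PUnit.{u+1} => A) (fun _ => π)
    have hs : Sieve.ofArrows (fun _ : PUnit.{u+1} => A) (fun _ => π) = Sieve.generate (Presieve.singleton π) :=
      congrArg Sieve.generate (Presieve.ofArrows_pUnit π)
    rw [← hs, ← h]
    constructor
    · intro h'
      exact Groth.Agent.Topos.jepi_of_cancel _ fun Z a b hab =>
        (cancel_epi (F.map π)).1 (hab PUnit.unit)
    · intro h'
      exact ⟨fun a b hab => Groth.Agent.Topos.jepi_cancel h' a b fun _ => hab⟩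
  have hwF : F.map p₁ ≫ F.map c.π = F.map p₂ ≫ F.map c.π := by
    rw [← F.map_comp, ← F.map_comp, c.condition]
  let e := isColimitMapCoconeCoforkEquiv F c.condition
  let ic : c ≅ Cofork.ofπ c.π c.condition := Cofork.ext (Iso.refl _) (Category.comp_id _)
  let iF : F.mapCocone c ≅ F.mapCocone (Cofork.ofπ c.π c.condition) := (Cocones.functoriality _ F).mapIso ic
  constructor
  · rintro ⟨B, π, hpb, hpo, huniv⟩
    let c' : Cofork p₁ p₂ := Cofork.ofπ π hpo.w
    have hc' : IsColimit c' := Cofork.IsColimit.mk _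
      (fun s => hpo.desc s.π s.π s.condition) (fun s => hpo.inl_desc _ _ _)
      (fun s m hm => hpo.hom_ext (hm.trans (hpo.inl_desc _ _ _).symm) (hm.trans (hpo.inr_desc _ _ _).symm))
    let φ := hc.coconePointUniqueUpToIso hc'
    have hφ : c.π ≫ φ.hom = π := hc.comp_coconePointUniqueUpToIso_hom hc' WalkingParallelPair.one
    have hcov : Sieve.generate (Presieve.singleton π) ∈ Jc B := by
      refine Sheaf.mem_finestTopology_of_forall_isSheafFor ?_
      rintro _ ⟨W, rfl⟩ Y f
      rw [← Sieve.pullbackArrows_comm, Presieve.pullback_singleton]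
      have := huniv Y f
      rw [← Presieve.isSheafFor_iff_generate]
      exact (Presieve.EffectiveEpimorphic.iff_forall_isSheafFor_yoneda _).1
        ((Sieve.effectiveEpimorphic_singleton _).2 this) W
    haveI : Epi (F.map π) := (hsieve π).2 hcov
    haveI : Epi (F.map c.π) := by
      have h : F.map π = F.map c.π ≫ F.map φ.hom := by rw [← hφ, F.map_comp]
      rw [show F.map c.π = F.map π ≫ F.map φ.inv by rw [h, Category.assoc, ← F.map_comp, φ.hom_inv_id, F.map_id, Category.comp_id]]
      exact epi_comp _ _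
    have hpb' : IsPullback p₁ p₂ c.π c.π :=
      hpb.of_iso (Iso.refl _) (Iso.refl _) (Iso.refl _) φ.symm (by simp) (by simp)
        (by simp [← hφ]) (by simp [← hφ])
    have hpbF : IsPullback (F.map p₁) (F.map p₂) (F.map c.π) (F.map c.π) :=
      (hpb'.map yoneda).map (presheafToSheaf Jc (Type u))
    have hex : ∀ s : Cofork (F.map p₁) (F.map p₂), ∃ a, F.map c.π ≫ a = s.π := fun s =>
      Groth.Agent.Topos.desc_of_epi (F.map c.π) s.π (by
        rw [← cancel_epi hpbF.isoPullback.hom, hpbF.isoPullback_hom_fst_assoc,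
          hpbF.isoPullback_hom_snd_assoc, s.condition])
    choose d hd using hex
    exact ⟨(IsColimit.equivIsoColimit iF).symm (e.symm (Cofork.IsColimit.mk _ d hd fun s m hm => (cancel_epi (F.map c.π)).1 (hm.trans (hd s).symm)))⟩
  · rintro ⟨h⟩
    have hF := e (IsColimit.ofIsoColimit h iF)
    haveI : Epi (F.map c.π) := ⟨fun a b hab => Cofork.IsColimit.hom_ext hF hab⟩
    have hcov := (hsieve c.π).1 inferInstance
    obtain ⟨r, hr₁, hr₂⟩ := (hR X).2.refl (𝟙 X)
    let q : ∀ U : C, (U ⟶ X) → (U ⟶ X) → Prop := fun U a b => ∃ f : U ⟶ R, f ≫ p₁ = a ∧ f ≫ p₂ = b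
    let Q : Cᵒᵖ ⥤ Type u :=
      { obj := fun U => Quot (q U.unop)
        map := fun {U V} g => ↾(Quot.map (fun a => g.unop ≫ a) (fun a b ⟨f, hf₁, hf₂⟩ =>
          ⟨g.unop ≫ f, by rw [Category.assoc, hf₁], by rw [Category.assoc, hf₂]⟩))
        map_id := fun U => by
          ext x
          induction x using Quot.ind with
          | mk a => exact congrArg (Quot.mk _) (Category.id_comp a)
        map_comp := fun g g' => by
          ext x
          induction x using Quot.ind with
          | mk a => exact congrArg (Quot.mk _) (Category.assoc _ _ _) }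
    let qm : yoneda.obj X ⟶ Q := { app := fun U => ↾(Quot.mk (q U.unop)) }
    have hqm : yoneda.map p₁ ≫ qm = yoneda.map p₂ ≫ qm := by
      ext U f
      exact Quot.sound ⟨f, rfl, rfl⟩
    have hqs : F.map p₁ ≫ (presheafToSheaf Jc (Type u)).map qm = F.map p₂ ≫ (presheafToSheaf Jc (Type u)).map qm := by
      simp only [F, Functor.comp_map, ← Functor.map_comp, hqm]
    let d := Cofork.IsColimit.desc hF _ hqs
    have hd : F.map c.π ≫ d = (presheafToSheaf Jc (Type u)).map qm := Cofork.IsColimit.π_desc' hF _ hqs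
    have key : ∀ {T : C} (a b : T ⟶ X), a ≫ c.π = b ≫ c.π → ∃ f : T ⟶ R, f ≫ p₁ = a ∧ f ≫ p₂ = b := by
      intro T a b hab
      have h1 : ∀ z : T ⟶ X, ((presheafToSheaf Jc (Type u)).map qm).hom.app (op T) (Groth.Agent.Topos.epsSec Jc z) =
          (toSheafify Jc Q).app (op T) (Quot.mk _ z) := fun z =>
        (congr_arg (fun m => m.app (op T) z) (toSheafify_naturality Jc qm)).symm
      have h2 : (toSheafify Jc Q).app (op T) (Quot.mk _ a) = (toSheafify Jc Q).app (op T) (Quot.mk _ b) := by
        rw [← h1 a, ← h1 b, ← hd, Groth.Agent.Topos.comp_app_apply, Groth.Agent.Topos.comp_app_apply]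
        exact congrArg (d.hom.app (op T)) ((Groth.Agent.Topos.eps_map_epsSec Jc c.π a).trans
          ((congrArg (Groth.Agent.Topos.epsSec Jc) hab).trans (Groth.Agent.Topos.eps_map_epsSec Jc c.π b).symm))
      let S := Presheaf.equalizerSieve (F := Q) (Quot.mk (q T) a) (Quot.mk (q T) b)
      have hS : S ∈ Jc T := Presheaf.equalizerSieve_mem Jc (toSheafify Jc Q) _ _ h2
      have hrel : ∀ ⦃V : C⦄ (g : V ⟶ T), S g → ∃ f : V ⟶ R, f ≫ p₁ = g ≫ a ∧ f ≫ p₂ = g ≫ b :=
        fun V g hg => (hR V).2.eqvGen_iff.1 (Quot.eqvGen_exact hg)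
      choose fam hfam₁ hfam₂ using hrel
      have hcomp : Presieve.FamilyOfElements.Compatible (P := yoneda.obj R) (fun V g hg => fam g hg) := by
        intro V₁ V₂ V g₁ g₂ f₁ f₂ h₁ h₂ he
        refine hinj _ _ ?_ ?_
        · change (g₁ ≫ fam f₁ h₁) ≫ p₁ = (g₂ ≫ fam f₂ h₂) ≫ p₁
          rw [Category.assoc, hfam₁, Category.assoc, hfam₁, reassoc_of% he]
        · change (g₁ ≫ fam f₁ h₁) ≫ p₂ = (g₂ ≫ fam f₂ h₂) ≫ p₂
          rw [Category.assoc, hfam₂, Category.assoc, hfam₂, reassoc_of% he]
      obtain ⟨f, hf, -⟩ := Sheaf.isSheaf_yoneda_obj R S hS _ hcomp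
      have hX := (Sheaf.isSheaf_yoneda_obj X S hS).isSeparatedFor
      refine ⟨f, hX.ext fun V g hg => ?_, hX.ext fun V g hg => ?_⟩
      · change g ≫ f ≫ p₁ = g ≫ a
        rw [← hfam₁ g hg, ← Category.assoc]
        exact congrArg (· ≫ p₁) (hf g hg)
      · change g ≫ f ≫ p₂ = g ≫ b
        rw [← hfam₂ g hg, ← Category.assoc]
        exact congrArg (· ≫ p₂) (hf g hg)
    refine ⟨c.pt, c.π, ?_, ?_, fun B' g => ?_⟩
    · choose lift hl₁ hl₂ using fun s : PullbackCone c.π c.π => key s.fst s.snd s.condition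
      exact IsPullback.of_isLimit' ⟨c.condition⟩ (PullbackCone.IsLimit.mk _ lift hl₁ hl₂
        fun s m h₁ h₂ => hinj _ _ (h₁.trans (hl₁ s).symm) (h₂.trans (hl₂ s).symm))
    · refine IsPushout.of_isColimit' ⟨c.condition⟩ (PushoutCocone.IsColimit.mk _
        (fun s => Cofork.IsColimit.desc hc s.inl ?_) (fun s => Cofork.IsColimit.π_desc' hc _ _)
        (fun s => ?_) fun s m h₁ _ => Cofork.IsColimit.hom_ext hc (h₁.trans (Cofork.IsColimit.π_desc' hc _ _).symm))
      · have := congrArg (fun m => r ≫ m) s.condition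
        simp only [reassoc_of% hr₁, reassoc_of% hr₂] at this
        rw [s.condition, this]
      · rw [Cofork.IsColimit.π_desc' hc]
        simpa only [reassoc_of% hr₁, reassoc_of% hr₂] using congrArg (fun m => r ≫ m) s.condition
    · rw [← Sieve.effectiveEpimorphic_singleton, Presieve.EffectiveEpimorphic.iff_forall_isSheafFor_yoneda]
      intro W
      rw [Presieve.isSheafFor_iff_generate, ← Presieve.pullback_singleton, Sieve.pullbackArrows_comm]
      exact Sheaf.isSheaf_yoneda_obj W _ (Jc.pullback_stable g hcov)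

end Groth.Agent.S6140
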