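import Groth.Statements.S6142
import Mathlib.CategoryTheory.Sites.Pullback
import Mathlib.CategoryTheory.Sites.Subcanonical

set_option autoImplicit false
open CategoryTheory
universe u
open SGA4

namespace Groth.Agent.S6142

/-- Let `u : C ⥤ C'` be a continuous and cocontinuous functor between small sites whose topologies are
subcanonical. If the left adjoint `u_!` of the restriction functor `u^*` on sheaves of sets is full
and faithful, then `u` is full and faithful. -/
theorem result
    {C : Type u} [SmallCategory C] {C' : Type u} [SmallCategory C']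
    (J : GrothendieckTopology C) (K : GrothendieckTopology C') [J.Subcanonical] [K.Subcanonical]
    (u : C ⥤ C') [u.IsContinuous J K] [u.IsCocontinuous J K]
    (h : (u.sheafPullback (Type u) J K).Full ∧ (u.sheafPullback (Type u) J K).Faithful) :
    u.Full ∧ u.Faithful := by
  obtain ⟨h1, h2⟩ := h
  let adj := u.sheafAdjunctionContinuous (Type u) J K
  let L := u.sheafPullback (Type u) J K
  let R := u.sheafPushforwardContinuous (Type u) J K
  let θ : ∀ X, K.yoneda.obj (u.obj X) ⟶ L.obj (J.yoneda.obj X) := fun X =>
    K.yonedaEquiv.symm (J.yonedaEquiv (F := R.obj (L.obj (J.yoneda.obj X))) (adj.unit.app (J.yoneda.obj X)))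
  have key : ∀ (X : C) (G : Sheaf K (Type u)) (α : L.obj (J.yoneda.obj X) ⟶ G),
      K.yonedaEquiv (θ X ≫ α) = J.yonedaEquiv (F := R.obj G) (adj.homEquiv _ _ α) := by
    intro X G α
    rw [GrothendieckTopology.yonedaEquiv_comp, Equiv.apply_symm_apply, Adjunction.homEquiv_unit,
      GrothendieckTopology.yonedaEquiv_comp]
    rfl
  haveI hθ : ∀ X, IsIso (θ X) := fun X => by
    apply isIso_of_coyoneda_map_bijective
    intro G
    refine ⟨fun α β h => ?_, fun γ => ?_⟩
    · have h' := congrArg K.yonedaEquiv h
      simp only [key] at h'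
      exact (adj.homEquiv _ _).injective (J.yonedaEquiv.injective h')
    · refine ⟨(adj.homEquiv _ _).symm ((J.yonedaEquiv (F := R.obj G)).symm (K.yonedaEquiv γ)), ?_⟩
      apply K.yonedaEquiv.injective
      simp only [key, Equiv.apply_symm_apply]
  let e : u ⋙ K.yoneda ≅ J.yoneda ⋙ L := NatIso.ofComponents (fun X => asIso (θ X)) (fun {X U} φ => by
    apply K.yonedaEquiv.injective
    show K.yonedaEquiv (K.yoneda.map (u.map φ) ≫ θ U) = K.yonedaEquiv (θ X ≫ L.map (J.yoneda.map φ))
    rw [key, ← GrothendieckTopology.yonedaEquiv_naturality, Equiv.apply_symm_apply, Adjunction.homEquiv_unit]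
    erw [← adj.unit.naturality (J.yoneda.map φ)]
    exact J.yonedaEquiv_naturality (F := R.obj (L.obj (J.yoneda.obj U))) (adj.unit.app (J.yoneda.obj U)) φ)
  haveI : J.yoneda.Full := (GrothendieckTopology.yonedaFullyFaithful J).full
  haveI : J.yoneda.Faithful := (GrothendieckTopology.yonedaFullyFaithful J).faithful
  haveI : K.yoneda.Faithful := (GrothendieckTopology.yonedaFullyFaithful K).faithful
  haveI : L.Full := h1
  haveI : L.Faithful := h2
  exact ⟨Functor.Full.of_comp_faithful_iso e, Functor.Faithful.of_comp_iso e⟩

end Groth.Agent.S6142
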