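import Groth.Statements.S6143
import Groth.Agent.Lib.Giraud.Cofan
import Groth.Agent.S6132
import Mathlib.CategoryTheory.Limits.VanKampen

set_option autoImplicit false
open CategoryTheory CategoryTheory.Limits
universe u
open SGA4

namespace Groth.Agent.S6143

/-- Let `C` be a small category, `X` an object and `s i : Y i ⟶ X` a family of morphisms all of whose
base changes exist. Then the associated sheaf of `h_X` for the canonical topology, with the maps
induced by the `s i`, is a coproduct of the associated sheaves of the `h_{Y i}` (in sheaves of sets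
for the canonical topology) if and only if `X` is a disjoint universal coproduct of the `Y i` in
`C`: the cofan `(X, s)` is a colimit, the injections of a coproduct of the family are monomorphisms
with pairwise pullbacks initial, and the colimit is stable under base change. (The source asks for
the coproduct decomposition after sheafification for some topology coarser than the canonical one;
this is equivalent to asking it for the canonical topology itself.) -/
theorem result
    {C : Type u} [SmallCategory C] {X : C} {ι : Type u} (Y : ι → C) (s : ∀ i, Y i ⟶ X)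
    [∀ (i : ι) (Z : C) (g : Z ⟶ X), HasPullback (s i) g] :
    Nonempty (IsColimit (Cofan.mk
        ((presheafToSheaf (Sheaf.canonicalTopology C) (Type u)).obj (yoneda.obj X))
        (fun i => (presheafToSheaf (Sheaf.canonicalTopology C) (Type u)).map (yoneda.map (s i))))) ↔
      (Nonempty (IsColimit (Cofan.mk X s)) ∧ CoproductDisjoint Y ∧
        IsUniversalColimit (Cofan.mk X s)) := by
  open CategoryTheory.Limits in
  let J := Sheaf.canonicalTopology C
  let G : C ⥤ Sheaf J (Type u) := yoneda ⋙ presheafToSheaf J (Type u)
  have hG : G.FullyFaithful := J.yonedaFullyFaithful.ofIso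
    ((Functor.rightUnitor J.yoneda).symm ≪≫
      Functor.isoWhiskerLeft J.yoneda (asIso (sheafificationAdjunction J (Type u)).counit).symm ≪≫
      Iso.refl _)
  have := hG.full
  have := hG.faithful
  constructor
  · rintro ⟨hc⟩
    have hc' : IsColimit (G.mapCocone (Cofan.mk X s)) :=
      (isColimitMapCoconeCofanMkEquiv G Y s).symm hc
    have hcC : IsColimit (Cofan.mk X s) := isColimitOfReflects G hc'
    obtain ⟨-, hm, hdisj⟩ := (Groth.Agent.Giraud.isColimit_cofan_iff_pullback
      (fun i => G.map (s i))).1 ⟨hc⟩
    have hms : ∀ i, Mono (s i) := fun i => G.mono_of_mono_map (hm i)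
    refine ⟨⟨hcC⟩, ?_, ?_⟩
    · have : ∀ i, Mono ((Cofan.mk X s).inj i) := hms
      refine CoproductDisjoint.of_cofan hcC
        (fun {i j} _ => (IsPullback.of_hasPullback (s i) (s j)).cone)
        (fun {i j} _ => (IsPullback.of_hasPullback (s i) (s j)).isLimit) fun {i j} hij => ?_
      change IsInitial (pullback (s i) (s j))
      refine IsInitial.isInitialOfObj G _ ?_
      exact (Classical.choice (hdisj i j hij)).ofIso
        ((IsPullback.of_hasPullback (s i) (s j)).map G).isoPullback.symm
    · let F : ι → Sheaf J (Type u) := fun i => G.obj (Y i)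
      let Φ : Discrete.functor Y ⋙ G ≅ Discrete.functor F := Discrete.natIso fun _ => Iso.refl _
      have hu := (Groth.Agent.Giraud.isUniversalColimit_sh J F).precompose_isIso Φ.hom
      refine IsUniversalColimit.of_mapCocone G (hu.of_iso ?_)
      let ei := IsColimit.coconePointUniqueUpToIso (coproductIsCoproduct F) hc
      exact Cocone.ext ei fun ⟨i⟩ => by
          change (𝟙 (F i) ≫ Sigma.ι F i) ≫ _ = G.map (s i)
          rw [Category.id_comp]
          exact IsColimit.comp_coconePointUniqueUpToIso_hom (coproductIsCoproduct F) hc ⟨i⟩
  · rintro ⟨⟨hc⟩, hd, hu⟩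
    classical
    have hms : ∀ i, Mono (s i) := fun i => Mono.of_coproductDisjoint hc i
    have base : ∀ {Z : C} (g : Z ⟶ X), Nonempty (IsColimit (Cofan.mk Z fun i => pullback.snd (s i) g)) := by
      intro Z g
      exact hu (Cofan.mk Z fun i => pullback.snd (s i) g) (Discrete.natTrans fun i => pullback.fst (s i.as) g)
        g (by ext ⟨i⟩; exact pullback.condition) (NatTrans.equifibered_of_discrete _)
        fun ⟨i⟩ => (IsPullback.of_hasPullback (s i) g).flip
    have hcov : Sieve.ofArrows Y s ∈ J X := by
      refine Sheaf.mem_finestTopology_of_forall_isSheafFor ?_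
      rintro _ ⟨W, rfl⟩ Z g x hx
      obtain ⟨hb⟩ := base g
      have hp : ∀ i, (Sieve.ofArrows Y s).pullback g (pullback.snd (s i) g) := fun i => by
        rw [Sieve.pullback_apply, Sieve.mem_ofArrows_iff]
        exact ⟨i, pullback.fst (s i) g, pullback.condition.symm⟩
      refine ⟨Cofan.IsColimit.desc hb fun i => x (pullback.snd (s i) g) (hp i), ?_, ?_⟩
      · intro V a ha
        have ha' := ha
        rw [Sieve.pullback_apply, Sieve.mem_ofArrows_iff] at ha'
        obtain ⟨i, b, hb'⟩ := ha'
        let l := pullback.lift b a hb'.symm
        have e := hx l (𝟙 V) (hp i) ha (by rw [Category.id_comp]; exact pullback.lift_snd _ _ _)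
        change l ≫ x _ _ = 𝟙 V ≫ x a ha at e
        change a ≫ Cofan.IsColimit.desc hb _ = x a ha
        rw [← Category.id_comp (x a ha), ← e]
        conv_lhs => rw [← pullback.lift_snd b a hb'.symm, Category.assoc]
        exact congrArg (l ≫ ·) (Cofan.IsColimit.fac hb _ i)
      · intro t ht
        refine Cofan.IsColimit.hom_ext hb _ _ fun i => ?_
        rw [Cofan.IsColimit.fac]
        exact ht _ (hp i)
    refine Groth.Agent.S6132.result J Y s hcov hms fun i j hij => ?_
    refine Sheaf.mem_finestTopology_of_forall_isSheafFor ?_
    rintro _ ⟨W, rfl⟩ Z g x hx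
    have hI : IsInitial (pullback (s i) (s j)) := IsInitial.ofCoproductDisjointOfIsColimit hij hc
    refine ⟨g ≫ hI.to W, fun V a ha => False.elim ha, fun t _ => ?_⟩
    let h := g ≫ pullback.fst (s i) (s j) ≫ s i
    obtain ⟨hb⟩ := base h
    let li : Z ⟶ pullback (s i) h := pullback.lift (g ≫ pullback.fst (s i) (s j)) (𝟙 Z) (by simp [h])
    let lj : Z ⟶ pullback (s j) h := pullback.lift (g ≫ pullback.snd (s i) (s j)) (𝟙 Z)
      (by simp [h, pullback.condition])
    let f : ∀ k, pullback (s k) h ⟶ W := fun k =>
      if k = i then pullback.snd (s k) h ≫ t else pullback.snd (s k) h ≫ g ≫ hI.to W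
    let d := Cofan.IsColimit.desc hb f
    have hi : d = t := by
      have := li ≫= Cofan.IsColimit.fac hb f i
      simp only [f, if_pos rfl] at this
      change li ≫ pullback.snd (s i) h ≫ d = li ≫ pullback.snd (s i) h ≫ t at this
      simpa only [li, pullback.lift_snd_assoc, Category.id_comp] using this
    have hj : d = g ≫ hI.to W := by
      have := lj ≫= Cofan.IsColimit.fac hb f j
      simp only [f, if_neg (Ne.symm hij)] at this
      change lj ≫ pullback.snd (s j) h ≫ d = lj ≫ pullback.snd (s j) h ≫ g ≫ hI.to W at this
      simpa only [lj, pullback.lift_snd_assoc, Category.id_comp] using this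
    exact hi.symm.trans hj

end Groth.Agent.S6143
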