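import Groth.Statements.S6144
import Mathlib.CategoryTheory.Limits.Shapes.Diagonal
import Mathlib.Logic.Small.Set

set_option autoImplicit false
open CategoryTheory CategoryTheory.Limits
universe w v u
open SGA4

namespace Groth.Agent.S6144

/-- Let `E` be a category with `v`-small hom-sets and pullbacks, admitting a detecting family of objects
indexed by a `v`-small type (maps out of the family jointly reflect isomorphisms). Then every
detecting family `Y : I → E`, indexed by an arbitrary type, contains a detecting subfamily indexed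
by a `v`-small subset of `I`. -/
theorem result
    {E : Type u} [Category.{v} E] [HasPullbacks E] {κ : Type v} (G : κ → E)
    (hG : (ObjectProperty.ofObj G).IsDetecting) {I : Type w} (Y : I → E)
    (hY : (ObjectProperty.ofObj Y).IsDetecting) :
    ∃ J : Set I, Small.{v} J ∧ (ObjectProperty.ofObj (fun j : J => Y j)).IsDetecting := by
  have sub : ∀ X : E, Small.{v} (Subobject X) := by
    intro X
    refine small_of_injective (f := fun A : Subobject X =>
      fun k => {g : G k ⟶ X | A.Factors g}) fun A B hAB => ?_
    have key : ∀ A B : Subobject X, (∀ k (g : G k ⟶ X), A.Factors g → B.Factors g) → A ≤ B := by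
      intro A B hh
      have hmono : Mono (pullback.fst A.arrow B.arrow) := inferInstance
      have : IsIso (pullback.fst A.arrow B.arrow) := by
        refine hG _ ?_
        rintro _ ⟨k⟩ g
        obtain ⟨g'', hg''⟩ := (Subobject.factors_iff _ _).1
          (hh k (g ≫ A.arrow) ((Subobject.factors_iff _ _).2 ⟨g, rfl⟩))
        refine ⟨pullback.lift g g'' hg''.symm, pullback.lift_fst _ _ _, fun g' hg' => ?_⟩
        rw [← cancel_mono (pullback.fst A.arrow B.arrow), pullback.lift_fst]; exact hg'
      exact Subobject.le_of_comm (inv (pullback.fst A.arrow B.arrow) ≫ pullback.snd _ _)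
        (by simp [← pullback.condition])
    exact le_antisymm (key A B fun k g => (Set.ext_iff.1 (congrFun hAB k) g).1)
      (key B A fun k g => (Set.ext_iff.1 (congrFun hAB k) g).2)
  have ex : ∀ p : Σ k, {A : Subobject (G k) // A ≠ ⊤},
      ∃ i, ∃ g : Y i ⟶ G p.1, ¬ p.2.1.Factors g := by
    rintro ⟨k, A, hA⟩
    by_contra hh
    push Not at hh
    apply hA
    have : IsIso A.arrow := by
      refine hY _ ?_
      rintro _ ⟨i⟩ g
      obtain ⟨g', hg'⟩ := (Subobject.factors_iff _ _).1 (hh i g)
      exact ⟨g', hg', fun m hm => (cancel_mono A.arrow).1 (hm.trans hg'.symm)⟩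
    exact Subobject.eq_top_of_isIso_arrow A
  choose i g hig using ex
  refine ⟨Set.range i, small_range i, ?_⟩
  intro A B f hf
  replace hf : ∀ p h, ∃! h', h' ≫ f = h := fun p h => hf (Y (i p)) ⟨(⟨i p, p, rfl⟩ : Set.range i)⟩ h
  have hmono : ∀ {A B : E} (f : A ⟶ B), Mono f →
      (∀ p (h : Y (i p) ⟶ B), ∃ h', h' ≫ f = h) → IsIso f := by
    intro A B f _ hl
    refine hG f ?_
    rintro _ ⟨k⟩ b
    have htop : Subobject.mk (pullback.snd f b) = ⊤ := by
      by_contra hne
      obtain ⟨h', hh'⟩ := hl ⟨k, _, hne⟩ (g ⟨k, _, hne⟩ ≫ b)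
      refine hig ⟨k, _, hne⟩ ((Subobject.mk_factors_iff _ _).2 ⟨pullback.lift h' (g _) hh', ?_⟩)
      exact pullback.lift_snd _ _ _
    have := (Subobject.isIso_iff_mk_eq_top (pullback.snd f b)).2 htop
    refine ⟨inv (pullback.snd f b) ≫ pullback.fst f b, by simp [pullback.condition], fun m hm => ?_⟩
    rw [← cancel_mono f, hm]; simp [pullback.condition]
  have : IsIso (Limits.pullback.diagonal f) := by
    refine hmono _ inferInstance fun p h => ⟨h ≫ pullback.fst f f, ?_⟩
    refine Limits.pullback.hom_ext (by simp) ?_
    simp only [Category.assoc, Limits.pullback.diagonal_snd, Category.comp_id]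
    exact (hf p (h ≫ pullback.fst f f ≫ f)).unique (by simp)
      (by simp [pullback.condition])
  exact hmono f ((Limits.pullback.isIso_diagonal_iff f).1 this) fun p h => (hf p h).exists

end Groth.Agent.S6144
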