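import Groth.Statements.S6149
import Groth.Agent.Lib.ModFlat16.Acyclic

set_option autoImplicit false
universe u
open CategoryTheory
open ModSite

namespace Groth.Agent.S6149
set_option linter.style.haveILetI false
set_option backward.isDefEq.respectTransparency false
set_option backward.isDefEq.respectTransparency.types false


open CategoryTheory.Limits in
/-- Ringed topos of sheaves on a small site with commutative structure sheaf O: let M be an acyclic
chain complex of flat O-modules with M_i = 0 for i below some bound. Then for every O-module F the
complex M (x)_O F (tensoring termwise with F) is acyclic. The instance binder on the tensor functor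
(it preserves zero morphisms) always holds and is only needed to form the complex. -/
theorem result {C : Type u} [SmallCategory C] {J : GrothendieckTopology C}
    (O : Sheaf J CommRingCat.{u}) (M : ChainComplex (ModSite.Mod O) ℤ) (F : ModSite.Mod O)
    [((ModSite.tensorBi O).flip.obj F).PreservesZeroMorphisms]
    (hb : ∃ i₀ : ℤ, ∀ i, i < i₀ → IsZero (M.X i)) (hM : ∀ i, ModSite.IsFlat (M.X i)) (hac : M.Acyclic) :
    ((((ModSite.tensorBi O).flip.obj F).mapHomologicalComplex (ComplexShape.down ℤ)).obj M).Acyclic := by
  exact Groth.Agent.ModFlat16.acyclic_map_flip M F hb hM hac

end Groth.Agent.S6149
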