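import Groth.Statements.S6152
import Groth.Agent.Lib.ModFlat16.Generators

set_option autoImplicit false
universe u
open CategoryTheory
open ModSite

namespace Groth.Agent.S6152
set_option linter.style.haveILetI false
set_option backward.isDefEq.respectTransparency false
set_option backward.isDefEq.respectTransparency.types false


/-- Second assertion (ringed topos of sheaves on a small site (C, J) with commutative structure sheaf
O): if G is a topologically generating family of objects (every object of C admits a covering family
by members of G), then the free O-modules A_X = j_{X!}(O|X), X in G, form a generating family of the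
category of O-modules; stated as: this family detects isomorphisms and is separating. -/
theorem result {C : Type u} [SmallCategory C] {J : GrothendieckTopology C}
    (O : Sheaf J CommRingCat.{u}) (G : Set C)
    (hG : ∀ X : C, ∃ (ι : Type u) (Y : ι → C) (f : ∀ i, Y i ⟶ X), Sieve.ofArrows Y f ∈ J X ∧ ∀ i, Y i ∈ G) :
    (ObjectProperty.ofObj fun X : G => ModSite.freeOn O (X : C)).IsDetecting ∧
    (ObjectProperty.ofObj fun X : G => ModSite.freeOn O (X : C)).IsSeparating := by
  exact ⟨Groth.Agent.ModFlat16.isDetecting_freeOn O G hG, Groth.Agent.ModFlat16.isSeparating_freeOn O G hG⟩

end Groth.Agent.S6152
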