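import Groth.Statements.S6156
import Groth.Agent.Lib.ExtSupp8.RestrHom

set_option autoImplicit false
universe u
open CategoryTheory
open ModSite

namespace Groth.Agent.S6156


/-- Ringed topos of sheaves on a small site with commutative structure sheaf O, localised at an object
X: j_X^* Hom_O(M, N) is isomorphic to Hom_{O|X}(j_X^* M, j_X^* N). Existence of an isomorphism only
(the source's Phi_X is canonical); the binders providing the internal hom functors always hold. -/
theorem result {C : Type u} [SmallCategory C] {J : GrothendieckTopology C} (O : Sheaf J CommRingCat.{u})
    (X : C) (M N : ModSite.Mod O) [ModSite.HasSheafHom M] [ModSite.HasSheafHom ((ModSite.restr O X).obj M)] :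
    Nonempty ((ModSite.restr O X).obj ((ModSite.sheafHom M).obj N) ≅
      (ModSite.sheafHom ((ModSite.restr O X).obj M)).obj ((ModSite.restr O X).obj N)) := by
  exact ⟨(Groth.Agent.ExtSupp8.restrHomIso O X M).app N⟩


end Groth.Agent.S6156
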