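import Groth.Statements.S6157
import Groth.Agent.Lib.PullTen16.PushHom

set_option autoImplicit false
universe u
open CategoryTheory
open ModSite

namespace Groth.Agent.S6157
set_option linter.style.haveILetI false
set_option backward.isDefEq.respectTransparency false
set_option backward.isDefEq.respectTransparency.types false

/-- Morphisms of ringed sites between small sites with commutative structure sheaves: for a morphism of
ringed sites f : (C, O_C) -> (D, O_D), an O_C-module M and an O_D-module N, the abelian sheaf
underlying f_* Hom_{O_C}(f^* N, M) is isomorphic to the one underlying Hom_{O_D}(N, f_* M).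
Existence of an isomorphism of abelian sheaves only (the source's adjunction isomorphism is
canonical); the internal-hom binders always hold. -/
theorem result {C D : Type u} [SmallCategory C] [SmallCategory D] {J : GrothendieckTopology C}
    {K : GrothendieckTopology D} {O_C : Sheaf J CommRingCat.{u}} {O_D : Sheaf K CommRingCat.{u}}
    (f : ModSite.RMor O_C O_D) (M : ModSite.Mod O_C) (N : ModSite.Mod O_D)
    [ModSite.HasSheafHom (f.pull.obj N)] [ModSite.HasSheafHom N] :
    Nonempty (ModSite.toAb (f.push.obj ((ModSite.sheafHom (f.pull.obj N)).obj M)) ≅
      ModSite.toAb ((ModSite.sheafHom N).obj (f.push.obj M))) := by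
  exact ⟨(SheafOfModules.toSheaf _).mapIso (Groth.Agent.PullTen16.pushHomIso f M N)⟩

end Groth.Agent.S6157
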