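import Groth.Statements.S6158
import Groth.Agent.Lib.PullTen16.PullTensor
import Groth.Agent.S6165

set_option autoImplicit false
universe u
open CategoryTheory
open ModSite

namespace Groth.Agent.S6158
set_option linter.style.haveILetI false
set_option backward.isDefEq.respectTransparency false
set_option backward.isDefEq.respectTransparency.types false

/-- Morphisms of ringed sites between small sites with commutative structure sheaves, so that the map
from the pulled-back structure sheaf to O_C is central: for a morphism of ringed sites f : (C, O_C)
-> (D, O_D) and O_D-modules M, N, f^* M (x)_{O_C} f^* N is isomorphic to f^*(M (x)_{O_D} N).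
Existence of an isomorphism only (the source's is the canonical one). -/
theorem result {C D : Type u} [SmallCategory C] [SmallCategory D] {J : GrothendieckTopology C}
    {K : GrothendieckTopology D} {O_C : Sheaf J CommRingCat.{u}} {O_D : Sheaf K CommRingCat.{u}}
    (f : ModSite.RMor O_C O_D) (M N : ModSite.Mod O_D) :
    Nonempty (((ModSite.tensorBi O_C).obj (f.pull.obj M)).obj (f.pull.obj N) ≅
      f.pull.obj (((ModSite.tensorBi O_D).obj M).obj N)) := by
  haveI := Groth.Agent.S6165.result O_C (f.pull.obj N)
  haveI := Groth.Agent.S6165.result O_D N
  exact ⟨Groth.Agent.PullTen16.pullTensorIso f M N⟩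

end Groth.Agent.S6158
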