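import Groth.Statements.S6160
import Groth.Agent.Lib.CohFound.ModulesInst
import Mathlib.Algebra.Category.ModuleCat.Sheaf.ChangeOfRings
import Mathlib.Algebra.Category.ModuleCat.Sheaf.Limits

set_option autoImplicit false
universe u
open CategoryTheory
open ModSite

namespace Groth.Agent.S6160
set_option linter.style.haveILetI false
set_option backward.isDefEq.respectTransparency false
set_option backward.isDefEq.respectTransparency.types false


open CategoryTheory.Limits in
/-- Ringed topos of sheaves on a small site; u : A -> B a morphism of sheaves of rings: the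
restriction-of-scalars functor from B-Modules to A-Modules commutes with all u-small limits and
colimits and is conservative. -/
theorem result {C : Type u} [SmallCategory C]
    {J : GrothendieckTopology C} {A B : Sheaf J RingCat.{u}} (φ : A ⟶ B) :
    PreservesLimitsOfSize.{u, u} (SheafOfModules.restrictScalars.{u} φ) ∧
    PreservesColimitsOfSize.{u, u} (SheafOfModules.restrictScalars.{u} φ) ∧
    (SheafOfModules.restrictScalars.{u} φ).ReflectsIsomorphisms := by
  haveI hc : ∀ R : Sheaf J RingCat.{u}, PreservesColimitsOfSize.{u, u} (SheafOfModules.toSheaf.{u} R) :=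
    fun R => ⟨fun {K} _ => Groth.Agent.CohFound.preservesColimitsOfShape_sheafOfModules_toSheaf R K⟩
  haveI : ∀ R : Sheaf J RingCat.{u}, (SheafOfModules.toSheaf.{u} R).ReflectsIsomorphisms := fun R => inferInstance
  haveI hl : ∀ R : Sheaf J RingCat.{u}, PreservesLimitsOfSize.{u, u} (SheafOfModules.toSheaf.{u} R) := fun R => by
    haveI : PreservesLimitsOfSize.{u, u} (SheafOfModules.toSheaf.{u} R ⋙ sheafToPresheaf J AddCommGrpCat.{u}) :=
      inferInstanceAs (PreservesLimitsOfSize.{u, u} (SheafOfModules.forget.{u} R ⋙ PresheafOfModules.toPresheaf R.obj))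
    exact preservesLimits_of_reflects_of_preserves _ (sheafToPresheaf J AddCommGrpCat.{u})
  haveI : ReflectsLimitsOfSize.{u, u} (SheafOfModules.toSheaf.{u} A) := reflectsLimits_of_reflectsIsomorphisms
  haveI : ReflectsColimitsOfSize.{u, u} (SheafOfModules.toSheaf.{u} A) := reflectsColimits_of_reflectsIsomorphisms
  haveI : (SheafOfModules.restrictScalars.{u} φ ⋙ SheafOfModules.toSheaf.{u} A).ReflectsIsomorphisms :=
    inferInstanceAs (SheafOfModules.toSheaf.{u} B).ReflectsIsomorphisms
  haveI : PreservesLimitsOfSize.{u, u} (SheafOfModules.restrictScalars.{u} φ ⋙ SheafOfModules.toSheaf.{u} A) :=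
    inferInstanceAs (PreservesLimitsOfSize.{u, u} (SheafOfModules.toSheaf.{u} B))
  haveI : PreservesColimitsOfSize.{u, u} (SheafOfModules.restrictScalars.{u} φ ⋙ SheafOfModules.toSheaf.{u} A) :=
    inferInstanceAs (PreservesColimitsOfSize.{u, u} (SheafOfModules.toSheaf.{u} B))
  exact ⟨preservesLimits_of_reflects_of_preserves _ (SheafOfModules.toSheaf.{u} A),
    preservesColimits_of_reflects_of_preserves _ (SheafOfModules.toSheaf.{u} A),
    reflectsIsomorphisms_of_comp _ (SheafOfModules.toSheaf.{u} A)⟩

end Groth.Agent.S6160
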