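import Groth.Statements.S6161
import Groth.Agent.Lib.SiteCoh.CechFree

set_option autoImplicit false
universe u
open CategoryTheory
open CohSite

namespace Groth.Agent.S6161
set_option linter.style.haveILetI false
set_option backward.isDefEq.respectTransparency false
set_option backward.isDefEq.respectTransparency.types false


open CategoryTheory.Limits in
/-- Case A = Z; topos of sheaves of sets on a small site: for an epimorphism K' -> K of sheaves of sets,
the chain complex of free abelian sheaves ... -> Z[K' x_K K'] -> Z[K'] (alternating sums of the face
maps of the Cech nerve), augmented to Z[K], is a resolution of Z[K]: the augmentation is a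
quasi-isomorphism to Z[K] placed in degree 0. (An epimorphic family (U_i -> X) is replaced here by
the single epimorphism from its coproduct, which gives the same complex.) -/
theorem result {C : Type u} [SmallCategory C] (J : GrothendieckTopology C)
    {K' K : Sheaf J (Type u)} (f : K' ⟶ K) [Epi f] :
    QuasiIso ((AlgebraicTopology.AlternatingFaceMapComplex.ε (C := Sheaf J AddCommGrpCat.{u})).app
      (((SimplicialObject.Augmented.whiskering _ _).obj (Sheaf.composeAndSheafify J AddCommGrpCat.free.{u})).obj
        (Arrow.mk f).augmentedCechNerve)) := by
  exact Groth.Agent.SiteCoh.quasiIso_cech f

end Groth.Agent.S6161
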