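import Groth.Statements.S6162
import Groth.Agent.Lib.ExtSupp8.Spectral

set_option autoImplicit false
universe u
open CategoryTheory
open CohSite

namespace Groth.Agent.S6162


open CategoryTheory.Limits in
/-- Existence form of the Leray spectral sequence; abelian sheaves on small sites: let u : D -> C be a
continuous functor between small sites whose pullback on sheaves of sets is exact (a morphism of
topoi), u_* M = M o u the direct image and R^q u_* its right derived functors. For an abelian sheaf
M on C and an object V of D there is an E_2 spectral sequence of abelian groups, bounded, with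
E_2^{p,q} isomorphic to H^p(V, R^q u_* M) for p, q >= 0 and zero otherwise, together with abutment
data whose filtrations are finite on H^n(u(V), M) (n >= 0; zero for n < 0). The E_2 identifications
and the abutment isomorphisms are asserted to exist only; they are not pinned to the canonical maps
of the construction, so edge maps and low-degree exact sequences are not part of this statement. -/
theorem result {C D : Type u} [SmallCategory C] [SmallCategory D]
    (J : GrothendieckTopology C) (K : GrothendieckTopology D) (u : D ⥤ C) [u.IsContinuous K J]
    [PreservesFiniteLimits (u.sheafPullback (Type u) K J)] (M : Sheaf J AddCommGrpCat.{u}) (V : D) :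
    ∃ (E : E₂CohomologicalSpectralSequence AddCommGrpCat.{u})
      (a : SpSeq.Abutment E (fun n : ℤ =>
        if 0 ≤ n then AddCommGrpCat.of (CohSite.HU M n.toNat (u.obj V)) else AddCommGrpCat.of PUnit.{u + 1})),
      (∀ n, a.IsFinite n) ∧ SpSeq.IsBounded E ∧
      ∀ p q : ℤ, Nonempty ((E.page 2 le_rfl).X (p, q) ≅
        (if 0 ≤ p ∧ 0 ≤ q then AddCommGrpCat.of (CohSite.HU ((CohSite.Rpush J K u q.toNat).obj M) p.toNat V)
         else AddCommGrpCat.of PUnit.{u + 1})) := by
  exact Groth.Agent.ExtSupp8.ext_spectralSequence (CohSite.push J K u) (Groth.Agent.SiteCoh.fr K V)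
    (Groth.Agent.SiteCoh.fr J (u.obj V))
    (Groth.Agent.ExtSupp8.coyonedaPushIso u V)
    (fun I hI k => by
      haveI := hI
      haveI := Groth.Agent.SiteCoh.injective_push (J := J) (K := K) u I
      exact Groth.Agent.SiteCoh.subsingleton_ext_injective _ _ k) M
    (fun n => AddCommGrpCat.of (CohSite.HU M n (u.obj V))) (fun n => ⟨AddEquiv.refl _⟩)
    (fun p q => AddCommGrpCat.of (CohSite.HU ((CohSite.Rpush J K u q).obj M) p V)) (fun p q => ⟨AddEquiv.refl _⟩)


end Groth.Agent.S6162
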