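import Groth.Statements.S6163
import Groth.Agent.Lib.SpObj.Grothendieck
import Groth.Agent.Lib.SiteCoh.Basic
import Groth.Agent.Lib.ExtDerived.Natural

set_option autoImplicit false
universe u
open CategoryTheory
open scoped ZeroObject
open CohSite

namespace Groth.Agent.S6163

open Groth.Agent


open CategoryTheory.Limits in
/-- Existence form (abelian sheaves; the two morphisms of topoi are given by continuous functors u : D
-> C and w : B -> D between small sites with exact pullback on sheaves of sets; the composite
morphism is given by w followed by u, whose continuity is recorded by a binder that always holds):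
for an abelian sheaf M on C there is a bounded E_2 spectral sequence of abelian sheaves on B with
E_2^{p,q} isomorphic to R^p w_*(R^q u_* M) for p, q >= 0 and zero otherwise, with abutment data
whose filtrations are finite on R^n (u w)_* M (n >= 0; zero for n < 0). The E_2 identifications and
abutment isomorphisms are asserted to exist only, not pinned to the canonical maps. -/
theorem result {C D B : Type u} [SmallCategory C] [SmallCategory D]
    [SmallCategory B] (J : GrothendieckTopology C) (K : GrothendieckTopology D) (L : GrothendieckTopology B)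
    (u : D ⥤ C) [u.IsContinuous K J] [PreservesFiniteLimits (u.sheafPullback (Type u) K J)]
    (w : B ⥤ D) [w.IsContinuous L K] [PreservesFiniteLimits (w.sheafPullback (Type u) L K)]
    [(w ⋙ u).IsContinuous L J] (M : Sheaf J AddCommGrpCat.{u}) :
    ∃ (E : E₂CohomologicalSpectralSequence (Sheaf L AddCommGrpCat.{u}))
      (a : SpSeq.Abutment E (fun n : ℤ =>
        if 0 ≤ n then (CohSite.Rpush J L (w ⋙ u) n.toNat).obj M else 0)),
      (∀ n, a.IsFinite n) ∧ SpSeq.IsBounded E ∧
      ∀ p q : ℤ, Nonempty ((E.page 2 le_rfl).X (p, q) ≅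
        (if 0 ≤ p ∧ 0 ≤ q then (CohSite.Rpush K L w p.toNat).obj ((CohSite.Rpush J K u q.toNat).obj M) else 0)) := by
  letI := HasDerivedCategory.standard (Sheaf K AddCommGrpCat.{u})
  letI := HasDerivedCategory.standard (Sheaf L AddCommGrpCat.{u})
  haveI : PreservesFiniteLimits (CohSite.push K L w) :=
    haveI := (w.sheafAdjunctionContinuous AddCommGrpCat.{u} L K).rightAdjoint_preservesLimits
    inferInstance
  obtain ⟨E, a, ha, hb, hE, hz⟩ := SpObj.grothendieck_spectralSequence' (CohSite.push J K u) (CohSite.push K L w)
    (fun I hI q hq => by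
      obtain ⟨k, rfl⟩ := Nat.exists_eq_succ_of_ne_zero (by omega : q ≠ 0)
      haveI := hI
      haveI := Groth.Agent.SiteCoh.injective_push (J := J) (K := K) u I
      exact Functor.isZero_rightDerived_obj_injective_succ _ k _)
    M (fun n : ℤ => if 0 ≤ n then (CohSite.Rpush J L (w ⋙ u) n.toNat).obj M else 0)
    (fun n => ⟨(ExtDerived.nonempty_rightDerived_iso_of_iso n
      (Functor.sheafPushforwardContinuousComp w u AddCommGrpCat.{u} L K J) M).some ≪≫ eqToIso (by simp)⟩)
    (fun n hn => by simp only [if_neg (not_le.2 hn)]; exact Limits.isZero_zero _)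
  refine ⟨E, a, ha, hb, fun p q => ?_⟩
  by_cases hpq : 0 ≤ p ∧ 0 ≤ q
  · obtain ⟨m, rfl⟩ := Int.eq_ofNat_of_zero_le hpq.1
    obtain ⟨k, rfl⟩ := Int.eq_ofNat_of_zero_le hpq.2
    exact ⟨(hE m k).some ≪≫ eqToIso (by simp [hpq])⟩
  · exact ⟨(hz p q hpq).iso (by rw [if_neg hpq]; exact Limits.isZero_zero _)⟩


end Groth.Agent.S6163
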