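import Groth.Statements.S6164
import Groth.Agent.Lib.ExtSupp8.PresheafSS
import Groth.Agent.Lib.SiteCoh.CechExt

set_option autoImplicit false
universe u
open CategoryTheory
open CohSite

namespace Groth.Agent.S6164

open Groth.Agent Opposite


open CategoryTheory.Limits in
/-- Existence form of the spectral sequence of a covering; abelian sheaves on a small site with fibre
products: for a covering family (U_i -> X) and an abelian sheaf M there is a bounded E_2 spectral
sequence of abelian groups with E_2^{p,q} isomorphic to the Cech cohomology group H^p((U_i -> X),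
H^q(M)) of the family with coefficients in the presheaf V |-> H^q(V, M), for p, q >= 0 and zero
otherwise, with abutment data whose filtrations are finite on H^n(X, M) (n >= 0; zero for n < 0).
The E_2 identifications and abutment isomorphisms are asserted to exist only, not pinned to the
canonical maps, so edge maps are not part of this statement. -/
theorem result {C : Type u} [SmallCategory C] [HasPullbacks C]
    (J : GrothendieckTopology C) (M : Sheaf J AddCommGrpCat.{u}) {X : C} {ι : Type u} (Y : ι → Over X)
    (hY : Sieve.ofArrows (fun i => (Y i).left) (fun i => (Y i).hom) ∈ J X) :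
    ∃ (E : E₂CohomologicalSpectralSequence AddCommGrpCat.{u})
      (a : SpSeq.Abutment E (fun n : ℤ =>
        if 0 ≤ n then AddCommGrpCat.of (CohSite.HU M n.toNat X) else AddCommGrpCat.of PUnit.{u + 1})),
      (∀ n, a.IsFinite n) ∧ SpSeq.IsBounded E ∧
      ∀ p q : ℤ, Nonempty ((E.page 2 le_rfl).X (p, q) ≅
        (if 0 ≤ p ∧ 0 ≤ q then CohCx.cechH (M.cohomologyPresheaf q.toNat) Y p.toNat
         else AddCommGrpCat.of PUnit.{u + 1})) := by
  refine Groth.Agent.ExtSupp8.presheaf_spectralSequence J (SiteCoh.famImg Y) M
    (fun n => AddCommGrpCat.of (CohSite.HU M n X)) (fun n => ?_)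
    (fun p q => CohCx.cechH (M.cohomologyPresheaf q) Y p) (fun p q => ?_)
  · haveI := SiteCoh.isIso_famImg Y J hY
    exact ⟨SiteCoh.extPreEquiv (asIso ((SiteCoh.frP J).map (Subfunctor.range (SiteCoh.famBase Y)).ι)).symm M n⟩
  · obtain ⟨e⟩ := SiteCoh.nonempty_cechH_equiv
      (⟨M.cohomologyPresheaf q, Presheaf.isSheaf_bot _⟩ : Sheaf (⊥ : GrothendieckTopology C) AddCommGrpCat.{u}) Y
      (fun m a k => SiteCoh.subsingleton_HU_of_weaklyContractible (SiteCoh.weaklyContractible_bot _) k _) p
    exact ⟨e.symm⟩


end Groth.Agent.S6164
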