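import Groth.Statements.S6167
import Groth.Agent.Lib.ModFlat16.Factor

set_option autoImplicit false
universe u
open CategoryTheory
open ModSite

namespace Groth.Agent.S6167
set_option backward.isDefEq.respectTransparency false
set_option backward.isDefEq.respectTransparency.types false
open Groth.Agent.ModFlat16

/-- Ringed site (C, O), small, with commutative structure sheaf: a morphism from an O-module of finite
presentation (Mathlib's notion: over some family of objects covering every object, a cokernel of a
map of finite free modules) to a flat O-module factors, locally on the site, through a finite free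
module: for every object X there is a covering family (Y_i -> X) and for each i a factorisation
F|Y_i -> (O|Y_i)^n -> H|Y_i of the restricted morphism. -/
theorem result {C : Type u} [SmallCategory C] {J : GrothendieckTopology C}
    (O : Sheaf J CommRingCat.{u}) (F H : ModSite.Mod O) [F.IsFinitePresentation] (hH : ModSite.IsFlat H)
    (φ : F ⟶ H) (X : C) :
    ∃ (ι : Type u) (Y : ι → C) (g : ∀ i, Y i ⟶ X), Sieve.ofArrows Y g ∈ J X ∧
      ∀ i, ∃ (n : ℕ) (a : (ModSite.restr O (Y i)).obj F ⟶ SheafOfModules.free (ULift.{u} (Fin n)))
        (b : SheafOfModules.free (ULift.{u} (Fin n)) ⟶ (ModSite.restr O (Y i)).obj H),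
        a ≫ b = (ModSite.restr O (Y i)).map φ := by
  obtain ⟨q, hq⟩ := SheafOfModules.IsFinitePresentation.exists_quasicoherentData F
  have hH' : RelTriv H := relTriv_of_isFlat hH
  have hS : ∀ i : q.I, ∃ S ∈ J (q.X i), ∀ ⦃V : C⦄ (g : V ⟶ q.X i), S g →
      ∃ (n : ℕ) (a : (ModSite.restr O V).obj F ⟶ SheafOfModules.free (ULift.{u} (Fin n)))
        (b : SheafOfModules.free (ULift.{u} (Fin n)) ⟶ (ModSite.restr O V).obj H),
        a ≫ b = (ModSite.restr O V).map φ := by
    intro i
    haveI := hq.isFinite_presentation i
    let P := q.presentation i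
    haveI : Finite P.generators.I := SheafOfModules.GeneratingSections.IsFiniteType.finite
    haveI : Finite P.relations.I := SheafOfModules.GeneratingSections.IsFiniteType.finite
    exact hH'.factor φ _ P.generators.π _ P.isColimit
  choose S hS hS' using hS
  let T : Sieve X := Sieve.bind (Sieve.ofObjects q.X X).arrows
    fun Y h hh => (S hh.choose).pullback (Classical.choice hh.choose_spec)
  have hT : T ∈ J X := J.bind_covering (q.coversTop X) fun Y h hh => J.pullback_stable _ (hS _)
  refine ⟨{i : Σ Y : C, Y ⟶ X // T i.2}, fun i => i.1.1, fun i => i.1.2,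
    J.superset_covering ?_ hT, ?_⟩
  · intro Y h hh
    exact Sieve.ofArrows_mk (fun i : {i : Σ Y : C, Y ⟶ X // T i.2} => i.1.1) (fun i => i.1.2) ⟨⟨Y, h⟩, hh⟩
  · rintro ⟨⟨W, h⟩, Y, k, h', hh', hk, -⟩
    exact hS' _ _ hk

end Groth.Agent.S6167
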