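import Groth.Statements.S6169
import Groth.Agent.Lib.ModFlat16.Proj

set_option autoImplicit false
universe u
open CategoryTheory
open ModSite

namespace Groth.Agent.S6169
set_option linter.style.haveILetI false
set_option backward.isDefEq.respectTransparency false
set_option backward.isDefEq.respectTransparency.types false


/-- Ringed topos of sheaves on a small site with commutative structure sheaf O, localised at an object
X; projection formula: for an O|X-module P and an O-module N, j_{X!}(P (x)_{O|X} j_X^* N) is
isomorphic to (j_{X!} P) (x)_O N. Existence of an isomorphism only (the source's is canonical); for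
commutative O the two printed formulas coincide. -/
theorem result {C : Type u} [SmallCategory C] {J : GrothendieckTopology C}
    (O : Sheaf J CommRingCat.{u}) (X : C) (P : ModSite.Mod (O.over X)) (N : ModSite.Mod O) :
    Nonempty ((ModSite.extZero O X).obj (((ModSite.tensorBi (O.over X)).obj P).obj ((ModSite.restr O X).obj N)) ≅
      ((ModSite.tensorBi O).obj ((ModSite.extZero O X).obj P)).obj N) := by
  exact ⟨(Groth.Agent.ModFlat16.projRight O X P).app N⟩

end Groth.Agent.S6169
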