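import Groth.Statements.S6170
import Groth.Agent.Lib.ModFlat16.Generators
import Groth.Agent.Lib.ModFlat16.RestrTensor
import Mathlib.CategoryTheory.Adjunction.Additive

set_option autoImplicit false
universe u
open CategoryTheory
open ModSite

namespace Groth.Agent.S6170
set_option linter.style.haveILetI false
set_option backward.isDefEq.respectTransparency false
set_option backward.isDefEq.respectTransparency.types false


/-- Ringed topos of sheaves on a small site with commutative structure sheaf O: the sections of the
internal hom Hom_O(M, N) over an object X form a group isomorphic to Hom_{O|X}(j_X^* M, j_X^* N).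
Existence of an additive isomorphism only (the source's is canonical); the internal-hom binder
always holds. -/
theorem result {C : Type u} [SmallCategory C] {J : GrothendieckTopology C} (O : Sheaf J CommRingCat.{u})
    (M N : ModSite.Mod O) [ModSite.HasSheafHom M] (X : C) :
    Nonempty (ModSite.sect ((ModSite.sheafHom M).obj N) X ≃+ ((ModSite.restr O X).obj M ⟶ (ModSite.restr O X).obj N)) := by
  let H := (ModSite.sheafHom M).obj N
  haveI : ((ModSite.tensorBi O).flip.obj M).Additive :=
    haveI : Limits.PreservesColimitsOfSize.{0, 0} ((ModSite.tensorBi O).flip.obj M) :=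
      (ModSite.sheafHomAdj M).leftAdjoint_preservesColimits
    haveI := Limits.preservesBinaryBiproducts_of_preservesBinaryCoproducts ((ModSite.tensorBi O).flip.obj M)
    Functor.additive_of_preservesBinaryBiproducts _
  let e0 : (ModSite.freeOn O X ⟶ H) ≃+ ModSite.sect H X :=
    { Groth.Agent.ModFlat16.freeOnHom O X H with
      map_add' := fun a b => by
        show (((ModSite.extZeroAdj O X).homEquiv _ _ (a + b)).val.app (Groth.Agent.ModFlat16.topOver X)) _ = _
        rw [(ModSite.extZeroAdj O X).homAddEquiv_add]
        rfl }
  let i : ((ModSite.tensorBi O).flip.obj M).obj (ModSite.freeOn O X) ≅ (ModSite.extZero O X).obj ((ModSite.restr O X).obj M) :=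
    ((Groth.Agent.ModFlat16.projRight O X (SheafOfModules.unit _)).app M).symm ≪≫
      (ModSite.extZero O X).mapIso ((Groth.Agent.ModFlat16.unitTensorIso (O.over X)).app ((ModSite.restr O X).obj M))
  let e1 : (((ModSite.tensorBi O).flip.obj M).obj (ModSite.freeOn O X) ⟶ N) ≃+
      ((ModSite.extZero O X).obj ((ModSite.restr O X).obj M) ⟶ N) :=
    { i.homCongr (Iso.refl N) with
      map_add' := fun a b => by simp }
  exact ⟨e0.symm.trans (((ModSite.sheafHomAdj M).homAddEquiv (ModSite.freeOn O X) N).symm.trans
    (e1.trans ((ModSite.extZeroAdj O X).homAddEquiv _ N)))⟩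

end Groth.Agent.S6170
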