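import Groth.Statements.S6172
import Mathlib.CategoryTheory.Comma.Over.Pullback
import Mathlib.CategoryTheory.Adjunction.Unique

set_option autoImplicit false
universe u
open CategoryTheory
open SGA4

namespace Groth.Agent.S6172

open CategoryTheory.Limits MonoidalCategory in
/-- Topos E of sheaves of sets on a small site, localised at an object Z: with j_Z : E/Z -> E the
localisation morphism, j_Z^* X = Z x X over Z, and j_{Z*} its right adjoint (taken as an instance
hypothesis, which holds in any topos), j_{Z*} j_Z^* Y is isomorphic to the internal hom Hom(Z, Y)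
for every object Y. Existence of an isomorphism only (the source's is canonical). -/
theorem result {C : Type u} [SmallCategory C] (J : GrothendieckTopology C)
    (Z Y : Sheaf J (Type u)) [(Over.star Z).IsLeftAdjoint] :
    Nonempty (((Over.star Z).rightAdjoint).obj ((Over.star Z).obj Y) ≅ (ihom Z).obj Y) := by
  let e : ∀ A : Sheaf J (Type u), (Z ⊗ A) ≅ CategoryTheory.Limits.prod Z A := fun A =>
    { hom := CategoryTheory.Limits.prod.lift (CartesianMonoidalCategory.fst Z A) (CartesianMonoidalCategory.snd Z A)
      inv := CartesianMonoidalCategory.lift CategoryTheory.Limits.prod.fst CategoryTheory.Limits.prod.snd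
      hom_inv_id := CartesianMonoidalCategory.hom_ext _ _
        (by rw [Category.assoc, CartesianMonoidalCategory.lift_fst, prod.lift_fst, Category.id_comp])
        (by rw [Category.assoc, CartesianMonoidalCategory.lift_snd, prod.lift_snd, Category.id_comp])
      inv_hom_id := CategoryTheory.Limits.prod.hom_ext (by simp) (by simp) }
  have he : ∀ {A B : Sheaf J (Type u)} (f : A ⟶ B),
      (Z ◁ f) ≫ (e B).hom = (e A).hom ≫ CategoryTheory.Limits.prod.map (𝟙 Z) f := fun f =>
    CategoryTheory.Limits.prod.hom_ext
      (by rw [Category.assoc, Category.assoc, prod.map_fst, Category.comp_id]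
          erw [prod.lift_fst, prod.lift_fst, CartesianMonoidalCategory.whiskerLeft_fst])
      (by rw [Category.assoc, Category.assoc, prod.map_snd]
          erw [prod.lift_snd, prod.lift_snd_assoc, CartesianMonoidalCategory.whiskerLeft_snd])
  exact ⟨((((Adjunction.ofIsLeftAdjoint (Over.star Z)).comp (Over.forgetAdjStar Z))).rightAdjointUniq
    ((ihom.adjunction Z).ofNatIsoLeft (NatIso.ofComponents e he))).app Y⟩

end Groth.Agent.S6172
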