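import Groth.Statements.S6173
import Mathlib.CategoryTheory.Sites.Point.Map

set_option autoImplicit false
universe u
open CategoryTheory
open SGA4

namespace Groth.Agent.S6173

/-- Second assertion (topos of sheaves on a small site (C, J); E/X_i the induced topoi, modelled by the
sites (C/X_i, J/X_i); 'enough points' = a small conservative family of points, equivalently all
fibre functors together are conservative): if (X_i) is a family of objects covering the final object
and every E/X_i has enough points, then E has enough points. (The first assertion, that E/X inherits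
enough points from E, is Mathlib's instance.) -/
theorem result {C : Type u} [SmallCategory C] (J : GrothendieckTopology C) {ι : Type u}
    (X : ι → C) (hX : J.CoversTop X) (h : ∀ i, GrothendieckTopology.HasEnoughPoints.{u} (J.over (X i))) :
    GrothendieckTopology.HasEnoughPoints.{u} J := by
  classical
  choose P hPs hP using fun i => (h i).exists_objectProperty
  let ι' : Type u := Σ i : ι, Shrink.{u} (Subtype (P i))
  let m : ι' → GrothendieckTopology.Point.{u} J := fun j =>
    ((equivShrink.{u} (Subtype (P j.1))).symm j.2).1.map (Over.forget (X j.1)) J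
  refine ⟨⟨ObjectProperty.ofObj m, inferInstance, ObjectProperty.IsConservativeFamilyOfPoints.mk' ?_⟩⟩
  intro Y S hS
  refine J.transitive (hX Y) S ?_
  rintro Z a ⟨i, ⟨b⟩⟩
  haveI := hPs i
  suffices hT : (Sieve.overEquiv (Over.mk b)).symm (S.pullback a) ∈ (J.over (X i)) (Over.mk b) by
    rw [GrothendieckTopology.mem_over_iff, OrderIso.apply_symm_apply] at hT
    exact hT
  obtain ⟨κ, V, g, hTg⟩ := ((Sieve.overEquiv (Over.mk b)).symm (S.pullback a)).exists_eq_ofArrows
  rw [hTg, (hP i).jointly_reflect_ofArrows_mem_of_small g]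
  intro Ψ z
  let e : ι' := ⟨i, equivShrink.{u} (Subtype (P i)) ⟨Ψ.obj, Ψ.property⟩⟩
  have he : m e = Ψ.obj.map (Over.forget (X i)) J := by
    show (((equivShrink.{u} (Subtype (P i))).symm (equivShrink.{u} (Subtype (P i)) ⟨Ψ.obj, Ψ.property⟩)).1).map _ J = _
    rw [Equiv.symm_apply_apply]
  have hm : ObjectProperty.ofObj m (Ψ.obj.map (Over.forget (X i)) J) := by
    rw [← he]; exact ObjectProperty.ofObj_apply m e
  let p := CategoryOfElements.π Ψ.obj.fiber ⋙ Over.forget (X i)
  let U₀ : Ψ.obj.fiber.Elements := Ψ.obj.fiber.elementsMk (Over.mk b) z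
  obtain ⟨T, t, ht, w, hw⟩ := hS ⟨_, hm⟩
    (GrothendieckTopology.Point.ofIsCofiltered.fiberMk (p := p) (U := U₀) a)
  obtain ⟨V₁, f₁, rfl⟩ := GrothendieckTopology.Point.ofIsCofiltered.fiberMk_jointly_surjective w
  have hw' : GrothendieckTopology.Point.ofIsCofiltered.fiberMk.{u} (p := p) (f₁ ≫ t) =
      GrothendieckTopology.Point.ofIsCofiltered.fiberMk.{u} (p := p) (U := U₀) a :=
    (GrothendieckTopology.Point.ofIsCofiltered.fiber_map_fiberMk p f₁ t).symm.trans hw
  let W := IsCofiltered.min V₁ U₀
  rw [← GrothendieckTopology.Point.ofIsCofiltered.fiberMk_map_comp p (IsCofiltered.minToLeft V₁ U₀),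
    ← GrothendieckTopology.Point.ofIsCofiltered.fiberMk_map_comp p (IsCofiltered.minToRight V₁ U₀)] at hw'
  obtain ⟨W', q, hq⟩ := GrothendieckTopology.Point.ofIsCofiltered.exists_of_fiberMk_eq_fiberMk hw'
  let r : W' ⟶ U₀ := q ≫ IsCofiltered.minToRight V₁ U₀
  have hr : Sieve.ofArrows V g r.1 := by
    rw [← hTg, Sieve.overEquiv_symm_iff]
    show S (r.1.left ≫ a)
    have : r.1.left ≫ a = (p.map q ≫ p.map (IsCofiltered.minToLeft V₁ U₀) ≫ f₁) ≫ t := by
      simp only [Category.assoc]
      rw [hq, ← Category.assoc, ← Functor.map_comp]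
      rfl
    rw [this]
    exact S.downward_closed ht _
  obtain ⟨_, c, _, ⟨k⟩, hc⟩ := hr
  refine ⟨k, Ψ.obj.fiber.map c W'.2, ?_⟩
  have : Ψ.obj.fiber.map (c ≫ g k) W'.2 = z := by rw [hc]; exact r.2
  simpa using this

end Groth.Agent.S6173
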