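import Groth.Statements.S6174
import Groth.Agent.Lib.SiteCoh.CechExt

set_option autoImplicit false
universe u
open CategoryTheory
open CohSite

namespace Groth.Agent.S6174
set_option linter.style.haveILetI false
set_option backward.isDefEq.respectTransparency false
set_option backward.isDefEq.respectTransparency.types false


open CategoryTheory.Limits in
/-- C a small category with fibre products; presheaves are the sheaves for the trivial topology: for a
presheaf of abelian groups M, a family of arrows (U_i -> X) and the sieve R it generates, viewed as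
a sub-presheaf of h_X, the Cech cohomology group H^q((U_i -> X), M) is isomorphic to H^q(R, M), the
q-th Ext group out of the free abelian presheaf on R. Existence of an isomorphism only (the source's
is canonical). -/
theorem result {C : Type u} [SmallCategory C] [HasPullbacks C]
    (M : Cᵒᵖ ⥤ AddCommGrpCat.{u}) {X : C} {ι : Type u} (Y : ι → Over X) (q : ℕ) :
    Nonempty (CohCx.cechH M Y q ≅ AddCommGrpCat.of (CohCx.HK (J := (⊥ : GrothendieckTopology C))
      ⟨(Sieve.ofArrows (fun i => (Y i).left) (fun i => (Y i).hom)).functor, Presheaf.isSheaf_bot _⟩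
      ⟨M, Presheaf.isSheaf_bot _⟩ q)) := by
  obtain ⟨e⟩ := Groth.Agent.SiteCoh.nonempty_cechH_equiv (J := (⊥ : GrothendieckTopology C))
    ⟨M, Presheaf.isSheaf_bot _⟩ Y
    (fun n a k => Groth.Agent.SiteCoh.subsingleton_HU_of_weaklyContractible
      (Groth.Agent.SiteCoh.weaklyContractible_bot _) k _) q
  exact ⟨(e.trans (Groth.Agent.SiteCoh.extPreEquiv
    ((Groth.Agent.SiteCoh.frP ⊥).mapIso (Groth.Agent.SiteCoh.famImgIso Y)).symm
    (⟨M, Presheaf.isSheaf_bot _⟩ : Sheaf (⊥ : GrothendieckTopology C) AddCommGrpCat) q)).toAddCommGrpIso⟩

end Groth.Agent.S6174
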