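import Groth.Statements.S6176
-- import your own Groth.Agent.* helpers here

set_option autoImplicit false
universe u
open CategoryTheory
open SGA4

namespace Groth.Agent.S6176

open CategoryTheory.Limits in
/-- The clause on products (topos of sheaves of sets on a small site; j : E/U -> E the open embedding
defined by an open U, i.e. a subobject of the final object, so that j_! is the forgetful functor
from objects over U): j_! commutes with products indexed by a nonempty u-small set. (Commutation
with fibre products and cofiltered limits, the other clauses, holds for the forgetful functor of any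
slice.) -/
theorem result {C : Type u} [SmallCategory C] (J : GrothendieckTopology C)
    (U : Sheaf J (Type u)) (hU : SGA4.IsOpen U) (I : Type u) [Nonempty I] :
    PreservesLimitsOfShape (Discrete I) (Over.forget U) := by
  have : CategoryTheory.Mono (terminal.from U) := hU
  have uniq : ∀ {T : Sheaf J (Type u)} (a b : T ⟶ U), a = b := fun a b =>
    (cancel_mono (terminal.from U)).1 (Subsingleton.elim _ _)
  obtain ⟨i₀⟩ := ‹Nonempty I›
  refine ⟨fun {K} => ⟨fun {c} hc => ⟨?_⟩⟩⟩
  exact
    { lift := fun s => (hc.lift
        { pt := Over.mk (s.π.app ⟨i₀⟩ ≫ (K.obj ⟨i₀⟩).hom)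
          π := Discrete.natTrans fun i => Over.homMk (s.π.app i) (uniq _ _) }).left
      fac := fun s j => congrArg CommaMorphism.left (hc.fac _ j)
      uniq := fun s m hm => congrArg CommaMorphism.left (hc.uniq
        { pt := Over.mk (s.π.app ⟨i₀⟩ ≫ (K.obj ⟨i₀⟩).hom)
          π := Discrete.natTrans fun i => Over.homMk (s.π.app i) (uniq _ _) }
        (Over.homMk m (uniq _ _)) (fun j => Over.OverMorphism.ext (hm j))) }

end Groth.Agent.S6176
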