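import Groth.Statements.S6179
import Groth.Agent.Lib.EtStalk.Sets.Henselian

set_option autoImplicit false
open CategoryTheory CategoryTheory.Limits AlgebraicGeometry Opposite
universe u
open EtDesc

namespace Groth.Agent.S6179

/-- Let R be a strictly henselian local ring, X = Spec R and x̄ : Spec κ(R) -> X the closed geometric
point. For every etale sheaf of sets F on X the canonical map Γ(X, F) -> F_x̄ into the stalk (the
colimit of F(X') over the x̄-pointed etale X-schemes X', taken at X' = X) is bijective; in
particular the global-sections functor is isomorphic to the fibre functor at x̄ and commutes with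
all colimits. -/
theorem result (R : Type u) [CommRing R]
    [HenselianLocalRing R] [IsSepClosed (IsLocalRing.ResidueField R)]
    (F : EtDesc.Sh (Spec (CommRingCat.of R))) :
    Function.Bijective ((Scheme.pointSmallEtale
      (Spec.map (CommRingCat.ofHom (IsLocalRing.residue R)))).toPresheafFiber (A := Type (u + 1))
        (EtCoh.top (Spec (CommRingCat.of R)))
        (Over.homMk (Spec.map (CommRingCat.ofHom (IsLocalRing.residue R))) (Category.comp_id _)) F.obj) := by
  exact EtStalk.Sets.bijective_germ_top R F

end Groth.Agent.S6179
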