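import Groth.Statements.S6180
import Groth.Agent.Lib.EtStalk.Sets.Henselian
import Groth.Agent.Lib.EtStalk.Sets.Push

set_option autoImplicit false
open CategoryTheory CategoryTheory.Limits AlgebraicGeometry Opposite
universe u
set_option backward.isDefEq.respectTransparency.types false
open EtDesc

namespace Groth.Agent.S6180

/-- Let X be a scheme, x a point of X, R a strict henselisation of O_{X,x} with strict localisation X̄ =
Spec R -> X and attached geometric point ξ : Spec κ(R) -> X. The fibre functor F ↦ F_ξ on etale
sheaves of sets on X is isomorphic to the functor F ↦ Γ(X̄, F̄), F̄ the inverse image of F on X̄.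
(The published statement gives a canonical isomorphism — global sections of F̄ identified with its
stalk at the closed point of X̄, then with F_ξ; this row asserts only that an isomorphism of
functors exists.) -/
theorem result (X : Scheme.{u}) (x : X)
    (R : Type u) [CommRing R] [IsLocalRing R] [Algebra (X.presheaf.stalk x) R]
    [IsLocalHom (algebraMap (X.presheaf.stalk x) R)] [Hensel.IsStrictHenselization (X.presheaf.stalk x) R]
    [IsSepClosed (IsLocalRing.ResidueField R)] :
    Nonempty ((Scheme.pointSmallEtale (Hens2.geomPt X x R)).sheafFiber (A := Type (u + 1)) ≅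
      EtDesc.pullSh (Hens2.specOf X x R) ⋙
        (sheafSections (Spec (CommRingCat.of R)).smallEtaleTopology (Type (u + 1))).obj
          (op (EtCoh.top (Spec (CommRingCat.of R))))) := by
  haveI : HenselianLocalRing R := Hensel.IsStrictHenselization.henselian (R := X.presheaf.stalk x) (S := R)
  let g := Hens2.specOf X x R
  let P : EtDesc.Sh (Spec (CommRingCat.of R)) ⥤ Type (u + 1) :=
    (sheafSections (Spec (CommRingCat.of R)).smallEtaleTopology (Type (u + 1))).obj
      (op (EtCoh.top (Spec (CommRingCat.of R))))
  let e₂ : P ≅ EtStalk.Sets.stalk (EtStalk.closedPt R) :=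
    NatIso.ofComponents (fun F =>
      haveI : IsIso (EtStalk.Sets.germ (EtStalk.closedPt R) F (EtStalk.topFib R)) :=
        (ConcreteCategory.isIso_iff_bijective _).2 (EtStalk.Sets.bijective_germ_top R F)
      asIso (EtStalk.Sets.germ (EtStalk.closedPt R) F (EtStalk.topFib R)))
      (fun {F G} a => ConcreteCategory.hom_ext _ _ fun t => (EtStalk.Sets.germ_nat _ a _ t).symm)
  let e₁ : EtStalk.Sets.stalk (EtStalk.closedPt R ≫ g) ≅ EtDesc.pullSh g ⋙ EtStalk.Sets.stalk (EtStalk.closedPt R) :=
    NatIso.ofComponents (fun (F : EtDesc.Sh X) =>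
      haveI : IsIso (EtStalk.Sets.stalkPull g (EtStalk.closedPt R) F) := inferInstance
      asIso (EtStalk.Sets.stalkPull g (EtStalk.closedPt R) F))
      (fun {F G} a => (EtStalk.Sets.stalkPull_nat g (EtStalk.closedPt R) a).symm)
  exact ⟨e₁ ≪≫ (Functor.isoWhiskerLeft (EtDesc.pullSh g) e₂).symm⟩

end Groth.Agent.S6180
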