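import Groth.Statements.S6181
import Groth.Agent.Lib.EtDesc24.SetsPush

set_option autoImplicit false
open CategoryTheory CategoryTheory.Limits AlgebraicGeometry Opposite
universe u
open EtDesc

namespace Groth.Agent.S6181

/-- Let f : X -> Y be a finite morphism of schemes, Ω an algebraically closed field and η : Spec Ω -> Y
a geometric point. The functor F ↦ (f_* F)_η on etale sheaves of sets on X is isomorphic to the
product, over the geometric points ξ : Spec Ω -> X lying over η, of the fibre functors F ↦ F_ξ. (The
published statement gives a canonical isomorphism and indexes the product by the points of the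
geometric fibre over a separable closure of the residue field; this row asserts only that an
isomorphism of functors exists and indexes the product by the Ω-valued points of X over η, which for
Ω algebraically closed correspond to those points.) -/
theorem result {X Y : Scheme.{u}} (f : X ⟶ Y) [IsFinite f]
    {Ω : Type u} [Field Ω] [IsAlgClosed Ω] (η : Spec (CommRingCat.of Ω) ⟶ Y) :
    Nonempty (EtDesc.pushSh f ⋙ (Scheme.pointSmallEtale η).sheafFiber (A := Type (u + 1)) ≅
      ∏ᶜ fun ξ : {ξ : Spec (CommRingCat.of Ω) ⟶ X // ξ ≫ f = η} =>
        ((Scheme.pointSmallEtale ξ.1).sheafFiber (A := Type (u + 1)) : EtDesc.Sh X ⥤ Type (u + 1))) := by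
  haveI := Groth.Agent.EtDesc24.isIso_liftStalkPi f η
  exact ⟨asIso (Groth.Agent.EtDesc24.liftStalkPi f η)⟩

end Groth.Agent.S6181
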