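import Groth.Statements.S6182
import Groth.Agent.Lib.ToposFin.Algebraic

set_option autoImplicit false
open CategoryTheory CategoryTheory.Limits Opposite
universe u
open ToposFin

namespace Groth.Agent.S6182

/-- Let (C, J) and (D, K) be small sites with fibre products in which every object is quasi-compact, and
G : C -> D a continuous functor whose inverse-image functor on sheaves of sets f^* (the sheaf
pullback along G, from sheaves on C to sheaves on D) preserves finite limits, so that G is a
morphism of sites and f a morphism of topoi. Then f is coherent: f^* sends quasi-compact objects to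
quasi-compact objects and quasi-separated objects to quasi-separated objects. -/
theorem result {C D : Type u} [SmallCategory C] [SmallCategory D]
    [HasPullbacks C] [HasPullbacks D] (J : GrothendieckTopology C) (K : GrothendieckTopology D)
    (hC : ∀ X : C, ToposFin.IsQCSite J X) (hD : ∀ Y : D, ToposFin.IsQCSite K Y)
    (G : C ⥤ D) [Functor.IsContinuous G J K] [PreservesFiniteLimits (G.sheafPullback (Type u) J K)] :
    (∀ X : ToposFin.Sh J, ToposFin.IsQC X → ToposFin.IsQC ((G.sheafPullback (Type u) J K).obj X)) ∧
      (∀ X : ToposFin.Sh J, ToposFin.IsQS X → ToposFin.IsQS ((G.sheafPullback (Type u) J K).obj X)) := by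
  let S : Set (ToposFin.Sh J) := Set.range (ToposFin.eps J)
  have hS : ∀ X ∈ S, ToposFin.IsCoherent X := by
    rintro _ ⟨X, rfl⟩
    exact Groth.Agent.Topos.isCoherent_eps J hC X
  have hgen : ToposFin.IsGenerating S := fun X =>
    ⟨Σ U : C, X.obj.obj (op U), fun p => ToposFin.eps J p.1, fun p => Groth.Agent.Topos.epsDesc J p.2,
      fun p => ⟨p.1, rfl⟩, fun Z a b h => Groth.Agent.Topos.jepi_cancel (Groth.Agent.Topos.jepi_epsDesc J X) a b h⟩
  have h : ∀ X ∈ S, ToposFin.IsCoherent ((G.sheafPullback (Type u) J K).obj X) := by
    rintro _ ⟨X, rfl⟩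
    obtain ⟨e⟩ := Groth.Agent.Topos.nonempty_sheafPullback_eps J K G X
    exact Groth.Agent.Topos.coherent_of_retract e.hom e.inv e.hom_inv_id
      (Groth.Agent.Topos.isCoherent_eps K hD _)
  have adj := G.sheafAdjunctionContinuous (Type u) J K
  exact ⟨fun X hX => Groth.Agent.Topos.map_qc _ adj hgen (fun Z hZ => (h Z hZ).1) hX,
    fun X hX => Groth.Agent.Topos.map_qs _ adj (Groth.Agent.Topos.hasQCGenerators K hD) hS hgen h hX⟩

end Groth.Agent.S6182
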