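import Groth.Statements.S6193
import Groth.Agent.Lib.RelPCS8.TorRpush

set_option autoImplicit false
universe u
open CategoryTheory CategoryTheory.Limits AlgebraicGeometry
attribute [local instance] HasDerivedCategory.standard
open KSix

namespace Groth.Agent.S6193


/-- Let f : X ⟶ Y be quasi-compact, quasi-separated and locally of finite tor dimension (the structure
sheaf of X is locally of finite tor amplitude relative to f, stalkwise), the derived direct image
being assumed to exist, and let E ∈ D(O_X), given by a cochain complex F, have bounded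
quasi-coherent cohomology. If E is locally of finite tor dimension in the absolute sense on X, then
Rf_* E is locally of finite tor dimension in the absolute sense on Y. -/
theorem result {X Y : Scheme.{u}} (f : X ⟶ Y) [QuasiCompact f] [QuasiSeparated f]
    [DCoh.HasRpush f] (hf : DerSch.LocFiniteTorDim f) (F : CochainComplex X.Modules ℤ)
    (hqc : DCoh.IsQCohD (DCoh.toD X F)) (c d : ℤ) [(DCoh.toD X F).IsGE c] [(DCoh.toD X F).IsLE d]
    (hE : DCoh.LocHasFiniteTorDim (DCoh.toD X F)) :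
    DCoh.LocHasFiniteTorDim ((DCoh.Rpush f).obj (DCoh.toD X F)) := by
  have hX : ∀ x : X, ∃ (V : X.Opens) (a b : ℤ), x ∈ V ∧
      DCoh.HasFlatAmplitudeIn a b ((Groth.Agent.DPerf.resD V.ι).obj (DCoh.toD X F)) := fun x => by
    obtain ⟨V, a, b, hx, h⟩ := hE x
    obtain ⟨E, hv, hfl, ⟨e⟩⟩ := h F ⟨Iso.refl _⟩
    exact ⟨V, a, b, hx, E, hv, hfl, ⟨e ≪≫ ((Groth.Agent.DPerf.resFac V.ι).app F).symm⟩⟩
  intro y
  obtain ⟨V, a, b, hy, hV⟩ := Groth.Agent.RelPCS8.TorRpush.locTA_rpush f (𝟙 Y) f (Category.comp_id f) hqc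
    (Groth.Agent.RelPCS8.TorRpush.locTA_of_flatAmplitude f hf hX) y
  refine ⟨V, a, b, hy, fun F' he => ?_⟩
  obtain ⟨e⟩ := he
  obtain ⟨E, hv, hfl, ⟨e'⟩⟩ := Groth.Agent.RelPCS8.TorRpush.flatAmplitude_res hV
  exact ⟨E, hv, hfl, ⟨e' ≪≫ (Groth.Agent.DPerf.resD V.ι).mapIso e.symm ≪≫ (Groth.Agent.DPerf.resFac V.ι).app F'⟩⟩


end Groth.Agent.S6193
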