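import Groth.Statements.S6202
import Groth.Agent.Lib.RelPCS8.Basic

set_option autoImplicit false
universe u
open CategoryTheory CategoryTheory.Limits AlgebraicGeometry
attribute [local instance] HasDerivedCategory.standard
open KSix

namespace Groth.Agent.S6202

open Groth.Agent Groth.Agent.RelPCS8
set_option backward.isDefEq.respectTransparency false


/-- Let f : X ⟶ Y be a morphism of schemes, n an integer and E a cochain complex of O_X-modules whose
class in D(O_X) is n-pseudo-coherent relative to f (chart form; in particular f is locally of finite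
type). Then for every open U of X the termwise restriction E|_U is n-pseudo-coherent relative to U ⟶
X ⟶ Y. -/
theorem result {X Y : Scheme.{u}} (f : X ⟶ Y) (n : ℤ) (E : CochainComplex X.Modules ℤ)
    (hE : DerSch.IsPseudoCoherentRel f n (DCoh.toD X E)) (U : X.Opens) :
    DerSch.IsPseudoCoherentRel (U.ι ≫ f) n (DCoh.toD (U : Scheme.{u}) ((DCoh.restrictCx U).obj E)) := by
  haveI := hE.1
  haveI : LocallyOfFiniteType (U.ι ≫ f) := inferInstance
  refine rel_of_iso (f := U.ι ≫ f) ((DPerf.resFac U.ι).app E) (rel_iff.2 ⟨inferInstance, fun W V hW hV h => ?_⟩)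
  refine good_image U.ι hW ((rel_iff.1 hE).2 _ V (hW.image_of_isOpenImmersion U.ι) hV ?_)
  rintro _ ⟨w, hw, rfl⟩
  exact h hw


end Groth.Agent.S6202
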