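import Groth.Statements.S6204
import Groth.Agent.Lib.RelPCS8.Basic

set_option autoImplicit false
universe u
open CategoryTheory CategoryTheory.Limits AlgebraicGeometry
attribute [local instance] HasDerivedCategory.standard
open KSix

namespace Groth.Agent.S6204

open Groth.Agent.RelPCS8


open CategoryTheory.Pretriangulated in
/-- Let f : X ⟶ Y be locally of finite type, n an integer, and E ⟶ F ⟶ G ⟶ E⟦1⟧ a distinguished triangle
of D(O_X); all pseudo-coherence is relative to f, in chart form. If E is (n+1)-pseudo-coherent and F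
is n-pseudo-coherent then G is n-pseudo-coherent; if E and G are n-pseudo-coherent then so is F; if
F is n-pseudo-coherent and G is (n-1)-pseudo-coherent then E is n-pseudo-coherent. -/
theorem result {X Y : Scheme.{u}} (f : X ⟶ Y) [LocallyOfFiniteType f] (n : ℤ)
    (T : Triangle (DCoh.D X)) (hT : T ∈ distinguishedTriangles) :
    (DerSch.IsPseudoCoherentRel f (n + 1) T.obj₁ → DerSch.IsPseudoCoherentRel f n T.obj₂ →
        DerSch.IsPseudoCoherentRel f n T.obj₃) ∧
      (DerSch.IsPseudoCoherentRel f n T.obj₁ → DerSch.IsPseudoCoherentRel f n T.obj₃ →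
        DerSch.IsPseudoCoherentRel f n T.obj₂) ∧
      (DerSch.IsPseudoCoherentRel f n T.obj₂ → DerSch.IsPseudoCoherentRel f (n - 1) T.obj₃ →
        DerSch.IsPseudoCoherentRel f n T.obj₁) := by
  refine ⟨fun h₁ h₂ => ?_, fun h₁ h₃ => ?_, fun h₂ h₃ => ?_⟩
  · exact rel_iff.2 ⟨inferInstance, fun U V hU hV h =>
      good_obj₃ T hT ((rel_iff.1 h₁).2 U V hU hV h) ((rel_iff.1 h₂).2 U V hU hV h)⟩
  · exact rel_iff.2 ⟨inferInstance, fun U V hU hV h =>
      good_obj₂ T hT ((rel_iff.1 h₁).2 U V hU hV h) ((rel_iff.1 h₃).2 U V hU hV h)⟩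
  · obtain ⟨m, rfl⟩ : ∃ m, n = m + 1 := ⟨n - 1, by omega⟩
    rw [show m + 1 - 1 = m by omega] at h₃
    exact rel_iff.2 ⟨inferInstance, fun U V hU hV h =>
      good_obj₁ T hT ((rel_iff.1 h₂).2 U V hU hV h) ((rel_iff.1 h₃).2 U V hU hV h)⟩


end Groth.Agent.S6204
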