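import Groth.Statements.S6205
import Groth.Agent.Lib.RelPCS4.PushLevel
import Groth.Agent.Lib.RelPCS4.Comp

set_option autoImplicit false
universe u
open CategoryTheory CategoryTheory.Limits AlgebraicGeometry
attribute [local instance] HasDerivedCategory.standard
open KSix

set_option backward.isDefEq.respectTransparency.types false

attribute [-instance] CategoryTheory.catToReflQuiver

namespace Groth.Agent.S6205


set_option backward.isDefEq.respectTransparency false
set_option maxHeartbeats 1000000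
open MvPolynomial RelPCS8 RelPCS4 in
theorem approx_chart {X Y Z : Scheme.{u}} {f : X ⟶ Y} {g : Y ⟶ Z} {a b : ℤ} {E : DCoh.D X}
    [LocallyOfFiniteType f] [LocallyOfFiniteType g] [E.IsLE b] (hab : a ≤ b + 1)
    (hE : DerSch.IsPseudoCoherentRel (f ≫ g) a E) (hg : DerSch.IsNPseudoCoherent g (a + 1 - b))
    {W : X.Opens} {U : Y.Opens} {V : Z.Opens} (hW : IsAffineOpen W) (hU : IsAffineOpen U) (hV : IsAffineOpen V)
    (hWU : W ≤ f ⁻¹ᵁ U) (hle : U ≤ g ⁻¹ᵁ V) : Good f a E W U := by
  obtain ⟨n, φ, hφ⟩ := exists_chart_of_lft (f := g) hU hV hle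
  obtain ⟨k, ψ, hψ⟩ := exists_chart_of_lft (f := f) hW hU hWU
  have hle' : W ≤ (f ≫ g) ⁻¹ᵁ V := fun z hz => hle (hWU hz)
  let μ : MvPolynomial (Fin k) (MvPolynomial (Fin n) Γ(Z, V)) →+* MvPolynomial (Fin k) Γ(Y, U) :=
    MvPolynomial.map (σ := Fin k) φ
  have hμ : Function.Surjective μ := MvPolynomial.map_surjective _ hφ.1
  haveI := isClosedImmersion_imm hU φ hφ.1
  haveI := isClosedImmersion_imm hW ψ hψ.1
  haveI : IsClosedImmersion (Spec.map (CommRingCat.ofHom μ)) := IsClosedImmersion.spec_of_surjective _ (by exact hμ)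
  haveI : IsIso U.toSpecΓ := by rw [← hU.isoSpec_hom]; infer_instance
  let σ := Spec.map (CommRingCat.ofHom (C : MvPolynomial (Fin n) Γ(Z, V) →+* MvPolynomial (Fin k) (MvPolynomial (Fin n) Γ(Z, V))))
  let π : Spec (CommRingCat.of (MvPolynomial (Fin k) Γ(Y, U))) ⟶ (U : Scheme.{u}) :=
    Spec.map (CommRingCat.ofHom (C : Γ(Y, U) →+* MvPolynomial (Fin k) Γ(Y, U))) ≫ inv U.toSpecΓ
  haveI : Flat σ := (HasRingHomProperty.Spec_iff (P := @Flat)).2
    (show (algebraMap (MvPolynomial (Fin n) Γ(Z, V)) (MvPolynomial (Fin k) (MvPolynomial (Fin n) Γ(Z, V)))).Flat from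
      RingHom.flat_algebraMap_iff.2 inferInstance)
  have hsq : IsPullback (Spec.map (CommRingCat.ofHom μ)) π σ (imm U φ) :=
    IsPullback.of_iso (isPullback_SpecMap_of_isPushout _ _ _ _ (isPushout_poly φ k))
      (Iso.refl _) (Iso.refl _) (asIso U.toSpecΓ).symm (Iso.refl _)
      (by simp [μ]) (by simp [π]) (by simp [σ]) (by simp [imm])
  haveI : Flat π := MorphismProperty.of_isPullback hsq inferInstance
  haveI := KFlat.Sch.hasLpull σ
  have hO : PushOLevel (Spec.map (CommRingCat.ofHom μ)) (a + 1 - b) := by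
    have h₀ := approx_pushUnit hU hφ ((rel_iff.1 hg).2 U V hU hV hle)
    obtain ⟨eσ⟩ := nonempty_lpull_iso_pullD σ
      (DCoh.inD _ ((Scheme.Modules.pushforward (imm U φ)).obj (Coh.structureModule U)))
    exact (DPerf.approx_of_isPseudoCoherentD (KFlat.Sch.isPseudoCoherent_lpull σ
      (DPerf.isPseudoCoherentD_of_approx h₀))).of_iso (eσ ≪≫
      ((Scheme.Modules.pullback σ).mapDerivedCategorySingleFunctor 0).app _ ≪≫
      (DerivedCategory.singleFunctor _ 0).mapIso
        ((pushPullIso hsq).app _ ≪≫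
          (Scheme.Modules.pushforward (Spec.map (CommRingCat.ofHom μ))).mapIso (PicLoc.pullbackStructureIso π)))
  obtain ⟨τ, hτ, hτC⟩ := exists_polyEquiv Γ(Z, V) k n
  have hc : DerSch.IsChart (f ≫ g) W V hle' ((ψ.comp μ).comp τ) := by
    refine ⟨(hψ.1.comp hμ).comp hτ.2, RingHom.ext fun r => ?_⟩
    change ψ (μ (τ (C r))) = _
    rw [hτC]
    change ψ (MvPolynomial.map φ (C (C r))) = _
    rw [map_C, show φ (C r) = (g.appLE V U hle).hom r from RingHom.congr_fun hφ.2 r,
      show ψ (C ((g.appLE V U hle).hom r)) = _ from RingHom.congr_fun hψ.2 _]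
    rw [← ConcreteCategory.comp_apply, Scheme.Hom.appLE_comp_appLE]
  have ht := (test_comp_bijective_iff hW (ψ.comp μ) (hψ.1.comp hμ) τ hτ a E).1
    (((rel_iff.1 hE).2 W V hW hV hle').test hc)
  refine ⟨hW, hU, hWU, k, ψ, hψ, fun _ => ?_⟩
  haveI := isClosedImmersion_imm hW (ψ.comp μ) (hψ.1.comp hμ)
  have key : ∀ (i : (W : Scheme.{u}) ⟶ Spec (CommRingCat.of (MvPolynomial (Fin k) (MvPolynomial (Fin n) Γ(Z, V)))))
      [IsClosedImmersion i], i = imm W ψ ≫ Spec.map (CommRingCat.ofHom μ) →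
      DPerf.Approx (Set.Ici a) ((pushD i).obj ((DPerf.resD W.ι).obj E)) →
      DPerf.Approx (Set.Ici a) ((pushD (imm W ψ)).obj ((DPerf.resD W.ι).obj E)) := by
    rintro i _ rfl h
    refine approx_of_push_level (b + 1 - a).toNat (Spec.map (CommRingCat.ofHom μ))
      (DPerf.Approx.mono_set (Set.Ici_subset_Ici.2 (by omega)) hO) a _ (fun j hj => ?_)
      (h.of_iso ((pushDComp _ _).app _).symm)
    refine (isZero_HD_push_iff _ _ j).2 ?_
    exact ((Scheme.Modules.restrictFunctor W.ι).map_isZero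
      ((DerivedCategory.isLE_iff E b).1 inferInstance j (by omega))).of_iso (DPerf.hdResIso W.ι E j)
  exact key _ (imm_comp W ψ μ) (ht inferInstance)

/-- Let f : X ⟶ Y and g : Y ⟶ Z be locally of finite type, a and b integers, and E an object of D(O_X)
which is a-pseudo-coherent relative to f ≫ g (chart form) and acyclic in degrees above b. If g is (a
+ 1 - b)-pseudo-coherent (O_Y placed in degree 0 is (a + 1 - b)-pseudo-coherent relative to g), then
E is a-pseudo-coherent relative to f. -/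
theorem result {X Y Z : Scheme.{u}} (f : X ⟶ Y) (g : Y ⟶ Z)
    [LocallyOfFiniteType f] [LocallyOfFiniteType g] (a b : ℤ) (E : DCoh.D X) [E.IsLE b]
    (hE : DerSch.IsPseudoCoherentRel (f ≫ g) a E) (hg : DerSch.IsNPseudoCoherent g (a + 1 - b)) :
    DerSch.IsPseudoCoherentRel f a E := by
  refine RelPCS8.rel_of_locally fun x => ?_
  obtain ⟨U, V, hxU, hU, hV, hle⟩ := RelPCS8.exists_affine_pair g (f x)
  obtain ⟨W, hW, hxW, hWU⟩ := exists_isAffineOpen_mem_and_subset (U := f ⁻¹ᵁ U) hxU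
  refine ⟨W, U, hxW, ?_⟩
  by_cases hab : a ≤ b + 1
  · exact approx_chart hab hE hg hW hU hV hWU hle
  · obtain ⟨k, ψ, hψ⟩ := RelPCS8.exists_chart_of_lft (f := f) hW hU hWU
    exact ⟨hW, hU, hWU, k, ψ, hψ, fun _ => DPerf.approx_of_isZero_HD fun j hj =>
      (RelPCS8.isZero_HD_push_iff _ _ j).2 (((Scheme.Modules.restrictFunctor W.ι).map_isZero
        ((DerivedCategory.isLE_iff E b).1 inferInstance j (by omega))).of_iso (DPerf.hdResIso W.ι E j))⟩

end Groth.Agent.S6205
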