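import Groth.Statements.S6225
import Groth.Agent.Lib.RelPCS8.Unit

set_option autoImplicit false
universe u
open CategoryTheory CategoryTheory.Limits AlgebraicGeometry
attribute [local instance] HasDerivedCategory.standard
open KSix

namespace Groth.Agent.S6225

open TopologicalSpace Groth.Agent.RelPCS8

theorem chart_fp {X Y : Scheme.{u}} (f : X ⟶ Y) {U : X.Opens} {V : Y.Opens} (h : U ≤ f ⁻¹ᵁ V) {n : ℕ}
    (φ : MvPolynomial (Fin n) Γ(Y, V) →+* Γ(X, U)) (hφ : DerSch.IsChart f U V h φ) (hk : (RingHom.ker φ).FG) :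
    (f.appLE V U h).hom.FinitePresentation := by
  rw [← hφ.2]
  exact (RingHom.FinitePresentation.of_surjective φ hφ.1 hk).comp
    (RingHom.finitePresentation_algebraMap.2 inferInstance)

theorem exists_chart {X Y : Scheme.{u}} (f : X ⟶ Y) {U : X.Opens} {V : Y.Opens} (h : U ≤ f ⁻¹ᵁ V)
    (hfp : (f.appLE V U h).hom.FinitePresentation) :
    ∃ (n : ℕ) (φ : MvPolynomial (Fin n) Γ(Y, V) →+* Γ(X, U)), DerSch.IsChart f U V h φ ∧ (RingHom.ker φ).FG := by
  letI := (f.appLE V U h).hom.toAlgebra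
  obtain ⟨n, ψ, hψ, hk⟩ := (hfp : Algebra.FinitePresentation Γ(Y, V) Γ(X, U)).out
  exact ⟨n, ψ.toRingHom, ⟨hψ, RingHom.ext fun r => ψ.commutes r⟩, hk⟩



/-- Last assertion: a morphism f : X ⟶ Y locally of finite type is (-1)-pseudo-coherent (O_X placed in
degree 0 is (-1)-pseudo-coherent relative to f, in chart form) if and only if f is locally of finite
presentation. -/
theorem result {X Y : Scheme.{u}} (f : X ⟶ Y) [LocallyOfFiniteType f] :
    DerSch.IsNPseudoCoherent f (-1) ↔ LocallyOfFinitePresentation f := by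
  constructor
  · rintro ⟨-, 𝒱, hV, h⟩
    refine (HasRingHomProperty.iff_exists_appLE (P := @LocallyOfFinitePresentation)
      (RingHom.finitePresentation_stableUnderComposition.stableUnderCompositionWithLocalizationAway
        RingHom.finitePresentation_holdsForLocalizationAway).left).2 fun x => ?_
    choose 𝒰 hU hc using h
    have hx : f.base x ∈ (⊤ : Y.Opens) := trivial
    rw [← hV, Opens.mem_iSup] at hx
    obtain ⟨V, hx⟩ := hx
    rw [Opens.mem_iSup] at hx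
    obtain ⟨hVm, hx⟩ := hx
    have hxU : x ∈ f ⁻¹ᵁ (V : Y.Opens) := hx
    rw [← hU V hVm, Opens.mem_iSup] at hxU
    obtain ⟨U, hxU⟩ := hxU
    rw [Opens.mem_iSup] at hxU
    obtain ⟨hUm, hxU⟩ := hxU
    have hle : (U : X.Opens) ≤ f ⁻¹ᵁ (V : Y.Opens) := hU V hVm ▸ le_iSup₂_of_le U hUm le_rfl
    obtain ⟨n, φ, hφ, hpc⟩ := hc V hVm U hUm hle
    exact ⟨V, U, hxU, hle, chart_fp f hle φ hφ ((chartPC_unit_iff U.2 φ hφ.1).1 hpc)⟩
  · intro hf
    refine ⟨inferInstance, Set.univ, eq_top_iff.2 fun y _ => ?_, fun V _ =>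
      ⟨{U | (U : X.Opens) ≤ f ⁻¹ᵁ (V : Y.Opens)}, le_antisymm (iSup₂_le fun U hU => hU) fun x hx => ?_,
        fun U _ h => ?_⟩⟩
    · obtain ⟨W, hW, hyW, -⟩ := exists_isAffineOpen_mem_and_subset (x := y) (U := ⊤) trivial
      simp only [Opens.mem_iSup]
      exact ⟨⟨W, hW⟩, Set.mem_univ _, hyW⟩
    · obtain ⟨W, hW, hxW, hWV⟩ := exists_isAffineOpen_mem_and_subset hx
      simp only [Opens.mem_iSup]
      exact ⟨⟨W, hW⟩, hWV, hxW⟩
    · obtain ⟨n, φ, hφ, hk⟩ := exists_chart f h (HasRingHomProperty.appLE _ f hf V U h)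
      exact ⟨n, φ, hφ, (chartPC_unit_iff U.2 φ hφ.1).2 hk⟩


end Groth.Agent.S6225
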