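import Groth.Statements.S6215
import Groth.Agent.Lib.RelPCS8.FlatTerms

set_option autoImplicit false
universe u
open CategoryTheory CategoryTheory.Limits AlgebraicGeometry
attribute [local instance] HasDerivedCategory.standard
open KSix

namespace Groth.Agent.S6215

open Groth.Agent.RelPCS8


/-- Let f : X ⟶ Y be locally of finite type and E a cochain complex of O_X-modules with E^i = 0 for i
above some degree, such that every term E^i is flat over Y at every point of X and, placed in degree
0, is (-1)-pseudo-coherent relative to f (finitely presented relative to f, chart form). Then E is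
pseudo-coherent relative to f: n-pseudo-coherent relative to f for every integer n. -/
theorem result {X Y : Scheme.{u}} (f : X ⟶ Y)
    [LocallyOfFiniteType f] (E : CochainComplex X.Modules ℤ) (b : ℤ) (hb : ∀ i : ℤ, b < i → IsZero (E.X i))
    (hfl : ∀ i : ℤ, FlatMod.IsFlatOver f (E.X i))
    (hfp : ∀ i : ℤ, DerSch.IsPseudoCoherentRel f (-1) (DCoh.toD X ((HomologicalComplex.single _ (ComplexShape.up ℤ) 0).obj (E.X i)))) :
    DerSch.IsPseudoCoherentRelAll f (DCoh.toD X E) := by
  exact relAll_of_flat_terms E b hb hfl hfp


end Groth.Agent.S6215
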