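import Groth.Statements.S6227
import Groth.Agent.Lib.RelPCS8.BasePC

set_option autoImplicit false
universe u
open CategoryTheory CategoryTheory.Limits AlgebraicGeometry
attribute [local instance] HasDerivedCategory.standard
open KSix

namespace Groth.Agent.S6227


/-- Last clause: sufficiency: let f : X ⟶ Y be locally of finite type and h : Y' ⟶ Y flat, surjective
and quasi-compact. If the base change X ×_Y Y' ⟶ Y' of f is n-pseudo-coherent (structure sheaf
placed in degree 0 n-pseudo-coherent relative to it, chart form), then f is n-pseudo-coherent. (The
published statement takes h faithfully flat, that is flat and surjective; this row also takes h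
quasi-compact: for A an infinite product of copies of the field with two elements and I its ideal of
finitely supported sequences, the closed immersion Spec A/I ⟶ Spec A is not locally of finite
presentation, hence not (-1)-pseudo-coherent, while its base change along the flat, surjective,
non-quasi-compact disjoint union of the spectra of all local rings of A is an open and closed
immersion, so descent fails without quasi-compactness.) -/
theorem result {X Y Y' : Scheme.{u}} (f : X ⟶ Y) [LocallyOfFiniteType f] (n : ℤ)
    (h : Y' ⟶ Y) [Flat h] [Surjective h] [QuasiCompact h] (hf' : DerSch.IsNPseudoCoherent (pullback.snd f h) n) :
    DerSch.IsNPseudoCoherent f n := by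
  exact Groth.Agent.RelPCS8.BasePC.nPseudoCoherent_descent (IsPullback.of_hasPullback f h) hf'


end Groth.Agent.S6227
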