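import Groth.Statements.S6233
import Groth.Agent.Lib.Exact8.FibreAmp

set_option autoImplicit false
universe u
open CategoryTheory CategoryTheory.Limits AlgebraicGeometry
attribute [local instance] HasDerivedCategory.standard
open KSix

namespace Groth.Agent.S6233


/-- Criterion of relative perfection by fibres: let f : X ⟶ Y and g : Y ⟶ S with f ≫ g = h, f and h
locally of finite type, g flat and locally of finite presentation; let x be a point of X with y = f
x and s = g y, F a cochain complex of O_X-modules whose class has bounded above cohomology, and a, b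
integers. Write O_{Y_s,y} for the quotient of the local ring O_{Y,y} by the ideal generated by the
maximal ideal of O_{S,s} (the local ring at y of the fibre Y_s), and F_x for the complex of stalks
of F at x as a complex of O_{Y,y}-modules; the derived base change along O_{Y,y} → O_{Y_s,y} is
assumed to exist. Then the following are equivalent: (i) on some open neighbourhood of x, F has
perfect amplitude in [a, b] relative to h (chart-form pseudo-coherence and stalkwise tor amplitude),
and F_x ⊗^L O_{Y_s,y} has tor amplitude in [a, b] over O_{Y_s,y}; (ii) on some open neighbourhood of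
x, F has perfect amplitude in [a, b] relative to f. -/
theorem result {X Y S : Scheme.{u}} (f : X ⟶ Y) (g : Y ⟶ S)
    (h : X ⟶ S) (w : f ≫ g = h) [LocallyOfFiniteType f] [LocallyOfFiniteType h] [Flat g] [LocallyOfFinitePresentation g]
    (x : X) (F : CochainComplex X.Modules ℤ) (c : ℤ) [(DCoh.toD X F).IsLE c] (a b : ℤ)
    [DRing.HasLBaseChange (Ideal.Quotient.mk (Ideal.map (g.stalkMap (f.base x)).hom
      (IsLocalRing.maximalIdeal (S.presheaf.stalk (g.base (f.base x))))))] :
    ((∃ U : X.Opens, x ∈ U ∧ DerSch.HasPerfAmplitudeRel (U.ι ≫ h) a b ((DCoh.restrictCx U).obj F)) ∧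
        DRing.HasTorAmplitudeIn
          ((Y.presheaf.stalk (f.base x)) ⧸ Ideal.map (g.stalkMap (f.base x)).hom
            (IsLocalRing.maximalIdeal (S.presheaf.stalk (g.base (f.base x))))) a b
          ((DRing.LBaseChange (Ideal.Quotient.mk (Ideal.map (g.stalkMap (f.base x)).hom
            (IsLocalRing.maximalIdeal (S.presheaf.stalk (g.base (f.base x))))))).obj
            (DRing.toD ((DerSch.stalkCxOver f x).obj F)))) ↔
      (∃ U : X.Opens, x ∈ U ∧ DerSch.HasPerfAmplitudeRel (U.ι ≫ f) a b ((DCoh.restrictCx U).obj F)) := by
  exact Groth.Agent.Exact8.FibreAmp.perfAmplitudeRel_nhd_iff_fibre f g w F a b x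


end Groth.Agent.S6233
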