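import Groth.Statements.S6235
import Groth.Agent.Lib.RelPCS8.Push

set_option autoImplicit false
universe u
open CategoryTheory CategoryTheory.Limits AlgebraicGeometry
attribute [local instance] HasDerivedCategory.standard
open KSix

namespace Groth.Agent.S6235

open CategoryTheory CategoryTheory.Limits AlgebraicGeometry TopologicalSpace Groth.Agent.RelPCS8



/-- Let f : X ⟶ Y be a morphism of schemes and E an object of D(O_X) which is pseudo-coherent relative
to f (chart form, every degree; in particular f is locally of finite type). Then the cohomology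
sheaves of E are quasi-coherent. -/
theorem result {X Y : Scheme.{u}} (f : X ⟶ Y) (E : DCoh.D X)
    (hE : DerSch.IsPseudoCoherentRelAll f E) : DCoh.IsQCohD E := by
  intro i
  obtain ⟨-, 𝒱, hV, h⟩ := hE (i - 1)
  choose 𝒰 hU hc using h
  let ι := Σ' (V : Y.affineOpens) (hV : V ∈ 𝒱), { U : X.affineOpens // U ∈ 𝒰 V hV }
  refine Groth.Agent.M1.isQCoh_of_openImmersion_cover (fun p : ι => (p.2.2.1.1 : X.Opens).ι) (fun x => ?_) fun p => ?_
  · have hx : f.base x ∈ (⊤ : Y.Opens) := trivial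
    rw [← hV, Opens.mem_iSup] at hx
    obtain ⟨V, hx⟩ := hx
    rw [Opens.mem_iSup] at hx
    obtain ⟨hVm, hx⟩ := hx
    have hxU : x ∈ f ⁻¹ᵁ (V : Y.Opens) := hx
    rw [← hU V hVm, Opens.mem_iSup] at hxU
    obtain ⟨U, hxU⟩ := hxU
    rw [Opens.mem_iSup] at hxU
    obtain ⟨hUm, hxU⟩ := hxU
    exact ⟨⟨V, hVm, U, hUm⟩, by rw [Scheme.Opens.range_ι]; exact hxU⟩
  · obtain ⟨V, hVm, U, hUm⟩ := p
    have hle : (U : X.Opens) ≤ f ⁻¹ᵁ (V : Y.Opens) := hU V hVm ▸ le_iSup₂_of_le U hUm le_rfl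
    obtain ⟨n, φ, hφ, hpc⟩ := hc V hVm U hUm hle
    exact isQCoh_of_chartPC U.2 φ hφ.1 hpc (sub_one_lt i)


end Groth.Agent.S6235
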