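import Groth.Statements.S6236
import Groth.Agent.Lib.RelPCS8.Push

set_option autoImplicit false
universe u
open CategoryTheory CategoryTheory.Limits AlgebraicGeometry
attribute [local instance] HasDerivedCategory.standard
open KSix

namespace Groth.Agent.S6236

open CategoryTheory CategoryTheory.Limits AlgebraicGeometry TopologicalSpace Groth.Agent.RelPCS8



/-- Let f : X ⟶ Y be a morphism of schemes with X quasi-compact, n an integer, and E an object of D(O_X)
which is n-pseudo-coherent relative to f (chart form; in particular f is locally of finite type).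
Then the cohomology of E is bounded above. (Without quasi-compactness of X the cohomology is only
locally bounded above.) -/
theorem result {X Y : Scheme.{u}} [CompactSpace X] (f : X ⟶ Y) (n : ℤ)
    (E : DCoh.D X) (hE : DerSch.IsPseudoCoherentRel f n E) : ∃ b : ℤ, E.IsLE b := by
  classical
  obtain ⟨-, 𝒱, hV, h⟩ := hE
  choose 𝒰 hU hc using h
  have key : ∀ x : X, ∃ (W : X.Opens) (b : ℤ), x ∈ W ∧ ∀ k, b < k → IsZero ((DCoh.HD E k).restrict W.ι) := by
    intro x
    have hx : f.base x ∈ (⊤ : Y.Opens) := trivial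
    rw [← hV, Opens.mem_iSup] at hx
    obtain ⟨V, hx⟩ := hx
    rw [Opens.mem_iSup] at hx
    obtain ⟨hVm, hx⟩ := hx
    have hxU : x ∈ f ⁻¹ᵁ (V : Y.Opens) := hx
    rw [← hU V hVm, Opens.mem_iSup] at hxU
    obtain ⟨U, hxU⟩ := hxU
    rw [Opens.mem_iSup] at hxU
    obtain ⟨hUm, hxU⟩ := hxU
    have hle : (U : X.Opens) ≤ f ⁻¹ᵁ (V : Y.Opens) := hU V hVm ▸ le_iSup₂_of_le U hUm le_rfl
    obtain ⟨m, φ, hφ, hpc⟩ := hc V hVm U hUm hle
    obtain ⟨b, hb⟩ := exists_isZero_of_chartPC U.2 φ hφ.1 hpc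
    exact ⟨U, b, hxU, hb⟩
  choose W b hxW hb using key
  obtain ⟨t, ht⟩ := CompactSpace.elim_nhds_subcover (fun x => (W x : Set X)) fun x =>
    (W x).2.mem_nhds (hxW x)
  obtain ⟨B, hB⟩ : ∃ B : ℤ, ∀ x ∈ t, b x ≤ B :=
    ⟨if ht : t.Nonempty then t.sup' ht b else 0, fun x hx => by
      rw [dif_pos ⟨x, hx⟩]; exact Finset.le_sup' b hx⟩
  refine ⟨B, (DerivedCategory.isLE_iff E B).2 fun k hk =>
    Groth.Agent.SerreCl8.isZero_of_support_eq_empty (Set.eq_empty_of_forall_notMem fun y hy => ?_)⟩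
  obtain ⟨x, hxt, hyx⟩ : ∃ x ∈ t, y ∈ (W x : Set X) := by
    have : y ∈ ⋃ x ∈ t, (W x : Set X) := ht.symm ▸ Set.mem_univ y
    simpa using this
  exact notMem_support_of_isZero (hb x k (lt_of_le_of_lt (hB x hxt) hk)) ⟨y, hyx⟩
    ((Groth.Agent.M1.subsingleton_stalk_restrict_iff (W x).ι (DCoh.HD E k) ⟨y, hyx⟩).2 hy)


end Groth.Agent.S6236
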