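import Groth.Statements.S6239

set_option autoImplicit false
universe u
open CategoryTheory CategoryTheory.Limits AlgebraicGeometry
attribute [local instance] HasDerivedCategory.standard
open KSix

namespace Groth.Agent.S6239

open TopologicalSpace



/-- Let f : X ⟶ Y be a morphism with X quasi-compact and F a cochain complex of O_X-modules which is
perfect relative to f (pseudo-coherent relative to f in chart form, and locally on X of finite
stalkwise tor amplitude over the local rings of Y). Then F has finite perfect amplitude relative to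
f: one interval [a, b] works at every point of X. -/
theorem result {X Y : Scheme.{u}} [CompactSpace X] (f : X ⟶ Y)
    (F : CochainComplex X.Modules ℤ) (hF : DerSch.IsPerfectRel f F) :
    DerSch.HasFinitePerfAmplitudeRel f F := by
  classical
  obtain ⟨hpc, hloc⟩ := hF
  choose V a b hxV hV using hloc
  obtain ⟨t, ht⟩ := CompactSpace.elim_nhds_subcover (fun x => (V x : Set X)) fun x =>
    (V x).2.mem_nhds (hxV x)
  obtain ⟨A, hA⟩ : ∃ A : ℤ, ∀ x ∈ t, A ≤ a x :=
    ⟨if ht : t.Nonempty then t.inf' ht a else 0, fun x hx => by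
      rw [dif_pos ⟨x, hx⟩]; exact Finset.inf'_le a hx⟩
  obtain ⟨B, hB⟩ : ∃ B : ℤ, ∀ x ∈ t, b x ≤ B :=
    ⟨if ht : t.Nonempty then t.sup' ht b else 0, fun x hx => by
      rw [dif_pos ⟨x, hx⟩]; exact Finset.le_sup' b hx⟩
  refine ⟨A, B, hpc, fun y => ?_⟩
  obtain ⟨x, hxt, hyx⟩ : ∃ x ∈ t, y ∈ (V x : Set X) := by
    have : y ∈ ⋃ x ∈ t, (V x : Set X) := ht.symm ▸ Set.mem_univ y
    simpa using this
  obtain ⟨E, hE, hfl, he⟩ := hV x y hyx
  exact ⟨E, fun i hi => hE i (hi.imp (fun h => lt_of_lt_of_le h (hA x hxt)) (fun h => lt_of_le_of_lt (hB x hxt) h)), hfl, he⟩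


end Groth.Agent.S6239
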