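import Groth.Statements.S6241
import Groth.Agent.Lib.RelPCS8.TensorAmp

set_option autoImplicit false
universe u
open CategoryTheory CategoryTheory.Limits AlgebraicGeometry
attribute [local instance] HasDerivedCategory.standard
open KSix

namespace Groth.Agent.S6241

open Groth.Agent Groth.Agent.RelPCS8 MonoidalCategory KFlat KFlat.Sch
set_option backward.isDefEq.respectTransparency false
set_option backward.isDefEq.respectTransparency.types false
set_option linter.style.haveILetI false

theorem exactAt_ring {B C : Type u} [CommRing B] [CommRing C] (ψ : B →+* C) (M : ModuleCat.{u} B)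
    (L : DRing.Cx B) (hL : IsKFlat (KFlat.Module.TM B) L)
    (q : L ⟶ (HomologicalComplex.single _ (ComplexShape.up ℤ) 0).obj M) [QuasiIso q] (F : DRing.Cx C) {a b : ℤ}
    (hF : DRing.HasTorAmplitudeIn B a b (DRing.toD ((DRing.restrictCx ψ).obj F))) {i : ℤ} (hi : i < a ∨ b < i) :
    (((tcx (KFlat.Module.TM C)).obj (((ModuleCat.extendScalars ψ).mapHomologicalComplex (ComplexShape.up ℤ)).obj L)).obj F).ExactAt i := by
  obtain ⟨E, hv, hE, ⟨e⟩⟩ := hF
  haveI := ((DMod.vanishesOutside_iff E a b).1 hv).2
  have hEk := DBaseChange.isKFlat_of_boundedAbove E b hE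
  obtain ⟨t⟩ := TensorAmp.exists_iso_tensor L hL ((KFlat.Module.isKFlat_iff _).2 hEk) e
  haveI := KFlat.DT.quasiIso_whiskerLeft q hEk
  let S0 : DRing.Cx B := (HomologicalComplex.single _ (ComplexShape.up ℤ) 0).obj M
  have h0 : (E ⊗ S0).ExactAt i := by
    have h1 : ((DBaseChange.tm M).obj E).ExactAt i := (HomologicalComplex.exactAt_iff _ i).2
      (ShortComplex.exact_of_isZero_X₂ _ ((MonoidalCategory.tensorRight M).map_isZero (hv i hi)))
    exact HomologicalComplex.ExactAt.of_iso h1 (DTen.braidCx E S0 ≪≫ DBaseChange.singleTensorIso M E).symm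
  let u : ((DRing.restrictCx ψ).obj F) ⊗ L ≅ (DRing.restrictCx ψ).obj
      (((tcx (KFlat.Module.TM C)).obj (((ModuleCat.extendScalars ψ).mapHomologicalComplex (ComplexShape.up ℤ)).obj L)).obj F) :=
    (KFlat.Module.projCxIso ψ F L).symm ≪≫ (DRing.restrictCx ψ).mapIso
      (DTen.braidCx F (((ModuleCat.extendScalars ψ).mapHomologicalComplex (ComplexShape.up ℤ)).obj L))
  let w : DRing.toD (E ⊗ S0) ≅ DRing.toD ((DRing.restrictCx ψ).obj
      (((tcx (KFlat.Module.TM C)).obj (((ModuleCat.extendScalars ψ).mapHomologicalComplex (ComplexShape.up ℤ)).obj L)).obj F)) :=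
    (asIso (DerivedCategory.Q.map (E ◁ q))).symm ≪≫ t ≪≫ DerivedCategory.Q.mapIso u
  refine ((HomologicalComplex.exactAt_iff _ i).2 ?_)
  refine (ShortComplex.exact_map_iff_of_faithful _ (ModuleCat.restrictScalars.{u} ψ)).1 ?_
  show (((DRing.restrictCx ψ).obj (((tcx (KFlat.Module.TM C)).obj (((ModuleCat.extendScalars ψ).mapHomologicalComplex (ComplexShape.up ℤ)).obj L)).obj F)).sc i).Exact
  refine (HomologicalComplex.exactAt_iff _ i).1 ?_
  refine (HomologicalComplex.exactAt_iff_isZero_homology _ i).2 (Limits.IsZero.of_iso ((HomologicalComplex.exactAt_iff_isZero_homology _ i).1 h0) ?_)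
  exact ((DerivedCategory.homologyFunctorFactors _ i).app _).symm ≪≫
    (DerivedCategory.homologyFunctor _ i).mapIso w.symm ≪≫ (DerivedCategory.homologyFunctorFactors _ i).app _


/-- Let f : X ⟶ Y be a morphism of schemes and F a cochain complex of O_X-modules with bounded above
cohomology and tor amplitude in [m, n] relative to f in the stalkwise sense (at every point x of X
the complex of stalks F_x is isomorphic, in the derived category of the local ring of Y at f x, to a
complex of flat modules placed in [m, n]). Then for every open V of Y and every O_V-module M, the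
derived pullback along the restriction f⁻¹(V) ⟶ V of f and the derived tensor product with the
restriction of F to f⁻¹(V) being assumed to exist, the cohomology sheaves of L(f|)^* M ⊗^L (F
restricted to f⁻¹(V)) vanish outside [m, n]. (The published statement is for a morphism of ringed
topoi whose source has enough points, with V an object of the target topos; this row is the case of
schemes, V an open subscheme, and the derived tensor product taken with the restriction of F as the
fixed right-hand factor.) -/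
theorem result {X Y : Scheme.{u}} (f : X ⟶ Y)
    (F : CochainComplex X.Modules ℤ) (e : ℤ) [(DCoh.toD X F).IsLE e] (m n : ℤ)
    (hF : DerSch.HasTorAmplitude f m n F) (V : Y.Opens) (M : (V : Scheme.{u}).Modules)
    [DCoh.HasLpull (f ∣_ V)] [DCoh.HasLTensorCx ((DCoh.restrictCx (f ⁻¹ᵁ V)).obj F)]
    (i : ℤ) (hi : i < m ∨ n < i) :
    IsZero (DCoh.HD ((DCoh.LTensorCx ((DCoh.restrictCx (f ⁻¹ᵁ V)).obj F)).obj
      ((DCoh.Lpull (f ∣_ V)).obj (DCoh.inD (V : Scheme.{u}) M))) i) := by
  let U := f ⁻¹ᵁ V
  let S := (CochainComplex.singleFunctor (V : Scheme.{u}).Modules 0).obj M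
  let R := KFlat.resObj (KFlat.Sch.cover (V : Scheme.{u})) S
  let q := KFlat.resπ (KFlat.Sch.cover (V : Scheme.{u})) S
  haveI : QuasiIso q := KFlat.quasiIso_resπ (KFlat.Sch.cover (V : Scheme.{u})) S
  have hR := (KFlat.Sch.isAdapted_resObj (X := (V : Scheme.{u})) S)
  obtain ⟨t⟩ := KFlat.Sch.nonempty_lTensorCxObjIso ((DCoh.restrictCx U).obj F) _ (KFlat.Sch.isKFlat_pullback (f ∣_ V) hR.1)
  let W := ((tcx (TX (U : Scheme.{u}))).obj (((Scheme.Modules.pullback (f ∣_ V)).mapHomologicalComplex (ComplexShape.up ℤ)).obj R)).obj ((DCoh.restrictCx U).obj F)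
  refine Limits.IsZero.of_iso ?_ ((DerivedCategory.homologyFunctor _ i).mapIso
    ((DCoh.LTensorCx ((DCoh.restrictCx U).obj F)).mapIso ((DCoh.Lpull (f ∣_ V)).mapIso
      ((DerivedCategory.singleFunctorIsoCompQ _ 0).app M ≪≫ (asIso (DerivedCategory.Q.map q)).symm) ≪≫
      KFlat.Sch.lpullObjIso (f ∣_ V) R hR) ≪≫ t) ≪≫ (DerivedCategory.homologyFunctorFactors _ i).app W)
  refine DPerf.isZero_of_stalks fun x => ?_
  haveI : (stF x).PreservesHomology := ((stF x).exact_tfae.out 0 2).1 fun S hS => DPerf.shortExact_stF hS x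
  have hex : (((stF x).mapHomologicalComplex (ComplexShape.up ℤ)).obj W).ExactAt i → Subsingleton ((W.homology i).presheaf.stalk x) :=
    fun h => ModuleCat.subsingleton_of_isZero (((HomologicalComplex.exactAt_iff_isZero_homology _ i).1 h).of_iso
      ((ShortComplex.mapHomologyIso (W.sc i) (stF x)).symm))
  refine hex ?_
  haveI : QuasiIso (((stF ((f ∣_ V) x)).mapHomologicalComplex (ComplexShape.up ℤ)).map q) := by
    haveI : (stF ((f ∣_ V) x)).PreservesHomology := ((stF ((f ∣_ V) x)).exact_tfae.out 0 2).1 fun S hS => DPerf.shortExact_stF hS _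
    infer_instance
  have hF' : DerSch.HasTorAmplitudeAt (f ∣_ V) m n ((DCoh.restrictCx U).obj F) x := by
    have h1 := (RestrictStalk.torAmplitudeAt_restrict_iff f U x m n F).2 (hF _)
    have hc : ∀ g : (U : Scheme.{u}) ⟶ Y, g = U.ι ≫ f → DerSch.HasTorAmplitudeAt g m n ((DCoh.restrictCx U).obj F) x := by
      rintro g rfl; exact h1
    exact (TorMV.torAmplitudeAt_comp_iff (f ∣_ V) V.ι x (TorMV.bijective_stalkMap V.ι _) m n _).1 (hc _ (morphismRestrict_ι f V))
  have h := exactAt_ring ((f ∣_ V).stalkMap x).hom ((stF ((f ∣_ V) x)).obj M) _ (isKFlat_stF hR.1 _)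
    (((stF ((f ∣_ V) x)).mapHomologicalComplex (ComplexShape.up ℤ)).map q ≫
      (HomologicalComplex.singleMapHomologicalComplex (stF ((f ∣_ V) x)) (ComplexShape.up ℤ) 0).hom.app M) _
    (StalkTor.hasTorAmplitudeIn_congr (DerivedCategory.Q.mapIso (TensorAmp.stalkOverCxIso (f ∣_ V) x ((DCoh.restrictCx U).obj F))) hF') hi
  exact HomologicalComplex.ExactAt.of_iso h (TensorAmp.stalkPullTensorIso (f ∣_ V) x R ((DCoh.restrictCx U).obj F))


end Groth.Agent.S6241
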