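import Groth.Statements.S6247
import Groth.Agent.Lib.KFlat8.SiteLTFlat
import Groth.Agent.Lib.KFlat.TwoOfThree
import Groth.Agent.Lib.ModFlat16.Basic

set_option autoImplicit false
universe u
open CategoryTheory CategoryTheory.Limits AlgebraicGeometry
attribute [local instance] HasDerivedCategory.standard
open KSix

namespace Groth.Agent.S6247

open Groth.Agent Groth.Agent.KFlat Groth.Agent.KFlat.Site


/-- One ringed site: let (C, J, O) be a small site with a sheaf of commutative rings O, let E be a
cochain complex of O-modules isomorphic in D(O) to a complex P of flat O-modules which vanishes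
outside [m, n] (E has flat amplitude in [m, n]), and let F be a cochain complex of flat O-modules
which vanishes outside [m', n']. Then, the derived tensor product − ⊗^L_O F being assumed to exist,
E ⊗^L_O F is isomorphic in D(O) to a complex of flat O-modules vanishing outside [m + m', n + n']:
flat amplitudes add, and in particular the derived tensor product of two objects of finite flat
amplitude has finite flat amplitude. (The published statement is for a morphism of ringed topoi f
from S' to S and the external derived tensor product of an object over S' with an object over S,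
flatness meaning exactness of the tensor product functor; this row is the case S' = S with f the
identity, on the topos of sheaves on a small site, with the second factor given by its own flat
model.) -/
theorem result {C : Type u} [SmallCategory C]
    {J : GrothendieckTopology C} (O : Sheaf J CommRingCat.{u}) (E P : CochainComplex (ModSite.Mod O) ℤ)
    (m n : ℤ) (hP : ∀ i : ℤ, ModSite.IsFlat (P.X i)) (hPb : ∀ i : ℤ, i < m ∨ n < i → IsZero (P.X i))
    (eP : DerivedCategory.Q.obj P ≅ DerivedCategory.Q.obj E) (F : CochainComplex (ModSite.Mod O) ℤ)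
    (m' n' : ℤ) (hF : ∀ i : ℤ, ModSite.IsFlat (F.X i)) (hFb : ∀ i : ℤ, i < m' ∨ n' < i → IsZero (F.X i))
    [ModSite.HasLTensorCx F] :
    ∃ G : CochainComplex (ModSite.Mod O) ℤ, (∀ i : ℤ, ModSite.IsFlat (G.X i)) ∧
      (∀ i : ℤ, i < m + m' ∨ n + n' < i → IsZero (G.X i)) ∧
      Nonempty (DerivedCategory.Q.obj G ≅ (ModSite.LTensorCx F).obj (DerivedCategory.Q.obj E)) := by
  haveI : F.IsStrictlyLE n' := by
    rw [CochainComplex.isStrictlyLE_iff]; exact fun i hi => hFb i (Or.inr hi)
  have hF' : Groth.Agent.KFlat.IsKFlat (TS O) F :=
    isKFlat_of_boundedAbove_flat F n' fun i => (isFlat_iff _).2 (hF i)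
  haveI := KFlat8.isIso_counit_of_kflat F hF' P
  haveI : AB4OfSize.{0} (ModSite.Mod O) := Groth.Agent.KFlat.ab4
  refine ⟨((tcx (TS O)).obj P).obj F, fun k => ?_, fun k hk => ?_,
    ⟨(asIso ((KFlat8.counit F).app P)).symm ≪≫ (ModSite.LTensorCx F).mapIso eP⟩⟩
  · exact (isFlat_iff _).1 (Groth.Agent.KFlat.isFlat_colimit (c := summandsCocone (TS O) P F k) (isColimitSummandsCocone (TS O) P F k)
      fun j => (isFlat_iff _).2 (ModFlat16.isFlat_tensor (hP j.as) (hF (k - j.as))))
  · refine (IsZero.iff_id_eq_zero _).2 (tcx_hom_ext (TS O) fun p q h => ?_)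
    have hpq : p + q = k := h
    by_cases hp : p < m ∨ n < p
    · exact ((Functor.map_isZero (TS O) (hPb p hp)).obj _).eq_of_src _ _
    · exact (((TS O).obj (P.X p)).map_isZero (hFb q (by omega))).eq_of_src _ _


end Groth.Agent.S6247
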