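import Groth.Statements.S6248
import Groth.Agent.Lib.Exact8.ProjPhi
import Groth.Agent.Lib.DGen9.Affine
import Groth.Agent.Lib.Exact8.ConverseMain

set_option autoImplicit false
universe u
open CategoryTheory CategoryTheory.Limits AlgebraicGeometry
attribute [local instance] HasDerivedCategory.standard
open KSix

namespace Groth.Agent.S6248


/-- Let Y be a Noetherian scheme, f : X ⟶ Y a proper morphism, p an integer, and E ∈ D^b(O_X), given by
a cochain complex F, perfect relative to f (pseudo-coherent relative to f in chart form and locally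
on X of finite stalkwise tor amplitude over the local rings of Y). The derived functors Lf^*, − ⊗^L
F and Rf_* and the derived pullbacks to the points Spec κ(y) ⟶ Y being assumed to exist: if the
functor M ↦ R^p f_*(Lf^* M ⊗^L F) is exact on the full subcategory of quasi-coherent O_Y-modules
(preserves finite limits and finite colimits there), then R^p f_*(E) = H^p(Rf_* E) is a finite
locally free O_Y-module and the function y ↦ dim_{κ(y)} H^p(Rf_* E ⊗^L κ(y)) is locally constant on
Y. (The published statement is for a proper morphism of quasi-compact schemes with Y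
quasi-separated, under the finiteness property for proper pseudo-coherent direct images, which holds
over a Noetherian base; it writes the functor as M ↦ R^p f_*(E ⊗_Y^L M) with E ⊗_Y^L M = E ⊗^L Lf^*
M, and this row takes the derived tensor product with F as the fixed right-hand factor.) -/
theorem result {X Y : Scheme.{u}} [IsNoetherian Y]
    (f : X ⟶ Y) [IsProper f] (F : CochainComplex X.Modules ℤ) (a b : ℤ) [(DCoh.toD X F).IsGE a]
    [(DCoh.toD X F).IsLE b] (hF : DerSch.IsPerfectRel f F) (p : ℤ) [DCoh.HasLpull f]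
    [DCoh.HasLTensorCx F] [DCoh.HasRpush f]
    [PreservesFiniteLimits ((QCohCat.isQCoh Y).ι ⋙ DerivedCategory.singleFunctor Y.Modules 0 ⋙ DCoh.Lpull f ⋙ DCoh.LTensorCx F ⋙ DCoh.Rpush f ⋙ DerivedCategory.homologyFunctor Y.Modules p)]
    [PreservesFiniteColimits ((QCohCat.isQCoh Y).ι ⋙ DerivedCategory.singleFunctor Y.Modules 0 ⋙ DCoh.Lpull f ⋙ DCoh.LTensorCx F ⋙ DCoh.Rpush f ⋙ DerivedCategory.homologyFunctor Y.Modules p)]
    [∀ y : Y, DCoh.HasLpull (Y.fromSpecResidueField y)] :
    FlatMod.IsFinLocFree (DCoh.HD ((DCoh.Rpush f).obj (DCoh.toD X F)) p) ∧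
      IsLocallyConstant (fun y : Y => PerfD.betti ((DCoh.Rpush f).obj (DCoh.toD X F)) y p) := by
  obtain ⟨hq, hperf⟩ := Exact8.isPerfect_rpush_of_perfectRel f F a b hF
  obtain ⟨K, hK, ⟨eK⟩, hiso⟩ := Exact8.exists_projection_natIso f F hq
  haveI := hK
  obtain ⟨e⟩ := hiso p
  have hKp : DCoh.IsPseudoCoherentD (p - 1) (DCoh.toD Y K) :=
    DGen9.isPseudoCoherentD_of_isPerfect (DGen9.isPerfect_of_iso eK.symm hperf) (p - 1)
  let Φ := (QCohCat.isQCoh Y).ι ⋙ Exact8.Phi K p
  haveI : PreservesFiniteLimits Φ := preservesFiniteLimits_of_natIso e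
  haveI : PreservesFiniteColimits Φ := preservesFiniteColimits_of_natIso e
  haveI : Φ.PreservesMonomorphisms := preservesMonomorphisms_of_preservesLimitsOfShape _
  haveI : Φ.PreservesEpimorphisms := preservesEpimorphisms_of_preservesColimitsOfShape _
  obtain ⟨h1, h2⟩ := Exact8.finLocFree_and_betti_of_test K p hKp (QCohCat.isQCoh Y)
    (fun {R} j hj z N => M1.isQCoh_push j (show Coh.IsQCoh
      ((tilde.functor R).obj ((ModuleCat.restrictScalars (StructureSheaf.toStalk R z).hom).obj N)) from inferInstance))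
    (fun {M N} g hM hN hg => by
      let g' : (⟨M, hM⟩ : QCohCat.QCoh Y) ⟶ ⟨N, hN⟩ := ObjectProperty.homMk g
      haveI : Mono g' := (QCohCat.isQCoh Y).ι.mono_of_mono_map hg
      exact inferInstanceAs (Mono (Φ.map g')))
    (fun {M N} g hM hN hg => by
      let g' : (⟨M, hM⟩ : QCohCat.QCoh Y) ⟶ ⟨N, hN⟩ := ObjectProperty.homMk g
      haveI : Epi g' := (QCohCat.isQCoh Y).ι.epi_of_epi_map hg
      exact inferInstanceAs (Epi (Φ.map g')))
  refine ⟨M2.isFinLocFree_of_iso ((DerivedCategory.homologyFunctor Y.Modules p).mapIso eK) h1, ?_⟩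
  rw [show (fun y : Y => PerfD.betti ((DCoh.Rpush f).obj (DCoh.toD X F)) y p) =
    fun y : Y => PerfD.betti (DCoh.toD Y K) y p from funext fun y => (Exact8.betti_congr eK y p).symm]
  exact h2


end Groth.Agent.S6248
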