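import Groth.Statements.S6250
import Groth.Agent.Lib.Exact8.Betti
import Groth.Agent.Lib.QCoh8.Basic

set_option autoImplicit false
universe u
open CategoryTheory CategoryTheory.Limits AlgebraicGeometry
attribute [local instance] HasDerivedCategory.standard
open KSix

namespace Groth.Agent.S6250

open Groth.Agent
set_option backward.isDefEq.respectTransparency false
set_option linter.style.haveILetI false


/-- Let X be a locally Noetherian, reduced and quasi-separated scheme, p an integer, and E ∈ D⁻(O_X),
given by a cochain complex F, a (p-1)-pseudo-coherent object with quasi-coherent and locally bounded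
cohomology. The derived pullbacks to the points Spec κ(x) ⟶ X and the derived tensor product with F
being assumed to exist: if the function x ↦ dim_{κ(x)} H^p(E ⊗^L κ(x)) is locally constant on X,
then the functor M ↦ H^p(M ⊗^L F) is exact on the full subcategory of quasi-coherent O_X-modules
(preserves finite limits and finite colimits there). (The published statement writes the functor as
M ↦ H^p(E ⊗^L M); this row takes the derived tensor product with F as the fixed right-hand factor.) -/
theorem result {X : Scheme.{u}} [IsLocallyNoetherian X]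
    [IsReduced X] [QuasiSeparatedSpace X] (F : CochainComplex X.Modules ℤ) (e : ℤ) [(DCoh.toD X F).IsLE e]
    (p : ℤ) (hq : DCoh.IsQCohD (DCoh.toD X F))
    (hb : ∀ x : X, ∃ (U : X.Opens) (a : ℤ), x ∈ U ∧ ∀ i : ℤ, i < a →
      IsZero ((Scheme.Modules.restrictFunctor U.ι).obj (DCoh.HD (DCoh.toD X F) i)))
    (hE : DCoh.IsPseudoCoherentD (p - 1) (DCoh.toD X F))
    [∀ x : X, DCoh.HasLpull (X.fromSpecResidueField x)] [DCoh.HasLTensorCx F]
    (hc : IsLocallyConstant (fun x : X => PerfD.betti (DCoh.toD X F) x p)) :
    PreservesFiniteLimits ((QCohCat.isQCoh X).ι ⋙ DerivedCategory.singleFunctor X.Modules 0 ⋙ DCoh.LTensorCx F ⋙ DerivedCategory.homologyFunctor X.Modules p) ∧ PreservesFiniteColimits ((QCohCat.isQCoh X).ι ⋙ DerivedCategory.singleFunctor X.Modules 0 ⋙ DCoh.LTensorCx F ⋙ DerivedCategory.homologyFunctor X.Modules p) := by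
  obtain ⟨h1, h2⟩ := Exact8.exact_of_betti F p hE hc
  exact ⟨comp_preservesFiniteLimits _ (Exact8.Phi F p), comp_preservesFiniteColimits _ (Exact8.Phi F p)⟩


end Groth.Agent.S6250
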