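import Groth.Statements.S6253
import Groth.Agent.Lib.Exact8.Succ
import Groth.Agent.Lib.Exact8.ProjPhi

set_option autoImplicit false
universe u
open CategoryTheory CategoryTheory.Limits AlgebraicGeometry
attribute [local instance] HasDerivedCategory.standard
open KSix

namespace Groth.Agent.S6253


/-- Let f : X ⟶ Y be a quasi-compact quasi-separated morphism of quasi-compact quasi-separated schemes,
E ∈ D^b(O_X), given by a cochain complex F, with quasi-coherent cohomology and of finite tor
amplitude relative to f (stalkwise), and p an integer. The derived functors Lf^*, − ⊗^L F and Rf_*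
being assumed to exist: the functor M ↦ R^p f_*(Lf^* M ⊗^L F) from quasi-coherent O_Y-modules to
O_Y-modules is right exact if and only if the functor M ↦ R^{p+1} f_*(Lf^* M ⊗^L F) on
quasi-coherent O_Y-modules is left exact. (The published statement writes E ⊗_Y^L M = E ⊗^L Lf^* M
and regards the functors as valued in quasi-coherent modules; this row takes the derived tensor
product with F as the fixed right-hand factor and values in all O_Y-modules.) -/
theorem result {X Y : Scheme.{u}} [CompactSpace X]
    [QuasiSeparatedSpace X] [CompactSpace Y] [QuasiSeparatedSpace Y] (f : X ⟶ Y) [QuasiCompact f]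
    [QuasiSeparated f] (F : CochainComplex X.Modules ℤ) (a b : ℤ) [(DCoh.toD X F).IsGE a]
    [(DCoh.toD X F).IsLE b] (hq : DCoh.IsQCohD (DCoh.toD X F)) (hF : DerSch.HasFiniteTorAmplitude f F)
    (p : ℤ) [DCoh.HasLpull f] [DCoh.HasLTensorCx F] [DCoh.HasRpush f] :
    PreservesFiniteColimits ((QCohCat.isQCoh Y).ι ⋙ DerivedCategory.singleFunctor Y.Modules 0 ⋙ DCoh.Lpull f ⋙ DCoh.LTensorCx F ⋙ DCoh.Rpush f ⋙ DerivedCategory.homologyFunctor Y.Modules p) ↔
      PreservesFiniteLimits ((QCohCat.isQCoh Y).ι ⋙ DerivedCategory.singleFunctor Y.Modules 0 ⋙ DCoh.Lpull f ⋙ DCoh.LTensorCx F ⋙ DCoh.Rpush f ⋙ DerivedCategory.homologyFunctor Y.Modules (p + 1)) := by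
  obtain ⟨K, hK, -, hiso⟩ := Exact8.exists_projection_natIso f F hq
  haveI := hK
  obtain ⟨e⟩ := hiso p
  obtain ⟨e'⟩ := hiso (p + 1)
  constructor
  · intro h
    haveI := preservesFiniteColimits_of_natIso e
    haveI := (Exact8.rightExact_iff_leftExact_succ K p).1 inferInstance
    exact preservesFiniteLimits_of_natIso e'.symm
  · intro h
    haveI := preservesFiniteLimits_of_natIso e'
    haveI := (Exact8.rightExact_iff_leftExact_succ K p).2 inferInstance
    exact preservesFiniteColimits_of_natIso e.symm


end Groth.Agent.S6253
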