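import Groth.Statements.S6260
import Groth.Agent.Lib.RelPCS8.BasePC

set_option autoImplicit false
universe u
open CategoryTheory CategoryTheory.Limits AlgebraicGeometry
attribute [local instance] HasDerivedCategory.standard
open KSix

namespace Groth.Agent.S6260


/-- Let S be a scheme and, for i = 1, 2, f_i : X_i ⟶ Y_i a morphism of S-schemes (structure morphisms
q_i : Y_i ⟶ S), with X₂ and Y₂ flat over S; let X = X₁ ×_S X₂ and Y = Y₁ ×_S Y₂ be given by pullback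
squares, with projections p₁ : X ⟶ X₁, p₂ : X ⟶ X₂, and f : X ⟶ Y the morphism compatible with the
projections. If f₁ and f₂ are locally of finite type and pseudo-coherent (their structure sheaves in
degree 0 are n-pseudo-coherent relative to them for every n, in chart form), then f = f₁ ×_S f₂ is
pseudo-coherent. (The published statement assumes only that X₁, X₂ and Y₁, Y₂ are tor-independent
over S; this row takes X₂ and Y₂ flat over S, which implies both conditions.) -/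
theorem result {S X₁ Y₁ X₂ Y₂ X Y : Scheme.{u}} (f₁ : X₁ ⟶ Y₁) (q₁ : Y₁ ⟶ S)
    (f₂ : X₂ ⟶ Y₂) (q₂ : Y₂ ⟶ S) [Flat q₂] [Flat (f₂ ≫ q₂)]
    (pX₁ : X ⟶ X₁) (pX₂ : X ⟶ X₂) (hX : IsPullback pX₁ pX₂ (f₁ ≫ q₁) (f₂ ≫ q₂))
    (pY₁ : Y ⟶ Y₁) (pY₂ : Y ⟶ Y₂) (hY : IsPullback pY₁ pY₂ q₁ q₂)
    (f : X ⟶ Y) (hf₁ : f ≫ pY₁ = pX₁ ≫ f₁) (hf₂ : f ≫ pY₂ = pX₂ ≫ f₂)
    [LocallyOfFiniteType f₁] [LocallyOfFiniteType f₂]
    (h₁ : ∀ n : ℤ, DerSch.IsNPseudoCoherent f₁ n) (h₂ : ∀ n : ℤ, DerSch.IsNPseudoCoherent f₂ n) (n : ℤ) :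
    DerSch.IsNPseudoCoherent f n := by
  let Z := pullback q₁ (f₂ ≫ q₂)
  have hZ : IsPullback (pullback.fst q₁ (f₂ ≫ q₂)) (pullback.snd q₁ (f₂ ≫ q₂)) q₁ (f₂ ≫ q₂) :=
    IsPullback.of_hasPullback q₁ (f₂ ≫ q₂)
  let a : X ⟶ Z := hZ.lift (pX₁ ≫ f₁) pX₂ (by rw [Category.assoc]; exact hX.w)
  have hX' : IsPullback pX₂ pX₁ (f₂ ≫ q₂) (f₁ ≫ q₁) := hX.flip
  have hca : IsPullback pX₁ a f₁ (pullback.fst q₁ (f₂ ≫ q₂)) := by
    refine (IsPullback.of_right (h₁₂ := pullback.snd q₁ (f₂ ≫ q₂)) (h₂₂ := q₁) ?_ ?_ hZ.flip).flip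
    · rw [hZ.lift_snd]; exact hX'
    · exact hZ.lift_fst _ _ _
  let b : Z ⟶ Y := hY.lift (pullback.fst _ _) (pullback.snd _ _ ≫ f₂) (by rw [Category.assoc]; exact hZ.w)
  have hcb : IsPullback (pullback.snd q₁ (f₂ ≫ q₂)) b f₂ pY₂ := by
    refine (IsPullback.of_right (h₁₂ := pY₁) (h₂₂ := q₂) ?_ ?_ hY).flip
    · rw [hY.lift_fst]; exact hZ
    · exact hY.lift_snd _ _ _
  haveI : LocallyOfFiniteType a := MorphismProperty.of_isPullback hca ‹LocallyOfFiniteType f₁›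
  haveI : LocallyOfFiniteType b := MorphismProperty.of_isPullback hcb ‹LocallyOfFiniteType f₂›
  haveI : Flat (pullback.fst q₁ (f₂ ≫ q₂)) := inferInstance
  have ha := Groth.Agent.RelPCS8.BasePC.nPseudoCoherent_baseChange hca (h₁ n)
  have hb := Groth.Agent.RelPCS8.BasePC.nPseudoCoherent_baseChange_over hcb hY.flip (h₂ n)
  have e : a ≫ b = f := hY.hom_ext (by rw [Category.assoc, hY.lift_fst, hZ.lift_fst, hf₁])
    (by rw [Category.assoc, hY.lift_snd, ← Category.assoc, hZ.lift_snd, hf₂])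
  have hab := Groth.Agent.RelPCS8.CompPC.nPseudoCoherent_comp a b ha hb
  rw [max_self, e] at hab
  exact hab


end Groth.Agent.S6260
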