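import Groth.Statements.S6263
import Mathlib

set_option autoImplicit false
universe u
open CAlg

namespace Groth.Agent.S6263




/-- For a ring map R → S and a finite S-module N which is flat as an R-module, generalizations lift
along the map from the support of N (a subset of Spec S) to Spec R: if p ≤ p' are primes of R and q'
is a prime of S in the support of N whose inverse image in R is p', then some prime q ≤ q' of S lies
in the support of N and has inverse image p. -/
theorem result {R S : Type u} [CommRing R] [CommRing S] [Algebra R S] (N : Type u) [AddCommGroup N] [Module S N] [Module R N] [IsScalarTower R S N] [Module.Finite S N] [Module.Flat R N] (p p' : Ideal R) [p.IsPrime] [p'.IsPrime] (hle : p ≤ p') (q' : PrimeSpectrum S) (hq' : q' ∈ Module.support S N) (hover : q'.asIdeal.under R = p') : ∃ q : PrimeSpectrum S, q ≤ q' ∧ q ∈ Module.support S N ∧ q.asIdeal.under R = p := by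
  classical
  let J : Ideal S := (p.map (algebraMap R S) • (⊤ : Submodule S N)).colon Set.univ
  have memJ : ∀ x, x ∈ J ↔ ∀ n : N, x • n ∈ p.map (algebraMap R S) • (⊤ : Submodule S N) := fun x => by
    simp [J, Submodule.mem_colon]
  have hres : (p.map (algebraMap R S) • (⊤ : Submodule S N)).restrictScalars R = p • ⊤ := by
    rw [Ideal.smul_restrictScalars, Submodule.restrictScalars_top]
  have hle' : p.map (algebraMap R S) ≤ q'.asIdeal :=
    (Ideal.map_mono hle).trans (Ideal.map_le_iff_le_comap.2 hover.ge)
  have hann : Module.annihilator S N ≤ q'.asIdeal := by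
    rw [Module.support_eq_zeroLocus, PrimeSpectrum.mem_zeroLocus] at hq'
    exact hq'
  let T : Submonoid S := q'.asIdeal.primeCompl ⊔ Algebra.algebraMapSubmonoid S p.primeCompl
  have treg : ∀ t ∉ p, ∀ n : N, t • n ∈ (p • ⊤ : Submodule R N) → n ∈ (p • ⊤ : Submodule R N) := by
    intro t ht n hn
    have hreg : IsSMulRegular (R ⧸ p) t := fun a b hab => by
      simp only [Algebra.smul_def, Ideal.Quotient.algebraMap_eq] at hab
      exact mul_left_cancel₀ (by rwa [Ne, Ideal.Quotient.eq_zero_iff_mem]) hab
    let e := TensorProduct.tensorQuotEquivQuotSMul N p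
    have hinj : Function.Injective ((DistribSMul.toLinearMap R (R ⧸ p) t).lTensor N) :=
      Module.Flat.lTensor_preserves_injective_linearMap _ hreg
    rw [← Submodule.Quotient.mk_eq_zero] at hn ⊢
    have e1 : ∀ m : N, e (m ⊗ₜ[R] (1 : R ⧸ p)) = Submodule.Quotient.mk m := fun m => by
      rw [show (1 : R ⧸ p) = Ideal.Quotient.mk p 1 from rfl, TensorProduct.tensorQuotEquivQuotSMul_tmul_mk, one_smul]
    rw [← e1] at hn ⊢
    rw [LinearEquiv.map_eq_zero_iff] at hn ⊢
    refine hinj ?_
    rw [map_zero, LinearMap.lTensor_tmul]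
    show n ⊗ₜ (t • (1 : R ⧸ p)) = 0
    rw [← TensorProduct.smul_tmul]
    exact hn
  have hdisj : Disjoint (J : Set S) T := by
    rw [Set.disjoint_left]
    intro x hx hxT
    obtain ⟨s, hs, _, ⟨t, ht, rfl⟩, rfl⟩ := Submonoid.mem_sup.1 hxT
    have hsN : ∀ n : N, s • n ∈ p.map (algebraMap R S) • (⊤ : Submodule S N) := by
      intro n
      rw [← Submodule.restrictScalars_mem R, hres]
      refine treg t ht _ ?_
      rw [← hres, Submodule.restrictScalars_mem, ← algebraMap_smul S t, smul_smul, mul_comm]
      exact (memJ _).1 hx n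
    have hf : LinearMap.range (LinearMap.lsmul S N s) ≤ p.map (algebraMap R S) • (⊤ : Submodule S N) := by
      rintro _ ⟨n, rfl⟩
      exact hsN n
    obtain ⟨P, hmon, -, hco, hP⟩ := LinearMap.exists_monic_and_natDegree_eq_and_coeff_mem_pow_and_aeval_eq_zero S (LinearMap.lsmul S N s) (p.map (algebraMap R S)) hf
    refine hs ?_
    have h0 : P.eval s ∈ q'.asIdeal := by
      refine hann (Module.mem_annihilator.2 fun n => ?_)
      have := LinearMap.congr_fun hP n
      rw [show (LinearMap.lsmul S N s) = algebraMap S (Module.End S N) s from rfl, Polynomial.aeval_algebraMap_apply] at this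
      simpa using this
    rw [Polynomial.eval_eq_sum_range, Finset.sum_range_succ, hmon.coeff_natDegree, one_mul] at h0
    refine q'.isPrime.mem_of_pow_mem P.natDegree ((Submodule.add_mem_iff_right _ (Submodule.sum_mem _ fun i hi => ?_)).1 h0)
    refine Ideal.mul_mem_right _ _ (hle' ?_)
    exact Ideal.pow_le_self (Nat.sub_ne_zero_of_lt (Finset.mem_range.1 hi)) (hco i)
  obtain ⟨q, hq, hJq, hqT⟩ := Ideal.exists_le_prime_disjoint J T hdisj
  refine ⟨⟨q, hq⟩, fun x hx => ?_, ?_, ?_⟩
  · by_contra h
    exact Set.disjoint_left.1 hqT hx (Submonoid.mem_sup_left h)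
  · rw [Module.support_eq_zeroLocus, PrimeSpectrum.mem_zeroLocus]
    exact fun x hx => hJq ((memJ x).2 fun n => by rw [Module.mem_annihilator.1 hx]; exact zero_mem _)
  · refine le_antisymm (fun r hr => ?_) (fun r hr => hJq ((memJ _).2 fun n => Submodule.smul_mem_smul (Ideal.mem_map_of_mem _ hr) Submodule.mem_top))
    by_contra h
    exact Set.disjoint_left.1 hqT hr (Submonoid.mem_sup_right ⟨r, h, rfl⟩)

end Groth.Agent.S6263
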