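import Groth.Statements.S6264
import Mathlib.RingTheory.Ideal.HasGoingUp
import Mathlib.RingTheory.Localization.AtPrime.Basic

set_option autoImplicit false
universe u
open CAlg

namespace Groth.Agent.S6264

/-- Let R → S be a ring map with the going-up property and p a prime of R such that exactly one prime q
of S lies over p. Then the localization S_p of S at the image of R - p is a localization of S at q,
i.e. S_p = S_q. -/
theorem result {R S : Type u} [CommRing R] [CommRing S] [Algebra R S] [Algebra.HasGoingUp R S] (p : Ideal R) [p.IsPrime] (q : Ideal S) [q.IsPrime] [q.LiesOver p] (huniq : ∀ q' : Ideal S, q'.IsPrime → q'.under R = p → q' = q) : IsLocalization.AtPrime (Localization (Algebra.algebraMapSubmonoid S p.primeCompl)) q := by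
  have hle : Algebra.algebraMapSubmonoid S p.primeCompl ≤ q.primeCompl := by
    rintro _ ⟨x, hx, rfl⟩ hq
    exact hx ((Ideal.mem_of_liesOver q p x).2 hq)
  refine IsLocalization.of_le (Algebra.algebraMapSubmonoid S p.primeCompl) _ hle fun s hs => ?_
  by_contra hu
  obtain ⟨Q, hQ, hsQ⟩ := exists_max_ideal_of_mem_nonunits hu
  let q' : Ideal S := Q.comap (algebraMap S (Localization (Algebra.algebraMapSubmonoid S p.primeCompl)))
  have : q'.IsPrime := Ideal.IsPrime.comap _
  have hdisj : q'.under R ≤ p := by
    intro x hx
    by_contra hxp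
    exact hQ.ne_top (Ideal.eq_top_of_isUnit_mem _ hx
      (IsLocalization.map_units _ (⟨algebraMap R S x, x, hxp, rfl⟩ : Algebra.algebraMapSubmonoid S p.primeCompl)))
  rcases eq_or_lt_of_le hdisj with h | h
  · exact hs (huniq q' inferInstance h ▸ hsQ)
  · obtain ⟨q'', hle', hq'', hlo⟩ := Algebra.HasGoingUp.exists_ideal_ge_liesOver_of_lt q' h
    exact hs (huniq q'' hq'' hlo.over.symm ▸ hle' hsQ)

end Groth.Agent.S6264
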