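import Groth.Statements.S6266
import Groth.Agent.Lib.FibRankH1.Basic

set_option autoImplicit false
universe u
open scoped TensorProduct
open CAlg

namespace Groth.Agent.S6266




/-- Let R be a reduced ring and M an R-module. Then M is a finite projective R-module if and only if M
is finitely generated and the function on Spec R sending a prime p to the dimension of κ(p) ⊗ M over
the residue field κ(p) is locally constant for the Zariski topology. -/
theorem result (R : Type u) [CommRing R] [IsReduced R] (M : Type u) [AddCommGroup M] [Module R M] : (Module.Finite R M ∧ Module.Projective R M) ↔ (Module.Finite R M ∧ IsLocallyConstant (fun p : PrimeSpectrum R => Module.finrank p.asIdeal.ResidueField (p.asIdeal.ResidueField ⊗[R] M))) := by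
  refine ⟨fun ⟨h1, h2⟩ => ⟨h1, (IsLocallyConstant.iff_eventually_eq _).2 fun x =>
      Groth.Agent.FibRankH1.fr_eventually_eq M x⟩,
    fun ⟨h1, h2⟩ => ⟨h1, Groth.Agent.FibRankH1.projective_of_eventually M fun x =>
      (IsLocallyConstant.iff_eventually_eq _).1 h2 x⟩⟩

end Groth.Agent.S6266
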