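import Groth.Statements.S6267
import Groth.Agent.Lib.CAlgLow.UI

set_option autoImplicit false
universe u
open CAlg

namespace Groth.Agent.S6267

/-- Let R be a ring and f : M → M' a map of R-modules with M' flat. Then f is universally injective
exactly when, for each finitely generated ideal I of R, the induced map M ⊗ R/I → M' ⊗ R/I (that is,
M/IM → M'/IM') is injective. -/
theorem result {R : Type u} [CommRing R] {M M' : Type u} [AddCommGroup M] [Module R M] [AddCommGroup M'] [Module R M'] [Module.Flat R M'] (f : M →ₗ[R] M') : CAlgX.UniversallyInjective R f ↔ ∀ I : Ideal R, I.FG → Function.Injective (f.rTensor (R ⧸ I)) := by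
  refine ⟨fun h I _ => h (R ⧸ I), fun h => ?_⟩
  have hfi : Function.Injective f := by
    intro a b hab
    have hinj := h ⊥ Submodule.fg_bot
    let e := (TensorProduct.congr (LinearEquiv.refl R M) (Submodule.quotEquivOfEqBot ⊥ rfl)).trans (TensorProduct.rid R M)
    have hk : ∀ m : M, e (m ⊗ₜ[R] Submodule.Quotient.mk (1 : R)) = m := fun m => by simp [e]; exact one_smul R m
    rw [← hk a, ← hk b, hinj (a₁ := a ⊗ₜ[R] Submodule.Quotient.mk (1 : R))
      (a₂ := b ⊗ₜ[R] Submodule.Quotient.mk (1 : R)) (by simp [hab])]
  have hex := LinearMap.exact_map_mkQ_range f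
  have := Groth.Agent.CAlgLow.flat_right_of_injective_quotient h hex (Submodule.mkQ_surjective _)
  exact Groth.Agent.CAlgLow.ui_of_flat_coker hfi hex (Submodule.mkQ_surjective _)

end Groth.Agent.S6267
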