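import Groth.Statements.S6268
import Mathlib.LinearAlgebra.TensorProduct.RightExactness

set_option autoImplicit false
universe u
open CAlg

namespace Groth.Agent.S6268

open TensorProduct in
theorem both {R S : Type u} [CommRing R] [CommRing S] [Algebra R S] (hS : CAlgX.UniversallyInjective R (Algebra.linearMap R S)) {M N : Type u} [AddCommGroup M] [Module R M] [AddCommGroup N] [Module R N] (g : M →ₗ[R] N) : (Function.Injective (g.lTensor S) → Function.Injective g) ∧ (Function.Surjective (g.lTensor S) → Function.Surjective g) := by
  have hj : ∀ (Q : Type u) [AddCommGroup Q] [Module R Q] (q : Q), (1 : S) ⊗ₜ[R] q = 0 → q = 0 := by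
    intro Q _ _ q hq
    have h := hS Q (a₁ := (1 : R) ⊗ₜ[R] q) (a₂ := 0) (by simpa using hq)
    simpa using congrArg (TensorProduct.lid R Q) h
  refine ⟨fun h => (injective_iff_map_eq_zero g).2 fun m hm => hj M m ?_, fun h => ?_⟩
  · refine h ?_
    rw [LinearMap.lTensor_tmul, hm, tmul_zero, map_zero]
  · rw [← LinearMap.range_eq_top, Submodule.eq_top_iff']
    intro y
    rw [← Submodule.Quotient.mk_eq_zero]
    refine hj _ _ ?_
    obtain ⟨z, hz⟩ := h ((1 : S) ⊗ₜ[R] y)
    have := congrArg ((LinearMap.range g).mkQ.lTensor S) hz
    rw [← LinearMap.lTensor_comp_apply, LinearMap.range_mkQ_comp, LinearMap.lTensor_zero,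
      LinearMap.zero_apply, LinearMap.lTensor_tmul] at this
    exact this.symm



/-- Suppose the structure map R → S of an R-algebra S is universally injective as an R-linear map. Then
tensoring with S detects injectivity and surjectivity of R-linear maps (and hence reflects
isomorphisms): for an R-linear g : M → N, if S ⊗ g is injective then so is g, and if S ⊗ g is
surjective then so is g. -/
theorem result {R S : Type u} [CommRing R] [CommRing S] [Algebra R S] (hS : CAlgX.UniversallyInjective R (Algebra.linearMap R S)) {M N : Type u} [AddCommGroup M] [Module R M] [AddCommGroup N] [Module R N] (g : M →ₗ[R] N) : (Function.Injective (g.lTensor S) → Function.Injective g) ∧ (Function.Surjective (g.lTensor S) → Function.Surjective g) := by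
  exact both hS g

end Groth.Agent.S6268
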