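import Groth.Statements.S6273
import Mathlib.RingTheory.Spectrum.Prime.Topology

set_option autoImplicit false
universe u
open CAlg

namespace Groth.Agent.S6273

/-- Let R be a ring, S ⊆ R a multiplicative subset and A = S⁻¹R. If the image of Spec(A) → Spec(R) is
closed, then the localization map R → A is surjective; in particular A is isomorphic to R/I for the
ideal I = ker(R → A). -/
theorem result {R : Type u} [CommRing R] (S : Submonoid R) (A : Type u) [CommRing A] [Algebra R A] [IsLocalization S A] (hcl : IsClosed (Set.range (PrimeSpectrum.comap (algebraMap R A)))) : Function.Surjective (algebraMap R A) := by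
  intro a
  obtain ⟨⟨x, s⟩, h⟩ := IsLocalization.surj S a
  have hrange : ∀ p : PrimeSpectrum R, RingHom.ker (algebraMap R A) ≤ p.asIdeal → (s : R) ∉ p.asIdeal := by
    intro p hp hs
    have h1 : p ∈ closure (Set.range (PrimeSpectrum.comap (algebraMap R A))) := by
      rw [PrimeSpectrum.closure_range_comap]
      exact (PrimeSpectrum.mem_zeroLocus _ _).2 hp
    rw [hcl.closure_eq, PrimeSpectrum.localization_comap_range A S] at h1
    exact Set.disjoint_left.1 h1 s.2 hs
  have htop : RingHom.ker (algebraMap R A) ⊔ Ideal.span {(s : R)} = ⊤ := by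
    by_contra hne
    obtain ⟨m, hm, hle⟩ := Ideal.exists_le_maximal _ hne
    exact hrange ⟨m, hm.isPrime⟩ (le_sup_left.trans hle)
      (hle (Ideal.mem_sup_right (Ideal.mem_span_singleton_self _)))
  obtain ⟨i, hi, j, hj, hij⟩ := Submodule.mem_sup.1 ((Ideal.eq_top_iff_one _).1 htop)
  obtain ⟨t, rfl⟩ := Ideal.mem_span_singleton.1 hj
  refine ⟨x * t, ?_⟩
  have h2 := congrArg (algebraMap R A) hij
  rw [map_add, RingHom.mem_ker.1 hi, zero_add, map_mul, map_one] at h2
  rw [map_mul, ← h, mul_assoc, h2, mul_one]

end Groth.Agent.S6273
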