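import Groth.Statements.S6274
import Mathlib

set_option autoImplicit false
universe u
open CAlg

namespace Groth.Agent.S6274




/-- Let R be a ring, S ⊆ R a multiplicative subset and A = S⁻¹R, and assume the image of Spec(A) →
Spec(R) is closed. If Spec(R) is a Noetherian topological space (which holds when R is Noetherian)
or S is finitely generated as a monoid, then R is isomorphic to A × R' for some ring R', by an
isomorphism whose first component is the localization map R → A. -/
theorem result {R : Type u} [CommRing R] (S : Submonoid R) (A : Type u) [CommRing A] [Algebra R A] [IsLocalization S A] (hcl : IsClosed (Set.range (PrimeSpectrum.comap (algebraMap R A)))) (h : TopologicalSpace.NoetherianSpace (PrimeSpectrum R) ∨ S.FG) : ∃ (R' : Type u) (_ : CommRing R') (e : R ≃+* A × R'), ∀ x : R, (e x).1 = algebraMap R A x := by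
  classical
  let Z := Set.range (PrimeSpectrum.comap (algebraMap R A))
  have hZ : ∀ P : PrimeSpectrum R, P ∈ Z ↔ Disjoint (S : Set R) P.asIdeal := fun P => by
    simp only [Z, PrimeSpectrum.localization_comap_range A S, Set.mem_setOf_eq]
  have hgen : ∀ P Q : PrimeSpectrum R, P ≤ Q → Q ∈ Z → P ∈ Z := fun P Q hPQ hQ =>
    (hZ P).2 (((hZ Q).1 hQ).mono_right hPQ)
  have hopen : IsOpen Z := by
    rcases h with h | ⟨T, hT⟩
    · rw [← isClosed_compl_iff]
      let 𝒞 := {C ∈ irreducibleComponents (PrimeSpectrum R) | C ⊆ Zᶜ}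
      have : Zᶜ = ⋃₀ 𝒞 := by
        refine subset_antisymm (fun P hP => ?_) (Set.sUnion_subset fun C hC => hC.2)
        refine ⟨irreducibleComponent P, ⟨irreducibleComponent_mem_irreducibleComponents P, fun Q hQ hQZ => hP ?_⟩,
          mem_irreducibleComponent⟩
        obtain ⟨η, hη⟩ := QuasiSober.sober (α := PrimeSpectrum R) isIrreducible_irreducibleComponent isClosed_irreducibleComponent
        have h1 : η ∈ Z := hgen η Q ((PrimeSpectrum.le_iff_specializes η Q).2 (hη.specializes hQ)) hQZ
        exact (hη.specializes mem_irreducibleComponent).mem_closed hcl h1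
      rw [this]
      have hfin : 𝒞.Finite :=
        (TopologicalSpace.NoetherianSpace.finite_irreducibleComponents (α := PrimeSpectrum R)).subset fun C hC => hC.1
      rw [Set.sUnion_eq_biUnion]
      exact hfin.isClosed_biUnion fun C hC => isClosed_of_mem_irreducibleComponents C hC.1
    · have : Z = (PrimeSpectrum.basicOpen (∏ t ∈ T, t) : Set (PrimeSpectrum R)) := by
        ext P
        rw [hZ, SetLike.mem_coe, PrimeSpectrum.mem_basicOpen]
        constructor
        · intro hd
          exact Set.disjoint_left.1 hd (prod_mem fun t ht => hT ▸ Submonoid.subset_closure ht)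
        · intro hn
          rw [Set.disjoint_left]
          intro s hs hsP
          have hs' : s ∈ Submonoid.closure (T : Set R) := hT.symm ▸ hs
          have key : ∀ x ∈ Submonoid.closure (T : Set R), x ∉ P.asIdeal := by
            intro x hx
            induction hx using Submonoid.closure_induction with
            | mem x hx => exact fun hxP => hn (P.asIdeal.mem_of_dvd (Finset.dvd_prod_of_mem _ hx) hxP)
            | one => exact fun h1 => P.isPrime.ne_top ((Ideal.eq_top_iff_one _).2 h1)
            | mul x y _ _ hx hy => exact fun hxy => (P.isPrime.mem_or_mem hxy).elim hx hy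
          exact key s hs' hsP
      rw [this]
      exact PrimeSpectrum.isOpen_basicOpen
  obtain ⟨e, he, hZe⟩ := PrimeSpectrum.exists_idempotent_basicOpen_eq_of_isClopen ⟨hcl, hopen⟩
  have hmemZ : ∀ P : PrimeSpectrum R, e ∉ P.asIdeal → P ∈ Z := fun P hP =>
    (Set.ext_iff.1 hZe P).2 hP
  have he1 : algebraMap R A e = 1 := by
    have hu : IsUnit (algebraMap R A e) := by
      by_contra hnu
      obtain ⟨m, hm, hem⟩ := exists_max_ideal_of_mem_nonunits hnu
      exact (Set.ext_iff.1 hZe _).1 ⟨⟨m, hm.isPrime⟩, rfl⟩ hem
    exact hu.mul_left_cancel (by rw [← map_mul, he.eq, mul_one])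
  have hs : ∀ s ∈ S, ∃ t : R, e * (t * s) = e := by
    intro s hs
    have : Ideal.span {s, 1 - e} = ⊤ := by
      by_contra hne
      obtain ⟨m, hm, hle⟩ := Ideal.exists_le_maximal _ hne
      have h1 : (1 - e) ∈ m := hle (Ideal.subset_span (by simp))
      have hem : e ∉ m := fun h => hm.ne_top ((Ideal.eq_top_iff_one m).2 (by simpa using add_mem h1 h))
      exact Set.disjoint_left.1 ((hZ ⟨m, hm.isPrime⟩).1 (hmemZ _ hem)) hs (hle (Ideal.subset_span (by simp)))
    obtain ⟨t, u, htu⟩ := Ideal.mem_span_pair.1 (this ▸ Submodule.mem_top (x := (1 : R)))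
    exact ⟨t, by linear_combination e * htu + u * he.eq⟩
  let f : R →+* A × (R ⧸ Ideal.span {e}) := (algebraMap R A).prod (Ideal.Quotient.mk _)
  have hf : Function.Bijective f := by
    refine ⟨(injective_iff_map_eq_zero f).2 fun x hx => ?_, fun y => ?_⟩
    · obtain ⟨hx1, hx2⟩ := Prod.ext_iff.1 hx
      obtain ⟨⟨s, hsS⟩, hsx⟩ := (IsLocalization.map_eq_zero_iff S A x).1 hx1
      obtain ⟨t, ht⟩ := hs s hsS
      obtain ⟨c, hc⟩ := Ideal.mem_span_singleton'.1 (Ideal.Quotient.eq_zero_iff_mem.1 hx2)
      linear_combination (norm := ring_nf) (-1 : R) * hc + (-c) * he.eq + x * (-ht) + e * t * hsx + e * hc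
    · obtain ⟨a, rb⟩ := y
      obtain ⟨b, ⟨s, hsS⟩, rfl⟩ := IsLocalization.exists_mk'_eq S a
      obtain ⟨r, rfl⟩ := Ideal.Quotient.mk_surjective rb
      obtain ⟨t, ht⟩ := hs s hsS
      refine ⟨e * b * t + (1 - e) * r, Prod.ext ?_ ?_⟩
      · show algebraMap R A _ = _
        rw [IsLocalization.eq_mk'_iff_mul_eq]
        have hts : algebraMap R A t * algebraMap R A s = 1 := by
          have := congrArg (algebraMap R A) ht
          simpa [he1] using this
        simp only [map_add, map_mul, map_sub, map_one, he1, sub_self, zero_mul, add_zero, one_mul]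
        rw [mul_assoc, hts, mul_one]
      · show Ideal.Quotient.mk _ _ = _
        rw [Ideal.Quotient.eq]
        exact Ideal.mem_span_singleton'.2 ⟨b * t - r, by ring⟩
  exact ⟨R ⧸ Ideal.span {e}, inferInstance, RingEquiv.ofBijective f hf, fun x => rfl⟩

end Groth.Agent.S6274
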