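import Groth.Statements.S6275
import Mathlib.RingTheory.Noetherian.Basic
import Mathlib.RingTheory.Ideal.Maps

set_option autoImplicit false
universe u
open CAlg

namespace Groth.Agent.S6275

/-- Let R be a Noetherian ring and p ⊆ R a prime. Then there is f ∈ R, f ∉ p, such that R_f → R_p is
injective; equivalently every x ∈ R mapping to zero in R_p maps to zero in R_f. (The cases of a
domain and of a reduced ring with finitely many minimal primes are not included here.) -/
theorem result {R : Type u} [CommRing R] [IsNoetherianRing R] (p : Ideal R) [p.IsPrime] : ∃ f : R, f ∉ p ∧ ∀ x : R, algebraMap R (Localization.AtPrime p) x = 0 → algebraMap R (Localization.Away f) x = 0 := by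
  let K := RingHom.ker (algebraMap R (Localization.AtPrime p))
  obtain ⟨s, hs⟩ := IsNoetherian.noetherian K
  have hmem : ∀ x : s, ∃ t : p.primeCompl, (t : R) * x = 0 := fun x =>
    (IsLocalization.map_eq_zero_iff p.primeCompl (Localization.AtPrime p) _).1
      (show (x : R) ∈ K from hs ▸ Submodule.subset_span x.2)
  choose t ht using hmem
  refine ⟨∏ x, (t x : R), fun h => ?_, fun x hx => ?_⟩
  · obtain ⟨i, -, hi⟩ := (Ideal.IsPrime.prod_mem_iff (p := p)).1 h
    exact (t i).2 hi
  · have hle : K ≤ RingHom.ker (algebraMap R (Localization.Away (∏ x, (t x : R)))) := by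
      rw [← hs, Submodule.span_le]
      intro y hy
      rw [SetLike.mem_coe, RingHom.mem_ker, IsLocalization.map_eq_zero_iff (Submonoid.powers (∏ x, (t x : R)))]
      refine ⟨⟨_, Submonoid.mem_powers _⟩, ?_⟩
      obtain ⟨w, hw⟩ : ((t ⟨y, hy⟩ : p.primeCompl) : R) ∣ ∏ x, (t x : R) := Finset.dvd_prod_of_mem _ (Finset.mem_univ _)
      simp only
      rw [hw, mul_right_comm, ht ⟨y, hy⟩, zero_mul]
    exact hle hx

end Groth.Agent.S6275
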