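import Groth.Statements.S6277
import Mathlib.RingTheory.Noetherian.Basic
import Mathlib.RingTheory.Ideal.Maps

set_option autoImplicit false
universe u
open CAlg

namespace Groth.Agent.S6277

/-- Any surjective ring endomorphism of a Noetherian ring is an isomorphism (bijective). -/
theorem result {R : Type u} [CommRing R] [IsNoetherianRing R] (f : R →+* R) (hf : Function.Surjective f) : Function.Bijective f := by
  refine ⟨(injective_iff_map_eq_zero f).2 fun x hx => ?_, hf⟩
  have hsurj : ∀ n : ℕ, Function.Surjective ((f ^ n : R →+* R)) := by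
    intro n
    induction n with
    | zero => exact fun x => ⟨x, rfl⟩
    | succ n ih => rw [pow_succ]; exact ih.comp hf
  let K : ℕ →o Submodule R R := ⟨fun n => RingHom.ker (f ^ n), monotone_nat_of_le_succ fun n y hy => by
    rw [RingHom.mem_ker] at hy ⊢
    rw [pow_succ']
    show f ((f ^ n) y) = 0
    rw [hy, map_zero]⟩
  obtain ⟨n, hn⟩ := monotone_stabilizes_iff_noetherian.mpr ‹IsNoetherianRing R› K
  obtain ⟨y, rfl⟩ := hsurj n x
  have h1 : y ∈ K (n + 1) := by
    show y ∈ RingHom.ker (f ^ (n + 1))
    rw [RingHom.mem_ker, pow_succ']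
    exact hx
  rw [← hn (n + 1) n.le_succ] at h1
  exact h1

end Groth.Agent.S6277
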