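import Groth.Statements.S6281
import Mathlib.RingTheory.Flat.FaithfullyFlat.Algebra

set_option autoImplicit false
universe u
open CAlg

namespace Groth.Agent.S6281

open TensorProduct in
theorem flat_of_flat {R S : Type u} [CommRing R] [CommRing S] [Algebra R S] (M : Type u) [AddCommGroup M] [Module S M] [Module R M] [IsScalarTower R S M] [Module.Flat R M] [Module.FaithfullyFlat S M] : Module.Flat R S := by
  refine Module.Flat.iff_lTensor_preserves_injective_linearMap.2 fun N N' _ _ _ _ f hf => ?_
  have h1 : Function.Injective (LinearMap.lTensor M f) := Module.Flat.lTensor_preserves_injective_linearMap f hf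
  let g : S ⊗[R] N →ₗ[S] S ⊗[R] N' := TensorProduct.AlgebraTensorModule.lTensor S S f
  refine (Module.FaithfullyFlat.lTensor_injective_iff_injective S M g).1 ?_
  have key : ∀ z, AlgebraTensorModule.cancelBaseChange R S S M N' (LinearMap.lTensor M g z) =
      LinearMap.lTensor M f (AlgebraTensorModule.cancelBaseChange R S S M N z) := by
    intro z
    induction z with
    | zero => simp
    | add a b ha hb => simp [ha, hb]
    | tmul m w =>
      induction w with
      | zero => simp
      | add a b ha hb => simp only [tmul_add, map_add, ha, hb]
      | tmul s n => simp [g]
  intro a b hab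
  apply (AlgebraTensorModule.cancelBaseChange R S S M N).injective
  apply h1
  rw [← key, ← key, hab]



/-- For an R-algebra S and an S-module M, flatness of S over R follows once M is both flat over R and
faithfully flat over S. -/
theorem result {R S : Type u} [CommRing R] [CommRing S] [Algebra R S] (M : Type u) [AddCommGroup M] [Module S M] [Module R M] [IsScalarTower R S M] [Module.Flat R M] [Module.FaithfullyFlat S M] : Module.Flat R S := by
  exact flat_of_flat (S := S) M

end Groth.Agent.S6281
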