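import Groth.Statements.S6282
import Mathlib.RingTheory.Flat.FaithfullyFlat.Algebra

set_option autoImplicit false
universe u
open scoped TensorProduct
open CAlg

namespace Groth.Agent.S6282

open TensorProduct in
theorem both {R S S' : Type u} [CommRing R] [CommRing S] [CommRing S'] [Algebra R S] [Algebra R S'] [Algebra S S'] [IsScalarTower R S S'] (M : Type u) [AddCommGroup M] [Module S M] [Module R M] [IsScalarTower R S M] : ([Module.Flat S S'] → Module.Flat R M → Module.Flat R (S' ⊗[S] M)) ∧ ([Module.FaithfullyFlat S S'] → (Module.Flat R M ↔ Module.Flat R (S' ⊗[S] M))) := by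
  have key : ∀ (N N' : Type u) [AddCommGroup N] [AddCommGroup N'] [Module R N] [Module R N'] (f : N →ₗ[R] N'),
      Function.Injective (f.lTensor (S' ⊗[S] M)) ↔
        Function.Injective ((AlgebraTensorModule.lTensor S M f).lTensor S') := by
    intro N N' _ _ _ _ f
    let e := (AlgebraTensorModule.assoc R S S S' M N)
    let e' := (AlgebraTensorModule.assoc R S S S' M N')
    have h : ∀ z, (AlgebraTensorModule.lTensor S M f).lTensor S' (e z) = e' (f.lTensor (S' ⊗[S] M) z) := by
      intro z
      induction z with
      | zero => simp
      | add a b ha hb => simp [ha, hb]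
      | tmul w n =>
        induction w with
        | zero => simp
        | add a b ha hb => simp only [add_tmul, map_add, ha, hb]
        | tmul s m => simp [e, e']
    refine ⟨fun hi a b hab => ?_, fun hi a b hab => e.injective (hi ?_)⟩
    · obtain ⟨a, rfl⟩ := e.surjective a
      obtain ⟨b, rfl⟩ := e.surjective b
      rw [h, h] at hab
      rw [hi (e'.injective hab)]
    · rw [h, h, hab]
  have fwd : ∀ [Module.Flat S S'], Module.Flat R M → Module.Flat R (S' ⊗[S] M) := by
    intro _ hM
    refine Module.Flat.iff_lTensor_preserves_injective_linearMap.2 fun N N' _ _ _ _ f hf => ?_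
    exact (key N N' f).2 (Module.Flat.lTensor_preserves_injective_linearMap _
      (Module.Flat.lTensor_preserves_injective_linearMap f hf))
  refine ⟨fwd, fun {_} => ⟨fwd, fun h => ?_⟩⟩
  refine Module.Flat.iff_lTensor_preserves_injective_linearMap.2 fun N N' _ _ _ _ f hf => ?_
  exact (Module.FaithfullyFlat.lTensor_injective_iff_injective S S' (AlgebraTensorModule.lTensor S M f)).1
    ((key N N' f).1 (Module.Flat.lTensor_preserves_injective_linearMap f hf))



/-- Let S → S' be a homomorphism of R-algebras, M an S-module, and M' = S' ⊗_S M with its induced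
R-module structure. (1) When S' is flat over S, R-flatness of M passes to M'. (2) When S' is
faithfully flat over S, M is R-flat exactly when M' is. -/
theorem result {R S S' : Type u} [CommRing R] [CommRing S] [CommRing S'] [Algebra R S] [Algebra R S'] [Algebra S S'] [IsScalarTower R S S'] (M : Type u) [AddCommGroup M] [Module S M] [Module R M] [IsScalarTower R S M] : ([Module.Flat S S'] → Module.Flat R M → Module.Flat R (S' ⊗[S] M)) ∧ ([Module.FaithfullyFlat S S'] → (Module.Flat R M ↔ Module.Flat R (S' ⊗[S] M))) := by
  exact both M

end Groth.Agent.S6282
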