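import Groth.Statements.S6283
import Mathlib.RingTheory.Flat.Basic
import Mathlib.LinearAlgebra.TensorProduct.Pi

set_option autoImplicit false
universe u
open scoped TensorProduct
open CAlg

namespace Groth.Agent.S6283

open TensorProduct in
theorem single_eq {R S : Type u} [CommRing R] [CommRing S] [Algebra R S] [Module.Flat R S] {M : Type u}
    [AddCommGroup M] [Module R M] (m : M) :
    ((Submodule.span R {m}).annihilator).map (algebraMap R S) =
      (Submodule.span S {(1 : S) ⊗ₜ[R] m}).annihilator := by
  refine le_antisymm ?_ fun s hs => ?_
  · rw [Ideal.map_le_iff_le_comap]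
    intro r hr
    rw [Ideal.mem_comap, Submodule.mem_annihilator_span_singleton, algebraMap_smul, ← tmul_smul,
      (Submodule.mem_annihilator_span_singleton _ _).1 hr, tmul_zero]
  · rw [Submodule.mem_annihilator_span_singleton, smul_tmul', smul_eq_mul, mul_one] at hs
    let I := (Submodule.span R {m}).annihilator
    let f := LinearMap.toSpanSingleton R M m
    have hex : Function.Exact I.subtype f := fun r => by
      refine ⟨fun h => ⟨⟨r, (Submodule.mem_annihilator_span_singleton _ _).2 h⟩, rfl⟩, ?_⟩
      rintro ⟨x, rfl⟩
      exact (Submodule.mem_annihilator_span_singleton _ _).1 x.2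
    obtain ⟨w, hw⟩ := (Module.Flat.lTensor_exact S hex (s ⊗ₜ[R] (1 : R))).1 (by simp [f, hs])
    have : ∀ w : S ⊗[R] I, TensorProduct.rid R S (I.subtype.lTensor S w) ∈ I.map (algebraMap R S) := by
      intro w
      induction w with
      | zero => simp
      | add a b ha hb => simp only [map_add]; exact add_mem ha hb
      | tmul a b =>
        simp only [LinearMap.lTensor_tmul, Submodule.subtype_apply, TensorProduct.rid_tmul, Algebra.smul_def]
        exact Ideal.mul_mem_right _ _ (Ideal.mem_map_of_mem _ b.2)
    have h2 := this w
    rw [hw, TensorProduct.rid_tmul, one_smul] at h2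
    exact h2



/-- Let R → S be a flat ring map, M an R-module and m ∈ M. Then Ann_R(m)S = Ann_S(1 ⊗ m), the
annihilator in S of the element 1 ⊗ m of S ⊗_R M. If moreover M is a finite R-module then Ann_R(M)S
= Ann_S(S ⊗_R M). -/
theorem result {R S : Type u} [CommRing R] [CommRing S] [Algebra R S] [Module.Flat R S] (M : Type u) [AddCommGroup M] [Module R M] : (∀ m : M, ((Submodule.span R {m}).annihilator).map (algebraMap R S) = (Submodule.span S {(1 : S) ⊗ₜ[R] m}).annihilator) ∧ (Module.Finite R M → (Module.annihilator R M).map (algebraMap R S) = Module.annihilator S (S ⊗[R] M)) := by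
  refine ⟨single_eq, fun hM => ?_⟩
  obtain ⟨n, g, hg⟩ := Module.Finite.exists_fin (R := R) (M := M)
  have e1 : Module.annihilator R M = (Submodule.span R {g}).annihilator := by
    refine le_antisymm (fun r hr => ?_) fun r hr => ?_
    · rw [Submodule.mem_annihilator_span_singleton]
      exact funext fun i => Module.mem_annihilator.1 hr (g i)
    · rw [Submodule.mem_annihilator_span_singleton] at hr
      refine Module.mem_annihilator.2 fun m => ?_
      have : m ∈ LinearMap.ker (LinearMap.lsmul R M r) :=
        (Submodule.span_le.2 (Set.range_subset_iff.2 fun i => congrFun hr i) :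
          Submodule.span R (Set.range g) ≤ LinearMap.ker (LinearMap.lsmul R M r)) (hg ▸ Submodule.mem_top)
      exact this
  rw [e1, single_eq]
  refine le_antisymm (fun s hs => ?_) fun s hs => ?_
  · rw [Submodule.mem_annihilator_span_singleton] at hs
    refine Module.mem_annihilator.2 fun z => ?_
    induction z with
    | zero => simp
    | add a b ha hb => rw [smul_add, ha, hb, add_zero]
    | tmul a m =>
      obtain ⟨c, rfl⟩ := (Submodule.mem_span_range_iff_exists_fun R).1 (hg ▸ Submodule.mem_top : m ∈ Submodule.span R (Set.range g))
      rw [TensorProduct.tmul_sum, Finset.smul_sum]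
      refine Finset.sum_eq_zero fun i _ => ?_
      have h := congrArg ((LinearMap.proj i).baseChange S) hs
      simp only [map_smul, map_zero, LinearMap.baseChange_tmul, LinearMap.proj_apply] at h
      have h2 : a ⊗ₜ[R] (c i • g i) = (c i • a) • ((1 : S) ⊗ₜ[R] g i) := by
        rw [TensorProduct.smul_tmul', smul_eq_mul, mul_one, TensorProduct.smul_tmul]
      rw [h2, smul_comm, h, smul_zero]
  · rw [Submodule.mem_annihilator_span_singleton]
    refine (TensorProduct.piRight R S S fun _ : Fin n => M).injective (funext fun i => ?_)
    simp only [map_smul, map_zero, TensorProduct.piRight_apply, TensorProduct.piRightHom_tmul, Pi.smul_apply, Pi.zero_apply]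
    exact Module.mem_annihilator.1 hs _

end Groth.Agent.S6283
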