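import Groth.Statements.S6284
import Mathlib.RingTheory.LocalRing.Module
import Mathlib.LinearAlgebra.TensorProduct.Tower
import Mathlib.RingTheory.Finiteness.Basic
import Mathlib.LinearAlgebra.Dimension.Free

set_option autoImplicit false
universe u
open scoped TensorProduct
open CAlg

namespace Groth.Agent.S6284

/-- Let R → R' be a ring map and M a finite R-module. Then the support of R' ⊗_R M is the inverse image
of the support of M under Spec(R') → Spec(R). -/
theorem result {R R' : Type u} [CommRing R] [CommRing R'] [Algebra R R'] (M : Type u) [AddCommGroup M] [Module R M] [Module.Finite R M] : Module.support R' (R' ⊗[R] M) = PrimeSpectrum.comap (algebraMap R R') ⁻¹' Module.support R M := by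
  ext q
  let p := PrimeSpectrum.comap (algebraMap R R') q
  have : q.asIdeal.LiesOver p.asIdeal := ⟨rfl⟩
  letI := (Ideal.ResidueField.mapₐ p.asIdeal q.asIdeal (Algebra.ofId R R') (q.asIdeal.over_def p.asIdeal)).toAlgebra
  haveI : IsScalarTower R p.asIdeal.ResidueField q.asIdeal.ResidueField := .of_algHom _
  rw [Set.mem_preimage, Module.mem_support_iff_nontrivial_residueField_tensorProduct,
    Module.mem_support_iff_nontrivial_residueField_tensorProduct,
    (TensorProduct.AlgebraTensorModule.cancelBaseChange R R' R' q.asIdeal.ResidueField M).nontrivial_congr,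
    ← (TensorProduct.AlgebraTensorModule.cancelBaseChange R p.asIdeal.ResidueField
      p.asIdeal.ResidueField q.asIdeal.ResidueField M).nontrivial_congr]
  constructor
  · intro h
    by_contra hc
    rw [not_nontrivial_iff_subsingleton] at hc
    exact not_subsingleton (q.asIdeal.ResidueField ⊗[p.asIdeal.ResidueField] (p.asIdeal.ResidueField ⊗[R] M)) inferInstance
  · intro h
    exact (TensorProduct.nontrivial_of_linearMap_injective_of_flat_left p.asIdeal.ResidueField q.asIdeal.ResidueField _ 
      (LinearMap.toSpanSingleton _ _ (exists_ne (0 : p.asIdeal.ResidueField ⊗[R] M)).choose)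
      (smul_left_injective _ (exists_ne (0 : p.asIdeal.ResidueField ⊗[R] M)).choose_spec))

end Groth.Agent.S6284
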