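import Groth.Statements.S6285
import Groth.Agent.Lib.Fitting.More
import Mathlib.RingTheory.Spectrum.Prime.Module

set_option autoImplicit false
universe u
open CAlg

namespace Groth.Agent.S6285

/-- For a ring R and an R-module M of finite presentation, the support Supp(M) is closed in Spec(R), and
its complement in Spec(R) is quasi-compact. -/
theorem result (R : Type u) [CommRing R] (M : Type u) [AddCommGroup M] [Module R M] [Module.FinitePresentation R M] : IsClosed (Module.support R M) ∧ IsCompact (Module.support R M)ᶜ := by
  refine ⟨Module.isClosed_support, ?_⟩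
  obtain ⟨s, hs⟩ := Groth.Agent.FittingLib.ideal_fg (R := R) (M := M) 0
  rw [Module.support_eq_zeroLocus, ← Groth.Agent.FittingLib.zeroLocus_ideal_zero (R := R) (M := M)]
  exact (PrimeSpectrum.isCompact_isOpen_iff_ideal.2
    ⟨Fitt.ideal R M 0, ⟨s, hs⟩, rfl⟩).1

end Groth.Agent.S6285
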