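import Groth.Statements.S6286
import Mathlib.RingTheory.Flat.Basic
import Mathlib.LinearAlgebra.Basis.VectorSpace
import Mathlib.RingTheory.LocalRing.ResidueField.Ideal
import Mathlib.RingTheory.Nilpotent.Lemmas

set_option autoImplicit false
universe u
open scoped TensorProduct
open CAlg

namespace Groth.Agent.S6286

/-- Let k be a field, R and S k-algebras, S' ⊆ S a k-subalgebra and f ∈ R ⊗ₖ S', with image f again in R
⊗ₖ S. Then the images in Spec(R) of Spec((R ⊗ₖ S)_f) and of Spec((R ⊗ₖ S')_f) coincide: a prime p of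
R is the contraction of a prime of R ⊗ₖ S not containing f if and only if it is the contraction of a
prime of R ⊗ₖ S' not containing f. -/
theorem result (k : Type u) [Field k] (R S : Type u) [CommRing R] [Algebra k R] [CommRing S] [Algebra k S] (S' : Subalgebra k S) (f : R ⊗[k] S') (p : PrimeSpectrum R) : (∃ q : PrimeSpectrum (R ⊗[k] S), Algebra.TensorProduct.map (AlgHom.id k R) S'.val f ∉ q.asIdeal ∧ q.asIdeal.comap (algebraMap R (R ⊗[k] S)) = p.asIdeal) ↔ (∃ q' : PrimeSpectrum (R ⊗[k] S'), f ∉ q'.asIdeal ∧ q'.asIdeal.comap (algebraMap R (R ⊗[k] S')) = p.asIdeal) := by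
  constructor
  · rintro ⟨q, hf, hq⟩
    refine ⟨⟨q.asIdeal.comap (Algebra.TensorProduct.map (AlgHom.id k R) S'.val).toRingHom, Ideal.IsPrime.comap _⟩, hf, ?_⟩
    rw [← hq, Ideal.comap_comap]
    congr 1
  · rintro ⟨q', hf, hq⟩
    let κ := p.asIdeal.ResidueField
    let L := q'.asIdeal.ResidueField
    let j : R →ₐ[k] κ := IsScalarTower.toAlgHom k R κ
    let ev : R ⊗[k] S' →ₐ[k] L := IsScalarTower.toAlgHom k _ L
    let iR : R →ₐ[k] R ⊗[k] S' := Algebra.TensorProduct.includeLeft
    let iS : S' →ₐ[k] R ⊗[k] S' := Algebra.TensorProduct.includeRight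
    have hcomap : p.asIdeal = q'.asIdeal.comap iR.toRingHom := hq.symm
    let κL : κ →ₐ[k] L :=
      { Ideal.ResidueField.map p.asIdeal q'.asIdeal iR.toRingHom hcomap with
        commutes' := fun c => by
          change Ideal.ResidueField.map p.asIdeal q'.asIdeal iR.toRingHom hcomap (algebraMap k κ c) = algebraMap k L c
          rw [IsScalarTower.algebraMap_apply k R κ, Ideal.ResidueField.map_algebraMap,
            IsScalarTower.algebraMap_apply k (R ⊗[k] S') L]
          congr 1 }
    let ψ : κ ⊗[k] S' →ₐ[k] L := Algebra.TensorProduct.lift κL (ev.comp iS) fun _ _ => Commute.all _ _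
    have hψ : ψ.comp (Algebra.TensorProduct.map j (AlgHom.id k S')) = ev := by
      refine Algebra.TensorProduct.ext (AlgHom.ext fun r => ?_) (AlgHom.ext fun s => ?_)
      · simp [ψ, κL, j, ev, iR]
        exact Ideal.ResidueField.map_algebraMap _ _ _ hcomap r
      · simp [ψ, ev, iS]
    have hnn : ¬ IsNilpotent (Algebra.TensorProduct.map j (AlgHom.id k S') f) := by
      intro h
      have h2 := h.map ψ
      rw [← AlgHom.comp_apply, hψ, isNilpotent_iff_eq_zero] at h2
      exact hf (Ideal.algebraMap_residueField_eq_zero.1 h2)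
    let i : κ ⊗[k] S' →ₐ[k] κ ⊗[k] S := Algebra.TensorProduct.map (AlgHom.id k κ) S'.val
    have hi : Function.Injective i :=
      Module.Flat.lTensor_preserves_injective_linearMap S'.val.toLinearMap Subtype.val_injective
    have hcomm : (Algebra.TensorProduct.map j (AlgHom.id k S)) (Algebra.TensorProduct.map (AlgHom.id k R) S'.val f) =
        i (Algebra.TensorProduct.map j (AlgHom.id k S') f) := by
      rw [← AlgHom.comp_apply, ← AlgHom.comp_apply, ← Algebra.TensorProduct.map_comp, ← Algebra.TensorProduct.map_comp]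
      rfl
    have hnn2 : ¬ IsNilpotent (Algebra.TensorProduct.map j (AlgHom.id k S) (Algebra.TensorProduct.map (AlgHom.id k R) S'.val f)) := by
      rw [hcomm, IsNilpotent.map_iff hi]
      exact hnn
    rw [nilpotent_iff_mem_prime] at hnn2
    push Not at hnn2
    obtain ⟨Q, hQ, hfQ⟩ := hnn2
    refine ⟨⟨Q.comap (Algebra.TensorProduct.map j (AlgHom.id k S)).toRingHom, Ideal.IsPrime.comap _⟩, hfQ, ?_⟩
    rw [Ideal.comap_comap]
    have : (Algebra.TensorProduct.map j (AlgHom.id k S)).toRingHom.comp (algebraMap R (R ⊗[k] S)) =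
        (algebraMap κ (κ ⊗[k] S)).comp (algebraMap R κ) :=
      RingHom.ext fun r => by simp [Algebra.TensorProduct.algebraMap_apply, j]
    have hp := Ideal.IsPrime.comap (algebraMap κ (κ ⊗[k] S)) (K := Q)
    rw [this, ← Ideal.comap_comap, (Q.comap (algebraMap κ (κ ⊗[k] S))).eq_bot_of_prime, ← RingHom.ker_eq_comap_bot]
    exact Ideal.ker_algebraMap_residueField p.asIdeal

end Groth.Agent.S6286
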