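import Groth.Statements.S6287
import Mathlib.Algebra.Colimit.Ring
import Mathlib.RingTheory.Valuation.ValuationRing

set_option autoImplicit false
universe u
open CAlg

namespace Groth.Agent.S6287

/-- Let (A_i) be a directed system of valuation rings. Then the colimit A = colim A_i is a valuation
ring (in particular a domain). -/
theorem result {ι : Type u} [Preorder ι] [Nonempty ι] [IsDirected ι (· ≤ ·)] (G : ι → Type u) [∀ i, CommRing (G i)] [∀ i, IsDomain (G i)] [∀ i, ValuationRing (G i)] (f : ∀ i j, i ≤ j → G i →+* G j) [DirectedSystem G fun i j h => f i j h] : ∃ _ : IsDomain (Ring.DirectLimit G fun i j h => f i j h), ValuationRing (Ring.DirectLimit G fun i j h => f i j h) := by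
  classical
  let of := fun i => Ring.DirectLimit.of G (fun i j h => ⇑(f i j h)) i
  have hzero : ∀ i (v : G i), of i v = 0 → ∃ (j : ι) (h : i ≤ j), f i j h v = 0 := fun i v h =>
    Ring.DirectLimit.of.zero_exact h
  have hpair : ∀ a b, ∃ (k : ι) (x y : G k), a = of k x ∧ b = of k y := by
    intro a b
    obtain ⟨i, x, rfl⟩ := Ring.DirectLimit.exists_of a
    obtain ⟨j, y, rfl⟩ := Ring.DirectLimit.exists_of b
    obtain ⟨k, hik, hjk⟩ := exists_ge_ge i j
    exact ⟨k, f i k hik x, f j k hjk y, (Ring.DirectLimit.of_f hik x).symm, (Ring.DirectLimit.of_f hjk y).symm⟩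
  have hnt : Nontrivial (Ring.DirectLimit G fun i j h => f i j h) := by
    obtain ⟨i⟩ := ‹Nonempty ι›
    refine ⟨⟨1, 0, fun h => ?_⟩⟩
    obtain ⟨j, hij, hj⟩ := hzero i 1 ((map_one (of i)).trans h)
    rw [map_one] at hj
    exact one_ne_zero hj
  have hnzd : NoZeroDivisors (Ring.DirectLimit G fun i j h => f i j h) := by
    refine ⟨fun {a b} hab => ?_⟩
    obtain ⟨k, x, y, rfl, rfl⟩ := hpair a b
    rw [← map_mul] at hab
    obtain ⟨j, hkj, hj⟩ := hzero k _ hab
    rw [map_mul, mul_eq_zero] at hj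
    rcases hj with h | h
    · exact Or.inl (by simp [of, ← Ring.DirectLimit.of_f (f := fun i j h => ⇑(f i j h)) hkj x, h])
    · exact Or.inr (by simp [of, ← Ring.DirectLimit.of_f (f := fun i j h => ⇑(f i j h)) hkj y, h])
  have hdom : IsDomain (Ring.DirectLimit G fun i j h => f i j h) := NoZeroDivisors.to_isDomain _
  refine ⟨hdom, ValuationRing.iff_dvd_total.2 ⟨fun a b => ?_⟩⟩
  obtain ⟨k, x, y, rfl, rfl⟩ := hpair a b
  exact ((ValuationRing.iff_dvd_total.1 inferInstance).total x y).imp (map_dvd (of k)) (map_dvd (of k))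

end Groth.Agent.S6287
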