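import Groth.Statements.S6288
import Mathlib.RingTheory.Valuation.ValuationSubring
import Mathlib.RingTheory.IntegralClosure.IntegrallyClosed
import Mathlib.RingTheory.Valuation.LocalSubring
import Mathlib.RingTheory.Algebraic.Integral

set_option autoImplicit false
universe u
open CAlg

namespace Groth.Agent.S6288

/-- Let L/K be an algebraic extension of fields and B ⊆ L a valuation ring with fraction field L which
is not a field. Then A = K ∩ B is a valuation ring of K (automatic) which is again not a field, i.e.
A ≠ K. -/
theorem result (K L : Type u) [Field K] [Field L] [Algebra K L] [Algebra.IsAlgebraic K L] (B : ValuationSubring L) (hB : B ≠ ⊤) : B.comap (algebraMap K L) ≠ ⊤ := by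
  intro h
  refine hB (eq_top_iff.2 fun x _ => ?_)
  have hle : ∀ c : K, algebraMap K L c ∈ B := fun c => by
    have : c ∈ B.comap (algebraMap K L) := h ▸ trivial
    exact this
  let ι : K →+* B := (algebraMap K L).codRestrict B.toSubring hle
  obtain ⟨p, hp, hpx⟩ := (Algebra.IsAlgebraic.isAlgebraic (R := K) x).isIntegral
  have hintB : IsIntegral B x := ⟨p.map ι, hp.map ι, by rw [Polynomial.eval₂_map]; exact hpx⟩
  obtain ⟨y, hy⟩ := (isIntegrallyClosed_iff L).1 inferInstance hintB
  exact hy ▸ y.2

end Groth.Agent.S6288
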