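import Groth.Statements.S6289
import Mathlib.RingTheory.Valuation.ValuationRing
import Mathlib.RingTheory.Valuation.ValuationSubring

set_option autoImplicit false
universe u
open CAlg

namespace Groth.Agent.S6289

/-- Let A' be a valuation ring with residue field K and A ⊆ K a valuation ring with fraction field K.
Then the subring C of A' consisting of the elements whose residue class lies in A is a valuation
ring. -/
theorem result (A' : Type u) [CommRing A'] [IsDomain A'] [ValuationRing A'] (A : ValuationSubring (IsLocalRing.ResidueField A')) : ValuationRing (A.toSubring.comap (IsLocalRing.residue A')) := by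
  classical
  refine ValuationRing.iff_dvd_total.2 ⟨fun x y => ?_⟩
  have key : ∀ u v : A.toSubring.comap (IsLocalRing.residue A'), (u : A') ∣ v → u ∣ v ∨ v ∣ u := by
    rintro u v ⟨c, hc⟩
    by_cases hcA : IsLocalRing.residue A' c ∈ A
    · exact Or.inl ⟨⟨c, hcA⟩, Subtype.ext hc⟩
    · have hu : IsUnit c := by
        by_contra h
        exact hcA ((IsLocalRing.residue_eq_zero_iff c).2 h ▸ A.zero_mem)
      obtain ⟨w, hw⟩ := hu.exists_right_inv
      have hwA : IsLocalRing.residue A' w ∈ A := by
        have : IsLocalRing.residue A' w = (IsLocalRing.residue A' c)⁻¹ :=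
          eq_inv_of_mul_eq_one_right (by rw [← map_mul, hw, map_one])
        rw [this]
        exact (A.mem_or_inv_mem _).resolve_left hcA
      refine Or.inr ⟨⟨w, hwA⟩, Subtype.ext ?_⟩
      change (u : A') = v * w
      rw [hc, mul_assoc, hw, mul_one]
  rcases (ValuationRing.iff_dvd_total.1 inferInstance).total (x : A') y with h | h
  · exact key x y h
  · exact (key y x h).symm

end Groth.Agent.S6289
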