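import Groth.Statements.S6290
import Mathlib.RingTheory.Filtration

set_option autoImplicit false
universe u
open CAlg

namespace Groth.Agent.S6290

/-- Let R be a Noetherian ring, I ⊆ R an ideal, M a finite R-module and N = ⋂ₙ IⁿM. Then for every prime
p ⊇ I there is f ∈ R, f ∉ p, with N_f = 0, i.e. every element of N is annihilated by some power of
f. -/
theorem result {R : Type u} [CommRing R] [IsNoetherianRing R] (I : Ideal R) (M : Type u) [AddCommGroup M] [Module R M] [Module.Finite R M] (p : Ideal R) [p.IsPrime] (hIp : I ≤ p) : ∃ f : R, f ∉ p ∧ ∀ x ∈ (⨅ n : ℕ, I ^ n • (⊤ : Submodule R M)), ∃ k : ℕ, f ^ k • x = 0 := by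
  classical
  obtain ⟨T, hT⟩ := IsNoetherian.noetherian (⨅ n : ℕ, I ^ n • (⊤ : Submodule R M))
  choose r hr using fun x : T => (Ideal.mem_iInf_smul_pow_eq_bot_iff I x.1).1 (hT ▸ Submodule.subset_span x.2)
  refine ⟨∏ x : T, (1 - (r x : R)), fun h => ?_, fun x hx => ⟨1, ?_⟩⟩
  · obtain ⟨x, -, hx⟩ := (Ideal.IsPrime.prod_mem_iff (p := p)).1 h
    exact (inferInstance : p.IsPrime).ne_top ((Ideal.eq_top_iff_one _).2 (by simpa using p.add_mem hx (hIp (r x).2)))
  · rw [pow_one]
    have hle : Submodule.span R (T : Set M) ≤ LinearMap.ker (LinearMap.lsmul R M (∏ x : T, (1 - (r x : R)))) := by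
      rw [Submodule.span_le]
      intro y hy
      change (∏ x : T, (1 - (r x : R))) • y = 0
      rw [← Finset.prod_erase_mul Finset.univ _ (Finset.mem_univ ⟨y, hy⟩), mul_smul, sub_smul, one_smul,
        hr ⟨y, hy⟩, sub_self, smul_zero]
    exact hle (hT.symm ▸ hx)

end Groth.Agent.S6290
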