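import Groth.Statements.S6292
import Mathlib.RingTheory.Finiteness.Ideal
import Mathlib.RingTheory.Artinian.Module
import Mathlib.RingTheory.Ideal.Quotient.Operations
import Mathlib.RingTheory.Finiteness.Quotient
import Mathlib.Algebra.Module.Torsion.Basic

set_option autoImplicit false
universe u
open CAlg

namespace Groth.Agent.S6292

/-- Let R be a ring and m ⊆ R a finitely generated maximal ideal (for instance R Noetherian). If M is a
finite R-module with mⁿM = 0 for some n, then M has finite length. -/
theorem result {R : Type u} [CommRing R] (m : Ideal R) [m.IsMaximal] (hm : m.FG) (M : Type u) [AddCommGroup M] [Module R M] [Module.Finite R M] (n : ℕ) (hn : m ^ n • (⊤ : Submodule R M) = ⊥) : IsFiniteLength R M := by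
  rw [isFiniteLength_iff_isNoetherian_isArtinian]
  induction n generalizing M with
  | zero =>
    rw [pow_zero, Ideal.one_eq_top, Submodule.top_smul] at hn
    have : Subsingleton M := Submodule.subsingleton_iff R |>.1 (subsingleton_of_bot_eq_top hn.symm)
    exact ⟨inferInstance, inferInstance⟩
  | succ n ih =>
    let N : Submodule R M := m • ⊤
    have hfg : N.FG := Submodule.FG.smul hm Module.Finite.fg_top
    have : Module.Finite R N := Module.Finite.iff_fg.2 hfg
    have hN : m ^ n • (⊤ : Submodule R N) = ⊥ := by
      refine Submodule.map_injective_of_injective N.injective_subtype ?_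
      rw [Submodule.map_smul'', Submodule.map_bot, Submodule.map_top, Submodule.range_subtype]
      show m ^ n • (m • (⊤ : Submodule R M)) = ⊥
      rw [← Submodule.smul_assoc, smul_eq_mul, ← pow_succ]
      exact hn
    obtain ⟨h1, h2⟩ := ih N hN
    let : Field (R ⧸ m) := Ideal.Quotient.field m
    have htor : Module.IsTorsionBySet R (M ⧸ N) m := by
      intro x a
      obtain ⟨y, rfl⟩ := Submodule.mkQ_surjective N x
      rw [← map_smul]
      exact (Submodule.Quotient.mk_eq_zero N).2 (Submodule.smul_mem_smul a.2 trivial)
    letI := htor.module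
    haveI : IsScalarTower R (R ⧸ m) (M ⧸ N) := htor.isScalarTower
    haveI : Module.Finite (R ⧸ m) (M ⧸ N) := Module.Finite.of_restrictScalars_finite R _ _
    have hAr : IsArtinian R (M ⧸ N) := isArtinian_of_surjective_algebraMap (R := R ⧸ m) (S := R) Ideal.Quotient.mk_surjective
    have hNo : IsNoetherian R (M ⧸ N) := by
      refine isNoetherian_iff'.2 (OrderEmbedding.wellFoundedGT (β := Submodule (R ⧸ m) (M ⧸ N)) ⟨⟨fun P =>
        { toAddSubmonoid := P.toAddSubmonoid, smul_mem' := fun c x hx => ?_ }, fun P Q h => ?_⟩, Iff.rfl⟩)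
      · obtain ⟨r, rfl⟩ := Ideal.Quotient.mk_surjective c
        exact P.smul_mem r hx
      · rwa [Submodule.ext_iff] at h ⊢
    exact ⟨(isNoetherian_iff_submodule_quotient N).2 ⟨h1, hNo⟩, (isArtinian_iff_submodule_quotient N).2 ⟨h2, hAr⟩⟩

end Groth.Agent.S6292
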