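import Groth.Statements.S6294
import Mathlib.RingTheory.Localization.AtPrime.Basic
import Mathlib.RingTheory.Ideal.MinimalPrime.Localization

set_option autoImplicit false
universe u
open CAlg

namespace Groth.Agent.S6294

/-- Let R be a ring with finitely many minimal primes q₁, …, q_t, and assume that the zerodivisors of R
are precisely the elements of q₁ ∪ … ∪ q_t. Then Q(R), the total ring of fractions of R, equals
R_{q₁} × … × R_{q_t}: the diagonal map R → ∏ R_{q_i} is a localization of R at its non-zerodivisors. -/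
theorem result {R : Type u} [CommRing R] {ι : Type} [Fintype ι] (q : ι → Ideal R) [∀ i, (q i).IsPrime] (hinj : Function.Injective q) (hmin : ∀ P : Ideal R, P ∈ minimalPrimes R ↔ P ∈ Set.range q) (hzd : ∀ x : R, x ∈ nonZeroDivisors R ↔ ∀ i, x ∉ q i) : IsLocalization (nonZeroDivisors R) (∀ i, Localization.AtPrime (q i)) := by
  classical
  have hcompl : ∀ (i : ι) (x : R), x ∈ q i → ∃ (N : ℕ) (s : R), s ∉ q i ∧ s * x ^ N = 0 := by
    intro i x hx
    have hnil : IsNilpotent (algebraMap R (Localization.AtPrime (q i)) x) := by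
      rw [nilpotent_iff_mem_prime]
      intro P hP
      have hc : P.comap (algebraMap R (Localization.AtPrime (q i))) ≤ q i := by
        intro y hy
        by_contra hyi
        exact hP.ne_top (Ideal.eq_top_of_isUnit_mem _ hy (IsLocalization.map_units _ (⟨y, hyi⟩ : (q i).primeCompl)))
      exact ((hmin (q i)).2 ⟨i, rfl⟩).2 ⟨inferInstance, bot_le⟩ hc hx
    obtain ⟨N, hN⟩ := hnil
    rw [← map_pow, IsLocalization.map_eq_zero_iff (q i).primeCompl] at hN
    obtain ⟨⟨s, hs⟩, hs0⟩ := hN
    exact ⟨N, s, hs, hs0⟩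
  have hne : ∀ i j, j ≠ i → ∃ x, x ∉ q i ∧ algebraMap R (Localization.AtPrime (q j)) x = 0 := by
    intro i j hji
    obtain ⟨x, hxj, hxi⟩ := Set.not_subset.1 (fun h : (q j : Set R) ⊆ q i =>
      hji (hinj (le_antisymm h (((hmin (q i)).2 ⟨i, rfl⟩).2 ⟨inferInstance, bot_le⟩ h))))
    obtain ⟨N, s, hs, hs0⟩ := hcompl j x hxj
    exact ⟨x ^ N, fun h => hxi ((inferInstance : (q i).IsPrime).mem_of_pow_mem N h),
      (IsLocalization.map_eq_zero_iff (q j).primeCompl _ _).2 ⟨⟨s, hs⟩, hs0⟩⟩
  have he : ∀ i, ∃ e, e ∉ q i ∧ ∀ j, j ≠ i → algebraMap R (Localization.AtPrime (q j)) e = 0 := by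
    intro i
    choose x hx1 hx2 using hne i
    refine ⟨∏ j : {j // j ≠ i}, x j.1 j.2, fun h => ?_, fun j hj => ?_⟩
    · obtain ⟨j, -, hj⟩ := (Ideal.IsPrime.prod_mem_iff (p := q i)).1 h
      exact hx1 _ _ hj
    · rw [map_prod]
      exact Finset.prod_eq_zero (Finset.mem_univ ⟨j, hj⟩) (hx2 j hj)
  choose e he1 he2 using he
  have happ : ∀ (i : ι) (x : R),
      algebraMap R (∀ i, Localization.AtPrime (q i)) x i = algebraMap R (Localization.AtPrime (q i)) x := fun _ _ => rfl
  refine { map_units := ?_, surj := ?_, exists_of_eq := ?_ }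
  · intro x
    choose v hv using fun i => (IsLocalization.map_units (Localization.AtPrime (q i)) (⟨x.1, (hzd _).1 x.2 i⟩ : (q i).primeCompl)).exists_right_inv
    exact IsUnit.of_mul_eq_one v (funext hv)
  · intro z
    choose as has using fun i => IsLocalization.surj (q i).primeCompl (z i)
    have hd : ∀ i (c : ι → R), algebraMap R (Localization.AtPrime (q i)) (∑ j, c j * e j) =
        algebraMap R _ (c i) * algebraMap R _ (e i) := by
      intro i c
      rw [map_sum, Finset.sum_eq_single i, map_mul]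
      · intro j _ hj; rw [map_mul, he2 j i hj.symm, mul_zero]
      · simp
    refine ⟨⟨∑ j, (as j).1 * e j, ⟨∑ j, (as j).2.1 * e j, (hzd _).2 fun i hi => ?_⟩⟩, funext fun i => ?_⟩
    · have : IsUnit (algebraMap R (Localization.AtPrime (q i)) (∑ j, (as j).2.1 * e j)) := by
        rw [hd]
        exact (IsLocalization.map_units _ (as i).2).mul (IsLocalization.map_units _ (⟨e i, he1 i⟩ : (q i).primeCompl))
      exact (IsLocalization.AtPrime.isUnit_to_map_iff _ (q i) _).1 this hi
    · rw [Pi.mul_apply, happ, happ, hd, hd, ← mul_assoc, has]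
  · intro a b hab
    choose c hc using fun i => IsLocalization.exists_of_eq (M := (q i).primeCompl) (congrFun hab i)
    refine ⟨⟨∑ i, (c i).1 * e i, (hzd _).2 fun i hi => ?_⟩, ?_⟩
    · have h1 : IsUnit (algebraMap R (Localization.AtPrime (q i)) (∑ i, (c i).1 * e i)) := by
        rw [map_sum, Finset.sum_eq_single i, map_mul]
        · exact (IsLocalization.map_units _ (c i)).mul (IsLocalization.map_units _ (⟨e i, he1 i⟩ : (q i).primeCompl))
        · intro j _ hj; rw [map_mul, he2 j i hj.symm, mul_zero]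
        · simp
      exact (IsLocalization.AtPrime.isUnit_to_map_iff _ (q i) _).1 h1 hi
    · simp only [Finset.sum_mul]
      refine Finset.sum_congr rfl fun i _ => ?_
      rw [mul_right_comm, hc i, mul_right_comm]

end Groth.Agent.S6294
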