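import Groth.Statements.S6295
import Mathlib.RingTheory.KrullDimension.Zero
import Mathlib.RingTheory.LocalProperties.Reduced
import Mathlib.RingTheory.Ideal.MinimalPrime.Basic
import Mathlib.RingTheory.Localization.AtPrime.Basic
import Mathlib.RingTheory.Spectrum.Prime.Basic

set_option autoImplicit false
universe u
open CAlg

namespace Groth.Agent.S6295

theorem isField_min (R : Type u) [CommRing R] [IsReduced R] (p : Ideal R) [p.IsPrime]
    (hp : p ∈ minimalPrimes R) : IsField (Localization.AtPrime p) := by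
  have : Ring.KrullDimLE 0 (Localization.AtPrime p) := Ring.KrullDimLE.of_isLocalization p hp _
  exact Ring.KrullDimLE.isField_of_isReduced



/-- Let R be a reduced ring. Then every localization R_p at a minimal prime p is a field and the map R →
∏_{p minimal} R_p is injective (so R is a subring of a product of fields); moreover the set of
zerodivisors of R is the union of the minimal primes. -/
theorem result (R : Type u) [CommRing R] [IsReduced R] : (∀ p : PrimeSpectrum R, p.asIdeal ∈ minimalPrimes R → IsField (Localization.AtPrime p.asIdeal)) ∧ Function.Injective (algebraMap R (∀ p : {p : PrimeSpectrum R // p.asIdeal ∈ minimalPrimes R}, Localization.AtPrime p.1.asIdeal)) ∧ (∀ x : R, x ∉ nonZeroDivisors R ↔ ∃ p ∈ minimalPrimes R, x ∈ p) := by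
  refine ⟨fun p hp => isField_min R p.asIdeal hp, ?_, fun x => ⟨?_, ?_⟩⟩
  · rw [injective_iff_map_eq_zero]
    intro x hx
    refine IsNilpotent.eq_zero ?_
    rw [← mem_nilradical, show nilradical R = Ideal.radical ⊥ from rfl, ← Ideal.sInf_minimalPrimes, Ideal.mem_sInf]
    intro p hp
    have : p.IsPrime := Ideal.minimalPrimes_isPrime hp
    have h0 : algebraMap R (Localization.AtPrime p) x = 0 := congrFun hx ⟨⟨p, this⟩, hp⟩
    obtain ⟨⟨s, hs⟩, hsx⟩ := (IsLocalization.map_eq_zero_iff p.primeCompl _ x).1 h0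
    exact (this.mem_or_mem (hsx ▸ p.zero_mem : s * x ∈ p)).resolve_left hs
  · intro hx
    obtain ⟨y, hy, hy0⟩ : ∃ y, x * y = 0 ∧ y ≠ 0 := by
      by_contra hcon
      refine hx (mem_nonZeroDivisors_iff_right.2 fun y hy => ?_)
      by_contra hy0
      exact hcon ⟨y, (mul_comm x y).trans hy, hy0⟩
    have hny : y ∉ nilradical R := fun h => hy0 (IsNilpotent.eq_zero (mem_nilradical.1 h))
    rw [show nilradical R = Ideal.radical ⊥ from rfl, ← Ideal.sInf_minimalPrimes, Ideal.mem_sInf] at hny
    push_neg at hny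
    obtain ⟨p, hp, hyp⟩ := hny
    have : p.IsPrime := Ideal.minimalPrimes_isPrime hp
    exact ⟨p, hp, (this.mem_or_mem (hy ▸ p.zero_mem : x * y ∈ p)).resolve_right hyp⟩
  · rintro ⟨p, hp, hxp⟩ hnzd
    have : p.IsPrime := Ideal.minimalPrimes_isPrime hp
    have h0 : algebraMap R (Localization.AtPrime p) x = 0 := by
      by_contra hne
      obtain ⟨c, hc⟩ := (isField_min R p hp).mul_inv_cancel hne
      exact ((IsLocalization.AtPrime.isUnit_to_map_iff (Localization.AtPrime p) p x).1
        (isUnit_iff_exists_inv.2 ⟨c, hc⟩)) hxp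
    obtain ⟨⟨t, ht⟩, htx⟩ := (IsLocalization.map_eq_zero_iff p.primeCompl _ x).1 h0
    have ht0 : t = 0 := (mul_right_mem_nonZeroDivisors_eq_zero_iff hnzd).1 htx
    exact ht (ht0.symm ▸ p.zero_mem)

end Groth.Agent.S6295
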