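import Groth.Statements.S6297
import Mathlib.LinearAlgebra.Matrix.Adjugate
import Mathlib.LinearAlgebra.Multilinear.Basic

set_option autoImplicit false
universe u
open CAlg

namespace Groth.Agent.S6297

/-- Let R be a ring, m ≤ n, A an n × m matrix over R and J the ideal generated by the m × m minors of A.
(1) For every f ∈ J there is an m × n matrix B with BA = f · 1. (2) If BA = f · 1 for some m × n
matrix B, then f^m ∈ J. -/
theorem result {R : Type u} [CommRing R] {n m : ℕ} (hmn : m ≤ n) (A : Matrix (Fin n) (Fin m) R) : (∀ f ∈ CAlgX.minorIdeal A m, ∃ B : Matrix (Fin m) (Fin n) R, B * A = f • (1 : Matrix (Fin m) (Fin m) R)) ∧ (∀ (f : R) (B : Matrix (Fin m) (Fin n) R), B * A = f • (1 : Matrix (Fin m) (Fin m) R) → f ^ m ∈ CAlgX.minorIdeal A m) := by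
  classical
  constructor
  · intro f hf
    induction hf using Submodule.span_induction with
    | mem x hx =>
      obtain ⟨⟨g, h⟩, rfl⟩ := hx
      let c : R := ((1 : Matrix (Fin m) (Fin m) R).submatrix id h).det
      let P : Matrix (Fin m) (Fin n) R := (1 : Matrix (Fin n) (Fin n) R).submatrix g id
      refine ⟨c • ((A.submatrix g id).adjugate * P), ?_⟩
      have hP : P * A = A.submatrix g id := by
        ext i j
        simp [P, Matrix.mul_apply, Matrix.one_apply]
      have hdet : (A.submatrix g h).det = c * (A.submatrix g id).det := by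
        rw [mul_comm, ← Matrix.det_mul]
        congr 1
        ext i j
        simp [Matrix.mul_apply, Matrix.one_apply]
      change _ = (A.submatrix g h).det • (1 : Matrix (Fin m) (Fin m) R)
      rw [Matrix.smul_mul, Matrix.mul_assoc, hP, Matrix.adjugate_mul, smul_smul, hdet]
    | zero => exact ⟨0, by simp⟩
    | add x y _ _ hx hy =>
      obtain ⟨B, hB⟩ := hx
      obtain ⟨C, hC⟩ := hy
      exact ⟨B + C, by rw [Matrix.add_mul, hB, hC, add_smul]⟩
    | smul a x _ hx =>
      obtain ⟨B, hB⟩ := hx
      exact ⟨a • B, by rw [Matrix.smul_mul, hB, smul_smul, smul_eq_mul]⟩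
  · intro f B hB
    have hdet : (B * A).det = f ^ m := by rw [hB, Matrix.det_smul, Matrix.det_one, Fintype.card_fin, mul_one]
    rw [← hdet]
    have hrow : (B * A : Matrix (Fin m) (Fin m) R) = fun i => ∑ k, B i k • A k := by
      ext i j
      simp [Matrix.mul_apply]
    rw [hrow]
    change (Matrix.detRowAlternating : (Fin m → R) [⋀^Fin m]→ₗ[R] R).toMultilinearMap (fun i => ∑ k, B i k • A k) ∈ _
    rw [MultilinearMap.map_sum]
    refine Ideal.sum_mem _ fun r _ => ?_
    rw [MultilinearMap.map_smul_univ]
    exact Ideal.mul_mem_left _ _ (Ideal.subset_span ⟨(r, id), rfl⟩)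

end Groth.Agent.S6297
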