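import Groth.Statements.S6298
import Mathlib.RingTheory.Ideal.Operations

set_option autoImplicit false
universe u
open CAlg

namespace Groth.Agent.S6298

/-- Let R be a ring, x ∈ R, I ⊆ R an ideal and p₁, …, p_r prime ideals such that for each i the coset x
+ I is not contained in p_i. Then there is y ∈ I with x + y ∉ p_i for all i. -/
theorem result {R : Type u} [CommRing R] (x : R) (I : Ideal R) {r : ℕ} (p : Fin r → Ideal R) [∀ i, (p i).IsPrime] (h : ∀ i, ∃ y ∈ I, x + y ∉ p i) : ∃ y ∈ I, ∀ i, x + y ∉ p i := by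
  classical
  let A : Finset (Fin r) := Finset.univ.filter fun i => x ∈ p i
  let B : Finset (Fin r) := Finset.univ.filter fun i => x ∉ p i ∧ ∀ j ∈ A, ¬ p i ≤ p j
  have key : ¬ ((I * ∏ b ∈ B, p b : Ideal R) : Set R) ⊆ ⋃ i ∈ (↑A : Set (Fin r)), (p i : Set R) := by
    intro hsub
    rcases Nat.eq_zero_or_pos r with hr | hr
    · subst hr
      have h0 := hsub (Ideal.zero_mem (I * ∏ b ∈ B, p b))
      simp only [Set.mem_iUnion] at h0
      exact h0.elim fun i _ => Fin.elim0 i
    · obtain ⟨i, hi, hle⟩ := (Ideal.subset_union_prime (⟨0, hr⟩ : Fin r) ⟨0, hr⟩ fun i _ _ _ => inferInstance).1 hsub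
      have hxi : x ∈ p i := (Finset.mem_filter.1 hi).2
      rcases (Ideal.IsPrime.mul_le inferInstance).1 hle with h1 | h1
      · obtain ⟨y, hy, hy'⟩ := h i
        exact hy' ((p i).add_mem hxi (h1 hy))
      · obtain ⟨b, hb, hbi⟩ := (Ideal.IsPrime.prod_le inferInstance).1 h1
        exact (Finset.mem_filter.1 hb).2.2 i hi hbi
  obtain ⟨y, hy, hyA⟩ := Set.not_subset.1 key
  simp only [Set.mem_iUnion, not_exists] at hyA
  have hyI : y ∈ I := (Ideal.mul_le_left : I * ∏ b ∈ B, p b ≤ I) hy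
  have hyP : y ∈ ∏ b ∈ B, p b := (Ideal.mul_le_right : I * ∏ b ∈ B, p b ≤ _) hy
  refine ⟨y, hyI, fun i => ?_⟩
  by_cases hi : x ∈ p i
  · intro hxy
    exact hyA i (Finset.mem_filter.2 ⟨Finset.mem_univ _, hi⟩) (((p i).add_mem_iff_right hi).1 hxy)
  · by_cases hB : i ∈ B
    · have hyi : y ∈ p i := (Ideal.prod_le_inf.trans (Finset.inf_le hB) : ∏ b ∈ B, p b ≤ p i) hyP
      exact fun hxy => hi (((p i).add_mem_iff_left hyi).1 hxy)
    · obtain ⟨j, hj, hij⟩ : ∃ j ∈ A, p i ≤ p j := by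
        by_contra hc
        push Not at hc
        exact hB (Finset.mem_filter.2 ⟨Finset.mem_univ _, hi, hc⟩)
      intro hxy
      exact hyA j hj (((p j).add_mem_iff_right (Finset.mem_filter.1 hj).2).1 (hij hxy))

end Groth.Agent.S6298
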