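import Groth.Statements.S6301
import Mathlib.RingTheory.Flat.EquationalCriterion

set_option autoImplicit false
universe u
open CAlg

namespace Groth.Agent.S6301

/-- An R-module M is flat exactly when, for every finitely presented R-module P and every surjective
R-module map N → M, the induced map Hom_R(P, N) → Hom_R(P, M) is surjective (modules P, N taken in
the same universe). -/
theorem result {R : Type u} [CommRing R] (M : Type u) [AddCommGroup M] [Module R M] : Module.Flat R M ↔ ∀ (P : Type u) [AddCommGroup P] [Module R P], Module.FinitePresentation R P → ∀ (N : Type u) [AddCommGroup N] [Module R N] (g : N →ₗ[R] M), Function.Surjective g → ∀ h : P →ₗ[R] M, ∃ h' : P →ₗ[R] N, g.comp h' = h := by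
  constructor
  · intro _ P _ _ hP N _ _ g hg h
    obtain ⟨n, h₂, h₃, rfl⟩ := Module.Flat.exists_factorization_of_finitePresentation h
    obtain ⟨l, hl⟩ := Module.projective_lifting_property g h₃ hg
    exact ⟨l ∘ₗ h₂, by rw [← LinearMap.comp_assoc, hl]⟩
  · intro h
    refine Module.Flat.of_forall_exists_factorization fun {l f x} hx => ?_
    let K : Submodule R (Fin l →₀ R) := Submodule.span R {f}
    have : Module.FinitePresentation R ((Fin l →₀ R) ⧸ K) :=
      Module.finitePresentation_of_surjective K.mkQ K.mkQ_surjective
        (by rw [Submodule.ker_mkQ]; exact Submodule.fg_span_singleton f)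
    have hK : K ≤ LinearMap.ker x := (Submodule.span_singleton_le_iff_mem _ _).2 hx
    obtain ⟨h', hh'⟩ := h _ this (M →₀ R) (Finsupp.linearCombination R id)
      (Finsupp.linearCombination_id_surjective R M) (K.liftQ x hK)
    obtain ⟨n, a, y, hy⟩ := Module.Flat.exists_factorization_of_finitePresentation h'
    refine ⟨n, a ∘ₗ K.mkQ, Finsupp.linearCombination R id ∘ₗ y, ?_, ?_⟩
    · rw [← LinearMap.comp_assoc, LinearMap.comp_assoc _ y, ← hy, hh', Submodule.liftQ_mkQ]
    · rw [LinearMap.comp_apply, Submodule.mkQ_apply,
        (Submodule.Quotient.mk_eq_zero K).2 (Submodule.mem_span_singleton_self f), map_zero]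

end Groth.Agent.S6301
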