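import Groth.Statements.S6303
import Mathlib.RingTheory.Flat.EquationalCriterion
import Mathlib.RingTheory.Ideal.Operations

set_option autoImplicit false
universe u
open CAlg

namespace Groth.Agent.S6303

/-- Let R be a ring, I, J ⊆ R ideals and M a flat R-module. Then IM ∩ JM = (I ∩ J)M. -/
theorem result {R : Type u} [CommRing R] (I J : Ideal R) (M : Type u) [AddCommGroup M] [Module R M] [Module.Flat R M] : (I • (⊤ : Submodule R M)) ⊓ (J • ⊤) = (I ⊓ J) • (⊤ : Submodule R M) := by
  refine le_antisymm ?_ (le_inf (Submodule.smul_mono_left inf_le_left) (Submodule.smul_mono_left inf_le_right))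
  rintro x ⟨hxI, hxJ⟩
  have key : ∀ (K : Ideal R), x ∈ K • (⊤ : Submodule R M) → ∃ (n : ℕ) (a : Fin n → R) (m : Fin n → M),
      (∀ i, a i ∈ K) ∧ ∑ i, a i • m i = x := by
    intro K hK
    rw [← Submodule.span_univ, ← Set.range_id, Submodule.mem_ideal_smul_span_iff_exists_sum] at hK
    obtain ⟨a, ha, hsum⟩ := hK
    refine ⟨a.support.card, fun i => a (a.support.equivFin.symm i), fun i => (a.support.equivFin.symm i : M),
      fun i => ha _, ?_⟩
    rw [← hsum, Finsupp.sum, ← Finset.sum_coe_sort a.support]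
    exact Fintype.sum_equiv a.support.equivFin.symm _ _ fun i => rfl
  obtain ⟨n, a, m, ha, hax⟩ := key I hxI
  obtain ⟨l, b, q, hb, hbx⟩ := key J hxJ
  have hrel : ∑ i, (Fin.append a (fun j => - b j)) i • (Fin.append m q) i = 0 := by
    rw [Fin.sum_univ_add]
    simp [Fin.append_left, Fin.append_right, hax, hbx]
  obtain ⟨k, c, y, hy, hc⟩ := Module.Flat.iff_forall_isTrivialRelation.1 ‹_› hrel
  have hxe : x = ∑ t, (∑ i, a i * c (Fin.castAdd l i) t) • y t := by
    rw [← hax]
    simp only [Finset.sum_smul]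
    rw [Finset.sum_comm]
    refine Finset.sum_congr rfl fun i _ => ?_
    have := hy (Fin.castAdd l i)
    rw [Fin.append_left] at this
    simp only [this, Finset.smul_sum, smul_smul]
  rw [hxe]
  refine Submodule.sum_mem _ fun t _ => Submodule.smul_mem_smul ⟨?_, ?_⟩ trivial
  · exact Submodule.sum_mem _ fun i _ => I.mul_mem_right _ (ha i)
  · have := hc t
    rw [Fin.sum_univ_add] at this
    simp only [Fin.append_left, Fin.append_right, neg_mul, Finset.sum_neg_distrib, ← sub_eq_add_neg, sub_eq_zero] at this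
    rw [this]
    exact Submodule.sum_mem _ fun i _ => J.mul_mem_right _ (hb i)

end Groth.Agent.S6303
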