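import Groth.Statements.S6304
import Mathlib.RingTheory.Flat.Equalizer

set_option autoImplicit false
universe u
open CAlg

namespace Groth.Agent.S6304

/-- In a short exact sequence 0 → M' → M → M'' → 0 of R-modules whose right-hand term M'' is flat, the
middle term M is flat when M' is, and M' is flat when M is. -/
theorem result {R : Type u} [CommRing R] {M' M M'' : Type u} [AddCommGroup M'] [Module R M'] [AddCommGroup M] [Module R M] [AddCommGroup M''] [Module R M''] (f : M' →ₗ[R] M) (g : M →ₗ[R] M'') (hf : Function.Injective f) (hexact : Function.Exact f g) (hg : Function.Surjective g) [Module.Flat R M''] : (Module.Flat R M' → Module.Flat R M) ∧ (Module.Flat R M → Module.Flat R M') := by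
  have hinj : ∀ (A : Type u) [AddCommGroup A] [Module R A], Function.Injective (f.lTensor A) := fun A _ _ =>
    LinearMap.lTensor_injective_of_exact_of_flat g hg f hf hexact A
  refine ⟨fun h' => Module.Flat.iff_lTensor_preserves_injective_linearMap.2 fun {P Q} _ _ _ _ u hu => ?_,
    fun h => Module.Flat.iff_lTensor_preserves_injective_linearMap.2 fun {P Q} _ _ _ _ u hu => ?_⟩
  · rw [injective_iff_map_eq_zero]
    intro x hx
    have h1 : g.rTensor P x = 0 := by
      apply Module.Flat.lTensor_preserves_injective_linearMap (M := M'') u hu
      rw [map_zero, ← LinearMap.comp_apply, LinearMap.lTensor_comp_rTensor, ← LinearMap.rTensor_comp_lTensor,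
        LinearMap.comp_apply, hx, map_zero]
    obtain ⟨y, rfl⟩ := (rTensor_exact P hexact hg x).1 h1
    suffices y = 0 by rw [this, map_zero]
    apply Module.Flat.lTensor_preserves_injective_linearMap (M := M') u hu
    rw [map_zero]
    have hinjQ : Function.Injective (f.rTensor Q) := by
      have := hinj Q
      rw [← LinearMap.comm_comp_lTensor_comp_comm_eq]
      simpa using this
    apply hinjQ
    rw [map_zero, ← LinearMap.comp_apply, LinearMap.rTensor_comp_lTensor, ← LinearMap.lTensor_comp_rTensor,
      LinearMap.comp_apply, hx]
  · have h1 : Function.Injective (f.rTensor P) := by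
      have := hinj P
      rw [← LinearMap.comm_comp_lTensor_comp_comm_eq]
      simpa using this
    have := (Module.Flat.lTensor_preserves_injective_linearMap (M := M) u hu).comp h1
    rw [← LinearMap.coe_comp, LinearMap.lTensor_comp_rTensor, ← LinearMap.rTensor_comp_lTensor, LinearMap.coe_comp] at this
    exact this.of_comp

end Groth.Agent.S6304
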