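import Groth.Statements.S6305
import Groth.Agent.Lib.CAlgLow.UI

set_option autoImplicit false
universe u
open CAlg

namespace Groth.Agent.S6305

/-- An R-module M is flat exactly when every short exact sequence 0 → M₁ → M₂ → M → 0 of R-modules is
universally exact, i.e. its first map M₁ → M₂ is universally injective. -/
theorem result {R : Type u} [CommRing R] (M : Type u) [AddCommGroup M] [Module R M] : Module.Flat R M ↔ ∀ (M₁ M₂ : Type u) [AddCommGroup M₁] [Module R M₁] [AddCommGroup M₂] [Module R M₂] (f : M₁ →ₗ[R] M₂) (g : M₂ →ₗ[R] M), Function.Injective f → Function.Exact f g → Function.Surjective g → CAlgX.UniversallyInjective R f := by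
  refine ⟨fun _ M₁ M₂ _ _ _ _ f g hf hfg hg => Groth.Agent.CAlgLow.ui_of_flat_coker hf hfg hg, fun h => ?_⟩
  have hp : Function.Surjective (Finsupp.linearCombination R (id : M → M)) :=
    Finsupp.linearCombination_id_surjective R M
  let p : (M →₀ R) →ₗ[R] M := Finsupp.linearCombination R id
  have hx : Function.Exact (LinearMap.ker p).subtype p := LinearMap.exact_subtype_ker_map p
  exact Groth.Agent.CAlgLow.flat_right_of_ui
    (h ↥(LinearMap.ker p) (M →₀ R) (LinearMap.ker p).subtype p Subtype.val_injective hx hp) hx hp

end Groth.Agent.S6305
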