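import Groth.Statements.S6306
import Mathlib.RingTheory.Ideal.Maximal
import Mathlib.RingTheory.Ideal.Span

set_option autoImplicit false
universe u
open CAlg

namespace Groth.Agent.S6306

/-- Let R be a nonzero ring such that every nonzero prime ideal of R contains a non-zerodivisor. Then R
is a domain. -/
theorem result (R : Type u) [CommRing R] [Nontrivial R] (h : ∀ p : Ideal R, p.IsPrime → p ≠ ⊥ → ∃ x ∈ p, x ∈ nonZeroDivisors R) : IsDomain R := by
  refine @NoZeroDivisors.to_isDomain R _ _ ⟨fun {a b} hab => ?_⟩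
  by_contra hc
  push Not at hc
  have hd : Disjoint (Ideal.span {a} : Set R) (nonZeroDivisors R : Set R) := by
    rw [Set.disjoint_left]
    intro y hy hy'
    obtain ⟨r, rfl⟩ := Ideal.mem_span_singleton.1 hy
    exact hc.2 ((mem_nonZeroDivisors_iff.1 hy').2 b (by rw [← mul_assoc, mul_comm b a, hab, zero_mul]))
  obtain ⟨p, hp, hle, hdis⟩ := Ideal.exists_le_prime_disjoint _ _ hd
  have hne : p ≠ ⊥ := fun e => hc.1 (by
    have := hle (Ideal.mem_span_singleton_self a)
    simpa [e] using this)
  obtain ⟨x, hx, hx'⟩ := h p hp hne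
  exact Set.disjoint_left.1 hdis hx hx'

end Groth.Agent.S6306
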