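import Groth.Statements.S6307


set_option autoImplicit false
universe u
open CAlg

namespace Groth.Agent.S6307

/-- Let R be a ring, J ⊆ R a principal ideal and I ⊆ J an ideal. Then I = J · (I : J). -/
theorem result {R : Type u} [CommRing R] (I J : Ideal R) (hJ : J.IsPrincipal) (hIJ : I ≤ J) : I = J * I.colon J := by
  obtain ⟨a, ha⟩ := hJ
  apply le_antisymm
  · intro x hx
    have h1 := hIJ hx
    rw [ha] at h1
    obtain ⟨r, rfl⟩ := Submodule.mem_span_singleton.1 h1
    have : r ∈ I.colon J := by
      rw [Submodule.mem_colon]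
      intro j hj
      rw [SetLike.mem_coe, ha] at hj
      obtain ⟨s, rfl⟩ := Submodule.mem_span_singleton.1 hj
      rw [smul_comm]
      exact I.smul_mem s hx
    rw [smul_eq_mul, mul_comm r a]
    exact Ideal.mul_mem_mul (by rw [ha]; exact Submodule.mem_span_singleton_self a) this
  · rw [Ideal.mul_le]
    intro j hj c hc
    rw [mul_comm]
    exact Submodule.mem_colon.1 hc j hj

end Groth.Agent.S6307
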