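import Groth.Statements.S6308
import Groth.Agent.Lib.CAlgLow.MapLocus

set_option autoImplicit false
universe u
open scoped TensorProduct
open CAlg

namespace Groth.Agent.S6308

/-- Let R be a ring and φ : M → N a map of R-modules with N finite. For a prime p, the localization φ_p
: M_p → N_p is surjective if and only if φ ⊗ κ(p) : M ⊗ κ(p) → N ⊗ κ(p) is surjective; the set U of
such primes is open in Spec(R); and for every f ∈ R with D(f) ⊆ U the map M_f → N_f is surjective. -/
theorem result {R : Type u} [CommRing R] {M N : Type u} [AddCommGroup M] [Module R M] [AddCommGroup N] [Module R N] [Module.Finite R N] (φ : M →ₗ[R] N) : (∀ p : PrimeSpectrum R, Function.Surjective (LocalizedModule.map p.asIdeal.primeCompl φ) ↔ Function.Surjective (φ.lTensor p.asIdeal.ResidueField)) ∧ IsOpen {p : PrimeSpectrum R | Function.Surjective (LocalizedModule.map p.asIdeal.primeCompl φ)} ∧ (∀ f : R, (↑(PrimeSpectrum.basicOpen f) : Set (PrimeSpectrum R)) ⊆ {p : PrimeSpectrum R | Function.Surjective (LocalizedModule.map p.asIdeal.primeCompl φ)} → Function.Surjective (LocalizedModule.map (Submonoid.powers f)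 φ)) := by
  refine ⟨fun p => (Groth.Agent.CAlgLow.localized_surjective_iff_mem_support p φ).trans
    (Groth.Agent.CAlgLow.residue_surjective_iff_mem_support p φ).symm, ?_, fun f hf => ?_⟩
  · simp only [Groth.Agent.CAlgLow.localized_surjective_iff_mem_support]
    exact Groth.Agent.CAlgLow.isOpen_surjective_locus φ
  · exact Groth.Agent.CAlgLow.localized_surjective_of_subset φ f fun p hp =>
      (Groth.Agent.CAlgLow.localized_surjective_iff_mem_support p φ).1 (hf hp)

end Groth.Agent.S6308
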