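import Groth.Statements.S6310
import Mathlib.LinearAlgebra.Matrix.Charpoly.LinearMap
import Mathlib.Algebra.Module.LocalizedModule.Submodule
import Mathlib.RingTheory.Localization.Away.Basic

set_option autoImplicit false
universe u
open CAlg

namespace Groth.Agent.S6310

/-- Let R be a ring, S ⊆ R a multiplicative subset, I ⊆ R an ideal and M a finite R-module. If x₁, …,
x_r ∈ M have images generating S⁻¹(M/IM) as an S⁻¹R-module, then there is f ∈ S + I (f = s + i with
s ∈ S, i ∈ I) such that x₁, …, x_r generate M_f as an R_f-module. -/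
theorem result {R : Type u} [CommRing R] (S : Submonoid R) (I : Ideal R) (M : Type u) [AddCommGroup M] [Module R M] [Module.Finite R M] {r : ℕ} (x : Fin r → M) (hx : Submodule.span (Localization S) (Set.range fun j => LocalizedModule.mkLinearMap S (M ⧸ (I • (⊤ : Submodule R M))) (Submodule.Quotient.mk (x j))) = ⊤) : ∃ (s : R) (i : R), s ∈ S ∧ i ∈ I ∧ Submodule.span (Localization.Away (s + i)) (Set.range fun j => LocalizedModule.mkLinearMap (Submonoid.powers (s + i)) M (x j)) = ⊤ := by
  classical
  let W := Submodule.span R (Set.range x)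
  let q := Submodule.mkQ (I • (⊤ : Submodule R M))
  have hloc : ∀ y : M, ∃ t ∈ S, t • y ∈ W ⊔ I • (⊤ : Submodule R M) := by
    intro y
    have h1 : LocalizedModule.mkLinearMap S _ (q y) ∈
        (Submodule.span R (Set.range fun j => q (x j))).localized' (Localization S) S (LocalizedModule.mkLinearMap S _) := by
      rw [Submodule.localized'_span, ← Set.range_comp,
        show (LocalizedModule.mkLinearMap S _ ∘ fun j => q (x j)) = _ from rfl]
      exact hx.ge Submodule.mem_top
    obtain ⟨v, hv, t, hvt⟩ := h1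
    rw [IsLocalizedModule.mk'_eq_iff, Submonoid.smul_def, ← map_smul] at hvt
    obtain ⟨c, hc⟩ := IsLocalizedModule.exists_of_eq (S := S) hvt
    simp only [Submonoid.smul_def] at hc
    refine ⟨c * t, S.mul_mem c.2 t.2, ?_⟩
    have hv' : v ∈ W.map q := by
      rw [show W.map q = Submodule.span R (Set.range fun j => q (x j)) by
        rw [Submodule.map_span, ← Set.range_comp]; rfl]
      exact hv
    have h2 : q ((c * t : R) • y) ∈ W.map q := by
      rw [map_smul, mul_smul, ← hc]
      exact Submodule.smul_mem _ _ hv'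
    rw [← Submodule.mem_comap, Submodule.comap_map_eq, Submodule.ker_mkQ] at h2
    exact h2
  obtain ⟨T, hT⟩ := Module.Finite.fg_top (R := R) (M := M)
  choose t htS ht using hloc
  let s := ∏ y ∈ T, t y
  have hs : s ∈ S := S.prod_mem fun y _ => htS y
  have hsM : ∀ y : M, s • y ∈ W ⊔ I • (⊤ : Submodule R M) := by
    intro y
    have : Submodule.span R (T : Set M) ≤ (W ⊔ I • (⊤ : Submodule R M)).comap (LinearMap.lsmul R M s) := by
      rw [Submodule.span_le]
      intro z hz
      change (∏ y ∈ T, t y) • z ∈ W ⊔ I • (⊤ : Submodule R M)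
      rw [← Finset.prod_erase_mul T _ hz, mul_smul]
      exact Submodule.smul_mem _ _ (ht z)
    exact this (hT ▸ Submodule.mem_top)
  let f : Module.End R (M ⧸ W) := algebraMap R _ s
  have hf : LinearMap.range f ≤ I • (⊤ : Submodule R (M ⧸ W)) := by
    rintro _ ⟨z, rfl⟩
    obtain ⟨y, rfl⟩ := W.mkQ_surjective z
    have h2 := Submodule.mem_map_of_mem (f := W.mkQ) (hsM y)
    rw [Submodule.map_sup, Submodule.map_smul'', Submodule.map_top, Submodule.range_mkQ,
      (Submodule.eq_bot_iff (W.map W.mkQ)).2 (by rintro _ ⟨v, hv, rfl⟩; exact (Submodule.Quotient.mk_eq_zero W).2 hv), bot_sup_eq] at h2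
    simpa [f, Module.algebraMap_end_apply] using h2
  obtain ⟨p, hp, -, hcoef, hpf⟩ :=
    LinearMap.exists_monic_and_natDegree_eq_and_coeff_mem_pow_and_aeval_eq_zero R f I hf
  have hi : p.eval s - s ^ p.natDegree ∈ I := by
    rw [Polynomial.eval_eq_sum_range, Finset.sum_range_succ, hp.coeff_natDegree, one_mul, add_sub_cancel_right]
    refine sum_mem fun k hk => Ideal.mul_mem_right _ _ ?_
    exact Ideal.pow_le_self (Nat.sub_ne_zero_of_lt (Finset.mem_range.1 hk)) (hcoef k)
  refine ⟨s ^ p.natDegree, _, S.pow_mem hs _, hi, ?_⟩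
  have hkill : ∀ y : M, p.eval s • y ∈ W := by
    intro y
    rw [← Submodule.Quotient.mk_eq_zero, Submodule.Quotient.mk_smul]
    have h3 := DFunLike.congr_fun hpf (Submodule.Quotient.mk y)
    rw [Polynomial.aeval_algebraMap_apply_eq_algebraMap_eval] at h3
    simpa [Module.algebraMap_end_apply] using h3
  have hmain : ∀ a : R, a = p.eval s → Submodule.span (Localization.Away a)
      (Set.range fun j => LocalizedModule.mkLinearMap (Submonoid.powers a) M (x j)) = ⊤ := by
    rintro _ rfl
    rw [eq_top_iff]
    rintro z -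
    obtain ⟨⟨y, ⟨_, n, rfl⟩⟩, hz⟩ := IsLocalizedModule.mk'_surjective (Submonoid.powers (p.eval s))
      (LocalizedModule.mkLinearMap (Submonoid.powers (p.eval s)) M) z
    rw [← hz, show (Set.range fun j => LocalizedModule.mkLinearMap (Submonoid.powers (p.eval s)) M (x j)) =
      LocalizedModule.mkLinearMap (Submonoid.powers (p.eval s)) M '' Set.range x by rw [← Set.range_comp]; rfl,
      ← Submodule.localized'_span (Localization.Away (p.eval s)) (Submonoid.powers (p.eval s))]
    let a : Submonoid.powers (p.eval s) := ⟨_, Submonoid.mem_powers _⟩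
    refine ⟨(p.eval s) • y, hkill y, a * ⟨_, n, rfl⟩, ?_⟩
    exact IsLocalizedModule.mk'_cancel_left (LocalizedModule.mkLinearMap _ M) y a ⟨_, n, rfl⟩
  exact hmain _ (by ring)

end Groth.Agent.S6310
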