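import Groth.Statements.S6311
import Groth.Agent.Lib.K0Cat.FiniteModules
import Mathlib.RingTheory.LocalRing.Module
import Mathlib.LinearAlgebra.Dimension.Constructions
import Mathlib.LinearAlgebra.Pi

set_option autoImplicit false
universe u
open CategoryTheory
open CAlg

namespace Groth.Agent.S6311

open CategoryTheory

abbrev fpMods (R : Type u) [CommRing R] : ObjectProperty (ModuleCat.{u} R) :=
  fun M => Module.Finite R M ∧ Module.Projective R M

theorem fp_mem {R : Type u} [CommRing R] (N : Type u) [AddCommGroup N] [Module R N] [Module.Finite R N]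
    [Module.Projective R N] : fpMods R (ModuleCat.of R N) :=
  ⟨inferInstanceAs (Module.Finite R N), inferInstanceAs (Module.Projective R N)⟩

theorem cl_ses {R : Type u} [CommRing R] {N₁ N₂ N₃ : Type u} [AddCommGroup N₁] [Module R N₁] [Module.Finite R N₁]
    [Module.Projective R N₁] [AddCommGroup N₂] [Module R N₂] [Module.Finite R N₂] [Module.Projective R N₂]
    [AddCommGroup N₃] [Module R N₃] [Module.Finite R N₃] [Module.Projective R N₃]
    (f : N₁ →ₗ[R] N₂) (g : N₂ →ₗ[R] N₃) (hf : Function.Injective f)
    (hg : Function.Surjective g) (hfg : Function.Exact f g) :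
    KZero.clSub (fpMods R) (ModuleCat.of R N₂) =
      KZero.clSub (fpMods R) (ModuleCat.of R N₁) + KZero.clSub (fpMods R) (ModuleCat.of R N₃) := by
  let S : ShortComplex (ModuleCat.{u} R) := ShortComplex.mk (ModuleCat.ofHom f) (ModuleCat.ofHom g)
    (ModuleCat.hom_ext hfg.linearMap_comp_eq_zero)
  have : Mono S.f := (ModuleCat.mono_iff_injective _).2 hf
  have : Epi S.g := (ModuleCat.epi_iff_surjective _).2 hg
  exact Groth.Agent.K0Cat.clSub_ses S
    { exact := (ShortComplex.moduleCat_exact_iff S).2 fun x hx => (hfg x).1 hx }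
    (fp_mem N₁) (fp_mem N₂) (fp_mem N₃)

theorem finrank_add {R : Type u} [CommRing R] [IsLocalRing R] (S : ShortComplex (ModuleCat.{u} R))
    (h₁ : fpMods R S.X₁) (h₂ : fpMods R S.X₂) (h₃ : fpMods R S.X₃) (hS : S.ShortExact) :
    (Module.finrank R S.X₂ : ℤ) = Module.finrank R S.X₁ + Module.finrank R S.X₃ := by
  have := h₁.1; have := h₁.2; have := h₂.1; have := h₂.2; have := h₃.1; have := h₃.2
  have : Module.Free R S.X₁ := Module.free_of_flat_of_isLocalRing
  have : Module.Free R S.X₃ := Module.free_of_flat_of_isLocalRing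
  have hex := (ShortComplex.ShortExact.moduleCat_exact_iff_function_exact S).1 hS.exact
  obtain ⟨s, hs⟩ := Module.projective_lifting_property S.g.hom LinearMap.id hS.moduleCat_surjective_g
  obtain ⟨e, -, -⟩ := hex.splitSurjectiveEquiv hS.moduleCat_injective_f ⟨s, hs⟩
  rw [e.finrank_eq, Module.finrank_prod]
  push_cast; ring



/-- Let R be a local ring. Then K₀(R), the Grothendieck group of the category of finite projective
R-modules, is isomorphic to ℤ via the rank; precisely, there is an isomorphism K₀(R) ≅ ℤ of abelian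
groups sending the class [R] to 1 (such an isomorphism is then unique, K₀(R) being generated by
[R]). -/
theorem result (R : Type u) [CommRing R] [IsLocalRing R] : ∃ e : KZero.K0sub (fun M : ModuleCat.{u} R => Module.Finite R M ∧ Module.Projective R M) ≃+ ℤ, e (KZero.clSub (fun M : ModuleCat.{u} R => Module.Finite R M ∧ Module.Projective R M) (ModuleCat.of R R)) = 1 := by
  classical
  let φ := Groth.Agent.K0Cat.liftSub (P := fpMods R) (fun M => (Module.finrank R M.1 : ℤ)) finrank_add
  let one := KZero.clSub (fpMods R) (ModuleCat.of R R)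
  let ψ : ℤ →+ KZero.K0sub (fpMods R) := zmultiplesHom _ one
  have hone : φ one = 1 := by
    rw [Groth.Agent.K0Cat.liftSub_clSub _ _ (fp_mem R)]
    exact_mod_cast Module.finrank_self R
  have hpow : ∀ n : ℕ, KZero.clSub (fpMods R) (ModuleCat.of R (Fin n → R)) = (n : ℤ) • one := by
    intro n
    induction n with
    | zero =>
      rw [Nat.cast_zero, zero_smul]
      exact Groth.Agent.K0Cat.clSub_of_isZero (ModuleCat.isZero_of_subsingleton _) (fp_mem _)
    | succ n ih =>
      let e : ((Fin n → R) × R) ≃ₗ[R] (Fin (n + 1) → R) :=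
        (LinearEquiv.prodComm R _ _).trans (Fin.consLinearEquiv R fun _ : Fin (n + 1) => R)
      have := cl_ses (e.toLinearMap ∘ₗ LinearMap.inl R (Fin n → R) R) (LinearMap.snd R (Fin n → R) R ∘ₗ e.symm.toLinearMap)
        (e.injective.comp LinearMap.inl_injective)
        ((LinearMap.snd_surjective (R := R) (M := Fin n → R) (M₂ := R)).comp e.symm.surjective) (by
          rw [LinearMap.exact_iff, LinearMap.ker_comp, LinearMap.range_comp, LinearMap.range_inl]
          exact (Submodule.map_equiv_eq_comap_symm e _).symm)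
      rw [this, ih, Nat.cast_succ, add_smul, one_smul]
  have hcl : ∀ X : ModuleCat.{u} R, fpMods R X → KZero.clSub (fpMods R) X = (Module.finrank R X : ℤ) • one := by
    intro X hX
    have := hX.1; have := hX.2
    have : Module.Free R X := Module.free_of_flat_of_isLocalRing
    let b := Module.finBasis R X
    rw [← hpow]
    have h2 := cl_ses b.equivFun.toLinearMap (0 : (Fin (Module.finrank R X) → R) →ₗ[R] (Fin 0 → R)) b.equivFun.injective
      (Function.surjective_to_subsingleton _) ((b.equivFun.exact_zero_iff_surjective _).2 b.equivFun.surjective)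
    rw [show KZero.clSub (fpMods R) (ModuleCat.of R (Fin 0 → R)) = 0 from
      Groth.Agent.K0Cat.clSub_of_isZero (ModuleCat.isZero_of_subsingleton _) (fp_mem _), add_zero] at h2
    exact h2.symm
  refine ⟨AddMonoidHom.toAddEquiv φ ψ ?_ ?_, hone⟩
  · refine AddMonoidHom.ext fun x => ?_
    refine Groth.Agent.K0Cat.clSub_induction (P := fpMods R) (p := fun x => (ψ.comp φ) x = (AddMonoidHom.id _) x) x
      (by simp) (fun X hX => ?_) (fun a ha => by simp only [map_neg, ha]) (fun a b ha hb => by simp only [map_add, ha, hb])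
    rw [AddMonoidHom.comp_apply, AddMonoidHom.id_apply, Groth.Agent.K0Cat.liftSub_clSub _ _ hX, hcl X hX]
    rfl
  · ext
    simp [ψ, hone]

end Groth.Agent.S6311
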