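import Groth.Statements.S6312
import Mathlib.RingTheory.Length
import Mathlib.Algebra.Module.LocalizedModule.Submodule

set_option autoImplicit false
universe u
open CAlg

namespace Groth.Agent.S6312

/-- Let R be a ring, M an R-module and S ⊆ R a multiplicative subset. Then length_{S⁻¹R}(S⁻¹M) ≤
length_R(M). -/
theorem result {R : Type u} [CommRing R] (S : Submonoid R) (M : Type u) [AddCommGroup M] [Module R M] : Module.length (Localization S) (LocalizedModule S M) ≤ Module.length R M := by
  rw [← WithBot.coe_le_coe, Module.coe_length, Module.coe_length]
  refine Order.krullDim_le_of_strictMono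
    (fun N : Submodule (Localization S) (LocalizedModule S M) =>
      (N.restrictScalars R).comap (LocalizedModule.mkLinearMap S M)) (Monotone.strictMono_of_injective ?_ ?_)
  · exact fun N N' h x hx => h hx
  · intro N N' h
    refine SetLike.ext fun z => ?_
    induction z using LocalizedModule.induction_on with
    | _ m s =>
      have key : ∀ P : Submodule (Localization S) (LocalizedModule S M),
          LocalizedModule.mk m s ∈ P ↔ m ∈ (P.restrictScalars R).comap (LocalizedModule.mkLinearMap S M) := by
        intro P
        change _ ↔ LocalizedModule.mk m 1 ∈ P
        refine ⟨fun hm => ?_, fun hm => ?_⟩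
        · have := P.smul_mem (Localization.mk (s : R) 1) hm
          rwa [LocalizedModule.mk_smul_mk, one_mul, ← Submonoid.smul_def, LocalizedModule.mk_cancel] at this
        · have := P.smul_mem (Localization.mk (1 : R) s) hm
          rwa [LocalizedModule.mk_smul_mk, one_smul, mul_one] at this
      dsimp only at h
      rw [key, key, h]

end Groth.Agent.S6312
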