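import Groth.Statements.S6313
import Groth.Agent.Lib.FlatSyz.TorDim

set_option autoImplicit false
universe u
open CategoryTheory
open CAlg

namespace Groth.Agent.S6313



/-- For a ring R and an R-module M, flatness of M over R is equivalent to the vanishing of Tor₁ᴿ(M, R/I)
for every finitely generated ideal I ⊆ R. -/
theorem result (R : Type u) [CommRing R] (M : Type u) [AddCommGroup M] [Module R M] : Module.Flat R M ↔ ∀ I : Ideal R, I.FG → Limits.IsZero (((CategoryTheory.Tor (ModuleCat.{u} R) 1).obj (ModuleCat.of R M)).obj (ModuleCat.of R (R ⧸ I))) := by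
  refine ⟨fun _ I _ => (Groth.Agent.FlatSyz.isZero_tor_succ_iff (ProjectiveResolution.of _) 0).2
    (Module.Flat.lTensor_preserves_injective_linearMap _ (Submodule.injective_subtype _)), fun h => ?_⟩
  refine Module.Flat.iff_lTensor_injective.2 fun I hI => ?_
  let Pr := ProjectiveResolution.of (ModuleCat.of R (R ⧸ I))
  haveI := Groth.Agent.FlatSyz.flat_X Pr 0
  let q : Pr.complex.X 0 →ₗ[R] (R ⧸ I) := (Pr.π.f 0).hom
  have hq : Function.Surjective q := (ModuleCat.epi_iff_surjective (Pr.π.f 0)).1 inferInstance
  have hex : Function.Exact (LinearMap.range (Groth.Agent.FlatSyz.dLin Pr 0)).subtype q := fun x =>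
    ⟨fun hx => ⟨⟨x, (ShortComplex.moduleCat_exact_iff _).1 Pr.exact₀ x hx⟩, rfl⟩,
      fun ⟨⟨_, z, hz⟩, hy⟩ => by
        subst hy; subst hz
        exact LinearMap.congr_fun (congrArg ModuleCat.Hom.hom Pr.complex_d_comp_π_f_zero) z⟩
  have hp : Function.Surjective (Finsupp.linearCombination R (id : M → M)) :=
    Finsupp.linearCombination_id_surjective R M
  have h1 := (Groth.Agent.FlatSyz.lTensor_injective_iff_rTensor_injective _ (LinearMap.ker _).injective_subtype
    (Finsupp.linearCombination R (id : M → M))
    (LinearMap.exact_subtype_ker_map _) hp _ (Submodule.injective_subtype _) q hex hq).1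
    ((Groth.Agent.FlatSyz.isZero_tor_succ_iff Pr 0).1 (h I hI))
  exact (Groth.Agent.FlatSyz.lTensor_injective_iff_rTensor_injective _ (LinearMap.ker _).injective_subtype
    (Finsupp.linearCombination R (id : M → M))
    (LinearMap.exact_subtype_ker_map _) hp _ (Submodule.injective_subtype _) I.mkQ
    (LinearMap.exact_subtype_mkQ I) I.mkQ_surjective).2 h1

end Groth.Agent.S6313
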