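import Groth.Statements.S6314
import Groth.Agent.Lib.FlatSyz.TorDim

set_option autoImplicit false
universe u
open CategoryTheory
open CAlg

namespace Groth.Agent.S6314

/-- Let R be a ring and M a flat R-module. Then Torᵢᴿ(M, N) = 0 for all R-modules N and all i > 0. -/
theorem result (R : Type u) [CommRing R] (M : Type u) [AddCommGroup M] [Module R M] [Module.Flat R M] (N : ModuleCat.{u} R) (i : ℕ) (hi : 0 < i) : Limits.IsZero (((CategoryTheory.Tor (ModuleCat.{u} R) i).obj (ModuleCat.of R M)).obj N) := by
  obtain ⟨j, rfl⟩ := Nat.exists_eq_succ_of_ne_zero hi.ne'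
  exact (Groth.Agent.FlatSyz.isZero_tor_succ_iff (ProjectiveResolution.of N) j).2
    (Module.Flat.lTensor_preserves_injective_linearMap _ (Submodule.injective_subtype _))

end Groth.Agent.S6314
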