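import Groth.Statements.S6319
import Groth.Agent.Lib.K0Cat.FiniteModules
import Mathlib.RingTheory.Length
import Mathlib.RingTheory.Artinian.Module
import Mathlib.RingTheory.HopkinsLevitzki

set_option autoImplicit false
universe u
open CategoryTheory
open CAlg

namespace Groth.Agent.S6319

open CategoryTheory in
theorem length_add {R : Type u} [CommRing R] [IsArtinianRing R] {A B C : Type u} [AddCommGroup A] [Module R A]
    [AddCommGroup B] [Module R B] [AddCommGroup C] [Module R C] [Module.Finite R A] [Module.Finite R C]
    (f : A →ₗ[R] B) (g : B →ₗ[R] C) (hf : Function.Injective f) (hg : Function.Surjective g) (hfg : Function.Exact f g) :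
    ((Module.length R B).toNat : ℤ) = (Module.length R A).toNat + (Module.length R C).toNat := by
  rw [Module.length_eq_add_of_exact f g hf hg hfg, ENat.toNat_add]
  · push_cast; ring
  · exact Module.length_ne_top
  · exact Module.length_ne_top



/-- Let R be an Artinian local ring. The length function defines a homomorphism of abelian groups
length_R : K'₀(R) → ℤ on the Grothendieck group of finite R-modules, sending the class of a finite
module M to its (finite) length. -/
theorem result (R : Type u) [CommRing R] [IsArtinianRing R] [IsLocalRing R] : ∃ φ : KZero.K0sub (fun M : ModuleCat.{u} R => Module.Finite R M) →+ ℤ, ∀ (M : ModuleCat.{u} R), Module.Finite R M → (φ (KZero.clSub (fun M : ModuleCat.{u} R => Module.Finite R M) M) : ℤ) = (Module.length R M).toNat := by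
  classical
  refine ⟨Groth.Agent.K0Cat.liftSub (P := Groth.Agent.K0Cat.finMods R) (fun M => ((Module.length R M.1).toNat : ℤ)) (fun S h₁ h₂ h₃ hS => ?_),
    fun M hM => Groth.Agent.K0Cat.liftSub_clSub (P := Groth.Agent.K0Cat.finMods R) (X := M) _ _ hM⟩
  have : Module.Finite R S.X₁ := h₁
  have : Module.Finite R S.X₃ := h₃
  exact length_add S.f.hom S.g.hom hS.moduleCat_injective_f hS.moduleCat_surjective_g
    ((ShortComplex.ShortExact.moduleCat_exact_iff_function_exact S).1 hS.exact)

end Groth.Agent.S6319
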