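import Groth.Statements.S6320
import Groth.Agent.Lib.CAlgLow.LengthLoc

set_option autoImplicit false
universe u
open CAlg

namespace Groth.Agent.S6320

/-- Let A be a local ring with maximal ideal m, B a semi-local ring with maximal ideals m₁, …, mₙ and A
→ B a ring map such that each mᵢ lies over m with [κ(mᵢ) : κ(m)] finite. Then for every B-module M
of finite length, length_A(M) = Σᵢ [κ(mᵢ) : κ(m)] · length_{B_{mᵢ}}(M_{mᵢ}); in particular
length_A(M) is finite. -/
theorem result {A B : Type u} [CommRing A] [IsLocalRing A] [CommRing B] [Algebra A B] [Finite (MaximalSpectrum B)] (hover : ∀ n : MaximalSpectrum B, n.asIdeal.comap (algebraMap A B) = IsLocalRing.maximalIdeal A) (hfin : ∀ n : MaximalSpectrum B, Module.Finite (A ⧸ n.asIdeal.comap (algebraMap A B)) (B ⧸ n.asIdeal)) (M : Type u) [AddCommGroup M] [Module B M] [Module A M] [IsScalarTower A B M] (hM : IsFiniteLength B M) : Module.length A M = ∑ᶠ n : MaximalSpectrum B, (Module.finrank (A ⧸ n.asIdeal.comap (algebraMap A B)) (B ⧸ n.asIdeal) : ℕ∞) * Module.length (Localization.AtPrime n.asIdeal) (LocalizedModule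 n.asIdeal.primeCompl M) := by
  classical
  have key : ∀ n : MaximalSpectrum B, Module.length A (B ⧸ n.asIdeal) =
      (Module.finrank (A ⧸ n.asIdeal.comap (algebraMap A B)) (B ⧸ n.asIdeal) : ℕ∞) := fun n => by
    have : (n.asIdeal.comap (algebraMap A B)).IsMaximal := by rw [hover]; infer_instance
    let _ := Ideal.Quotient.field (n.asIdeal.comap (algebraMap A B))
    have := hfin n
    have hs : IsScalarTower A (A ⧸ n.asIdeal.comap (algebraMap A B)) (B ⧸ n.asIdeal) :=
      IsScalarTower.of_algebraMap_eq fun a => rfl
    rw [Module.length_eq_of_surjective (R := A ⧸ n.asIdeal.comap (algebraMap A B)) (S := A) Ideal.Quotient.mk_surjective]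
    exact Module.length_eq_finrank _ _
  have := Fintype.ofFinite (MaximalSpectrum B)
  rw [finsum_eq_sum_of_fintype]
  suffices h : ∀ (X : Type u) (_ : AddCommGroup X) (_ : Module B X), IsFiniteLength B X →
      ∀ (_ : Module A X) (_ : IsScalarTower A B X), Module.length A X = ∑ n : MaximalSpectrum B,
      (Module.finrank (A ⧸ n.asIdeal.comap (algebraMap A B)) (B ⧸ n.asIdeal) : ℕ∞) *
        Module.length (Localization.AtPrime n.asIdeal) (LocalizedModule n.asIdeal.primeCompl X) from
    h M inferInstance inferInstance hM inferInstance inferInstance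
  intro X _ _ hX
  induction hX with
  | of_subsingleton =>
    intro _ _
    rw [Module.length_eq_zero]
    exact (Finset.sum_eq_zero fun n _ => by rw [Groth.Agent.CAlgLow.locLength_subsingleton, mul_zero]).symm
  | @of_simple_quotient Y _ _ N _ _ ih =>
    intro _ _
    rw [Module.length_eq_add_of_exact (R := A) (N.subtype.restrictScalars A) (N.mkQ.restrictScalars A)
      N.injective_subtype N.mkQ_surjective (LinearMap.exact_subtype_mkQ N)]
    have hsplit : ∀ n : MaximalSpectrum B, _ := fun n =>
      Groth.Agent.CAlgLow.locLength_add n.asIdeal N.subtype N.mkQ N.injective_subtype N.mkQ_surjective (LinearMap.exact_subtype_mkQ N)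
    simp only [hsplit, mul_add, Finset.sum_add_distrib]
    rw [ih inferInstance inferInstance]
    congr 1
    obtain ⟨J, hJ, ⟨e⟩⟩ := isSimpleModule_iff_quot_maximal.1 (inferInstance : IsSimpleModule B (Y ⧸ N))
    have hann : Module.annihilator B (Y ⧸ N) = J := by rw [e.annihilator_eq, J.annihilator_quotient]
    rw [Finset.sum_eq_single (⟨J, hJ⟩ : MaximalSpectrum B)]
    · rw [Groth.Agent.CAlgLow.locLength_simple, if_pos hann, mul_one, ← key]
      exact (e.restrictScalars A).length_eq
    · intro n _ hn
      rw [Groth.Agent.CAlgLow.locLength_simple, if_neg, mul_zero]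
      intro h
      exact hn (MaximalSpectrum.ext (h.symm.trans hann))
    · simp

end Groth.Agent.S6320
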