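import Groth.Statements.S6321
import Mathlib.RingTheory.Flat.EquationalCriterion
import Mathlib.RingTheory.RingHom.FaithfullyFlat
import Mathlib.Algebra.Colimit.Ring

set_option autoImplicit false
universe u
open CAlg

namespace Groth.Agent.S6321

theorem aux {R : Type u} [CommRing R] {ι : Type u} [Preorder ι] [Nonempty ι] [IsDirectedOrder ι]
    (G : ι → Type u) [∀ i, CommRing (G i)] [∀ i, Algebra R (G i)] (f : ∀ i j, i ≤ j → G i →+* G j)
    [DirectedSystem G fun i j h => f i j h]
    (hcompat : ∀ i j (h : i ≤ j), (f i j h).comp (algebraMap R (G i)) = algebraMap R (G j))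
    (hff : ∀ i, Module.FaithfullyFlat R (G i)) [Algebra R (Ring.DirectLimit G fun i j h => f i j h)]
    (halg : ∀ i r, Ring.DirectLimit.of G (fun i j h => f i j h) i (algebraMap R (G i) r) =
      algebraMap R (Ring.DirectLimit G fun i j h => f i j h) r) :
    Module.FaithfullyFlat R (Ring.DirectLimit G fun i j h => f i j h) := by
  classical
  let of := fun i => Ring.DirectLimit.of G (fun i j h => ⇑(f i j h)) i
  have hsmul : ∀ i (r : R) (v : G i), of i (r • v) = r • of i v := fun i r v => by
    rw [Algebra.smul_def, Algebra.smul_def, map_mul, ← halg i r]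
  have hstage : ∀ i (v : G i), of i v = 0 → ∃ (j : ι) (h : i ≤ j), f i j h v = 0 := fun i v h =>
    Ring.DirectLimit.of.zero_exact h
  have hcommon : ∀ {n : ℕ} (x : Fin n → Ring.DirectLimit G fun i j h => f i j h),
      ∃ (k : ι) (y : Fin n → G k), ∀ a, x a = of k (y a) := by
    intro n x
    choose i y hy using fun a => Ring.DirectLimit.exists_of (x a)
    obtain ⟨k, hk⟩ := Finset.exists_le (Finset.univ.image i)
    refine ⟨k, fun a => f (i a) k (hk _ (Finset.mem_image_of_mem _ (Finset.mem_univ a))) (y a), fun a => ?_⟩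
    rw [← hy a]
    exact (Ring.DirectLimit.of_f _ _).symm
  have : Module.Flat R (Ring.DirectLimit G fun i j h => f i j h) := by
    refine Module.Flat.iff_forall_isTrivialRelation.2 fun {l} {c} {x} hx => ?_
    obtain ⟨k, y, hy⟩ := hcommon x
    obtain ⟨j, hkj, hj⟩ := hstage k (∑ a, c a • y a) (by
      rw [map_sum]; simpa only [hsmul, ← hy] using hx)
    have h0 : ∑ a, c a • f k j hkj (y a) = 0 := by
      rw [← hj, map_sum]
      refine Finset.sum_congr rfl fun a _ => ?_
      rw [Algebra.smul_def, Algebra.smul_def, map_mul, ← RingHom.comp_apply, hcompat]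
    obtain ⟨m, A, z, hz1, hz2⟩ := Module.Flat.iff_forall_isTrivialRelation.1 (hff j).toFlat h0
    refine ⟨m, A, fun b => of j (z b), fun a => ?_, hz2⟩
    have e : x a = of j (f k j hkj (y a)) := (hy a).trans (Ring.DirectLimit.of_f hkj (y a)).symm
    rw [e, show f k j hkj (y a) = _ from hz1 a, map_sum]
    exact Finset.sum_congr rfl fun b _ => hsmul _ _ _
  refine ⟨fun {m} hm h => ?_⟩
  have h1 : (1 : Ring.DirectLimit G fun i j h => f i j h) ∈ m • (⊤ : Submodule R _) := by rw [h]; trivial
  rw [Ideal.smul_top_eq_map, Submodule.restrictScalars_mem] at h1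
  have key : ∀ z ∈ (m.map (algebraMap R (Ring.DirectLimit G fun i j h => f i j h))), ∃ (k : ι) (v : G k),
      v ∈ m.map (algebraMap R (G k)) ∧ z = of k v := by
    intro z hz
    induction hz using Submodule.span_induction with
    | mem z hz =>
      obtain ⟨r, hr, rfl⟩ := hz
      obtain ⟨k⟩ := ‹Nonempty ι›
      exact ⟨k, _, Ideal.mem_map_of_mem _ hr, (halg k r).symm⟩
    | zero => obtain ⟨k⟩ := ‹Nonempty ι›; exact ⟨k, 0, Ideal.zero_mem _, (map_zero _).symm⟩
    | add a b _ _ ha hb =>
      obtain ⟨k, v, hv, rfl⟩ := ha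
      obtain ⟨k', v', hv', rfl⟩ := hb
      obtain ⟨l, hkl, hk'l⟩ := exists_ge_ge k k'
      have e1 := Ideal.mem_map_of_mem (f k l hkl) hv
      have e2 := Ideal.mem_map_of_mem (f k' l hk'l) hv'
      rw [Ideal.map_map, hcompat] at e1 e2
      exact ⟨l, _, Ideal.add_mem _ e1 e2, by simp only [of, map_add, Ring.DirectLimit.of_f]⟩
    | smul a b _ hb =>
      obtain ⟨k, v, hv, rfl⟩ := hb
      obtain ⟨k', w, rfl⟩ := Ring.DirectLimit.exists_of a
      obtain ⟨l, hkl, hk'l⟩ := exists_ge_ge k k'
      have e1 := Ideal.mem_map_of_mem (f k l hkl) hv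
      rw [Ideal.map_map, hcompat] at e1
      exact ⟨l, _, Ideal.mul_mem_left _ (f k' l hk'l w) e1,
        by simp only [of, smul_eq_mul, map_mul, Ring.DirectLimit.of_f]⟩
  obtain ⟨k, v, hv, hv1⟩ := key 1 h1
  obtain ⟨l, hkl, hl⟩ := hstage k (v - 1) (by rw [map_sub, ← hv1, map_one, sub_self])
  rw [map_sub, map_one, sub_eq_zero] at hl
  have e1 := Ideal.mem_map_of_mem (f k l hkl) hv
  rw [Ideal.map_map, hcompat, hl] at e1
  refine (hff l).submodule_ne_top hm ?_
  rw [Ideal.smul_top_eq_map, (Ideal.eq_top_iff_one _).2 e1]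
  rfl



/-- Let R be a ring and (Sᵢ, φᵢⱼ) a directed system of faithfully flat R-algebras whose transition maps
are R-algebra maps. Then S = colim Sᵢ is a faithfully flat R-algebra: for any index i the composite
R → Sᵢ → S is faithfully flat. -/
theorem result {R : Type u} [CommRing R] {ι : Type u} [Preorder ι] [Nonempty ι] [IsDirected ι (· ≤ ·)] (G : ι → Type u) [∀ i, CommRing (G i)] [∀ i, Algebra R (G i)] (f : ∀ i j, i ≤ j → G i →+* G j) [DirectedSystem G fun i j h => f i j h] (hcompat : ∀ i j (h : i ≤ j), (f i j h).comp (algebraMap R (G i)) = algebraMap R (G j)) (hff : ∀ i, (algebraMap R (G i)).FaithfullyFlat) (i : ι) : ((Ring.DirectLimit.of G (fun i j h => f i j h) i).comp (algebraMap R (G i))).FaithfullyFlat := by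
  letI : Algebra R (Ring.DirectLimit G fun i j h => f i j h) :=
    ((Ring.DirectLimit.of G (fun i j h => f i j h) i).comp (algebraMap R (G i))).toAlgebra
  refine aux G f hcompat (fun j => RingHom.faithfullyFlat_algebraMap_iff.1 (hff j)) fun j r => ?_
  obtain ⟨k, hik, hjk⟩ := exists_ge_ge i j
  change _ = Ring.DirectLimit.of G (fun i j h => f i j h) i (algebraMap R (G i) r)
  rw [← Ring.DirectLimit.of_f (f := fun i j h => ⇑(f i j h)) hjk, ← Ring.DirectLimit.of_f (f := fun i j h => ⇑(f i j h)) hik,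
    ← RingHom.comp_apply (f i k hik), ← RingHom.comp_apply (f j k hjk), hcompat, hcompat]

end Groth.Agent.S6321
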