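import Groth.Statements.S6322
import Mathlib

set_option autoImplicit false
universe u
open CategoryTheory
open CAlg

namespace Groth.Agent.S6322


namespace Aux6322

open CategoryTheory Limits HomologicalComplex

universe v

variable {R : Type v} [CommRing R] {M N : ModuleCat.{v} R} {F Nc : ChainComplex (ModuleCat.{v} R) ℕ}
  [∀ i, Projective (F.X i)]
  (εF : F ⟶ (ChainComplex.single₀ (ModuleCat.{v} R)).obj M) (εN : Nc ⟶ (ChainComplex.single₀ (ModuleCat.{v} R)).obj N)

theorem d_comp_π {X : ModuleCat.{v} R} {C : ChainComplex (ModuleCat.{v} R) ℕ}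
    (π : C ⟶ (ChainComplex.single₀ (ModuleCat.{v} R)).obj X) : C.d 1 0 ≫ π.f 0 = 0 := by
  rw [← π.comm 1 0, single_obj_d, comp_zero]

variable [QuasiIso εN]

include εN in
theorem exact_succ (n : ℕ) : (ShortComplex.mk _ _ (Nc.d_comp_d (n + 2) (n + 1) n)).Exact :=
  ((exactAt_iff' _ (n + 2) (n + 1) n) (by simp only [ChainComplex.prev]; rfl) (by simp)).1
    ((quasiIsoAt_iff_exactAt' εN (n + 1) (ChainComplex.exactAt_succ_single_obj _ _)).1 inferInstance)

set_option backward.isDefEq.respectTransparency false in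
set_option backward.defeqAttrib.useBackward true in
/-- The augmentation is the cokernel of the first differential. -/
noncomputable def isColimit : IsColimit (CokernelCofork.ofπ (εN.f 0) (d_comp_π εN)) := by
  refine IsColimit.ofIsoColimit (Nc.opcyclesIsCokernel 1 0 (by simp)) ?_
  refine Cofork.ext (Nc.isoHomologyι₀.symm ≪≫ isoOfQuasiIsoAt εN 0 ≪≫
    singleObjHomologySelfIso _ _ _) ?_
  rw [← cancel_mono (singleObjHomologySelfIso (ComplexShape.down ℕ) 0 _).inv,
    ← cancel_mono (ChainComplex.isoHomologyι₀ _).hom]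
  dsimp
  simp only [ChainComplex.isoHomologyι₀_inv_naturality_assoc, p_opcyclesMap_assoc, ChainComplex.single₀_obj_zero,
    Category.assoc, Iso.hom_inv_id, Category.comp_id, isoHomologyι_inv_hom_id,
    singleObjHomologySelfIso_inv_homologyι, singleObjOpcyclesSelfIso_hom, singleObjXSelf, singleObjXIsoOfEq, Iso.refl_inv, Category.id_comp, eqToIso.inv, eqToHom_refl]

theorem exact₀ : (ShortComplex.mk _ _ (d_comp_π εN)).Exact :=
  ShortComplex.exact_of_g_is_cokernel _ (isColimit εN)

theorem epi₀ : Epi (εN.f 0) := epi_of_isColimit_cofork (isColimit εN)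

set_option backward.isDefEq.respectTransparency false in
theorem exists_lift (g : M ⟶ N) : ∃ φ : F ⟶ Nc, φ ≫ εN = εF ≫ (ChainComplex.single₀ (ModuleCat.{v} R)).map g := by
  haveI := epi₀ εN
  let z : F.X 0 ⟶ Nc.X 0 := Projective.factorThru (εF.f 0 ≫ g) (εN.f 0)
  have hz : z ≫ εN.f 0 = εF.f 0 ≫ g := Projective.factorThru_comp _ _
  let o : F.X 1 ⟶ Nc.X 1 := (exact₀ εN).liftFromProjective (F.d 1 0 ≫ z) (by
    show (F.d 1 0 ≫ z) ≫ εN.f 0 = 0
    erw [Category.assoc, hz, ← Category.assoc, d_comp_π εF, zero_comp])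
  refine ⟨ChainComplex.mkHom _ _ z o ((exact₀ εN).liftFromProjective_comp _ _) (fun n ⟨a, a', w⟩ =>
    ⟨(exact_succ εN n).liftFromProjective (F.d (n + 2) (n + 1) ≫ a') (by simp [w]),
      (exact_succ εN n).liftFromProjective_comp _ _⟩), ?_⟩
  refine to_single_hom_ext ?_
  rw [comp_f, comp_f, ChainComplex.mkHom_f_0]
  exact hz.trans (congrArg (εF.f 0 ≫ ·) (ChainComplex.single₀_map_f_zero g).symm)

theorem homotopy_zero (f : F ⟶ Nc) (comm : f ≫ εN = 0) : Nonempty (Homotopy f 0) := by
  let a : F.X 0 ⟶ Nc.X 1 := (exact₀ εN).liftFromProjective (f.f 0)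
    (congr_fun (congr_arg HomologicalComplex.Hom.f comm) 0)
  have ha : a ≫ Nc.d 1 0 = f.f 0 := (exact₀ εN).liftFromProjective_comp _ _
  let b : F.X 1 ⟶ Nc.X 2 := (exact_succ εN 0).liftFromProjective (f.f 1 - F.d 1 0 ≫ a)
    (by rw [Preadditive.sub_comp, Category.assoc, HomologicalComplex.Hom.comm, ha, sub_self])
  have hb : b ≫ Nc.d 2 1 = f.f 1 - F.d 1 0 ≫ a := (exact_succ εN 0).liftFromProjective_comp _ _
  exact ⟨Homotopy.mkInductive _ a ha.symm b (by rw [hb]; abel) fun n ⟨p, p', w⟩ =>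
    ⟨(exact_succ εN (n + 1)).liftFromProjective (f.f (n + 2) - F.d _ _ ≫ p') (by simp [w]),
      by erw [(exact_succ εN (n + 1)).liftFromProjective_comp]; abel⟩⟩

end Aux6322



/-- Let R be a ring, M → N a map of R-modules, N• → N a resolution (a chain complex with a
quasi-isomorphism onto N placed in degree 0) and … → F₁ → F₀ → M a complex with every Fᵢ free (F• a
chain complex with an augmentation to M in degree 0, exactness not required). Then (1) there is a
map of complexes F• → N• compatible with M → N through the augmentations, and (2) any two such maps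
are homotopic. -/
theorem result (R : Type u) [CommRing R] (M N : ModuleCat.{u} R) (g : M ⟶ N) (F Nc : ChainComplex (ModuleCat.{u} R) ℕ) (hF : ∀ i, Module.Free R (F.X i)) (εF : F ⟶ (ChainComplex.single₀ (ModuleCat.{u} R)).obj M) (εN : Nc ⟶ (ChainComplex.single₀ (ModuleCat.{u} R)).obj N) [QuasiIso εN] : (∃ φ : F ⟶ Nc, φ ≫ εN = εF ≫ (ChainComplex.single₀ (ModuleCat.{u} R)).map g) ∧ ∀ α β : F ⟶ Nc, α ≫ εN = εF ≫ (ChainComplex.single₀ (ModuleCat.{u} R)).map g → β ≫ εN = εF ≫ (ChainComplex.single₀ (ModuleCat.{u} R)).map g → Nonempty (Homotopy α β) := by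
  haveI : ∀ i, CategoryTheory.Projective (F.X i) := fun i =>
    haveI := hF i
    (IsProjective.iff_projective (F.X i)).1 inferInstance
  refine ⟨Aux6322.exists_lift εF εN g, fun α β hα hβ => ?_⟩
  obtain ⟨h⟩ := Aux6322.homotopy_zero εN (α - β) (by rw [CategoryTheory.Preadditive.sub_comp, hα, hβ, sub_self])
  exact ⟨Homotopy.equivSubZero.symm h⟩

end Groth.Agent.S6322
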