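import Groth.Statements.S6323
import Mathlib.RingTheory.Localization.Module
import Mathlib.LinearAlgebra.TensorProduct.Tower

set_option autoImplicit false
universe u
open CAlg

namespace Groth.Agent.S6323

open TensorProduct in
theorem ui_iff {A As : Type u} [CommRing A] [CommRing As] [Algebra A As] (S : Submonoid A) [IsLocalization S As]
    {M M' : Type u} [AddCommGroup M] [AddCommGroup M'] [Module A M] [Module A M'] [Module As M] [Module As M']
    [IsScalarTower A As M] [IsScalarTower A As M'] (f : M →ₗ[As] M') :
    CAlgX.UniversallyInjective A (f.restrictScalars A) ↔ CAlgX.UniversallyInjective As f := by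
  constructor
  · intro h Q _ _
    let _ : Module A Q := Module.compHom Q (algebraMap A As)
    have : IsScalarTower A As Q := IsScalarTower.of_algebraMap_smul fun _ _ => rfl
    have h1 := IsLocalization.tensorProduct_compatibleSMul S As M Q
    have h2 := IsLocalization.tensorProduct_compatibleSMul S As M' Q
    let c := TensorProduct.equivOfCompatibleSMul A As A M Q
    let c' := TensorProduct.equivOfCompatibleSMul A As A M' Q
    have e : ∀ z, (f.restrictScalars A).rTensor Q (c z) = c' (f.rTensor Q z) := by
      intro z
      induction z with
      | zero => simp
      | add u v hu hv => simp only [map_add, hu, hv]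
      | tmul u v => rfl
    intro a b hab
    refine c.injective (h Q ?_)
    rw [e, e, hab]
  · intro h Q _ _
    let c := AlgebraTensorModule.cancelBaseChange A As As M Q
    let c' := AlgebraTensorModule.cancelBaseChange A As As M' Q
    have e : ∀ z, (f.restrictScalars A).rTensor Q (c z) = c' (f.rTensor (As ⊗[A] Q) z) := by
      intro z
      induction z with
      | zero => simp
      | add u v hu hv => simp only [map_add, hu, hv]
      | tmul u v =>
        induction v with
        | zero => simp
        | add a b ha hb => simp only [tmul_add, map_add, ha, hb]
        | tmul a q => simp [c, c']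
    intro a b hab
    obtain ⟨a, rfl⟩ := c.surjective a
    obtain ⟨b, rfl⟩ := c.surjective b
    rw [e, e] at hab
    rw [h (As ⊗[A] Q) (c'.injective hab)]



/-- Let A → B be a ring homomorphism and S ⊆ A, S' ⊆ B multiplicative subsets with S carried into S', so
that there is an induced homomorphism S⁻¹A → (S')⁻¹B. For a linear map f : M → M' between
(S')⁻¹B-modules, f is universally injective over A (scalars restricted along A → (S')⁻¹B) precisely
when it is universally injective over S⁻¹A (scalars restricted along S⁻¹A → (S')⁻¹B). -/
theorem result {A B : Type u} [CommRing A] [CommRing B] [Algebra A B] (S : Submonoid A) (S' : Submonoid B) (hSS' : ∀ s ∈ S, algebraMap A B s ∈ S') (As Bs : Type u) [CommRing As] [CommRing Bs] [Algebra A As] [IsLocalization S As] [Algebra B Bs] [IsLocalization S' Bs] [Algebra As Bs] [Algebra A Bs] [IsScalarTower A B Bs] [IsScalarTower A As Bs] {M M' : Type u} [AddCommGroup M] [AddCommGroup M'] [Module Bs M] [Module Bs M'] [Module As M] [Module As M'] [Module A M] [Module A M'] [IsScalarTower As Bs M] [IsScalarTower As Bs M'] [IsScalarTower A As M] [IsScalarTower A As M'] [IsScalarTower A Bs M] [IsScalarTower A Bs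 M'] (f : M →ₗ[Bs] M') : CAlgX.UniversallyInjective A (f.restrictScalars A) ↔ CAlgX.UniversallyInjective As (f.restrictScalars As) := by
  exact ui_iff S (f.restrictScalars As)

end Groth.Agent.S6323
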