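import Groth.Statements.S6324
import Groth.Agent.Lib.IntIdealH1.Basic

set_option autoImplicit false
universe u
open CAlg

namespace Groth.Agent.S6324




/-- Let R → S be a ring map, I ⊆ R an ideal and A = Σ Iⁿtⁿ ⊆ R[t] the Rees algebra of I. For s ∈ S,
being integral over I is equivalent to s·t ∈ S[t] being integral over A (via A ⊆ R[t] → S[t]). -/
theorem result {R S : Type u} [CommRing R] [CommRing S] [Algebra R S] (I : Ideal R) (s : S) : W4stkalgebra1.IsIntegralOverIdeal I s ↔ ((Polynomial.mapRingHom (algebraMap R S)).comp (reesAlgebra I).val.toRingHom).IsIntegralElem (Polynomial.C s * Polynomial.X) := by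
  exact Groth.Agent.IntIdealH1.iff_isIntegralElem s

end Groth.Agent.S6324
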