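import Groth.Statements.S6325
import Groth.Agent.Lib.IntIdealH1.Basic

set_option autoImplicit false
universe u
open CAlg

namespace Groth.Agent.S6325




/-- Let R → S be a ring map and I ⊆ R an ideal. The elements of S integral over I form an R-submodule of
S; moreover, the product s s' is integral over I for any s ∈ S integral over R and any s' ∈ S
integral over I. -/
theorem result {R S : Type u} [CommRing R] [CommRing S] [Algebra R S] (I : Ideal R) : (∃ N : Submodule R S, ∀ s : S, s ∈ N ↔ W4stkalgebra1.IsIntegralOverIdeal I s) ∧ (∀ s s' : S, IsIntegral R s → W4stkalgebra1.IsIntegralOverIdeal I s' → W4stkalgebra1.IsIntegralOverIdeal I (s * s')) := by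
  let φ := Groth.Agent.IntIdealH1.reesMap (S := S) I
  have hC : ∀ r : R, φ (algebraMap R (reesAlgebra I) r) = Polynomial.C (algebraMap R S r) := fun r => by
    show Polynomial.map (algebraMap R S) (algebraMap R (Polynomial R) r) = _
    rw [Polynomial.algebraMap_eq, Polynomial.map_C]
  simp only [Groth.Agent.IntIdealH1.iff_isIntegralElem]
  refine ⟨⟨{ carrier := {s | φ.IsIntegralElem (Polynomial.C s * Polynomial.X)}
             add_mem' := fun {a b} ha hb => ?_
             zero_mem' := ?_
             smul_mem' := fun r a ha => ?_ }, fun s => Iff.rfl⟩, fun s s' hs hs' => ?_⟩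
  · show φ.IsIntegralElem _
    rw [map_add, add_mul]
    exact RingHom.IsIntegralElem.add φ ha hb
  · show φ.IsIntegralElem _
    rw [map_zero, zero_mul]
    exact φ.isIntegralElem_zero
  · show φ.IsIntegralElem _
    rw [Algebra.smul_def, map_mul, mul_assoc, ← hC]
    exact RingHom.IsIntegralElem.mul φ φ.isIntegralElem_map ha
  · rw [map_mul, mul_assoc]
    refine RingHom.IsIntegralElem.mul φ ?_ hs'
    obtain ⟨p, hp, he⟩ := hs
    refine ⟨p.map (algebraMap R (reesAlgebra I)), hp.map _, ?_⟩
    rw [Polynomial.eval₂_map, show φ.comp (algebraMap R (reesAlgebra I)) = Polynomial.C.comp (algebraMap R S) from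
      RingHom.ext hC, ← Polynomial.hom_eval₂, he, map_zero]

end Groth.Agent.S6325
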