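import Groth.Statements.S6329
import Groth.Agent.Lib.CAlgLow.LengthLoc

set_option autoImplicit false
universe u
open CAlg

namespace Groth.Agent.S6329

/-- Let R be a ring, M an R-module and 0 = M₀ ⊂ M₁ ⊂ … ⊂ Mₙ = M a maximal chain of submodules (a
composition series; each Mᵢ/Mᵢ₋₁ is simple, of the form R/mᵢ with mᵢ = (Mᵢ₋₁ : Mᵢ) maximal). Then
for every maximal ideal m of R the number of indices i with mᵢ = m equals length_{R_m}(M_m). -/
theorem result {R : Type u} [CommRing R] (M : Type u) [AddCommGroup M] [Module R M] (s : CompositionSeries (Submodule R M)) (h0 : s.head = ⊥) (h1 : s.last = ⊤) (m : Ideal R) [m.IsMaximal] : ((Finset.univ.filter fun i : Fin s.length => (s i.castSucc).colon (s i.succ : Set M) = m).card : ℕ∞) = Module.length (Localization.AtPrime m) (LocalizedModule m.primeCompl M) := by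
  classical
  have h := Groth.Agent.CAlgLow.locLength_compositionSeries m s h0 (Fin.last _)
  have hlast : s (Fin.last _) = (⊤ : Submodule R M) := h1
  rw [hlast] at h
  have e : Module.length (Localization.AtPrime m) (LocalizedModule m.primeCompl (⊤ : Submodule R M)) =
      Module.length (Localization.AtPrime m) (LocalizedModule m.primeCompl M) := by
    rw [Groth.Agent.CAlgLow.locLength_add m (⊤ : Submodule R M).subtype (0 : M →ₗ[R] PUnit.{u + 1})
      (Submodule.injective_subtype _) (Function.surjective_to_subsingleton _)
      (LinearMap.exact_iff.2 (by simp)), Groth.Agent.CAlgLow.locLength_subsingleton m PUnit.{u + 1}, add_zero]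
  rw [← e, h]
  congr 2
  ext j
  simp [Fin.val_last, j.2]

end Groth.Agent.S6329
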