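import Groth.Statements.S6331
import Mathlib.Dynamics.Newton
import Mathlib.RingTheory.Ideal.Quotient.Operations

set_option autoImplicit false
universe u
open CAlg

namespace Groth.Agent.S6331

open Polynomial in
theorem aux {R : Type u} [CommRing R] (I : Ideal R) (hI : ∀ x ∈ I, IsNilpotent x) (n : ℕ)
    (hinv : IsUnit ((n : ℕ) : R ⧸ I)) (y : R) (hy : y ∈ I) : ∃! x : R, x ∈ I ∧ (1 + x) ^ n = 1 + y := by
  have hnu : IsUnit (n : R) := by
    obtain ⟨v, hv⟩ := hinv.exists_left_inv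
    obtain ⟨v, rfl⟩ := Ideal.Quotient.mk_surjective v
    rw [← map_natCast (Ideal.Quotient.mk I), ← map_mul, ← map_one (Ideal.Quotient.mk I), Ideal.Quotient.eq] at hv
    have := (hI _ hv).isUnit_add_one
    rw [sub_add_cancel] at this
    exact isUnit_of_mul_isUnit_right this
  let P : R[X] := (1 + X) ^ n - C (1 + y)
  have hP : ∀ r, aeval r P = (1 + r) ^ n - (1 + y) := fun r => by simp [P]
  obtain ⟨r, ⟨hr, hr0⟩, huniq⟩ := Polynomial.existsUnique_nilpotent_sub_and_aeval_eq_zero (x := (0 : R)) (P := P)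
    (by rw [hP]; simpa using hI _ hy) (by simp [P, derivative_pow, hnu])
  rw [zero_sub, isNilpotent_neg_iff] at hr
  rw [hP, sub_eq_zero] at hr0
  refine ⟨r, ⟨?_, hr0⟩, fun x hx => huniq x ⟨by rw [zero_sub, isNilpotent_neg_iff]; exact hI x hx.1,
    by rw [hP, hx.2, sub_self]⟩⟩
  have hu : IsUnit (∑ i ∈ Finset.range n, (1 + r) ^ i) := by
    have hsum : ∑ i ∈ Finset.range n, (1 + r) ^ i = (∑ i ∈ Finset.range n, ((1 + r) ^ i - 1)) + n := by simp
    rw [hsum]
    refine IsNilpotent.isUnit_add_right_of_commute ?_ hnu (Commute.all _ _)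
    refine isNilpotent_sum fun i _ => ?_
    obtain ⟨c, hc⟩ := sub_dvd_pow_sub_pow (1 + r) 1 i
    rw [one_pow, add_sub_cancel_left] at hc
    rw [hc]
    exact (Commute.all r c).isNilpotent_mul_right hr
  have hg := geom_sum_mul (1 + r) n
  rw [hr0, add_sub_cancel_left, add_sub_cancel_left] at hg
  exact (Ideal.unit_mul_mem_iff_mem _ hu).1 (hg.symm ▸ hy)



/-- Let R be a ring, I ⊆ R an ideal all of whose elements are nilpotent, and n ≥ 1 an integer whose
image in R/I is invertible. Then (1) raising to the n-th power is a bijection of the subset 1 + I of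
R onto itself: for every y ∈ I there is exactly one x ∈ I with (1 + x)ⁿ = 1 + y; (2) a unit u of R
has an n-th root in R exactly when the residue class of u has an n-th root in R/I. -/
theorem result {R : Type u} [CommRing R] (I : Ideal R) (hI : ∀ x ∈ I, IsNilpotent x) (n : ℕ) (hn : 1 ≤ n) (hinv : IsUnit ((n : ℕ) : R ⧸ I)) : (∀ y ∈ I, ∃! x : R, x ∈ I ∧ (1 + x) ^ n = 1 + y) ∧ (∀ u : Rˣ, (∃ v : R, v ^ n = (u : R)) ↔ ∃ w : R ⧸ I, w ^ n = Ideal.Quotient.mk I (u : R)) := by
  refine ⟨aux I hI n hinv, fun u => ⟨fun ⟨v, hv⟩ => ⟨Ideal.Quotient.mk I v, by rw [← map_pow, hv]⟩, ?_⟩⟩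
  rintro ⟨w, hw⟩
  obtain ⟨v₀, rfl⟩ := Ideal.Quotient.mk_surjective w
  rw [← map_pow, Ideal.Quotient.eq] at hw
  have hu : IsUnit (v₀ ^ n) := by
    have := (hI _ hw).isUnit_add_left_of_commute u.isUnit (Commute.all _ _)
    rwa [add_sub_cancel] at this
  obtain ⟨c, hc⟩ := hu.exists_left_inv
  obtain ⟨x, ⟨-, hx⟩, -⟩ := aux I hI n hinv (c * ((u : R) - v₀ ^ n))
    (Ideal.mul_mem_left _ _ (by rw [← neg_sub]; exact neg_mem hw))
  refine ⟨v₀ * (1 + x), ?_⟩
  rw [mul_pow, hx]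
  linear_combination ((u : R) - v₀ ^ n) * hc

end Groth.Agent.S6331
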