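import Groth.Statements.S6334
import Mathlib

set_option autoImplicit false
universe u
open Fields

namespace Groth.Agent.S6334

open IntermediateField in
/-- Let E/F be a finite purely inseparable extension of fields of characteristic p > 0. Then there are
elements a_1, ..., a_n of E generating E over F such that for each i the p-th power of a_i lies in
F(a_1, ..., a_{i-1}) while a_i itself does not (so each step adjoins a p-th root and has degree p);
in particular [E : F] = p ^ n. -/
theorem result {F E : Type u} [Field F] [Field E] [Algebra F E] (p : ℕ)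
    [Fact p.Prime] [CharP F p] [FiniteDimensional F E] [IsPurelyInseparable F E] :
    ∃ (n : ℕ) (a : Fin n → E), adjoin F (Set.range a) = ⊤ ∧
      (∀ i : Fin n, a i ^ p ∈ adjoin F (a '' {j | j < i}) ∧ a i ∉ adjoin F (a '' {j | j < i})) ∧
      Module.finrank F E = p ^ n := by
  classical
  have hp : p.Prime := Fact.out
  have : ExpChar F p := ExpChar.prime hp
  let Good : ℕ → Prop := fun n => ∃ a : Fin n → E,
    (∀ i : Fin n, a i ^ p ∈ adjoin F (a '' {j | j < i}) ∧ a i ∉ adjoin F (a '' {j | j < i})) ∧
      Module.finrank F (adjoin F (Set.range a)) = p ^ n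
  have h0 : Good 0 := ⟨Fin.elim0, fun i => i.elim0, by
    rw [Set.range_eq_empty, adjoin_empty, IntermediateField.finrank_bot, pow_zero]⟩
  have hbound : ∀ n, Good n → p ^ n ≤ Module.finrank F E := by
    rintro n ⟨a, -, hn⟩
    rw [← hn]
    exact Submodule.finrank_le (adjoin F (Set.range a)).toSubalgebra.toSubmodule
  have hfin : ∃ n, Good n ∧ ¬ Good (n + 1) := by
    by_contra hc
    push Not at hc
    have hall : ∀ n, Good n := fun n => Nat.rec h0 (fun n ih => hc n ih) n
    have := hbound _ (hall (Module.finrank F E))
    have := Nat.lt_pow_self (n := Module.finrank F E) hp.one_lt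
    omega
  obtain ⟨n, ⟨a, ha, hn⟩, hnext⟩ := hfin
  set F' := adjoin F (Set.range a) with hF'
  have htop : F' = ⊤ := by
    by_contra hne
    obtain ⟨x, hx⟩ : ∃ x : E, x ∉ F' := by
      by_contra hc
      push Not at hc
      exact hne (eq_top_iff.2 fun x _ => hc x)
    obtain ⟨m, y, hy⟩ := IsPurelyInseparable.pow_mem F p x
    have hex : ∃ m, x ^ p ^ m ∈ F' := ⟨m, hy ▸ F'.algebraMap_mem y⟩
    have hm0 : Nat.find hex ≠ 0 := fun h => hx (by simpa [h] using Nat.find_spec hex)
    set b := x ^ p ^ (Nat.find hex - 1) with hb
    have hb1 : b ∉ F' := Nat.find_min hex (by omega)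
    have hb2 : b ^ p ∈ F' := by
      rw [hb, ← pow_mul, ← pow_succ, Nat.sub_add_cancel (Nat.one_le_iff_ne_zero.2 hm0)]
      exact Nat.find_spec hex
    apply hnext
    refine ⟨Fin.snoc a b, fun i => ?_, ?_⟩
    · induction i using Fin.lastCases with
      | last =>
        rw [Fin.snoc_last, show (Fin.snoc a b : Fin (n + 1) → E) '' {j | j < Fin.last n} = Set.range a from ?_]
        · exact ⟨hb2, hb1⟩
        · ext z
          constructor
          · rintro ⟨j, hj, rfl⟩
            obtain ⟨j, rfl⟩ := Fin.exists_castSucc_eq.2 (ne_of_lt hj)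
            exact ⟨j, (Fin.snoc_castSucc (α := fun _ => E) b a j).symm⟩
          · rintro ⟨j, rfl⟩
            exact ⟨j.castSucc, Fin.castSucc_lt_last j, Fin.snoc_castSucc (α := fun _ => E) b a j⟩
      | cast i =>
        rw [Fin.snoc_castSucc, show (Fin.snoc a b : Fin (n + 1) → E) '' {j | j < i.castSucc} = a '' {j | j < i} from ?_]
        · exact ha i
        · ext z
          constructor
          · rintro ⟨j, hj, rfl⟩
            obtain ⟨j, rfl⟩ := Fin.exists_castSucc_eq.2 (ne_of_lt (lt_of_lt_of_le hj (Fin.le_last _)))
            exact ⟨j, Fin.castSucc_lt_castSucc_iff.1 hj, (Fin.snoc_castSucc (α := fun _ => E) b a j).symm⟩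
          · rintro ⟨j, hj, rfl⟩
            exact ⟨j.castSucc, Fin.castSucc_lt_castSucc_iff.2 hj, Fin.snoc_castSucc (α := fun _ => E) b a j⟩
    · have hrange : Set.range (Fin.snoc a b : Fin (n + 1) → E) = Set.range a ∪ {b} := by
        rw [Fin.range_snoc, Set.insert_eq, Set.union_comm]
      rw [hrange, ← adjoin_adjoin_left]
      have hmul : Module.finrank F F' * Module.finrank F' (adjoin F' ({b} : Set E)) = Module.finrank F ((adjoin F' ({b} : Set E)).restrictScalars F) := by
        have h1 := Module.finrank_mul_finrank F' (adjoin F' ({b} : Set E)) E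
        have h2 := Module.finrank_mul_finrank F F' E
        have h3 : Module.finrank F ((adjoin F' ({b} : Set E)).restrictScalars F) * Module.finrank (adjoin F' ({b} : Set E)) E = Module.finrank F E :=
          Module.finrank_mul_finrank F ((adjoin F' ({b} : Set E)).restrictScalars F) E
        have hpos : 0 < Module.finrank (adjoin F' ({b} : Set E)) E := Module.finrank_pos
        rw [← h2, ← h1, ← mul_assoc] at h3
        exact (Nat.eq_of_mul_eq_mul_right hpos h3).symm
      rw [← hmul, hn, pow_succ]
      congr 1
      have hirr : Irreducible (Polynomial.X ^ p - Polynomial.C (⟨b ^ p, hb2⟩ : F')) := by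
        refine X_pow_sub_C_irreducible_of_prime hp fun c hc => hb1 ?_
        have hc' : ((c : E)) ^ p = b ^ p := congrArg Subtype.val hc
        have : ExpChar E p := expChar_of_injective_algebraMap (algebraMap F E).injective p
        rw [← frobenius_inj E p hc']
        exact c.2
      rw [adjoin.finrank (Algebra.IsIntegral.isIntegral b), ← minpoly.eq_of_irreducible_of_monic hirr (by simp [Subtype.ext_iff]) (Polynomial.monic_X_pow_sub_C _ hp.ne_zero),
        Polynomial.natDegree_X_pow_sub_C]
  refine ⟨n, a, htop, ha, ?_⟩
  rw [← hn, htop, IntermediateField.finrank_top']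

end Groth.Agent.S6334
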