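import Groth.Statements.S6335
import Mathlib

set_option autoImplicit false
universe u
open Fields

namespace Groth.Agent.S6335

/-- Let K be a field of characteristic p > 0, L/K a separable algebraic extension and a an element of L.
If a is a root of a polynomial P over K which is separable (pairwise distinct roots in an algebraic
closure) and all of whose coefficients are p-th powers in K, then a is a p-th power in L. (Part (1),
the case where P is the minimal polynomial of a, is a special case.) -/
theorem result {K L : Type u} [Field K] [Field L] [Algebra K L]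
    (p : ℕ) [Fact p.Prime] [CharP K p] [Algebra.IsSeparable K L] (a : L) (P : Polynomial K)
    (hroot : Polynomial.aeval a P = 0) (hsep : P.Separable) (hcoeff : ∀ i : ℕ, ∃ b : K, b ^ p = P.coeff i) :
    ∃ c : L, c ^ p = a := by
  have hp : p.Prime := Fact.out
  have : ExpChar K p := ExpChar.prime hp
  have : CharP L p := charP_of_injective_algebraMap (algebraMap K L).injective p
  have : ExpChar L p := ExpChar.prime hp
  let K₀ : Subfield K := (frobenius K p).fieldRange
  choose bc hbc using hcoeff
  have hlift : ∃ P₀ : Polynomial K₀, P₀.map K₀.subtype = P := by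
    have : P ∈ Polynomial.lifts K₀.subtype :=
      (Polynomial.lifts_iff_coeff_lifts P).2 fun i => ⟨⟨P.coeff i, bc i, hbc i⟩, rfl⟩
    exact (Polynomial.mem_lifts P).1 this
  obtain ⟨P₀, hP₀⟩ := hlift
  let L₀ : IntermediateField K₀ L :=
    Subfield.toIntermediateField (frobenius L p).fieldRange (fun y => by
      obtain ⟨z, hz⟩ := y.2
      refine ⟨algebraMap K L z, ?_⟩
      rw [frobenius_def] at hz ⊢
      rw [← map_pow, hz]
      rfl)
  have : ExpChar K₀ p := ExpChar.prime hp
  have hroot₀ : Polynomial.aeval a P₀ = 0 := by
    rw [← hroot, ← hP₀, Polynomial.aeval_def, Polynomial.aeval_def, Polynomial.eval₂_map]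
    rfl
  have hsep₀ : IsSeparable K₀ a := by
    rw [← hP₀, Polynomial.separable_map] at hsep
    exact hsep.of_dvd (minpoly.dvd K₀ a hroot₀)
  have : Algebra.IsSeparable K₀ (IntermediateField.adjoin K₀ ({a} : Set L)) :=
    (IntermediateField.isSeparable_adjoin_simple_iff_isSeparable K₀ L).2 hsep₀
  have h := IntermediateField.adjoin_eq_adjoin_pow_expChar_of_isSeparable (F := K₀) (E := L) ({a} : Set L) p
  have hle : IntermediateField.adjoin K₀ ((fun y : L => y ^ p) '' ({a} : Set L)) ≤ L₀ := by
    rw [IntermediateField.adjoin_le_iff]
    rintro _ ⟨y, rfl, rfl⟩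
    exact ⟨y, rfl⟩
  have ha : a ∈ L₀ := hle (h ▸ IntermediateField.mem_adjoin_simple_self K₀ a)
  exact ha

end Groth.Agent.S6335
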