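import Groth.Statements.S6336
import Mathlib

set_option autoImplicit false
universe u
open Fields

namespace Groth.Agent.S6336

open IntermediateField Polynomial in
/-- With an added hypothesis: let L/K be a finite extension of degree e generated by a single element a
whose e-th power lies in K, and assume that the polynomial X ^ e - 1 splits into linear factors over
K (so every e-th root of unity of any extension of K already lies in K; this holds when K contains a
primitive e-th root of unity, and when e is a power of the characteristic). Then every intermediate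
field of L/K is generated by a ^ d for some divisor d of e. (The published statement has no
hypothesis on roots of unity; for K the rationals and a a primitive 8-th root of unity, e = 4 and a
^ 4 = -1, the intermediate field generated by a + a⁻¹, a square root of 2, is none of K(a), K(a ^
2), K(a ^ 4); the published proof uses that the e-th roots of unity met are fixed by the
automorphisms it constructs, which the splitting hypothesis guarantees.) -/
theorem result {K L : Type u} [Field K] [Field L] [Algebra K L]
    [FiniteDimensional K L] (a : L) (ha : K⟮a⟯ = ⊤)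
    (hpow : a ^ Module.finrank K L ∈ Set.range (algebraMap K L))
    (hroots : (X ^ Module.finrank K L - 1 : K[X]).Splits) (L' : IntermediateField K L) :
    ∃ d : ℕ, d ∣ Module.finrank K L ∧ L' = K⟮a ^ d⟯ := by
  classical
  set n := Module.finrank K L with hn
  have hn0 : 0 < n := Module.finrank_pos
  by_cases ha0 : a = 0
  · have hb : (⊥ : IntermediateField K L) = ⊤ := by rw [← ha, ha0, adjoin_zero]
    refine ⟨1, one_dvd _, ?_⟩
    rw [pow_one, ha, eq_top_iff, ← hb]
    exact bot_le
  obtain ⟨c, hc⟩ := hpow
  set q := minpoly L' a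
  have hq : q.Monic := minpoly.monic (Algebra.IsIntegral.isIntegral a)
  have hdvd : q.map (algebraMap L' L) ∣ X ^ n - C (a ^ n) := by
    have : q ∣ X ^ n - C (algebraMap K L' c) := by
      refine minpoly.dvd L' a ?_
      rw [map_sub, map_pow, aeval_X, aeval_C, ← IsScalarTower.algebraMap_apply, hc, sub_self]
    have := Polynomial.map_dvd (algebraMap L' L) this
    rwa [Polynomial.map_sub, Polynomial.map_pow, map_X, map_C, ← IsScalarTower.algebraMap_apply, hc] at this
  have hroot : ∀ r ∈ (X ^ n - C (a ^ n) : L[X]).roots, ∃ ζ : K, r = algebraMap K L ζ * a := by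
    intro r hr
    rw [mem_roots (X_pow_sub_C_ne_zero hn0 _), IsRoot, eval_sub, eval_pow, eval_X, eval_C, sub_eq_zero] at hr
    have h1 : (r / a) ^ n = 1 := by rw [div_pow, hr, div_self (pow_ne_zero _ ha0)]
    obtain ⟨ζ, hζ⟩ := hroots.mem_range_of_isRoot (by simpa using X_pow_sub_C_ne_zero hn0 (1 : K) : (X ^ n - 1 : K[X]) ≠ 0) (x := r / a) (by simp [IsRoot, h1])
    exact ⟨ζ, by rw [hζ, div_mul_cancel₀ _ ha0]⟩
  have hsplitX : (X ^ n - C (a ^ n) : L[X]).Splits := by
    have h1 : (X ^ n - C (a ^ n) : L[X]) = C (a ^ n) * ((X ^ n - 1 : K[X]).map (algebraMap K L)).comp (C a⁻¹ * X) := by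
      simp only [Polynomial.map_sub, Polynomial.map_pow, map_X, Polynomial.map_one, sub_comp, pow_comp, X_comp, one_comp, mul_sub, mul_pow, mul_one]
      rw [← C_pow, ← mul_assoc, ← map_mul, ← mul_pow, mul_inv_cancel₀ ha0, one_pow, map_one, one_mul]
    rw [h1]
    exact (Polynomial.Splits.C _).mul ((hroots.map _).comp_of_degree_le_one (degree_C_mul_X_le _))
  have hqsplit : (q.map (algebraMap L' L)).Splits := hsplitX.of_dvd (X_pow_sub_C_ne_zero hn0 _) hdvd
  have hroots' : ∀ r ∈ (q.map (algebraMap L' L)).roots, ∃ ζ : K, r = algebraMap K L ζ * a := fun r hr =>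
    hroot r (Multiset.mem_of_le (roots.le_of_dvd (X_pow_sub_C_ne_zero hn0 _) hdvd) hr)
  have hprod : ∀ S : Multiset L, (∀ r ∈ S, ∃ ζ : K, r = algebraMap K L ζ * a) → ∃ z : K, S.prod = algebraMap K L z * a ^ Multiset.card S := by
    intro S hS
    induction S using Multiset.induction with
    | empty => exact ⟨1, by simp⟩
    | cons r S ih =>
      obtain ⟨z, hz⟩ := ih fun r hr => hS r (Multiset.mem_cons_of_mem hr)
      obtain ⟨ζ, hζ⟩ := hS r (Multiset.mem_cons_self _ _)
      exact ⟨ζ * z, by rw [Multiset.prod_cons, hz, hζ, Multiset.card_cons, map_mul, pow_succ]; ring⟩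
  obtain ⟨z, hz⟩ := hprod _ hroots'
  have hcard : Multiset.card (q.map (algebraMap L' L)).roots = q.natDegree := by
    rw [← hqsplit.natDegree_eq_card_roots, natDegree_map]
  have hcoeff := hqsplit.coeff_zero_eq_prod_roots_of_monic (hq.map _)
  rw [natDegree_map, coeff_map, hz, hcard] at hcoeff
  set d := q.natDegree
  have hd : Module.finrank L' L = d := by
    have htop : adjoin L' ({a} : Set L) = ⊤ := by
      rw [eq_top_iff]
      intro y _
      exact (adjoin_le_iff.2 (IntermediateField.subset_adjoin L' _) : K⟮a⟯ ≤ (adjoin L' ({a} : Set L)).restrictScalars K) (ha ▸ mem_top)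
    rw [← IntermediateField.finrank_top' (F := L') (E := L), ← htop]
    exact adjoin.finrank (Algebra.IsIntegral.isIntegral a)
  have hz0 : z ≠ 0 := by
    rintro rfl
    rw [map_zero, zero_mul, mul_zero] at hcoeff
    refine minpoly.coeff_zero_ne_zero (Algebra.IsIntegral.isIntegral (R := L') a) ha0 ((algebraMap L' L).injective ?_)
    rw [hcoeff, map_zero]
  have hmem : a ^ d ∈ L' := by
    have h2 : a ^ d = (algebraMap K L z)⁻¹ * ((-1) ^ d * algebraMap L' L (q.coeff 0)) := by
      rw [hcoeff, ← mul_assoc ((-1 : L) ^ d), ← mul_pow, neg_one_mul, neg_neg, one_pow, one_mul, ← mul_assoc, inv_mul_cancel₀ ((_root_.map_ne_zero _).2 hz0), one_mul]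
    rw [h2]
    exact L'.mul_mem (L'.inv_mem (L'.algebraMap_mem z)) (L'.mul_mem (pow_mem (L'.neg_mem L'.one_mem) _) (q.coeff 0).2)
  have hdn : d ∣ n := ⟨Module.finrank K L', by rw [← hd, mul_comm, Module.finrank_mul_finrank]⟩
  refine ⟨d, hdn, ?_⟩
  set L'' := K⟮a ^ d⟯
  have hle : L'' ≤ L' := adjoin_simple_le_iff.2 hmem
  have hd0 : 0 < d := hd ▸ Module.finrank_pos
  have h3 : Module.finrank L'' L ≤ d := by
    have htop : adjoin L'' ({a} : Set L) = ⊤ := by
      rw [eq_top_iff]
      intro y _
      exact (adjoin_le_iff.2 (IntermediateField.subset_adjoin L'' _) : K⟮a⟯ ≤ (adjoin L'' ({a} : Set L)).restrictScalars K) (ha ▸ mem_top)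
    rw [← IntermediateField.finrank_top' (F := L'') (E := L), ← htop, adjoin.finrank (Algebra.IsIntegral.isIntegral a)]
    refine (natDegree_le_of_dvd (minpoly.dvd L'' a (p := X ^ d - C (⟨a ^ d, mem_adjoin_simple_self K _⟩ : L'')) ?_) (X_pow_sub_C_ne_zero hd0 _)).trans natDegree_X_pow_sub_C.le
    simp
  have h4 := Module.finrank_mul_finrank K L'' L
  have h5 := Module.finrank_mul_finrank K L' L
  rw [hd] at h5
  refine (IntermediateField.eq_of_le_of_finrank_le hle ?_).symm
  nlinarith

end Groth.Agent.S6336
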