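import Groth.Statements.S6342
import Groth.Agent.Lib.CAlgLow.ML

set_option autoImplicit false
universe u
open CAlg

namespace Groth.Agent.S6342

/-- Let R → S be a ring map such that S is Mittag-Leffler as an R-module, and let M be an S-module which
is flat and Mittag-Leffler over S. Then M is Mittag-Leffler as an R-module. -/
theorem result (R S : Type u) [CommRing R] [CommRing S] [Algebra R S]
    (M : Type u) [AddCommGroup M] [Module S M] [Module R M] [IsScalarTower R S M]
    (hS : CAlg.IsMittagLeffler R S) [Module.Flat S M] (hM : CAlg.IsMittagLeffler S M) :
    CAlg.IsMittagLeffler R M := by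
  exact Groth.Agent.CAlgLow.isMittagLeffler_restrict (R := R) hM fun ι Q _ _ =>
    Module.Flat.lTensor_preserves_injective_linearMap _ fun a b hab => hS ι Q hab

end Groth.Agent.S6342
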