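import Groth.Statements.S6350
import Groth.Agent.Lib.CAlgLow.NilLift
import Mathlib.LinearAlgebra.DirectSum.Finsupp

set_option autoImplicit false
universe u
open scoped TensorProduct
open CAlg

namespace Groth.Agent.S6350

/-- Let (R, m) be a local ring with nilpotent maximal ideal and M a flat R-module. A family of elements
of M is a basis of M over R if and only if its image is a basis of the R/m-vector space M/mM = R/m ⊗
M. -/
theorem result (R : Type u) [CommRing R] [IsLocalRing R]
    (hnil : IsNilpotent (IsLocalRing.maximalIdeal R)) (M : Type u) [AddCommGroup M] [Module R M] [Module.Flat R M]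
    {A : Type u} (x : A → M) :
    (LinearIndependent R x ∧ Submodule.span R (Set.range x) = ⊤) ↔
      (LinearIndependent (R ⧸ IsLocalRing.maximalIdeal R)
          (fun a => (1 : R ⧸ IsLocalRing.maximalIdeal R) ⊗ₜ[R] x a) ∧
        Submodule.span (R ⧸ IsLocalRing.maximalIdeal R)
          (Set.range fun a => (1 : R ⧸ IsLocalRing.maximalIdeal R) ⊗ₜ[R] x a) = ⊤) := by
  classical
  let I := IsLocalRing.maximalIdeal R
  let f : (A →₀ R) →ₗ[R] M := Finsupp.linearCombination R x
  let e : (R ⧸ I) ⊗[R] (A →₀ R) ≃ₗ[R ⧸ I] (A →₀ (R ⧸ I)) := TensorProduct.finsuppScalarRight R (R ⧸ I) (R ⧸ I) A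
  have hkey : Finsupp.linearCombination (R ⧸ I) (fun a => (1 : R ⧸ I) ⊗ₜ[R] x a) = f.baseChange (R ⧸ I) ∘ₗ e.symm.toLinearMap := by
    refine Finsupp.lhom_ext fun a c => ?_
    simp [f, e, TensorProduct.smul_tmul']
  have hb : ∀ (S : Type u) [CommRing S] (N : Type u) [AddCommGroup N] [Module S N] (y : A → N),
      (LinearIndependent S y ∧ Submodule.span S (Set.range y) = ⊤) ↔ Function.Bijective (Finsupp.linearCombination S y) :=
    fun S _ N _ _ y => and_congr Iff.rfl (by
      rw [← Finsupp.range_linearCombination, LinearMap.range_eq_top])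
  rw [hb, hb, hkey]
  change Function.Bijective f ↔ Function.Bijective (f.baseChange (R ⧸ I) ∘ e.symm)
  constructor
  · intro h
    exact ((LinearEquiv.ofBijective f h).lTensor (R ⧸ I)).bijective.comp e.symm.bijective
  · intro h
    exact Groth.Agent.CAlgLow.bijective_of_bijective_baseChange_nilpotent hnil f
      ((Function.Bijective.of_comp_iff _ e.symm.bijective).1 h)

end Groth.Agent.S6350
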