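import Groth.Statements.S6351
import Groth.Agent.Lib.CAlgLow.TorNil
import Mathlib.LinearAlgebra.DirectSum.Finsupp

set_option autoImplicit false
universe u
open scoped TensorProduct
open CAlg

namespace Groth.Agent.S6351

/-- Let I be a nilpotent ideal of a commutative ring R and M an R-module with Tor_1^R(R/I, M) = 0, i.e.
I ⊗_R M → M injective. If a family of elements of M maps to a basis of the R/I-module M/IM = R/I ⊗
M, then it is a basis of M over R. -/
theorem result (R : Type u) [CommRing R] (I : Ideal R)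
    (hI : IsNilpotent I) (M : Type u) [AddCommGroup M] [Module R M]
    (htor : Function.Injective ((Submodule.subtype I).rTensor M)) {A : Type u} (x : A → M)
    (hli : LinearIndependent (R ⧸ I) (fun a => (1 : R ⧸ I) ⊗ₜ[R] x a))
    (hsp : Submodule.span (R ⧸ I) (Set.range fun a => (1 : R ⧸ I) ⊗ₜ[R] x a) = ⊤) :
    LinearIndependent R x ∧ Submodule.span R (Set.range x) = ⊤ := by
  classical
  let f : (A →₀ R) →ₗ[R] M := Finsupp.linearCombination R x
  let e : (R ⧸ I) ⊗[R] (A →₀ R) ≃ₗ[R ⧸ I] (A →₀ (R ⧸ I)) := TensorProduct.finsuppScalarRight R (R ⧸ I) (R ⧸ I) A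
  have hkey : Finsupp.linearCombination (R ⧸ I) (fun a => (1 : R ⧸ I) ⊗ₜ[R] x a) = f.baseChange (R ⧸ I) ∘ₗ e.symm.toLinearMap := by
    refine Finsupp.lhom_ext fun a c => ?_
    simp [f, e, TensorProduct.smul_tmul']
  have hb : Function.Bijective (Finsupp.linearCombination (R ⧸ I) (fun a => (1 : R ⧸ I) ⊗ₜ[R] x a)) :=
    ⟨hli, by rw [← LinearMap.range_eq_top, Finsupp.range_linearCombination, hsp]⟩
  rw [hkey] at hb
  have hf := Groth.Agent.CAlgLow.bijective_of_bijective_baseChange_tor hI htor f
    ((Function.Bijective.of_comp_iff _ e.symm.bijective).1 hb)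
  exact ⟨hf.1, by rw [← Finsupp.range_linearCombination, LinearMap.range_eq_top]; exact hf.2⟩

end Groth.Agent.S6351
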