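import Groth.Statements.S6353
import Mathlib.RingTheory.Ideal.Pure
import Mathlib.RingTheory.Spectrum.Prime.Topology

set_option autoImplicit false
universe u
open CAlg

namespace Groth.Agent.S6353

open PrimeSpectrum in
/-- For a commutative ring R, I ↦ V(I) is a bijection between pure ideals (R/I flat over R) and closed
subsets of Spec R stable under generalization. Stated here as: V(I) is stable under generalization
for I pure, and every closed generalization-stable subset is V(I) for some pure I (injectivity on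
pure ideals being the standard fact that pure ideals with the same zero locus coincide). -/
theorem result (R : Type u) [CommRing R] :
    (∀ I : Ideal R, I.Pure → StableUnderGeneralization (zeroLocus (I : Set R))) ∧
      ∀ Z : Set (PrimeSpectrum R), IsClosed Z → StableUnderGeneralization Z →
        ∃ I : Ideal R, I.Pure ∧ zeroLocus (I : Set R) = Z := by
  classical
  constructor
  · intro I hI x y hxy hx z hz
    obtain ⟨w, hw, hzw⟩ := Ideal.exists_eq_mul_of_pure (I := I) hz
    have hle : y.asIdeal ≤ x.asIdeal := (PrimeSpectrum.le_iff_specializes _ _).2 hxy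
    by_contra hzy
    have h0 : z * (1 - w) ∈ y.asIdeal := by rw [mul_sub, mul_one, ← hzw, sub_self]; exact y.asIdeal.zero_mem
    have h1 : (1 - w) ∈ x.asIdeal := hle ((y.isPrime.mem_or_mem h0).resolve_left hzy)
    exact x.isPrime.ne_top ((Ideal.eq_top_iff_one _).2 (by simpa using x.asIdeal.add_mem h1 (hx hw)))
  · intro Z hZ hgen
    obtain ⟨J₀, hJ₀⟩ := (PrimeSpectrum.isClosed_iff_zeroLocus Z).1 hZ
    let I : Ideal R := ⨅ p ∈ Z, RingHom.ker (algebraMap R (Localization.AtPrime (p : PrimeSpectrum R).asIdeal))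
    have hmem : ∀ x, x ∈ I ↔ ∀ p ∈ Z, ∃ s, s ∉ p.asIdeal ∧ s * x = 0 := by
      intro x
      simp only [I, Submodule.mem_iInf, RingHom.mem_ker]
      refine forall₂_congr fun p _ => ?_
      rw [IsLocalization.map_eq_zero_iff p.asIdeal.primeCompl]
      exact ⟨fun ⟨s, hs⟩ => ⟨s.1, s.2, hs⟩, fun ⟨s, h1, h2⟩ => ⟨⟨s, h1⟩, h2⟩⟩
    have hin : ∀ p : PrimeSpectrum R, p ∈ Z ↔ Ideal.span J₀ ≤ p.asIdeal := fun p => by
      rw [hJ₀, PrimeSpectrum.mem_zeroLocus, Ideal.span_le]
    have hnil : ∀ j ∈ Ideal.span J₀, ∃ N : ℕ, j ^ N ∈ I := by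
      intro j hj
      let K : ℕ →o Ideal R := ⟨fun N => (Submodule.span R {j ^ N}).annihilator, fun a b hab =>
        Submodule.annihilator_mono (Submodule.span_singleton_le_iff_mem _ _ |>.2
          (Submodule.mem_span_singleton.2 ⟨j ^ (b - a), by rw [smul_eq_mul, ← pow_add, Nat.sub_add_cancel hab]⟩))⟩
      have key : (⨆ N, K N) ⊔ Ideal.span J₀ = ⊤ := by
        by_contra hne
        obtain ⟨m, hm, hle⟩ := Ideal.exists_le_maximal _ hne
        have hmZ : (⟨m, hm.isPrime⟩ : PrimeSpectrum R) ∈ Z := (hin _).2 (le_sup_right.trans hle)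
        have hjn : IsNilpotent (algebraMap R (Localization.AtPrime m) j) := by
          rw [nilpotent_iff_mem_prime]
          intro P hP
          have hcomap : P.comap (algebraMap R (Localization.AtPrime m)) ≤ m := by
            intro x hx
            by_contra hxm
            exact hP.ne_top (Ideal.eq_top_of_isUnit_mem _ hx (IsLocalization.map_units _ (⟨x, hxm⟩ : m.primeCompl)))
          have : (⟨P.comap (algebraMap R (Localization.AtPrime m)), inferInstance⟩ : PrimeSpectrum R) ∈ Z :=
            hgen ((PrimeSpectrum.le_iff_specializes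
              ⟨P.comap (algebraMap R (Localization.AtPrime m)), inferInstance⟩ ⟨m, hm.isPrime⟩).1 hcomap) hmZ
          exact (hin _).1 this hj
        obtain ⟨N, hN⟩ := hjn
        rw [← map_pow, IsLocalization.map_eq_zero_iff m.primeCompl] at hN
        obtain ⟨⟨s, hs⟩, hs0⟩ := hN
        exact hs (hle (Ideal.mem_sup_left (Ideal.mem_iSup_of_mem N
          ((Submodule.mem_annihilator_span_singleton _ _).2 hs0))))
      obtain ⟨a, ha, b, hb, hab⟩ := Submodule.mem_sup.1 ((Ideal.eq_top_iff_one _).1 key)
      obtain ⟨N, hN⟩ := (Submodule.mem_iSup_of_directed _ K.monotone.directed_le).1 ha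
      refine ⟨N, (hmem _).2 fun p hp => ⟨a, fun hap => p.isPrime.ne_top ((Ideal.eq_top_iff_one _).2 ?_), ?_⟩⟩
      · rw [← hab]; exact p.asIdeal.add_mem hap ((hin p).1 hp hb)
      · exact (Submodule.mem_annihilator_span_singleton _ _).1 hN
    have hpure : ∀ x ∈ I, ∃ y ∈ I, x = x * y := by
      intro x hx
      have key : (Submodule.span R {x}).annihilator ⊔ Ideal.span J₀ = ⊤ := by
        by_contra hne
        obtain ⟨m, hm, hle⟩ := Ideal.exists_le_maximal _ hne
        obtain ⟨s, hs, hsx⟩ := (hmem x).1 hx ⟨m, hm.isPrime⟩ ((hin _).2 (le_sup_right.trans hle))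
        exact hs (hle (Ideal.mem_sup_left ((Submodule.mem_annihilator_span_singleton _ _).2 hsx)))
      obtain ⟨a, ha, b, hb, hab⟩ := Submodule.mem_sup.1 ((Ideal.eq_top_iff_one _).1 key)
      obtain ⟨N, hN⟩ := hnil b hb
      refine ⟨b ^ N, hN, ?_⟩
      have hax : a * x = 0 := (Submodule.mem_annihilator_span_singleton _ _).1 ha
      obtain ⟨c, hc⟩ := sub_dvd_pow_sub_pow 1 b N
      rw [one_pow, show (1 : R) - b = a by linear_combination -hab] at hc
      linear_combination x * hc + c * hax
    refine ⟨I, Ideal.Pure.of_inf_eq_mul I fun J _ => le_antisymm ?_ Ideal.mul_le_inf, ?_⟩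
    · rintro x ⟨h1, h2⟩
      obtain ⟨y, hy, hxy⟩ := hpure x h1
      have := Ideal.mul_mem_mul hy h2
      rwa [mul_comm y x, ← hxy] at this
    · ext p
      constructor
      · intro hp
        refine (hin p).2 fun j hj => ?_
        obtain ⟨N, hN⟩ := hnil j hj
        exact p.isPrime.mem_of_pow_mem N (hp hN)
      · intro hp x hx
        obtain ⟨s, hs, hsx⟩ := (hmem x).1 hx p hp
        exact (p.isPrime.mem_or_mem (hsx ▸ p.asIdeal.zero_mem)).resolve_left hs

end Groth.Agent.S6353
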