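import Groth.Statements.S6354
import Mathlib.RingTheory.Ideal.Pure
import Mathlib.RingTheory.Spectrum.Prime.Topology
import Mathlib.Algebra.Module.Projective

set_option autoImplicit false
universe u
open CAlg

namespace Groth.Agent.S6354

open PrimeSpectrum in
/-- For an ideal I of a commutative ring R these four conditions are equivalent: (1) I is finitely
generated and pure; (2) I = (e) for some idempotent e; (3) I is pure with V(I) open in Spec R; (4)
R/I is projective as an R-module. -/
theorem result (R : Type u) [CommRing R] (I : Ideal R) :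
    List.TFAE [I.Pure ∧ I.FG, ∃ e : R, IsIdempotentElem e ∧ I = Ideal.span {e},
      I.Pure ∧ IsOpen (zeroLocus (I : Set R)), Module.Projective R (R ⧸ I)] := by
  tfae_have 1 → 2 := fun ⟨hp, hfg⟩ => (Ideal.isIdempotentElem_iff_of_fg I hfg).1 (Ideal.isIdempotentElem_of_pure I)
  tfae_have 2 → 4 := by
    rintro ⟨e, he, rfl⟩
    have hle : Ideal.span {e} ≤ LinearMap.ker (LinearMap.toSpanSingleton R R (1 - e)) := by
      rw [Ideal.span_le]
      rintro x rfl
      simp [mul_sub, he.eq]
    refine Module.Projective.of_split ((Ideal.span {e}).liftQ _ hle) (Submodule.mkQ (Ideal.span {e})) ?_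
    refine Submodule.linearMap_qext _ (LinearMap.ext_ring ?_)
    change (Ideal.Quotient.mk (Ideal.span {e})) ((1 : R) • (1 - e)) = 1
    rw [one_smul, map_sub, map_one, Ideal.Quotient.eq_zero_iff_mem.2 (Ideal.mem_span_singleton_self e), sub_zero]
  tfae_have 4 → 1 := by
    intro h
    obtain ⟨s, hs⟩ := Module.projective_lifting_property (Submodule.mkQ I) LinearMap.id I.mkQ_surjective
    refine ⟨Module.Flat.of_projective, ?_⟩
    have : I = LinearMap.range (LinearMap.id - s ∘ₗ Submodule.mkQ I) := by
      refine le_antisymm ?_ ?_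
      · intro x hx
        refine ⟨x, ?_⟩
        simp only [LinearMap.sub_apply, LinearMap.id_apply, LinearMap.comp_apply, Submodule.mkQ_apply]
        rw [(Submodule.Quotient.mk_eq_zero I).2 hx, map_zero, sub_zero]
      · rintro _ ⟨x, rfl⟩
        rw [← Submodule.Quotient.mk_eq_zero I]
        have := DFunLike.congr_fun hs (Submodule.mkQ I x)
        simp at this
        simp [this]
    rw [this]
    exact Submodule.fg_range _
  tfae_have 2 → 3 := by
    rintro ⟨e, he, rfl⟩
    refine ⟨Ideal.Pure.of_isIdempotentElem (Submodule.fg_span_singleton e) ?_, ?_⟩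
    · simp [IsIdempotentElem, Ideal.span_singleton_mul_span_singleton, he.eq]
    · rw [PrimeSpectrum.zeroLocus_span, show PrimeSpectrum.zeroLocus {e} =
        (PrimeSpectrum.basicOpen (1 - e) : Set (PrimeSpectrum R)) from PrimeSpectrum.zeroLocus_eq_basicOpen_of_mul_add _ _
        (by rw [mul_sub, mul_one, he.eq, sub_self]) (by ring)]
      exact (PrimeSpectrum.basicOpen (1 - e)).isOpen
  tfae_have 3 → 2 := by
    rintro ⟨hp, hopen⟩
    obtain ⟨e, he, hee⟩ := PrimeSpectrum.exists_idempotent_basicOpen_eq_of_isClopen
      (⟨PrimeSpectrum.isClosed_zeroLocus _, hopen⟩ : IsClopen (PrimeSpectrum.zeroLocus (I : Set R)))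
    refine ⟨1 - e, he.one_sub, ?_⟩
    have : (Ideal.span {1 - e}).Pure := Ideal.Pure.of_isIdempotentElem (Submodule.fg_span_singleton _)
      (by simp [IsIdempotentElem, Ideal.span_singleton_mul_span_singleton, he.one_sub.eq])
    rw [← Ideal.zeroLocus_inj_of_pure, PrimeSpectrum.zeroLocus_span, hee]
    exact (PrimeSpectrum.zeroLocus_eq_basicOpen_of_mul_add _ _
      (by rw [sub_mul, one_mul, he.eq, sub_self]) (by ring)).symm
  tfae_finish

end Groth.Agent.S6354
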