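import Groth.Statements.S6355
import Mathlib.RingTheory.Ideal.Pure
import Mathlib.Algebra.Module.LocalizedModule.Exact
import Mathlib.RingTheory.Flat.EquationalCriterion
import Mathlib.RingTheory.Flat.LocallyFree
import Mathlib.RingTheory.Localization.Finiteness
import Mathlib.RingTheory.Spectrum.Prime.FreeLocus

set_option autoImplicit false
universe u
open CAlg

namespace Groth.Agent.S6355


open Module PrimeSpectrum

variable {R : Type u} [CommRing R] (M : Type u) [AddCommGroup M] [Module R M] [Module.Finite R M] [Module.Flat R M]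

attribute [local instance] Module.free_of_flat_of_isLocalRing

theorem local_cover (p : PrimeSpectrum R) :
    ∃ (a : R) (φ : (Fin (rankAtStalk M p) →₀ R) →ₗ[R] M), a ∉ p.asIdeal ∧
      ∀ x : M, ∃ k : ℕ, a ^ k • x ∈ LinearMap.range φ := by
  have : Nontrivial R := PrimeSpectrum.nontrivial p
  let Rₚ := Localization.AtPrime p.asIdeal
  let n := rankAtStalk M p
  let f : (Fin n →₀ R) →ₗ[R] Fin n →₀ Rₚ := Finsupp.mapRange.linearMap (Algebra.linearMap R Rₚ)
  let g : M →ₗ[R] LocalizedModule.AtPrime p.asIdeal M := LocalizedModule.mkLinearMap p.asIdeal.primeCompl M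
  obtain ⟨φ, -, -, hφps⟩ := exists_localizedMap_surjective_of_surjective p.asIdeal.primeCompl f g
    ((Module.finBasis Rₚ (LocalizedModule.AtPrime p.asIdeal M)).repr.restrictScalars R).symm.surjective
  obtain ⟨a, hap, hφas⟩ := by
    refine exists_localizedMap_away_surjective_of_localizedMap_atPrime_surjective p.asIdeal φ ?_
    simpa [LocalizedModule.coe_map_eq f g]
  refine ⟨a, φ, hap, fun x => ?_⟩
  obtain ⟨y, hy⟩ := hφas (LocalizedModule.mk x 1)
  induction y using LocalizedModule.induction_on with
  | h y s =>
    rw [LocalizedModule.map_mk, LocalizedModule.mk_eq] at hy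
    obtain ⟨⟨_, j, rfl⟩, hj⟩ := hy
    obtain ⟨i, hi⟩ := s.2
    refine ⟨j + i, ⟨a ^ j • y, ?_⟩⟩
    simp only [Submonoid.smul_def, OneMemClass.coe_one, one_smul] at hj
    rw [map_smul, hj, pow_add, mul_smul, ← hi]

variable {M}

theorem surj_localized {n : ℕ} {φ : (Fin n →₀ R) →ₗ[R] M} {a : R} (S : Submonoid R) (r : R) (hr : a * r ∈ S)
    (h : ∀ x : M, ∃ k : ℕ, a ^ k • x ∈ LinearMap.range φ) :
    Function.Surjective (LocalizedModule.map S φ) := by
  intro z
  induction z using LocalizedModule.induction_on with
  | h x s =>
    obtain ⟨k, y, hy⟩ := h x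
    refine ⟨LocalizedModule.mk (r ^ k • y) (⟨(a * r) ^ k, pow_mem hr k⟩ * s), ?_⟩
    rw [LocalizedModule.map_mk, LocalizedModule.mk_eq]
    refine ⟨1, ?_⟩
    simp only [Submonoid.smul_def, Submonoid.coe_mul, OneMemClass.coe_one, one_smul, map_smul, hy, smul_smul]
    congr 1
    rw [mul_pow]; ring

theorem isClosed_le_rankAtStalk (n : ℕ) : IsClosed {p : PrimeSpectrum R | n ≤ rankAtStalk M p} := by
  rw [← isOpen_compl_iff, isOpen_iff_mem_nhds]
  intro p hp
  obtain ⟨a, φ, ha, hφ⟩ := local_cover M p
  refine Filter.mem_of_superset ((basicOpen a).2.mem_nhds ha) fun q hq => ?_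
  simp only [Set.mem_compl_iff, Set.mem_setOf_eq, not_le] at hp ⊢
  refine lt_of_le_of_lt ?_ hp
  have : Nontrivial R := PrimeSpectrum.nontrivial p
  have hs := surj_localized q.asIdeal.primeCompl 1 (by simpa [Ideal.primeCompl] using hq) hφ
  have h1 : rankAtStalk (R := R) (Fin (rankAtStalk M p) →₀ R) q = rankAtStalk M p := by
    rw [rankAtStalk_eq_finrank_of_free]; simp
  exact (LinearMap.finrank_le_finrank_of_surjective hs).trans_eq h1

theorem projective_of_isLocallyConstant (h : IsLocallyConstant (rankAtStalk (R := R) M)) :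
    Module.Projective R M := by
  obtain ⟨N, π, hπ⟩ := Module.Finite.exists_fin' R M
  suffices hK : (LinearMap.ker π).FG by
    have := Module.finitePresentation_of_surjective π hπ hK
    exact Module.Flat.projective_of_finitePresentation
  rw [← Module.Finite.iff_fg]
  let K := LinearMap.ker π
  let t : Set R := {a | Module.Finite (Localization.Away a) (LocalizedModule (Submonoid.powers a) K)}
  have ht : Ideal.span t = ⊤ := by
    by_contra ht
    obtain ⟨m, hm, hle⟩ := Ideal.exists_le_maximal _ ht
    let p : PrimeSpectrum R := ⟨m, hm.isPrime⟩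
    obtain ⟨_, ⟨g, rfl⟩, hg, hgc⟩ := isTopologicalBasis_basic_opens.exists_subset_of_mem_open
      (show p ∈ {q | rankAtStalk M q = rankAtStalk M p} from rfl) (h.isOpen_fiber _)
    obtain ⟨a, φ, ha, hφ⟩ := local_cover M p
    have hag : a * g ∉ m := fun hc => (hm.isPrime.mem_or_mem hc).elim ha hg
    refine hag (hle (Ideal.subset_span ?_))
    let b := a * g
    let Rb := Localization.Away b
    let S := Submonoid.powers b
    have hs : Function.Surjective (LocalizedModule.map S φ) := surj_localized S g (Submonoid.mem_powers b) hφ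
    have : Nontrivial R := PrimeSpectrum.nontrivial p
    have : Module.Flat Rb (LocalizedModule S M) := Module.Flat.localizedModule _
    have : Module.Free Rb (LocalizedModule S (Fin (rankAtStalk M p) →₀ R)) :=
      Module.free_of_isLocalizedModule S (LocalizedModule.mkLinearMap S _)
    have : Module.Finite Rb (LocalizedModule S M) :=
      Module.Finite.of_isLocalizedModule S (LocalizedModule.mkLinearMap S _)
    have : Module.Finite Rb (LocalizedModule S (Fin (rankAtStalk M p) →₀ R)) :=
      Module.Finite.of_isLocalizedModule S (LocalizedModule.mkLinearMap S _)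
    have hb : Function.Bijective (LocalizedModule.map S φ) := by
      let φb : LocalizedModule S (Fin (rankAtStalk M p) →₀ R) →ₗ[Rb] LocalizedModule S M := LocalizedModule.map S φ
      have hsb : Function.Surjective φb := hs
      have hX := @Module.bijective_of_surjective_of_rankAtStalk_eq
      have hY := @hX Rb _ (LocalizedModule S (Fin (rankAtStalk M p) →₀ R)) (LocalizedModule S M)
      refine hY (φ := φb) hsb fun q _ => ?_
      rw [rankAtStalk_isBaseChange (LocalizedModule.isBaseChange S _),
        rankAtStalk_isBaseChange (LocalizedModule.isBaseChange S _), rankAtStalk_eq_finrank_of_free]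
      have hq : PrimeSpectrum.comap (algebraMap R Rb) ⟨q, inferInstance⟩ ∈ (basicOpen g : Set (PrimeSpectrum R)) := by
        intro hc
        have hb' : algebraMap R Rb b ∈ q := by
          rw [map_mul]; exact q.mul_mem_left _ hc
        exact Ideal.IsMaximal.ne_top inferInstance (Ideal.eq_top_of_isUnit_mem _ hb' (IsLocalization.Away.algebraMap_isUnit b))
      rw [show rankAtStalk M _ = rankAtStalk M p from hgc hq]
      simp
    have : Module.Free Rb (LocalizedModule S (Fin (rankAtStalk M p) →₀ R)) :=
      Module.free_of_isLocalizedModule S (LocalizedModule.mkLinearMap S _)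
    have : Module.Projective Rb (LocalizedModule S M) :=
      Module.Projective.of_equiv (LinearEquiv.ofBijective _ hb)
    have hex := LocalizedModule.map_exact S K.subtype π (LinearMap.exact_subtype_ker_map π)
    have hi := LocalizedModule.map_injective S K.subtype K.injective_subtype
    have hsurj := LocalizedModule.map_surjective S π hπ
    have : Module.Finite Rb (LocalizedModule S (Fin N → R)) :=
      Module.Finite.of_isLocalizedModule S (LocalizedModule.mkLinearMap S _)
    have : Module.Finite Rb (LocalizedModule S M) :=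
      Module.Finite.of_isLocalizedModule S (LocalizedModule.mkLinearMap S _)
    have : Module.FinitePresentation Rb (LocalizedModule S M) := Module.finitePresentation_of_projective _ _
    have hfg : (LinearMap.ker (LocalizedModule.map S π)).FG := Module.FinitePresentation.fg_ker _ hsurj
    have hex' : Function.Exact (LocalizedModule.map S K.subtype) (LocalizedModule.map S π) := by
      exact fun z => hex z
    rw [LinearMap.exact_iff.1 hex', ← Module.Finite.iff_fg] at hfg
    exact Module.Finite.equiv (LinearEquiv.ofInjective _ hi).symm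
  exact Module.Finite.of_localizationSpan t ht fun r => r.2



/-- For a commutative ring R the following are equivalent: (1) every subset of Spec R which is closed
and stable under generalization is open; (2) every finite flat R-module is finite locally free, i.e.
(for finite modules) projective. -/
theorem result (R : Type u) [CommRing R] :
    (∀ Z : Set (PrimeSpectrum R), IsClosed Z → StableUnderGeneralization Z → IsOpen Z) ↔
      ∀ (M : Type u) [AddCommGroup M] [Module R M], Module.Finite R M → Module.Flat R M →
        Module.Projective R M := by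
  constructor
  · intro hZ M _ _ hfin hflat
    have : Module.Finite R M := hfin
    have : Module.Flat R M := hflat
    apply projective_of_isLocallyConstant
    have ho : ∀ n : ℕ, IsOpen {p : PrimeSpectrum R | n ≤ rankAtStalk M p} := fun n =>
      hZ _ (isClosed_le_rankAtStalk n) fun a b hab ha => by
        simp only [Set.mem_setOf_eq] at ha ⊢
        rwa [rankAtStalk_eq_of_le_of_finite_of_flat M ((PrimeSpectrum.le_iff_specializes b a).2 hab)]
    rw [IsLocallyConstant.iff_isOpen_fiber]
    intro n
    have : rankAtStalk (R := R) M ⁻¹' {n} =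
        {p | n ≤ rankAtStalk M p} ∩ {p | n + 1 ≤ rankAtStalk M p}ᶜ := by
      ext p; simp; omega
    rw [this]
    exact (ho n).inter (isClosed_le_rankAtStalk (n + 1)).isOpen_compl
  · intro hproj Z hZc hZg
    classical
    let I : Ideal R := ⨅ p ∈ Z, RingHom.ker (algebraMap R (Localization.AtPrime p.asIdeal))
    have hVI : PrimeSpectrum.zeroLocus (I : Set R) = Z := by
      ext q
      simp only [PrimeSpectrum.mem_zeroLocus, SetLike.coe_subset_coe]
      refine ⟨fun hq => ?_, fun hq x hx => ?_⟩
      · by_contra hqZ
        have hex : ∀ p : Z, ∃ s f : R, s ∉ p.1.asIdeal ∧ f ∉ q.asIdeal ∧ s * f = 0 := by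
          intro p
          by_contra hne
          push Not at hne
          obtain ⟨r, hr, -, hd⟩ := Ideal.exists_le_prime_disjoint (⊥ : Ideal R)
            (p.1.asIdeal.primeCompl ⊔ q.asIdeal.primeCompl) (by
              rw [Set.disjoint_left]
              rintro x (rfl : x = 0) hx
              obtain ⟨s, hs, f, hf, hsf⟩ := Submonoid.mem_sup.1 hx
              exact hne s f hs hf hsf)
          have hrp : r ≤ p.1.asIdeal := fun x hx => by_contra fun h =>
            Set.disjoint_left.1 hd hx (Submonoid.mem_sup_left h)
          have hrq : r ≤ q.asIdeal := fun x hx => by_contra fun h =>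
            Set.disjoint_left.1 hd hx (Submonoid.mem_sup_right h)
          have h1 : (⟨r, hr⟩ : PrimeSpectrum R) ∈ Z :=
            hZg ((PrimeSpectrum.le_iff_specializes ⟨r, hr⟩ p.1).1 hrp) p.2
          exact hqZ (((PrimeSpectrum.le_iff_specializes ⟨r, hr⟩ q).1 hrq).mem_closed hZc h1)
        choose s f hs hf hsf using hex
        obtain ⟨T, hT⟩ := hZc.isCompact.elim_finite_subcover (fun p : Z => (PrimeSpectrum.basicOpen (s p) : Set (PrimeSpectrum R)))
          (fun p => (PrimeSpectrum.basicOpen (s p)).2) (fun p hp => Set.mem_iUnion.2 ⟨⟨p, hp⟩, hs ⟨p, hp⟩⟩)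
        have hF : ∏ p ∈ T, f p ∉ q.asIdeal := fun hc => by
          obtain ⟨p, hp, hc⟩ := (Ideal.IsPrime.prod_mem_iff).1 hc
          exact hf p hc
        refine hF (hq ?_)
        simp only [I, Submodule.mem_iInf, RingHom.mem_ker]
        intro p hp
        obtain ⟨p', hp'T, hp'⟩ := Set.mem_iUnion₂.1 (hT hp)
        rw [IsLocalization.map_eq_zero_iff p.asIdeal.primeCompl]
        refine ⟨⟨s p', hp'⟩, ?_⟩
        rw [← Finset.mul_prod_erase T f hp'T, ← mul_assoc, hsf p', zero_mul]
      · simp only [I, Submodule.mem_iInf, RingHom.mem_ker] at hx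
        obtain ⟨⟨t, ht⟩, htx⟩ := (IsLocalization.map_eq_zero_iff q.asIdeal.primeCompl _ x).1 (hx q hq)
        exact (q.isPrime.mem_or_mem (htx ▸ q.asIdeal.zero_mem : t * x ∈ q.asIdeal)).resolve_left ht
    have hI : ∀ x ∈ I, ∃ y ∈ I, x = x * y := by
      intro x hx
      suffices htop : I ⊔ Submodule.colon (⊥ : Ideal R) ({x} : Set R) = ⊤ by
        obtain ⟨y, hy, s, hs, hys⟩ := Submodule.mem_sup.1 (htop ▸ Submodule.mem_top : (1 : R) ∈ _)
        refine ⟨y, hy, ?_⟩
        simp [Submodule.mem_colon_singleton] at hs
        calc x = x * (y + s) := by rw [hys, mul_one]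
          _ = x * y := by rw [mul_add, mul_comm x s, hs, add_zero]
      by_contra hne
      obtain ⟨m, hm, hle⟩ := Ideal.exists_le_maximal _ hne
      have hmZ : (⟨m, hm.isPrime⟩ : PrimeSpectrum R) ∈ Z := hVI ▸ (le_sup_left.trans hle : I ≤ m)
      simp only [I, Submodule.mem_iInf, RingHom.mem_ker] at hx
      obtain ⟨⟨t, ht⟩, htx⟩ := (IsLocalization.map_eq_zero_iff m.primeCompl _ x).1 (hx _ hmZ)
      exact ht (hle (Submodule.mem_sup_right (Submodule.mem_colon_singleton.2 (by simpa using htx))))
    have hpure : I.Pure := Ideal.Pure.of_inf_eq_mul I fun J _ =>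
      le_antisymm (fun x hx => by
        obtain ⟨y, hy, hxy⟩ := hI x hx.1
        have : y * x ∈ I * J := Ideal.mul_mem_mul hy hx.2
        rw [mul_comm y x, ← hxy] at this
        exact this) Ideal.mul_le_inf
    have : Module.Projective R (R ⧸ I) := hproj _ inferInstance hpure
    have : Module.FinitePresentation R (R ⧸ I) := Module.finitePresentation_of_projective _ _
    have hfg : I.FG := by
      have := Module.FinitePresentation.fg_ker (Submodule.mkQ I) (Submodule.mkQ_surjective I)
      rwa [Submodule.ker_mkQ] at this
    obtain ⟨e, he, hIe⟩ := (Ideal.isIdempotentElem_iff_of_fg I hfg).1 I.isIdempotentElem_of_pure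
    rw [← hVI, hIe, PrimeSpectrum.zeroLocus_span, PrimeSpectrum.zeroLocus_eq_basicOpen_of_isIdempotentElem _ he]
    exact (PrimeSpectrum.basicOpen (1 - e)).2

end Groth.Agent.S6355
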