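import Groth.Statements.S6357
import Groth.Agent.Lib.CAlgLow.Dominate
import Mathlib.Algebra.Colimit.Module
import Mathlib.LinearAlgebra.TensorProduct.DirectLimit

set_option autoImplicit false
universe u
open CAlg

namespace Groth.Agent.S6357

open Groth.Agent.CAlgLow in
theorem eventually_eq_on_gens {R : Type u} [CommRing R] {ι : Type u}
    [Preorder ι] [IsDirectedOrder ι] [DecidableEq ι] (G : ι → Type u)
    [∀ i, AddCommGroup (G i)] [∀ i, Module R (G i)]
    (f : ∀ i j, i ≤ j → G i →ₗ[R] G j) [DirectedSystem G fun i j h => f i j h]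
    {κ : Type u} (s : Finset κ) (i : ι) (x : κ → G i) (h : ∀ a ∈ s, Module.DirectLimit.of R ι G f i (x a) = 0) :
    ∃ (j : ι) (hij : i ≤ j), ∀ a ∈ s, f i j hij (x a) = 0 := by
  classical
  induction s using Finset.induction with
  | empty => exact ⟨i, le_rfl, by simp⟩
  | insert a s ha ih =>
    obtain ⟨j, hij, hj⟩ := ih fun b hb => h b (Finset.mem_insert_of_mem hb)
    obtain ⟨j', hij', hj'⟩ := Module.DirectLimit.of.zero_exact (h a (Finset.mem_insert_self _ _))
    obtain ⟨k, hjk, hj'k⟩ := exists_ge_ge j j'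
    refine ⟨k, hij.trans hjk, fun b hb => ?_⟩
    rcases Finset.mem_insert.1 hb with rfl | hb
    · rw [← DirectedSystem.map_map' f hij' hj'k, hj', map_zero]
    · rw [← DirectedSystem.map_map' f hij hjk, hj b hb, map_zero]

theorem exists_hom_lift {R : Type u} [CommRing R] {ι : Type u}
    [Preorder ι] [IsDirectedOrder ι] [DecidableEq ι] [Nonempty ι] (G : ι → Type u)
    [∀ i, AddCommGroup (G i)] [∀ i, Module R (G i)]
    (f : ∀ i j, i ≤ j → G i →ₗ[R] G j) [DirectedSystem G fun i j h => f i j h]
    {Q : Type u} [AddCommGroup Q] [Module R Q] [Module.FinitePresentation R Q]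
    (h : Q →ₗ[R] Module.DirectLimit G f) :
    ∃ (j : ι) (h' : Q →ₗ[R] G j), h = Module.DirectLimit.of R ι G f j ∘ₗ h' := by
  classical
  obtain ⟨n, K, e, T, hT⟩ := Module.FinitePresentation.exists_fin R Q
  choose i x hx using fun a : Fin n => Module.DirectLimit.exists_of (h (e.symm (K.mkQ (Pi.single a 1))))
  obtain ⟨i₀, hi₀⟩ := Finset.exists_le (Finset.univ.image i)
  let y : Fin n → G i₀ := fun a => f (i a) i₀ (hi₀ _ (Finset.mem_image_of_mem _ (Finset.mem_univ a))) (x a)
  have hy : ∀ v, Module.DirectLimit.of R ι G f i₀ (Fintype.linearCombination R y v) = h (e.symm (K.mkQ v)) := by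
    refine fun v => DFunLike.congr_fun (?_ : Module.DirectLimit.of R ι G f i₀ ∘ₗ Fintype.linearCombination R y =
      h ∘ₗ e.symm.toLinearMap ∘ₗ K.mkQ) v
    refine (Pi.basisFun R (Fin n)).ext fun a => ?_
    simp [y, hx]
  obtain ⟨j, hij, hj⟩ := eventually_eq_on_gens G f T i₀ (fun v => Fintype.linearCombination R y v) fun v hv => by
    rw [hy, Submodule.mkQ_apply, (Submodule.Quotient.mk_eq_zero K).2 (hT ▸ Submodule.subset_span hv), map_zero, map_zero]
  have hK : K ≤ LinearMap.ker (f i₀ j hij ∘ₗ Fintype.linearCombination R y) := by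
    rw [← hT, Submodule.span_le]
    exact fun v hv => hj v hv
  refine ⟨j, (K.liftQ _ hK) ∘ₗ e.toLinearMap, LinearMap.ext fun q => ?_⟩
  obtain ⟨v, hv⟩ := K.mkQ_surjective (e q)
  rw [LinearMap.comp_apply, LinearMap.comp_apply, LinearEquiv.coe_coe, ← hv, Submodule.mkQ_apply,
    Submodule.liftQ_apply, LinearMap.comp_apply, Module.DirectLimit.of_f, hy, hv, e.symm_apply_apply]



/-- Given finitely presented R-modules G_i forming a directed system over a nonempty directed index set,
with transition maps f_ij and colimit M, the module M is Mittag-Leffler exactly when every index i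
admits some j ≥ i for which f_ij factors through f_ik whenever k ≥ i. -/
theorem result (R : Type u) [CommRing R] {ι : Type u}
    [Preorder ι] [IsDirected ι (· ≤ ·)] [Nonempty ι] [DecidableEq ι] (G : ι → Type u)
    [∀ i, AddCommGroup (G i)] [∀ i, Module R (G i)] [∀ i, Module.FinitePresentation R (G i)]
    (f : ∀ i j, i ≤ j → G i →ₗ[R] G j) [DirectedSystem G fun i j h => f i j h] :
    CAlg.IsMittagLeffler R (Module.DirectLimit G f) ↔
      ∀ i, ∃ (j : ι) (hij : i ≤ j), ∀ (k : ι) (hik : i ≤ k),
        ∃ h : G k →ₗ[R] G j, f i j hij = h ∘ₗ f i k hik := by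
  classical
  constructor
  · intro hM i
    obtain ⟨Q, _, _, hQ, g, hg⟩ := Groth.Agent.CAlgLow.exists_dominate hM (Module.DirectLimit.of R ι G f i)
    have : Module.FinitePresentation R (Q ⧸ LinearMap.range g) :=
      Module.finitePresentation_of_surjective _ (Submodule.mkQ_surjective _)
        (by rw [Submodule.ker_mkQ, LinearMap.range_eq_map]; exact Module.Finite.fg_top.map _)
    obtain ⟨h, hh⟩ := (Groth.Agent.CAlgLow.dominates_iff_factors g (Module.DirectLimit.of R ι G f i)).1
      fun N _ _ => (hg N).ge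
    obtain ⟨j₀, h', hh'⟩ := exists_hom_lift G f h
    obtain ⟨j₁, hij₁, hj₀₁⟩ := exists_ge_ge i j₀
    obtain ⟨T, hT⟩ := Module.Finite.fg_top (R := R) (M := G i)
    let D : G i →ₗ[R] G j₁ := f i j₁ hij₁ - f j₀ j₁ hj₀₁ ∘ₗ h' ∘ₗ g
    obtain ⟨j, hj₁, hj⟩ := eventually_eq_on_gens G f T j₁ (fun v => D v) fun v _ => by
      have := DFunLike.congr_fun hh v
      simp only [LinearMap.comp_apply] at this
      simp only [D, LinearMap.sub_apply, map_sub, Module.DirectLimit.of_f, LinearMap.comp_apply]
      rw [this, hh', LinearMap.comp_apply, sub_self]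
    have hD : f j₁ j hj₁ ∘ₗ D = 0 := LinearMap.ext_on hT fun v hv => hj v hv
    have hfac : f i j (hij₁.trans hj₁) = (f j₁ j hj₁ ∘ₗ f j₀ j₁ hj₀₁ ∘ₗ h') ∘ₗ g := by
      ext v
      have := DFunLike.congr_fun hD v
      simp only [D, LinearMap.comp_apply, LinearMap.sub_apply, map_sub, LinearMap.zero_apply, sub_eq_zero] at this
      simp only [LinearMap.comp_apply, ← this, DirectedSystem.map_map' f]
    refine ⟨j, hij₁.trans hj₁, fun k hik => ?_⟩
    have : Module.FinitePresentation R (G k ⧸ LinearMap.range (f i k hik)) :=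
      Module.finitePresentation_of_surjective _ (Submodule.mkQ_surjective _)
        (by rw [Submodule.ker_mkQ, LinearMap.range_eq_map]; exact Module.Finite.fg_top.map _)
    refine (Groth.Agent.CAlgLow.dominates_iff_factors (f i k hik) (f i j (hij₁.trans hj₁))).1 fun N _ _ x hx => ?_
    rw [LinearMap.mem_ker] at hx ⊢
    have h0 : g.rTensor N x = 0 := by
      rw [← LinearMap.mem_ker, ← hg, LinearMap.mem_ker]
      rw [show Module.DirectLimit.of R ι G f i = Module.DirectLimit.of R ι G f k ∘ₗ f i k hik from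
        LinearMap.ext fun v => Module.DirectLimit.of_f.symm, LinearMap.rTensor_comp_apply, hx, map_zero]
    rw [hfac, LinearMap.rTensor_comp_apply, h0, map_zero]
  · intro hev
    refine Groth.Agent.CAlgLow.isMittagLeffler_of_dominate fun n g => ?_
    obtain ⟨i, g', hg'⟩ := exists_hom_lift G f g
    obtain ⟨j, hij, hj⟩ := hev i
    refine ⟨G j, inferInstance, inferInstance, inferInstance, f i j hij ∘ₗ g', fun N _ _ => le_antisymm ?_ ?_⟩
    · intro x hx
      rw [LinearMap.mem_ker] at hx ⊢
      rw [hg', LinearMap.rTensor_comp_apply] at hx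
      have h0 := congrArg (TensorProduct.directLimitLeft f N) hx
      rw [TensorProduct.directLimitLeft_rTensor_of, map_zero] at h0
      obtain ⟨k, hik, hk⟩ := Module.DirectLimit.of.zero_exact h0
      obtain ⟨h, hh⟩ := hj k hik
      rw [LinearMap.rTensor_comp_apply, hh, LinearMap.rTensor_comp_apply, hk, map_zero]
    · intro x hx
      rw [LinearMap.mem_ker] at hx ⊢
      have e : g = Module.DirectLimit.of R ι G f j ∘ₗ (f i j hij ∘ₗ g') := by
        rw [hg']; ext v; simp
      rw [e, LinearMap.rTensor_comp_apply, hx, map_zero]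

end Groth.Agent.S6357
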