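import Groth.Statements.S6362
import Mathlib

set_option autoImplicit false
universe u
open scoped TensorProduct
open Fields

namespace Groth.Agent.S6362

/-- Let K/F be a finite separable extension and L/F an extension with L algebraically closed. Then the
L-algebra map K ⊗_F L → ∏_σ L, indexed by the F-algebra maps σ : K → L and sending a ⊗ b to (σ(a)
b)_σ, is an isomorphism; stated as bijectivity of that map. -/
theorem result {F K L : Type u} [Field F] [Field K] [Field L]
    [Algebra F K] [Algebra F L] [FiniteDimensional F K] [Algebra.IsSeparable F K] [IsAlgClosed L] :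
    Function.Bijective (fun x : K ⊗[F] L => fun σ : K →ₐ[F] L =>
      Algebra.TensorProduct.lift σ (AlgHom.id F L) (fun a b => Commute.all (σ a) b) x) := by
  classical
  let b := Module.finBasis F K
  have hcard : Fintype.card (K →ₐ[F] L) = Module.finrank F K := AlgHom.card F K L
  let e : (K →ₐ[F] L) ≃ Fin (Module.finrank F K) := Fintype.equivFinOfCardEq hcard
  let M : Matrix (K →ₐ[F] L) (K →ₐ[F] L) L := fun i σ => σ (b (e i))
  have hM : IsUnit M := by
    rw [← Matrix.mulVec_injective_iff_isUnit]
    refine (injective_iff_map_eq_zero (Matrix.mulVecLin M)).2 fun c hc => ?_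
    have h0 : (∑ σ, c σ • (σ.toLinearMap : K →ₗ[F] L)) = 0 := by
      refine b.ext fun i => ?_
      rw [LinearMap.sum_apply, LinearMap.zero_apply]
      have := congrFun hc (e.symm i)
      simp only [Matrix.mulVecLin_apply, Matrix.mulVec, dotProduct, M, Equiv.apply_symm_apply, Pi.zero_apply] at this
      simpa [mul_comm] using this
    exact funext fun σ => Fintype.linearIndependent_iff.1 (linearIndependent_toLinearMap F K L) c h0 σ
  let T := TensorProduct.equivFinsuppOfBasisLeft (N := L) b
  have hf : ∀ x, (fun σ : K →ₐ[F] L => Algebra.TensorProduct.lift σ (AlgHom.id F L) (fun a b => Commute.all (σ a) b) x) =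
      Matrix.vecMul (fun i => T x (e i)) M := by
    intro x
    funext σ
    obtain ⟨d, rfl⟩ := T.symm.surjective x
    rw [LinearEquiv.apply_symm_apply]
    show _ = ∑ i, d (e i) * σ (b (e i))
    rw [Equiv.sum_comp e (fun j => d j * σ (b j))]
    induction d using Finsupp.induction_linear with
    | zero => simp
    | add u v hu hv => simp only [map_add, hu, hv, Finsupp.add_apply, add_mul, Finset.sum_add_distrib]
    | single j r => simp [T, TensorProduct.equivFinsuppOfBasisLeft_symm, Finsupp.single_apply, mul_comm]
  have hcomp : (fun x : K ⊗[F] L => fun σ : K →ₐ[F] L => Algebra.TensorProduct.lift σ (AlgHom.id F L) (fun a b => Commute.all (σ a) b) x) =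
      (fun v => Matrix.vecMul v M) ∘ (fun (g : Fin (Module.finrank F K) → L) => g ∘ e) ∘ Finsupp.equivFunOnFinite ∘ T := funext hf
  rw [hcomp]
  exact Function.Bijective.comp (g := fun v => Matrix.vecMul v M) ⟨(Matrix.vecMul_injective_iff_isUnit).2 hM, (Matrix.vecMul_surjective_iff_isUnit).2 hM⟩
    (((Equiv.arrowCongr e.symm (Equiv.refl L)).bijective).comp (Finsupp.equivFunOnFinite.bijective.comp T.bijective))

end Groth.Agent.S6362
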