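import Groth.Statements.S6363
import Mathlib

set_option autoImplicit false
universe u
open scoped TensorProduct
open Fields

namespace Groth.Agent.S6363

/-- For a finite field extension L/K and a normal closure M of L/K, some K-algebra homomorphism from the
n-fold tensor power L ⊗_K ⋯ ⊗_K L to M is surjective, where n = [L : K]_s is the separable degree
(so n ≤ [L : K]). -/
theorem result {K L M : Type u} [Field K] [Field L] [Field M]
    [Algebra K L] [Algebra K M] [Algebra L M] [IsScalarTower K L M] [FiniteDimensional K L]
    [IsNormalClosure K L M] :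
    ∃ f : (⨂[K] _ : Fin (Field.finSepDegree K L), L) →ₐ[K] M, Function.Surjective f := by
  classical
  have : Algebra.IsAlgebraic K L := Algebra.IsAlgebraic.of_finite K L
  obtain ⟨hsplit, htop⟩ := Algebra.IsAlgebraic.isNormalClosure_iff.1 ‹IsNormalClosure K L M›
  have hcard : Field.finSepDegree K L = Nat.card (L →ₐ[K] M) :=
    Field.finSepDegree_eq_of_adjoin_splits (S := Set.univ) K L M (IntermediateField.adjoin_univ K L)
      fun s _ => ⟨Algebra.IsIntegral.isIntegral s, hsplit s⟩
  have : Module.Finite K M :=
    Module.Finite.equiv ((IntermediateField.equivOfEq htop).trans IntermediateField.topEquiv).toLinearEquiv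
  have : Algebra.IsAlgebraic K M := Algebra.IsAlgebraic.of_finite K M
  let e : Fin (Field.finSepDegree K L) ≃ (L →ₐ[K] M) := (finCongr hcard).trans (Finite.equivFin (L →ₐ[K] M)).symm
  let F : MultilinearMap K (fun _ : Fin (Field.finSepDegree K L) => L) M :=
    (MultilinearMap.mkPiAlgebra K (Fin (Field.finSepDegree K L)) M).compLinearMap fun i => (e i).toLinearMap
  let f : (⨂[K] _ : Fin (Field.finSepDegree K L), L) →ₐ[K] M :=
    PiTensorProduct.liftAlgHom F (by simp [F]) (fun x y => by simp [F, Finset.prod_mul_distrib])
  refine ⟨f, ?_⟩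
  have : Module.Finite K f.range := Module.Finite.range f.toLinearMap
  have halg : Algebra.IsAlgebraic K f.range := Algebra.IsAlgebraic.of_finite K _
  let R : IntermediateField K M := f.range.toIntermediateField' (Subalgebra.isField_of_algebraic f.range)
  have hR : (⊤ : IntermediateField K M) ≤ R := by
    rw [← htop, normalClosure_def]
    refine iSup_le fun σ => ?_
    rintro _ ⟨x, rfl⟩
    refine ⟨PiTensorProduct.tprod K (Pi.mulSingle (e.symm σ) x), ?_⟩
    simp only [AlgHom.toRingHom_eq_coe, RingHom.coe_coe, f, PiTensorProduct.liftAlgHom, AlgHom.ofLinearMap_apply]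
    rw [PiTensorProduct.lift.tprod]
    simp only [F, MultilinearMap.compLinearMap_apply, MultilinearMap.mkPiAlgebra_apply, AlgHom.toLinearMap_apply]
    rw [Finset.prod_eq_single (e.symm σ) (fun i _ hi => by rw [Pi.mulSingle_eq_of_ne hi, map_one]) (fun h => absurd (Finset.mem_univ _) h),
      Pi.mulSingle_eq_same, Equiv.apply_symm_apply]
  intro m
  exact hR (IntermediateField.mem_top (x := m))

end Groth.Agent.S6363
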