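import Groth.Statements.S6364
import Mathlib

set_option autoImplicit false
universe u
open Fields

namespace Groth.Agent.S6364

open IntermediateField in
/-- Let L/K be a finite extension and a ∈ L with minimal polynomial P over K. Then P ^ e, with e = [L :
K(a)], is the characteristic polynomial of multiplication by a (the K-linear map x ↦ a x on L), and
e · deg P = [L : K]. -/
theorem result {K L : Type u} [Field K] [Field L] [Algebra K L] [FiniteDimensional K L]
    (a : L) :
    (Algebra.lmul K L a).charpoly = minpoly K a ^ Module.finrank K⟮a⟯ L ∧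
      Module.finrank K⟮a⟯ L * (minpoly K a).natDegree = Module.finrank K L := by
  classical
  let pb := IntermediateField.adjoin.powerBasis (Algebra.IsIntegral.isIntegral (R := K) a)
  let c := Module.Free.chooseBasis K⟮a⟯ L
  have hgen : algebraMap K⟮a⟯ L pb.gen = a := rfl
  refine ⟨?_, ?_⟩
  · rw [← LinearMap.charpoly_toMatrix _ (pb.basis.smulTower c)]
    rw [show LinearMap.toMatrix (pb.basis.smulTower c) (pb.basis.smulTower c) (Algebra.lmul K L a) =
      Algebra.leftMulMatrix (pb.basis.smulTower c) a from rfl]
    rw [show Algebra.leftMulMatrix (pb.basis.smulTower c) a = Algebra.leftMulMatrix (pb.basis.smulTower c) (algebraMap K⟮a⟯ L pb.gen) from rfl,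
      Algebra.smulTower_leftMulMatrix_algebraMap]
    have hchar : Matrix.charmatrix (Matrix.blockDiagonal fun _ : Module.Free.ChooseBasisIndex K⟮a⟯ L => Algebra.leftMulMatrix pb.basis pb.gen) =
        Matrix.blockDiagonal fun _ : Module.Free.ChooseBasisIndex K⟮a⟯ L => Matrix.charmatrix (Algebra.leftMulMatrix pb.basis pb.gen) := by
      refine Matrix.ext fun ⟨i, u⟩ ⟨j, v⟩ => ?_
      rw [Matrix.charmatrix_apply, Matrix.blockDiagonal_apply, Matrix.blockDiagonal_apply, Matrix.charmatrix_apply, Matrix.diagonal_apply, Matrix.diagonal_apply]
      by_cases huv : u = v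
      · subst huv; simp
      · simp [huv]
    rw [Matrix.charpoly, hchar, Matrix.det_blockDiagonal, Finset.prod_const, Finset.card_univ, ← Module.finrank_eq_card_basis c]
    congr 1
    rw [← Matrix.charpoly, charpoly_leftMulMatrix pb]
    exact IntermediateField.minpoly_gen K a
  · rw [← IntermediateField.adjoin.finrank (Algebra.IsIntegral.isIntegral (R := K) a), mul_comm, Module.finrank_mul_finrank]

end Groth.Agent.S6364
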