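import Groth.Statements.S6368
import Groth.Agent.Lib.Kap.Basic
import Mathlib.RingTheory.Flat.FaithfullyFlat.Basic
import Mathlib.LinearAlgebra.TensorProduct.RightExactness

set_option autoImplicit false
universe u
open scoped TensorProduct
open CAlg

namespace Groth.Agent.S6368

/-- Let R → S be faithfully flat and M an R-module. If the S-module S ⊗_R M is countably generated then
M is countably generated. -/
theorem result (R S : Type u) [CommRing R] [CommRing S] [Algebra R S]
    [Module.FaithfullyFlat R S] (M : Type u) [AddCommGroup M] [Module R M]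
    (h : CAlg.IsCountablyGenerated S (S ⊗[R] M)) : CAlg.IsCountablyGenerated R M := by
  classical
  obtain ⟨t, ht, htop⟩ := h
  choose L hL using fun z : S ⊗[R] M => TensorProduct.exists_finset z
  let u : Set M := ⋃ z ∈ t, ((L z).image Prod.snd : Set M)
  have hu : u.Countable := ht.biUnion fun z _ => ((L z).image Prod.snd).countable_toSet
  let N : Submodule R M := Submodule.span R u
  have hzero : ∀ z : S ⊗[R] M, (N.mkQ.baseChange S) z = 0 := by
    have hle : ⊤ ≤ LinearMap.ker (N.mkQ.baseChange S) := by
      rw [← htop, Submodule.span_le]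
      intro z hz
      rw [SetLike.mem_coe, LinearMap.mem_ker, hL z, map_sum]
      refine Finset.sum_eq_zero fun p hp => ?_
      have hp2 : N.mkQ p.2 = 0 := (Submodule.Quotient.mk_eq_zero N).2
        (Submodule.subset_span (Set.mem_biUnion hz (Finset.mem_coe.2 (Finset.mem_image_of_mem Prod.snd hp))))
      rw [LinearMap.baseChange_tmul, hp2, TensorProduct.tmul_zero]
    exact fun z => hle Submodule.mem_top
  haveI : Subsingleton (S ⊗[R] (M ⧸ N)) := subsingleton_of_forall_eq 0 fun z => by
    obtain ⟨y, rfl⟩ := LinearMap.lTensor_surjective S N.mkQ_surjective z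
    exact hzero y
  haveI : Subsingleton (M ⧸ N) := Module.FaithfullyFlat.lTensor_reflects_triviality R S (M ⧸ N)
  exact ⟨u, hu, Submodule.Quotient.subsingleton_iff.1 this⟩

end Groth.Agent.S6368
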