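import Groth.Statements.S6369
import Mathlib.RingTheory.DedekindDomain.Ideal.Basic


set_option autoImplicit false
universe u
open CAlg

namespace Groth.Agent.S6369

variable {D : Type u} [CommRing D] [IsDomain D]

/-- Divides a nonzero principal ideal. -/
def DivPrinc (P : Ideal D) : Prop := ∃ c : D, c ≠ 0 ∧ ∃ C : Ideal D, P * C = Ideal.span {c}

lemma cancel {P A B : Ideal D} (h : DivPrinc P) (e : P * A = P * B) : A = B := by
  obtain ⟨c, hc, C, hC⟩ := h
  have : Ideal.span {c} * A = Ideal.span {c} * B := by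
    rw [← hC, mul_comm P C, mul_assoc, mul_assoc, e]
  exact (Ideal.span_singleton_mul_right_inj hc).mp this

lemma unique_fac : ∀ (n : ℕ) {s t : Multiset (Ideal D)}, Multiset.card s = n →
    (∀ p ∈ s, p.IsPrime) → (∀ p ∈ t, p.IsPrime) → DivPrinc s.prod → s.prod = t.prod → s = t := by
  classical
  intro n
  induction n with
  | zero =>
    intro s t hs _ ht _ he
    rw [Multiset.card_eq_zero] at hs
    subst hs
    by_contra hne
    obtain ⟨Q, hQ⟩ := Multiset.exists_mem_of_ne_zero (Ne.symm hne)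
    apply (ht Q hQ).ne_top
    rw [eq_top_iff, ← Ideal.one_eq_top, ← Multiset.prod_zero, he]
    exact Ideal.le_of_dvd (Multiset.dvd_prod hQ)
  | succ n ih =>
    intro s t hs hsp htp hd he
    have hne : s.toFinset.Nonempty := by
      rw [Multiset.toFinset_nonempty]; intro h; simp [h] at hs
    obtain ⟨P, hP, hmin⟩ := s.toFinset.exists_minimal hne
    rw [Multiset.mem_toFinset] at hP
    have := hsp P hP
    have h1 : t.prod ≤ P := he ▸ Ideal.le_of_dvd (Multiset.dvd_prod hP)
    obtain ⟨Q, hQ, hQP⟩ := (Ideal.IsPrime.multiset_prod_le this).mp h1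
    have h2 : s.prod ≤ Q := he ▸ Ideal.le_of_dvd (Multiset.dvd_prod hQ)
    obtain ⟨P', hP', hP'Q⟩ := (Ideal.IsPrime.multiset_prod_le (htp Q hQ)).mp h2
    have hPQ : Q = P := le_antisymm hQP
      ((hmin (Multiset.mem_toFinset.mpr hP') (hP'Q.trans hQP)).trans hP'Q)
    subst hPQ
    obtain ⟨s', rfl⟩ := Multiset.exists_cons_of_mem hP
    obtain ⟨t', rfl⟩ := Multiset.exists_cons_of_mem hQ
    rw [Multiset.prod_cons, Multiset.prod_cons] at he
    rw [Multiset.prod_cons] at hd
    obtain ⟨c, hc, C, hC⟩ := hd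
    have e' : s'.prod = t'.prod := cancel ⟨c, hc, s'.prod * C, by rwa [← mul_assoc]⟩ he
    rw [ih (by simpa using hs) (fun p hp => hsp p (Multiset.mem_cons_of_mem hp))
      (fun p hp => htp p (Multiset.mem_cons_of_mem hp))
      ⟨c, hc, Q * C, by rw [← hC]; ring⟩ e']

/-- Existence of prime factorization. -/
def HasFac (D : Type u) [CommRing D] : Prop :=
  ∀ I : Ideal D, I ≠ ⊥ → ∃ s : Multiset (Ideal D), (∀ p ∈ s, p.IsPrime) ∧ s.prod = I

lemma isMaximal_of_divPrinc (hfac : HasFac D) {p : Ideal D} [p.IsPrime] (hp : DivPrinc p) :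
    p.IsMaximal := by
  classical
  rw [Ideal.isMaximal_iff]
  refine ⟨(Ideal.ne_top_iff_one _).mp (Ideal.IsPrime.ne_top ‹_›), fun J a hpJ hap haJ => ?_⟩
  suffices h : p ⊔ Ideal.span {a} = ⊤ by
    have h' : (⊤ : Ideal D) ≤ J := h ▸ sup_le hpJ ((Ideal.span_singleton_le_iff_mem J).mpr haJ)
    exact h' trivial
  have hne : ∀ b, b ∉ p → p ⊔ Ideal.span {b} ≠ ⊥ := fun b hb h => hb (by
    have : b = 0 := by
      rw [← Ideal.mem_bot, ← h]
      exact Ideal.mem_sup_right (Ideal.mem_span_singleton_self b)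
    simp [this])
  have haa : a * a ∉ p := fun h => (Ideal.IsPrime.mem_or_mem ‹_› h).elim hap hap
  obtain ⟨s, hs, hse⟩ := hfac _ (hne a hap)
  obtain ⟨t, ht, hte⟩ := hfac _ (hne _ haa)
  let φ := Ideal.Quotient.mk p
  have hmap : ∀ b, (p ⊔ Ideal.span {b}).map φ = Ideal.span {φ b} := fun b => by
    rw [Ideal.map_sup, Ideal.map_quotient_self, bot_sup_eq, Ideal.map_span, Set.image_singleton]
  have hker : ∀ {u : Multiset (Ideal D)} {b : D}, u.prod = p ⊔ Ideal.span {b} →
      ∀ q ∈ u, p ≤ q := fun {u b} hu q hq =>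
    le_sup_left.trans (hu ▸ Ideal.le_of_dvd (Multiset.dvd_prod hq))
  have hprime : ∀ {u : Multiset (Ideal D)} {b : D}, u.prod = p ⊔ Ideal.span {b} →
      (∀ q ∈ u, q.IsPrime) → ∀ q ∈ u.map (Ideal.map φ), q.IsPrime := fun {u b} hu hp q hq => by
    obtain ⟨q0, hq0, rfl⟩ := Multiset.mem_map.mp hq
    have := hp q0 hq0
    exact Ideal.map_isPrime_of_surjective Ideal.Quotient.mk_surjective
      (by rw [Ideal.mk_ker]; exact hker hu q0 hq0)
  have hprod : ∀ (u : Multiset (Ideal D)), (u.map (Ideal.map φ)).prod = u.prod.map φ := fun u =>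
    (map_multiset_prod (Ideal.mapHom φ) u).symm
  have hss : (s + s).prod.map φ = Ideal.span {φ (a * a)} := by
    rw [Multiset.prod_add, Ideal.map_mul, hse, hmap, Ideal.span_singleton_mul_span_singleton,
      map_mul]
  have hne0 : φ (a * a) ≠ 0 := fun h => haa (Ideal.Quotient.eq_zero_iff_mem.mp h)
  have heq : (s + s).map (Ideal.map φ) = t.map (Ideal.map φ) := by
    refine unique_fac _ rfl ?_ (hprime hte ht) ?_ ?_
    · intro q hq
      rw [Multiset.map_add, Multiset.mem_add] at hq
      exact hq.elim (hprime hse hs q) (hprime hse hs q)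
    · exact ⟨_, hne0, ⊤, by rw [hprod, hss, Ideal.mul_top]⟩
    · rw [hprod, hprod, hss, hte, hmap]
  have heq' : s + s = t := by
    have hinv : ∀ {u : Multiset (Ideal D)}, (∀ q ∈ u, p ≤ q) →
        (u.map (Ideal.map φ)).map (Ideal.comap φ) = u := fun {u} hu => by
      rw [Multiset.map_map]
      conv_rhs => rw [← Multiset.map_id' u]
      exact Multiset.map_congr rfl fun q hq => by
        rw [Function.comp_apply, Ideal.comap_map_of_surjective φ Ideal.Quotient.mk_surjective,
          ← RingHom.ker_eq_comap_bot, Ideal.mk_ker, sup_eq_left]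
        exact hu q hq
    rw [← hinv (u := s + s) (fun q hq => (Multiset.mem_add.mp hq).elim (hker hse q) (hker hse q)),
      heq, hinv (hker hte)]
  have hsq : (p ⊔ Ideal.span {a}) * (p ⊔ Ideal.span {a}) = p ⊔ Ideal.span {a * a} := by
    rw [← hse, ← hte, ← heq', Multiset.prod_add]
  have hpp : p * (p ⊔ Ideal.span {a}) = p := by
    refine le_antisymm Ideal.mul_le_left fun x hx => ?_
    have hx' : x ∈ (p ⊔ Ideal.span {a}) * (p ⊔ Ideal.span {a}) := hsq ▸ Ideal.mem_sup_left hx
    have hle : (p ⊔ Ideal.span {a}) * (p ⊔ Ideal.span {a}) ≤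
        p * (p ⊔ Ideal.span {a}) ⊔ Ideal.span {a} * Ideal.span {a} := by
      rw [Ideal.sup_mul, Ideal.mul_sup (Ideal.span {a})]
      refine sup_le le_sup_left (sup_le ?_ le_sup_right)
      exact le_sup_of_le_left (by rw [mul_comm]; exact Ideal.mul_mono_right le_sup_right)
    obtain ⟨y, hy, z, hz, rfl⟩ := Submodule.mem_sup.mp (hle hx')
    rw [Ideal.span_singleton_mul_span_singleton, Ideal.mem_span_singleton'] at hz
    obtain ⟨r, rfl⟩ := hz
    have hr : r * (a * a) ∈ p := by
      simpa using p.sub_mem hx (Ideal.mul_le_left hy)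
    have hr' : r ∈ p := ((Ideal.IsPrime.mem_or_mem ‹_› hr).resolve_right haa)
    refine (p * (p ⊔ Ideal.span {a})).add_mem hy ?_
    rw [← mul_assoc]
    exact Ideal.mul_mem_mul (p.mul_mem_right a hr') (Ideal.mem_sup_right (Ideal.mem_span_singleton_self a))
  exact cancel hp (by rw [hpp, Ideal.mul_top])



/-- (1) ⇒ (3): let R be a domain such that every nonzero ideal is a product of nonzero prime ideals,
uniquely up to permutation of the factors. Then R is Noetherian, integrally closed and of dimension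
at most one, i.e. a Dedekind domain in the Noetherian sense. (The converse and the description by
discrete valuation rings at maximal ideals are the standard equivalences.) -/
theorem result (R : Type u) [CommRing R] [IsDomain R]
    (h : ∀ I : Ideal R, I ≠ ⊥ → ∃! s : Multiset (Ideal R), (∀ p ∈ s, p.IsPrime ∧ p ≠ ⊥) ∧ s.prod = I) :
    IsDedekindDomain R := by
  have hfac : HasFac R := fun I hI => by
    obtain ⟨s, ⟨hs, he⟩, _⟩ := h I hI
    exact ⟨s, fun p hp => (hs p hp).1, he⟩
  have hdiv : ∀ p : Ideal R, p.IsPrime → p ≠ ⊥ → DivPrinc p := by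
    intro p hp hp0
    obtain ⟨a, hap, ha0⟩ := Submodule.exists_mem_ne_zero_of_ne_bot hp0
    obtain ⟨s, hs, he⟩ := hfac (Ideal.span {a}) (by simpa using ha0)
    have hle : s.prod ≤ p := he ▸ (Ideal.span_singleton_le_iff_mem p).mpr hap
    obtain ⟨Q, hQ, hQp⟩ := (Ideal.IsPrime.multiset_prod_le hp).mp hle
    obtain ⟨s', rfl⟩ := Multiset.exists_cons_of_mem hQ
    have := hs Q hQ
    have hQd : DivPrinc Q := ⟨a, ha0, s'.prod, by rwa [Multiset.prod_cons] at he⟩
    rwa [← (isMaximal_of_divPrinc hfac hQd).eq_of_le hp.ne_top hQp]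
  rw [isDedekindDomain_iff_mul_inv_cancel (K := FractionRing R)]
  intro I hI
  rw [FractionalIdeal.mul_inv_cancel_iff_isUnit]
  obtain ⟨a, J, ha, rfl⟩ := FractionalIdeal.exists_eq_spanSingleton_mul I
  have hJ : J ≠ ⊥ := fun h => hI (by simp [h])
  have hunit : ∀ b : FractionRing R, b ≠ 0 →
      IsUnit (FractionalIdeal.spanSingleton (nonZeroDivisors R) b) := fun b hb =>
    isUnit_iff_exists_inv.mpr ⟨FractionalIdeal.spanSingleton _ b⁻¹, by
      rw [FractionalIdeal.spanSingleton_mul_spanSingleton, mul_inv_cancel₀ hb,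
        FractionalIdeal.spanSingleton_one]⟩
  have ha' : algebraMap R (FractionRing R) a ≠ 0 := by simpa using ha
  refine (hunit _ (inv_ne_zero ha')).mul ?_
  obtain ⟨s, ⟨hs, rfl⟩, -⟩ := h J hJ
  clear hI hJ
  induction s using Multiset.induction with
  | empty => simp
  | cons q s ih =>
    rw [Multiset.prod_cons, FractionalIdeal.coeIdeal_mul]
    refine IsUnit.mul ?_ (ih fun p hp => hs p (Multiset.mem_cons_of_mem hp))
    obtain ⟨c, hc, C, hC⟩ := hdiv q (hs q (Multiset.mem_cons_self q s)).1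
      (hs q (Multiset.mem_cons_self q s)).2
    have : IsUnit ((q * C : Ideal R) : FractionalIdeal (nonZeroDivisors R) (FractionRing R)) := by
      rw [hC, FractionalIdeal.coeIdeal_span_singleton]
      exact hunit _ (by simpa using hc)
    rw [FractionalIdeal.coeIdeal_mul] at this
    exact isUnit_of_mul_isUnit_left this

end Groth.Agent.S6369
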