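import Groth.Statements.S6370
import Groth.Agent.Lib.KrullAkizuki.DVR
import Mathlib.RingTheory.Ideal.GoingUp

set_option autoImplicit false
universe u
open CAlg

namespace Groth.Agent.S6370

open Groth.Agent.KrullAkizuki in
lemma facts (A K L B : Type u) [CommRing A] [IsDomain A] [IsNoetherianRing A] [Ring.KrullDimLE 1 A]
    [Field K] [Algebra A K] [IsFractionRing A K] [Field L] [Algebra K L] [FiniteDimensional K L]
    [Algebra A L] [IsScalarTower A K L] [CommRing B] [IsDomain B] [Algebra A B] [Algebra B L]
    [IsScalarTower A B L] [IsIntegralClosure B A L] :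
    IsDedekindDomain B ∧ Function.Injective (algebraMap A B) ∧ Algebra.IsIntegral A B ∧
      ∀ a : A, a ≠ 0 → Module.length A (B ⧸ mulRange a B) ≠ ⊤ := by
  have hBL : Function.Injective (algebraMap B L) := IsIntegralClosure.algebraMap_injective B A L
  have hAB : Function.Injective (algebraMap A B) := fun a b h => IsFractionRing.injective A K
    ((algebraMap K L).injective (by
      rw [← IsScalarTower.algebraMap_apply, ← IsScalarTower.algebraMap_apply,
        IsScalarTower.algebraMap_apply A B L, h, ← IsScalarTower.algebraMap_apply]))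
  let e := IsIntegralClosure.equiv A B L (integralClosure A L)
  haveI := isDedekindDomain_integralClosure A K L
  haveI := IsIntegralClosure.isIntegral_algebra (R := A) (A := B) L
  haveI : IsNoetherianRing B := isNoetherianRing_of_ringEquiv _ e.symm.toRingEquiv
  haveI : IsIntegrallyClosed B := IsIntegrallyClosed.of_equiv e.symm.toRingEquiv
  haveI : Ring.DimensionLEOne A := dimensionLEOne_of_krullDimLE A
  haveI : Ring.DimensionLEOne B := Ring.DimensionLEOne.of_isIntegral A B
  refine ⟨{ (inferInstance : Ring.DimensionLEOne B) with }, hAB, inferInstance, fun a ha => ?_⟩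
  let ψ : B →ₗ[A] L := (IsScalarTower.toAlgHom A B L).toLinearMap
  let eA : B ≃ₗ[A] LinearMap.range ψ := LinearEquiv.ofInjective ψ hBL
  have h := length_quotient_le A K (LinearMap.range ψ) ha
  rwa [(Submodule.Quotient.equiv (mulRange a B) (mulRange a (LinearMap.range ψ)) eA (by
      ext v
      constructor
      · rintro ⟨_, ⟨z, rfl⟩, rfl⟩; exact ⟨eA z, by simp⟩
      · rintro ⟨z, rfl⟩; exact ⟨a • eA.symm z, ⟨_, rfl⟩, by simp⟩)).length_eq]


/-- For a one-dimensional Noetherian domain A with fraction field K, a finite field extension L of K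
(separable or not) and B the integral closure of A in L: B is a Dedekind domain, Spec B → Spec A is
surjective and has finite fibres, and at every maximal ideal Q of B the residue field B/Q is finite
over A/(Q ∩ A). -/
theorem result (A K L B : Type u) [CommRing A] [IsDomain A]
    [IsNoetherianRing A] (hdim : ringKrullDim A = 1) [Field K] [Algebra A K] [IsFractionRing A K]
    [Field L] [Algebra K L] [FiniteDimensional K L] [Algebra A L] [IsScalarTower A K L]
    [CommRing B] [IsDomain B] [Algebra A B] [Algebra B L] [IsScalarTower A B L] [IsIntegralClosure B A L] :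
    IsDedekindDomain B ∧ Function.Surjective (PrimeSpectrum.comap (algebraMap A B)) ∧
      (∀ p : PrimeSpectrum A, (PrimeSpectrum.comap (algebraMap A B) ⁻¹' {p}).Finite) ∧
      ∀ Q : Ideal B, Q.IsMaximal → Module.Finite (A ⧸ Q.comap (algebraMap A B)) (B ⧸ Q) := by
  haveI : Ring.KrullDimLE 1 A := Ring.krullDimLE_iff.2 (by rw [hdim]; simp)
  haveI : Ring.DimensionLEOne A := Groth.Agent.KrullAkizuki.dimensionLEOne_of_krullDimLE A
  obtain ⟨hD, hAB, hint, hlen⟩ := facts A K L B
  have hAf : ¬ IsField A := fun h => by
    have := ringKrullDim_eq_zero_of_isField h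
    rw [hdim] at this; exact absurd this (by simp)
  have key : ∀ a : A, a ≠ 0 → IsArtinianRing (B ⧸ Ideal.span {algebraMap A B a}) ∧
      Module.Finite A (B ⧸ Ideal.span {algebraMap A B a}) := by
    intro a ha
    have e : Groth.Agent.KrullAkizuki.mulRange a B = (Ideal.span {algebraMap A B a}).restrictScalars A := by
      ext x
      simp [Ideal.mem_span_singleton, Algebra.smul_def, dvd_iff_exists_eq_mul_left, mul_comm, eq_comm]
    have hfl : IsFiniteLength A (B ⧸ Ideal.span {algebraMap A B a}) := by
      have h := Module.length_ne_top_iff.1 (hlen a ha)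
      exact ((Submodule.quotEquivOfEq _ _ e).trans (Submodule.Quotient.restrictScalarsEquiv A _)).isFiniteLength h
    obtain ⟨h1, h2⟩ := isFiniteLength_iff_isNoetherian_isArtinian.1 hfl
    exact ⟨isArtinian_of_tower A h2, Module.IsNoetherian.finite A _⟩
  refine ⟨hD, ?_, fun p => ?_, fun Q hQ => ?_⟩
  · intro p
    obtain ⟨Q, -, hQ, hQc⟩ := Ideal.exists_ideal_over_prime_of_isIntegral p.asIdeal (⊥ : Ideal B)
      (by rw [show Ideal.comap (algebraMap A B) (⊥ : Ideal B) = ⊥ from (RingHom.injective_iff_ker_eq_bot _).1 hAB]; exact bot_le)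
    exact ⟨⟨Q, hQ⟩, PrimeSpectrum.ext hQc⟩
  · by_cases hp : p.asIdeal = ⊥
    · refine (Set.finite_singleton (⟨⊥, Ideal.isPrime_bot⟩ : PrimeSpectrum B)).subset fun q hq => ?_
      have h : q.asIdeal.comap (algebraMap A B) = ⊥ := by
        rw [← hp]; exact congrArg PrimeSpectrum.asIdeal hq
      exact PrimeSpectrum.ext (Ideal.eq_bot_of_comap_eq_bot h)
    · obtain ⟨a, ha, ha0⟩ := Submodule.exists_mem_ne_zero_of_ne_bot hp
      haveI := (key a ha0).1
      refine ((Set.finite_range (PrimeSpectrum.comap (Ideal.Quotient.mk (Ideal.span {algebraMap A B a})))).subset fun q hq => ?_)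
      have hle : Ideal.span {algebraMap A B a} ≤ q.asIdeal := by
        rw [Ideal.span_singleton_le_iff_mem, ← Ideal.mem_comap]
        have h : q.asIdeal.comap (algebraMap A B) = p.asIdeal := congrArg PrimeSpectrum.asIdeal hq
        rw [h]; exact ha
      refine ⟨⟨q.asIdeal.map (Ideal.Quotient.mk _), Ideal.map_isPrime_of_surjective Ideal.Quotient.mk_surjective (by rwa [Ideal.mk_ker])⟩, ?_⟩
      apply PrimeSpectrum.ext
      show Ideal.comap _ (Ideal.map _ _) = _
      rw [Ideal.comap_map_of_surjective' _ Ideal.Quotient.mk_surjective, Ideal.mk_ker, sup_eq_left.2 hle]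
  · have hQ0 : Q.comap (algebraMap A B) ≠ ⊥ := by
      haveI := Ideal.isMaximal_comap_of_isIntegral_of_isMaximal (R := A) Q
      intro h
      exact hAf (Ring.isField_iff_maximal_bot.2 (h ▸ this))
    obtain ⟨a, ha, ha0⟩ := Submodule.exists_mem_ne_zero_of_ne_bot hQ0
    haveI := (key a ha0).2
    have hle : Ideal.span {algebraMap A B a} ≤ Q := (Ideal.span_singleton_le_iff_mem _).2 ha
    haveI : Module.Finite A (B ⧸ Q) := Module.Finite.of_surjective
      (Ideal.Quotient.factorₐ A hle).toLinearMap (Ideal.Quotient.factor_surjective hle)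
    exact Module.Finite.of_restrictScalars_finite A _ _

end Groth.Agent.S6370
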