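import Groth.Statements.S6371
import Mathlib.RingTheory.Localization.BaseChange
import Mathlib.RingTheory.LocalProperties.Submodule
import Mathlib.Algebra.Algebra.Epi

set_option autoImplicit false
universe u
open CAlg

namespace Groth.Agent.S6371

open TensorProduct in
theorem epi_loc (R S : Type u) [CommRing R] [CommRing S] [Algebra R S] (p : Ideal R) [p.IsPrime]
    (h : Algebra.IsEpi R S) :
    Algebra.IsEpi (Localization.AtPrime p) (Localization (Algebra.algebraMapSubmonoid S p.primeCompl)) := by
  let A := Localization.AtPrime p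
  let T := Localization (Algebra.algebraMapSubmonoid S p.primeCompl)
  rw [Algebra.isEpi_iff_forall_one_tmul_eq]
  intro a
  obtain ⟨⟨s, ⟨_, r, hr, rfl⟩⟩, hs⟩ := IsLocalization.surj (Algebra.algebraMapSubmonoid S p.primeCompl) a
  have := IsLocalization.tensorProduct_compatibleSMul p.primeCompl A T T
  let j : S →ₗ[R] T := (IsScalarTower.toAlgHom R S T).toLinearMap
  let c := TensorProduct.equivOfCompatibleSMul R A R T T
  have h0 : (1 : T) ⊗ₜ[R] (algebraMap S T s) = (algebraMap S T s) ⊗ₜ[R] (1 : T) := by
    simpa [j] using congrArg (TensorProduct.map j j) ((Algebra.isEpi_iff_forall_one_tmul_eq R S).1 h s)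
  have h1 : (1 : T) ⊗ₜ[A] (algebraMap S T s) = (algebraMap S T s) ⊗ₜ[A] (1 : T) := by
    obtain ⟨d, hd⟩ : ∃ d : T ⊗[R] T →ₗ[R] T ⊗[A] T, ∀ x y, d (x ⊗ₜ y) = x ⊗ₜ y :=
      ⟨TensorProduct.lift (((TensorProduct.mk A T T).restrictScalars₁₂ R R)), fun _ _ => rfl⟩
    simpa [hd] using congrArg d h0
  have hu : IsUnit (algebraMap R A r) := IsLocalization.map_units A (⟨r, hr⟩ : p.primeCompl)
  have e : algebraMap S T s = algebraMap R A r • a := by
    rw [← hs, algebraMap_smul, Algebra.smul_def, mul_comm, ← IsScalarTower.algebraMap_apply]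
  rw [e, tmul_smul, ← smul_tmul'] at h1
  exact hu.smul_left_cancel.1 h1

open TensorProduct in
theorem epi_of_loc (R S : Type u) [CommRing R] [CommRing S] [Algebra R S]
    (h : ∀ (p : Ideal R) [p.IsPrime],
      Algebra.IsEpi (Localization.AtPrime p) (Localization (Algebra.algebraMapSubmonoid S p.primeCompl))) :
    Algebra.IsEpi R S := by
  rw [Algebra.isEpi_iff_forall_one_tmul_eq]
  intro a
  rw [← sub_eq_zero]
  set x := (1 : S) ⊗ₜ[R] a - a ⊗ₜ[R] (1 : S) with hx
  by_contra hne
  have hann : (Submodule.span R {x}).annihilator ≠ ⊤ := fun e => hne (by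
    have : (1 : R) ∈ (Submodule.span R {x}).annihilator := e ▸ Submodule.mem_top
    rwa [Submodule.mem_annihilator_span_singleton, one_smul] at this)
  obtain ⟨p, hp, hle⟩ := Ideal.exists_le_maximal _ hann
  let A := Localization.AtPrime p
  let T := Localization (Algebra.algebraMapSubmonoid S p.primeCompl)
  have := IsLocalization.tensorProduct_compatibleSMul p.primeCompl A T T
  let j : S →ₗ[R] T := (IsScalarTower.toAlgHom R S T).toLinearMap
  have hj : IsLocalizedModule p.primeCompl j :=
    (isLocalizedModule_iff_isLocalization (S := p.primeCompl) (R := R) (A := S) (Aₛ := T)).2 inferInstance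
  let c := TensorProduct.equivOfCompatibleSMul R A R T T
  have h0 : (TensorProduct.map j j) x = 0 := by
    have h1 := (Algebra.isEpi_iff_forall_one_tmul_eq A T).1 (h p) (algebraMap S T a)
    obtain ⟨d, hd⟩ : ∃ d : T ⊗[A] T →+ T ⊗[R] T, ∀ u v, d (u ⊗ₜ v) = u ⊗ₜ v :=
      ⟨TensorProduct.liftAddHom
        { toFun := fun u => (TensorProduct.mk R T T u).toAddMonoidHom
          map_zero' := by ext; simp
          map_add' := fun u v => by ext; simp [add_tmul] }
        (fun r u v => TensorProduct.CompatibleSMul.smul_tmul r u v), fun u v => rfl⟩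
    have h2 := congrArg d h1
    rw [hd, hd] at h2
    simp [hx, j, h2]
  rw [← LinearMap.rTensor_comp_lTensor, LinearMap.comp_apply] at h0
  obtain ⟨t, ht⟩ := (IsLocalizedModule.eq_zero_iff p.primeCompl (AlgebraTensorModule.rTensor R T j)).1 h0
  have h0' : TensorProduct.comm R S T (j.lTensor S ((t : R) • x)) = 0 := by
    rw [map_smul, ← Submonoid.smul_def, ht, map_zero]
  have e : ∀ z, TensorProduct.comm R S T (j.lTensor S z) = AlgebraTensorModule.rTensor R S j (TensorProduct.comm R S S z) := by
    intro z
    induction z with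
    | zero => simp
    | add u v hu hv => simp only [map_add, hu, hv]
    | tmul u v => rfl
  rw [e] at h0'
  obtain ⟨t', ht'⟩ := (IsLocalizedModule.eq_zero_iff p.primeCompl (AlgebraTensorModule.rTensor R S j)).1 h0'
  have h3 : ((t' : R) * t) • x = 0 := by
    apply (TensorProduct.comm R S S).injective
    rw [mul_smul, map_smul, map_zero]
    exact ht'
  exact (t' * t).2 (hle ((Submodule.mem_annihilator_span_singleton _ _).2 h3))



/-- A ring map R → S is an epimorphism of rings if and only if for every prime p of R the localized map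
R_p → S_p is an epimorphism, where S_p is S localized at the image of R ∖ p. -/
theorem result (R S : Type u) [CommRing R] [CommRing S] [Algebra R S] :
    Algebra.IsEpi R S ↔ ∀ (p : Ideal R) [p.IsPrime],
      Algebra.IsEpi (Localization.AtPrime p) (Localization (Algebra.algebraMapSubmonoid S p.primeCompl)) := by
  exact ⟨fun h p _ => epi_loc R S p h, epi_of_loc R S⟩

end Groth.Agent.S6371
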