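import Groth.Statements.S6372
import Mathlib.RingTheory.Flat.FaithfullyFlat.Algebra

set_option autoImplicit false
universe u
open CAlg

namespace Groth.Agent.S6372

/-- A faithfully flat epimorphism of rings is an isomorphism: if R → S is faithfully flat and an
epimorphism in the category of rings then it is bijective. -/
theorem result (R S : Type u) [CommRing R] [CommRing S] [Algebra R S]
    [Module.FaithfullyFlat R S] [Algebra.IsEpi R S] : Function.Bijective (algebraMap R S) := by
  refine ⟨(faithfulSMul_iff_algebraMap_injective R S).1 inferInstance, ?_⟩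
  have : Function.Surjective ((Algebra.linearMap R S).lTensor S) := by
    intro z
    induction z using TensorProduct.induction_on with
    | zero => exact ⟨0, map_zero _⟩
    | tmul a b =>
      refine ⟨(a * b) ⊗ₜ 1, ?_⟩
      have := (Algebra.isEpi_iff_forall_one_tmul_eq R S).1 inferInstance b
      calc _ = (a * b) ⊗ₜ[R] (1 : S) := by simp
        _ = (a ⊗ₜ[R] (1 : S)) * (b ⊗ₜ[R] (1 : S)) := by simp
        _ = a ⊗ₜ[R] b := by rw [← this]; simp
    | add a b ha hb =>
      obtain ⟨a', rfl⟩ := ha
      obtain ⟨b', rfl⟩ := hb
      exact ⟨a' + b', map_add _ _ _⟩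
  exact (Module.FaithfullyFlat.lTensor_surjective_iff_surjective R S (Algebra.linearMap R S)).1 this

end Groth.Agent.S6372
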