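import Groth.Statements.S6373
import Mathlib.LinearAlgebra.TensorProduct.Associator
import Mathlib.LinearAlgebra.Basis.VectorSpace

set_option autoImplicit false
universe u
open CAlg

namespace Groth.Agent.S6373

/-- If k is a field and k → S is an epimorphism of rings, then S is the zero ring or k → S is an
isomorphism. -/
theorem result (k S : Type u) [Field k] [CommRing S] [Algebra k S] [Algebra.IsEpi k S] :
    Subsingleton S ∨ Function.Bijective (algebraMap k S) := by
  refine or_iff_not_imp_left.2 fun h => ?_
  haveI : Nontrivial S := not_subsingleton_iff_nontrivial.1 h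
  refine ⟨(algebraMap k S).injective, fun a => ?_⟩
  obtain ⟨φ, hφ⟩ := (LinearMap.toSpanSingleton k S 1).exists_leftInverse_of_injective
    (LinearMap.ker_eq_bot.2 (smul_left_injective k one_ne_zero))
  have h1 : φ 1 = 1 := by simpa using LinearMap.congr_fun hφ 1
  have := congrArg (fun z => TensorProduct.lid k S (φ.rTensor S z)) ((Algebra.isEpi_iff_forall_one_tmul_eq k S).1 inferInstance a)
  simp only [LinearMap.rTensor_tmul, TensorProduct.lid_tmul, h1, one_smul] at this
  exact ⟨φ a, by rw [Algebra.algebraMap_eq_smul_one, ← this]⟩

end Groth.Agent.S6373
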