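import Groth.Statements.S6374
import Mathlib.RingTheory.LocalRing.ResidueField.Fiber
import Mathlib.Algebra.Algebra.Epi
import Mathlib.LinearAlgebra.Dual.Lemmas

set_option autoImplicit false
universe u
open CAlg

namespace Groth.Agent.S6374

open TensorProduct in
theorem epi_baseChange (R S K : Type u) [CommRing R] [CommRing S] [CommRing K] [Algebra R S] [Algebra R K]
    [Algebra.IsEpi R S] : Algebra.IsEpi K (K ⊗[R] S) := by
  rw [Algebra.isEpi_iff_forall_one_tmul_eq]
  intro a
  let j : S →ₗ[R] K ⊗[R] S := (Algebra.TensorProduct.includeRight : S →ₐ[R] K ⊗[R] S).toLinearMap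
  let Φ : S ⊗[R] S →ₗ[R] (K ⊗[R] S) ⊗[K] (K ⊗[R] S) :=
    TensorProduct.lift (((TensorProduct.mk K (K ⊗[R] S) (K ⊗[R] S)).restrictScalars₁₂ R R).compl₁₂ j j)
  induction a with
  | zero => simp
  | add x y hx hy => rw [tmul_add, add_tmul, hx, hy]
  | tmul c s =>
    have h := congrArg Φ ((Algebra.isEpi_iff_forall_one_tmul_eq R S).1 inferInstance s)
    simp [Φ, j] at h
    have e : c ⊗ₜ[R] s = c • ((1 : K) ⊗ₜ[R] s) := by rw [smul_tmul', smul_eq_mul, mul_one]
    rw [e, tmul_smul, ← smul_tmul', Algebra.TensorProduct.one_def, h]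

open TensorProduct in
theorem bijective_of_epi_field (k A : Type u) [Field k] [CommRing A] [Algebra k A] [Algebra.IsEpi k A]
    [Nontrivial A] : Function.Bijective (algebraMap k A) := by
  refine ⟨(algebraMap k A).injective, fun a => ?_⟩
  by_contra h
  have ha : a ∉ Submodule.span k {(1 : A)} := fun hm => by
    obtain ⟨c, hc⟩ := Submodule.mem_span_singleton.1 hm
    exact h ⟨c, by rw [Algebra.algebraMap_eq_smul_one, hc]⟩
  obtain ⟨φ, hφa, hφ⟩ := Submodule.exists_dual_map_eq_bot_of_notMem ha inferInstance
  have hφ1 : φ 1 = 0 := by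
    have : φ 1 ∈ Submodule.map φ (Submodule.span k {(1 : A)}) := ⟨1, Submodule.mem_span_singleton_self _, rfl⟩
    rwa [hφ, Submodule.mem_bot] at this
  obtain ⟨ψ, hψ⟩ : ∃ ψ : Module.Dual k A, ψ 1 ≠ 0 := by
    by_contra! hall
    exact one_ne_zero ((Module.forall_dual_apply_eq_zero_iff k (1 : A)).1 hall)
  have := congrArg (fun z => TensorProduct.lid k k (TensorProduct.map φ ψ z))
    ((Algebra.isEpi_iff_forall_one_tmul_eq k A).1 inferInstance a)
  simp [hφ1] at this
  exact this.elim hφa hψ



/-- For an epimorphism of rings R → S, the induced map Spec S → Spec R is injective and induces trivial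
residue field extensions; stated in the form the proof gives: for every prime p of R the fibre ring
S ⊗_R κ(p) is either zero or κ(p) → S ⊗_R κ(p) is bijective, together with injectivity of Spec S →
Spec R. -/
theorem result (R S : Type u) [CommRing R] [CommRing S] [Algebra R S]
    [Algebra.IsEpi R S] :
    Function.Injective (PrimeSpectrum.comap (algebraMap R S)) ∧
      ∀ (p : Ideal R) [p.IsPrime],
        Subsingleton (p.Fiber S) ∨ Function.Bijective (algebraMap p.ResidueField (p.Fiber S)) := by
  have hfib : ∀ (p : Ideal R) [p.IsPrime],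
      Subsingleton (p.Fiber S) ∨ Function.Bijective (algebraMap p.ResidueField (p.Fiber S)) := by
    intro p _
    have : Algebra.IsEpi p.ResidueField (p.Fiber S) := epi_baseChange R S p.ResidueField
    rcases subsingleton_or_nontrivial (p.Fiber S) with h | h
    · exact Or.inl h
    · exact Or.inr (bijective_of_epi_field p.ResidueField (p.Fiber S))
  refine ⟨fun q₁ q₂ h => ?_, hfib⟩
  let p := PrimeSpectrum.comap (algebraMap R S) q₁
  have hs : Subsingleton (PrimeSpectrum (p.asIdeal.Fiber S)) := by
    rcases hfib p.asIdeal with h | h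
    · infer_instance
    · exact (PrimeSpectrum.comap_injective_of_surjective _ h.2).subsingleton
  let e := PrimeSpectrum.preimageEquivFiber R S p
  have := e.injective (Subsingleton.elim (e ⟨q₁, rfl⟩) (e ⟨q₂, h.symm⟩))
  exact congrArg Subtype.val this

end Groth.Agent.S6374
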