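import Groth.Statements.S6375
import Mathlib.RingTheory.TensorProduct.Finite
import Mathlib.Algebra.Algebra.Epi
import Mathlib.LinearAlgebra.TensorProduct.RightExactness
import Mathlib.SetTheory.Cardinal.Arithmetic

set_option autoImplicit false
universe u
open CAlg

namespace Groth.Agent.S6375


open TensorProduct in
theorem ker_lift {R : Type u} [CommRing R] {P : Type u} [AddCommGroup P] [Module R P] {F : Type u}
    [AddCommGroup F] [Module R F] (π : F →ₗ[R] P) (hπ : Function.Surjective π) (Q : Type u) [AddCommGroup Q]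
    [Module R Q] (z : Q ⊗[R] F) (hz : LinearMap.lTensor Q π z = 0) :
    ∃ (n : ℕ) (x : Fin n → Q) (k : Fin n → F), (∀ j, π (k j) = 0) ∧ z = ∑ j, x j ⊗ₜ[R] k j := by
  obtain ⟨y, rfl⟩ := (lTensor_exact Q (LinearMap.exact_subtype_ker_map π) hπ z).1 hz
  obtain ⟨T, hT⟩ := TensorProduct.exists_finset y
  refine ⟨_, fun j => (T.equivFin.symm j).1.1, fun j => (T.equivFin.symm j).1.2, fun j => (T.equivFin.symm j).1.2.2, ?_⟩
  rw [hT, map_sum, ← Finset.sum_coe_sort T, ← T.equivFin.symm.sum_comp]
  rfl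

open TensorProduct Cardinal in
theorem zigzag (R S : Type u) [CommRing R] [CommRing S] [Algebra R S] [Algebra.IsEpi R S] (s : S) :
    ∃ (n m : ℕ) (Y : Fin n → Fin m → R) (i1 is : Fin m) (x : Fin n → S) (b : Fin m → S),
      b i1 = 1 ∧ b is = s ∧ (∀ i, ∑ j, Y j i • x j = (if i = i1 then s else 0) - (if i = is then 1 else 0)) ∧
      ∀ j, ∑ i, Y j i • b i = 0 := by
  classical
  let π : (S →₀ R) →ₗ[R] S := Finsupp.linearCombination R id
  have hπ : Function.Surjective π := Finsupp.linearCombination_id_surjective R S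
  obtain ⟨n, xs, ks, hks, hy⟩ := ker_lift π hπ S
    (s ⊗ₜ[R] Finsupp.single (1 : S) (1 : R) - (1 : S) ⊗ₜ[R] Finsupp.single s (1 : R)) (by
      simp only [map_sub, LinearMap.lTensor_tmul]
      simp [π, (Algebra.isEpi_iff_forall_one_tmul_eq R S).1 inferInstance s])
  let B : Finset S := insert 1 (insert s (Finset.univ.biUnion fun j => (ks j).support))
  let e := B.equivFin
  have h1 : (1 : S) ∈ B := Finset.mem_insert_self _ _
  have hs : s ∈ B := Finset.mem_insert_of_mem (Finset.mem_insert_self _ _)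
  refine ⟨n, _, fun j i => (ks j) (e.symm i), e ⟨1, h1⟩, e ⟨s, hs⟩, xs,
    fun i => (e.symm i).1, by simp, by simp, fun i => ?_, fun j => ?_⟩
  · have := congrArg (fun z => TensorProduct.rid R S (LinearMap.lTensor S (Finsupp.lapply ((e.symm i).1)) z)) hy
    simp only [map_sum, map_sub, LinearMap.lTensor_tmul, Finsupp.lapply_apply,
      TensorProduct.rid_tmul, Finsupp.single_apply] at this
    rw [← this]
    have key : ∀ (a : S) (ha : a ∈ B), ((a = (e.symm i).1) ↔ i = e ⟨a, ha⟩) := fun a ha =>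
      ⟨fun h => by rw [show (⟨a, ha⟩ : B) = e.symm i from Subtype.ext h, Equiv.apply_symm_apply],
        fun h => by rw [h, Equiv.symm_apply_apply]⟩
    simp only [key 1 h1, key s hs, ite_smul, one_smul, zero_smul]
  · have hk : π (ks j) = 0 := hks j
    rw [Finsupp.linearCombination_apply,
      Finsupp.sum_of_support_subset (ks j) (s := B) (fun a ha => Finset.mem_insert_of_mem (Finset.mem_insert_of_mem
        (Finset.mem_biUnion.2 ⟨j, Finset.mem_univ _, ha⟩))) (fun a r => r • id a) (fun a _ => zero_smul R (id a))] at hk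
    rw [← Finset.sum_coe_sort B, ← e.symm.sum_comp] at hk
    exact hk



/-- For an infinite source ring: if R → S is an epimorphism of rings with R infinite, then |S| ≤ |R| as
cardinals. (For finite R the published statement also asserts |S| ≤ |R|, but its proof only gives
that S is countable and omits the rest, so that case is not included.) -/
theorem result (R S : Type u) [CommRing R] [CommRing S] [Algebra R S] [Algebra.IsEpi R S]
    [Infinite R] : Cardinal.mk S ≤ Cardinal.mk R := by
  classical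
  open Cardinal in
  choose n m Y i1 is x b h1 hs hx hb using zigzag R S
  let T := Σ p : ℕ × ℕ, (Fin p.1 → Fin p.2 → R) × (Fin p.2 × Fin p.2)
  let Φ : S → T := fun s => ⟨(n s, m s), Y s, i1 s, is s⟩
  have hΦ : Function.Injective Φ := by
    let P : T → S → Prop := fun d s => ∃ (x : Fin d.1.1 → S) (b : Fin d.1.2 → S),
      b d.2.2.1 = 1 ∧ b d.2.2.2 = s ∧
      (∀ i, ∑ j, d.2.1 j i • x j = (if i = d.2.2.1 then s else 0) - (if i = d.2.2.2 then 1 else 0)) ∧
      ∀ j, ∑ i, d.2.1 j i • b i = 0
    have hP : ∀ s, P (Φ s) s := fun s => ⟨x s, b s, h1 s, hs s, hx s, hb s⟩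
    intro s t hst
    obtain ⟨x', b', hb1', hbs', hx', hb'⟩ := hP s
    have ht := hP t
    rw [← hst] at ht
    obtain ⟨x'', b'', hb1'', hbs'', hx'', hb''⟩ := ht
    have h0 : ∑ i, (∑ j, (Φ s).2.1 j i • x'' j) * b' i = 0 := by
      simp only [Finset.sum_mul, smul_mul_assoc]
      rw [Finset.sum_comm]
      refine Finset.sum_eq_zero fun j _ => ?_
      simp only [← mul_smul_comm, ← Finset.mul_sum, hb', mul_zero]
    simp only [hx'', sub_mul, ite_mul, zero_mul, one_mul, Finset.sum_sub_distrib, Finset.sum_ite_eq',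
      Finset.mem_univ, if_true, hb1', hbs', mul_one] at h0
    exact (sub_eq_zero.1 h0).symm
  refine (Cardinal.mk_le_of_injective hΦ).trans ?_
  rw [Cardinal.mk_sigma]
  refine (Cardinal.sum_le_lift_mk_mul_iSup _).trans ?_
  have hR : Cardinal.aleph0 ≤ Cardinal.mk R := Cardinal.aleph0_le_mk R
  refine (mul_le_mul' ((Cardinal.lift_le_aleph0.2 Cardinal.mk_le_aleph0).trans hR) (ciSup_le' fun p => ?_)).trans_eq (Cardinal.mul_eq_self hR)
  rw [Cardinal.mk_prod, Cardinal.lift_uzero]
  refine (mul_le_mul' ?_ ((Cardinal.lift_le_aleph0.2 Cardinal.mk_le_aleph0).trans hR)).trans_eq (Cardinal.mul_eq_self hR)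
  rw [Cardinal.mk_congr (Equiv.curry (Fin p.1) (Fin p.2) R).symm]
  simp only [← Cardinal.power_def, Cardinal.mk_arrow, Cardinal.lift_uzero]
  exact Cardinal.pow_le hR (Cardinal.lift_lt_aleph0.2 Cardinal.mk_lt_aleph0)

end Groth.Agent.S6375
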