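import Groth.Statements.S6378
import Groth.Agent.Lib.TorH7.Basic
import Groth.Agent.Lib.CAlgLow.TorNil
import Mathlib.RingTheory.FiniteLength

set_option autoImplicit false
universe u
open CategoryTheory
open CAlg

namespace Groth.Agent.S6378

open CategoryTheory CategoryTheory.Limits in
theorem torVanish_of_isZero {R : Type u} [CommRing R] {N M P : Type u} [AddCommGroup N] [Module R N] [AddCommGroup M]
    [Module R M] [AddCommGroup P] [Module R P] [Module.Projective R P] (p : P →ₗ[R] M) (hp : Function.Surjective p)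
    (h : IsZero (((CategoryTheory.Tor (ModuleCat.{u} R) 1).obj (ModuleCat.of R N)).obj (ModuleCat.of R M))) :
    Function.Injective ((LinearMap.ker p).subtype.lTensor N) := by
  let Pr := ProjectiveResolution.of (ModuleCat.of R M)
  haveI hproj0 : Module.Projective R (Pr.complex.X 0) :=
    IsProjective.iff_projective (Pr.complex.X 0) |>.2 (Pr.projective 0)
  let q : Pr.complex.X 0 →ₗ[R] M := (Pr.π.f 0).hom
  have hq : Function.Surjective q := (ModuleCat.epi_iff_surjective (Pr.π.f 0)).1 inferInstance
  refine Groth.Agent.TorH7.lTensor_injective_transfer q hq p hp ?_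
  have h2 := IsZero.of_iso h (Pr.isoLeftDerivedObj _ 1).symm
  replace h2 : IsZero (HomologicalComplex.homology _ 1) := h2
  rw [← HomologicalComplex.exactAt_iff_isZero_homology,
    HomologicalComplex.exactAt_iff' _ 2 1 0 (by simp) (by simp), ShortComplex.moduleCat_exact_iff] at h2
  let d₁ : Pr.complex.X 1 →ₗ[R] Pr.complex.X 0 := (Pr.complex.d 1 0).hom
  let d₂ : Pr.complex.X 2 →ₗ[R] Pr.complex.X 1 := (Pr.complex.d 2 1).hom
  have hd : ∀ x, d₁ x ∈ LinearMap.ker q := fun x => by
    rw [LinearMap.mem_ker]
    exact LinearMap.congr_fun (congrArg ModuleCat.Hom.hom Pr.complex_d_comp_π_f_zero) x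
  let e : Pr.complex.X 1 →ₗ[R] LinearMap.ker q := d₁.codRestrict _ hd
  have he : Function.Surjective e := by
    rintro ⟨y, hy⟩
    obtain ⟨x, hx⟩ := (ShortComplex.moduleCat_exact_iff _).1 Pr.exact₀ y hy
    exact ⟨x, Subtype.ext hx⟩
  rw [injective_iff_map_eq_zero]
  intro x hx
  obtain ⟨z, rfl⟩ := LinearMap.lTensor_surjective N he x
  have hz : d₁.lTensor N z = 0 := by
    rw [← hx, ← LinearMap.lTensor_comp_apply]; rfl
  obtain ⟨y, hy⟩ := h2 z hz
  have hy' : d₂.lTensor N y = z := hy
  rw [← hy', ← LinearMap.lTensor_comp_apply,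
    show e ∘ₗ d₂ = 0 from LinearMap.ext fun w => Subtype.ext
      (LinearMap.congr_fun (congrArg ModuleCat.Hom.hom (Pr.complex.d_comp_d 2 1 0)) w),
    LinearMap.lTensor_zero, LinearMap.zero_apply]

open Groth.Agent.CAlgLow in
theorem torVanish_congr {R : Type u} [CommRing R] {M F : Type u} [AddCommGroup M] [Module R M] [AddCommGroup F]
    [Module R F] {π : F →ₗ[R] M} {N N' : Type u} [AddCommGroup N] [Module R N] [AddCommGroup N'] [Module R N']
    (e : N ≃ₗ[R] N') (h : TorVanish π N') : TorVanish π N := by
  intro a b hab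
  apply (e.rTensor (LinearMap.ker π)).injective
  refine h ?_
  have hab' := congrArg (e.toLinearMap.rTensor F) hab
  rw [← LinearMap.comp_apply, ← LinearMap.comp_apply (e.toLinearMap.rTensor F), LinearMap.rTensor_comp_lTensor,
    ← LinearMap.lTensor_comp_rTensor] at hab'
  exact hab'



/-- Let (R, m, κ) be a local ring and M an R-module with Tor_1^R(κ, M) = 0. Then Tor_1^R(N, M) = 0 for
every finite length R-module N. -/
theorem result (R : Type u) [CommRing R] [IsLocalRing R]
    (M : Type u) [AddCommGroup M] [Module R M]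
    (h : Limits.IsZero (((CategoryTheory.Tor (ModuleCat.{u} R) 1).obj (ModuleCat.of R (IsLocalRing.ResidueField R))).obj (ModuleCat.of R M)))
    (N : Type u) [AddCommGroup N] [Module R N] (hN : IsFiniteLength R N) :
    Limits.IsZero (((CategoryTheory.Tor (ModuleCat.{u} R) 1).obj (ModuleCat.of R N)).obj (ModuleCat.of R M)) := by
  classical
  let π : (M →₀ R) →ₗ[R] M := Finsupp.linearCombination R id
  have hπ : Function.Surjective π := Finsupp.linearCombination_id_surjective R M
  have hκ : Groth.Agent.CAlgLow.TorVanish π (IsLocalRing.ResidueField R) := torVanish_of_isZero π hπ h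
  suffices hall : Groth.Agent.CAlgLow.TorVanish π N by
    have := Groth.Agent.TorH7.tor_one_subsingleton (M := N) π hπ hall
    exact ModuleCat.isZero_iff_subsingleton.2 this
  clear h
  induction hN with
  | of_subsingleton => exact fun a b _ => Subsingleton.elim _ _
  | @of_simple_quotient X _ _ A _ _ ih =>
    refine Groth.Agent.CAlgLow.torVanish_extension (i := A.subtype) (p := A.mkQ) A.injective_subtype
      (LinearMap.exact_subtype_mkQ A) A.mkQ_surjective ih ?_
    obtain ⟨J, hJ, ⟨e⟩⟩ := isSimpleModule_iff_quot_maximal.1 (inferInstance : IsSimpleModule R (X ⧸ A))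
    obtain rfl := IsLocalRing.eq_maximalIdeal hJ
    exact torVanish_congr e hκ

end Groth.Agent.S6378
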