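import Groth.Statements.S6381
import Mathlib

set_option autoImplicit false
universe u
open CAlg

namespace Groth.Agent.S6381

/-- Fractions of the image. -/
def IsFrac {S L : Type u} [CommRing S] [Field L] (φ : S →+* L) (z : L) : Prop :=
  ∃ a b : S, φ b ≠ 0 ∧ z * φ b = φ a

theorem IsFrac.add {S L : Type u} [CommRing S] [Field L] {φ : S →+* L} {z w : L} (hz : IsFrac φ z) (hw : IsFrac φ w) :
    IsFrac φ (z + w) := by
  obtain ⟨a, b, hb, e⟩ := hz
  obtain ⟨a', b', hb', e'⟩ := hw
  exact ⟨a * b' + a' * b, b * b', by rw [map_mul]; exact mul_ne_zero hb hb',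
    by simp only [map_add, map_mul, ← e, ← e']; ring⟩

theorem IsFrac.mul {S L : Type u} [CommRing S] [Field L] {φ : S →+* L} {z w : L} (hz : IsFrac φ z) (hw : IsFrac φ w) :
    IsFrac φ (z * w) := by
  obtain ⟨a, b, hb, e⟩ := hz
  obtain ⟨a', b', hb', e'⟩ := hw
  exact ⟨a * a', b * b', by rw [map_mul]; exact mul_ne_zero hb hb',
    by simp only [map_mul, ← e, ← e']; ring⟩

/-- `K` is the fraction field of a finite free quotient-compatible algebra. -/
def Good (R : Type u) [CommRing R] (p : Ideal R) {L : Type u} [Field L] [Algebra R L] (K : Set L) : Prop :=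
  ∃ (S : Type u) (_ : CommRing S) (_ : Algebra R S) (φ : S →ₐ[R] L), Module.Finite R S ∧ Module.Free R S ∧
    RingHom.ker φ.toRingHom = p.map (algebraMap R S) ∧ (∀ a, φ a ∈ K) ∧ ∀ z ∈ K, IsFrac φ.toRingHom z

open Polynomial IntermediateField in
theorem good_adjoin {R : Type u} [CommRing R] {p : Ideal R} [p.IsPrime] {L : Type u} [Field L] [Algebra R L]
    [Algebra p.ResidueField L] [FiniteDimensional p.ResidueField L] [IsScalarTower R p.ResidueField L]
    (K : IntermediateField p.ResidueField L) (x : L) (h : Good R p (K : Set L)) :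
    Good R p (K⟮x⟯ : Set L) := by
  classical
  obtain ⟨S, _, _, φ, hfinS, hfreeS, hker, hmem, hfrac⟩ := h
  have hx : IsIntegral K x := (IsIntegral.of_finite p.ResidueField x).tower_top
  set d := (minpoly K x).natDegree with hd
  have hbs : ∀ i : ℕ, ∃ b : S, φ b ≠ 0 ∧ ∃ a : S, ((minpoly K x).coeff i : L) * φ b = φ a := fun i => by
    obtain ⟨a, b, hb, e⟩ := hfrac _ ((minpoly K x).coeff i).2
    exact ⟨b, hb, a, e⟩
  choose bi hbi ai hai using hbs
  let b : S := ∏ i ∈ Finset.range d, bi i
  have hb : φ b ≠ 0 := by rw [map_prod]; exact Finset.prod_ne_zero_iff.2 fun i _ => hbi i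
  let φK : S →+* K := (φ.toRingHom).codRestrict K hmem
  let r : K := φK b
  have hr : r ≠ 0 := fun e => hb (congrArg Subtype.val e)
  let g : K[X] := (minpoly K x).scaleRoots r
  have hgm : g.Monic := (monic_scaleRoots_iff r).2 (minpoly.monic hx)
  have hgd : g.natDegree = d := natDegree_scaleRoots _ _
  have hlift : g ∈ lifts φK := by
    rw [lifts_iff_coeff_lifts]
    intro i
    rcases lt_trichotomy i d with hi | hi | hi
    · obtain ⟨e, he⟩ := Nat.exists_eq_add_of_lt hi
      refine ⟨ai i * (∏ j ∈ (Finset.range d).erase i, bi j) * b ^ e, Subtype.ext ?_⟩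
      rw [coeff_scaleRoots, ← hd, show d - i = e + 1 by omega]
      show φ _ = ((minpoly K x).coeff i : L) * φ b ^ (e + 1)
      rw [map_mul, map_mul, map_pow, ← hai i, pow_succ']
      conv_rhs => rw [show φ b = φ (bi i) * φ (∏ j ∈ (Finset.range d).erase i, bi j) by
        rw [← map_mul, Finset.mul_prod_erase _ _ (Finset.mem_range.2 hi)]]
      rw [← map_mul, show φ b = φ (bi i) * φ (∏ j ∈ (Finset.range d).erase i, bi j) by
        rw [← map_mul, Finset.mul_prod_erase _ _ (Finset.mem_range.2 hi)], map_mul]
      ring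
    · exact ⟨1, by rw [map_one, hi, ← hgd]; exact hgm.coeff_natDegree.symm⟩
    · exact ⟨0, by rw [map_zero, coeff_eq_zero_of_natDegree_lt (hgd ▸ hi)]⟩
  obtain ⟨f, hf, hfd, hfm⟩ := lifts_and_natDegree_eq_and_monic hlift hgm
  let y : L := φ b * x
  have hy : eval₂ φ.toRingHom y f = 0 := by
    have h1 : aeval (algebraMap K L r * x) g = 0 := scaleRoots_aeval_eq_zero (minpoly.aeval K x)
    rw [← hf, aeval_def, eval₂_map] at h1
    exact h1
  haveI := hfm.free_adjoinRoot
  haveI := hfm.finite_adjoinRoot
  haveI : Module.Finite R (AdjoinRoot f) := Module.Finite.trans S _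
  haveI : Module.Free R (AdjoinRoot f) := Module.Free.trans (S := S)
  let ψ : AdjoinRoot f →ₐ[R] L :=
    { AdjoinRoot.lift φ.toRingHom y hy with
      commutes' := fun c => by
        show AdjoinRoot.lift φ.toRingHom y hy (algebraMap R (AdjoinRoot f) c) = _
        rw [IsScalarTower.algebraMap_apply R S (AdjoinRoot f)]
        exact (AdjoinRoot.lift_of hy).trans (φ.commutes c) }
  have hψ : ∀ q : S[X], ψ (AdjoinRoot.mk f q) = eval₂ φ.toRingHom y q := fun q => AdjoinRoot.lift_mk hy q
  have hev : ∀ q : S[X], eval₂ φ.toRingHom y q = aeval (algebraMap K L r * x) (q.map φK) := fun q => by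
    rw [aeval_def, eval₂_map]; rfl
  have hxmem : (algebraMap K L r * x) ∈ (K⟮x⟯ : Set L) :=
    mul_mem (IntermediateField.algebraMap_mem _ r) (mem_adjoin_simple_self K x)
  refine ⟨AdjoinRoot f, inferInstance, inferInstance, ψ, inferInstance, inferInstance, ?_, fun a => ?_, fun z hz => ?_⟩
  · refine le_antisymm (fun a ha => ?_) (Ideal.map_le_iff_le_comap.2 fun c hc => ?_)
    · obtain ⟨q, rfl⟩ := AdjoinRoot.mk_surjective a
      have hmod : AdjoinRoot.mk f q = AdjoinRoot.mk f (q %ₘ f) := by
        rw [AdjoinRoot.mk_eq_mk]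
        exact ⟨q /ₘ f, by linear_combination (-1 : S[X]) * (modByMonic_add_div q f)⟩
      have h1 : eval₂ φ.toRingHom y (q %ₘ f) = 0 := by
        rw [← hψ, ← hmod]; exact ha
      rw [hev] at h1
      have hq0 : ((q %ₘ f).map φK).comp (C r * X) = 0 := by
        refine eq_zero_of_dvd_of_degree_lt (minpoly.dvd K x (p := ((q %ₘ f).map φK).comp (C r * X)) ?_) ?_
        · rw [aeval_comp, map_mul, aeval_C, aeval_X]
          exact h1
        · rcases eq_or_ne ((q %ₘ f).map φK) 0 with h0 | h0
          · rw [h0, zero_comp, degree_zero]; exact bot_lt_iff_ne_bot.2 (fun e => minpoly.ne_zero hx (degree_eq_bot.1 e))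
          · refine degree_le_natDegree.trans_lt ?_
            rw [natDegree_comp, natDegree_C_mul_X r hr, mul_one, degree_eq_natDegree (minpoly.ne_zero hx), ← hd]
            have h2 : ((q %ₘ f).map φK).natDegree < d := by
              refine lt_of_le_of_lt natDegree_map_le ?_
              refine lt_of_lt_of_eq (natDegree_modByMonic_lt q hfm fun e => ?_) (hfd.trans hgd)
              have : d = 0 := by rw [← hgd, ← hfd, e, natDegree_one]
              exact (minpoly.natDegree_pos hx).ne' this
            exact_mod_cast h2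
      rw [hmod]
      have hcoef : ∀ i, (q %ₘ f).coeff i ∈ p.map (algebraMap R S) := by
        intro i
        rw [← hker]
        have h3 : (((q %ₘ f).map φK).comp (C r * X)).coeff i = 0 := by rw [hq0, coeff_zero]
        rw [comp_C_mul_X_coeff, coeff_map, mul_eq_zero] at h3
        exact congrArg Subtype.val (h3.resolve_right (pow_ne_zero _ hr))
      rw [IsScalarTower.algebraMap_eq R S (AdjoinRoot f), ← Ideal.map_map]
      rw [as_sum_range_C_mul_X_pow (q %ₘ f), map_sum]
      refine sum_mem fun i _ => ?_
      rw [map_mul]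
      refine Ideal.mul_mem_right _ _ ?_
      rw [AdjoinRoot.mk_C]
      exact Ideal.mem_map_of_mem _ (hcoef i)
    · have h1 : φ (algebraMap R S c) = 0 := hker.ge (Ideal.mem_map_of_mem _ hc)
      show ψ (algebraMap R (AdjoinRoot f) c) = 0
      rw [ψ.commutes, ← φ.commutes, h1]
  · obtain ⟨q, rfl⟩ := AdjoinRoot.mk_surjective a
    rw [hψ, hev, SetLike.mem_coe]
    exact (K⟮x⟯).toSubalgebra.mem_carrier.2 (Algebra.adjoin_le (Set.singleton_subset_iff.2 hxmem)
      (aeval_mem_adjoin_singleton K (algebraMap K L r * x)))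
  · have hz' : z ∈ Algebra.adjoin K ({x} : Set L) := by
      rw [← IntermediateField.adjoin_simple_toSubalgebra_of_isAlgebraic hx.isAlgebraic]
      exact hz
    have hof : ∀ s : S, ψ (AdjoinRoot.of f s) = φ s := fun s => AdjoinRoot.lift_of hy
    have hK : ∀ c : K, IsFrac ψ.toRingHom (c : L) := fun c => by
      obtain ⟨a, b', hb', e⟩ := hfrac c.1 c.2
      exact ⟨AdjoinRoot.of f a, AdjoinRoot.of f b', by show ψ _ ≠ 0; rw [hof]; exact hb',
        by show _ * ψ _ = ψ _; rw [hof, hof]; exact e⟩
    have hxf : IsFrac ψ.toRingHom x := ⟨AdjoinRoot.root f, AdjoinRoot.of f b, by show ψ _ ≠ 0; rw [hof]; exact hb, by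
      show _ * ψ _ = ψ _
      rw [hof, show ψ (AdjoinRoot.root f) = y from AdjoinRoot.lift_root hy, mul_comm]⟩
    clear hz
    induction hz' using Algebra.adjoin_induction with
    | mem w hw => rw [Set.mem_singleton_iff.1 hw]; exact hxf
    | algebraMap c => exact hK c
    | add u v _ _ hu hv => exact hu.add hv
    | mul u v _ _ hu hv => exact hu.mul hv


/-- Let R be a ring, p ⊆ R a prime and L a finite extension of the residue field κ(p). Then one can find
a ring map R → S, with S finite free over R, for which q = pS is a prime of S and the residue field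
κ(q) is isomorphic to L over κ(p) (stated as a ring isomorphism κ(q) ≅ L compatible with the maps
from R, which determines compatibility with κ(p)). -/
theorem result (R : Type u) [CommRing R] (p : Ideal R) [p.IsPrime]
    (L : Type u) [Field L] [Algebra p.ResidueField L] [FiniteDimensional p.ResidueField L]
    [Algebra R L] [IsScalarTower R p.ResidueField L] :
    ∃ (S : Type u) (_ : CommRing S) (_ : Algebra R S) (_ : Module.Finite R S) (_ : Module.Free R S)
      (_ : (p.map (algebraMap R S)).IsPrime)
      (e : (p.map (algebraMap R S)).ResidueField ≃+* L),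
      ∀ r : R, e (algebraMap R (p.map (algebraMap R S)).ResidueField r) = algebraMap R L r := by
  classical
  have base : Good R p ((⊥ : IntermediateField p.ResidueField L) : Set L) := by
    refine ⟨R, inferInstance, inferInstance, Algebra.ofId R L, inferInstance, inferInstance, ?_, fun a => ?_, fun z hz => ?_⟩
    · rw [Algebra.algebraMap_self, Ideal.map_id]
      ext a
      show algebraMap R L a = 0 ↔ _
      rw [IsScalarTower.algebraMap_apply R p.ResidueField L, map_eq_zero, Ideal.algebraMap_residueField_eq_zero]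
    · rw [SetLike.mem_coe, IntermediateField.mem_bot]
      exact ⟨algebraMap R p.ResidueField a, (IsScalarTower.algebraMap_apply R p.ResidueField L a).symm⟩
    · obtain ⟨c, rfl⟩ := IntermediateField.mem_bot.1 hz
      obtain ⟨a, b, hb, rfl⟩ := IsFractionRing.div_surjective (R ⧸ p) c
      obtain ⟨a, rfl⟩ := Ideal.Quotient.mk_surjective a
      obtain ⟨b, rfl⟩ := Ideal.Quotient.mk_surjective b
      have hb0 : algebraMap R p.ResidueField b ≠ 0 :=
        (map_ne_zero_iff _ (IsFractionRing.injective (R ⧸ p) p.ResidueField)).2 (nonZeroDivisors.ne_zero hb)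
      refine ⟨a, b, ?_, ?_⟩
      · show algebraMap R L b ≠ 0
        rw [IsScalarTower.algebraMap_apply R p.ResidueField L]
        exact (map_ne_zero _).2 hb0
      · show _ * algebraMap R L b = algebraMap R L a
        rw [IsScalarTower.algebraMap_apply R p.ResidueField L, IsScalarTower.algebraMap_apply R p.ResidueField L a, ← map_mul]
        congr 1
        exact div_mul_cancel₀ _ hb0
  obtain ⟨S, _, _, φ, hfin, hfree, hker, -, hfrac⟩ := IntermediateField.induction_on_adjoin
    (fun K : IntermediateField p.ResidueField L => Good R p (K : Set L)) base (fun K x h => good_adjoin K x h) ⊤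
  haveI hq : (p.map (algebraMap R S)).IsPrime := hker ▸ RingHom.ker_isPrime φ.toRingHom
  let ε := Ideal.ResidueField.lift (p.map (algebraMap R S)) φ.toRingHom hker.ge
    fun s hs => isUnit_iff_ne_zero.2 fun e => hs (hker.le e)
  refine ⟨S, inferInstance, inferInstance, hfin, hfree, hq, RingEquiv.ofBijective ε ⟨ε.injective, fun z => ?_⟩, fun r => ?_⟩
  · obtain ⟨a, b, hb, e⟩ := hfrac z trivial
    refine ⟨algebraMap S _ a / algebraMap S _ b, ?_⟩
    rw [map_div₀, Ideal.ResidueField.lift_algebraMap, Ideal.ResidueField.lift_algebraMap, div_eq_iff hb]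
    exact e.symm
  · show ε (algebraMap R _ r) = _
    rw [IsScalarTower.algebraMap_apply R S _, Ideal.ResidueField.lift_algebraMap]
    exact φ.commutes r

end Groth.Agent.S6381
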