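import Groth.Statements.S6382
import Groth.Agent.Lib.FlatH4.LocCrit
import Mathlib.Algebra.Module.Projective
import Mathlib.LinearAlgebra.Basis.VectorSpace

set_option autoImplicit false
universe u
open CAlg

namespace Groth.Agent.S6382

open TensorProduct

/-- Base change along a flat map preserves flatness over the ground ring. -/
lemma flat_R (R S S' M : Type u) [CommRing R] [CommRing S] [CommRing S'] [Algebra R S] [Algebra S S']
    [Algebra R S'] [IsScalarTower R S S'] [Module.Flat S S'] [AddCommGroup M] [Module S M]
    [Module R M] [IsScalarTower R S M] [Module.Flat R M] : Module.Flat R (S' ⊗[S] M) := by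
  refine Module.Flat.iff_lTensor_injective'.2 fun I => ?_
  let g : M ⊗[R] I →ₗ[S] M ⊗[R] R := AlgebraTensorModule.lTensor S M I.subtype
  have hg : Function.Injective g :=
    Module.Flat.lTensor_preserves_injective_linearMap I.subtype I.injective_subtype
  have hG : Function.Injective (g.lTensor S') :=
    Module.Flat.lTensor_preserves_injective_linearMap g hg
  let eI := AlgebraTensorModule.assoc R S S' S' M I
  let eR := AlgebraTensorModule.assoc R S S' S' M R
  have key : ∀ z, g.lTensor S' (eI z) = eR (I.subtype.lTensor (S' ⊗[S] M) z) := by
    intro z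
    induction z using TensorProduct.induction_on with
    | zero => simp
    | tmul x i =>
      induction x using TensorProduct.induction_on with
      | zero => simp
      | tmul s m => simp [g, eI, eR]
      | add x y hx hy => simp only [add_tmul, map_add, hx, hy]
    | add x y hx hy => simp only [map_add, hx, hy]
  intro a b hab
  exact eI.injective (hG (by rw [key, key, hab]))



/-- Consider a commutative square of local rings and local homomorphisms R → S, R → R', S → S', R' → S',
and a finite S-module M. Assume the maps R → R' and S → S' are flat, M is flat over R, the maximal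
ideal of R generates the maximal ideal of R', and R', S' are Noetherian. Then M' = M ⊗_S S' (any
base change of M along S → S') is flat over R'. -/
theorem result (R S R' S' : Type u) [CommRing R] [CommRing S]
    [CommRing R'] [CommRing S'] [IsLocalRing R] [IsLocalRing S] [IsLocalRing R'] [IsLocalRing S']
    [Algebra R S] [Algebra R R'] [Algebra S S'] [Algebra R' S'] [Algebra R S']
    [IsScalarTower R S S'] [IsScalarTower R R' S']
    [IsLocalHom (algebraMap R S)] [IsLocalHom (algebraMap R R')] [IsLocalHom (algebraMap S S')]
    [IsLocalHom (algebraMap R' S')] [Module.Flat R R'] [Module.Flat S S']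
    [IsNoetherianRing R'] [IsNoetherianRing S']
    (hm : (IsLocalRing.maximalIdeal R).map (algebraMap R R') = IsLocalRing.maximalIdeal R')
    (M : Type u) [AddCommGroup M] [Module S M] [Module R M] [IsScalarTower R S M] [Module.Finite S M]
    [Module.Flat R M]
    (M' : Type u) [AddCommGroup M'] [Module S' M'] [Module S M'] [IsScalarTower S S' M'] [Module R' M']
    [IsScalarTower R' S' M'] (j : M →ₗ[S] M') (hj : IsBaseChange S' j) :
    Module.Flat R' M' := by
  letI : Module R M' := Module.compHom M' (algebraMap R S')
  haveI : IsScalarTower R S' M' := IsScalarTower.of_algebraMap_smul fun _ _ => rfl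
  haveI : IsScalarTower R R' M' := IsScalarTower.of_algebraMap_smul fun r m => by
    rw [← algebraMap_smul S' (algebraMap R R' r) m, ← IsScalarTower.algebraMap_apply]
    rfl
  haveI := flat_R R S S' M
  haveI : Module.Finite S' M' := Module.Finite.equiv hj.equiv
  haveI hMR : Module.Flat R M' := Module.Flat.of_linearEquiv (hj.equiv.restrictScalars R).symm
  have hI : (IsLocalRing.maximalIdeal R').map (algebraMap R' S') ≤ (⊥ : Ideal S').jacobson := by
    rw [IsLocalRing.jacobson_eq_maximalIdeal ⊥ bot_ne_top]
    exact ((IsLocalRing.local_hom_TFAE (algebraMap R' S')).out 0 2).1 ‹_›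
  set m' := IsLocalRing.maximalIdeal R' with hm'
  set m := IsLocalRing.maximalIdeal R with hm0
  refine Groth.Agent.FlatH4.flat_of_le_jacobson (S := S') m' hI ?_ ?_
  · let ι : m →ₗ[R] m' :=
      { toFun := fun x => ⟨algebraMap R R' x, hm ▸ Ideal.mem_map_of_mem _ x.2⟩
        map_add' := fun x y => Subtype.ext (map_add _ _ _)
        map_smul' := fun r x => Subtype.ext (by simp [Algebra.smul_def]) }
    let θ : M' ⊗[R] m →ₗ[R] M' ⊗[R'] m' :=
      TensorProduct.lift (LinearMap.mk₂ R (fun x i => x ⊗ₜ[R'] ι i)
        (fun x y i => add_tmul x y _)
        (fun c x i => by rw [← smul_tmul'])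
        (fun x i j => by rw [map_add, tmul_add])
        (fun c x i => by rw [map_smul, tmul_smul]))
    have hθ : Function.Surjective θ := by
      intro z
      induction z using TensorProduct.induction_on with
      | zero => exact ⟨0, map_zero _⟩
      | add x y hx hy =>
        obtain ⟨a, rfl⟩ := hx
        obtain ⟨b, rfl⟩ := hy
        exact ⟨a + b, map_add _ _ _⟩
      | tmul x i =>
        obtain ⟨i, hi⟩ := i
        obtain ⟨k, c, g, hg⟩ : ∃ (k : ℕ) (c : Fin k → R') (g : Fin k → m),
            ∑ l, c l * algebraMap R R' (g l) = i := by
          have hi' : i ∈ m.map (algebraMap R R') := hm ▸ hi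
          obtain ⟨k, c, g, hg⟩ := Submodule.mem_span_set'.mp hi'
          choose r hr hrg using fun l => (Set.mem_image _ _ _).mp (g l).2
          exact ⟨k, c, fun l => ⟨r l, hr l⟩, by simp [← hg, hrg]⟩
        refine ⟨∑ l, (c l • x) ⊗ₜ[R] g l, ?_⟩
        have hsum : (⟨i, hi⟩ : m') = ∑ l, c l • ι (g l) := Subtype.ext (by simp [ι, ← hg])
        rw [map_sum, hsum, tmul_sum]
        exact Finset.sum_congr rfl fun l _ => by simp [θ, smul_tmul]
    have hinj : Function.Injective ((TensorProduct.rid R M').toLinearMap ∘ₗ
        LinearMap.lTensor M' (Submodule.subtype m)) :=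
      (TensorProduct.rid R M').injective.comp
        (Module.Flat.lTensor_preserves_injective_linearMap _ (Submodule.injective_subtype _))
    have key : ∀ w, TensorProduct.rid R' M' (LinearMap.lTensor M' (Submodule.subtype m') (θ w)) =
        ((TensorProduct.rid R M').toLinearMap ∘ₗ LinearMap.lTensor M' (Submodule.subtype m)) w := by
      intro w
      induction w using TensorProduct.induction_on with
      | zero => simp
      | tmul x i => simp [θ, ι]
      | add x y hx hy => simp only [map_add, hx, hy]
    rw [injective_iff_map_eq_zero]
    intro z hz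
    obtain ⟨w, rfl⟩ := hθ z
    have : w = 0 := hinj (by rw [← key, hz, map_zero, map_zero])
    rw [this, map_zero]
  · letI := Ideal.Quotient.field m'
    haveI : Module.Free (R' ⧸ m') ((R' ⧸ m') ⊗[R'] M') := Module.Free.of_divisionRing (R' ⧸ m') _
    infer_instance

end Groth.Agent.S6382
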