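import Groth.Statements.S6383
import Mathlib.Data.Set.Countable

set_option autoImplicit false
universe u
open scoped TensorProduct
open CAlg

namespace Groth.Agent.S6383

/-- For a ring map R → S and an R-module M whose base change S ⊗_R M is an internal direct sum of
countably generated S-submodules Q_i (i ∈ I), every countably generated submodule N ≤ M can be
enlarged to a countably generated submodule N' ≤ M, together with a subset I' ⊆ I, so that the
S-span of the image 1 ⊗ N' inside S ⊗_R M equals the sum of the Q_i over i ∈ I'. -/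
theorem result (R S : Type u) [CommRing R] [CommRing S] [Algebra R S]
    (M : Type u) [AddCommGroup M] [Module R M] {I : Type u} [DecidableEq I] (Q : I → Submodule S (S ⊗[R] M))
    (hQ : DirectSum.IsInternal Q) (hQc : ∀ i, ∃ t : Set (S ⊗[R] M), t.Countable ∧ Submodule.span S t = Q i)
    (N : Submodule R M) (hN : ∃ s : Set M, s.Countable ∧ Submodule.span R s = N) :
    ∃ (N' : Submodule R M) (I' : Set I), N ≤ N' ∧ (∃ s : Set M, s.Countable ∧ Submodule.span R s = N') ∧
      Submodule.span S ((TensorProduct.mk R S M 1) '' (N' : Set M)) = ⨆ i ∈ I', Q i := by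
  classical
  obtain ⟨s, hs, hsN⟩ := hN
  choose t ht htQ using hQc
  have htop : ∀ x : TensorProduct R S M, ∃ F : Finset I, x ∈ ⨆ i ∈ F, Q i := fun x => by
    obtain ⟨F, hF⟩ := Submodule.exists_finset_of_mem_iSup Q
      (show x ∈ iSup Q by rw [DirectSum.IsInternal.submodule_iSup_eq_top hQ]; trivial)
    exact ⟨F, hF⟩
  choose F hF using htop
  have hgen : ∀ x : TensorProduct R S M, ∃ G : Finset M,
      x ∈ Submodule.span S ((fun m => (1 : S) ⊗ₜ[R] m) '' (G : Set M)) := fun x => by
    induction x using TensorProduct.induction_on with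
    | zero => exact ⟨∅, zero_mem _⟩
    | tmul a m =>
      refine ⟨{m}, ?_⟩
      rw [← mul_one a, ← smul_eq_mul, ← TensorProduct.smul_tmul']
      exact Submodule.smul_mem _ _ (Submodule.subset_span ⟨m, by simp, rfl⟩)
    | add x y hx hy =>
      obtain ⟨G, hG⟩ := hx
      obtain ⟨H, hH⟩ := hy
      refine ⟨G ∪ H, add_mem (Submodule.span_mono (Set.image_mono ?_) hG)
        (Submodule.span_mono (Set.image_mono ?_) hH)⟩ <;> simp
  choose G hG using hgen
  let J : Set M → Set I := fun A => ⋃ m ∈ A, (F ((1 : S) ⊗ₜ[R] m) : Set I)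
  let E : Set M → Set M := fun A => A ∪ ⋃ i ∈ J A, ⋃ x ∈ t i, (G x : Set M)
  let seq : ℕ → Set M := fun k => Nat.rec s (fun _ A => E A) k
  have hcnt : ∀ k, (seq k).Countable := fun k => by
    induction k with
    | zero => exact hs
    | succ k ih =>
      exact ih.union (((ih.biUnion fun m _ => (F _).countable_toSet)).biUnion
        fun i _ => (ht i).biUnion fun x _ => (G x).countable_toSet)
  refine ⟨Submodule.span R (⋃ k, seq k), ⋃ k, J (seq k), ?_,
    ⟨⋃ k, seq k, Set.countable_iUnion hcnt, rfl⟩, ?_⟩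
  · rw [← hsN]
    exact Submodule.span_mono (Set.subset_iUnion seq 0)
  refine le_antisymm ?_ ?_
  · rw [Submodule.span_le]
    rintro _ ⟨m, hm, rfl⟩
    refine Submodule.span_induction (p := fun m _ => TensorProduct.mk R S M 1 m ∈
      ⨆ i ∈ ⋃ k, J (seq k), Q i) ?_ (by simp) (fun a b _ _ ha hb => by rw [map_add]; exact add_mem ha hb)
      (fun c a _ ha => by rw [map_smul]; exact Submodule.smul_of_tower_mem _ c ha) hm
    intro m hm
    obtain ⟨k, hk⟩ := Set.mem_iUnion.1 hm
    refine (iSup₂_le fun i hi => ?_ : (⨆ i ∈ F ((1 : S) ⊗ₜ[R] m), Q i) ≤ _) (hF _)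
    exact le_biSup Q (Set.mem_iUnion.2 ⟨k, Set.mem_biUnion hk hi⟩)
  · refine iSup₂_le fun i hi => ?_
    rw [← htQ i, Submodule.span_le]
    intro x hx
    obtain ⟨k, hk⟩ := Set.mem_iUnion.1 hi
    refine Submodule.span_mono ?_ (hG x)
    rintro _ ⟨m, hm, rfl⟩
    exact ⟨m, Submodule.subset_span (Set.mem_iUnion.2 ⟨k + 1,
      Or.inr (Set.mem_biUnion hk (Set.mem_biUnion hx hm))⟩), rfl⟩

end Groth.Agent.S6383
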