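import Groth.Statements.S6385
import Groth.Agent.Lib.VarDim.Alg
import Mathlib

set_option autoImplicit false
universe u
open CAlg

namespace Groth.Agent.S6385

theorem dim_and_norm {k A : Type u} [Field k] [CommRing A] [Algebra k A] [Algebra.FiniteType k A] [Nontrivial A] :
    ∃ (d : ℕ) (φ : MvPolynomial (Fin d) k →ₐ[k] A), Function.Injective φ ∧ φ.toRingHom.Finite ∧ ringKrullDim A = d := by
  obtain ⟨s, φ, hinj, hfin⟩ := exists_finite_inj_algHom_of_fg k A
  refine ⟨s, φ, hinj, hfin, ?_⟩
  letI := φ.toRingHom.toAlgebra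
  haveI : Module.Finite (MvPolynomial (Fin s) k) A := hfin
  rw [VarDim.ringKrullDim_eq_of_isIntegral (R := MvPolynomial (Fin s) k) (S := A) hinj,
    MvPolynomial.ringKrullDim_of_isNoetherianRing, ringKrullDim_eq_zero_of_field]
  simp


/-- Let k be a field, S a finite type k-algebra, q a prime of S and x the corresponding point of X =
Spec S. Then there is g ∈ S, g ∉ q, such that dim S_g equals dim_x X — the minimum of dim S_{g'}
over all g' ∉ q — and, writing d for this dimension, a finite injective k-algebra map from the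
polynomial ring k[y_1, ..., y_d] to S_g. -/
theorem result (k S : Type u) [Field k] [CommRing S] [Algebra k S]
    [Algebra.FiniteType k S] (q : Ideal S) [q.IsPrime] :
    ∃ (g : S) (d : ℕ), g ∉ q ∧ ringKrullDim (Localization.Away g) = d ∧
      (∀ g' : S, g' ∉ q → ringKrullDim (Localization.Away g) ≤ ringKrullDim (Localization.Away g')) ∧
      ∃ φ : MvPolynomial (Fin d) k →ₐ[k] Localization.Away g, Function.Injective φ ∧ φ.toRingHom.Finite := by
  classical
  have hnt : ∀ g : S, g ∉ q → Nontrivial (Localization.Away g) := fun g hg => by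
    refine nontrivial_of_ne 1 0 fun h => ?_
    rw [← map_one (algebraMap S (Localization.Away g)), IsLocalization.map_eq_zero_iff (Submonoid.powers g)] at h
    obtain ⟨⟨_, n, rfl⟩, h⟩ := h
    rw [mul_one] at h
    exact hg (‹q.IsPrime›.mem_of_pow_mem n (by rw [show g ^ n = 0 from h]; exact q.zero_mem))
  let P : ℕ → Prop := fun n => ∃ g : S, g ∉ q ∧ ringKrullDim (Localization.Away g) = n
  have hP : ∀ g : S, g ∉ q → ∃ n : ℕ, ringKrullDim (Localization.Away g) = n := fun g hg => by
    haveI := hnt g hg
    haveI : Algebra.FiniteType S (Localization.Away g) := IsLocalization.finiteType_of_monoid_fg (Submonoid.powers g) _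
    haveI : Algebra.FiniteType k (Localization.Away g) := Algebra.FiniteType.trans (S := S) inferInstance inferInstance
    obtain ⟨d, -, -, -, hd⟩ := dim_and_norm (k := k) (A := Localization.Away g)
    exact ⟨d, hd⟩
  have hex : ∃ n, P n := by
    obtain ⟨n, hn⟩ := hP 1 fun h => ‹q.IsPrime›.ne_top ((Ideal.eq_top_iff_one q).2 h)
    exact ⟨n, 1, fun h => ‹q.IsPrime›.ne_top ((Ideal.eq_top_iff_one q).2 h), hn⟩
  obtain ⟨g, hg, hgd⟩ := Nat.find_spec hex
  haveI := hnt g hg
  haveI : Algebra.FiniteType S (Localization.Away g) := IsLocalization.finiteType_of_monoid_fg (Submonoid.powers g) _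
  haveI : Algebra.FiniteType k (Localization.Away g) := Algebra.FiniteType.trans (S := S) inferInstance inferInstance
  obtain ⟨d, φ, hinj, hfin, hd⟩ := dim_and_norm (k := k) (A := Localization.Away g)
  refine ⟨g, d, hg, hd, fun g' hg' => ?_, φ, hinj, hfin⟩
  obtain ⟨n, hn⟩ := hP g' hg'
  rw [hgd, hn]
  exact_mod_cast Nat.find_min' hex ⟨g', hg', hn⟩

end Groth.Agent.S6385
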