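import Groth.Statements.S6386
import Mathlib

set_option autoImplicit false
universe u
open CAlg

namespace Groth.Agent.S6386

/-- The key step of its proof: let A be a ring, κ = max(|A|, ℵ₀), and B a flat A-algebra. Then every
A-subalgebra E ⊆ B with at most κ elements lies inside a flat A-subalgebra B' ⊆ B with at most κ
elements. Consequently B is the filtered colimit (union) of its flat A-subalgebras of cardinality at
most κ. -/
theorem result (A B : Type u) [CommRing A] [CommRing B] [Algebra A B]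
    [Module.Flat A B] (E : Subalgebra A B) (hE : Cardinal.mk E ≤ max (Cardinal.mk A) Cardinal.aleph0) :
    ∃ B' : Subalgebra A B, E ≤ B' ∧ Module.Flat A B' ∧ Cardinal.mk B' ≤ max (Cardinal.mk A) Cardinal.aleph0 := by
  classical
  set κ := max (Cardinal.mk A) Cardinal.aleph0
  have hAκ : Cardinal.mk A ≤ κ := le_max_left _ _
  have hℵ : Cardinal.aleph0 ≤ κ := le_max_right _ _
  have hstep : ∀ E : {E : Subalgebra A B // Cardinal.mk E ≤ κ}, ∃ E' : {E : Subalgebra A B // Cardinal.mk E ≤ κ},
      E.1 ≤ E'.1 ∧ ∀ (l : ℕ) (a : Fin l → A) (x : Fin l → E.1), (∑ i, a i • (x i : B)) = 0 →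
        ∃ (k : ℕ) (c : Fin l → Fin k → A) (y : Fin k → B), (∀ j, y j ∈ E'.1) ∧
          (∀ i, (x i : B) = ∑ j, c i j • y j) ∧ ∀ j, ∑ i, a i * c i j = 0 := by
    rintro ⟨E, hE⟩
    let Rel := {t : Σ l : ℕ, Fin l → A × E // ∑ i, (t.2 i).1 • ((t.2 i).2 : B) = 0}
    have hrel : ∀ t : Rel, Module.IsTrivialRelation (fun i => (t.1.2 i).1) (fun i => ((t.1.2 i).2 : B)) := fun t =>
      Module.Flat.iff_forall_isTrivialRelation.1 ‹Module.Flat A B› t.2
    choose k c y hy hc using hrel
    let U : Set B := (E : Set B) ∪ ⋃ t : Rel, Set.range (y t)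
    have hRel : Cardinal.mk Rel ≤ κ := by
      refine (Cardinal.mk_subtype_le _).trans ?_
      rw [← Cardinal.mk_congr (List.equivSigmaTuple (α := A × E))]
      refine (Cardinal.mk_list_le_max _).trans (max_le hℵ ?_)
      rw [Cardinal.mk_prod, Cardinal.lift_id, Cardinal.lift_id]
      exact (mul_le_mul' hAκ hE).trans (Cardinal.mul_eq_self hℵ).le
    have hU : Cardinal.mk U ≤ κ := by
      refine (Cardinal.mk_union_le _ _).trans ?_
      refine (add_le_add hE ((Cardinal.mk_iUnion_le _).trans ?_)).trans (Cardinal.add_eq_self hℵ).le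
      refine (mul_le_mul' hRel (ciSup_le' fun t => ?_)).trans (Cardinal.mul_eq_self hℵ).le
      exact (Set.finite_range (y t)).lt_aleph0.le.trans hℵ
    refine ⟨⟨Algebra.adjoin A U, ?_⟩, fun b hb => Algebra.subset_adjoin (Or.inl hb), fun l a x h0 => ?_⟩
    · exact (Algebra.cardinalMk_adjoin_le A U).trans (max_le (max_le hAκ hU) hℵ)
    · let t : Rel := ⟨⟨l, fun i => (a i, x i)⟩, h0⟩
      exact ⟨k t, c t, y t, fun j => Algebra.subset_adjoin (Or.inr (Set.mem_iUnion.2 ⟨t, ⟨j, rfl⟩⟩)), hy t, hc t⟩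
  choose next hle hnext using hstep
  let S : ℕ → {E : Subalgebra A B // Cardinal.mk E ≤ κ} := fun n => Nat.rec ⟨E, hE⟩ (fun _ F => next F) n
  have hmono : Monotone fun n => (S n).1 := monotone_nat_of_le_succ fun n => hle (S n)
  have hdir : Directed (· ≤ ·) fun n => (S n).1 := hmono.directed_le
  refine ⟨⨆ n, (S n).1, le_iSup (fun n => (S n).1) 0, ?_, ?_⟩
  · refine Module.Flat.iff_forall_isTrivialRelation.2 fun {l} {a} {x} h0 => ?_
    have hx : ∀ i, ∃ n, (x i : B) ∈ (S n).1 := fun i => by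
      have h := (x i).2
      rw [← SetLike.mem_coe, Subalgebra.coe_iSup_of_directed hdir, Set.mem_iUnion] at h
      exact h
    choose n hn using hx
    let N := Finset.univ.sup n
    have hN : ∀ i, (x i : B) ∈ (S N).1 := fun i => hmono (Finset.le_sup (Finset.mem_univ i)) (hn i)
    obtain ⟨k, c, y, hy, hxy, hac⟩ := hnext (S N) l a (fun i => ⟨x i, hN i⟩) (by
      have h := congrArg (Subtype.val) h0
      simpa using h)
    refine ⟨k, c, fun j => ⟨y j, le_iSup (fun n => (S n).1) (N + 1) (hy j)⟩, fun i => Subtype.ext ?_, hac⟩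
    simpa using hxy i
  · rw [← SetLike.coe_sort_coe, Subalgebra.coe_iSup_of_directed hdir]
    have h := Cardinal.mk_iUnion_le_lift.{u, 0} (fun n => ((S n).1 : Set B))
    simp only [Cardinal.lift_id', Cardinal.lift_uzero, Cardinal.mk_nat, Cardinal.lift_aleph0] at h
    refine h.trans ((mul_le_mul' hℵ (ciSup_le' fun n => ?_)).trans (Cardinal.mul_eq_self hℵ).le)
    exact (S n).2

end Groth.Agent.S6386
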