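import Groth.Statements.S6387
import Groth.Agent.S0393
import Groth.Agent.Lib.FlatH4.InjCrit
import Mathlib.Algebra.Category.ModuleCat.Kernels
import Mathlib.Algebra.Homology.ShortComplex.ModuleCat

set_option autoImplicit false
universe u
open CategoryTheory
open CAlg

namespace Groth.Agent.S6387

open TensorProduct CategoryTheory CategoryTheory.Limits

variable {R S : Type u} [CommRing R] [CommRing S] [IsLocalRing R] [IsLocalRing S]
  [IsNoetherianRing S] [Algebra R S] [IsLocalHom (algebraMap R S)]

lemma map_smul_top (X : Type u) [AddCommGroup X] [Module S X] [Module R X] [IsScalarTower R S X]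
    (I : Ideal R) (x : X) :
    x ∈ I.map (algebraMap R S) • (⊤ : Submodule S X) ↔ x ∈ I • (⊤ : Submodule R X) := by
  have h : ((I.map (algebraMap R S) • (⊤ : Submodule S X)).restrictScalars R) =
      I • (⊤ : Submodule R X) := by
    rw [Ideal.smul_restrictScalars, Submodule.restrictScalars_top]
  rw [← h, Submodule.restrictScalars_mem]

/-- A map into a flat module which is injective modulo `m_R` is injective with flat cokernel. -/
lemma step {X Y : Type u} [AddCommGroup X] [Module S X] [Module R X] [IsScalarTower R S X]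
    [Module.Finite S X] [AddCommGroup Y] [Module S Y] [Module R Y] [IsScalarTower R S Y]
    [Module.Flat R Y] (f : X →ₗ[S] Y)
    (h : ∀ x, f x ∈ (IsLocalRing.maximalIdeal R).map (algebraMap R S) • (⊤ : Submodule S Y) →
      x ∈ (IsLocalRing.maximalIdeal R).map (algebraMap R S) • (⊤ : Submodule S X)) :
    Function.Injective f ∧ Module.Flat R (Y ⧸ LinearMap.range f) := by
  let m := IsLocalRing.maximalIdeal R
  let u : X →ₗ[R] Y := f.restrictScalars R
  have hu : Function.Injective (LinearMap.lTensor (R ⧸ m) u) := by
    rw [injective_iff_map_eq_zero]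
    intro z hz
    obtain ⟨x, rfl⟩ : ∃ x : X, (1 : R ⧸ m) ⊗ₜ[R] x = z :=
      (TensorProduct.mk_surjective R X (R ⧸ m) Ideal.Quotient.mk_surjective) z
    rw [LinearMap.lTensor_tmul, Groth.Agent.FlatH4.one_tmul_eq_zero_iff] at hz
    rw [Groth.Agent.FlatH4.one_tmul_eq_zero_iff, ← map_smul_top (S := S)]
    exact h x ((map_smul_top (S := S) Y m (f x)).mpr hz)
  obtain ⟨h1, h2⟩ := Groth.Agent.S0393.result (S := S) u hu
  refine ⟨h1, ?_⟩
  have e : ((LinearMap.range f).restrictScalars R) = LinearMap.range u := rfl
  exact Module.Flat.of_linearEquiv (R := R) ((Submodule.Quotient.restrictScalarsEquiv R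
    (LinearMap.range f)).symm.trans (Submodule.quotEquivOfEq _ _ e))



/-- Let R and S be Noetherian local rings, R → S a local ring map, and m the maximal ideal of R. Take a
bounded complex F_e → … → F_1 → F_0 of finitely generated S-modules, zero to the left of F_e (a
chain complex C with C_j = 0 for j > e) such that every F_j is flat over R and the complex 0 →
F_e/mF_e → … → F_0/mF_0 (C tensored over S with S/mS) is exact at F_e, …, F_1. Then 0 → F_e → … →
F_0 is exact at F_e, …, F_1 and the cokernel of F_1 → F_0 (the homology of C in degree 0) is flat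
over R. -/
theorem result {R S : Type u} [CommRing R] [CommRing S]
    [IsLocalRing R] [IsLocalRing S] [IsNoetherianRing R] [IsNoetherianRing S] [Algebra R S]
    [IsLocalHom (algebraMap R S)] (C : ChainComplex (ModuleCat.{u} S) ℕ) (e : ℕ)
    (hzero : ∀ j, e < j → Limits.IsZero (C.X j)) (hfin : ∀ j, Module.Finite S (C.X j))
    (hflat : ∀ j, Module.Flat R ((ModuleCat.restrictScalars (algebraMap R S)).obj (C.X j)))
    (hex : ∀ j, 1 ≤ j → j ≤ e →
      (((MonoidalCategory.tensorLeft
          (ModuleCat.of S (S ⧸ (IsLocalRing.maximalIdeal R).map (algebraMap R S)))).mapHomologicalComplex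
          (ComplexShape.down ℕ)).obj C).ExactAt j) :
    (∀ j, 1 ≤ j → j ≤ e → C.ExactAt j) ∧
      Module.Flat R ((ModuleCat.restrictScalars (algebraMap R S)).obj (C.homology 0)) := by
  let J := (IsLocalRing.maximalIdeal R).map (algebraMap R S)
  letI : ∀ j, Module R (C.X j) := fun j => Module.compHom (C.X j) (algebraMap R S)
  haveI : ∀ j, IsScalarTower R S (C.X j) := fun j =>
    IsScalarTower.of_algebraMap_smul fun _ _ => rfl
  haveI : ∀ j, Module.Flat R (C.X j) := hflat
  have hdd : ∀ (j : ℕ), ∀ x, (C.d (j + 1) j).hom ((C.d (j + 2) (j + 1)).hom x) = 0 := fun j x => by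
    rw [← LinearMap.comp_apply, ← ModuleCat.hom_comp, C.d_comp_d (j + 2) (j + 1) j]
    rfl
  have main : ∀ k j, e ≤ j + k →
      (∀ i, j < i → i ≤ e → C.ExactAt i) ∧
      Module.Flat R (C.X j ⧸ LinearMap.range (C.d (j + 1) j).hom) := by
    intro k
    induction k with
    | zero =>
      intro j hj
      refine ⟨fun i h1 h2 => by omega, ?_⟩
      have h0 : LinearMap.range (C.d (j + 1) j).hom = ⊥ := by
        rw [(hzero (j + 1) (by omega)).eq_of_src (C.d (j + 1) j) 0]
        simp
      exact Module.Flat.of_linearEquiv (R := R) ((Submodule.quotEquivOfEqBot _ h0).restrictScalars R)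
    | succ k ih =>
      intro j hj
      obtain ⟨hex', hfl⟩ := ih (j + 1) (by omega)
      let D := (C.d (j + 2) (j + 1)).hom
      let E := (C.d (j + 1) j).hom
      have hDE : LinearMap.range D ≤ LinearMap.ker E := by
        rintro _ ⟨x, rfl⟩; exact hdd j x
      let f := (LinearMap.range D).liftQ E hDE
      have hrange : LinearMap.range f = LinearMap.range E := Submodule.range_liftQ _ _ _
      by_cases hje : e ≤ j
      · refine ⟨fun i h1 h2 => by omega, ?_⟩
        have h0 : LinearMap.range (C.d (j + 1) j).hom = ⊥ := by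
          rw [(hzero (j + 1) (by omega)).eq_of_src (C.d (j + 1) j) 0]
          simp
        exact Module.Flat.of_linearEquiv (R := R)
          ((Submodule.quotEquivOfEqBot _ h0).restrictScalars R)
      have hx := hex (j + 1) (by omega) (by omega)
      rw [HomologicalComplex.exactAt_iff' _ (j + 2) (j + 1) j (by simp) (by simp),
        ShortComplex.moduleCat_exact_iff] at hx
      haveI := hfin (j + 1)
      have hf : ∀ x, f x ∈ J • (⊤ : Submodule S (C.X j)) →
          x ∈ J • (⊤ : Submodule S (C.X (j + 1) ⧸ LinearMap.range D)) := by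
        intro x
        induction x using Submodule.Quotient.induction_on with
        | _ x =>
          intro hxJ
          rw [Submodule.liftQ_apply] at hxJ
          obtain ⟨z, hz⟩ := hx ((1 : S ⧸ J) ⊗ₜ[S] x) (by
            show E.lTensor (S ⧸ J) ((1 : S ⧸ J) ⊗ₜ[S] x) = 0
            rw [LinearMap.lTensor_tmul, Groth.Agent.FlatH4.one_tmul_eq_zero_iff]
            exact hxJ)
          change (S ⧸ J) ⊗[S] C.X (j + 2) at z
          obtain ⟨y, rfl⟩ : ∃ y : C.X (j + 2), (1 : S ⧸ J) ⊗ₜ[S] y = z :=
            (TensorProduct.mk_surjective S _ (S ⧸ J) Ideal.Quotient.mk_surjective) z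
          change D.lTensor (S ⧸ J) ((1 : S ⧸ J) ⊗ₜ[S] y) = (1 : S ⧸ J) ⊗ₜ[S] x at hz
          rw [LinearMap.lTensor_tmul, ← sub_eq_zero, ← tmul_sub,
            Groth.Agent.FlatH4.one_tmul_eq_zero_iff] at hz
          have hmap := Submodule.mem_map_of_mem (f := (LinearMap.range D).mkQ) hz
          rw [Submodule.map_smul''] at hmap
          have hmap' := Submodule.smul_mono (le_refl J) le_top hmap
          rw [map_sub, Submodule.mkQ_apply, Submodule.mkQ_apply,
            (Submodule.Quotient.mk_eq_zero _).mpr (LinearMap.mem_range_self D y), zero_sub,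
            Submodule.neg_mem_iff] at hmap'
          exact hmap'
      obtain ⟨hinj, hflat'⟩ := step (R := R) f hf
      refine ⟨fun i h1 h2 => ?_, ?_⟩
      · rcases (show i = j + 1 ∨ j + 1 < i by omega) with rfl | h
        · rw [HomologicalComplex.exactAt_iff' _ (j + 2) (j + 1) j (by simp) (by simp),
            ShortComplex.moduleCat_exact_iff]
          intro x hx0
          have : f (Submodule.Quotient.mk x) = f 0 := by
            rw [map_zero, Submodule.liftQ_apply]; exact hx0
          exact (Submodule.Quotient.mk_eq_zero _).mp (hinj this)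
        · exact hex' i h h2
      · exact Module.Flat.of_linearEquiv (R := R)
          ((Submodule.quotEquivOfEq _ _ hrange).restrictScalars R).symm
  obtain ⟨h1, h2⟩ := main e 0 (by omega)
  refine ⟨fun j hj hje => h1 j hj hje, ?_⟩
  have hnext : (ComplexShape.down ℕ).next 0 = 0 := by simp
  let e₁ : C.homology 0 ≅ C.opcycles 0 := C.isoHomologyι 0 0 hnext (C.shape 0 0 (by simp))
  let e₂ : C.opcycles 0 ≅ ModuleCat.of S (C.X 0 ⧸ LinearMap.range (C.d 1 0).hom) :=
    (C.opcyclesIsCokernel 1 0 (by simp)).coconePointUniqueUpToIso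
      (ModuleCat.cokernelIsColimit (C.d 1 0))
  let L := (e₁ ≪≫ e₂).toLinearEquiv
  letI : Module R (C.homology 0) := Module.compHom (C.homology 0) (algebraMap R S)
  haveI : IsScalarTower R S (C.homology 0) := IsScalarTower.of_algebraMap_smul fun _ _ => rfl
  change Module.Flat R (C.homology 0)
  exact Module.Flat.of_linearEquiv (R := R) (L.restrictScalars R)

end Groth.Agent.S6387
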