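import Groth.Statements.S6390
import Groth.Agent.Lib.Kap.Basic
import Mathlib.Order.WithBot
import Mathlib.SetTheory.Cardinal.Order

set_option autoImplicit false
universe u
open scoped Classical
open CAlg

namespace Groth.Agent.S6390

/-- An R-module M is a direct sum of countably generated modules if and only if it admits a Kaplansky
dévissage, i.e. an increasing family of submodules (M_s) indexed by a well-ordered set S with M_s =
⋃_{t<s} M_t at non-successor indices (so the first term is 0), ⋃_s M_s = M, and, whenever t is the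
successor of s, M_s a direct summand of M_t with M_t/M_s countably generated. -/
theorem result (R : Type u) [CommRing R] (M : Type u)
    [AddCommGroup M] [Module R M] :
    (∃ (ι : Type u) (N : ι → Submodule R M), DirectSum.IsInternal N ∧ ∀ i, CAlg.IsCountablyGenerated R (N i)) ↔
      ∃ (S : Type u) (_ : LinearOrder S) (_ : WellFoundedLT S) (Mf : S → Submodule R M), Monotone Mf ∧
        (∀ s : S, Order.IsSuccPrelimit s → Mf s = ⨆ t : {t : S // t < s}, Mf t.1) ∧
        (⨆ s, Mf s) = ⊤ ∧
        (∀ s t : S, s ⋖ t → ∃ C : Submodule R M, Mf s ⊓ C = ⊥ ∧ Mf s ⊔ C = Mf t ∧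
          CAlg.IsCountablyGenerated R (↥(Mf t) ⧸ Submodule.comap (Mf t).subtype (Mf s))) := by
  classical
  constructor
  · rintro ⟨ι, N, hN, hc⟩
    have hind := hN.submodule_iSupIndep
    have hsup := hN.submodule_iSup_eq_top
    letI : LinearOrder ι := linearOrderOfSTO (WellOrderingRel (α := ι))
    haveI : WellFoundedLT ι := ⟨(inferInstance : IsWellOrder ι WellOrderingRel).wf⟩
    let Mf : WithTop ι → Submodule R M := fun s => ⨆ (i : ι) (_ : (i : WithTop ι) < s), N i
    refine ⟨WithTop ι, inferInstance, inferInstance, Mf,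
      fun s t h => biSup_mono fun i hi => lt_of_lt_of_le hi h, fun s hs => ?_, ?_, fun s t hst => ?_⟩
    · refine le_antisymm (iSup₂_le fun i hi => ?_) (iSup_le fun t => biSup_mono fun i hi => hi.trans t.2)
      obtain ⟨t, h1, h2⟩ : ∃ t, (i : WithTop ι) < t ∧ t < s := by
        have h := hs (i : WithTop ι)
        simp only [CovBy, hi, true_and, not_forall, not_not] at h
        obtain ⟨t, h1, h2⟩ := h
        exact ⟨t, h1, h2⟩
      exact le_iSup_of_le ⟨t, h2⟩ (le_iSup₂ (f := fun (i : ι) (_ : (i : WithTop ι) < t) => N i) i h1)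
    · refine top_le_iff.1 (hsup.ge.trans (iSup_le fun i => ?_))
      exact le_iSup_of_le ⊤ (le_iSup₂ (f := fun (j : ι) (_ : (j : WithTop ι) < ⊤) => N j) i (WithTop.coe_lt_top i))
    · obtain ⟨i, rfl⟩ := WithTop.ne_top_iff_exists.1 hst.lt.ne_top
      have hsplit : ∀ j : ι, (j : WithTop ι) < t → j < i ∨ j = i := fun j hj => by
        rcases lt_trichotomy j i with h | h | h
        · exact Or.inl h
        · exact Or.inr h
        · exact absurd hj (fun hj => hst.2 (WithTop.coe_lt_coe.2 h) hj)
      have h0 : Mf i ⊓ N i = ⊥ := by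
        refine disjoint_iff.1 (Disjoint.symm ?_)
        exact (hind.disjoint_biSup (x := i) (y := {j : ι | (j : WithTop ι) < i})
          (fun h => lt_irrefl (i : WithTop ι) h))
      have h1 : Mf i ⊔ N i = Mf t := by
        refine le_antisymm (sup_le (biSup_mono fun j hj => hj.trans hst.lt)
          (le_iSup₂ (f := fun (j : ι) (_ : (j : WithTop ι) < t) => N j) i hst.lt)) (iSup₂_le fun j hj => ?_)
        rcases hsplit j hj with h | rfl
        · exact le_sup_of_le_left (le_iSup₂ (f := fun (k : ι) (_ : (k : WithTop ι) < i) => N k) j (WithTop.coe_lt_coe.2 h))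
        · exact le_sup_right
      exact ⟨N i, h0, h1, Groth.Agent.Kap.cg_of_surjective (hc i)
        (Groth.Agent.Kap.equivQuotOfCompl h0 h1).toLinearMap (LinearEquiv.surjective _)⟩
  · rintro ⟨S, i1, i2, Mf, hmono, hlim, htop, hC⟩
    choose C h0 h1 hcg using fun p : {p : S × S // p.1 ⋖ p.2} => hC p.1.1 p.1.2 p.2
    exact ⟨{p : S × S // p.1 ⋖ p.2}, C,
      by convert Groth.Agent.Kap.isInternal_of_devissage Mf hmono hlim htop C fun p => ⟨h0 p, h1 p⟩,
      fun p => Groth.Agent.Kap.cg_of_surjective (hcg p)
        (Groth.Agent.Kap.equivQuotOfCompl (h0 p) (h1 p)).symm.toLinearMap (LinearEquiv.surjective _)⟩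

end Groth.Agent.S6390
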