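import Groth.Statements.S6391
import Groth.Agent.Lib.Hens.Finite
import Mathlib.Algebra.Category.Ring.Under.Basic
import Mathlib

set_option autoImplicit false
universe u
open CAlg

namespace Groth.Agent.S6391


open CategoryTheory Limits in
theorem Groth.Agent.existsUnique_indEtale_lift {R : Type u} [CommRing R] {A T K : Type u} [CommRing A] [CommRing T]
    [CommRing K] [Algebra R A] [Algebra R T] [Algebra R K] (hA : EtPBC.IsIndEtale R A) [HenselianLocalRing T]
    (π : T →ₐ[R] K) (hπ : Function.Surjective π) (hker : RingHom.ker π.toRingHom = IsLocalRing.maximalIdeal T)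
    (f : A →ₐ[R] K) : ∃! φ : A →ₐ[R] T, π.comp φ = f := by
  obtain ⟨J, _, _, D, c, hc, hD, ⟨e⟩⟩ := hA
  let U : Under (CommRingCat.of R) := Under.mk (CommRingCat.ofHom (algebraMap R A))
  let inA : ∀ j, (D.obj j).right →+* A := fun j => (c.ι.app j ≫ e.hom).right.hom
  have inA_comm : ∀ j (r : R), inA j ((D.obj j).hom.hom r) = algebraMap R A r := fun j r => by
    exact congrArg (fun g => g.hom r) (Under.w (c.ι.app j ≫ e.hom))
  letI alg : ∀ j, Algebra R (D.obj j).right := fun j => (D.obj j).hom.hom.toAlgebra
  haveI : ∀ j, Algebra.Etale R (D.obj j).right := hD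
  let ι : ∀ j, (D.obj j).right →ₐ[R] A := fun j => { inA j with commutes' := inA_comm j }
  have key : ∀ j, ∃! τ : (D.obj j).right →ₐ[R] T, π.comp τ = f.comp (ι j) := fun j =>
    Hens.existsUnique_algHom_lift_of_surjective (Hens.henselianRing_maximalIdeal T) π hπ hker (f.comp (ι j))
  choose τ hτ hτu using key
  have hnat : ∀ {i j : J} (g : i ⟶ j), ∀ x, τ j ((D.map g).right x) = τ i x := by
    intro i j g
    let m : (D.obj i).right →ₐ[R] (D.obj j).right :=
      { (D.map g).right.hom with
        commutes' := fun r => congrArg (fun h => h.hom r) (Under.w (D.map g)) }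
    have hm : (τ j).comp m = τ i := hτu i _ (AlgHom.ext fun x => by
      have h1 := DFunLike.congr_fun (hτ j) (m x)
      simp only [AlgHom.comp_apply] at h1 ⊢
      rw [h1]
      refine congrArg f ?_
      show inA j ((D.map g).right x) = inA i x
      have h2 := congrArg (fun h => h.right.hom x) (c.w g)
      simp only [Under.comp_right, CommRingCat.hom_comp, RingHom.comp_apply] at h2
      simp [inA, h2])
    exact fun x => DFunLike.congr_fun hm x
  let cT : Cocone D :=
    { pt := Under.mk (CommRingCat.ofHom (algebraMap R T))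
      ι :=
        { app := fun j => Under.homMk (CommRingCat.ofHom (τ j).toRingHom) (by
            ext r; exact (τ j).commutes r)
          naturality := fun i j g => by
            apply Under.UnderMorphism.ext
            ext x
            simpa using hnat g x } }
  let dh := e.inv ≫ hc.desc cT
  let φ : A →ₐ[R] T :=
    { dh.right.hom with
      commutes' := fun r => congrArg (fun h => h.hom r) (Under.w dh) }
  have hφ : ∀ j x, φ (ι j x) = τ j x := fun j x => by
    show dh.right.hom (inA j x) = τ j x
    have h1 := congrArg (fun h => h.right.hom x) (hc.fac cT j)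
    simp [inA, dh, cT]
    rw [show e.inv.right.hom (e.hom.right.hom ((c.ι.app j).right.hom x)) = (c.ι.app j).right.hom x from by
      rw [← RingHom.comp_apply, ← CommRingCat.hom_comp, ← Under.comp_right, e.hom_inv_id]; rfl]
    exact h1
  have hepi : ∀ {C : Type u} [CommRing C] [Algebra R C] (a b : A →ₐ[R] C), (∀ j x, a (ι j x) = b (ι j x)) → a = b := by
    intro C _ _ a b hab
    have hmor : (Under.homMk (CommRingCat.ofHom a.toRingHom) (by ext r; exact a.commutes r) : U ⟶ Under.mk (CommRingCat.ofHom (algebraMap R C))) =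
        Under.homMk (CommRingCat.ofHom b.toRingHom) (by ext r; exact b.commutes r) := by
      rw [← cancel_epi e.hom]
      refine hc.hom_ext fun j => ?_
      apply Under.UnderMorphism.ext
      ext x
      simpa [inA, ι] using hab j x
    ext x
    exact congrArg (fun h => h.right.hom x) hmor
  refine ⟨φ, hepi _ _ fun j x => ?_, fun ψ hψ => hepi _ _ fun j x => ?_⟩
  · rw [AlgHom.comp_apply, hφ]
    exact DFunLike.congr_fun (hτ j) x
  · rw [hφ, ← hτu j (ψ.comp (ι j)) (show π.comp (ψ.comp (ι j)) = f.comp (ι j) by rw [← AlgHom.comp_assoc, show π.comp ψ = f from hψ])]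
    rfl


/-- Let R be a ring, S and S' henselian local rings which are filtered colimits of étale R-algebras, and
K a field together with R-algebra maps S → K and S' → K identifying K with the residue field of each
(surjective with kernel the maximal ideal). Then exactly one isomorphism of R-algebras S → S'
commutes with the two maps to K. -/
theorem result (R S S' K : Type u) [CommRing R]
    [CommRing S] [CommRing S'] [Field K] [HenselianLocalRing S] [HenselianLocalRing S']
    [Algebra R S] [Algebra R S'] [Algebra R K] (hS : EtPBC.IsIndEtale R S) (hS' : EtPBC.IsIndEtale R S')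
    (u : S →ₐ[R] K) (u' : S' →ₐ[R] K) (hu : Function.Surjective u) (hu' : Function.Surjective u')
    (hku : RingHom.ker u.toRingHom = IsLocalRing.maximalIdeal S)
    (hku' : RingHom.ker u'.toRingHom = IsLocalRing.maximalIdeal S') :
    ∃! e : S ≃ₐ[R] S', u'.comp (e : S →ₐ[R] S') = u := by
  obtain ⟨φ, hφ, hφu⟩ := Groth.Agent.existsUnique_indEtale_lift hS u' hu' hku' u
  obtain ⟨ψ, hψ, -⟩ := Groth.Agent.existsUnique_indEtale_lift hS' u hu hku u'
  obtain ⟨i₁, -, h₁⟩ := Groth.Agent.existsUnique_indEtale_lift hS u hu hku u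
  obtain ⟨i₂, -, h₂⟩ := Groth.Agent.existsUnique_indEtale_lift hS' u' hu' hku' u'
  have e₁ : ψ.comp φ = AlgHom.id R S :=
    (h₁ _ (show u.comp (ψ.comp φ) = u by rw [← AlgHom.comp_assoc, show u.comp ψ = u' from hψ, show u'.comp φ = u from hφ])).trans (h₁ _ (AlgHom.comp_id u)).symm
  have e₂ : φ.comp ψ = AlgHom.id R S' :=
    (h₂ _ (show u'.comp (φ.comp ψ) = u' by rw [← AlgHom.comp_assoc, show u'.comp φ = u from hφ, show u.comp ψ = u' from hψ])).trans (h₂ _ (AlgHom.comp_id u')).symm
  refine ⟨AlgEquiv.ofAlgHom φ ψ e₂ e₁, hφ, fun e he => AlgEquiv.ext fun x => ?_⟩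
  exact DFunLike.congr_fun (hφu (e : S →ₐ[R] S') he) x

end Groth.Agent.S6391
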