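import Groth.Statements.S6392
import Groth.Agent.S6357
import Groth.Agent.Lib.CAlgLow.ML
import Mathlib

set_option autoImplicit false
universe u
open CAlg

namespace Groth.Agent.S6392

/-- Suppose M is the colimit of finitely presented R-modules G_i along a directed system over a nonempty
directed index set (transition maps f_ij), and M is both Mittag-Leffler and countably generated.
Then some countable directed subset I' of the indices already computes M: the canonical map from the
colimit of the G_i with i ∈ I' to M is bijective. -/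
theorem result (R : Type u) [CommRing R]
    {ι : Type u} [Preorder ι] [IsDirected ι (· ≤ ·)] [Nonempty ι] [DecidableEq ι] (G : ι → Type u)
    [∀ i, AddCommGroup (G i)] [∀ i, Module R (G i)] [∀ i, Module.FinitePresentation R (G i)]
    (f : ∀ i j, i ≤ j → G i →ₗ[R] G j) [DirectedSystem G fun i j h => f i j h]
    (hML : CAlg.IsMittagLeffler R (Module.DirectLimit G f))
    (hc : CAlg.IsCountablyGenerated R (Module.DirectLimit G f)) :
    ∃ I' : Set ι, I'.Countable ∧ DirectedOn (· ≤ ·) I' ∧
      Function.Bijective (Module.DirectLimit.lift R I' (fun i : I' => G i.1)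
        (fun (i j : I') (h : i ≤ j) => f i.1 j.1 h)
        (fun i : I' => Module.DirectLimit.of R ι G f i.1)
        (fun (i j : I') (h : i ≤ j) (x : G i.1) => Module.DirectLimit.of_f)) := by
  classical
  obtain ⟨s, hs, htop⟩ := hc
  choose i₀ x hx using fun m : Module.DirectLimit G f => Module.DirectLimit.exists_of m
  choose j hij hj using (Groth.Agent.S6357.result R G f).1 hML
  choose ub hub1 hub2 using fun p : ι × ι => exists_ge_ge p.1 p.2
  let a : ι := Classical.arbitrary ι
  let J : ℕ → Set ι := fun n => Nat.rec (insert a (i₀ '' s))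
    (fun _ T => T ∪ j '' T ∪ ub '' (T ×ˢ T)) n
  have hJc : ∀ n, (J n).Countable := by
    intro n
    induction n with
    | zero => exact (hs.image _).insert _
    | succ n ih => exact (ih.union (ih.image _)).union ((ih.prod ih).image _)
  have hmono : Monotone J := monotone_nat_of_le_succ fun n => fun y hy => Or.inl (Or.inl hy)
  let I' : Set ι := ⋃ n, J n
  have hclj : ∀ i ∈ I', j i ∈ I' := fun i hi => by
    obtain ⟨n, hn⟩ := Set.mem_iUnion.1 hi
    exact Set.mem_iUnion.2 ⟨n + 1, Or.inl (Or.inr ⟨i, hn, rfl⟩)⟩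
  have hdir : DirectedOn (· ≤ ·) I' := fun p hp q hq => by
    obtain ⟨n, hn⟩ := Set.mem_iUnion.1 hp
    obtain ⟨m, hm⟩ := Set.mem_iUnion.1 hq
    refine ⟨ub (p, q), Set.mem_iUnion.2 ⟨max n m + 1, Or.inr ⟨(p, q),
      ⟨hmono (le_max_left _ _) hn, hmono (le_max_right _ _) hm⟩, rfl⟩⟩, hub1 (p, q), hub2 (p, q)⟩
  refine ⟨I', Set.countable_iUnion hJc, hdir, ?_⟩
  haveI : Nonempty I' := ⟨⟨a, Set.mem_iUnion.2 ⟨0, Set.mem_insert _ _⟩⟩⟩
  haveI : IsDirected I' (· ≤ ·) := ⟨fun p q => by
    obtain ⟨r, hr, h1, h2⟩ := hdir p.1 p.2 q.1 q.2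
    exact ⟨⟨r, hr⟩, h1, h2⟩⟩
  haveI : DirectedSystem (fun i : I' => G i.1) fun (p q : I') (h : p ≤ q) => f p.1 q.1 h :=
    { map_self := fun p x => DirectedSystem.map_self (f := fun i j h => f i j h) x
      map_map := fun p q r h1 h2 x => DirectedSystem.map_map (f := fun i j h => f i j h) h1 h2 x }
  constructor
  · rw [injective_iff_map_eq_zero]
    intro z hz
    obtain ⟨p, y, rfl⟩ := Module.DirectLimit.exists_of z
    rw [Module.DirectLimit.lift_of] at hz
    obtain ⟨k, hk, hk0⟩ := Module.DirectLimit.of.zero_exact hz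
    obtain ⟨h, hh⟩ := hj p.1 k hk
    rw [← Module.DirectLimit.of_f (G := fun i : I' => G i.1) (f := fun p q h => f p.1 q.1 h)
        (j := (⟨j p.1, hclj p.1 p.2⟩ : I')) (hij := hij p.1),
      show f p.1 (j p.1) (hij p.1) y = 0 by rw [hh, LinearMap.comp_apply, hk0, map_zero], map_zero]
  · intro m
    have hm : m ∈ Submodule.span R s := htop ▸ Submodule.mem_top
    refine (Submodule.span_le.2 ?_ : Submodule.span R s ≤ LinearMap.range _) hm
    intro m' hm'
    refine ⟨Module.DirectLimit.of R I' (fun i : I' => G i.1) (fun p q h => f p.1 q.1 h)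
      ⟨i₀ m', Set.mem_iUnion.2 ⟨0, Or.inr ⟨m', hm', rfl⟩⟩⟩ (x m'), ?_⟩
    rw [Module.DirectLimit.lift_of]
    exact hx m'

end Groth.Agent.S6392
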