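import Groth.Statements.S6396
import Groth.Agent.Lib.FC16.Fiber

set_option autoImplicit false
open CategoryTheory
universe v u
open FibCat

namespace Groth.Agent.S6396
open CategoryTheory.Functor Groth.Agent.FC16
set_option linter.style.haveILetI false
set_option backward.isDefEq.respectTransparency false
set_option backward.isDefEq.respectTransparency.types false


/-- A functor `G` over `C` between categories fibred in groupoids is faithful if and only if each
induced functor of fibre categories `𝒳_U ⥤ 𝒴_U` is faithful. -/
theorem result {C : Type u} [Category.{v} C] {𝒳 𝒴 : BasedCategory.{v, max u v} C} (G : 𝒳 ⥤ᵇ 𝒴) (h𝒳 : FibCat.IsFibGrpd 𝒳.p) (h𝒴 : FibCat.IsFibGrpd 𝒴.p) :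
    G.toFunctor.Faithful ↔ ∀ U : C, (FibCat.fiberFunctor G U).Faithful := by
  haveI := Groth.Agent.FC16.isFibered h𝒳
  refine ⟨fun _ U => (faithful_fib_iff G).2 (fibFaithful_of_faithful G) U, fun h => ?_⟩
  exact faithful_of_fib (presCart_of_isFibGrpd h𝒴 G) ((faithful_fib_iff G).1 h)

end Groth.Agent.S6396
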