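import Groth.Statements.S6398
import Groth.Agent.Lib.FC16.Fiber

set_option autoImplicit false
open CategoryTheory
universe v u
open FibCat

namespace Groth.Agent.S6398
open CategoryTheory.Functor Groth.Agent.FC16
set_option linter.style.haveILetI false
set_option backward.isDefEq.respectTransparency false
set_option backward.isDefEq.respectTransparency.types false


/-- A functor `G` over `C` between categories fibred in groupoids is an equivalence of categories if and
only if each induced functor of fibre categories `𝒳_U ⥤ 𝒴_U` is an equivalence of categories. -/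
theorem result {C : Type u} [Category.{v} C] {𝒳 𝒴 : BasedCategory.{v, max u v} C} (G : 𝒳 ⥤ᵇ 𝒴) (h𝒳 : FibCat.IsFibGrpd 𝒳.p) (h𝒴 : FibCat.IsFibGrpd 𝒴.p) :
    G.toFunctor.IsEquivalence ↔ ∀ U : C, (FibCat.fiberFunctor G U).IsEquivalence := by
  haveI := Groth.Agent.FC16.isFibered h𝒳
  refine ⟨fun _ U => isEquivalence_fib_of_isEquivOver (isEquivOver_of_isEquivalence G) U, fun h => ?_⟩
  exact isEquivalence_of_isEquivOver ((isEquivOver_iff_fib (presCart_of_isFibGrpd h𝒴 G)).2 h)

end Groth.Agent.S6398
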