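import Groth.Statements.S6402
import Groth.Agent.Lib.FC16.Inertia

set_option autoImplicit false
open CategoryTheory
universe v u
open FibCat

namespace Groth.Agent.S6402
open CategoryTheory.Functor Groth.Agent.FC16
set_option linter.style.haveILetI false
set_option linter.unusedVariables false
set_option backward.isDefEq.respectTransparency false
set_option backward.isDefEq.respectTransparency.types false


/-- For a functor `F : 𝒳 ⟶ 𝒴` of fibred categories over `C` preserving strongly cartesian morphisms, the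
relative inertia `I_{𝒳/𝒴}` (pairs `(x, α)` with `α` an automorphism of `x` sent to the identity by
`F`) is equivalent over `C` to `𝒳 ×_{Δ, 𝒳 ×_𝒴 𝒳, Δ} 𝒳`, by a functor over `C` whose composite with
either projection is the forgetful functor `(x, α) ↦ x`. (Only the two projections of the
equivalence are pinned here; its 2-cell component at `(x, α)` is `(α, 𝟙)`.) -/
theorem result {C : Type u} [Category.{v} C] {𝒳 𝒴 : BasedCategory.{v, max u v} C} [𝒳.p.IsFibered] [𝒴.p.IsFibered] (F : 𝒳 ⥤ᵇ 𝒴) (hF : FibCat.PreservesStronglyCartesian F) :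
    ∃ E : FibCat.inertia F ⥤ᵇ FibCat.fp (FibCat.diag F) (FibCat.diag F),
      FibCat.IsEquivOver E ∧ BasedFunctor.comp E (FibCat.fpFst _ _) = FibCat.inertiaToBase F ∧
        BasedFunctor.comp E (FibCat.fpSnd _ _) = FibCat.inertiaToBase F := by
  let e : BasedFunctor.comp (FibCat.inertiaToBase F) (FibCat.diag F) ≅
      BasedFunctor.comp (FibCat.inertiaToBase F) (FibCat.diag F) :=
    BasedNatIso.mkNatIso (NatIso.ofComponents (fun z => fpIsoMk z.aut (Iso.refl z.pt) (by
        show F.map z.aut.hom ≫ 𝟙 _ = 𝟙 _ ≫ F.map (𝟙 z.pt)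
        rw [z.map_aut, Functor.map_id]))
      (fun {z z'} φ => fp_hom_ext φ.comm.symm
        ((Category.comp_id _).trans (Category.id_comp _).symm)))
      (fun z => @isHomLift_of_fst _ _ _ _ _ _ _ _ _ _ _ _ _ (aut_lift z rfl))
  let E := FibCat.fpLift (FibCat.inertiaToBase F) (FibCat.inertiaToBase F) e
  refine ⟨E, ?_, rfl, rfl⟩
  haveI : E.toFunctor.Faithful := ⟨fun h => FibCat.InertiaObj.hom_ext (congrArg (fun t => t.hom.fst) h)⟩
  haveI : E.toFunctor.Full := ⟨fun {z z'} φ => by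
    have w1 : φ.hom.fst ≫ z'.aut.hom = z.aut.hom ≫ φ.hom.snd := congrArg (fun t => t.hom.fst) (fp_w φ)
    have w2 : φ.hom.fst ≫ 𝟙 _ = 𝟙 _ ≫ φ.hom.snd := congrArg (fun t => t.hom.snd) (fp_w φ)
    have w2' : φ.hom.fst = φ.hom.snd := (Category.comp_id _).symm.trans (w2.trans (Category.id_comp _))
    exact ⟨⟨φ.hom.fst, by rw [← w2'] at w1; exact w1.symm⟩, fp_hom_ext rfl w2'⟩⟩
  refine isEquivOver_of _ fun η => ?_
  let U : C := 𝒳.p.obj η.obj.fst
  haveI he := iso_lift η (U := U) rfl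
  let e1 := (FibCat.fpFst F F).toFunctor.mapIso η.obj.iso
  let e2 := (FibCat.fpSnd F F).toFunctor.mapIso η.obj.iso
  haveI : 𝒳.p.IsHomLift (𝟙 U) e1.hom := BasedFunctor.preserves_isHomLift (FibCat.fpFst F F) _ η.obj.iso.hom
  haveI : 𝒳.p.IsHomLift (𝟙 U) e2.hom := BasedFunctor.preserves_isHomLift (FibCat.fpSnd F F) _ η.obj.iso.hom
  have w : F.map e1.hom ≫ 𝟙 _ = 𝟙 _ ≫ F.map e2.hom := fp_w η.obj.iso.hom
  have w' : F.map e1.hom = F.map e2.hom := (Category.comp_id _).symm.trans (w.trans (Category.id_comp _))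
  let α : η.obj.fst ≅ η.obj.fst := e1 ≪≫ e2.symm
  let z : (FibCat.inertia F).obj := ⟨η.obj.fst, α, by
    show F.map (e1.hom ≫ e2.inv) = 𝟙 _
    rw [Functor.map_comp, w', ← Functor.map_comp, e2.hom_inv_id, Functor.map_id]
    rfl⟩
  refine ⟨z, fpIsoMk (Iso.refl _) e2 (fp_hom_ext ?_ ?_),
    @isHomLift_of_fst _ _ _ _ _ _ _ _ _ _ _ _ _ (IsHomLift.id (fst_p η))⟩
  · show 𝟙 _ ≫ e1.hom = α.hom ≫ e2.hom
    show 𝟙 _ ≫ e1.hom = (e1.hom ≫ e2.inv) ≫ e2.hom
    rw [Category.assoc, e2.inv_hom_id]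
    exact (Category.id_comp _).trans (Category.comp_id _).symm
  · show 𝟙 _ ≫ e2.hom = 𝟙 _ ≫ e2.hom
    rfl

end Groth.Agent.S6402
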