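import Groth.Statements.S6405
import Groth.Agent.Lib.FC16.Inertia
import Groth.Agent.Lib.FC16.Setoid

set_option autoImplicit false
open CategoryTheory
universe v u
open FibCat

namespace Groth.Agent.S6405
open CategoryTheory.Functor Groth.Agent.FC16
set_option linter.style.haveILetI false
set_option linter.unusedVariables false
set_option backward.isDefEq.respectTransparency false
set_option backward.isDefEq.respectTransparency.types false


/-- (2) ⇒ (1): if `𝒳` is fibred in groupoids over `C` and the canonical functor `I_𝒳 ⟶ 𝒳` from its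
inertia is an equivalence over `C`, then `𝒳` is fibred in setoids. (The published statement is an
equivalence; this row states only that the inertia condition implies that `𝒳` is fibred in setoids.) -/
theorem result {C : Type u} [Category.{v} C] {𝒳 : BasedCategory.{v, max u v} C} (h𝒳 : FibCat.IsFibGrpd 𝒳.p)
    (h : FibCat.IsEquivOver (FibCat.inertiaToBase (FibCat.toSelf 𝒳))) : FibCat.IsFibSetoid 𝒳.p := by
  refine ⟨h𝒳, fun U a b => ⟨fun φ ψ => Subtype.ext ?_⟩⟩
  have := isEquivalence_of_isEquivOver h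
  haveI hψ : 𝒳.p.IsHomLift (𝟙 U) ψ.1 := ψ.2
  haveI hφ : 𝒳.p.IsHomLift (𝟙 U) φ.1 := φ.2
  haveI := isIso_of_vertical (U := U) h𝒳 φ.1
  haveI := isIso_of_vertical (U := U) h𝒳 ψ.1
  let α : a.1 ≅ a.1 := asIso φ.1 ≪≫ (asIso ψ.1).symm
  have hα : (FibCat.toSelf 𝒳).map α.hom = 𝟙 _ := by
    have h' : 𝒳.p.IsHomLift (𝟙 U) (φ.1 ≫ inv ψ.1) := inferInstance
    show 𝒳.p.map (φ.1 ≫ inv ψ.1) = 𝟙 _
    rw [IsHomLift.fac' 𝒳.p (𝟙 U) (φ.1 ≫ inv ψ.1)]
    simp
  let z : (FibCat.inertia (FibCat.toSelf 𝒳)).obj := ⟨a.1, α, hα⟩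
  let z₀ : (FibCat.inertia (FibCat.toSelf 𝒳)).obj := (FibCat.inertiaNeutral (FibCat.toSelf 𝒳)).obj a.1
  obtain ⟨m, hm⟩ := (FibCat.inertiaToBase (FibCat.toSelf 𝒳)).toFunctor.map_surjective
    (X := z) (Y := z₀) (𝟙 a.1)
  have e : α.hom ≫ m.hom = m.hom ≫ 𝟙 a.1 := m.comm
  have e' : α.hom = 𝟙 a.1 := by
    have hm' : m.hom = 𝟙 a.1 := hm
    rw [hm', Category.comp_id] at e
    exact e.trans (Category.id_comp _)
  exact (Iso.comp_inv_eq (asIso ψ.1)).1 e' |>.trans (Category.id_comp _)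

end Groth.Agent.S6405
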