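import Groth.Statements.S6406
import Groth.Agent.Lib.FC16.Setoid
import Groth.Agent.Lib.FC16.Transfer
import Groth.Agent.Lib.FC16.Comp

set_option autoImplicit false
open CategoryTheory
universe v u
open FibCat

namespace Groth.Agent.S6406
open CategoryTheory.Functor Groth.Agent.FC16
set_option linter.style.haveILetI false
set_option linter.unusedVariables false
set_option backward.isDefEq.respectTransparency false
set_option backward.isDefEq.respectTransparency.types false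


/-- A category fibred in setoids over `C` admits an equivalence over `C` to a category fibred in sets
over `C`. (The target is taken in the same universes as the slices `C/U`; its morphism sets are
essentially as small as those of `C`.) -/
theorem result {C : Type u} [Category.{v} C] {𝒳 : BasedCategory.{v, max u v} C} (h𝒳 : FibCat.IsFibSetoid 𝒳.p) :
    ∃ (𝒴 : BasedCategory.{v, max u v} C) (F : 𝒳 ⥤ᵇ 𝒴), FibCat.IsFibSet 𝒴.p ∧ FibCat.IsEquivOver F := by
  let r : 𝒳.obj → 𝒳.obj → Prop := fun a b =>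
    ∃ (U : C) (e : a ≅ b), 𝒳.p.IsHomLift (𝟙 U) e.hom
  have hp : ∀ {a b : 𝒳.obj}, r a b → 𝒳.p.obj a = 𝒳.p.obj b := fun ⟨U, e, h⟩ =>
    haveI := h
    (IsHomLift.domain_eq 𝒳.p (𝟙 U) e.hom).trans (IsHomLift.codomain_eq 𝒳.p (𝟙 U) e.hom).symm
  let s : Setoid 𝒳.obj := ⟨r, fun a => ⟨_, Iso.refl a, IsHomLift.id rfl⟩,
    fun {a b} ⟨U, e, h⟩ => haveI := h; ⟨U, e.symm, inferInstanceAs (𝒳.p.IsHomLift (𝟙 U) e.inv)⟩,
    fun {a b c} h1 h2 => by
      obtain ⟨U, e, h⟩ := h1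
      obtain ⟨V, e', h'⟩ := h2
      haveI := h; haveI := h'
      obtain rfl : U = V := (IsHomLift.codomain_eq 𝒳.p (𝟙 U) e.hom).symm.trans
        (IsHomLift.domain_eq 𝒳.p (𝟙 V) e'.hom)
      exact ⟨U, e ≪≫ e', inferInstanceAs (𝒳.p.IsHomLift (𝟙 U) (e.hom ≫ e'.hom))⟩⟩
  let P : ObjectProperty 𝒳.obj := fun a => (Quotient.mk s a).out = a
  let 𝒴 : BasedCategory.{v, max u v} C := BasedCategory.ofFunctor (P.ι ⋙ 𝒳.p)
  let ι : 𝒴 ⥤ᵇ 𝒳 := ⟨P.ι, rfl⟩
  haveI : ι.toFunctor.Full := inferInstanceAs P.ι.Full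
  haveI : ι.toFunctor.Faithful := inferInstanceAs P.ι.Faithful
  have hι : FibCat.IsEquivOver ι := isEquivOver_of ι fun a => by
    obtain ⟨U, e, he⟩ := Quotient.mk_out (s := s) a
    haveI := he
    obtain rfl : 𝒳.p.obj a = U := IsHomLift.codomain_eq 𝒳.p (𝟙 U) e.hom
    exact ⟨⟨(Quotient.mk s a).out, by simp [P]⟩, e, he⟩
  obtain ⟨F, hF, -, -⟩ := exists_inverse hι
  refine ⟨𝒴, F, ⟨(isFibGrpd_iff_of_isEquivOver hι).2 h𝒳.1, fun U => ?_⟩, hF⟩
  refine { subsingleton := fun a b => ⟨fun φ ψ => ?_⟩, eq_of_hom := fun {a b} φ => ?_ }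
  · haveI := φ.2; haveI := ψ.2
    haveI : 𝒳.p.IsHomLift (𝟙 U) (ι.map φ.1) := BasedFunctor.preserves_isHomLift ι (𝟙 U) φ.1
    haveI : 𝒳.p.IsHomLift (𝟙 U) (ι.map ψ.1) := BasedFunctor.preserves_isHomLift ι (𝟙 U) ψ.1
    exact Subtype.ext (ι.toFunctor.map_injective (hom_ext_of_thin h𝒳.2 (U := U) _ _))
  · haveI := φ.2
    haveI : 𝒳.p.IsHomLift (𝟙 U) (ι.map φ.1) := BasedFunctor.preserves_isHomLift ι (𝟙 U) φ.1
    haveI := isIso_of_vertical (U := U) h𝒳.1 (ι.map φ.1)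
    refine Subtype.ext (ObjectProperty.FullSubcategory.ext ?_)
    have h := congrArg Quotient.out (Quotient.sound (s := s)
      (⟨U, asIso (ι.map φ.1), inferInstanceAs (𝒳.p.IsHomLift (𝟙 U) (ι.map φ.1))⟩ : r a.1.obj b.1.obj))
    exact a.1.property.symm.trans (h.trans b.1.property)

end Groth.Agent.S6406
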