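import Groth.Statements.S6407
import Groth.Agent.Lib.FC16.Setoid
import Groth.Agent.Lib.FC16.Fiber

set_option autoImplicit false
open CategoryTheory
universe v u
open FibCat

namespace Groth.Agent.S6407
open CategoryTheory.Functor Groth.Agent.FC16
set_option linter.style.haveILetI false
set_option linter.unusedVariables false
set_option backward.isDefEq.respectTransparency false
set_option backward.isDefEq.respectTransparency.types false


/-- For categories `𝒳, 𝒴` fibred in setoids over `C` and functors `f, g : 𝒳 ⟶ 𝒴` over `C` that agree on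
isomorphism classes of objects of each fibre category, there is a unique 2-isomorphism `f ≅ g` over
`C`. -/
theorem result {C : Type u} [Category.{v} C] {𝒳 𝒴 : BasedCategory.{v, max u v} C} (h𝒳 : FibCat.IsFibSetoid 𝒳.p) (h𝒴 : FibCat.IsFibSetoid 𝒴.p) (f g : 𝒳 ⥤ᵇ 𝒴)
    (hfg : ∀ (U : C) (x : 𝒳.p.Fiber U), Nonempty ((FibCat.fiberFunctor f U).obj x ≅ (FibCat.fiberFunctor g U).obj x)) :
    Nonempty (Unique (f ≅ g)) := by
  let e : ∀ x : 𝒳.obj, f.obj x ≅ g.obj x := fun x =>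
    Functor.Fiber.fiberInclusion.mapIso (hfg (𝒳.p.obj x) ⟨x, rfl⟩).some
  have he : ∀ x : 𝒳.obj, 𝒴.p.IsHomLift (𝟙 (𝒳.p.obj x)) (e x).hom := fun x =>
    (hfg (𝒳.p.obj x) ⟨x, rfl⟩).some.hom.2
  let i : f ≅ g := BasedNatIso.mkNatIso (NatIso.ofComponents e (fun {x y} φ => by
      haveI := he x; haveI := he y
      exact hom_ext_of_isFibSetoid h𝒴 (𝒳.p.map φ) _ _)) he
  refine ⟨⟨⟨i⟩, fun j => Iso.ext (BasedNatTrans.ext _ _ (NatTrans.ext (funext fun x => ?_)))⟩⟩
  haveI : 𝒴.p.IsHomLift (𝟙 (𝒳.p.obj x)) (j.hom.toNatTrans.app x) := BasedNatTrans.isHomLift j.hom rfl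
  haveI : 𝒴.p.IsHomLift (𝟙 (𝒳.p.obj x)) (i.hom.toNatTrans.app x) := BasedNatTrans.isHomLift i.hom rfl
  exact hom_ext_of_thin h𝒴.2 (U := 𝒳.p.obj x) _ _

end Groth.Agent.S6407
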