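import Groth.Statements.S6408
import Groth.Agent.Lib.FC16.Setoid
import Groth.Agent.Lib.FC16.Repr

set_option autoImplicit false
open CategoryTheory
universe v u
open FibCat

namespace Groth.Agent.S6408
open CategoryTheory.Functor Groth.Agent.FC16
set_option linter.style.haveILetI false
set_option linter.unusedVariables false
set_option backward.isDefEq.respectTransparency false
set_option backward.isDefEq.respectTransparency.types false


/-- Between categories fibred in sets over `C` the only 2-morphisms over `C` are identities. -/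
theorem result {C : Type u} [Category.{v} C] {𝒳 𝒴 : BasedCategory.{v, max u v} C} (h𝒳 : FibCat.IsFibSet 𝒳.p) (h𝒴 : FibCat.IsFibSet 𝒴.p) {F G : 𝒳 ⥤ᵇ 𝒴} (α : F ⟶ G) :
    ∃ h : F = G, α = eqToHom h := by
  have key : ∀ a, ∃ h : F.obj a = G.obj a, α.toNatTrans.app a = eqToHom h := fun a => by
    let x : 𝒴.p.Fiber (𝒳.p.obj a) := Functor.Fiber.mk (F.w_obj a)
    let y : 𝒴.p.Fiber (𝒳.p.obj a) := Functor.Fiber.mk (G.w_obj a)
    haveI := h𝒴.2 (𝒳.p.obj a)
    let m : x ⟶ y := ⟨α.toNatTrans.app a, BasedNatTrans.isHomLift α rfl⟩
    have e : x = y := IsDiscrete.eq_of_hom m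
    refine ⟨congrArg Subtype.val e, ?_⟩
    have : m = eqToHom e := Subsingleton.elim _ _
    exact (congrArg Functor.Fiber.fiberInclusion.map this).trans (eqToHom_map _ e)
  have hFG : F = G := by
    cases F; cases G
    congr
    refine Functor.ext (fun a => (key a).choose) (fun a b f => ?_)
    have n := α.toNatTrans.naturality f
    rw [(key a).choose_spec, (key b).choose_spec] at n
    rw [← Category.assoc, ← n, Category.assoc, eqToHom_trans, eqToHom_refl, Category.comp_id]
  refine ⟨hFG, ?_⟩
  subst hFG
  apply BasedNatTrans.ext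
  apply NatTrans.ext
  funext a
  obtain ⟨h, e⟩ := key a
  rw [e]; simp

end Groth.Agent.S6408
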