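import Groth.Statements.S6409
import Groth.Agent.Lib.FC16.Yoneda

set_option autoImplicit false
open CategoryTheory
universe v u
open FibCat

namespace Groth.Agent.S6409
open CategoryTheory.Functor Groth.Agent.FC16
set_option linter.style.haveILetI false
set_option backward.isDefEq.respectTransparency false
set_option backward.isDefEq.respectTransparency.types false


/-- For `𝒳` fibred in groupoids over `C`, evaluation at `𝟙_U` is an equivalence of categories from the
category of functors `C/U ⟶ 𝒳` over `C` to the fibre category `𝒳_U`. -/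
theorem result {C : Type u} [Category.{v} C] {𝒳 : BasedCategory.{v, max u v} C} (h𝒳 : FibCat.IsFibGrpd 𝒳.p) (U : C) :
    (FibCat.evalAtId 𝒳 U).IsEquivalence := by
  haveI := Groth.Agent.FC16.isFibered h𝒳
  have hp : ∀ G : FibCat.overCat U ⥤ᵇ 𝒳, PresCart G := fun G => presCart_of_isFibGrpd h𝒳 G
  have : (FibCat.evalAtId 𝒳 U).Faithful :=
    ⟨fun {G H α β} e => natTrans_ext (hp H) α β (congrArg Subtype.val e)⟩
  have : (FibCat.evalAtId 𝒳 U).Full := ⟨fun {G H} χ => by
    obtain ⟨α, hα⟩ := exists_natTrans (hp H) χ.1 χ.2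
    exact ⟨α, Subtype.ext hα⟩⟩
  have : (FibCat.evalAtId 𝒳 U).EssSurj :=
    ⟨fun x => ⟨ofObj x.2, ⟨fiberIso (ofObjIso x.2) (ofObjIso_lift x.2)⟩⟩⟩
  exact { }

end Groth.Agent.S6409
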