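import Groth.Statements.S6410
import Groth.Agent.Lib.FC16.Yoneda

set_option autoImplicit false
open CategoryTheory
universe v u
open FibCat

namespace Groth.Agent.S6410
open CategoryTheory.Functor Groth.Agent.FC16
set_option linter.style.haveILetI false
set_option backward.isDefEq.respectTransparency false
set_option backward.isDefEq.respectTransparency.types false


/-- For `𝒳` fibred over `C`, evaluation at `𝟙_U` restricted to the functors `C/U ⟶ 𝒳` over `C` that
preserve strongly cartesian morphisms is an equivalence of categories onto the fibre category `𝒳_U`. -/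
theorem result {C : Type u} [Category.{v} C] {𝒳 : BasedCategory.{v, max u v} C} [𝒳.p.IsFibered] (U : C) :
    ((ObjectProperty.ι (FibCat.PreservesStronglyCartesian (𝒳 := FibCat.overCat U) (𝒴 := 𝒳))) ⋙ FibCat.evalAtId 𝒳 U).IsEquivalence := by
  let P : ObjectProperty (FibCat.overCat U ⥤ᵇ 𝒳) := FibCat.PreservesStronglyCartesian
  show (P.ι ⋙ FibCat.evalAtId 𝒳 U).IsEquivalence
  have hp : ∀ G : P.FullSubcategory, PresCart G.obj := fun G => G.property
  have : (P.ι ⋙ FibCat.evalAtId 𝒳 U).Faithful :=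
    ⟨fun {G H α β} e => ObjectProperty.hom_ext _ (natTrans_ext (hp H) _ _ (congrArg Subtype.val e))⟩
  have : (P.ι ⋙ FibCat.evalAtId 𝒳 U).Full := ⟨fun {G H} χ => by
    obtain ⟨α, hα⟩ := exists_natTrans (hp H) χ.1 χ.2
    exact ⟨ObjectProperty.homMk α, Subtype.ext hα⟩⟩
  have : (P.ι ⋙ FibCat.evalAtId 𝒳 U).EssSurj :=
    ⟨fun x => ⟨⟨ofObj x.2, ofObj_presCart x.2⟩, ⟨fiberIso (ofObjIso x.2) (ofObjIso_lift x.2)⟩⟩⟩
  exact { }

end Groth.Agent.S6410
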