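import Groth.Statements.S6412
import Groth.Agent.Lib.FC16.Slices
import Groth.Agent.Lib.FC16.Self

set_option autoImplicit false
open CategoryTheory CategoryTheory.Limits
universe v u
open FibCat

namespace Groth.Agent.S6412
open CategoryTheory.Functor Groth.Agent.FC16
set_option linter.style.haveILetI false
set_option backward.isDefEq.respectTransparency false
set_option backward.isDefEq.respectTransparency.types false


/-- For `C` with binary products and fibre products and `𝒮` fibred in groupoids over `C`, the diagonal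
`𝒮 ⟶ 𝒮 ×_C 𝒮` is representable if and only if every functor `C/U ⟶ 𝒮` over `C` is representable.
(Representability of each base change to a slice `C/V` is taken as a category over `C`; for
categories fibred in groupoids this agrees with representability over `C/V`.) -/
theorem result {C : Type u} [Category.{v} C] [HasBinaryProducts C] [HasPullbacks C] {𝒮 : BasedCategory.{v, max u v} C} (h𝒮 : FibCat.IsFibGrpd 𝒮.p) :
    FibCat.IsRepresentable1 (FibCat.diag (FibCat.toSelf 𝒮)) ↔ ∀ (U : C) (G : FibCat.overCat U ⥤ᵇ 𝒮), FibCat.IsRepresentable1 G := by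
  constructor
  · intro h U G V H
    rw [← isRepresentable_congr (diagFun_isEquivOver (g := FibCat.toSelf 𝒮) (G := H) (F := G)
      (a := FibCat.toSelf (FibCat.overCat V)) (b := FibCat.toSelf (FibCat.overCat U))
      (eqToIso (selfOver_functor_eq _ _)) (eqToIso (selfOver_functor_eq _ _)))]
    obtain ⟨W, E, hE⟩ := isRepresentable_prod (C := C) V U
    obtain ⟨E', hE', -, -⟩ := exists_inverse hE
    rw [← isRepresentable_fp_comp_left (a := E') hE']
    exact h W _
  · intro h U K
    let x := BasedFunctor.comp K (FibCat.fpFst (FibCat.toSelf 𝒮) (FibCat.toSelf 𝒮))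
    let y := BasedFunctor.comp K (FibCat.fpSnd (FibCat.toSelf 𝒮) (FibCat.toSelf 𝒮))
    let ex : BasedFunctor.comp x (FibCat.toSelf 𝒮) ≅ FibCat.toSelf (FibCat.overCat U) :=
      eqToIso (selfOver_functor_eq _ _)
    let ey : BasedFunctor.comp y (FibCat.toSelf 𝒮) ≅ FibCat.toSelf (FibCat.overCat U) :=
      eqToIso (selfOver_functor_eq _ _)
    let D : FibCat.overCat U ⥤ᵇ
        FibCat.fp (FibCat.toSelf (FibCat.overCat U)) (FibCat.toSelf (FibCat.overCat U)) :=
      FibCat.diag (FibCat.toSelf (FibCat.overCat U))
    let i : BasedFunctor.comp D (pair ex ey) ≅ K := BasedNatIso.mkNatIso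
      (NatIso.ofComponents (fun a => fpIsoMk (Iso.refl _) (Iso.refl _) (by
          haveI := iso_lift (K.obj a) (U := a.left) (K.w_obj a)
          haveI := iso_lift ((pair ex ey).obj (D.obj a)) (U := a.left) (x.w_obj a)
          haveI : (𝒮.p).IsHomLift (𝟙 a.left) (Iso.refl (K.obj a).obj.fst).hom := IsHomLift.id (x.w_obj a)
          haveI : (𝒮.p).IsHomLift (𝟙 a.left) (Iso.refl (K.obj a).obj.snd).hom := IsHomLift.id (y.w_obj a)
          exact @selfIso_w _ _ _ _ ((pair ex ey).obj (D.obj a)) (K.obj a) a.left (x.w_obj a) (x.w_obj a)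
            (𝟙 _) (𝟙 _) (IsHomLift.id (x.w_obj a)) (IsHomLift.id (y.w_obj a))))
        (fun g => fp_hom_ext ((Category.comp_id _).trans (Category.id_comp _).symm)
          ((Category.comp_id _).trans (Category.id_comp _).symm)))
      (fun a => @isHomLift_of_fst _ _ _ _ _ _ _ _ _ _ _ _ _ (IsHomLift.id (x.w_obj a)))
    rw [← isRepresentable_fp_iso i (Iso.refl _),
      ← isRepresentable_congr (pasteL_isEquivOver D (pair ex ey) (FibCat.diag (FibCat.toSelf 𝒮)))]
    refine isRepresentable_fp_of_isRepresentable (isRepresentable_overCat U) ?_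
      (isRepresentable_prod U U) _ _
    rw [isRepresentable_congr (diagFun_isEquivOver ex ey)]
    exact h U y U x

end Groth.Agent.S6412
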