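import Groth.Statements.S6413
import Groth.Agent.Lib.FC16.Fp
import Groth.Agent.Lib.FC16.Comp

set_option autoImplicit false
open CategoryTheory
universe v u
open FibCat

namespace Groth.Agent.S6413
open CategoryTheory.Functor Groth.Agent.FC16
set_option linter.style.haveILetI false
set_option linter.unusedVariables false
set_option backward.isDefEq.respectTransparency false
set_option backward.isDefEq.respectTransparency.types false


/-- For `𝒳, 𝒴` fibred in groupoids over `C` and `F : 𝒳 ⟶ 𝒴` over `C`, the projection `𝒳 ×_{F, 𝒴, id} 𝒴 ⟶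
𝒴` is a category fibred in groupoids over `𝒴`. -/
theorem result {C : Type u} [Category.{v} C] {𝒳 𝒴 : BasedCategory.{v, max u v} C} (h𝒳 : FibCat.IsFibGrpd 𝒳.p) (h𝒴 : FibCat.IsFibGrpd 𝒴.p) (F : 𝒳 ⥤ᵇ 𝒴) :
    FibCat.IsFibGrpd (FibCat.fpSnd F (BasedFunctor.id 𝒴)).toFunctor := by
  have hc : FibCat.IsFibGrpd ((FibCat.fpSnd F (BasedFunctor.id 𝒴)).toFunctor ⋙ 𝒴.p) := by
    rw [(FibCat.fpSnd F (BasedFunctor.id 𝒴)).w]
    exact fp_isFibGrpd h𝒳 h𝒴 h𝒴 F _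
  refine ⟨fun {P y'} η => ?_, fun φ => ?_⟩
  · have hPx : 𝒳.p.obj P.obj.fst = 𝒴.p.obj P.obj.snd := (snd_p P).symm
    obtain ⟨x', a, ha⟩ := Groth.Agent.FC16.exists_lift h𝒳 hPx (𝒴.p.map η)
    haveI := ha
    haveI := iso_lift P hPx
    haveI hη : 𝒴.p.IsHomLift (𝟙 _ ≫ 𝒴.p.map η) η := by rw [Category.id_comp]; infer_instance
    haveI := isStronglyCartesian h𝒴 (𝒴.p.map η) η
    haveI hk : 𝒴.p.IsHomLift (𝒴.p.map η) (F.map a ≫ P.obj.iso.hom) :=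
      @IsHomLift.comp_lift_id_right _ _ _ _ 𝒴.p _ _ _ _ _ (𝒴.p.map η) (F.map a)
        (BasedFunctor.preserves_isHomLift F _ a) P.obj.iso.hom (iso_lift P hPx)
    haveI := @Groth.Agent.FC16.isStronglyCartesian _ _ _ _ 𝒴.p h𝒴 _ _ (𝒴.p.map η) _ _
      (F.map a ≫ P.obj.iso.hom) hk
    let i : F.obj x' ≅ y' :=
      IsCartesian.domainUniqueUpToIso 𝒴.p (𝒴.p.map η) η (F.map a ≫ P.obj.iso.hom)
    have hi : 𝒴.p.IsHomLift (𝟙 (𝒴.p.obj y')) i.hom :=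
      IsCartesian.map_isHomLift 𝒴.p (𝒴.p.map η) η (F.map a ≫ P.obj.iso.hom)
    have fi : i.hom ≫ η = F.map a ≫ P.obj.iso.hom :=
      IsCartesian.fac 𝒴.p (𝒴.p.map η) η (F.map a ≫ P.obj.iso.hom)
    let Q : (FibCat.fp F (BasedFunctor.id 𝒴)).obj :=
      fpObj x' y' i (IsHomLift.domain_eq 𝒳.p (𝒴.p.map η) a) hi
    let m : Q ⟶ P := fpHom a η fi.symm
    exact ⟨Q, m, CategoryTheory.IsHomLift.map (FibCat.fpSnd F (BasedFunctor.id 𝒴)).toFunctor m⟩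
  · have := hc.isStronglyCartesian φ
    have := h𝒴.isStronglyCartesian ((FibCat.fpSnd F (BasedFunctor.id 𝒴)).map φ)
    exact isStronglyCartesian_of_comp (G := 𝒴.p) φ

end Groth.Agent.S6413
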