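import Groth.Statements.S6417
import Groth.Agent.Lib.FC16.Basic

set_option autoImplicit false
open CategoryTheory CategoryTheory.Limits
universe v₁ u₁ v₂ u₂
open FibCat

namespace Groth.Agent.S6417
open CategoryTheory.Functor Groth.Agent.FC16
set_option linter.style.haveILetI false
set_option linter.unusedVariables false
set_option backward.isDefEq.respectTransparency false
set_option backward.isDefEq.respectTransparency.types false


/-- For `p : 𝒮 ⥤ C`, a strongly cartesian `φ : x ⟶ y`, any `ψ : z ⟶ y`, and a strongly cartesian `a : w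
⟶ z` lying over the second projection of `p x ×_{p y} p z`, the object `w` is a fibre product `x ×_y
z`: there is `b : w ⟶ x` over the first projection with `(b, a)` a pullback square. -/
theorem result {𝒮 : Type u₁} [Category.{v₁} 𝒮] {C : Type u₂} [Category.{v₂} C] (p : 𝒮 ⥤ C) {x y z w : 𝒮} (φ : x ⟶ y) (ψ : z ⟶ y)
    [p.IsStronglyCartesian (p.map φ) φ] [HasPullback (p.map φ) (p.map ψ)] (a : w ⟶ z)
    [p.IsStronglyCartesian (pullback.snd (p.map φ) (p.map ψ)) a] :
    ∃ b : w ⟶ x, p.IsHomLift (pullback.fst (p.map φ) (p.map ψ)) b ∧ IsPullback b a φ ψ := by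
  haveI : p.IsHomLift (pullback.fst (p.map φ) (p.map ψ) ≫ p.map φ) (a ≫ ψ) := by
    rw [pullback.condition]; infer_instance
  let f1 := pullback.fst (p.map φ) (p.map ψ)
  let f2 := pullback.snd (p.map φ) (p.map ψ)
  let b : w ⟶ x := IsStronglyCartesian.map p (p.map φ) φ (g := f1) (f' := f1 ≫ p.map φ) rfl (a ≫ ψ)
  have hb : p.IsHomLift f1 b := inferInstance
  have fb : b ≫ φ = a ≫ ψ :=
    IsStronglyCartesian.fac p (p.map φ) φ (rfl : f1 ≫ p.map φ = f1 ≫ p.map φ) (a ≫ ψ)
  refine ⟨b, hb, ⟨fb⟩, ⟨PullbackCone.IsLimit.mk fb (fun s => ?_) ?_ ?_ ?_⟩⟩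
  case _ =>
    let g : p.obj s.pt ⟶ pullback (p.map φ) (p.map ψ) :=
      pullback.lift (p.map s.fst) (p.map s.snd) (by rw [← p.map_comp, ← p.map_comp, s.condition])
    exact IsStronglyCartesian.map p f2 a (g := g) (f' := p.map s.snd)
      (pullback.lift_snd _ _ _).symm s.snd
  · intro s
    let g : p.obj s.pt ⟶ pullback (p.map φ) (p.map ψ) :=
      pullback.lift (p.map s.fst) (p.map s.snd) (by rw [← p.map_comp, ← p.map_comp, s.condition])
    let c := IsStronglyCartesian.map p f2 a (g := g) (f' := p.map s.snd)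
      (pullback.lift_snd _ _ _).symm s.snd
    have e : g ≫ f1 = p.map s.fst := pullback.lift_fst _ _ _
    show c ≫ b = s.fst
    haveI hc : p.IsHomLift (p.map s.fst) (c ≫ b) := by rw [← e]; infer_instance
    apply IsStronglyCartesian.ext p (p.map φ) φ (p.map s.fst)
    rw [Category.assoc, fb, IsStronglyCartesian.fac_assoc]
    exact s.condition.symm
  · intro s
    exact IsStronglyCartesian.fac ..
  · intro s m hm1 hm2
    haveI hm : p.IsHomLift (pullback.lift (p.map s.fst) (p.map s.snd)
        (by rw [← p.map_comp, ← p.map_comp, s.condition])) m := by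
      have hw : p.obj w = pullback (p.map φ) (p.map ψ) := IsHomLift.domain_eq p f2 a
      refine IsHomLift.of_fac' p _ m rfl hw ?_
      rw [eqToHom_refl, Category.id_comp, ← cancel_mono (eqToHom hw), Category.assoc, eqToHom_trans,
        eqToHom_refl, Category.comp_id]
      apply pullback.hom_ext
      · rw [Category.assoc, pullback.lift_fst, ← hm1, p.map_comp, IsHomLift.fac' p f1 b]
        simp [f1]
      · rw [Category.assoc, pullback.lift_snd, ← hm2, p.map_comp, IsHomLift.fac' p f2 a]
        simp [f2]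
    exact IsStronglyCartesian.map_uniq p f2 a _ s.snd m hm2

end Groth.Agent.S6417
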