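import Groth.Statements.S6423
import Mathlib.CategoryTheory.IsConnected
import Mathlib.Data.Set.Card
import Mathlib.CategoryTheory.Limits.Shapes.Pullback.HasPullback
import Mathlib.CategoryTheory.Limits.Shapes.Equalizers

set_option autoImplicit false
open CategoryTheory CategoryTheory.Limits
universe v u
open CatLim

namespace Groth.Agent.S6423

/-- A compatible family over a set of objects and arrows, universal. -/
def Good {C : Type u} [Category.{v} C] {J : Type} [SmallCategory J] (F : J ⥤ C) (S : Set J)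
    (M : Set (Σ a b : J, a ⟶ b)) : Prop :=
  (∀ m ∈ M, m.1 ∈ S ∧ m.2.1 ∈ S) ∧ ∃ (P : C) (π : ∀ j ∈ S, P ⟶ F.obj j),
    (∀ a b (g : a ⟶ b) (ha : a ∈ S) (hb : b ∈ S), (⟨a, b, g⟩ : Σ a b : J, a ⟶ b) ∈ M →
      π a ha ≫ F.map g = π b hb) ∧
    ∀ (T : C) (t : ∀ j ∈ S, T ⟶ F.obj j),
      (∀ a b (g : a ⟶ b) (ha : a ∈ S) (hb : b ∈ S), (⟨a, b, g⟩ : Σ a b : J, a ⟶ b) ∈ M →
        t a ha ≫ F.map g = t b hb) → ∃! u : T ⟶ P, ∀ j hj, u ≫ π j hj = t j hj

variable {C : Type u} [Category.{v} C] {J : Type} [SmallCategory J] {F : J ⥤ C}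

theorem good_singleton (j₀ : J) : Good F {j₀} ∅ := by
  refine ⟨fun m hm => absurd hm (by simp), F.obj j₀, fun j hj => eqToHom (by
    rw [Set.mem_singleton_iff.1 hj]), fun _ _ _ _ _ h => absurd h (by simp), fun T t _ => ?_⟩
  refine ⟨t j₀ rfl, fun j hj => ?_, fun u hu => by simpa using hu j₀ rfl⟩
  obtain rfl := Set.mem_singleton_iff.1 hj
  simp

theorem good_equalize [HasEqualizers C] {S M} (h : Good F S M) {a b : J} (g : a ⟶ b) (ha : a ∈ S)
    (hb : b ∈ S) : Good F S (insert ⟨a, b, g⟩ M) := by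
  obtain ⟨hM, P, π, hπ, hu⟩ := h
  refine ⟨?_, equalizer (π a ha ≫ F.map g) (π b hb),
    fun j hj => equalizer.ι _ _ ≫ π j hj, ?_, ?_⟩
  · rintro m (rfl | hm)
    exacts [⟨ha, hb⟩, hM m hm]
  · rintro a' b' g' ha' hb' (e | hm)
    · obtain ⟨rfl, he⟩ := Sigma.mk.inj_iff.1 e
      obtain ⟨rfl, he'⟩ := Sigma.mk.inj_iff.1 (eq_of_heq he)
      obtain rfl := eq_of_heq he'
      rw [Category.assoc]
      exact equalizer.condition _ _
    · rw [Category.assoc, hπ a' b' g' ha' hb' hm]
  · intro T t ht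
    obtain ⟨u, hu₁, hu₂⟩ := hu T t fun a' b' g' ha' hb' hm => ht a' b' g' ha' hb' (Or.inr hm)
    have hw : u ≫ π a ha ≫ F.map g = u ≫ π b hb := by
      rw [reassoc_of% hu₁ a ha, hu₁ b hb]
      exact ht a b g ha hb (Or.inl rfl)
    refine ⟨equalizer.lift u hw, fun j hj => ?_, fun u' hu' => equalizer.hom_ext ?_⟩
    · rw [equalizer.lift_ι_assoc, hu₁]
    · rw [equalizer.lift_ι]
      exact hu₂ _ fun j hj => by rw [Category.assoc]; exact hu' j hj

theorem good_push {S M} (h : Good F S M) {a b : J} (g : a ⟶ b) (ha : a ∈ S) (hb : b ∉ S) :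
    Good F (insert b S) (insert ⟨a, b, g⟩ M) := by
  classical
  obtain ⟨hM, P, π, hπ, hu⟩ := h
  refine ⟨?_, P, fun j hj => if h : j ∈ S then π j h else
    π a ha ≫ F.map g ≫ eqToHom (by rw [hj.resolve_right h]), ?_, ?_⟩
  · rintro m (rfl | hm)
    exacts [⟨Or.inr ha, Or.inl rfl⟩, ⟨Or.inr (hM m hm).1, Or.inr (hM m hm).2⟩]
  · rintro a' b' g' ha' hb' (e | hm)
    · obtain ⟨rfl, he⟩ := Sigma.mk.inj_iff.1 e
      obtain ⟨rfl, he'⟩ := Sigma.mk.inj_iff.1 (eq_of_heq he)
      obtain rfl := eq_of_heq he'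
      simp only [dif_pos ha, dif_neg hb, eqToHom_refl, Category.comp_id]
    · simp only [dif_pos (hM _ hm).1, dif_pos (hM _ hm).2]
      exact hπ _ _ _ _ _ hm
  · intro T t ht
    obtain ⟨u, hu₁, hu₂⟩ := hu T (fun j hj => t j (Or.inr hj))
      fun a' b' g' ha' hb' hm => ht a' b' g' _ _ (Or.inr hm)
    refine ⟨u, fun j hj => ?_, fun u' hu' => hu₂ u' fun j hj => by
      simpa [dif_pos hj] using hu' j (Or.inr hj)⟩
    by_cases h : j ∈ S
    · simp only [dif_pos h]
      exact hu₁ j h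
    · obtain rfl : j = b := hj.resolve_right h
      simp only [dif_neg h, eqToHom_refl, Category.comp_id]
      rw [reassoc_of% hu₁ a ha]
      exact ht a j g _ _ (Or.inl rfl)

theorem good_pull [HasPullbacks C] {S M} (h : Good F S M) {a b : J} (g : a ⟶ b) (ha : a ∉ S)
    (hb : b ∈ S) : Good F (insert a S) (insert ⟨a, b, g⟩ M) := by
  classical
  obtain ⟨hM, P, π, hπ, hu⟩ := h
  refine ⟨?_, pullback (π b hb) (F.map g), fun j hj => if h : j ∈ S then pullback.fst _ _ ≫ π j h else
    pullback.snd _ _ ≫ eqToHom (by rw [hj.resolve_right h]), ?_, ?_⟩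
  · rintro m (rfl | hm)
    exacts [⟨Or.inl rfl, Or.inr hb⟩, ⟨Or.inr (hM m hm).1, Or.inr (hM m hm).2⟩]
  · rintro a' b' g' ha' hb' (e | hm)
    · obtain ⟨rfl, he⟩ := Sigma.mk.inj_iff.1 e
      obtain ⟨rfl, he'⟩ := Sigma.mk.inj_iff.1 (eq_of_heq he)
      obtain rfl := eq_of_heq he'
      simp only [dif_neg ha, dif_pos hb, eqToHom_refl, Category.comp_id]
      exact pullback.condition.symm
    · simp only [dif_pos (hM _ hm).1, dif_pos (hM _ hm).2, Category.assoc]
      exact congrArg (_ ≫ ·) (hπ _ _ _ _ _ hm)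
  · intro T t ht
    obtain ⟨u, hu₁, hu₂⟩ := hu T (fun j hj => t j (Or.inr hj))
      fun a' b' g' ha' hb' hm => ht a' b' g' _ _ (Or.inr hm)
    have hw : u ≫ π b hb = t a (Or.inl rfl) ≫ F.map g := by
      rw [hu₁ b hb]
      exact (ht a b g _ _ (Or.inl rfl)).symm
    refine ⟨pullback.lift u _ hw, fun j hj => ?_, fun u' hu' => pullback.hom_ext ?_ ?_⟩
    · by_cases h : j ∈ S
      · simp only [dif_pos h, pullback.lift_fst_assoc]
        exact hu₁ j h
      · obtain rfl : j = a := hj.resolve_right h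
        simp only [dif_neg h, eqToHom_refl, Category.comp_id, pullback.lift_snd]
    · rw [pullback.lift_fst]
      refine hu₂ _ fun j hj => ?_
      rw [Category.assoc]
      simpa [dif_pos hj] using hu' j (Or.inr hj)
    · rw [pullback.lift_snd]
      simpa [dif_neg ha] using hu' a (Or.inl rfl)



/-- (2) ⇒ (1): a category with equalizers and fibre products has all finite connected limits. -/
theorem result {C : Type u} [Category.{v} C] [HasEqualizers C] [HasPullbacks C]
    (J : Type) [SmallCategory J] [FinCategory J] [IsConnected J] : HasLimitsOfShape J C := by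
  classical
  refine ⟨fun F => ?_⟩
  have : Nonempty J := IsConnected.is_nonempty
  haveI : Fintype J := inferInstance
  obtain ⟨j₀⟩ := (IsConnected.is_nonempty : Nonempty J)
  have key : ∀ n, ∀ (S : Set J) M, Good F S M → S.Nonempty → Sᶜ.ncard = n → ∃ M', Good F Set.univ M' := by
    intro n
    induction n with
    | zero =>
      intro S M h hne hn
      rw [Set.ncard_eq_zero, Set.compl_empty_iff] at hn
      subst hn
      exact ⟨M, h⟩
    | succ n ih =>
      intro S M h hne hn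
      by_cases hcl : ∀ ⦃a b : J⦄, (a ⟶ b) → (a ∈ S ↔ b ∈ S)
      · obtain ⟨s, hs⟩ := hne
        have : S = Set.univ := Set.eq_univ_of_forall
          (induct_on_objects S hs fun {a b} g => hcl g)
        simp [this] at hn
      · push Not at hcl
        obtain ⟨a, b, g, hg⟩ := hcl
        have hdec : ∀ x, x ∉ S → (insert x S)ᶜ.ncard = n := fun x hx => by
          rw [show (insert x S)ᶜ = Sᶜ \ {x} by ext; simp [and_comm], Set.ncard_diff_singleton_of_mem hx, hn]
          rfl
        rcases hg with ⟨ha, hb⟩ | ⟨ha, hb⟩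
        · exact ih _ _ (good_push h g ha hb) (Set.insert_nonempty _ _) (hdec b hb)
        · exact ih _ _ (good_pull h g ha hb) (Set.insert_nonempty _ _) (hdec a ha)
  obtain ⟨M', hM'⟩ := key _ {j₀} ∅ (good_singleton j₀) (Set.singleton_nonempty _) rfl
  have key' : ∀ N : Finset (Σ a b : J, a ⟶ b), Good F Set.univ (M' ∪ ↑N) := by
    intro N
    induction N using Finset.induction_on with
    | empty => simpa using hM'
    | insert m N _ ih =>
      obtain ⟨a, b, g⟩ := m
      rw [Finset.coe_insert, Set.union_insert]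
      exact good_equalize ih g trivial trivial
  obtain ⟨-, P, π, hπ, hu⟩ := key' Finset.univ
  refine ⟨⟨⟨⟨P, ⟨fun j => π j trivial, fun a b g => ?_⟩⟩, ?_⟩⟩⟩
  · simpa using (hπ a b g trivial trivial (Or.inr (Finset.mem_coe.2 (Finset.mem_univ _)))).symm
  · exact IsLimit.ofExistsUnique fun s => by
      obtain ⟨u, h1, h2⟩ := hu s.pt (fun j _ => s.π.app j) fun a b g _ _ _ => s.w g
      exact ⟨u, fun j => h1 j trivial, fun u' h' => h2 u' fun j _ => h' j⟩


end Groth.Agent.S6423
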