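import Groth.Statements.S6424
import Mathlib.CategoryTheory.Limits.Constructions.FiniteProductsOfBinaryProducts
import Mathlib.CategoryTheory.Limits.Constructions.LimitsOfProductsAndEqualizers

set_option autoImplicit false
open CategoryTheory CategoryTheory.Limits
universe v u
open CatLim

namespace Groth.Agent.S6424
open CategoryTheory CategoryTheory.Limits



/-- (2) ⇒ (1): a category with products of pairs and equalizers has all finite nonempty limits. -/
theorem result {C : Type u} [Category.{v} C] [HasBinaryProducts C] [HasEqualizers C]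
    (J : Type) [SmallCategory J] [FinCategory J] [Nonempty J] : HasLimitsOfShape J C := by
  have h : ∀ (n : ℕ) (f : Fin (n + 1) → C), HasProduct f := by
    intro n
    induction n with
    | zero => intro f; exact HasLimit.mk (@limitConeOfUnique _ _ _ (inferInstanceAs (Unique (Fin 1))) f)
    | succ n ih =>
      intro f
      haveI : HasProduct fun i : Fin (n + 1) => f i.succ := ih _
      exact HasLimit.mk ⟨_, extendFanIsLimit f (limit.isLimit _) (limit.isLimit _)⟩
  have hp : ∀ (α : Type) [Fintype α] [Nonempty α] (f : α → C), HasProduct f := by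
    intro α _ _ f
    obtain ⟨m, hm⟩ : ∃ m, Fintype.card α = m + 1 := ⟨_, (Nat.succ_pred_eq_of_pos Fintype.card_pos).symm⟩
    let e : α ≃ Fin (m + 1) := (Fintype.equivFin α).trans (finCongr hm)
    haveI : HasLimitsOfShape (Discrete (Fin (m + 1))) C :=
      ⟨fun K => haveI := h m (fun i => K.obj ⟨i⟩); hasLimit_of_iso Discrete.natIsoFunctor.symm⟩
    haveI : HasLimitsOfShape (Discrete α) C := hasLimitsOfShape_of_equivalence (Discrete.equivalence e).symm
    infer_instance
  constructor
  intro F
  haveI : Nonempty (Σ p : J × J, p.1 ⟶ p.2) := ⟨⟨(Classical.arbitrary J, Classical.arbitrary J), 𝟙 _⟩⟩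
  haveI : Fintype J := FinCategory.fintypeObj
  haveI : ∀ p : J × J, Fintype (p.1 ⟶ p.2) := fun p => FinCategory.fintypeHom p.1 p.2
  haveI : HasLimit (Discrete.functor F.obj) := hp J F.obj
  haveI : HasLimit (Discrete.functor fun f : Σ p : J × J, p.1 ⟶ p.2 => F.obj f.1.2) := hp _ _
  exact hasLimit_of_equalizer_and_product F


end Groth.Agent.S6424
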