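import Groth.Statements.S6425
import Mathlib.CategoryTheory.Limits.Types.Products
import Mathlib.CategoryTheory.Limits.Types.Colimits
import Mathlib.CategoryTheory.Limits.FunctorCategory.Basic
import Mathlib.CategoryTheory.Limits.Preserves.Shapes.BinaryProducts

set_option autoImplicit false
open CategoryTheory CategoryTheory.Limits
universe v
open CatLim

namespace Groth.Agent.S6425

theorem prod_ext {X Y : Type v} {a b : (X ⨯ Y : Type v)}
    (h1 : (prod.fst : X ⨯ Y ⟶ X) a = (prod.fst : X ⨯ Y ⟶ X) b)
    (h2 : (prod.snd : X ⨯ Y ⟶ Y) a = (prod.snd : X ⨯ Y ⟶ Y) b) : a = b := by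
  apply (Limits.Types.binaryProductIso X Y).toEquiv.injective
  apply Prod.ext
  · have e := fun c => ConcreteCategory.congr_hom (Limits.Types.binaryProductIso_hom_comp_fst X Y) c
    exact (e a).trans (h1.trans (e b).symm)
  · have e := fun c => ConcreteCategory.congr_hom (Limits.Types.binaryProductIso_hom_comp_snd X Y) c
    exact (e a).trans (h2.trans (e b).symm)


/-- Over an index category in which any two objects map to a common object, the comparison map `colim (M
× N) → colim M × colim N` for diagrams of sets is surjective. -/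
theorem result {I : Type v} [SmallCategory I]
    (hI : ∀ x y : I, ∃ (z : I) (_ : x ⟶ z) (_ : y ⟶ z), True) (M N : I ⥤ Type v) :
    Function.Surjective (prodComparison (colim : (I ⥤ Type v) ⥤ Type v) M N) := by
  intro t
  obtain ⟨x, m, hm⟩ := Limits.Types.jointly_surjective' (F := M) ((prod.fst : colim.obj M ⨯ colim.obj N ⟶ _) t)
  obtain ⟨y, n, hn⟩ := Limits.Types.jointly_surjective' (F := N) ((prod.snd : colim.obj M ⨯ colim.obj N ⟶ _) t)
  obtain ⟨z, a, b, -⟩ := hI x y
  let e := prodComparison ((evaluation I (Type v)).obj z) M N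
  let p : (M ⨯ N).obj z := inv e ((Limits.Types.binaryProductIso (M.obj z) (N.obj z)).inv (M.map a m, N.map b n))
  have hp1 : (prod.fst : M ⨯ N ⟶ M).app z p = M.map a m := by
    have h : inv e ≫ (prod.fst : M ⨯ N ⟶ M).app z = prod.fst := by
      rw [IsIso.inv_comp_eq]; exact (prodComparison_fst ((evaluation I (Type v)).obj z) M N).symm
    exact (ConcreteCategory.congr_hom h _).trans
      (ConcreteCategory.congr_hom (Limits.Types.binaryProductIso_inv_comp_fst (M.obj z) (N.obj z)) _)
  have hp2 : (prod.snd : M ⨯ N ⟶ N).app z p = N.map b n := by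
    have h : inv e ≫ (prod.snd : M ⨯ N ⟶ N).app z = prod.snd := by
      rw [IsIso.inv_comp_eq]; exact (prodComparison_snd ((evaluation I (Type v)).obj z) M N).symm
    exact (ConcreteCategory.congr_hom h _).trans
      (ConcreteCategory.congr_hom (Limits.Types.binaryProductIso_inv_comp_snd (M.obj z) (N.obj z)) _)
  refine ⟨colimit.ι (M ⨯ N) z p, prod_ext ?_ ?_⟩
  · refine (ConcreteCategory.congr_hom (prodComparison_fst colim M N) _).trans ?_
    refine (ConcreteCategory.congr_hom (colimit.ι_map (prod.fst : M ⨯ N ⟶ M) z) p).trans ?_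
    rw [← hm, ← colimit.w_apply M a]
    exact congrArg _ hp1
  · refine (ConcreteCategory.congr_hom (prodComparison_snd colim M N) _).trans ?_
    refine (ConcreteCategory.congr_hom (colimit.ι_map (prod.snd : M ⨯ N ⟶ N) z) p).trans ?_
    rw [← hn, ← colimit.w_apply N b]
    exact congrArg _ hp2


end Groth.Agent.S6425
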