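import Groth.Statements.S6426
import Mathlib.Algebra.Category.Grp.Colimits
import Mathlib.GroupTheory.QuotientGroup.Defs

set_option autoImplicit false
open CategoryTheory CategoryTheory.Limits
universe v
open CatLim

namespace Groth.Agent.S6426


/-- Over a nonempty index category in which any two objects map to a common object, the set-theoretic
colimit of a diagram of abelian groups surjects onto its colimit in abelian groups. (The published
statement does not require the index category to be nonempty; this row assumes it, because for the
empty index category the colimit of sets is empty while the colimit of abelian groups is the zero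
group.) -/
theorem result {I : Type v} [SmallCategory I] [Nonempty I]
    (hI : ∀ x y : I, ∃ (z : I) (_ : x ⟶ z) (_ : y ⟶ z), True) (M : I ⥤ AddCommGrpCat.{v}) :
    Function.Surjective (colimit.post M (forget AddCommGrpCat.{v})) := by
  have hι : ∀ (i : I) (m : M.obj i), ∃ a, colimit.post M (forget AddCommGrpCat.{v}) a = colimit.ι M i m :=
    fun i m => ⟨colimit.ι (M ⋙ forget _) i m, ConcreteCategory.congr_hom (colimit.ι_post M (forget AddCommGrpCat.{v}) i) m⟩
  let S : AddSubgroup (colimit M : AddCommGrpCat.{v}) :=
    { carrier := {g | ∃ (i : I) (m : M.obj i), colimit.ι M i m = g}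
      zero_mem' := ⟨Classical.arbitrary I, 0, map_zero _⟩
      add_mem' := by
        rintro _ _ ⟨i, m, rfl⟩ ⟨j, n, rfl⟩
        obtain ⟨k, a, b, -⟩ := hI i j
        refine ⟨k, M.map a m + M.map b n, ?_⟩
        rw [map_add, colimit.w_apply, colimit.w_apply]
      neg_mem' := by
        rintro _ ⟨i, m, rfl⟩
        exact ⟨i, -m, map_neg _ _⟩ }
  have hS : ∀ g, g ∈ S := by
    intro g
    have h : AddCommGrpCat.ofHom (QuotientAddGroup.mk' S) = 0 := colimit.hom_ext fun i => by
      rw [comp_zero]
      ext m
      exact (QuotientAddGroup.eq_zero_iff _).2 ⟨i, m, rfl⟩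
    exact (QuotientAddGroup.eq_zero_iff g).1 (ConcreteCategory.congr_hom h g)
  intro g
  obtain ⟨i, m, hm⟩ := hS g
  obtain ⟨a, ha⟩ := hι i m
  exact ⟨a, ha.trans hm⟩


end Groth.Agent.S6426
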