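import Groth.Statements.S6427

set_option autoImplicit false
open CategoryTheory CategoryTheory.Limits
universe v
open CatLim

namespace Groth.Agent.S6427


/-- Over an index category in which every pair of morphisms with common source can be completed to a
commutative square, colimits of sets preserve injective morphisms of diagrams. -/
theorem result {I : Type v} [SmallCategory I]
    (hI : ∀ ⦃x y z : I⦄ (f : x ⟶ y) (g : x ⟶ z), ∃ (w : I) (f' : y ⟶ w) (g' : z ⟶ w), f ≫ f' = g ≫ g')
    {M N : I ⥤ Type v} (φ : M ⟶ N) (hφ : ∀ i, Function.Injective (φ.app i)) :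
    Function.Injective (colimMap φ) := by
  let R : (Σ j, N.obj j) → (Σ j, N.obj j) → Prop := fun p q =>
    ∃ (k : I) (f : p.1 ⟶ k) (g : q.1 ⟶ k), N.map f p.2 = N.map g q.2
  have hR : ∀ p q, Relation.EqvGen N.ColimitTypeRel p q → R p q := by
    intro p q h
    induction h with
    | rel a b h =>
      obtain ⟨f, hf⟩ := h
      refine ⟨b.1, f, 𝟙 _, ?_⟩
      rw [N.map_id, ConcreteCategory.id_apply, hf]
    | refl a => exact ⟨a.1, 𝟙 _, 𝟙 _, rfl⟩
    | symm a b _ h =>
      obtain ⟨k, f, g, e⟩ := h
      exact ⟨k, g, f, e.symm⟩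
    | trans a b c _ _ h h' =>
      obtain ⟨k, f, g, e⟩ := h
      obtain ⟨k', f', g', e'⟩ := h'
      obtain ⟨w, s, t, hst⟩ := hI g f'
      refine ⟨w, f ≫ s, g' ≫ t, ?_⟩
      rw [N.map_comp, N.map_comp, ConcreteCategory.comp_apply, ConcreteCategory.comp_apply, e, ← e',
        ← ConcreteCategory.comp_apply, ← ConcreteCategory.comp_apply, ← N.map_comp, ← N.map_comp, hst]
  intro x y hxy
  obtain ⟨i, x, rfl⟩ := Types.jointly_surjective' x
  obtain ⟨j, y, rfl⟩ := Types.jointly_surjective' y
  rw [← ConcreteCategory.comp_apply, ← ConcreteCategory.comp_apply, ι_colimMap, ι_colimMap,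
    ConcreteCategory.comp_apply, ConcreteCategory.comp_apply] at hxy
  obtain ⟨k, f, g, e⟩ := hR _ _ (Types.colimit_eq hxy)
  refine Types.colimit_sound' f g (hφ k ?_)
  rw [NatTrans.naturality_apply, NatTrans.naturality_apply]
  exact e


end Groth.Agent.S6427
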