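import Groth.Statements.S6428
import Mathlib.CategoryTheory.Limits.Final
import Mathlib.CategoryTheory.FiberedCategory.Fiber

set_option autoImplicit false
open CategoryTheory CategoryTheory.Limits
universe v₁ u₁ v₂ u₂ v₃ u₃
open CatLim

namespace Groth.Agent.S6428

/-- The fibre over `y'` mapped to the arrows under `x'` through `α : x' ⟶ y'`. -/
def fibToArrow {I : Type u₁} [Category.{v₁} I] {I' : Type u₂} [Category.{v₂} I'] (F : I ⥤ I')
    {x' y' : I'} (α : x' ⟶ y') : F.Fiber y' ⥤ StructuredArrow x' F where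
  obj a := StructuredArrow.mk (Y := a.1) (α ≫ eqToHom a.2.symm)
  map {a b} φ := StructuredArrow.homMk φ.1 (by
    haveI := φ.2
    have h : F.map φ.1 = eqToHom a.2 ≫ eqToHom b.2.symm := by
      rw [IsHomLift.fac' F (𝟙 y') φ.1]; simp
    show (α ≫ eqToHom _) ≫ F.map φ.1 = α ≫ eqToHom _
    rw [h]; simp)
  map_id _ := by apply StructuredArrow.ext; rfl
  map_comp _ _ := by apply StructuredArrow.ext; rfl


/-- If `F : I ⥤ I'` has connected fibre categories and is surjective on morphisms, then for every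
diagram `M : I' ⥤ C` the colimit of `F ⋙ M` exists if and only if that of `M` does, and the
canonical comparison between them is then an isomorphism. -/
theorem result {I : Type u₁} [Category.{v₁} I] {I' : Type u₂} [Category.{v₂} I'] {C : Type u₃} [Category.{v₃} C] (F : I ⥤ I')
    (h1 : ∀ x' : I', IsConnected (F.Fiber x'))
    (h2 : ∀ ⦃x' y' : I'⦄ (α' : x' ⟶ y'), ∃ (x y : I) (hx : F.obj x = x') (hy : F.obj y = y') (α : x ⟶ y), F.map α = eqToHom hx ≫ α' ≫ eqToHom hy.symm)
    (M : I' ⥤ C) :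
    (HasColimit (F ⋙ M) ↔ HasColimit M) ∧ ∀ [HasColimit (F ⋙ M)] [HasColimit M], IsIso (colimit.pre M F) := by
  haveI : F.Final := ⟨fun x' => by
    haveI := h1 x'
    obtain ⟨a₀⟩ := (inferInstance : Nonempty (F.Fiber x'))
    have : Nonempty (StructuredArrow x' F) := ⟨(fibToArrow F (𝟙 x')).obj a₀⟩
    suffices key : ∀ j : StructuredArrow x' F, Zigzag ((fibToArrow F (𝟙 x')).obj a₀) j from
      zigzag_isConnected fun j₁ j₂ => (key j₁).symm.trans (key j₂)
    intro j
    obtain ⟨x, y, hx, hy, β, hβ⟩ := h2 j.hom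
    haveI := h1 (F.obj j.right)
    have z1 : Zigzag ((fibToArrow F (𝟙 x')).obj a₀) ((fibToArrow F (𝟙 x')).obj ⟨x, hx⟩) :=
      zigzag_obj_of_zigzag _ (isPreconnected_zigzag _ _)
    have z2 : Zigzag ((fibToArrow F (𝟙 x')).obj ⟨x, hx⟩) ((fibToArrow F j.hom).obj ⟨y, hy⟩) :=
      Zigzag.of_hom (StructuredArrow.homMk β (by
        show (𝟙 x' ≫ eqToHom _) ≫ F.map β = j.hom ≫ eqToHom _
        rw [hβ]; simp))
    have z3 : Zigzag ((fibToArrow F j.hom).obj ⟨y, hy⟩) ((fibToArrow F j.hom).obj ⟨j.right, rfl⟩) :=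
      zigzag_obj_of_zigzag _ (isPreconnected_zigzag _ _)
    have z4 : Zigzag ((fibToArrow F j.hom).obj ⟨j.right, rfl⟩) j :=
      Zigzag.of_hom (StructuredArrow.homMk (𝟙 _) (by
        show (j.hom ≫ eqToHom _) ≫ F.map (𝟙 _) = j.hom
        simp))
    exact ((z1.trans z2).trans z3).trans z4⟩
  refine ⟨Functor.Final.hasColimit_comp_iff F, ?_⟩
  intro _ _
  infer_instance


end Groth.Agent.S6428
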