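import Groth.Statements.S6429

set_option autoImplicit false
open CategoryTheory CategoryTheory.MonoidalCategory
universe v u
open MonCat

namespace Groth.Agent.S6429

open MonoidalCategory

variable {C : Type u} [Category.{v} C] [MonoidalCategory C]

theorem left_equiv {X X' : C} (e : X ⊗ X' ≅ 𝟙_ C) (e' : X' ⊗ X ≅ 𝟙_ C) : (tensorLeft X).IsEquivalence :=
  (CategoryTheory.Equivalence.mk (tensorLeft X) (tensorLeft X')
    ((leftUnitorNatIso C).symm ≪≫ (Functor.mapIso (curriedTensor C) e'.symm) ≪≫ tensorLeftTensor X' X)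
    ((tensorLeftTensor X X').symm ≪≫ Functor.mapIso (curriedTensor C) e ≪≫ leftUnitorNatIso C)).isEquivalence_functor

theorem right_equiv {X X' : C} (e : X ⊗ X' ≅ 𝟙_ C) (e' : X' ⊗ X ≅ 𝟙_ C) : (tensorRight X).IsEquivalence :=
  (CategoryTheory.Equivalence.mk (tensorRight X) (tensorRight X')
    ((rightUnitorNatIso C).symm ≪≫ (Functor.mapIso (curriedTensor C).flip e.symm) ≪≫ tensorRightTensor X X')
    ((tensorRightTensor X' X).symm ≪≫ Functor.mapIso (curriedTensor C).flip e' ≪≫ rightUnitorNatIso C)).isEquivalence_functor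


/-- An object `X` of a monoidal category is invertible (some `X'` has `X ⊗ X' ≅ 𝟙` and `X' ⊗ X ≅ 𝟙`) if
and only if tensoring on the left by `X` is an equivalence, if and only if tensoring on the right by
`X` is an equivalence. -/
theorem result {C : Type u} [Category.{v} C] [MonoidalCategory C] (X : C) :
    ((tensorLeft X).IsEquivalence ↔ ∃ X' : C, Nonempty (X ⊗ X' ≅ 𝟙_ C) ∧ Nonempty (X' ⊗ X ≅ 𝟙_ C)) ∧
      ((tensorRight X).IsEquivalence ↔ ∃ X' : C, Nonempty (X ⊗ X' ≅ 𝟙_ C) ∧ Nonempty (X' ⊗ X ≅ 𝟙_ C)) := by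
  refine ⟨⟨fun h => ?_, fun ⟨X', ⟨e⟩, ⟨e'⟩⟩ => left_equiv e e'⟩, ⟨fun h => ?_, fun ⟨X', ⟨e⟩, ⟨e'⟩⟩ => right_equiv e e'⟩⟩
  · let e : X ⊗ (tensorLeft X).objPreimage (𝟙_ C) ≅ 𝟙_ C := (tensorLeft X).objObjPreimageIso _
    exact ⟨_, ⟨e⟩, ⟨(tensorLeft X).preimageIso
      ((α_ _ _ _).symm ≪≫ whiskerRightIso e X ≪≫ λ_ X ≪≫ (ρ_ X).symm)⟩⟩
  · let e : (tensorRight X).objPreimage (𝟙_ C) ⊗ X ≅ 𝟙_ C := (tensorRight X).objObjPreimageIso _
    exact ⟨_, ⟨(tensorRight X).preimageIso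
      (α_ _ _ _ ≪≫ whiskerLeftIso X e ≪≫ ρ_ X ≪≫ (λ_ X).symm)⟩, ⟨e⟩⟩


end Groth.Agent.S6429
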