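import Groth.Statements.S6430
import Groth.Agent.Lib.FC16.Comp

set_option autoImplicit false
open CategoryTheory
universe v₂ u₂ v u
open FibCat

namespace Groth.Agent.S6430
open CategoryTheory.Functor Groth.Agent.FC16
set_option linter.style.haveILetI false
set_option linter.unusedVariables false
set_option backward.isDefEq.respectTransparency false
set_option backward.isDefEq.respectTransparency.types false


/-- For a fibred category `p : 𝒮 ⥤ C`, the wide subcategory of `𝒮` on the strongly cartesian morphisms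
is fibred in groupoids over `C`. -/
theorem result {C : Type u} [Category.{v} C] {𝒮 : Type u₂} [Category.{v₂} 𝒮] (p : 𝒮 ⥤ C) [p.IsFibered] :
    FibCat.IsFibGrpd (FibCat.cartSubProj p) := by
  refine ⟨fun {x V} f => ?_, fun {y x} φ => ?_⟩
  · obtain ⟨b, ψ, hψ⟩ := exists_isStronglyCartesian (p := p) (a := x.obj) rfl f
    have hb : p.obj b = V := IsHomLift.domain_eq p f ψ
    subst hb
    obtain rfl : f = p.map ψ := IsHomLift.eq_of_isHomLift p f ψ
    let m : (⟨b⟩ : FibCat.cartSub p) ⟶ x := ⟨ψ, hψ⟩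
    exact ⟨⟨b⟩, m, CategoryTheory.IsHomLift.map (FibCat.cartSubProj p) m⟩
  · refine { universal_property' := fun {z} g ψ hψ => ?_ }
    haveI := hψ
    haveI : p.IsStronglyCartesian (p.map φ.1) φ.1 := φ.2
    haveI : p.IsHomLift (g ≫ p.map φ.1) ψ.1 :=
      isHomLift_comp_map (F := wideSubcategoryInclusion (FibCat.cartMor p)) (G := p)
        (g ≫ (FibCat.cartSubProj p).map φ) ψ
    obtain ⟨χ, ⟨hχ, hχ'⟩, hu⟩ := IsStronglyCartesian.universal_property p (p.map φ.1) φ.1 g
      (g ≫ p.map φ.1) rfl ψ.1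
    haveI := hχ
    have hc : p.IsStronglyCartesian (p.map χ) χ := by
      haveI : p.IsStronglyCartesian (p.map χ ≫ p.map φ.1) (χ ≫ φ.1) := by
        rw [← p.map_comp, hχ']; exact ψ.2
      exact IsStronglyCartesian.of_comp p (g := p.map φ.1) (ψ := φ.1)
    let m : z ⟶ y := ⟨χ, hc⟩
    refine ⟨m, ⟨@isHomLift_comp _ _ _ _ _ _ (wideSubcategoryInclusion (FibCat.cartMor p)) p _ _ g _ _ m hχ, WideSubcategory.hom_ext (FibCat.cartMor p) hχ'⟩, fun τ hτ => ?_⟩
    obtain ⟨t1, t2⟩ := hτ
    haveI := t1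
    exact WideSubcategory.hom_ext (FibCat.cartMor p) (hu τ.1 ⟨isHomLift_comp_map
      (F := wideSubcategoryInclusion (FibCat.cartMor p)) (G := p) g τ, congrArg (·.1) t2⟩)

end Groth.Agent.S6430
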