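import Groth.Statements.S6434
import Mathlib

set_option autoImplicit false
open CategoryTheory
universe v u v' u'
open CatLoc

namespace Groth.Agent.S6434

open CategoryTheory CategoryTheory.Limits

universe w

variable {C : Type u} [Category.{v} C] {D : Type u'} [Category.{v'} D] (W : MorphismProperty C) (L : C ⥤ D)
  [L.IsLocalization W] [W.HasLeftCalculusOfFractions]

lemma exists_common_denominator {ι : Type*} (S : Finset ι) (X : ι → C) (Y : C) (m : ∀ i, L.obj (X i) ⟶ L.obj Y) :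
    ∃ (Y' : C) (t : Y ⟶ Y'), W t ∧ ∀ i ∈ S, ∃ f : X i ⟶ Y', m i ≫ L.map t = L.map f := by
  classical
  induction S using Finset.induction with
  | empty => exact ⟨Y, 𝟙 Y, W.id_mem Y, by simp⟩
  | @insert i S hi ih =>
    obtain ⟨Y', t, ht, h⟩ := ih
    obtain ⟨φ, hφ⟩ := Localization.exists_leftFraction L W (m i)
    obtain ⟨ψ, hψ⟩ := (MorphismProperty.RightFraction.mk φ.s φ.hs t).exists_leftFraction
    refine ⟨ψ.Y', t ≫ ψ.s, W.comp_mem _ _ ht ψ.hs, fun j hj => ?_⟩
    rcases Finset.mem_insert.1 hj with rfl | hj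
    · refine ⟨φ.f ≫ ψ.f, ?_⟩
      dsimp at hψ
      rw [hψ, hφ, L.map_comp, L.map_comp, MorphismProperty.LeftFraction.map_comp_map_s_assoc]
    · obtain ⟨f, hf⟩ := h j hj
      exact ⟨f ≫ ψ.s, by simp [L.map_comp, reassoc_of% hf]⟩

lemma exists_common_equalizer {ι : Type*} (S : Finset ι) (X : ι → C) (Y : C) (a b : ∀ i, X i ⟶ Y)
    (h : ∀ i ∈ S, L.map (a i) = L.map (b i)) :
    ∃ (Y' : C) (t : Y ⟶ Y'), W t ∧ ∀ i ∈ S, a i ≫ t = b i ≫ t := by
  classical
  induction S using Finset.induction with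
  | empty => exact ⟨Y, 𝟙 Y, W.id_mem Y, by simp⟩
  | @insert i S hi ih =>
    obtain ⟨Y', t, ht, h'⟩ := ih (fun j hj => h j (Finset.mem_insert_of_mem hj))
    obtain ⟨Z, s, hs, hst⟩ := (MorphismProperty.map_eq_iff_postcomp L W (a i ≫ t) (b i ≫ t)).1
      (by rw [L.map_comp, L.map_comp, h i (Finset.mem_insert_self _ _)])
    refine ⟨Z, t ≫ s, W.comp_mem _ _ ht hs, fun j hj => ?_⟩
    rcases Finset.mem_insert.1 hj with rfl | hj
    · simpa [Category.assoc] using hst
    · rw [reassoc_of% (h' j hj)]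

include W in
lemma preservesColimit_of_fin {J : Type} [SmallCategory J] [FinCategory J] (K : J ⥤ C) :
    PreservesColimit K L := by
  classical
  have := Localization.essSurj L W
  refine ⟨fun {c} hc => ⟨IsColimit.ofExistsUnique fun s => ?_⟩⟩
  let Y := L.objPreimage s.pt
  let e : L.obj Y ≅ s.pt := L.objObjPreimageIso s.pt
  obtain ⟨Y', t, ht, hf⟩ := exists_common_denominator W L Finset.univ K.obj Y (fun j => s.ι.app j ≫ e.inv)
  choose f hf using fun j => hf j (Finset.mem_univ j)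
  have hrel : ∀ x : (Σ j k : J, (j ⟶ k)), L.map (K.map x.2.2 ≫ f x.2.1) = L.map (f x.1) := fun x => by
    rw [L.map_comp, ← hf, ← hf, ← Category.assoc, ← Category.assoc]
    congr 2
    exact s.w x.2.2
  obtain ⟨Y'', t', ht', heq⟩ := exists_common_equalizer W L Finset.univ
    (fun x : (Σ j k : J, (j ⟶ k)) => K.obj x.1) Y' (fun x => K.map x.2.2 ≫ f x.2.1) (fun x => f x.1) (fun x _ => hrel x)
  let s' : Cocone K := Cocone.mk Y'' { app := fun j => f j ≫ t', naturality := fun j k u => (by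
    simpa using heq ⟨j, k, u⟩ (Finset.mem_univ _)) }
  have htt : IsIso (L.map (t ≫ t')) := Localization.inverts L W _ (W.comp_mem _ _ ht ht')
  have fac : ∀ j, L.map (c.ι.app j) ≫ L.map (hc.desc s') ≫ inv (L.map (t ≫ t')) ≫ e.hom = s.ι.app j := fun j => by
    rw [← L.map_comp_assoc, hc.fac]
    change L.map (f j ≫ t') ≫ _ = _
    rw [← cancel_mono e.inv]
    simp only [Category.assoc, e.hom_inv_id, Category.comp_id]
    rw [IsIso.comp_inv_eq, L.map_comp, L.map_comp, ← hf, Category.assoc, Category.assoc]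
  refine ⟨L.map (hc.desc s') ≫ inv (L.map (t ≫ t')) ≫ e.hom, fac, fun m hm => ?_⟩
  rw [← cancel_mono e.inv]
  let m' : L.obj c.pt ⟶ L.obj Y := L.map (hc.desc s') ≫ inv (L.map (t ≫ t'))
  have hm' : ∀ j, L.map (c.ι.app j) ≫ m ≫ e.inv = L.map (c.ι.app j) ≫ m' := fun j => by
    rw [← Category.assoc]
    rw [show L.map (c.ι.app j) ≫ m = s.ι.app j from hm j, ← fac j]
    simp [m']
  suffices h : m ≫ e.inv = m' by simpa [m'] using h
  obtain ⟨φ₁, h₁⟩ := Localization.exists_leftFraction L W (m ≫ e.inv)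
  obtain ⟨φ₂, h₂⟩ := Localization.exists_leftFraction L W m'
  obtain ⟨ψ, hψ⟩ := (MorphismProperty.RightFraction.mk φ₁.s φ₁.hs φ₂.s).exists_leftFraction
  dsimp at hψ
  have hv : W (φ₂.s ≫ ψ.s) := W.comp_mem _ _ φ₂.hs ψ.hs
  have : IsIso (L.map (φ₂.s ≫ ψ.s)) := Localization.inverts L W _ hv
  have e₁ : (m ≫ e.inv) ≫ L.map (φ₂.s ≫ ψ.s) = L.map (φ₁.f ≫ ψ.f) := by
    rw [h₁, hψ, L.map_comp, L.map_comp, MorphismProperty.LeftFraction.map_comp_map_s_assoc]
  have e₂ : m' ≫ L.map (φ₂.s ≫ ψ.s) = L.map (φ₂.f ≫ ψ.s) := by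
    rw [h₂, L.map_comp, L.map_comp, MorphismProperty.LeftFraction.map_comp_map_s_assoc]
  rw [← cancel_mono (L.map (φ₂.s ≫ ψ.s)), e₁, e₂]
  obtain ⟨Z, w, hw, hcw⟩ := exists_common_equalizer W L Finset.univ K.obj ψ.Y'
    (fun j => c.ι.app j ≫ φ₁.f ≫ ψ.f) (fun j => c.ι.app j ≫ φ₂.f ≫ ψ.s)
    (fun j _ => by rw [L.map_comp, L.map_comp (c.ι.app j) (φ₂.f ≫ ψ.s), ← e₁, ← e₂, ← Category.assoc, hm', Category.assoc])
  have hh : (φ₁.f ≫ ψ.f) ≫ w = (φ₂.f ≫ ψ.s) ≫ w := hc.hom_ext fun j => by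
    simpa using hcw j (Finset.mem_univ j)
  have : IsIso (L.map w) := Localization.inverts L W _ hw
  rw [← cancel_mono (L.map w), ← L.map_comp, ← L.map_comp, hh]



/-- The localization functor at a left multiplicative system commutes with finite colimits. -/
theorem result {C : Type u} [Category.{v} C] {D : Type u'} [Category.{v'} D] (W : MorphismProperty C) (L : C ⥤ D) [L.IsLocalization W] [W.HasLeftCalculusOfFractions] :
    Limits.PreservesFiniteColimits L := by
  exact ⟨fun J _ _ => ⟨fun {K} => preservesColimit_of_fin W L K⟩⟩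


end Groth.Agent.S6434
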