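import Groth.Statements.S6435
import Mathlib.CategoryTheory.Localization.CalculusOfFractions

set_option autoImplicit false
open CategoryTheory
universe v u v' u'
open CatLoc

namespace Groth.Agent.S6435


/-- For a multiplicative system `W` (left and right calculus of fractions) with localization functor
`L`, a morphism `f` becomes an isomorphism under `L` if and only if `g ∘ f ∈ W` and `f ∘ h ∈ W` for
some `g, h`. -/
theorem result {C : Type u} [Category.{v} C] {D : Type u'} [Category.{v'} D] (W : MorphismProperty C) (L : C ⥤ D) [L.IsLocalization W] [W.HasLeftCalculusOfFractions] [W.HasRightCalculusOfFractions]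
    {X Y : C} (f : X ⟶ Y) :
    IsIso (L.map f) ↔ ∃ (Z Z' : C) (g : Y ⟶ Z) (h : Z' ⟶ X), W (f ≫ g) ∧ W (h ≫ f) := by
  constructor
  · intro h
    obtain ⟨φ, hφ⟩ := Localization.exists_leftFraction L W (inv (L.map f))
    obtain ⟨ψ, hψ⟩ := Localization.exists_rightFraction L W (inv (L.map f))
    have h1 : L.map (f ≫ φ.f) = L.map φ.s := by
      rw [L.map_comp, ← MorphismProperty.LeftFraction.map_comp_map_s φ L (Localization.inverts L W), ← hφ]
      simp
    have h2 : L.map (ψ.f ≫ f) = L.map ψ.s := by
      rw [L.map_comp, ← MorphismProperty.RightFraction.map_s_comp_map ψ L (Localization.inverts L W), ← hψ]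
      simp
    obtain ⟨Z, t, ht, e1⟩ := (MorphismProperty.map_eq_iff_postcomp L W _ _).1 h1
    obtain ⟨Z', t', ht', e2⟩ := (MorphismProperty.map_eq_iff_precomp L W _ _).1 h2
    refine ⟨Z, Z', φ.f ≫ t, t' ≫ ψ.f, ?_, ?_⟩
    · rw [← Category.assoc, e1]
      exact W.comp_mem _ _ φ.hs ht
    · rw [Category.assoc, e2]
      exact W.comp_mem _ _ ht' ψ.hs
  · rintro ⟨Z, Z', g, h, h1, h2⟩
    haveI : IsIso (L.map f ≫ L.map g) := by rw [← L.map_comp]; exact Localization.inverts L W _ h1
    haveI : IsIso (L.map h ≫ L.map f) := by rw [← L.map_comp]; exact Localization.inverts L W _ h2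
    have hl : (inv (L.map h ≫ L.map f) ≫ L.map h) ≫ L.map f = 𝟙 _ := by simp
    have hr : L.map f ≫ (L.map g ≫ inv (L.map f ≫ L.map g)) = 𝟙 _ := by
      rw [← Category.assoc, IsIso.hom_inv_id]
    refine ⟨L.map g ≫ inv (L.map f ≫ L.map g), hr, ?_⟩
    have e : inv (L.map h ≫ L.map f) ≫ L.map h = L.map g ≫ inv (L.map f ≫ L.map g) := by
      rw [← Category.comp_id (inv (L.map h ≫ L.map f) ≫ L.map h), ← hr, ← Category.assoc, hl,
        Category.id_comp]
    rw [← e, hl]


end Groth.Agent.S6435
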