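import Groth.Statements.S6437
import Mathlib.CategoryTheory.Limits.FunctorCategory.Basic
import Mathlib.CategoryTheory.Limits.Types.Colimits
import Mathlib.CategoryTheory.Limits.Types.Limits
import Mathlib.CategoryTheory.IsConnected
import Mathlib.Data.Fintype.Sigma
import Mathlib.Data.Finite.Sigma

set_option autoImplicit false
open CategoryTheory CategoryTheory.Limits
universe v
open CatLim

namespace Groth.Agent.S6437

variable {I : Type v} [SmallCategory I]

/-- Spans complete to squares. -/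
abbrev Sq (I : Type v) [SmallCategory I] : Prop :=
  ∀ ⦃w x y : I⦄ (a : w ⟶ x) (b : w ⟶ y), ∃ (z : I) (c : x ⟶ z) (d : y ⟶ z), a ≫ c = b ≫ d

/-- Parallel pairs are coequalized. -/
abbrev Coeq (I : Type v) [SmallCategory I] : Prop :=
  ∀ ⦃x y : I⦄ (a b : x ⟶ y), ∃ (z : I) (c : y ⟶ z), a ≫ c = b ≫ c

/-- A common target. -/
def Rel (a b : I) : Prop := ∃ k, Nonempty (a ⟶ k) ∧ Nonempty (b ⟶ k)

theorem rel_trans (h1 : Sq I) {a b c : I} : Rel a b → Rel b c → Rel a c := by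
  rintro ⟨k, ⟨f⟩, ⟨g⟩⟩ ⟨l, ⟨f'⟩, ⟨g'⟩⟩
  obtain ⟨z, p, q, -⟩ := h1 g f'
  exact ⟨z, ⟨f ≫ p⟩, ⟨g' ≫ q⟩⟩

theorem exists_bound (h1 : Sq I) {T : Type} (t₀ : T) (i : T → I) (h : ∀ t, Rel (i t₀) (i t))
    (s : Finset T) : ∃ k, Nonempty (i t₀ ⟶ k) ∧ ∀ t ∈ s, Nonempty (i t ⟶ k) := by
  classical
  induction s using Finset.induction_on with
  | empty => exact ⟨i t₀, ⟨𝟙 _⟩, by simp⟩
  | insert t s _ ih =>
    obtain ⟨k, ⟨f⟩, hk⟩ := ih
    obtain ⟨l, ⟨a⟩, ⟨b⟩⟩ := h t
    obtain ⟨z, p, q, -⟩ := h1 f a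
    refine ⟨z, ⟨f ≫ p⟩, fun t' ht' => ?_⟩
    rcases Finset.mem_insert.1 ht' with rfl | ht'
    · exact ⟨b ≫ q⟩
    · exact ⟨(hk t' ht').some ≫ p⟩

theorem exists_equalize (h2 : Coeq I) {T : Type} {x : T → I} {k : I} (a b : ∀ t, x t ⟶ k)
    (s : Finset T) : ∃ (K : I) (h : k ⟶ K), ∀ t ∈ s, a t ≫ h = b t ≫ h := by
  classical
  induction s using Finset.induction_on with
  | empty => exact ⟨k, 𝟙 _, by simp⟩
  | insert t s _ ih =>
    obtain ⟨K, h, hh⟩ := ih
    obtain ⟨z, c, hc⟩ := h2 (a t ≫ h) (b t ≫ h)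
    refine ⟨z, h ≫ c, fun t' ht' => ?_⟩
    rcases Finset.mem_insert.1 ht' with rfl | ht'
    · simpa using hc
    · simp only [← Category.assoc, hh t' ht']

theorem exists_factor (h1 : Sq I) {T : Type} {k : I} {k' : T → I} (r : ∀ t, k ⟶ k' t) (s : Finset T) :
    ∃ (K : I) (h : k ⟶ K), ∀ t ∈ s, ∃ u : k' t ⟶ K, r t ≫ u = h := by
  classical
  induction s using Finset.induction_on with
  | empty => exact ⟨k, 𝟙 _, by simp⟩
  | insert t s _ ih =>
    obtain ⟨K, h, hh⟩ := ih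
    obtain ⟨z, c, d, hcd⟩ := h1 h (r t)
    refine ⟨z, h ≫ c, fun t' ht' => ?_⟩
    rcases Finset.mem_insert.1 ht' with rfl | ht'
    · exact ⟨d, hcd.symm⟩
    · obtain ⟨u, hu⟩ := hh t' ht'
      exact ⟨u ≫ c, by rw [reassoc_of% hu]⟩

theorem eq_colimit (h1 : Sq I) (F : I ⥤ Type v) {i j : I} {x : F.obj i} {y : F.obj j}
    (h : colimit.ι F i x = colimit.ι F j y) :
    ∃ (k : I) (f : i ⟶ k) (g : j ⟶ k), F.map f x = F.map g y := by
  suffices H : ∀ p q : Σ i, F.obj i, Relation.EqvGen F.ColimitTypeRel p q →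
      ∃ (k : I) (f : p.1 ⟶ k) (g : q.1 ⟶ k), F.map f p.2 = F.map g q.2 from
    H ⟨i, x⟩ ⟨j, y⟩ (Types.colimit_eq h)
  intro p q hpq
  induction hpq with
  | rel p q h =>
    obtain ⟨f, hf⟩ := h
    exact ⟨q.1, f, 𝟙 _, by simp [hf]⟩
  | refl p => exact ⟨p.1, 𝟙 _, 𝟙 _, rfl⟩
  | symm p q _ ih =>
    obtain ⟨k, f, g, h⟩ := ih
    exact ⟨k, g, f, h.symm⟩
  | trans p q r _ _ ih ih' =>
    obtain ⟨k, f, g, h⟩ := ih
    obtain ⟨l, f', g', h'⟩ := ih'
    obtain ⟨z, c, d, hcd⟩ := h1 g f'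
    refine ⟨z, f ≫ c, g' ≫ d, ?_⟩
    simp only [Functor.map_comp, ConcreteCategory.comp_apply, h, ← h']
    rw [← ConcreteCategory.comp_apply, ← ConcreteCategory.comp_apply, ← F.map_comp, ← F.map_comp, hcd]



/-- Over an index category in which spans can be completed to commutative squares and parallel pairs can
be coequalized (a disjoint union of filtered categories), colimits of sets commute with finite
connected limits. -/
theorem result {I : Type v} [SmallCategory I]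
    (h1 : ∀ ⦃w x y : I⦄ (a : w ⟶ x) (b : w ⟶ y), ∃ (z : I) (c : x ⟶ z) (d : y ⟶ z), a ≫ c = b ≫ d)
    (h2 : ∀ ⦃x y : I⦄ (a b : x ⟶ y), ∃ (z : I) (c : y ⟶ z), a ≫ c = b ≫ c)
    (J : Type) [SmallCategory J] [FinCategory J] [IsConnected J] :
    PreservesLimitsOfShape J (colim : (I ⥤ Type v) ⥤ Type v) := by
  classical
  refine ⟨fun {G} => preservesLimit_of_preserves_limit_cone (limit.isLimit G)
    ((Types.isLimit_iff _).2 fun s hs => ?_).some⟩
  have hJ : Nonempty J := IsConnected.is_nonempty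
  obtain ⟨j₀⟩ := hJ
  let c := limit.cone G
  have hev : ∀ i, ∀ σ ∈ (G ⋙ (evaluation I (Type v)).obj i).sections,
      ∃! x, ∀ j, ((((evaluation I (Type v)).obj i).mapCone c).π.app j) x = σ j := fun i =>
    (Types.isLimit_iff _).1 ⟨isLimitOfPreserves _ (limit.isLimit G)⟩
  have hnat : ∀ (j : J) (i : I) (u : c.pt.obj i),
      colimMap (c.π.app j) (colimit.ι c.pt i u) = colimit.ι (G.obj j) i ((c.π.app j).app i u) :=
    fun j i u => ConcreteCategory.congr_hom (ι_colimMap (c.π.app j) i) u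
  choose i x hx using fun j => Types.jointly_surjective' (F := G.obj j) (s j)
  have hmap : ∀ (a b : J) (g : a ⟶ b),
      colimit.ι (G.obj b) (i a) ((G.map g).app (i a) (x a)) = colimit.ι (G.obj b) (i b) (x b) := by
    intro a b g
    rw [hx b, ← hs g, ← hx a]
    exact (ConcreteCategory.congr_hom (ι_colimMap (G.map g) (i a)) (x a)).symm
  have hrel : ∀ j, Rel (i j₀) (i j) := fun j => by
    refine induct_on_objects {j | Rel (i j₀) (i j)} (show j₀ ∈ _ from ⟨_, ⟨𝟙 _⟩, ⟨𝟙 _⟩⟩)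
      (fun {a b} g => ?_) j
    obtain ⟨k, p, q, -⟩ := eq_colimit h1 (G.obj b) (hmap a b g)
    exact ⟨fun h => rel_trans h1 h ⟨k, ⟨p⟩, ⟨q⟩⟩, fun h => rel_trans h1 h ⟨k, ⟨q⟩, ⟨p⟩⟩⟩
  obtain ⟨k, -, hk⟩ := exists_bound h1 j₀ i hrel Finset.univ
  let f : ∀ j, i j ⟶ k := fun j => (hk j (Finset.mem_univ _)).some
  let y : ∀ j, (G.obj j).obj k := fun j => (G.obj j).map (f j) (x j)
  have hy : ∀ j, colimit.ι (G.obj j) k (y j) = s j := fun j =>
    (ConcreteCategory.congr_hom (colimit.w (G.obj j) (f j)) (x j)).trans (hx j)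
  have hy' : ∀ m : Σ a b : J, a ⟶ b, ∃ (k' : I) (r : k ⟶ k'),
      (G.obj m.2.1).map r ((G.map m.2.2).app k (y m.1)) = (G.obj m.2.1).map r (y m.2.1) := fun m => by
    have e : colimit.ι (G.obj m.2.1) k ((G.map m.2.2).app k (y m.1)) =
        colimit.ι (G.obj m.2.1) k (y m.2.1) := by
      rw [hy, ← hs m.2.2, ← hy]
      exact (ConcreteCategory.congr_hom (ι_colimMap (G.map m.2.2) k) (y m.1)).symm
    obtain ⟨l, p, q, h⟩ := eq_colimit h1 _ e
    obtain ⟨z, r, hr⟩ := h2 p q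
    refine ⟨z, p ≫ r, ?_⟩
    conv_rhs => rw [hr]
    simp [h]
  choose k' r hr using hy'
  haveI : Fintype (Σ a b : J, a ⟶ b) := Fintype.ofFinite _
  obtain ⟨K, h, hh⟩ := exists_factor h1 r Finset.univ
  obtain ⟨z, hz, -⟩ := hev K (fun j => (G.obj j).map h (y j)) (by
    intro a b g
    obtain ⟨u, hu⟩ := hh ⟨a, b, g⟩ (Finset.mem_univ _)
    refine (ConcreteCategory.congr_hom ((G.map g).naturality h) (y a)).trans ?_
    change (G.obj b).map h ((G.map g).app k (y a)) = (G.obj b).map h (y b)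
    rw [← hu]
    simp [hr ⟨a, b, g⟩])
  refine ⟨colimit.ι c.pt K z, fun j => ?_, fun w hw => ?_⟩
  · refine (hnat j K z).trans ?_
    exact (congrArg (colimit.ι (G.obj j) K) (hz j)).trans
      ((ConcreteCategory.congr_hom (colimit.w (G.obj j) h) (y j)).trans (hy j))
  · obtain ⟨i', u, rfl⟩ := Types.jointly_surjective' (F := c.pt) w
    have hw' : ∀ j, colimit.ι (G.obj j) i' ((c.π.app j).app i' u) =
        colimit.ι (G.obj j) K ((c.π.app j).app K z) := fun j => by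
      refine ((hnat j i' u).symm.trans (hw j)).trans ?_
      exact ((congrArg (colimit.ι (G.obj j) K) (hz j)).trans
        ((ConcreteCategory.congr_hom (colimit.w (G.obj j) h) (y j)).trans (hy j))).symm
    choose l p q hpq using fun j => eq_colimit h1 (G.obj j) (hw' j)
    obtain ⟨L, P, hP⟩ := exists_factor h1 p Finset.univ
    choose v hv using fun j => hP j (Finset.mem_univ _)
    obtain ⟨M, e, he⟩ := exists_equalize h2 (fun j => q j ≫ v j) (fun _ => q j₀ ≫ v j₀) Finset.univ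
    have key : ∀ j, (c.π.app j).app M (c.pt.map (P ≫ e) u) =
        (c.π.app j).app M (c.pt.map ((q j₀ ≫ v j₀) ≫ e) z) := fun j => by
      refine (ConcreteCategory.congr_hom ((c.π.app j).naturality (P ≫ e)) u).trans ?_
      refine Eq.trans ?_ (ConcreteCategory.congr_hom ((c.π.app j).naturality ((q j₀ ≫ v j₀) ≫ e)) z).symm
      change (G.obj j).map _ _ = (G.obj j).map _ _
      rw [← he j (Finset.mem_univ _), ← hv j]
      simp only [Functor.map_comp, ConcreteCategory.comp_apply]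
      exact congrArg _ (congrArg _ (hpq j))
    obtain ⟨_, -, huniq⟩ := hev M (fun j => (c.π.app j).app M (c.pt.map (P ≫ e) u)) (fun {a b} g =>
      ConcreteCategory.congr_hom (congrArg (fun t => t.app M) (c.w g)) (c.pt.map (P ≫ e) u))
    have e1 := (huniq _ fun j => rfl).trans (huniq _ fun j => (key j).symm).symm
    calc colimit.ι c.pt i' u = colimit.ι c.pt M (c.pt.map (P ≫ e) u) :=
          (ConcreteCategory.congr_hom (colimit.w c.pt (P ≫ e)) u).symm
      _ = colimit.ι c.pt M (c.pt.map ((q j₀ ≫ v j₀) ≫ e) z) := congrArg _ e1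
      _ = colimit.ι c.pt K z := ConcreteCategory.congr_hom (colimit.w c.pt _) z


end Groth.Agent.S6437
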