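import Groth.Statements.S6439
import Groth.Agent.Lib.FC16.Self

set_option autoImplicit false
open CategoryTheory
universe v u
open FibCat

namespace Groth.Agent.S6439
open CategoryTheory.Functor Groth.Agent.FC16
set_option linter.style.haveILetI false
set_option linter.unusedVariables false
set_option backward.isDefEq.respectTransparency false
set_option backward.isDefEq.respectTransparency.types false


/-- For categories fibred in groupoids over `C` and equivalences `φ : 𝒮₁ ⟶ 𝒮₂`, `ψ : 𝒮₃ ⟶ 𝒮₄` over `C`,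
the functor `α ↦ ψ ∘ α ∘ φ` between the categories of functors over `C` is an equivalence of
categories. -/
theorem result {C : Type u} [Category.{v} C] {𝒮₁ 𝒮₂ 𝒮₃ 𝒮₄ : BasedCategory.{v, max u v} C}
    (h₁ : FibCat.IsFibGrpd 𝒮₁.p) (h₂ : FibCat.IsFibGrpd 𝒮₂.p) (h₃ : FibCat.IsFibGrpd 𝒮₃.p) (h₄ : FibCat.IsFibGrpd 𝒮₄.p)
    (φ : 𝒮₁ ⟶ 𝒮₂) (ψ : 𝒮₃ ⟶ 𝒮₄) (hφ : FibCat.IsEquivOver φ) (hψ : FibCat.IsEquivOver ψ) :
    (Bicategory.precomp 𝒮₃ φ ⋙ Bicategory.postcomp 𝒮₁ ψ).IsEquivalence := by
  have key : ∀ {𝒜 ℬ : BasedCategory.{v, max u v} C} (f : 𝒜 ⟶ ℬ), FibCat.IsEquivOver f →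
      ∀ 𝒵 : BasedCategory.{v, max u v} C,
        (Bicategory.precomp 𝒵 f).IsEquivalence ∧ (Bicategory.postcomp 𝒵 f).IsEquivalence := by
    intro 𝒜 ℬ f hf 𝒵
    obtain ⟨g, -, ⟨u₁⟩, ⟨u₂⟩⟩ := exists_inverse hf
    refine ⟨Functor.IsEquivalence.mk' (Bicategory.precomp 𝒵 g)
      (NatIso.ofComponents (fun α => (isoWhiskerR u₂ α).symm) ?_)
      (NatIso.ofComponents (fun α => isoWhiskerR u₁ α) ?_),
      Functor.IsEquivalence.mk' (Bicategory.postcomp 𝒵 g)
      (NatIso.ofComponents (fun α => (isoWhiskerL α u₁).symm) ?_)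
      (NatIso.ofComponents (fun α => isoWhiskerL α u₂) ?_)⟩
    · intro α β η
      apply BasedNatTrans.ext
      apply NatTrans.ext
      funext a
      exact (η.toNatTrans.naturality (u₂.inv.toNatTrans.app a)).symm
    · intro α β η
      apply BasedNatTrans.ext
      apply NatTrans.ext
      funext a
      exact (η.toNatTrans.naturality (u₁.hom.toNatTrans.app a)).symm
    · intro α β η
      apply BasedNatTrans.ext
      apply NatTrans.ext
      funext a
      exact u₁.inv.toNatTrans.naturality (η.toNatTrans.app a)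
    · intro α β η
      apply BasedNatTrans.ext
      apply NatTrans.ext
      funext a
      exact u₂.hom.toNatTrans.naturality (η.toNatTrans.app a)
  have := (key φ hφ 𝒮₃).1
  have := (key ψ hψ 𝒮₁).2
  infer_instance

end Groth.Agent.S6439
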