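import Groth.Statements.S6442
import Mathlib.CategoryTheory.Sites.EpiMono
import Mathlib.CategoryTheory.Sites.LocallyBijective

set_option autoImplicit false
open CategoryTheory CategoryTheory.Limits Opposite
universe u
open SiteMisc

namespace Groth.Agent.S6442




/-- An object `U` of a site is weakly contractible, i.e. for every covering sieve `S` the sheafified map
`(∐_{V → U ∈ S} h_V)^# ⟶ h_U^#` has a section, if and only if taking sections over `U` turns
epimorphisms of sheaves of sets into surjections. (Coverings are taken as covering sieves; the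
coproduct is formed in presheaves and then sheafified.) -/
theorem result {C : Type u} [SmallCategory C] (J : GrothendieckTopology C) (U : C) :
    (∀ S : Sieve U, S ∈ J U →
      IsSplitEpi ((presheafToSheaf J (Type u)).map
        (Sigma.desc (fun i : (Σ V : C, {f : V ⟶ U // S f}) => yoneda.map i.2.1) :
          (∐ fun i : (Σ V : C, {f : V ⟶ U // S f}) => yoneda.obj i.1) ⟶ yoneda.obj U))) ↔
    ∀ (F G : Sheaf J (Type u)) (φ : F ⟶ G), Epi φ → Function.Surjective (φ.hom.app (op U)) := by
  classical
  let P (S : Sieve U) : Cᵒᵖ ⥤ Type u := ∐ fun i : (Σ V : C, {f : V ⟶ U // S f}) => yoneda.obj i.1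
  let d (S : Sieve U) : P S ⟶ yoneda.obj U :=
    Sigma.desc (fun i : (Σ V : C, {f : V ⟶ U // S f}) => yoneda.map i.2.1)
  constructor
  · intro h F G φ hφ y
    haveI : Sheaf.IsLocallySurjective φ := (Sheaf.isLocallySurjective_iff_epi φ).2 hφ
    let S : Sieve U := Presheaf.imageSieve φ.hom y
    obtain ⟨⟨⟨t, ht⟩⟩⟩ := h S (Presheaf.imageSieve_mem J φ.hom y)
    let g : P S ⟶ F.obj := Sigma.desc fun i => yonedaEquiv.symm i.2.2.choose
    have hg : g ≫ φ.hom = d S ≫ yonedaEquiv.symm y := by
      refine Sigma.hom_ext _ _ fun i => ?_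
      simp only [g, d, Sigma.ι_desc_assoc]
      apply yonedaEquiv.injective
      rw [yonedaEquiv_comp, Equiv.apply_symm_apply, ← yonedaEquiv_naturality, Equiv.apply_symm_apply]
      exact i.2.2.choose_spec
    let s : sheafify J (yoneda.obj U) ⟶ F.obj := t.hom ≫ sheafifyLift J g F.property
    refine ⟨yonedaEquiv (toSheafify J _ ≫ s), ?_⟩
    rw [← yonedaEquiv_comp]
    refine yonedaEquiv.symm.injective ?_
    rw [Equiv.symm_apply_apply]
    have e : sheafifyLift J g F.property ≫ φ.hom =
        sheafifyMap J (d S) ≫ sheafifyLift J (yonedaEquiv.symm y) G.property := by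
      refine sheafify_hom_ext J _ _ G.property ?_
      rw [← Category.assoc, toSheafify_sheafifyLift, hg, ← Category.assoc, ← toSheafify_naturality,
        Category.assoc, toSheafify_sheafifyLift]
    have ht' : t.hom ≫ sheafifyMap J (d S) = 𝟙 _ := congrArg (·.hom) ht
    simp only [s, Category.assoc]
    rw [e, reassoc_of% ht', toSheafify_sheafifyLift]
  · intro h S hS
    haveI : Presheaf.IsLocallySurjective J (d S) := ⟨fun {V} g => by
      refine J.superset_covering ?_ (J.pullback_stable g hS)
      intro W k hk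
      refine ⟨(Sigma.ι (fun i : (Σ V : C, {f : V ⟶ U // S f}) => yoneda.obj i.1) ⟨W, k ≫ g, hk⟩).app _ (𝟙 W), ?_⟩
      have e := ConcreteCategory.congr_hom (NatTrans.congr_app
        (Sigma.ι_desc (fun i : (Σ V : C, {f : V ⟶ U // S f}) => yoneda.map i.2.1) ⟨W, k ≫ g, hk⟩) (op W)) (𝟙 W)
      refine e.trans ?_
      simp⟩
    haveI := (Presheaf.isLocallySurjective_presheafToSheaf_map_iff J (d S)).2 inferInstance
    have he : Epi ((presheafToSheaf J (Type u)).map (d S)) := (Sheaf.isLocallySurjective_iff_epi _).1 inferInstance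
    obtain ⟨x, hx⟩ := h _ _ _ he (yonedaEquiv (toSheafify J (yoneda.obj U)))
    refine ⟨⟨⟨⟨sheafifyLift J (yonedaEquiv.symm x) ((presheafToSheaf J (Type u)).obj (P S)).property⟩, ?_⟩⟩⟩
    apply Sheaf.hom_ext
    refine sheafify_hom_ext J _ _ ((presheafToSheaf J (Type u)).obj (yoneda.obj U)).property ?_
    refine ((Category.assoc _ _ _).symm.trans (eq_whisker (toSheafify_sheafifyLift J _ _) _)).trans ?_
    apply yonedaEquiv.injective
    rw [yonedaEquiv_comp, Equiv.apply_symm_apply]
    exact hx.trans (by simp)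


end Groth.Agent.S6442
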