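import Groth.Statements.S6443
import Groth.Agent.Lib.FC16.Slices
import Groth.Agent.Lib.FC16.Self

set_option autoImplicit false
open CategoryTheory
universe v u
open FibCat

namespace Groth.Agent.S6443
open CategoryTheory.Functor Groth.Agent.FC16
set_option linter.style.haveILetI false
set_option backward.isDefEq.respectTransparency false
set_option backward.isDefEq.respectTransparency.types false


/-- If a category `𝒮` fibred in groupoids over `C` is represented by `X` via `j : 𝒮 ⟶ C/X` and by `X'`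
via `j' : 𝒮 ⟶ C/X'` (equivalences over `C`), then there is an isomorphism `X' ≅ X` under which `j'`
becomes 2-isomorphic to `j` over `C`. -/
theorem result {C : Type u} [Category.{v} C] {𝒮 : BasedCategory.{v, max u v} C} (h𝒮 : FibCat.IsFibGrpd 𝒮.p)
    {X X' : C} (j : 𝒮 ⥤ᵇ FibCat.overCat X) (j' : 𝒮 ⥤ᵇ FibCat.overCat X') (hj : FibCat.IsEquivOver j) (hj' : FibCat.IsEquivOver j') :
    ∃ e : X' ≅ X, Nonempty (BasedFunctor.comp j' (⟨Over.map e.hom, Over.mapForget_eq e.hom⟩ : FibCat.overCat X' ⥤ᵇ FibCat.overCat X) ≅ j) := by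
  obtain ⟨k, hk, ⟨n⟩, -⟩ := exists_inverse hj'
  have hH : FibCat.IsEquivOver (BasedFunctor.comp k j) := isEquivOver_comp hk hj
  obtain ⟨f, ⟨m⟩⟩ := exists_iso_overMap (BasedFunctor.comp k j)
  have hm : FibCat.IsEquivOver (overMap f) := isEquivOver_of_iso m.symm hH
  have := isEquivalence_of_isEquivOver hm
  obtain ⟨a, d, hd⟩ := essSurjOver_of_isEquivOver hm (Over.mk (𝟙 X))
  have h1 : (inv d.hom.left ≫ a.hom) ≫ f = 𝟙 X := by
    have hw := Over.w d.hom
    have hw' : d.hom.left ≫ 𝟙 X = a.hom ≫ f := hw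
    replace hw' : d.hom.left = a.hom ≫ f := (Category.comp_id _).symm.trans hw'
    simp only [Category.assoc, ← hw']
    exact IsIso.inv_hom_id _
  have h2 : f ≫ (inv d.hom.left ≫ a.hom) = 𝟙 X' := by
    let p : (overMap f).obj (Over.mk (𝟙 X')) ⟶ (overMap f).obj (Over.mk (f ≫ (inv d.hom.left ≫ a.hom))) :=
      Over.homMk (𝟙 X') (by
        show 𝟙 X' ≫ (f ≫ inv d.hom.left ≫ a.hom) ≫ f = 𝟙 X' ≫ f
        rw [Category.assoc, h1, Category.comp_id])
    obtain ⟨q, hq⟩ := (overMap f).toFunctor.map_surjective p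
    have e : q.left = 𝟙 X' := congrArg CommaMorphism.left hq
    have w : q.left ≫ (f ≫ (inv d.hom.left ≫ a.hom)) = 𝟙 X' := Over.w q
    rw [e] at w
    exact (Category.id_comp _).symm.trans w
  refine ⟨⟨f, inv d.hom.left ≫ a.hom, h2, h1⟩, ⟨?_⟩⟩
  exact isoWhiskerL j' m ≪≫ isoWhiskerR n j

end Groth.Agent.S6443
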