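import Groth.Statements.S6444

set_option autoImplicit false
open CategoryTheory
universe v u v' u'
open CatLoc

namespace Groth.Agent.S6444
open CategoryTheory



/-- For a left multiplicative system, a commutative square in the localization between the images of two
morphisms `f, f'` of `C` lifts to a commutative diagram `X → X'' ← X'`, `Y → Y'' ← Y'` in `C` over a
third morphism `f''`, the backward arrows lying in `W`. -/
theorem result {C : Type u} [Category.{v} C] {D : Type u'} [Category.{v'} D] (W : MorphismProperty C) (L : C ⥤ D) [L.IsLocalization W] [W.HasLeftCalculusOfFractions]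
    {X Y X' Y' : C} (f : X ⟶ Y) (f' : X' ⟶ Y') (a : L.obj X ⟶ L.obj X') (b : L.obj Y ⟶ L.obj Y') (w : L.map f ≫ b = a ≫ L.map f') :
    ∃ (X'' Y'' : C) (f'' : X'' ⟶ Y'') (g : X ⟶ X'') (h : Y ⟶ Y'') (s : X' ⟶ X'') (t : Y' ⟶ Y''),
      W s ∧ W t ∧ f ≫ h = g ≫ f'' ∧ f' ≫ t = s ≫ f'' ∧ L.map g = a ≫ L.map s ∧ L.map h = b ≫ L.map t := by
  obtain ⟨φ, ha⟩ := Localization.exists_leftFraction L W a
  obtain ⟨χ, hb⟩ := Localization.exists_leftFraction L W b
  have hg : L.map φ.f = a ≫ L.map φ.s := by rw [ha, φ.map_comp_map_s]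
  have hh : L.map χ.f = b ≫ L.map χ.s := by rw [hb, χ.map_comp_map_s]
  obtain ⟨ψ, hψ⟩ := MorphismProperty.HasLeftCalculusOfFractions.exists_leftFraction
    (MorphismProperty.RightFraction.mk φ.s φ.hs (f' ≫ χ.s))
  have e : L.map (f ≫ χ.f ≫ ψ.s) = L.map (φ.f ≫ ψ.f) := by
    rw [L.map_comp, L.map_comp, hh, L.map_comp, hg, Category.assoc, reassoc_of% w, Category.assoc, ← L.map_comp,
      ← L.map_comp, ← L.map_comp]
    exact congrArg (fun t => a ≫ L.map t) ((Category.assoc _ _ _).symm.trans hψ)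
  obtain ⟨Y'', u, hu, he⟩ := (MorphismProperty.map_eq_iff_postcomp L W _ _).1 e
  refine ⟨φ.Y', Y'', ψ.f ≫ u, φ.f, χ.f ≫ ψ.s ≫ u, φ.s, χ.s ≫ ψ.s ≫ u, φ.hs,
    W.comp_mem _ _ χ.hs (W.comp_mem _ _ ψ.hs hu), by simpa only [Category.assoc] using he, ?_, hg, ?_⟩
  · have := congrArg (· ≫ u) hψ
    simpa only [Category.assoc] using this
  · rw [L.map_comp, hh, Category.assoc, ← L.map_comp]


end Groth.Agent.S6444
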