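import Groth.Statements.S6447
import Groth.Agent.Lib.FC16.CatPb

set_option autoImplicit false
open CategoryTheory CategoryTheory.Limits
universe v u
open FibCat

namespace Groth.Agent.S6447
open CategoryTheory.Functor Groth.Agent.FC16 CategoryTheory.Limits
set_option linter.style.haveILetI false
set_option linter.unusedVariables false
set_option backward.isDefEq.respectTransparency false
set_option backward.isDefEq.respectTransparency.types false


/-- For a 2-fibre product `U = X ×_Y V` of categories, the square formed by `U ⟶ X`, the diagonals `U ⟶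
U ×_V U`, `X ⟶ X ×_Y X` and the induced functor `U ×_V U ⟶ X ×_Y X` is 2-cartesian. (The filling
2-isomorphism is the one whose two components at every object are identities; it exists and is
unique with that property.) -/
theorem result {X Y V : Type u} [Category.{v} X] [Category.{v} Y] [Category.{v} V] (p : X ⥤ Y) (q : V ⥤ Y) :
    ∃ e, (∀ u, (e.hom.app u).fst = 𝟙 _ ∧ (e.hom.app u).snd = 𝟙 _) ∧ FibCat.IsTwoCart
      (CategoricalPullback.π₁ p q)
      ((CategoricalPullback.CatCommSqOver.toFunctorToCategoricalPullback (CategoricalPullback.π₂ p q) (CategoricalPullback.π₂ p q) (CategoricalPullback p q)).obj ⟨𝟭 _, 𝟭 _, Iso.refl _⟩)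
      ((CategoricalPullback.CatCommSqOver.toFunctorToCategoricalPullback p p X).obj ⟨𝟭 _, 𝟭 _, Iso.refl _⟩)
      (FibCat.categoricalPullbackMap (⟨CategoricalPullback.π₁ p q, q, CategoricalPullback.π₁ p q, ⟨(CatCommSq.iso (CategoricalPullback.π₁ p q) (CategoricalPullback.π₂ p q) p q).symm⟩, ⟨(CatCommSq.iso (CategoricalPullback.π₁ p q) (CategoricalPullback.π₂ p q) p q).symm⟩⟩ : CatCospanTransform (CategoricalPullback.π₂ p q) (CategoricalPullback.π₂ p q) p p))
      e := by
  let ψ : CatCospanTransform (CategoricalPullback.π₂ p q) (CategoricalPullback.π₂ p q) p p :=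
    ⟨CategoricalPullback.π₁ p q, q, CategoricalPullback.π₁ p q, ⟨(CatCommSq.iso (CategoricalPullback.π₁ p q) (CategoricalPullback.π₂ p q) p q).symm⟩, ⟨(CatCommSq.iso (CategoricalPullback.π₁ p q) (CategoricalPullback.π₂ p q) p q).symm⟩⟩
  let Δ := (CategoricalPullback.CatCommSqOver.toFunctorToCategoricalPullback (CategoricalPullback.π₂ p q) (CategoricalPullback.π₂ p q) (CategoricalPullback p q)).obj ⟨𝟭 _, 𝟭 _, Iso.refl _⟩
  let Δ' := (CategoricalPullback.CatCommSqOver.toFunctorToCategoricalPullback p p X).obj ⟨𝟭 _, 𝟭 _, Iso.refl _⟩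
  let T := CategoricalPullback.π₁ p q
  have hiso : ∀ w : CategoricalPullback (CategoricalPullback.π₂ p q) (CategoricalPullback.π₂ p q),
      ((FibCat.categoricalPullbackMap ψ).obj w).iso.hom =
        w.fst.iso.hom ≫ q.map w.iso.hom ≫ w.snd.iso.inv := fun w => by
    rw [cpm_iso]
    rfl
  let e : T ⋙ Δ' ≅ Δ ⋙ FibCat.categoricalPullbackMap ψ :=
    NatIso.ofComponents
      (fun u => CategoricalPullback.mkIso (Iso.refl u.fst) (Iso.refl u.fst) (by
        show p.map (𝟙 _) ≫ ((FibCat.categoricalPullbackMap ψ).obj (Δ.obj u)).iso.hom = 𝟙 _ ≫ p.map (𝟙 _)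
        rw [hiso, Functor.map_id]
        show 𝟙 _ ≫ u.iso.hom ≫ q.map (𝟙 u.snd) ≫ u.iso.inv = 𝟙 _ ≫ 𝟙 _
        rw [Functor.map_id]
        erw [Category.id_comp, Category.id_comp, Category.id_comp, u.iso.hom_inv_id]
        ))
      (fun f => CategoricalPullback.hom_ext
        ((Category.comp_id _).trans (Category.id_comp _).symm)
        ((Category.comp_id _).trans (Category.id_comp _).symm))
  refine ⟨e, fun u => ⟨rfl, rfl⟩, ?_⟩
  let Φ := (CategoricalPullback.CatCommSqOver.toFunctorToCategoricalPullback Δ' (FibCat.categoricalPullbackMap ψ) (CategoricalPullback p q)).obj ⟨T, Δ, e⟩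
  show Φ.IsEquivalence
  have : Φ.Faithful := ⟨fun h => congrArg (fun t => t.snd.fst) h⟩
  have : Φ.Full := ⟨fun {u u'} φ => by
    have w1 : φ.fst ≫ 𝟙 _ = 𝟙 _ ≫ φ.snd.fst.fst := congrArg (fun t => t.fst) φ.w
    have w2 : φ.fst ≫ 𝟙 _ = 𝟙 _ ≫ φ.snd.snd.fst := congrArg (fun t => t.snd) φ.w
    have w3 : φ.snd.fst.snd ≫ 𝟙 _ = 𝟙 _ ≫ φ.snd.snd.snd := φ.snd.w
    erw [Category.comp_id, Category.id_comp] at w1 w2 w3
    refine ⟨φ.snd.fst, CategoricalPullback.hom_ext w1.symm (CategoricalPullback.hom_ext rfl ?_)⟩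
    exact CategoricalPullback.hom_ext (w1.symm.trans w2) w3⟩
  have : Φ.EssSurj := ⟨fun η => by
    let i1 := (CategoricalPullback.π₁ p p).mapIso η.iso
    let i2 := (CategoricalPullback.π₂ p p).mapIso η.iso
    have w : p.map i1.hom ≫ ((FibCat.categoricalPullbackMap ψ).obj η.snd).iso.hom = 𝟙 _ ≫ p.map i2.hom :=
      η.iso.hom.w
    rw [hiso] at w
    have w' : p.map i1.hom ≫ η.snd.fst.iso.hom ≫ q.map η.snd.iso.hom ≫ η.snd.snd.iso.inv = p.map i2.hom :=
      w.trans (Category.id_comp _)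
    let δ : η.snd.fst ≅ η.snd.snd :=
      CategoricalPullback.mkIso (i1.symm ≪≫ i2) η.snd.iso (by
        show p.map (i1.inv ≫ i2.hom) ≫ η.snd.snd.iso.hom = η.snd.fst.iso.hom ≫ q.map η.snd.iso.hom
        rw [Functor.map_comp, ← w']
        simp only [← Category.assoc, ← Functor.map_comp, i1.inv_hom_id, Functor.map_id]
        erw [Category.id_comp]
        simp)
    refine ⟨η.snd.fst, ⟨CategoricalPullback.mkIso i1.symm
      (CategoricalPullback.mkIso (Iso.refl _) δ ?_) (CategoricalPullback.hom_ext ?_ ?_)⟩⟩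
    · show 𝟙 _ ≫ η.snd.iso.hom = 𝟙 _ ≫ η.snd.iso.hom
      rfl
    · show i1.inv ≫ i1.hom = 𝟙 _ ≫ 𝟙 _
      rw [i1.inv_hom_id]
      exact (Category.id_comp _).symm
    · show i1.inv ≫ i2.hom = 𝟙 _ ≫ i1.inv ≫ i2.hom
      exact (Category.id_comp _).symm⟩
  exact { }

end Groth.Agent.S6447
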