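import Groth.Statements.S6448

set_option autoImplicit false
open CategoryTheory
universe v u
open CatLim

namespace Groth.Agent.S6448


/-- In a category where spans complete to commutative squares and parallel pairs are coequalized by a
later arrow, every connected component is filtered (so the category is a disjoint union of filtered
categories). -/
theorem result {I : Type u} [Category.{v} I]
    (h1 : ∀ ⦃w x y : I⦄ (a : w ⟶ x) (b : w ⟶ y), ∃ (z : I) (c : x ⟶ z) (d : y ⟶ z), a ≫ c = b ≫ d)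
    (h2 : ∀ ⦃x y : I⦄ (a b : x ⟶ y), ∃ (z : I) (c : y ⟶ z), a ≫ c = b ≫ c)
    (j : ConnectedComponents I) : IsFiltered j.Component := by
  have key : ∀ {x y : I}, Zigzag x y → ∃ (z : I), Nonempty (x ⟶ z) ∧ Nonempty (y ⟶ z) := by
    intro x y h
    induction h with
    | refl => exact ⟨x, ⟨𝟙 x⟩, ⟨𝟙 x⟩⟩
    | tail hxy hyz ih =>
      obtain ⟨z, ⟨p⟩, ⟨q⟩⟩ := ih
      obtain ⟨⟨m⟩⟩ | ⟨⟨m⟩⟩ := hyz
      · obtain ⟨w, c, d, -⟩ := h1 q m
        exact ⟨w, ⟨p ≫ c⟩, ⟨d⟩⟩
      · exact ⟨z, ⟨p⟩, ⟨m ≫ q⟩⟩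
  have mem : ∀ {x y : I}, (x ⟶ y) → j.objectProperty x → j.objectProperty y := fun {x y} m hx =>
    Eq.trans (Quotient.sound (Zigzag.of_inv m)) hx
  haveI : Nonempty j.Component := by
    obtain ⟨x, hx⟩ := Quotient.exists_rep j
    exact ⟨⟨x, hx⟩⟩
  haveI : IsFilteredOrEmpty j.Component :=
    { cocone_objs := fun X Y => by
        obtain ⟨z, ⟨p⟩, ⟨q⟩⟩ := key (Quotient.exact (X.2.trans Y.2.symm) : Zigzag X.1 Y.1)
        exact ⟨⟨z, mem p X.2⟩, ObjectProperty.homMk p, ObjectProperty.homMk q, trivial⟩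
      cocone_maps := fun X Y a b => by
        obtain ⟨z, c, hc⟩ := h2 a.hom b.hom
        exact ⟨⟨z, mem c Y.2⟩, ObjectProperty.homMk c, ObjectProperty.hom_ext _ hc⟩ }
  exact {}


end Groth.Agent.S6448
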