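import Groth.Statements.S6450
import Groth.Agent.Lib.Diag27.AssocGeom
-- import your own Groth.Agent.* helpers here

set_option autoImplicit false
universe u
open CategoryTheory CategoryTheory.Limits AlgebraicGeometry
attribute [local instance] HasDerivedCategory.standard
open IntMult

namespace Groth.Agent.S6450

/-- Let X be a nonsingular variety of dimension n and U, V, W closed subvarieties, with generic points
ξU, ξV, ξW, which intersect properly pairwise and with dim(U ∩ V ∩ W) ≤ dim U + dim V + dim W − 2n.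
Then U · (V · W) = (U · V) · W as cycles on X. The prime cycle [U] is the indicator function of the
generic point ξU. Here X is a nonsingular variety over the algebraically closed field K (smooth,
separated, quasi-compact, integral) with dimension function δ (transcendence degree over K, recorded
by Cyc.DeltaCompat to Spec K with value 0, together with Cyc.IsSetup) and n = dim X = δ of the
generic point; cycles are coefficient functions X → ℤ, proper intersection is
IntMult.IntersectProperly and α · β is the Tor-formula intersection product on coefficient functions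
(IntMult.interProd). -/
theorem result (K : Type u) [Field K] [IsAlgClosed K] (X : Scheme.{u}) (f : X ⟶ Spec (CommRingCat.of K)) [Smooth f] [IsSeparated f] [QuasiCompact f] [IsIntegral X] (δ : X → ℤ) (hX : Cyc.IsSetup X δ) (hδ : Cyc.DeltaCompat f δ (fun _ => 0)) (n : ℤ) (hn : δ (genericPoint X) = n) (ξU ξV ξW : X) (hUV : IntMult.IntersectProperly δ n (Set.indicator {ξU} 1) (Set.indicator {ξV} 1)) (hVW : IntMult.IntersectProperly δ n (Set.indicator {ξV} 1) (Set.indicator {ξW} 1)) (hUW : IntMult.IntersectProperly δ n (Set.indicator {ξU} 1) (Set.indicator {ξW} 1)) (hUVW : ∀ ζ : X, ξU ⤳ ζ → ξV ⤳ ζ → ξW ⤳ ζ → δ ζ ≤ δ ξU + δ ξV + δ ξW - 2 * n) : IntMult.interProd δ n (Set.indicator {ξU} 1) (IntMult.interProd δ n (Set.indicator {ξV} 1) (Set.indicator {ξW} 1)) = IntMult.interProd δ n (IntMult.interProd δ n (Set.indicator {ξU} 1) (Set.indicator {ξV} 1)) (Set.indicator {ξW} 1) := by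
  classical
  have hd := hX.2.2
  haveI : IsLocallyNoetherian X := hX.1
  have hne : ∀ {a b c ζ : X}, IntMult.interProd δ n (Set.indicator {a} 1)
      (IntMult.interProd δ n (Set.indicator {b} 1) (Set.indicator {c} 1)) ζ ≠ 0 →
      a ⤳ ζ ∧ b ⤳ ζ ∧ c ⤳ ζ ∧ δ ζ = δ a + δ b + δ c - 2 * n := by
    intro a b c ζ h
    obtain ⟨⟨⟨x, η⟩, h1, h2, h3⟩, hp⟩ : ∃ p : {p : X × X // p.1 ⤳ ζ ∧ p.2 ⤳ ζ ∧ δ p.1 + δ p.2 - n = δ ζ},
        Set.indicator {a} (1 : X → ℤ) p.1.1 *
          IntMult.interProd δ n (Set.indicator {b} 1) (Set.indicator {c} 1) p.1.2 *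
          IntMult.mult (IntMult.ptIdeal p.1.1) (IntMult.ptIdeal p.1.2) ζ ≠ 0 := by
      by_contra hc
      push Not at hc
      exact h (finsum_eq_zero_of_forall_eq_zero hc)
    have e1 : x = a := Set.mem_singleton_iff.1 <| Set.mem_of_indicator_ne_zero (left_ne_zero_of_mul (left_ne_zero_of_mul hp))
    have h4 := right_ne_zero_of_mul (left_ne_zero_of_mul hp)
    rw [Diag27.interProd_indicator] at h4
    split_ifs at h4 with hc
    · subst e1
      obtain ⟨hb, hc', hd'⟩ := hc
      refine ⟨h1, hb.trans h2, hc'.trans h2, ?_⟩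
      simp only at h3 hd'
      omega
    · exact absurd rfl h4
  funext ζ
  rw [Diag27.interProd_comm (δ := δ) n (IntMult.interProd δ n (Set.indicator {ξU} 1) (Set.indicator {ξV} 1))]
  by_cases hC : ξU ⤳ ζ ∧ ξV ⤳ ζ ∧ ξW ⤳ ζ ∧ δ ζ = δ ξU + δ ξV + δ ξW - 2 * n
  swap
  · by_contra h
    rcases ne_or_eq (IntMult.interProd δ n (Set.indicator {ξU} 1)
      (IntMult.interProd δ n (Set.indicator {ξV} 1) (Set.indicator {ξW} 1)) ζ) 0 with h' | h'
    · exact hC (hne h')
    · obtain ⟨a, b, c, e⟩ := hne (fun h'' => h (h'.trans h''.symm))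
      exact hC ⟨b, c, a, by omega⟩
  obtain ⟨hU, hV, hW, hζ⟩ := hC
  haveI : IsRegularLocalRing (X.presheaf.stalk ζ) := SmoothReg17.isRegularLocalRing_stalk f ζ
  have hind : ∀ x : X, Set.indicator {x} (1 : X → ℤ) x ≠ 0 := fun x => by simp
  rw [Diag27.interProd_triple f hd hn hU hV hW hζ (fun η => hVW ξV ξW η (hind _) (hind _)) hUVW,
    Diag27.interProd_triple f hd hn hW hU hV (by omega) (fun η => hUV ξU ξV η (hind _) (hind _))
      (fun η a b c => by have := hUVW η b c a; omega)]
  obtain ⟨V, hVa, hxV, -⟩ := exists_isAffineOpen_mem_and_subset (show ζ ∈ (⊤ : X.Opens) from trivial)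
  have h1 := f.smooth_appLE (isAffineOpen_top (Spec (CommRingCat.of K))) hVa (le_top : V ≤ f ⁻¹ᵁ ⊤)
  let e := (Scheme.ΓSpecIso (CommRingCat.of K)).symm.commRingCatIsoToRingEquiv
  have h2 : ((f.appLE ⊤ V le_top).hom.comp e.toRingHom).Smooth :=
    RingHom.Smooth.comp (RingHom.Smooth.of_bijective e.bijective) h1
  letI : Algebra K Γ(X, V) := ((f.appLE ⊤ V le_top).hom.comp e.toRingHom).toAlgebra
  haveI : Algebra.Smooth K Γ(X, V) := h2
  letI := X.presheaf.algebra_section_stalk (⟨ζ, hxV⟩ : V)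
  haveI := hVa.isLocalization_stalk ⟨ζ, hxV⟩
  refine Diag27.sig_cycle_of_smooth (K := K) (R := Γ(X, V)) (hVa.primeIdealOf ⟨ζ, hxV⟩).asIdeal _ _ _
    (by rw [Diag27.dim_stalk hd ζ, hn]) fun p hp1 hp2 hp3 => ?_
  have hsp : ∀ {ξ : X} (h : ξ ⤳ ζ), (Diag27.genPrime h).asIdeal ≤ p.asIdeal → ξ ⤳ X.fromSpecStalk ζ p := by
    intro ξ h hp
    have h2 := ((PrimeSpectrum.le_iff_specializes (Diag27.genPrime h) p).1 hp).map (X.fromSpecStalk ζ).continuous
    rwa [Diag27.fromSpecStalk_genPrime] at h2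
  have hle := hUVW _ (hsp hU hp1) (hsp hV hp2) (hsp hW hp3)
  have hP := Diag27.fromSpecStalk_specializes ζ p
  have e' := Diag27.eq_of_delta_le hd hP (by omega)
  rw [← Diag27.genPrime_fromSpecStalk p hP, Diag27.genPrime_congr e' hP (specializes_refl ζ), Diag27.genPrime_refl]


end Groth.Agent.S6450
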