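import Groth.Statements.S6471
import Groth.Agent.S6470
import Groth.Agent.Lib.Diag27.BaseChange
import Groth.Agent.Lib.Cyc26.Pull
import Groth.Agent.Lib.ModM1.Pull
-- import your own Groth.Agent.* helpers here

set_option autoImplicit false
universe u
open CategoryTheory CategoryTheory.Limits AlgebraicGeometry
attribute [local instance] HasDerivedCategory.standard
open IntMult

namespace Groth.Agent.S6471

/-- For a flat morphism f : X → Y between nonsingular varieties, with e = dim X − dim Y (every fibre
component has dimension e), and coherent O_Y-modules F, G whose supports have dimension at most r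
and s and meet in dimension at most r + s − dim Y, the cycles of the pulled-back modules,
[f^*F]_{r+e} and [f^*G]_{s+e}, meet properly, and pulling back the product [F]_r · [G]_s along f
gives their product: f^*([F]_r · [G]_s) = [f^*F]_{r+e} · [f^*G]_{s+e}, coefficientwise (f^* on
cycles is Cyc.pullFun with relative dimension e, f^* on modules is Mathlib's
Scheme.Modules.pullback). Here X is a nonsingular variety over the algebraically closed field K
(smooth, separated, quasi-compact, integral) with dimension function δ (transcendence degree over K,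
recorded by Cyc.DeltaCompat to Spec K with value 0, together with Cyc.IsSetup) and n = dim X = δ of
the generic point; cycles are coefficient functions X → ℤ, proper intersection is
IntMult.IntersectProperly and α · β is the Tor-formula intersection product on coefficient functions
(IntMult.interProd). The same holds for Y with δY and m = dim Y. -/
theorem result (K : Type u) [Field K] [IsAlgClosed K] (X Y : Scheme.{u}) (f : X ⟶ Y) (gX : X ⟶ Spec (CommRingCat.of K)) (gY : Y ⟶ Spec (CommRingCat.of K)) (hf : f ≫ gY = gX) [Smooth gX] [IsSeparated gX] [QuasiCompact gX] [IsIntegral X] [Smooth gY] [IsSeparated gY] [QuasiCompact gY] [IsIntegral Y] [Flat f] (δX : X → ℤ) (δY : Y → ℤ) (hX : Cyc.IsSetup X δX) (hY : Cyc.IsSetup Y δY) (hδX : Cyc.DeltaCompat gX δX (fun _ => 0)) (hδY : Cyc.DeltaCompat gY δY (fun _ => 0)) (hδ : Cyc.DeltaCompat f δX δY) (n m : ℤ) (hn : δX (genericPoint X) = n) (hm : δY (genericPoint Y) = m) (e : ℕ) (he : (e : ℤ) = n - m) (hrel : Cyc.HasRelDim f e) (F G : Y.Modules) (hF : Coh.IsCoh F) (hG : Coh.IsCoh G) (r s : ℤ) (hr : ∀ y : Y, Nontrivial (F.presheaf.stalk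 y) → δY y ≤ r) (hs : ∀ y : Y, Nontrivial (G.presheaf.stalk y) → δY y ≤ s) (hrs : ∀ y : Y, Nontrivial (F.presheaf.stalk y) → Nontrivial (G.presheaf.stalk y) → δY y ≤ r + s - m) : IntMult.IntersectProperly δX n (Cyc.sheafFun δX (r + e) ((Scheme.Modules.pullback f).obj F)) (Cyc.sheafFun δX (s + e) ((Scheme.Modules.pullback f).obj G)) ∧ Cyc.pullFun f δX δY e (IntMult.interProd δY m (Cyc.sheafFun δY r F) (Cyc.sheafFun δY s G)) = IntMult.interProd δX n (Cyc.sheafFun δX (r + e) ((Scheme.Modules.pullback f).obj F)) (Cyc.sheafFun δX (s + e) ((Scheme.Modules.pullback f).obj G)) := by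
  subst hf
  haveI : LocallyOfFiniteType f := locallyOfFiniteType_of_comp f gY
  have hle : ∀ x, δX x ≤ δY (f x) + e := fun x => by
    have h1 := UCat26.delta_eq_add_rd f hδ x
    have := Cyc26.rd_le_of_hasRelDim f hrel x
    omega
  have hnY := Groth.Agent.S6470.result K Y gY δY hY hδY m hm F G hF hG r s hr hs hrs
  have hnt : ∀ (E : Y.Modules) x, Nontrivial (((Scheme.Modules.pullback f).obj E).presheaf.stalk x) →
      Nontrivial (E.presheaf.stalk (f x)) := fun E x h => Cyc26.nontrivial_of_stalk_pullback f E x h
  have hnX := Groth.Agent.S6470.result K X (f ≫ gY) δX hX hδX n hn ((Scheme.Modules.pullback f).obj F)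
    ((Scheme.Modules.pullback f).obj G) (M1.isCoh_pullback f hF) (M1.isCoh_pullback f hG) (r + e) (s + e)
    (fun x h => by have := hr _ (hnt F x h); have := hle x; omega)
    (fun x h => by have := hs _ (hnt G x h); have := hle x; omega)
    (fun x h h' => by have := hrs _ (hnt F x h) (hnt G x h'); have := hle x; omega)
  refine ⟨hnX.1, funext fun x => ?_⟩
  rw [hnX.2 x, Cyc.pullFun, hnY.2 (f x)]
  have := hle x
  by_cases h1 : δX x = r + e + (s + e) - n
  · rw [if_pos h1]
    by_cases h2 : δY (f x) = r + s - m
    · rw [if_pos (show δX x = δY (f x) + e by omega), if_pos h2, Diag27.chi_pullback f F G x]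
    · rw [if_neg (show ¬ δX x = δY (f x) + e by omega)]
      have hnn : ¬ (Nontrivial (((Scheme.Modules.pullback f).obj F).presheaf.stalk x) ∧
          Nontrivial (((Scheme.Modules.pullback f).obj G).presheaf.stalk x)) := fun h => by
        have := hrs _ (hnt F x h.1) (hnt G x h.2)
        omega
      haveI : IsLocallyNoetherian X := hX.1
      by_cases hF' : Nontrivial (((Scheme.Modules.pullback f).obj F).presheaf.stalk x)
      · haveI := not_nontrivial_iff_subsingleton.1 fun h => hnn ⟨hF', h⟩
        rw [Diag27.chi_comm, Diag27.chi_eq_zero_of_subsingleton]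
      · haveI := not_nontrivial_iff_subsingleton.1 hF'
        rw [Diag27.chi_eq_zero_of_subsingleton]
  · rw [if_neg h1]
    split_ifs with h2 h3
    · omega
    · rw [zero_mul]
    · rfl


end Groth.Agent.S6471
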