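import Groth.Statements.S6451
import Groth.Agent.S6471
import Groth.Agent.Lib.Diag27.Linear
-- import your own Groth.Agent.* helpers here

set_option autoImplicit false
universe u
open CategoryTheory CategoryTheory.Limits AlgebraicGeometry
attribute [local instance] HasDerivedCategory.standard
open IntMult

namespace Groth.Agent.S6451

/-- For a flat morphism f : X → Y between nonsingular varieties, with e = dim X − dim Y (every fibre
component has dimension e), and for cycles α ∈ Z_r(Y) and β ∈ Z_s(Y) meeting properly, the flat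
pullbacks f^*α and f^*β again meet properly and pulling back commutes with the product: f^*(α · β) =
f^*α · f^*β, coefficientwise (flat pullback is Cyc.pullFun with relative dimension e). Here X is a
nonsingular variety over the algebraically closed field K (smooth, separated, quasi-compact,
integral) with dimension function δ (transcendence degree over K, recorded by Cyc.DeltaCompat to
Spec K with value 0, together with Cyc.IsSetup) and n = dim X = δ of the generic point; cycles are
Mathlib AlgebraicCycles with Cyc.Zk membership, proper intersection is IntMult.IntersectProperly and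
α · β is the Tor-formula intersection product on coefficient functions (IntMult.interProd). The same
holds for Y with δY and m = dim Y. -/
theorem result (K : Type u) [Field K] [IsAlgClosed K] (X Y : Scheme.{u}) (f : X ⟶ Y) (gX : X ⟶ Spec (CommRingCat.of K)) (gY : Y ⟶ Spec (CommRingCat.of K)) (hf : f ≫ gY = gX) [Smooth gX] [IsSeparated gX] [QuasiCompact gX] [IsIntegral X] [Smooth gY] [IsSeparated gY] [QuasiCompact gY] [IsIntegral Y] [Flat f] (δX : X → ℤ) (δY : Y → ℤ) (hX : Cyc.IsSetup X δX) (hY : Cyc.IsSetup Y δY) (hδX : Cyc.DeltaCompat gX δX (fun _ => 0)) (hδY : Cyc.DeltaCompat gY δY (fun _ => 0)) (hδ : Cyc.DeltaCompat f δX δY) (n m : ℤ) (hn : δX (genericPoint X) = n) (hm : δY (genericPoint Y) = m) (e : ℕ) (he : (e : ℤ) = n - m) (hrel : Cyc.HasRelDim f e) (r s : ℤ) (α β : AlgebraicCycle Y ℤ) (hα : α ∈ Cyc.Zk Y δY r) (hβ : β ∈ Cyc.Zk Y δY s) (hprop : IntMult.IntersectProperly δY m ⇑α ⇑β) : IntMult.IntersectProperly δX n (Cyc.pullFun f δX δY e ⇑α) (Cyc.pullFun f δX δY e ⇑β) ∧ Cyc.pullFun f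 δX δY e (IntMult.interProd δY m ⇑α ⇑β) = IntMult.interProd δX n (Cyc.pullFun f δX δY e ⇑α) (Cyc.pullFun f δX δY e ⇑β) := by
  classical
  subst hf
  haveI : LocallyOfFiniteType f := locallyOfFiniteType_of_comp f gY
  haveI : IsLocallyNoetherian X := hX.1
  haveI : IsLocallyNoetherian Y := hY.1
  haveI : CompactSpace Y := QuasiCompact.compactSpace_of_compactSpace gY
  haveI : IsNoetherian Y := {}
  have hle : ∀ x, δX x ≤ δY (f x) + e := fun x => by
    have h1 := UCat26.delta_eq_add_rd f hδ x
    have := Cyc26.rd_le_of_hasRelDim f hrel x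
    omega
  have hne : ∀ {g : Y → ℤ} {ξ : X}, Cyc.pullFun f δX δY e g ξ ≠ 0 → δX ξ = δY (f ξ) + e ∧ g (f ξ) ≠ 0 := by
    intro g ξ h
    unfold Cyc.pullFun at h
    split_ifs at h with hk
    · exact ⟨hk, left_ne_zero_of_mul h⟩
    · exact absurd rfl h
  refine ⟨fun ξ η x h1 h2 hξ hη => ?_, funext fun x => ?_⟩
  · obtain ⟨e1, a1⟩ := hne h1
    obtain ⟨e2, a2⟩ := hne h2
    have := hprop _ _ (f x) a1 a2 (hξ.map f.continuous) (hη.map f.continuous)
    have := hle x
    omega
  set S := (Cyc26Lim.finite_support α).toFinset with hS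
  set T := (Cyc26Lim.finite_support β).toFinset with hT
  have hPs : ∀ (ι : Finset Y) (c : Y → ℤ) (z : X),
      Cyc.pullFun f δX δY e (fun y => ∑ u ∈ ι, c u * Set.indicator {u} (1 : Y → ℤ) y) z =
        ∑ u ∈ ι, c u * Cyc.pullFun f δX δY e (Set.indicator {u} 1) z := by
    intro ι c z
    unfold Cyc.pullFun
    split_ifs with h
    · rw [Finset.sum_mul]
      exact Finset.sum_congr rfl fun u _ => by ring
    · simp
  have hind : ∀ u : Y, Cyc.sheafFun δY (δY u) (NumPoly18.ptMod u) = Set.indicator {u} 1 ∧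
      ∀ y, Nontrivial ((NumPoly18.ptMod u).presheaf.stalk y) → u ⤳ y := fun u => Diag27.sheafFun_ptMod hY.2.2 u
  have hdim : ∀ (u y : Y), Nontrivial ((NumPoly18.ptMod u).presheaf.stalk y) → δY y ≤ δY u := by
    intro u y h
    exact Diag27.delta_le (X := Y) (δ := δY) hY.2.2 ((hind u).2 y h)
  have hpull : ∀ u : Y, (∀ z, Nontrivial (((Scheme.Modules.pullback f).obj (NumPoly18.ptMod u)).presheaf.stalk z) →
      δX z ≤ δY u + e) ∧ Cyc.pullFun f δX δY e (Set.indicator {u} 1) =
      Cyc.sheafFun δX (δY u + e) ((Scheme.Modules.pullback f).obj (NumPoly18.ptMod u)) := fun u => by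
    have h := Cyc26.pullFun_sheafFun f hle (δY u) (NumPoly18.ptMod u) (hdim u)
    rw [(hind u).1] at h
    exact h
  have hfinX : ∀ u : Y, Diag27.FinAt x (Cyc.pullFun f δX δY e (Set.indicator {u} 1)) := fun u => by
    rw [(hpull u).2]
    exact Diag27.finAt_sheafFun hX.2.2 x _ (M1.isCoh_pullback f (NumPoly18.isCoh_ptMod u)) (hpull u).1
  have hfinY : ∀ u : Y, Diag27.FinAt (f x) (Set.indicator {u} (1 : Y → ℤ)) := fun u =>
    (Set.finite_singleton u).subset fun y hy => Set.mem_of_indicator_ne_zero hy.2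
  have hfinYs : ∀ (ι : Finset Y) (c : Y → ℤ), Diag27.FinAt (f x) (fun y => ∑ u ∈ ι, c u * Set.indicator {u} (1 : Y → ℤ) y) :=
    fun ι c => Diag27.finAt_sum _ ι c _ fun u _ => hfinY u
  have hfinXs : ∀ (ι : Finset Y) (c : Y → ℤ),
      Diag27.FinAt x (fun z => ∑ u ∈ ι, c u * Cyc.pullFun f δX δY e (Set.indicator {u} 1) z) :=
    fun ι c => Diag27.finAt_sum _ ι c _ fun u _ => hfinX u
  have key : ∀ u ∈ S, ∀ v ∈ T, Cyc.pullFun f δX δY e (IntMult.interProd δY m (Set.indicator {u} 1) (Set.indicator {v} 1)) x =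
      IntMult.interProd δX n (Cyc.pullFun f δX δY e (Set.indicator {u} 1)) (Cyc.pullFun f δX δY e (Set.indicator {v} 1)) x := by
    intro u hu v hv
    have hu' : α u ≠ 0 := (Cyc26Lim.finite_support α).mem_toFinset.1 hu
    have hv' : β v ≠ 0 := (Cyc26Lim.finite_support β).mem_toFinset.1 hv
    have h := (Groth.Agent.S6471.result K X Y f (f ≫ gY) gY rfl δX δY hX hY hδX hδY hδ n m hn hm e he hrel
      (NumPoly18.ptMod u) (NumPoly18.ptMod v) (NumPoly18.isCoh_ptMod u) (NumPoly18.isCoh_ptMod v) (δY u) (δY v)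
      (hdim u) (hdim v) fun y a b => hprop u v y hu' hv' ((hind u).2 y a) ((hind v).2 y b)).2
    rw [(hind u).1, (hind v).1, ← (hpull u).2, ← (hpull v).2] at h
    exact congrFun h x
  have ea := Diag27.cycle_eq_sum α
  have eb := Diag27.cycle_eq_sum β
  rw [ea, eb, funext (hPs S α), funext (hPs T β)]
  rw [Diag27.interProd_sum_left n x S α _ _ (fun u _ => hfinX u) (hfinXs T β)]
  have hY2 : ∀ u, IntMult.interProd δY m (Set.indicator {u} 1)
      (fun y => ∑ v ∈ T, β v * Set.indicator {v} (1 : Y → ℤ) y) (f x) =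
      ∑ v ∈ T, β v * IntMult.interProd δY m (Set.indicator {u} 1) (Set.indicator {v} 1) (f x) := fun u =>
    Diag27.interProd_sum_right m (f x) T β _ _ (hfinY u) (fun v _ => hfinY v)
  simp only [Diag27.interProd_sum_right n x T β _ _ (hfinX _) (fun v _ => hfinX v)]
  rw [Cyc.pullFun, Diag27.interProd_sum_left m (f x) S α _ _ (fun u _ => hfinY u) (hfinYs T β)]
  simp only [hY2, Finset.mul_sum]
  split_ifs with hcase
  · simp only [Finset.sum_mul]
    refine Finset.sum_congr rfl fun u hu => Finset.sum_congr rfl fun v hv => ?_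
    rw [← key u hu v hv, Cyc.pullFun, if_pos hcase]
    ring
  · refine (Finset.sum_eq_zero fun u hu => Finset.sum_eq_zero fun v hv => ?_).symm
    rw [← key u hu v hv, Cyc.pullFun, if_neg hcase, mul_zero, mul_zero]


end Groth.Agent.S6451
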