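import Groth.Statements.S6457
import Mathlib.AlgebraicGeometry.AlgebraicCycle.Basic
-- import your own Groth.Agent.* helpers here

set_option autoImplicit false
universe u
open CategoryTheory AlgebraicGeometry
open Cyc

namespace Groth.Agent.S6457

/-- Let f : X → Y be a quasi-compact morphism of schemes and {Z_i} a locally finite collection of closed
subsets of X. Then the closures of the images f(Z_i) form a locally finite collection of closed
subsets of Y. (The published statement takes X and Y locally of finite type over a base; this row
allows arbitrary schemes, only quasi-compactness of f being used.) -/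
theorem result (X Y : Scheme.{u}) (f : X ⟶ Y) [QuasiCompact f] (ι : Type u) (Z : ι → Set X) (hZ : ∀ i, IsClosed (Z i)) (hlf : LocallyFinite Z) : LocallyFinite (fun i => closure (f '' Z i)) := by
  intro y
  obtain ⟨W, hW⟩ := (PrespectralSpace.isTopologicalBasis (X := Y)).exists_subset_of_mem_open
    (by simp : y ∈ ⊤) (by simp)
  refine ⟨W, hW.1.1.mem_nhds hW.2.1, ?_⟩
  refine (hlf.finite_nonempty_inter_compact (f.isSpectralMap.2 hW.1.1 hW.1.2)).subset fun i hi => ?_
  obtain ⟨b, hb1, hb2⟩ := hi
  obtain ⟨c, hc, a, ha, rfl⟩ := mem_closure_iff.1 hb1 W hW.1.1 hb2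
  exact ⟨a, ha, hc⟩

end Groth.Agent.S6457
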