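import Groth.Statements.S6459
import Mathlib.AlgebraicGeometry.Properties
-- import your own Groth.Agent.* helpers here

set_option autoImplicit false
universe u
open CategoryTheory AlgebraicGeometry
open Cyc

namespace Groth.Agent.S6459

/-- (b) ⇔ (c): let X be integral with generic point η and Z ⊂ X an integral closed subscheme with
generic point ξ. Then Z has codimension 1 in X (the local ring O_{X,ξ} is one-dimensional; Z is a
prime divisor) if and only if dim_δ(Z) = dim_δ(X) − 1. Here a pair (X, δ) with Cyc.IsSetup plays the
role of a scheme locally of finite type over the base (S, δ) (X locally Noetherian with universally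
catenary local rings, δ a dimension function). -/
theorem result (X : Scheme.{u}) [IsIntegral X] (δ : X → ℤ) (hX : Cyc.IsSetup X δ) (ξ : X) : ringKrullDim ↑(X.presheaf.stalk ξ) = 1 ↔ δ ξ = δ (genericPoint X) - 1 := by
  obtain ⟨hN, -, hd⟩ := hX
  rw [AlgebraicGeometry.ringKrullDim_stalk_eq_coheight, WithBot.coe_eq_one]
  have htop : ∀ y : X, y ≤ genericPoint X := fun y => genericPoint_specializes y
  constructor
  · intro h1
    have hne : genericPoint X ≠ ξ := fun e => by
      have : Order.coheight ξ = 0 := Order.coheight_eq_zero.2 (e ▸ fun y _ => htop y)
      rw [h1] at this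
      exact one_ne_zero this
    obtain ⟨-, h⟩ := hd _ _ (genericPoint_specializes ξ) hne
    have := h fun z h2 h3 => by
      by_contra hz
      push Not at hz
      have hlt : ξ < z := lt_of_le_not_ge h3 fun h4 => hz.2 (Inseparable.eq (Specializes.antisymm (show ξ ⤳ z from h4) h3)).symm
      have hlt2 : z < genericPoint X := lt_of_le_not_ge h2 fun h4 => hz.1 (Inseparable.eq (Specializes.antisymm (show z ⤳ genericPoint X from h4) h2))
      have e1 := Order.coheight_add_one_le hlt
      have e2 := Order.coheight_add_one_le hlt2
      rw [h1] at e1
      have e3 : (1 : ℕ∞) + 1 ≤ 1 := (add_le_add_left (le_add_self.trans e2) 1).trans e1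
      exact absurd e3 (by decide)
    omega
  · intro hδ
    have hne : genericPoint X ≠ ξ := fun e => by rw [e] at hδ; omega
    have hmax : Order.coheight (genericPoint X) = 0 := Order.coheight_eq_zero.2 fun y _ => htop y
    have hlt : ξ < genericPoint X :=
      lt_of_le_not_ge (htop ξ) fun h => hne ((genericPoint_specializes ξ).antisymm h).eq
    refine le_antisymm ?_ (le_of_eq_of_le (by rw [hmax, zero_add]) (Order.coheight_add_one_le hlt))
    refine Order.coheight_le_coe_iff.2 fun y hy => ?_
    have hy' : y = genericPoint X := by
      by_contra hy2
      have h1 := (hd _ _ (show y ⤳ ξ from hy.le) fun e => hy.ne e.symm).1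
      have h2 := (hd _ _ (genericPoint_specializes y) fun e => hy2 e.symm).1
      omega
    rw [hy', hmax]
    exact zero_lt_one

end Groth.Agent.S6459
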