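import Groth.Statements.S6458
import Groth.Agent.S6459
import Mathlib.AlgebraicGeometry.FunctionField
import Mathlib.RingTheory.Ideal.KrullsHeightTheorem
import Mathlib.RingTheory.KrullDimension.Field
-- import your own Groth.Agent.* helpers here

set_option autoImplicit false
universe u
open CategoryTheory AlgebraicGeometry
open Cyc

namespace Groth.Agent.S6458

/-- Let X be integral with generic point η and ξ the generic point of an irreducible component of an
effective Cartier divisor on X; locally: g ∈ 𝔪_ξ ⊂ O_{X,ξ} is nonzero and O_{X,ξ}/(g) is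
zero-dimensional. Then dim_δ of the closure of ξ is dim_δ(X) − 1, i.e. δ(ξ) = δ(η) − 1. Here a pair
(X, δ) with Cyc.IsSetup plays the role of a scheme locally of finite type over the base (S, δ) (X
locally Noetherian with universally catenary local rings, δ a dimension function). -/
theorem result (X : Scheme.{u}) [IsIntegral X] (δ : X → ℤ) (hX : Cyc.IsSetup X δ) (ξ : X) (g : ↑(X.presheaf.stalk ξ)) (hg0 : g ≠ 0) (hgm : g ∈ IsLocalRing.maximalIdeal (X.presheaf.stalk ξ)) (hdim : ringKrullDim (↑(X.presheaf.stalk ξ) ⧸ Ideal.span {g}) = 0) : δ ξ = δ (genericPoint X) - 1 := by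
  haveI := hX.1
  haveI : IsNoetherianRing (X.presheaf.stalk ξ) := inferInstance
  refine (Groth.Agent.S6459.result X δ hX ξ).1 (le_antisymm ?_ ?_)
  · have hmin : IsLocalRing.maximalIdeal (X.presheaf.stalk ξ) ∈ (Ideal.span {g}).minimalPrimes := by
      refine ⟨⟨(IsLocalRing.maximalIdeal.isMaximal _).isPrime, (Ideal.span_singleton_le_iff_mem _).2 hgm⟩, fun p hp hle => ?_⟩
      obtain ⟨hpP, hpg⟩ := hp
      haveI : Nontrivial (X.presheaf.stalk ξ ⧸ Ideal.span {g}) :=
        Ideal.Quotient.nontrivial_iff.2 (ne_top_of_le_ne_top (IsLocalRing.maximalIdeal.isMaximal _).ne_top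
          ((Ideal.span_singleton_le_iff_mem _).2 hgm))
      haveI : Ring.KrullDimLE 0 (X.presheaf.stalk ξ ⧸ Ideal.span {g}) := Ring.krullDimLE_iff.2 hdim.le
      haveI hq : (p.map (Ideal.Quotient.mk (Ideal.span {g}))).IsPrime :=
        Ideal.map_isPrime_of_surjective Ideal.Quotient.mk_surjective (by rwa [Ideal.mk_ker])
      have hqmax : (p.map (Ideal.Quotient.mk (Ideal.span {g}))).IsMaximal := Ideal.isMaximal_of_isPrime _
      have hpmax : p.IsMaximal := by
        have := Ideal.comap_isMaximal_of_surjective _ Ideal.Quotient.mk_surjective (K := p.map (Ideal.Quotient.mk (Ideal.span {g})))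
        rwa [Ideal.comap_map_of_surjective _ Ideal.Quotient.mk_surjective, ← RingHom.ker_eq_comap_bot, Ideal.mk_ker,
          sup_eq_left.2 hpg] at this
      exact (IsLocalRing.eq_maximalIdeal hpmax).ge
    rw [← IsLocalRing.maximalIdeal_height_eq_ringKrullDim]
    exact_mod_cast Ideal.height_le_one_of_isPrincipal_of_mem_minimalPrimes _ _ hmin
  · rw [← not_lt]
    intro hlt
    haveI : Ring.KrullDimLE 0 (X.presheaf.stalk ξ) := by
      rw [Ring.krullDimLE_iff, AlgebraicGeometry.ringKrullDim_stalk_eq_coheight, Nat.cast_zero]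
      rw [AlgebraicGeometry.ringKrullDim_stalk_eq_coheight, ← WithBot.coe_one, WithBot.coe_lt_coe, Order.lt_one_iff] at hlt
      rw [hlt]; rfl
    haveI : (⊥ : Ideal (X.presheaf.stalk ξ)).IsPrime := Ideal.isPrime_bot
    haveI := Ideal.isMaximal_of_isPrime (⊥ : Ideal (X.presheaf.stalk ξ))
    rw [← IsLocalRing.eq_maximalIdeal this, Ideal.mem_bot] at hgm
    exact hg0 hgm

end Groth.Agent.S6458
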