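import Groth.Statements.S6460
import Mathlib.AlgebraicGeometry.Noetherian
import Mathlib.Topology.NoetherianSpace
-- import your own Groth.Agent.* helpers here

set_option autoImplicit false
universe u
open CategoryTheory AlgebraicGeometry
open Cyc

namespace Groth.Agent.S6460

/-- (3) ⇒ (1): suppose that for every x ∈ X there is an integer n_x with δ(ξ) = n_x for every generic
point ξ of an irreducible component of X containing x. Then X decomposes into open and closed
subschemes X_n (n ∈ ℤ) such that every irreducible component of X_n has δ-dimension n; stated as the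
existence of a locally constant c : X → ℤ with δ(ξ) = c(ξ) for every point ξ that is maximal under
specialization. (The converse implications are immediate and not stated.) Here a pair (X, δ) with
Cyc.IsSetup plays the role of a scheme locally of finite type over the base (S, δ) (X locally
Noetherian with universally catenary local rings, δ a dimension function). -/
theorem result (X : Scheme.{u}) (δ : X → ℤ) (hX : Cyc.IsSetup X δ) (h3 : ∀ x : X, ∃ n : ℤ, ∀ ξ : X, (∀ ξ' : X, ξ' ⤳ ξ → ξ' = ξ) → ξ ⤳ x → δ ξ = n) : ∃ c : X → ℤ, IsLocallyConstant c ∧ ∀ ξ : X, (∀ ξ' : X, ξ' ⤳ ξ → ξ' = ξ) → δ ξ = c ξ := by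
  choose n hn using h3
  obtain ⟨hN, -, hd⟩ := hX
  have hgen : ∀ x : X, ∃ ξ : X, (∀ ξ' : X, ξ' ⤳ ξ → ξ' = ξ) ∧ ξ ⤳ x := fun x => by
    have hc := irreducibleComponent_mem_irreducibleComponents x
    obtain ⟨ξ, hξ⟩ := QuasiSober.sober hc.1 isClosed_irreducibleComponent
    have hgp : closure {ξ} = irreducibleComponent x := hξ
    refine ⟨ξ, fun ξ' h => ?_, specializes_iff_mem_closure.2 (hgp ▸ mem_irreducibleComponent)⟩
    have hle : irreducibleComponent x ≤ closure {ξ'} := hgp ▸ specializes_iff_closure_subset.1 h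
    have heq := (hc.2 ⟨isIrreducible_singleton.closure.1, isIrreducible_singleton.closure.2⟩ hle).antisymm hle
    exact (specializes_iff_closure_subset.2 (hgp ▸ heq.le) |>.antisymm h |>.eq).symm
  refine ⟨n, ?_, fun ξ hξ => hn ξ ξ hξ specializes_rfl⟩
  rw [IsLocallyConstant.iff_exists_open]
  intro x
  obtain ⟨U, hU, hxU, -⟩ := exists_isAffineOpen_mem_and_subset (x := x) (U := ⊤) trivial
  haveI : IsNoetherianRing Γ(X, U) := IsLocallyNoetherian.component_noetherian ⟨U, hU⟩
  haveI hNS : TopologicalSpace.NoetherianSpace U := noetherianSpace_of_isAffineOpen U hU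
  let M := {ξ : X | (∀ ξ' : X, ξ' ⤳ ξ → ξ' = ξ) ∧ ξ ∈ U}
  have hM : M.Finite := by
    have hfin := TopologicalSpace.NoetherianSpace.finite_irreducibleComponents (α := U)
    refine Set.Finite.of_finite_image (f := fun ξ => {y : U | ξ ⤳ (y : X)}) (hfin.subset ?_) ?_
    · rintro _ ⟨ξ, ⟨hξ, hξU⟩, rfl⟩
      have e : {y : U | ξ ⤳ (y : X)} = closure {(⟨ξ, hξU⟩ : U)} := by
        ext y
        rw [← specializes_iff_mem_closure, subtype_specializes_iff]
        rfl
      show {y : U | ξ ⤳ (y : X)} ∈ irreducibleComponents U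
      rw [e]
      refine ⟨isIrreducible_singleton.closure, fun T hT hle => ?_⟩
      obtain ⟨η, hη⟩ := QuasiSober.sober hT.closure isClosed_closure
      have h1 : (η : U) ⤳ ⟨ξ, hξU⟩ := specializes_iff_mem_closure.2
        ((hη : closure {η} = closure T).symm ▸ subset_closure (hle (subset_closure rfl)))
      have h2 : η = ⟨ξ, hξU⟩ := Subtype.ext (hξ _ ((subtype_specializes_iff _ _).1 h1))
      intro t ht
      have h3 : t ∈ closure {η} := (hη : closure {η} = closure T).symm ▸ subset_closure ht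
      rwa [h2] at h3
    · intro a ha b hb e
      have h1 : a ⤳ b := (Set.ext_iff.1 e ⟨b, hb.2⟩).2 specializes_rfl
      exact hb.1 a h1
  let B := {ξ ∈ M | ¬ ξ ⤳ x}
  refine ⟨(U : Set X) \ ⋃ ξ ∈ B, closure {ξ},
    U.isOpen.sdiff ((hM.subset fun ξ h => h.1).isClosed_biUnion fun ξ _ => isClosed_closure), ⟨hxU, ?_⟩, fun y hy => ?_⟩
  · simp only [Set.mem_iUnion, not_exists]
    exact fun ξ hξ h => hξ.2 (specializes_iff_mem_closure.2 h)
  · obtain ⟨hyU, hyB⟩ := hy
    obtain ⟨ξ, hξ, hξy⟩ := hgen y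
    have hξU : ξ ∈ U := hξy.mem_open U.isOpen hyU
    have hξx : ξ ⤳ x := by
      by_contra h
      exact hyB (Set.mem_iUnion₂.2 ⟨ξ, ⟨⟨hξ, hξU⟩, h⟩, specializes_iff_mem_closure.1 hξy⟩)
    rw [← hn y ξ hξ hξy, hn x ξ hξ hξx]

end Groth.Agent.S6460
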