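import Groth.Statements.S6463
import Groth.Agent.Lib.Blanchard19
import Mathlib.AlgebraicGeometry.Morphisms.Proper

set_option autoImplicit false
universe u
open CategoryTheory CategoryTheory.Limits AlgebraicGeometry
open PicF

namespace Groth.Agent.S6463

/-- For a field k and a smooth projective curve X over k that has a k-rational point σ, the conditions
under which the Picard functor is computed through the section are met: f : X → Spec k is flat,
proper and of finite presentation with a section, and O_T → f_{T,*} O_{X_T} is an isomorphism for
every scheme T over k. Only the last assertion is stated (the others are part of the hypotheses or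
immediate): for every t : T → Spec k, the sheaf map of the base change X ×_k T → T is an
isomorphism. Proper replaces projective (they agree for curves over a field). -/
theorem result (k : Type u) [Field k] (X : Scheme.{u}) (f : X ⟶ Spec (CommRingCat.of k)) (hX : Curve.IsSmoothProperCurve k X f) (σ : Spec (CommRingCat.of k) ⟶ X) (hσ : σ ≫ f = 𝟙 (Spec (CommRingCat.of k))) (T : Scheme.{u}) (t : T ⟶ Spec (CommRingCat.of k)) : IsIso (pullback.snd f t).c := by
  obtain ⟨hprop, _, hint, _⟩ := hX
  haveI := hprop; haveI := hint
  have htop : Function.Bijective f.appTop := by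
    have hfi : ∀ r, σ.appTop (f.appTop r) = r := fun r => by
      have h := congrArg (fun φ => φ.hom r) ((Scheme.Hom.comp_appTop σ f).symm.trans (congrArg Scheme.Hom.appTop hσ))
      simpa using h
    haveI : Nontrivial Γ(Spec (CommRingCat.of k), ⊤) :=
      ((Scheme.ΓSpecIso (CommRingCat.of k)).commRingCatIsoToRingEquiv).toEquiv.nontrivial
    letI := (isField_of_universallyClosed k f).toField
    refine ⟨fun a b h => by rw [← hfi a, ← hfi b, h], fun a => ⟨σ.appTop a, ?_⟩⟩
    exact σ.appTop.hom.injective (hfi (σ.appTop a))
  have hbij : ∀ U : (Spec (CommRingCat.of k)).Opens, Function.Bijective (f.app U) := by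
    intro U
    rcases isEmpty_or_nonempty U with hU | ⟨⟨x, hx⟩⟩
    · have hU' : U = ⊥ := le_antisymm (fun y hy => (hU.false ⟨y, hy⟩).elim) bot_le
      subst hU'
      haveI : Subsingleton Γ(Spec (CommRingCat.of k), ⊥) := inferInstance
      haveI : Subsingleton Γ(X, f ⁻¹ᵁ ⊥) := by
        rw [Scheme.Hom.preimage_bot]; infer_instance
      exact ⟨fun a b _ => Subsingleton.elim a b, fun b => ⟨0, Subsingleton.elim _ _⟩⟩
    · have hU' : U = ⊤ := le_antisymm le_top fun y _ => Subsingleton.elim x y ▸ hx
      subst hU'; exact htop
  haveI : Flat t := inferInstance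
  have h := fun V => Groth.Agent.Blanchard19.bijective_app_of_isPullback (IsPullback.of_hasPullback f t) hbij V
  exact @NatIso.isIso_of_isIso_app _ _ _ _ _ _ (pullback.snd f t).c
    fun U => (ConcreteCategory.isIso_iff_bijective _).2 (h U.unop)

end Groth.Agent.S6463
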