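import Groth.Statements.S6465
import Groth.Agent.Lib.Cyc26.Gysin
import Groth.Agent.Lib.Cyc26.C1Push
-- import your own Groth.Agent.* helpers here

set_option autoImplicit false
universe u
open CategoryTheory AlgebraicGeometry
open Cyc

namespace Groth.Agent.S6465

/-- Let (L, s, i : D → X) be a triple defining a Gysin map. Then i^* i_* : CH_k(D) → CH_{k−1}(D) sends
the class of a k-cycle α on D to c_1(L|_D) ∩ α: the (k − 1)-cycle i^*(i_* α) is rationally
equivalent on D to c_1(i^*L) ∩ α computed with any nonzero rational sections. Here i : D → X is the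
zero scheme of a global section s of the invertible module L (Cyc.IsZeroSchemeOf), the Gysin map i^*
: Z_{k+1}(X) → CH_k(D) is computed on coefficient functions as c_1(L) ∩ − with the rational sections
taken to be s where it is nonzero and a nonzero fallback elsewhere (Cyc.gysinChoice), restricted to
the points of D, and classes on D are compared up to rational equivalence on D for the restricted
dimension function; (X, δ) with Cyc.IsSetup stands for a scheme locally of finite type over the base
(S, δ). -/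
theorem result (X D : Scheme.{u}) (δ : X → ℤ) (hX : Cyc.IsSetup X δ) (L : X.Modules) (hL : PicF.IsInvertible L) (s : L.presheaf.obj (Opposite.op ⊤)) (i : D ⟶ X) [IsClosedImmersion i] (hD : Cyc.IsZeroSchemeOf i L s) (k : ℤ) (α : AlgebraicCycle D ℤ) (hα : α ∈ Cyc.Zk D (fun d => δ (i d)) k) (w : (ξ : X) → Cyc.secFibre L ξ) (hw : ∀ ξ, w ξ ≠ 0) (t : (d : D) → Cyc.secFibre ((Scheme.Modules.pullback i).obj L) d) (ht : ∀ d, t d ≠ 0) (ζ₁ ζ₂ : AlgebraicCycle D ℤ) (h₁ : ∀ d, ζ₁ d = Cyc.c1CapFun δ L ⇑(AlgebraicCycle.map i (fun d => δ (i d)) δ α) (Cyc.gysinChoice L s w) (i d)) (h₂ : ⇑ζ₂ = Cyc.c1CapFun (fun d => δ (i d)) ((Scheme.Modules.pullback i).obj L) ⇑α t) : Cyc.RatEquiv (fun d => δ (i d)) (k - 1) ζ₁ ζ₂ := by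
  classical
  haveI := hX.1
  haveI : IsLocallyNoetherian D := LocallyOfFiniteType.isLocallyNoetherian i
  let δD : D → ℤ := fun d => δ (i d)
  have hdD : Cyc.IsDimFun D δD := Cyc26.isDimFun_closed i hX.2.2
  have hcomp : Cyc.DeltaCompat i δD δ := Cyc26.deltaCompat_closed i δ
  have hL' := Groth.Agent.Twist.isInvertible_pullback i hL
  obtain ⟨β, hβ⟩ := Cyc26.exists_cycle_c1Cap hL' hdD α (fun d => Cyc26.secPull_ne_zero i hL d (hw (i d)))
  have hmap := Cyc26.map_c1Cap_secPull i hdD hX.2.2 hcomp hL α w hw β hβ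
  have hat : ∀ (c : AlgebraicCycle D ℤ) (d : D), AlgebraicCycle.map i δD δ c (i d) = c d := fun c d => by
    rw [Cyc26.map_apply_eq_sum i δD δ c (i d) {d} (by simp)
        (fun z hz _ _ => Finset.mem_singleton.2 (i.isClosedEmbedding.injective hz)), Finset.sum_singleton,
        AlgebraicCycle.mapCoeff, if_pos rfl,
        Cyc26.residueDegree_of_bijective i d (Cyc26.residueFieldMap_bijective i d), Nat.cast_one, mul_one]
  have hzero : ∀ x, x ∉ Set.range i → AlgebraicCycle.map i δD δ α x = 0 := fun x hx => by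
    rw [Cyc26.map_apply_eq_sum i δD δ α x ∅ (by simp) (fun z hz _ _ => (hx ⟨z, hz⟩).elim), Finset.sum_empty]
  have key : ζ₁ = β := DFunLike.coe_injective (funext fun d => by
    rw [h₁ d, ← hat β d, congrFun hmap (i d)]
    refine finsum_congr fun x => ?_
    by_cases hx : x ∈ Set.range i
    · obtain ⟨e, rfl⟩ := hx
      rw [Cyc26.gysinChoice_of_mem hD]
    · rw [hzero x hx, zero_mul, zero_mul])
  subst key
  exact Cyc26.ratEquiv_c1Cap hL' (k := k - 1) (by rwa [sub_add_cancel])
    (fun d => Cyc26.secPull_ne_zero i hL d (hw (i d))) ht hβ h₂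

end Groth.Agent.S6465
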