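import Groth.Statements.S6467
import Groth.Agent.Lib.Vol26.Phi
import Groth.Agent.Lib.ModM1.Coh

set_option autoImplicit false
universe u
open CategoryTheory CategoryTheory.Limits AlgebraicGeometry
open Cyc

noncomputable section

namespace Groth.Agent.S6467

open Groth.Agent

variable {X : Scheme.{u}} {δ : X → ℤ} {F : X.Modules}

theorem image_seq (φ : F ⟶ F) :
    ∃ w, (ShortComplex.mk (kernel.ι φ) (Abelian.factorThruImage φ) w).ShortExact := by
  have w : kernel.ι φ ≫ Abelian.factorThruImage φ = 0 := by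
    rw [← cancel_mono (Abelian.image.ι φ), zero_comp, Category.assoc]
    exact (congrArg (kernel.ι φ ≫ ·) (Abelian.image.fac φ)).trans (kernel.condition φ)
  refine ⟨w, ?_⟩
  have he : (ShortComplex.mk (kernel.ι φ) φ (kernel.condition φ)).Exact :=
    ShortComplex.exact_of_f_is_kernel _ (kernelIsKernel φ)
  let m : ShortComplex.mk (kernel.ι φ) (Abelian.factorThruImage φ) w ⟶ ShortComplex.mk (kernel.ι φ) φ (kernel.condition φ) :=
    { τ₁ := 𝟙 _, τ₂ := 𝟙 _, τ₃ := Abelian.image.ι φ, comm₁₂ := by simp, comm₂₃ := by simp }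
  haveI : Epi m.τ₁ := inferInstanceAs (Epi (𝟙 _))
  haveI : IsIso m.τ₂ := inferInstanceAs (IsIso (𝟙 _))
  haveI : Mono m.τ₃ := inferInstanceAs (Mono (Abelian.image.ι φ))
  exact ShortComplex.ShortExact.mk' ((ShortComplex.exact_iff_of_epi_of_isIso_of_mono m).2 he) inferInstance inferInstance

theorem homology_seq (φ ψ : F ⟶ F) (h : φ ≫ ψ = 0) :
    ∃ (l : Abelian.image φ ⟶ kernel ψ) (π : kernel ψ ⟶ (ShortComplex.mk φ ψ h).homology) (w : l ≫ π = 0),
      (ShortComplex.mk l π w).ShortExact := by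
  set S := ShortComplex.mk φ ψ h
  have hι : Abelian.image.ι φ ≫ ψ = 0 := by
    rw [← cancel_epi (Abelian.factorThruImage φ), comp_zero, ← Category.assoc, Abelian.image.fac]
    exact h
  let l : Abelian.image φ ⟶ S.cycles := S.liftCycles (Abelian.image.ι φ) hι
  have hl : Abelian.factorThruImage φ ≫ l = S.toCycles := by
    rw [← cancel_mono S.iCycles, Category.assoc, S.toCycles_i, S.liftCycles_i]
    exact Abelian.image.fac φ
  have w : l ≫ S.homologyπ = 0 := by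
    rw [← cancel_epi (Abelian.factorThruImage φ), comp_zero, ← Category.assoc, hl, S.toCycles_comp_homologyπ]
  have he : (ShortComplex.mk S.toCycles S.homologyπ S.toCycles_comp_homologyπ).Exact :=
    ShortComplex.exact_of_g_is_cokernel _ S.homologyIsCokernel
  let m : ShortComplex.mk S.toCycles S.homologyπ S.toCycles_comp_homologyπ ⟶ ShortComplex.mk l S.homologyπ w :=
    { τ₁ := Abelian.factorThruImage φ, τ₂ := 𝟙 _, τ₃ := 𝟙 _, comm₁₂ := by simp [hl], comm₂₃ := by simp }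
  haveI : Epi m.τ₁ := inferInstanceAs (Epi (Abelian.factorThruImage φ))
  haveI : IsIso m.τ₂ := inferInstanceAs (IsIso (𝟙 _))
  haveI : Mono m.τ₃ := inferInstanceAs (Mono (𝟙 _))
  haveI : Mono l := mono_of_mono_fac (S.liftCycles_i (Abelian.image.ι φ) hι)
  have hse : (ShortComplex.mk l S.homologyπ w).ShortExact :=
    ShortComplex.ShortExact.mk' ((ShortComplex.exact_iff_of_epi_of_isIso_of_mono m).1 he) inferInstance inferInstance
  refine ⟨l ≫ S.cyclesIsoKernel.hom, S.cyclesIsoKernel.inv ≫ S.homologyπ,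
    by rw [Category.assoc, Iso.hom_inv_id_assoc, w], ?_⟩
  refine ShortComplex.shortExact_of_iso (ShortComplex.isoMk (Iso.refl (Abelian.image φ)) S.cyclesIsoKernel
    (Iso.refl S.homology) ?_ ?_) hse
  · show 𝟙 _ ≫ _ = l ≫ _
    rw [Category.id_comp]
  · show S.cyclesIsoKernel.hom ≫ S.cyclesIsoKernel.inv ≫ S.homologyπ = S.homologyπ ≫ 𝟙 _
    rw [Category.comp_id, Iso.hom_inv_id_assoc]

theorem isCoh_of_iso {M N : X.Modules} (e : M ≅ N) (h : Coh.IsCoh M) : Coh.IsCoh N :=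
  ⟨M1.isQCoh_of_isIso e h.1, M1.isFT_of_isIso e h.2⟩

theorem dim_of_shortExact {k : ℤ} {T : ShortComplex X.Modules} (hT : T.ShortExact)
    (h : ∀ x : X, Nontrivial (T.X₂.presheaf.stalk x) → δ x ≤ k) :
    (∀ x : X, Nontrivial (T.X₁.presheaf.stalk x) → δ x ≤ k) ∧ ∀ x : X, Nontrivial (T.X₃.presheaf.stalk x) → δ x ≤ k :=
  ⟨fun x hx => h x (haveI := hx; (Cyc26.stalkLin_exact hT x).1.nontrivial),
    fun x hx => h x (haveI := hx; (Cyc26.stalkLin_exact hT x).2.2.nontrivial)⟩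

variable [IsLocallyNoetherian X]

theorem phi_split (hd : Cyc.IsDimFun X δ) {k : ℤ} (hF : Coh.IsCoh F)
    (hdim : ∀ x : X, Nontrivial (F.presheaf.stalk x) → δ x ≤ k + 1) (φ ψ : F ⟶ F) (h : φ ≫ ψ = 0)
    (h0 : ∀ x : X, Nontrivial ((ShortComplex.mk φ ψ h).homology.presheaf.stalk x) → δ x ≤ k) :
    ∃ (hI : Coh.IsCoh (Abelian.image φ)) (hK : Coh.IsCoh (kernel ψ))
      (dI : ∀ x : X, Nontrivial ((Abelian.image φ).presheaf.stalk x) → δ x ≤ k + 1)
      (dK : ∀ x : X, Nontrivial ((kernel ψ).presheaf.stalk x) → δ x ≤ k + 1)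
      (hKφ : Coh.IsCoh (kernel φ)) (dKφ : ∀ x : X, Nontrivial ((kernel φ).presheaf.stalk x) → δ x ≤ k + 1),
      Vol26.Phi hd hF hdim = Vol26.Phi hd hKφ dKφ + Vol26.Phi hd hI dI ∧
      Vol26.Phi hd hK dK = Vol26.Phi hd hI dI + QuotientAddGroup.mk (Cyc.sheafFun δ k (ShortComplex.mk φ ψ h).homology) := by
  set S := ShortComplex.mk φ ψ h
  obtain ⟨wa, ha⟩ := image_seq φ
  obtain ⟨l, π, w, hb⟩ := homology_seq φ ψ h
  have hKφ := M1.isCoh_kernel hF hF.1 φ
  have hK := M1.isCoh_kernel hF hF.1 ψ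
  have hI : Coh.IsCoh (Abelian.image φ) :=
    isCoh_of_iso (Abelian.coimageIsoImage φ) (M1.isCoh_cokernel hKφ.1 hF (kernel.ι φ))
  have hH : Coh.IsCoh S.homology :=
    isCoh_of_iso ((cokernelIsCokernel l).coconePointUniqueUpToIso hb.gIsCokernel)
      (M1.isCoh_cokernel hI.1 hK l)
  obtain ⟨dKφ, dI⟩ := dim_of_shortExact ha (k := k + 1) hdim
  obtain ⟨wψ, hψ⟩ := image_seq ψ
  obtain ⟨dK, -⟩ := dim_of_shortExact hψ (k := k + 1) hdim
  refine ⟨hI, hK, dI, dK, hKφ, dKφ, Vol26.Phi_shortExact hd ha hKφ hF hI dKφ hdim dI, ?_⟩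
  have dH : ∀ x : X, Nontrivial (S.homology.presheaf.stalk x) → δ x ≤ k + 1 := fun x hx =>
    (h0 x hx).trans (by omega)
  rw [Vol26.Phi_shortExact hd hb hI hK hH dI dK dH]
  congr 1
  show QuotientAddGroup.mk (Vol26.phiFun hd hH dH) = _
  rw [Vol26.phiFun_eq_sheafFun hd hH dH h0]

/-- Let F be a coherent O_X-module with dim_δ Supp(F) ≤ k + 1 and φ, ψ : F → F with φ ∘ ψ = 0 = ψ ∘ φ (a
2-periodic complex) whose cohomology sheaves H^0 = ker ψ / im φ and H^1 = ker φ / im ψ (for the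
complex … → F →^φ F →^ψ F →^φ F → …) are supported in δ-dimension ≤ k. Then [H^0]_k ∼_rat [H^1]_k as
k-cycles on X (for any cycles with these coefficient functions, Cyc.sheafFun). Support conditions
are phrased through nontrivial stalks. Here a pair (X, δ) with Cyc.IsSetup plays the role of a
scheme locally of finite type over the base (S, δ) (X locally Noetherian with universally catenary
local rings, δ a dimension function). -/
theorem result (X : Scheme.{u}) (δ : X → ℤ) (hX : Cyc.IsSetup X δ) (k : ℤ) (F : X.Modules) (hF : Coh.IsCoh F) (hdim : ∀ x : X, Nontrivial (F.presheaf.stalk x) → δ x ≤ k + 1) (φ ψ : F ⟶ F) (hφψ : φ ≫ ψ = 0) (hψφ : ψ ≫ φ = 0) (h0 : ∀ x : X, Nontrivial ((ShortComplex.mk φ ψ hφψ).homology.presheaf.stalk x) → δ x ≤ k) (h1 : ∀ x : X, Nontrivial ((ShortComplex.mk ψ φ hψφ).homology.presheaf.stalk x) → δ x ≤ k) (γ₀ γ₁ : AlgebraicCycle X ℤ) (hγ₀ : ⇑γ₀ = Cyc.sheafFun δ k (ShortComplex.mk φ ψ hφψ).homology)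 (hγ₁ : ⇑γ₁ = Cyc.sheafFun δ k (ShortComplex.mk ψ φ hψφ).homology) : Cyc.RatEquiv δ k γ₀ γ₁ := by
  haveI := hX.1
  obtain ⟨hI, hK, dI, dK, hKφ, dKφ, e1, e2⟩ := phi_split hX.2.2 hF hdim φ ψ hφψ h0
  obtain ⟨hI', hK', dI', dK', hKψ, dKψ, e1', e2'⟩ := phi_split hX.2.2 hF hdim ψ φ hψφ h1
  have hz : (QuotientAddGroup.mk (Cyc.sheafFun δ k (ShortComplex.mk φ ψ hφψ).homology) : (X → ℤ) ⧸ Vol26.ratSub δ k) =
      QuotientAddGroup.mk (Cyc.sheafFun δ k (ShortComplex.mk ψ φ hψφ).homology) := by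
    have e := e1.symm.trans e1'
    rw [show Vol26.Phi hX.2.2 hKφ dKφ = Vol26.Phi hX.2.2 hK' dK' from rfl,
      show Vol26.Phi hX.2.2 hKψ dKψ = Vol26.Phi hX.2.2 hK dK from rfl, e2, e2', add_comm (Vol26.Phi _ _ _ + _),
      add_comm (Vol26.Phi hX.2.2 hI dI + _), ← add_assoc, ← add_assoc,
      add_comm (Vol26.Phi hX.2.2 hI' dI') (Vol26.Phi hX.2.2 hI dI), add_right_inj] at e
    exact e.symm
  refine Cyc26.RatFun.ratEquivZero ((QuotientAddGroup.eq_iff_sub_mem).1 hz) fun x => ?_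
  show γ₀ x - γ₁ x = _
  rw [hγ₀, hγ₁]
  rfl

end Groth.Agent.S6467
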