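import Groth.Statements.S6468
import Groth.Agent.Lib.Vol26.Phi
import Groth.Agent.Lib.Vol26.CycleSheaf
import Groth.Prelude.Def_ChowOps

set_option autoImplicit false
universe u
open CategoryTheory AlgebraicGeometry
open Cyc

noncomputable section

namespace Groth.Agent.S6468

open Groth.Agent

variable {X : Scheme.{u}} [IsLocallyNoetherian X] {δ : X → ℤ} (hd : Cyc.IsDimFun X δ) {k : ℤ}

/-- The class map on the K-group of coherent sheaves of dimension at most `k + 1`. -/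
def phiK : KZero.K0sub (Cyc.CohLe δ (k + 1) : ObjectProperty X.Modules) →+ (X → ℤ) ⧸ Vol26.ratSub δ k :=
  QuotientAddGroup.lift _ (FreeAbelianGroup.lift fun F => Vol26.Phi hd F.2.1 F.2.2) (by
    refine (AddSubgroup.closure_le _).2 ?_
    rintro _ ⟨T, h₁, h₂, h₃, hT, rfl⟩
    show FreeAbelianGroup.lift _ _ = 0
    rw [map_sub, map_sub, FreeAbelianGroup.lift_apply_of, FreeAbelianGroup.lift_apply_of, FreeAbelianGroup.lift_apply_of,
      Vol26.Phi_shortExact hd hT h₁.1 h₂.1 h₃.1 h₁.2 h₂.2 h₃.2]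
    abel)

theorem phiK_clSub {F : X.Modules} (hF : Cyc.CohLe δ k F) :
    phiK hd (KZero.clSub (Cyc.CohLe δ (k + 1)) F) = QuotientAddGroup.mk (Cyc.sheafFun δ k F) := by
  have h' : Cyc.CohLe δ (k + 1) F := ⟨hF.1, fun x hx => (hF.2 x hx).trans (by omega)⟩
  rw [KZero.clSub, dif_pos h']
  show FreeAbelianGroup.lift _ (FreeAbelianGroup.of _) = _
  rw [FreeAbelianGroup.lift_apply_of, Vol26.Phi, Vol26.phiFun_eq_sheafFun hd hF.1 h'.2 hF.2]

include hd in
theorem phiK_eq {F G : X.Modules} (hF : Cyc.CohLe δ k F) (hG : Cyc.CohLe δ k G)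
    (h : Cyc.toK0CohQuot δ (k + 1) (k - 1) F = Cyc.toK0CohQuot δ (k + 1) (k - 1) G) :
    Cyc.sheafFun δ k F - Cyc.sheafFun δ k G ∈ Vol26.ratSub δ k := by
  have h' := (QuotientAddGroup.eq_iff_sub_mem).1 h
  have hker : AddSubgroup.closure {c : KZero.K0sub (Cyc.CohLe δ (k + 1) : ObjectProperty X.Modules) |
      ∃ E : X.Modules, Cyc.CohLe δ (k - 1) E ∧ c = KZero.clSub (Cyc.CohLe δ (k + 1)) E} ≤ (phiK hd).ker := by
    refine (AddSubgroup.closure_le _).2 ?_
    rintro _ ⟨E, hE, rfl⟩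
    show phiK hd _ = 0
    rw [phiK_clSub hd ⟨hE.1, fun x hx => (hE.2 x hx).trans (by omega)⟩, show Cyc.sheafFun δ k E = 0 from ?_]
    · rfl
    funext x
    simp only [Cyc.sheafFun]
    split_ifs with hx
    · haveI : Subsingleton (E.presheaf.stalk x) := not_nontrivial_iff_subsingleton.1 fun hn => by
        have := hE.2 x hn
        omega
      rw [Module.length_eq_zero_iff.2 inferInstance]
      rfl
    · rfl
  have h2 : phiK hd (_ - _) = 0 := hker h'
  rw [map_sub, phiK_clSub hd hF, phiK_clSub hd hG, sub_eq_zero] at h2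
  exact (QuotientAddGroup.eq_iff_sub_mem).1 h2

/-- The map CH_k(X) → K_0(Coh_{≤k+1}(X)/Coh_{≤k−1}(X)) is a bijection onto its image B_k(X); the content
beyond well-definedness is: if a k-cycle α = Σ n_Z [Z] has [⊕_{n_Z>0} O_Z^{n_Z}] = [⊕_{n_Z<0}
O_Z^{−n_Z}] in K_0(Coh_{≤k+1}(X)/Coh_{≤k−1}(X)) then α ∼_rat 0. K_0 of the Serre quotient is
modelled as K_0(Coh_{≤k+1}) modulo the classes of Coh_{≤k−1} (Cyc.K0CohQuot), O_Z is the
pushed-forward structure sheaf of the reduced closure of the generic point (Cyc.cycleSheafPos/Neg).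
Here a pair (X, δ) with Cyc.IsSetup plays the role of a scheme locally of finite type over the base
(S, δ) (X locally Noetherian with universally catenary local rings, δ a dimension function). -/
theorem result (X : Scheme.{u}) (δ : X → ℤ) (hX : Cyc.IsSetup X δ) (k : ℤ) (α : AlgebraicCycle X ℤ) (hα : α ∈ Cyc.Zk X δ k) (h : Cyc.toK0CohQuot δ (k + 1) (k - 1) (Cyc.cycleSheafPos ⇑α) = Cyc.toK0CohQuot δ (k + 1) (k - 1) (Cyc.cycleSheafNeg ⇑α)) : Cyc.RatEquivZero δ k α := by
  classical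
  haveI := hX.1
  have hn : -α ∈ Cyc.Zk X δ k := (ChowOps.zk X δ k).neg_mem hα
  obtain ⟨hP, ePos⟩ := Vol26.cycleSheafPos_spec hX.2.2 α hα
  obtain ⟨hN, eNeg⟩ := Vol26.cycleSheafPos_spec hX.2.2 (-α) hn
  rw [Cyc.cycleSheafNeg, show -(⇑α) = ⇑(-α) from rfl] at h
  have hm := phiK_eq hX.2.2 hP hN h
  rw [ePos, eNeg] at hm
  refine Cyc26.RatFun.ratEquivZero hm fun x => ?_
  show α x = (if 0 < α x then α x else 0) - (if 0 < (-α) x then (-α) x else 0)
  rw [show (-α) x = -(α x) from rfl]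
  split_ifs <;> omega

end Groth.Agent.S6468
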