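import Groth.Statements.S6469
import Groth.Agent.Lib.Vol26.K0Twist
import Groth.Agent.Lib.Cyc26.C1Apps

set_option autoImplicit false
universe u
open CategoryTheory AlgebraicGeometry
open Cyc

set_option backward.isDefEq.respectTransparency false
set_option backward.isDefEq.respectTransparency.types false
set_option maxHeartbeats 1000000

namespace Groth.Agent.S6469

open CategoryTheory.Limits TopologicalSpace Groth.Agent.Vol26
open CurveCoh17 (stalkLin)



/-- Let L be invertible and F coherent with dim_δ Supp(F) ≤ k + 1. Then [F ⊗ L] − [F] ∈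
K_0(Coh_{≤k+1}(X)/Coh_{≤k−1}(X)) lies in the image B_k(X) of K_0(Coh_{≤k}/Coh_{≤k−1}) and
corresponds to c_1(L) ∩ [F]_{k+1} under B_k(X) ≅ CH_k(X): for any k-cycle γ with the coefficients of
c_1(L) ∩ [F]_{k+1} (any nonzero rational sections), [F ⊗ L] − [F] = [⊕_{n_Z>0} O_Z^{n_Z}] −
[⊕_{n_Z<0} O_Z^{−n_Z}] where γ = Σ n_Z [Z]. Tensor product: CohB1.tensorMod; K_0 model:
Cyc.K0CohQuot. Here a pair (X, δ) with Cyc.IsSetup plays the role of a scheme locally of finite type
over the base (S, δ) (X locally Noetherian with universally catenary local rings, δ a dimension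
function). -/
theorem result (X : Scheme.{u}) (δ : X → ℤ) (hX : Cyc.IsSetup X δ) (k : ℤ) (L : X.Modules) (hL : PicF.IsInvertible L) (F : X.Modules) (hF : Coh.IsCoh F) (hdim : ∀ x : X, Nontrivial (F.presheaf.stalk x) → δ x ≤ k + 1) (s : (ξ : X) → Cyc.secFibre L ξ) (hs : ∀ ξ, s ξ ≠ 0) (γ : AlgebraicCycle X ℤ) (hγk : γ ∈ Cyc.Zk X δ k) (hγ : ⇑γ = Cyc.c1CapFun δ L (Cyc.sheafFun δ (k + 1) F) s) : Cyc.toK0CohQuot δ (k + 1) (k - 1) (CohB1.tensorMod F L) - Cyc.toK0CohQuot δ (k + 1) (k - 1) F = Cyc.toK0CohQuot δ (k + 1) (k - 1) (Cyc.cycleSheafPos ⇑γ) - Cyc.toK0CohQuot δ (k + 1) (k - 1) (Cyc.cycleSheafNeg ⇑γ) := by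
  obtain ⟨hN, -, hd⟩ := hX
  classical
  set a := Cyc.sheafFun δ (k + 1) F with ha_def
  have hFk : Cyc.CohLe δ (k + 1) F := ⟨hF, hdim⟩
  let J : Type u := Σ ζ : {ζ : X // 0 < a ζ}, Fin (a ζ.1).toNat
  let ξ : J → X := fun j => j.1.1
  have hξ : ∀ j, δ (ξ j) = k + 1 := fun j => by
    have h : 0 < a (ξ j) := j.1.2
    simp only [ha_def, Cyc.sheafFun] at h
    split_ifs at h with hk
    · exact hk
    · exact absurd h (lt_irrefl 0)
  have hlf : ∀ x : X, ∃ W : Set X, IsOpen W ∧ x ∈ W ∧ {j | ξ j ∈ W}.Finite := fun x => by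
    obtain ⟨W, hW, hx, hfin⟩ := exists_nhd_finite hd hFk x
    refine ⟨W, hW, hx, ((hfin.preimage (Subtype.val_injective (p := fun ζ => 0 < a ζ)).injOn).biUnion
      fun ζ _ => Set.finite_range fun n => (⟨ζ, n⟩ : J)).subset fun j hj => ?_⟩
    refine Set.mem_biUnion (x := j.1) ⟨hξ j, not_subsingleton_iff_nontrivial.1 fun hn => ?_, hj⟩ ⟨j.2, rfl⟩
    have h : 0 < a (ξ j) := j.1.2
    rw [ha_def, sheafFun_eq_lenAt (hξ j), lenAt, Module.length_eq_zero_iff.2 hn] at h
    exact lt_irrefl 0 h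
  let G : J → X.Modules := fun j => Cyc.closureStructureSheaf (ξ j)
  let G' : J → X.Modules := fun j => CohB1.tensorMod (G j) L
  have hG : ∀ j, Coh.IsCoh (G j) := fun j => isCoh_closureStructureSheaf _
  have sG : ∀ j, SuppPt (ξ j) (G j) := fun j => suppPt_closureStructureSheaf _
  have hG' : ∀ j, Coh.IsCoh (G' j) := fun j => CurveCoh17.isCoh_tensor (hG j) (Snapper.isCoh_of_isInvertible hL)
  have sG' : ∀ j, SuppPt (ξ j) (G' j) := fun j => suppPt_tensor hL (sG j)
  choose g hg hgmax using fun j => exists_gen_closureStructureSheaf (ξ j)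
  choose σ hσ using fun j => Submodule.Quotient.mk_surjective _ (s (ξ j))
  have hσgen : ∀ j, Amp.Gen (σ j) := fun j => by
    obtain ⟨a₀, ha₀⟩ := Cyc26.exists_gen hL (ξ j)
    obtain ⟨c, hc⟩ := ha₀.2 (σ j)
    have hc' : c • a₀ = σ j := hc
    have hu : IsUnit c := IsLocalRing.notMem_maximalIdeal.1 fun h => hs (ξ j) (by
      rw [← hσ j, ← hc', Submodule.Quotient.mk_smul]
      exact Cyc26.smul_eq_zero_of_residue ((IsLocalRing.residue_eq_zero_iff _).2 h) _)
    show Function.Bijective fun r : X.presheaf.stalk (ξ j) => r • σ j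
    rw [← hc']
    simp only [smul_smul]
    exact ha₀.comp ⟨fun p q h => hu.mul_left_injective h, fun p => ⟨p * hu.unit⁻¹.val, by
      simp [mul_assoc, IsUnit.val_inv_mul]⟩⟩
  let θ : ∀ j, (G j).presheaf.stalk (ξ j) →ₗ[X.presheaf.stalk (ξ j)] (G' j).presheaf.stalk (ξ j) := fun j =>
    { toFun := fun m => Cyc26.tstalk (G j) L (ξ j) m (σ j)
      map_add' := fun m m' => by simp only [Cyc26.tstalk, TensorProduct.add_tmul, map_add]
      map_smul' := fun r m => Cyc26.tstalk_smul_left _ r m (σ j) }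
  choose N a' b hN' sN ha hab using fun j => exists_graph (hG j) (hG' j) (sG j) (sG' j) (θ j)
  have hb : ∀ j, Function.Bijective (stalkLin (b j) (ξ j)) := fun j => by
    have e : ⇑(stalkLin (b j) (ξ j)) = (fun m => Cyc26.tstalk (G j) L (ξ j) m (σ j)) ∘ stalkLin (a' j) (ξ j) :=
      funext (hab j)
    rw [e]
    exact (Cyc26.bijective_tstalk_gen (hσgen j)).comp (ha j)
  have hloc : ∀ j, indexFun δ k (b j) - indexFun δ k (a' j) = Cyc.secDivFun δ L (ξ j) (s (ξ j)) := fun j => by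
    refine indexFun_sub hd (hξ j) (a' j) (b j) (sN j) (sG j) (sG' j) (fun x hx => dif_neg hx) fun x h hδ => ?_
    obtain ⟨ax, hax⟩ := Cyc26.exists_gen hL x
    have haxξ := Cyc26.gen_stalkSpecializes hL h hax
    obtain ⟨t, ht⟩ := haxξ.2 (σ j)
    have ht' : t • L.presheaf.stalkSpecializes h ax = σ j := ht
    have hst : s (ξ j) = t • Cyc26.fmk L (ξ j) (L.presheaf.stalkSpecializes h ax) := by
      rw [← hσ j, ← ht']
      rfl
    have ht0 : X.residue (ξ j) t ≠ 0 := fun h0 => hs (ξ j) (by rw [hst]; exact Cyc26.smul_eq_zero_of_residue h0 _)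
    have hdiv : Cyc.secDivFun δ L (ξ j) (s (ξ j)) x = Cyc.ordAt x (ξ j) h (X.residue (ξ j) t) := by
      rw [Cyc.secDivFun, dif_pos ⟨h, hδ⟩, hst, Cyc26.secOrdAt_gen hL h hax t ht0]
    rw [hdiv]
    have hsp : (G' j).presheaf.stalkSpecializes h (Cyc26.tstalk (G j) L x (g j x h) ax) =
        Cyc26.tstalk (G j) L (ξ j) ((G j).presheaf.stalkSpecializes h (g j x h)) (L.presheaf.stalkSpecializes h ax) :=
      Cyc26.tstalk_stalkSpecializes h _ _
    have hzero : ∀ (y : X) (c : L.presheaf.stalk y), Cyc26.tstalk (G j) L y 0 c = 0 := fun y c => by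
      simp [Cyc26.tstalk]
    refine local_index hd h hδ (hN' j).1 (a' j) (b j) (ha j) (gx := g j x h)
      (gx' := Cyc26.tstalk (G j) L x (g j x h) ax) ((hg j).surj x h) (fun m => ?_) ((hg j).ann x h) (fun r => ?_)
      (fun r => (hgmax j x h r).1) (fun r hr => (hgmax j x h r).1 ?_) ht0 fun w r hw => ?_
    · obtain ⟨n, hn⟩ := (Cyc26.bijective_tstalk_gen (G := G j) hax).2 m
      obtain ⟨r, rfl⟩ := (hg j).surj x h n
      exact ⟨r, (Cyc26.tstalk_smul_left x r _ ax).symm.trans hn⟩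
    · refine Iff.trans ?_ ((hg j).ann x h r)
      rw [← Cyc26.tstalk_smul_left, ← hzero x ax]
      exact (Cyc26.bijective_tstalk_gen (G := G j) hax).1.eq_iff
    · rw [hsp, ← Cyc26.tstalk_smul_left, ← hzero (ξ j) (L.presheaf.stalkSpecializes h ax)] at hr
      exact (Cyc26.bijective_tstalk_gen (G := G j) haxξ).1 hr
    · rw [hab, hsp]
      show Cyc26.tstalk (G j) L (ξ j) (stalkLin (a' j) (ξ j) w) (σ j) = _
      rw [hw, ← ht', Cyc26.tstalk_smul_left, Cyc26.tstalk_smul_right, smul_smul]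
  have hsumγ : ∀ x, γ x = ∑ᶠ j, (indexFun δ k (b j) - indexFun δ k (a' j)) x := fun x => by
    simp only [hloc]
    rw [hγ]
    show ∑ᶠ ζ : X, a ζ * Cyc.secDivFun δ L ζ (s ζ) x = _
    obtain ⟨W, hW, hx, hfinW⟩ := exists_nhd_finite hd hFk x
    have hin : ∀ ζ, Cyc.secDivFun δ L ζ (s ζ) x ≠ 0 → ζ ∈ W := fun ζ h =>
      (Cyc26.specializes_of_secDivFun_ne_zero h).1.mem_open hW hx
    have hT : Set.Finite {ζ : {ζ : X // 0 < a ζ} | ζ.1 ∈ W} :=
      (hfinW.preimage (Subtype.val_injective (p := fun ζ => 0 < a ζ)).injOn).subset fun ζ hζ => by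
        have h : 0 < a ζ.1 := ζ.2
        simp only [ha_def, Cyc.sheafFun] at h
        split_ifs at h with hk
        · refine ⟨hk, not_subsingleton_iff_nontrivial.1 fun hn => ?_, hζ⟩
          rw [Module.length_eq_zero_iff.2 hn] at h
          exact lt_irrefl 0 h
        · exact absurd h (lt_irrefl 0)
    have hnn : ∀ ζ, a ζ ≠ 0 → 0 < a ζ := fun ζ h => lt_of_le_of_ne (sheafFun_nonneg (k + 1) F ζ) (Ne.symm h)
    rw [finsum_eq_sum_of_support_subset (fun ζ => a ζ * Cyc.secDivFun δ L ζ (s ζ) x)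
        (s := hT.toFinset.map (Function.Embedding.subtype _)) fun ζ hζ => ?_,
      finsum_eq_sum_of_support_subset (fun j : J => Cyc.secDivFun δ L (ξ j) (s (ξ j)) x)
        (s := hT.toFinset.sigma fun ζ => (Finset.univ : Finset (Fin (a ζ.1).toNat))) fun j hj => ?_,
      Finset.sum_map, Finset.sum_sigma]
    · refine Finset.sum_congr rfl fun ζ _ => ?_
      simp only [Function.Embedding.subtype_apply, ξ, Finset.sum_const, Finset.card_univ, Fintype.card_fin,
        nsmul_eq_mul]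
      rw [Int.toNat_of_nonneg ζ.2.le]
    · rw [Finset.coe_sigma]
      exact ⟨hT.mem_toFinset.2 (hin _ hj), Finset.mem_coe.2 (Finset.mem_univ _)⟩
    · rw [Function.mem_support] at hζ
      exact Finset.mem_map.2 ⟨⟨ζ, hnn ζ (left_ne_zero_of_mul hζ)⟩,
        hT.mem_toFinset.2 (hin ζ (right_ne_zero_of_mul hζ)), rfl⟩
  have hT := (isChar_twist (δ := δ) (k := k) hd hL).eq_cycleSheaf hd hFk
  have key := zigzag_class hd ξ hξ hlf G G' N hG hG' hN' sG sG' sN a' b ha hb γ hγk hsumγ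
  have cG : Cyc.CohLe δ (k + 1) (∐ G) := cohLe_sigma (locFin_of ξ sG fun x => by
      obtain ⟨W, hW, hx, hfin⟩ := hlf x
      exact ⟨W, hW, hx, hfin.subset fun j hj => hj.1⟩) fun j => cohLe_of_suppPt hd (hG j) (sG j) (hξ j).le
  have cG' : Cyc.CohLe δ (k + 1) (∐ G') := cohLe_sigma (locFin_of ξ sG' fun x => by
      obtain ⟨W, hW, hx, hfin⟩ := hlf x
      exact ⟨W, hW, hx, hfin.subset fun j hj => hj.1⟩) fun j => cohLe_of_suppPt hd (hG' j) (sG' j) (hξ j).le
  haveI : IsIso (Sigma.desc fun j => (M2.tensorR L).map (Sigma.ι G j) : ∐ G' ⟶ CohB1.tensorMod (∐ G) L) :=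
    (M1.isIso_iff_stalk _).2 fun y => bijective_stalk_sigma_tensor G hL y
  have hiso := toK0_iso (δ := δ) (a := k + 1) (b := k - 1)
    (Sigma.desc fun j => (M2.tensorR L).map (Sigma.ι G j) : ∐ G' ⟶ CohB1.tensorMod (∐ G) L) cG' (cohLe_tensor hL cG)
  rw [hiso] at key
  exact hT.trans key

end Groth.Agent.S6469
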