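import Groth.Statements.S6475
import Groth.Agent.Lib.Cyc26.DegIterApps
-- import your own Groth.Agent.* helpers here

set_option autoImplicit false
universe u
open CategoryTheory AlgebraicGeometry
open Cyc

namespace Groth.Agent.S6475

/-- Let X be proper over a field k, Z ⊂ X a closed subscheme of dimension d and L_1, …, L_d invertible
O_X-modules. Then the intersection number (L_1 ⋯ L_d · Z) equals deg(c_1(L_1) ∩ … ∩ c_1(L_d) ∩
[Z]_d). The left side is FGA.intNum (alternating sum of Euler characteristics of (⊗_{i∈I} M_i) ⊗ O_Z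
with M_i inverse to L_i, which is the number defined through the numerical polynomial); the right
side iterates Cyc.c1CapFun with any nonzero rational sections starting from [Z]_d and takes
ChowOps.deg of the resulting 0-cycle. Dimension function: transcendence degree over k. The caps are
applied starting with L_1 (innermost), the reverse of the displayed order; the degree does not
depend on the order. (The published statement also gives deg_L(Z) = deg(c_1(L)^d ∩ [Z]_d) for an
ample L, the case L_1 = … = L_d = L; this row does not restate it.) -/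
theorem result (k : Type u) [Field k] (X : Scheme.{u}) [X.Over (Spec (CommRingCat.of k))] [IsProper (X ↘ Spec (CommRingCat.of k))] (δ : X → ℤ) (hX : Cyc.IsSetup X δ) (hδ : Cyc.DeltaCompat (X ↘ Spec (CommRingCat.of k)) δ (fun _ => 0)) (Z : Scheme.{u}) (ι : Z ⟶ X) [IsClosedImmersion ι] (d : ℕ) (hd : topologicalKrullDim Z = d) (L M : Fin d → X.Modules) (hL : ∀ i, PicF.IsInvertible (L i)) (hM : ∀ i, Nonempty (CohB1.tensorMod (M i) (L i) ≅ Coh.structureModule X)) (s : (i : Fin d) → (ξ : X) → Cyc.secFibre (L i) ξ) (hs : ∀ i ξ, s i ξ ≠ 0) (γ : ℕ → X → ℤ) (hγ0 : γ 0 = Cyc.subschemeFun δ d ι) (hγs : ∀ (i : ℕ) (h : i < d), γ (i + 1) = Cyc.c1CapFun δ (L ⟨i, h⟩) (γ i) (s ⟨i, h⟩)) (α : AlgebraicCycle X ℤ) (hα : ⇑α = γ d) : FGA.intNum k X d M ((Coh.push ι).obj (Coh.structureModule Z)) = ChowOps.deg (X ↘ Spec (CommRingCat.of k)) δ α := by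
  exact Groth.Agent.Cyc26.intNum_eq_deg hX.2.2 hδ ι d hd.le L M hL hM s hs γ hγ0 hγs α hα

end Groth.Agent.S6475
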