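import Groth.Statements.S6480
import Groth.Agent.Lib.Herbrand26.DimOne
import Groth.Agent.Lib.Lattice26.Det
import Mathlib.RingTheory.Ideal.Height
import Mathlib.RingTheory.Ideal.KrullsHeightTheorem
-- import your own Groth.Agent.* helpers here

set_option autoImplicit false
universe u
open CycAlg

namespace Groth.Agent.S6480

/-- Let A be a Noetherian local ring of dimension 1, a, b ∈ A nonzerodivisors, A without embedded
primes, M a finite A-module without embedded associated primes and with Supp(M) = Spec(A). Put I =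
{x ∈ A | x·(a/b) ∈ A}, and write 𝔮_1, …, 𝔮_t for the minimal prime ideals of A. The conclusion is
that M contains (a/b)IM, and that the difference length_A(M/(a/b)IM) minus length_A(M/IM) equals the
sum over i of length_{A_{𝔮_i}}(M_{𝔮_i}) multiplied by ord_{A/𝔮_i}(a/b). Encoding: I is the ideal
quotient (bA : aA); '(a/b)IM ⊂ M' is aIM ⊆ bM; (a/b)IM is the submodule of m with bm ∈ aIM (b acts
injectively on M); ord_{A/𝔮}(a/b) is CycAlg.ordFrac on κ(𝔮) = Frac(A/𝔮); lengths are truncated to ℕ
(they are finite here). -/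
theorem result {A : Type u} [CommRing A] [IsNoetherianRing A] [IsLocalRing A] (hA : ringKrullDim A = 1) {M : Type u} [AddCommGroup M] [Module A M] [Module.Finite A M] (a b : A) (ha : a ∈ nonZeroDivisors A) (hb : b ∈ nonZeroDivisors A) (hAemb : ∀ p ∈ associatedPrimes A A, p ∈ minimalPrimes A) (hMemb : ∀ p ∈ associatedPrimes A M, p ∈ minimalPrimes A) (hsupp : Module.support A M = Set.univ) (I : Ideal A) (hI : I = (Ideal.span {b}).colon (Ideal.span {a})) (P : Submodule A M) (hP : P = Submodule.comap (LinearMap.lsmul A M b) ((Ideal.span {a} * I) • (⊤ : Submodule A M))) : (Ideal.span {a} * I) • (⊤ : Submodule A M) ≤ LinearMap.range (LinearMap.lsmul A M b) ∧ ((Module.length A (M ⧸ P)).toNat : ℤ) - ((Module.length A (M ⧸ I • (⊤ : Submodule A M))).toNat : ℤ) = ∑ᶠ (q : PrimeSpectrum A) (_ : q.asIdeal ∈ minimalPrimes A), ((Module.length (Localization.AtPrime q.asIdeal) (LocalizedModule q.asIdeal.primeCompl M)).toNat : ℤ) * CycAlg.ordFrac (A ⧸ q.asIdeal) q.asIdeal.ResidueField (algebraMap A q.asIdeal.ResidueField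 a / algebraMap A q.asIdeal.ResidueField b) := by
  open Groth.Agent.Herbrand26 Pointwise in
  classical
  have hmax : ∀ q : PrimeSpectrum A, q.asIdeal ∈ minimalPrimes A ↔ q.asIdeal ≠ IsLocalRing.maximalIdeal A := by
    intro q
    haveI := q.2
    constructor
    · intro hq he
      have h0 : Ideal.height q.asIdeal = 0 := Ideal.height_eq_zero_iff.2 hq
      rw [he, ← WithBot.coe_inj, IsLocalRing.maximalIdeal_height_eq_ringKrullDim, hA] at h0
      exact absurd h0 one_ne_zero
    · intro hq
      refine Ideal.height_eq_zero_iff.1 (nonpos_iff_eq_zero.1 ?_)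
      have h1 : Ideal.height q.asIdeal < Ideal.height (IsLocalRing.maximalIdeal A) :=
        Ideal.height_strict_mono_of_isPrime (lt_of_le_of_ne (IsLocalRing.le_maximalIdeal q.2.ne_top) hq)
      have h2 : Ideal.height (IsLocalRing.maximalIdeal A) = 1 := by
        rw [← WithBot.coe_inj, IsLocalRing.maximalIdeal_height_eq_ringKrullDim, hA]
        rfl
      rw [h2, Order.lt_one_iff] at h1
      exact h1.le
  have hnot : ∀ x ∈ nonZeroDivisors A, ∀ q : PrimeSpectrum A, q.asIdeal ∈ minimalPrimes A → x ∉ q.asIdeal := by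
    intro x hx q hq hxq
    exact Set.disjoint_left.1 (Ideal.disjoint_nonZeroDivisors_of_mem_minimalPrimes hq) hxq hx
  have hinj : ∀ x ∈ nonZeroDivisors A, LinearMap.ker (LinearMap.lsmul A M x) = ⊥ := by
    intro x hx
    rw [eq_bot_iff]
    intro v hv
    rw [Submodule.mem_bot]
    by_contra hv0
    obtain ⟨p, hp, hxp⟩ : ∃ p ∈ associatedPrimes A M, x ∈ p := by
      have h : x ∈ ⋃ p ∈ associatedPrimes A M, (p : Set A) := by
        rw [biUnion_associatedPrimes_eq_zero_divisors]
        exact ⟨v, hv0, hv⟩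
      simpa using h
    exact hnot x hx ⟨p, IsAssociatedPrime.isPrime hp⟩ (hMemb p hp) hxp
  have hd1 : Module.supportDim A M ≤ 1 := (Module.supportDim_le_ringKrullDim A M).trans hA.le
  have hq0 : ∀ (N : Type u) [AddCommGroup N] [Module A N], (∀ p ∈ Module.support A N, p.asIdeal = IsLocalRing.maximalIdeal A) →
      Module.supportDim A N ≤ 0 := by
    intro N _ _ h
    refine iSup_le fun l => ?_
    have : l.length = 0 := by
      by_contra hl
      have h01 : l 0 < l (Fin.last _) := l.strictMono (by rw [Fin.lt_def]; simp; omega)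
      exact h01.ne (Subtype.ext (PrimeSpectrum.ext ((h _ (l 0).2).trans (h _ (l _).2).symm)))
    simp [this]
  have hxq : ∀ x ∈ nonZeroDivisors A, ∀ p ∈ Module.support A (M ⧸ x • (⊤ : Submodule A M)), p.asIdeal = IsLocalRing.maximalIdeal A := by
    intro x hx p hp
    have hp' : p ∈ Module.support A (QuotSMulTop x M) := hp
    rw [Module.support_quotSMulTop] at hp'
    by_contra hne
    exact hnot x hx p ((hmax p).2 hne) (by simpa using hp'.2)
  have key : ∀ x ∈ nonZeroDivisors A, Module.length A (M ⧸ x • (⊤ : Submodule A M)) ≠ ⊤ ∧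
      ((Module.length A (M ⧸ x • (⊤ : Submodule A M))).toNat : ℤ) =
        ∑ᶠ (q : PrimeSpectrum A) (_ : q.asIdeal ∈ minimalPrimes A),
          ((locLen q M).toNat : ℤ) * ((Ring.ord (A ⧸ q.asIdeal) (Ideal.Quotient.mk q.asIdeal x)).toNat : ℤ) := by
    intro x hx
    have hne : Module.length A (M ⧸ x • (⊤ : Submodule A M)) ≠ ⊤ :=
      isFiniteLength_of_support_subset (hxq x hx)
    refine ⟨hne, ?_⟩
    have h := length_quot_eq_finsum M x hd1 (hq0 _ (hxq x hx))
    rw [hinj x hx, Module.length_eq_zero (M := (⊥ : Submodule A M)), zero_add] at h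
    have hset : ∀ p : PrimeSpectrum A, (p ∈ Module.support A M ∧ p.asIdeal ≠ IsLocalRing.maximalIdeal A) ↔
        p.asIdeal ∈ minimalPrimes A := fun p => by simp [hsupp, hmax p]
    have hfinS : Set.Finite {q : PrimeSpectrum A | q.asIdeal ∈ minimalPrimes A} :=
      (minimalPrimes.finite_of_isNoetherianRing A).preimage (fun a _ b _ => PrimeSpectrum.ext)
    rw [finsum_cond_eq_sum_of_cond_iff (t := hfinS.toFinset) _ (fun {p} _ => by simp [hset p])] at h
    rw [finsum_cond_eq_sum_of_cond_iff (t := hfinS.toFinset) _ (fun {p} _ => by simp)]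
    rw [h] at hne ⊢
    have hsum : ∀ (t : Finset (PrimeSpectrum A)) (f : PrimeSpectrum A → ℕ∞), (∑ p ∈ t, f p) ≠ ⊤ →
        (∑ p ∈ t, f p).toNat = ∑ p ∈ t, (f p).toNat := by
      intro t f
      induction t using Finset.induction with
      | empty => simp
      | @insert c t hc ih =>
        intro h
        rw [Finset.sum_insert hc] at h
        have h' : f c ≠ ⊤ ∧ (∑ p ∈ t, f p) ≠ ⊤ := WithTop.add_ne_top.1 h
        rw [Finset.sum_insert hc, Finset.sum_insert hc, ENat.toNat_add h'.1 h'.2, ih h'.2]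
    rw [hsum _ _ hne]
    push_cast
    refine Finset.sum_congr rfl fun p hp => ?_
    rw [ENat.toNat_mul]
    push_cast
    ring
  have hbI : b ∈ I := by
    rw [hI, Submodule.mem_colon]
    intro c hc
    rw [smul_eq_mul, Ideal.mem_span_singleton]
    exact Dvd.intro c rfl
  have hle : (Ideal.span {a} * I) • (⊤ : Submodule A M) ≤ LinearMap.range (LinearMap.lsmul A M b) := by
    rw [Submodule.smul_le]
    intro r hr m _
    obtain ⟨i, hi, rfl⟩ := Ideal.mem_span_singleton_mul.1 hr
    rw [hI, Submodule.mem_colon] at hi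
    obtain ⟨c, hc⟩ := Ideal.mem_span_singleton.1 (hi a (Ideal.mem_span_singleton_self a))
    rw [smul_eq_mul] at hc
    exact ⟨c • m, by rw [LinearMap.lsmul_apply, smul_smul, ← hc, mul_comm]⟩
  refine ⟨hle, ?_⟩
  let S : Submodule A M := (Ideal.span {a} * I) • (⊤ : Submodule A M)
  let β : M →ₗ[A] M ⧸ S := S.mkQ.comp (LinearMap.lsmul A M b)
  let α : M →ₗ[A] M ⧸ S := S.mkQ.comp (LinearMap.lsmul A M a)
  have hS : S = a • (I • (⊤ : Submodule A M)) := by
    rw [← Submodule.ideal_span_singleton_smul, ← Submodule.mul_smul]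
  have hkβ : LinearMap.ker β = P := by
    rw [hP, LinearMap.ker_comp, Submodule.ker_mkQ]
  have hkα : LinearMap.ker α = I • (⊤ : Submodule A M) := by
    ext v
    rw [LinearMap.ker_comp, Submodule.ker_mkQ, Submodule.mem_comap, LinearMap.lsmul_apply, hS,
      Submodule.mem_smul_pointwise_iff_exists]
    refine ⟨fun ⟨w, hw, hwv⟩ => ?_, fun hv => ⟨v, hv, rfl⟩⟩
    have h0 : v - w ∈ LinearMap.ker (LinearMap.lsmul A M a) := by
      rw [LinearMap.mem_ker, LinearMap.lsmul_apply, smul_sub, hwv, sub_self]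
    rw [hinj a ha, Submodule.mem_bot, sub_eq_zero] at h0
    exact h0 ▸ hw
  have hrange : ∀ x : A, S ≤ x • (⊤ : Submodule A M) → ∀ γ : M →ₗ[A] M ⧸ S, γ = S.mkQ.comp (LinearMap.lsmul A M x) →
      Module.length A (M ⧸ S) = Module.length A (M ⧸ LinearMap.ker γ) + Module.length A (M ⧸ x • (⊤ : Submodule A M)) := by
    intro x hx γ hγ
    rw [γ.quotKerEquivRange.length_eq, ← (Submodule.quotientQuotientEquivQuotient S _ hx).length_eq]
    have hr : LinearMap.range γ = (x • (⊤ : Submodule A M)).map S.mkQ := by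
      rw [hγ, LinearMap.range_comp]
      congr 1
      ext v
      simp [Submodule.mem_smul_pointwise_iff_exists]
    rw [← hr]
    exact Module.length_eq_add_of_exact (LinearMap.range γ).subtype (LinearMap.range γ).mkQ
      (Submodule.injective_subtype _) (Submodule.mkQ_surjective _) (LinearMap.exact_subtype_mkQ _)
  have hSb : S ≤ b • (⊤ : Submodule A M) := fun v hv => by
    obtain ⟨w, hw⟩ := hle hv
    exact (Submodule.mem_smul_pointwise_iff_exists _ _ _).2 ⟨w, trivial, hw⟩
  have hSa : S ≤ a • (⊤ : Submodule A M) := by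
    rw [hS, ← Submodule.ideal_span_singleton_smul, ← Submodule.ideal_span_singleton_smul]
    exact Submodule.smul_mono le_rfl le_top
  have e1 := hrange b hSb β rfl
  have e2 := hrange a hSa α rfl
  rw [hkβ] at e1
  rw [hkα] at e2
  have hIfin : Module.length A (M ⧸ I • (⊤ : Submodule A M)) ≠ ⊤ := by
    refine ne_top_of_le_ne_top (key b hb).1 (Module.length_le_of_surjective _ (Submodule.factor_surjective ?_))
    rw [← Submodule.ideal_span_singleton_smul]
    exact Submodule.smul_mono_left ((Ideal.span_singleton_le_iff_mem _).2 hbI)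
  have hSfin : Module.length A (M ⧸ S) ≠ ⊤ := by
    rw [e2]
    exact WithTop.add_ne_top.2 ⟨hIfin, (key a ha).1⟩
  have hPfin : Module.length A (M ⧸ P) ≠ ⊤ := fun h => hSfin (by rw [e1, h, top_add])
  have hnat := congrArg (fun z : ℕ∞ => (z.toNat : ℤ)) (e1.symm.trans e2)
  simp only [ENat.toNat_add hPfin (key b hb).1, ENat.toNat_add hIfin (key a ha).1, Nat.cast_add, (key a ha).2, (key b hb).2] at hnat
  have hfinS : Set.Finite {q : PrimeSpectrum A | q.asIdeal ∈ minimalPrimes A} :=
    (minimalPrimes.finite_of_isNoetherianRing A).preimage (fun a _ b _ => PrimeSpectrum.ext)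
  rw [finsum_cond_eq_sum_of_cond_iff (t := hfinS.toFinset) _ (fun {p} _ => by simp),
    finsum_cond_eq_sum_of_cond_iff (t := hfinS.toFinset) _ (fun {p} _ => by simp)] at hnat
  rw [finsum_cond_eq_sum_of_cond_iff (t := hfinS.toFinset) _ (fun {p} _ => by simp)]
  refine (eq_sub_of_add_eq hnat |> fun h => ?_)
  rw [h, add_sub_assoc, add_sub_cancel_left, ← Finset.sum_sub_distrib]
  refine Finset.sum_congr rfl fun q hq => ?_
  rw [← mul_sub]
  congr 1
  have hq' : q.asIdeal ∈ minimalPrimes A := by simpa using hq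
  have hdim : ringKrullDim (A ⧸ q.asIdeal) ≤ 1 := (ringKrullDim_quotient_le _).trans hA.le
  have hne : ∀ x ∈ nonZeroDivisors A, Ideal.Quotient.mk q.asIdeal x ≠ 0 := fun x hx h =>
    hnot x hx q hq' (Ideal.Quotient.eq_zero_iff_mem.1 h)
  have hval : ∀ x ∈ nonZeroDivisors A, CycAlg.ordFrac (A ⧸ q.asIdeal) q.asIdeal.ResidueField (algebraMap A q.asIdeal.ResidueField x) =
      ((Ring.ord (A ⧸ q.asIdeal) (Ideal.Quotient.mk q.asIdeal x)).toNat : ℤ) := fun x hx => by
    rw [IsScalarTower.algebraMap_apply A (A ⧸ q.asIdeal) q.asIdeal.ResidueField]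
    exact (Groth.Agent.Lattice26.ordFrac_algebraMap hdim (hne x hx)).1
  have hne0 : ∀ x ∈ nonZeroDivisors A, algebraMap A q.asIdeal.ResidueField x ≠ 0 := fun x hx h =>
    hnot x hx q hq' (Ideal.algebraMap_residueField_eq_zero.1 h)
  have hmul := Groth.Agent.Lattice26.ordFrac_mul (A := A ⧸ q.asIdeal) (K := q.asIdeal.ResidueField) hdim
    (div_ne_zero (hne0 a ha) (hne0 b hb)) (hne0 b hb)
  rw [div_mul_cancel₀ _ (hne0 b hb)] at hmul
  rw [← hval a ha, ← hval b hb, hmul]
  ring

end Groth.Agent.S6480
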