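import Groth.Statements.S6482
import Mathlib.AlgebraicGeometry.AlgebraicCycle.Basic
-- import your own Groth.Agent.* helpers here

set_option autoImplicit false
universe u
open CategoryTheory AlgebraicGeometry
open CategoryTheory.Limits
open Cyc

namespace Groth.Agent.S6482

/-- Let f : Y → X be an envelope. Then f_* : Z_k(Y) → Z_k(X) is surjective, hence so is f_* : CH_k(Y) →
CH_k(X). An envelope is a proper, completely decomposed morphism (every point of the target has a
point over it with trivial residue field extension; this prelude's Cyc.IsCompletelyDecomposed). Here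
a pair (X, δ) with Cyc.IsSetup plays the role of a scheme locally of finite type over the base (S,
δ) (X locally Noetherian with universally catenary local rings, δ a dimension function), and
Cyc.DeltaCompat records that the dimension function upstairs is the induced one. -/
theorem result (X Y : Scheme.{u}) (δ : X → ℤ) (δY : Y → ℤ) (hX : Cyc.IsSetup X δ) (hY : Cyc.IsSetup Y δY) (f : Y ⟶ X) [IsProper f] (hcd : Cyc.IsCompletelyDecomposed f) (hδ : Cyc.DeltaCompat f δY δ) (k : ℤ) (α : AlgebraicCycle X ℤ) (hα : α ∈ Cyc.Zk X δ k) : ∃ β : AlgebraicCycle Y ℤ, β ∈ Cyc.Zk Y δY k ∧ AlgebraicCycle.map f δY δ β = α := by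
  classical
  choose y hy hsurj using hcd
  let βf : Y → ℤ := fun q => if y (f q) = q then α (f q) else 0
  have hlf : ∀ q : Y, ∃ t ∈ nhds q, (t ∩ Function.support βf).Finite := fun q => by
    obtain ⟨U, hU⟩ := (PrespectralSpace.isTopologicalBasis (X := Y)).exists_subset_of_mem_open
      (by simp : q ∈ ⊤) (by simp)
    refine ⟨U, hU.1.1.mem_nhds hU.2.1, ?_⟩
    refine ((α.locallyFiniteSupport.finite_inter_support_of_isCompact (hU.1.2.image f.continuous)).image y).subset
      fun p hp => ?_
    obtain ⟨hpU, hp0⟩ := hp
    simp only [Function.mem_support, βf] at hp0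
    by_cases e : y (f p) = p
    · rw [if_pos e] at hp0
      exact ⟨f p, ⟨⟨p, hpU, rfl⟩, hp0⟩, e⟩
    · rw [if_neg e] at hp0
      exact absurd rfl hp0
  let β : AlgebraicCycle Y ℤ := ⟨βf, by simp, fun q _ => hlf q⟩
  have hdeg : ∀ x, δY (y x) = δ x ∧ f.residueDegree (y x) = 1 := fun x => by
    obtain ⟨n, hn, hd⟩ := hδ (y x)
    have hb : Function.Bijective (f.residueFieldMap (y x)).hom := ⟨RingHom.injective _, hsurj x⟩
    letI := (f.residueFieldMap (y x)).hom.toAlgebra
    haveI : Algebra.IsAlgebraic (X.residueField (f (y x))) (Y.residueField (y x)) :=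
      ⟨fun b => by obtain ⟨a, rfl⟩ := hb.2 b; exact isAlgebraic_algebraMap a⟩
    rw [trdeg_eq_zero] at hn
    obtain rfl : n = 0 := by exact_mod_cast hn.symm
    refine ⟨by rw [hd, hy x]; simp, ?_⟩
    show Module.finrank (X.residueField (f (y x))) (Y.residueField (y x)) = 1
    rw [← Module.finrank_self (X.residueField (f (y x)))]
    exact ((AlgEquiv.ofBijective (Algebra.ofId _ _) hb).toLinearEquiv.finrank_eq).symm
  refine ⟨β, fun q hq => ?_, ?_⟩
  · show βf q = 0
    simp only [βf]
    split_ifs with e
    · refine hα _ fun h => hq ?_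
      rw [← e, (hdeg _).1]; exact h
    · rfl
  · ext x
    rw [AlgebraicCycle.map, Function.locallyFinsupp.map_apply]
    rw [finsum_mem_def, finsum_eq_single _ (y x)]
    · rw [Set.indicator_of_mem (show y x ∈ f ⁻¹' {x} from hy x)]
      show βf (y x) * _ = _
      obtain ⟨h1, h2⟩ := hdeg x
      simp only [βf, hy x, if_true, AlgebraicCycle.mapCoeff]
      rw [if_pos h1, h2]
      simp
    · intro q hne
      rw [Set.indicator_apply_eq_zero]
      intro hq
      show βf q * _ = 0
      simp only [βf]
      rw [if_neg (fun e => hne (by rw [← e, show f q = x from hq])), zero_mul]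

end Groth.Agent.S6482
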