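import Groth.Statements.S6483
import Groth.Agent.Lib.Cyc26.PushRat
import Mathlib.RingTheory.AlgebraicIndependent.Transcendental

set_option autoImplicit false
universe u
open CategoryTheory AlgebraicGeometry
open CategoryTheory.Limits
open Cyc

namespace Groth.Agent.S6483

set_option backward.isDefEq.respectTransparency false
set_option backward.isDefEq.respectTransparency.types false

open Groth.Agent.Cyc26 TopologicalSpace

/-- A point with the same residue field lifts the canonical morphism of the point below. -/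
theorem exists_lift {X Y : Scheme.{u}} (f : Y ⟶ X) {y0 : Y} {x : X} (h : f y0 = x)
    (hs : Function.Surjective (f.residueFieldMap y0).hom) :
    ∃ a : Spec (X.residueField x) ⟶ Y, a ≫ f = X.fromSpecResidueField x ∧ ∀ p, a p = y0 := by
  subst h
  haveI : IsIso (f.residueFieldMap y0) :=
    (ConcreteCategory.isIso_iff_bijective _).2 ⟨(f.residueFieldMap y0).hom.injective, hs⟩
  refine ⟨inv (Spec.map (f.residueFieldMap y0)) ≫ Y.fromSpecResidueField y0, ?_, fun p => ?_⟩
  · rw [Category.assoc, ← Scheme.Hom.SpecMap_residueFieldMap_fromSpecResidueField, IsIso.inv_hom_id_assoc]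
  · rw [Scheme.Hom.comp_apply, Scheme.fromSpecResidueField_apply]

/-- The norm along a trivial residue field extension is the identity. -/
theorem normGen_of_surjective {X Y : Scheme.{u}} (f : Y ⟶ X) (y : Y)
    (hs : Function.Surjective (f.residueFieldMap y).hom) (g : Y.residueField y) :
    f.residueFieldMap y (Cyc.normGen f y g) = g := by
  letI := (f.residueFieldMap y).hom.toAlgebra
  obtain ⟨a, rfl⟩ := hs g
  have h1 : Module.finrank (X.residueField (f y)) (Y.residueField y) = 1 :=
    residueDegree_of_bijective f y ⟨(f.residueFieldMap y).hom.injective, hs⟩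
  show f.residueFieldMap y (Algebra.norm (X.residueField (f y))
    (algebraMap (X.residueField (f y)) (Y.residueField y) a)) = _
  rw [Algebra.norm_algebraMap, h1, pow_one]

/-- Push-forward of a locally finite sum of divisors on points with trivial residue field extensions. -/
theorem map_sum_divFun {X Y : Scheme.{u}} [IsLocallyNoetherian X] [IsLocallyNoetherian Y] (p : Y ⟶ X) [IsProper p]
    {δY : Y → ℤ} {δX : X → ℤ} (hdY : Cyc.IsDimFun Y δY) (hdX : Cyc.IsDimFun X δX) (hδ : Cyc.DeltaCompat p δY δX)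
    {ι : Type u} (η : ι → Y) (F : (i : ι) → Y.residueField (η i)) (hF : ∀ i, F i ≠ 0)
    (heq : ∀ i, δX (p (η i)) = δY (η i))
    (hfin : ∀ x : X, ∃ U : Set X, IsOpen U ∧ x ∈ U ∧ {i | (closure {p (η i)} ∩ U).Nonempty}.Finite)
    (a : AlgebraicCycle Y ℤ) (ha : ∀ y, a y = ∑ᶠ i, Cyc.divFun δY (η i) (F i) y) (x : X) :
    AlgebraicCycle.map p δY δX a x = ∑ᶠ i, Cyc.divFun δX (p (η i)) (Cyc.normGen p (η i) (F i)) x := by
  classical
  obtain ⟨W, hW, hxW, -⟩ := exists_isAffineOpen_mem_and_subset (U := (⊤ : X.Opens)) (x := x) trivial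
  have hIfin : {i | p (η i) ⤳ x}.Finite := by
    obtain ⟨U, hU, hxU, hUf⟩ := hfin x
    exact hUf.subset fun i hi => ⟨x, specializes_iff_mem_closure.1 hi, hxU⟩
  let I := hIfin.toFinset
  have hI : ∀ i y, p y = x → η i ⤳ y → i ∈ I := fun i y hy hsp => hIfin.mem_toFinset.2
    (show p (η i) ⤳ x from hy ▸ hsp.map p.continuous)
  have hcyc : ∀ i, ∃ b : AlgebraicCycle Y ℤ, ⇑b = Cyc.divFun δY (η i) (F i) := fun i => by
    obtain ⟨b, hb⟩ := exists_cycle_sum_divFun hdY (ι := PUnit.{u+1}) (fun _ => η i) (fun _ => F i)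
      (fun _ => ⟨Set.univ, isOpen_univ, trivial, Set.toFinite _⟩)
    exact ⟨b, funext fun y => (hb y).trans (finsum_unique _)⟩
  choose b hb using hcyc
  have hcompact := p.isCompact_preimage hW.isCompact
  have hsupp : ∀ c : AlgebraicCycle Y ℤ, ((p ⁻¹' (W : Set X)) ∩ Function.support ⇑c).Finite := fun c =>
    c.locallyFiniteSupport.finite_inter_support_of_isCompact hcompact
  let T : Finset Y := ((hsupp a).toFinset ∪ I.biUnion fun i => (hsupp (b i)).toFinset).filter fun y => p y = x
  have hT : ∀ y ∈ T, p y = x := fun y hy => (Finset.mem_filter.1 hy).2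
  have hmem : ∀ y, p y = x → y ∈ p ⁻¹' (W : Set X) := fun y hy => show p y ∈ (W : Set X) from hy.symm ▸ hxW
  have hsum : ∀ y ∈ T, a y = ∑ i ∈ I, b i y := fun y hy => by
    rw [ha, finsum_eq_sum_of_support_subset (s := I) _ fun i hi =>
      hI i y (hT y hy) (specializes_of_divFun_ne_zero hi).1]
    exact Finset.sum_congr rfl fun i _ => (congrFun (hb i) y).symm
  rw [map_apply_eq_sum p δY δX a x T hT fun y hy hne _ => Finset.mem_filter.2
    ⟨Finset.mem_union_left _ ((hsupp a).mem_toFinset.2 ⟨hmem y hy, hne⟩), hy⟩,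
    finsum_eq_sum_of_support_subset (s := I) _ fun i hi =>
      hIfin.mem_toFinset.2 (specializes_of_divFun_ne_zero hi).1,
    Finset.sum_congr rfl fun y hy => by rw [hsum y hy, Finset.sum_mul], Finset.sum_comm]
  refine Finset.sum_congr rfl fun i hi => ?_
  rw [← congrFun (map_divFun_eq_norm p hdY hdX hδ (heq i) (F i) (hF i) (b i) (hb i)) x,
    map_apply_eq_sum p δY δX (b i) x T hT fun y hy hne _ => Finset.mem_filter.2
      ⟨Finset.mem_union_right _ (Finset.mem_biUnion.2 ⟨i, hi, (hsupp (b i)).mem_toFinset.2 ⟨hmem y hy, hne⟩⟩), hy⟩]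


/-- Let f : Y → X be an envelope and p, q : Y ×_X Y → Y the two projections. If a k-cycle β on Y has
f_*β ∼_rat 0 on X, then β ∼_rat p_*γ − q_*γ for some k-cycle γ on Y ×_X Y. Together with
surjectivity of f_* and f_* p_* = f_* q_*, this is the exact sequence CH_k(Y ×_X Y) → CH_k(Y) →
CH_k(X) → 0. An envelope is a proper, completely decomposed morphism (every point of the target has
a point over it with trivial residue field extension; this prelude's Cyc.IsCompletelyDecomposed).
Here a pair (X, δ) with Cyc.IsSetup plays the role of a scheme locally of finite type over the base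
(S, δ) (X locally Noetherian with universally catenary local rings, δ a dimension function), and
Cyc.DeltaCompat records that the dimension function upstairs is the induced one. -/
theorem result (X Y : Scheme.{u}) (δ : X → ℤ) (δY : Y → ℤ) (hX : Cyc.IsSetup X δ) (hY : Cyc.IsSetup Y δY) (f : Y ⟶ X) [IsProper f] (hcd : Cyc.IsCompletelyDecomposed f) (hδ : Cyc.DeltaCompat f δY δ) (δ2 : ↥(pullback f f) → ℤ) (h2 : Cyc.IsSetup (pullback f f) δ2) (hδ2 : Cyc.DeltaCompat (pullback.fst f f) δ2 δY) (k : ℤ) (β : AlgebraicCycle Y ℤ) (hβ : β ∈ Cyc.Zk Y δY k) (h0 : Cyc.RatEquivZero δ k (AlgebraicCycle.map f δY δ β)) : ∃ γ : AlgebraicCycle (pullback f f) ℤ, γ ∈ Cyc.Zk (pullback f f) δ2 k ∧ Cyc.RatEquiv δY k β (AlgebraicCycle.map (pullback.fst f f) δ2 δY γ - AlgebraicCycle.map (pullback.snd f f) δ2 δY γ) := by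
  classical
  haveI := hX.1
  haveI := hY.1
  haveI := h2.1
  obtain ⟨ι, ξ, g, hξ, hg, hfin, hsum⟩ := h0
  choose σ hσ hσs using hcd
  have hδ' : ∀ y : Y, Function.Surjective (f.residueFieldMap y).hom → δY y = δ (f y) := fun y hy => by
    obtain ⟨m, hm, hm'⟩ := hδ y
    letI := (f.residueFieldMap y).hom.toAlgebra
    haveI : Algebra.IsAlgebraic (X.residueField (f y)) (Y.residueField y) := by
      refine ⟨fun b => ?_⟩
      obtain ⟨a, rfl⟩ := hy b
      exact isAlgebraic_algebraMap a
    have h0' : Algebra.trdeg (X.residueField (f y)) (Y.residueField y) = 0 := trdeg_eq_zero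
    rw [hm', show m = 0 from Nat.cast_eq_zero.1 (hm.symm.trans h0'), Nat.cast_zero, add_zero]
  obtain ⟨η, hη, hηs⟩ : ∃ η : ι → Y, ξ = (fun i => f (η i)) ∧
      ∀ i, Function.Surjective (f.residueFieldMap (η i)).hom :=
    ⟨fun i => σ (ξ i), funext fun i => (hσ (ξ i)).symm, fun i => hσs (ξ i)⟩
  subst hη
  let F : (i : ι) → Y.residueField (η i) := fun i => f.residueFieldMap (η i) (g i)
  have hF : ∀ i, F i ≠ 0 := fun i => (map_ne_zero _).2 (hg i)
  have hFn : ∀ i, Cyc.normGen f (η i) (F i) = g i := fun i =>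
    (f.residueFieldMap (η i)).hom.injective (normGen_of_surjective f (η i) (hηs i) (F i))
  have heq : ∀ i, δ (f (η i)) = δY (η i) := fun i => (hδ' _ (hηs i)).symm
  have hfinY : ∀ y : Y, ∃ U : Set Y, IsOpen U ∧ y ∈ U ∧ {i | (closure {η i} ∩ U).Nonempty}.Finite := fun y => by
    obtain ⟨U, hU, hyU, hUf⟩ := hfin (f y)
    refine ⟨f ⁻¹' U, hU.preimage f.continuous, hyU, hUf.subset ?_⟩
    rintro i ⟨z, hz, hzU⟩
    exact ⟨f z, specializes_iff_mem_closure.1 ((specializes_iff_mem_closure.2 hz).map f.continuous), hzU⟩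
  obtain ⟨a, ha⟩ := exists_cycle_sum_divFun hY.2.2 η F hfinY
  let b : AlgebraicCycle Y ℤ := β - a
  have hfb : ∀ x, AlgebraicCycle.map f δY δ b x = 0 := fun x => by
    show AlgebraicCycle.map f δY δ (β - a) x = 0
    rw [Cyc26.map_sub]
    show AlgebraicCycle.map f δY δ β x - AlgebraicCycle.map f δY δ a x = 0
    rw [map_sum_divFun f hY.2.2 hX.2.2 hδ η F hF heq hfin a ha x, hsum]
    simp only [hFn, sub_self]
  have hbk : ∀ y, b y ≠ 0 → δY y = k := fun y hy => by
    by_contra hne
    have h1 : β y = 0 := hβ y hne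
    have h2 : a y = 0 := by
      rw [ha]
      refine finsum_eq_zero_of_forall_eq_zero fun i => ?_
      by_contra h
      have := (specializes_of_divFun_ne_zero h).2
      have := heq i
      have := hξ i
      simp only at this
      omega
    exact hy (show β y - a y = 0 by rw [h1, h2, sub_zero])
  have hz : ∀ y : Y, ∃ z : ↑(pullback f f), pullback.fst f f z = y ∧ pullback.snd f f z = σ (f y) ∧
      (pullback.fst f f).residueDegree z = 1 := fun y => by
    obtain ⟨l, hl, hlp⟩ := exists_lift f (hσ (f y)) (hσs (f y))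
    let t : Spec (Y.residueField y) ⟶ pullback f f :=
      pullback.lift (Y.fromSpecResidueField y) (Spec.map (f.residueFieldMap y) ≫ l)
        (by rw [Category.assoc, hl, Scheme.Hom.SpecMap_residueFieldMap_fromSpecResidueField])
    let p0 : ↑(Spec (Y.residueField y)) := IsLocalRing.closedPoint _
    have h1 : t ≫ pullback.fst f f = Y.fromSpecResidueField y := pullback.lift_fst _ _ _
    refine ⟨t p0, ?_, ?_, ?_⟩
    · rw [← Scheme.Hom.comp_apply, h1, Scheme.fromSpecResidueField_apply]
    · rw [← Scheme.Hom.comp_apply, pullback.lift_snd, Scheme.Hom.comp_apply, hlp]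
    · have h := residueDegree_comp t (pullback.fst f f) p0
      rw [residueDegree_congr h1 p0,
        residueDegree_of_bijective _ p0 (residueFieldMap_bijective (Y.fromSpecResidueField y) p0)] at h
      exact (mul_eq_one.1 h.symm).1
  choose z hzf hzs hzd using hz
  have hδz : ∀ y, δ2 (z y) = δY y := fun y => by
    obtain ⟨m, hm, hm'⟩ := hδ2 (z y)
    letI := ((pullback.fst f f).residueFieldMap (z y)).hom.toAlgebra
    haveI : Module.Finite (Y.residueField (pullback.fst f f (z y))) ((pullback f f).residueField (z y)) :=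
      Module.finite_of_finrank_eq_succ (n := 0) (hzd y)
    have h0' : Algebra.trdeg (Y.residueField (pullback.fst f f (z y))) ((pullback f f).residueField (z y)) = 0 :=
      trdeg_eq_zero
    rw [hm', show m = 0 from Nat.cast_eq_zero.1 (hm.symm.trans h0'), hzf, Nat.cast_zero, add_zero]
  let G : ↑(pullback f f) → ℤ := fun w => if z (pullback.fst f f w) = w then b (pullback.fst f f w) else 0
  have hGz : ∀ y, G (z y) = b y := fun y => by simp only [G, hzf, if_true]
  have hGsupp : ∀ w, G w ≠ 0 → ∃ y, w = z y ∧ b y ≠ 0 := fun w hw => by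
    simp only [G] at hw
    split_ifs at hw with h
    · exact ⟨_, h.symm, hw⟩
    · exact absurd rfl hw
  let γ : AlgebraicCycle (pullback f f) ℤ := ⟨G, Set.subset_univ _, fun w _ => by
    obtain ⟨W, hW, hwW, -⟩ := exists_isAffineOpen_mem_and_subset (U := (⊤ : Y.Opens))
      (x := pullback.fst f f w) trivial
    refine ⟨pullback.fst f f ⁻¹' (W : Set Y), (W.isOpen.preimage (pullback.fst f f).continuous).mem_nhds hwW,
      ((b.locallyFiniteSupport.finite_inter_support_of_isCompact hW.isCompact).image z).subset ?_⟩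
    rintro v ⟨hvW, hv⟩
    obtain ⟨y, rfl, hy⟩ := hGsupp v hv
    exact ⟨y, ⟨by simpa [hzf] using hvW, hy⟩, rfl⟩⟩
  have hγz : ∀ y, γ (z y) = b y := hGz
  haveI : IsProper (pullback.fst f f) := MorphismProperty.pullback_fst _ _ inferInstance
  haveI : IsProper (pullback.snd f f) := MorphismProperty.pullback_snd _ _ inferInstance
  have hfst : ∀ y, AlgebraicCycle.map (pullback.fst f f) δ2 δY γ y = b y := fun y => by
    rw [map_apply_eq_sum (pullback.fst f f) δ2 δY γ y {z y} (fun w hw => by rw [Finset.mem_singleton.1 hw, hzf])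
      (fun w hw hne _ => by
        obtain ⟨y', rfl, -⟩ := hGsupp w hne
        rw [hzf] at hw
        rw [hw]
        exact Finset.mem_singleton_self _), Finset.sum_singleton, AlgebraicCycle.mapCoeff,
      if_pos (by rw [hδz, hzf]), hzd, hγz, Nat.cast_one, mul_one]
  have hsnd : ∀ y', AlgebraicCycle.map (pullback.snd f f) δ2 δY γ y' = 0 := fun y' => by
    obtain ⟨W, hW, hxW, -⟩ := exists_isAffineOpen_mem_and_subset (U := (⊤ : X.Opens)) (x := f y') trivial
    let T0 : Finset Y := ((b.locallyFiniteSupport.finite_inter_support_of_isCompact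
      (f.isCompact_preimage hW.isCompact)).toFinset).filter fun y => f y = f y'
    by_cases hy' : y' = σ (f y')
    · rw [map_apply_eq_sum (pullback.snd f f) δ2 δY γ y' (T0.image z) (fun w hw => ?_) (fun w hw hne _ => ?_),
        Finset.sum_image (fun u _ v _ h => by rw [← hzf u, h, hzf])]
      · rw [← hfb (f y'), map_apply_eq_sum f δY δ b (f y') T0 (fun y hy => (Finset.mem_filter.1 hy).2)
          (fun y hy hne _ => Finset.mem_filter.2 ⟨Set.Finite.mem_toFinset _ |>.2
            ⟨show f y ∈ (W : Set X) from hy.symm ▸ hxW, hne⟩, hy⟩)]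
        refine Finset.sum_congr rfl fun y hy => ?_
        have hfy := (Finset.mem_filter.1 hy).2
        have hcomp := residueDegree_comp (pullback.fst f f) f (z y)
        rw [hzd, mul_one, residueDegree_congr pullback.condition (z y), residueDegree_comp, hzs,
          residueDegree_of_bijective f (σ (f y)) ⟨(f.residueFieldMap _).hom.injective, hσs _⟩, one_mul, hzf] at hcomp
        rw [hγz, AlgebraicCycle.mapCoeff, AlgebraicCycle.mapCoeff]
        simp only [hδz, hzs, hδ' (σ (f y)) (hσs _), hσ, hcomp]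
      · obtain ⟨y, hy, rfl⟩ := Finset.mem_image.1 hw
        rw [hzs, (Finset.mem_filter.1 hy).2, ← hy']
      · obtain ⟨y, rfl, hby⟩ := hGsupp w hne
        rw [hzs] at hw
        have hfy : f y = f y' := by rw [← hw, hσ]
        exact Finset.mem_image.2 ⟨y, Finset.mem_filter.2 ⟨Set.Finite.mem_toFinset _ |>.2
          ⟨show f y ∈ (W : Set X) from hfy.symm ▸ hxW, hby⟩, hfy⟩, rfl⟩
    · rw [map_apply_eq_sum (pullback.snd f f) δ2 δY γ y' ∅ (by simp) (fun w hw hne _ => ?_), Finset.sum_empty]
      obtain ⟨y, rfl, -⟩ := hGsupp w hne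
      rw [hzs] at hw
      exact absurd (by rw [← hw, hσ]) hy'
  refine ⟨γ, fun w hw => ?_, ι, η, F, fun i => (heq i).symm.trans (hξ i), hF, hfinY, fun y => ?_⟩
  · by_contra hne
    obtain ⟨y, rfl, hy⟩ := hGsupp w hne
    exact hw ((hδz y).trans (hbk y hy))
  · show β y - (AlgebraicCycle.map (pullback.fst f f) δ2 δY γ y -
      AlgebraicCycle.map (pullback.snd f f) δ2 δY γ y) = _
    rw [hfst, hsnd, sub_zero, ← ha]
    show β y - (β y - a y) = a y
    ring

end Groth.Agent.S6483
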