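import Groth.Statements.S6484
import Mathlib.AlgebraicGeometry.PullbackCarrier
-- import your own Groth.Agent.* helpers here

set_option autoImplicit false
universe u
open CategoryTheory AlgebraicGeometry
open CategoryTheory.Limits
open Cyc

namespace Groth.Agent.S6484

/-- If f : Y → X is completely decomposed (this prelude's Cyc.IsCompletelyDecomposed: over every point
of X lies a point of Y with trivial residue field extension) and g : X' → X is any morphism of
schemes, then the base change Y ×_X X' → X' is completely decomposed. Consequently the base change
of an envelope (a proper completely decomposed morphism) is an envelope, properness being preserved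
by base change. (The published envelope statement takes X′ → X between schemes locally of finite
type over a base; this row allows any g.) -/
theorem result (X X' Y : Scheme.{u}) (f : Y ⟶ X) (g : X' ⟶ X) (hcd : Cyc.IsCompletelyDecomposed f) : Cyc.IsCompletelyDecomposed (pullback.snd f g) := by
  intro x'
  obtain ⟨y, hy, hsurj⟩ := hcd (g x')
  let e : X.residueField (f y) ≅ Y.residueField y :=
    (RingEquiv.ofBijective (f.residueFieldMap y).hom ⟨RingHom.injective _, hsurj⟩).toCommRingCatIso
  let φ : Y.residueField y ⟶ X'.residueField x' :=
    e.inv ≫ (X.residueFieldCongr hy).hom ≫ g.residueFieldMap x'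
  have hφ : f.residueFieldMap y ≫ φ = (X.residueFieldCongr hy).hom ≫ g.residueFieldMap x' := by
    show e.hom ≫ φ = _
    simp [φ]
  have hcomm : (Spec.map φ ≫ Y.fromSpecResidueField y) ≫ f = X'.fromSpecResidueField x' ≫ g := by
    rw [Category.assoc, ← Scheme.Hom.SpecMap_residueFieldMap_fromSpecResidueField, ← Category.assoc, ← Spec.map_comp, hφ,
      Spec.map_comp, Category.assoc, Scheme.residueFieldCongr_fromSpecResidueField,
      Scheme.Hom.SpecMap_residueFieldMap_fromSpecResidueField]
  let s : Spec (X'.residueField x') ⟶ pullback f g := pullback.lift _ _ hcomm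
  let pt : Spec (X'.residueField x') := default
  have h1 : pullback.snd f g (s pt) = x' := by
    rw [← Scheme.Hom.comp_apply, pullback.lift_snd, Scheme.fromSpecResidueField_apply]
  refine ⟨s pt, h1, fun a => ?_⟩
  have h2 : ∀ b, ∃ c, (s ≫ pullback.snd f g).residueFieldMap pt c = b := by
    rw [show s ≫ pullback.snd f g = X'.fromSpecResidueField x' from pullback.lift_snd _ _ _]
    intro b
    obtain ⟨b', rfl⟩ := (Spec (X'.residueField x')).residue_surjective pt b
    obtain ⟨a', rfl⟩ := (X'.fromSpecResidueField x').stalkMap_surjective pt b'
    exact ⟨X'.residue _ a', congrArg (fun φ => φ a') (Scheme.residue_residueFieldMap (X'.fromSpecResidueField x') pt)⟩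
  obtain ⟨c, hc⟩ := h2 (s.residueFieldMap pt a)
  rw [Scheme.residueFieldMap_comp] at hc
  exact ⟨c, RingHom.injective (s.residueFieldMap pt).hom hc⟩

end Groth.Agent.S6484
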