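import Groth.Statements.S6494
import Groth.Agent.Lib.Diag27.P1Main
-- import your own Groth.Agent.* helpers here

set_option autoImplicit false
universe u
open CategoryTheory CategoryTheory.Limits AlgebraicGeometry
attribute [local instance] HasDerivedCategory.standard
open IntMult

namespace Groth.Agent.S6494

/-- Let X → P be a closed immersion of nonsingular varieties and C' ⊂ P × P^1 a closed subvariety of
dimension r + 1 with (1) the fibre C = C'_0 of dimension r (C' → P^1 dominant), (2) C' and X × P^1
intersecting properly, (3) [C]_r and X intersecting properly. Then, with α = [C]_r · X and β = C' ·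
(X × P^1), one has α = pr_{X,*}(β · (X × 0)). Stated on P × P^1: α = pr_*((C' · (X × P^1)) · (P ×
0)) as cycles on P. (The published statement takes the product of β with X × 0 on X × P^1 and pushes
it forward along X × P^1 → X; this row takes the product of C′ · (X × P^1) with P × 0 on P × P^1 and
pushes it forward along P × P^1 → P, which is the same cycle on P.) Encoding: P × P^1 =
CohB1.ProjSpaceOver 1 P with projection pr and zero section P1.sect P 0; dimension functions δP, δ'
(transcendence degree); C'_0 is the pullback of C' along the zero section and [C]_r its r-cycle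
(Cyc.subschemeFun); X × P^1 and P × 0 enter as the prime cycles of their generic points; products
are IntMult.interProd on P (dim N_P) and on P × P^1 (dim N_P + 1). Here P and X are nonsingular
varieties over the algebraically closed field K (smooth, separated, quasi-compact, integral), δP is
the dimension function on P (transcendence degree over K, recorded by Cyc.DeltaCompat to Spec K with
value 0, together with Cyc.IsSetup), N_P = δP of the generic point of P and n = δP of the generic
point of X; proper intersection is IntMult.IntersectProperly / IntMult.ProperInt and products are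
IntMult.interProd. -/
theorem result (K : Type u) [Field K] [IsAlgClosed K] (P : Scheme.{u}) (fP : P ⟶ Spec (CommRingCat.of K)) [Smooth fP] [IsSeparated fP] [QuasiCompact fP] [IsIntegral P] (δP : P → ℤ) (hP : Cyc.IsSetup P δP) (hδP : Cyc.DeltaCompat fP δP (fun _ => 0)) (NP : ℕ) (hNP : δP (genericPoint P) = NP) (δ' : ↥(CohB1.ProjSpaceOver 1 P) → ℤ) (hP' : Cyc.IsSetup (CohB1.ProjSpaceOver 1 P) δ') (hδ' : Cyc.DeltaCompat (CohB1.ProjSpaceOver.toBase 1 P) δ' δP) [QuasiCompact (CohB1.ProjSpaceOver.toBase 1 P)] (X : Scheme.{u}) (fX : X ⟶ Spec (CommRingCat.of K)) [Smooth fX] [IsSeparated fX] [QuasiCompact fX] [IsIntegral X] (ι : X ⟶ P) [IsClosedImmersion ι] (hι : ι ≫ fP = fX) (n : ℕ) (hn : δP (ι (genericPoint X)) = n) (ζX : ↥(CohB1.ProjSpaceOver 1 P)) (hζ1 : CohB1.ProjSpaceOver.toBase 1 P ζX = ι (genericPoint X)) (hζ2 : δ' ζX = n + 1) (C' : Scheme.{u}) [IsIntegral C'] (ι' : C' ⟶ CohB1.ProjSpaceOver 1 P) [IsClosedImmersion ι'] (r : ℕ) (hr : δ' (ι' (genericPoint C')) = r + 1) (hC0 : ∀ w : ↥(pullback ι' (P1.sect P 0)), δP (pullback.snd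 ι' (P1.sect P 0) w) ≤ r) (hC0ne : Nonempty ↥(pullback ι' (P1.sect P 0))) (h2 : IntMult.ProperInt (closure {ι' (genericPoint C')}) (⇑(CohB1.ProjSpaceOver.toBase 1 P) ⁻¹' Set.range ⇑ι) (NP + 1) (r + 1) (n + 1)) (h3 : IntMult.IntersectProperly δP NP (Cyc.subschemeFun δP r (pullback.snd ι' (P1.sect P 0))) (Set.indicator {ι (genericPoint X)} 1)) (B : AlgebraicCycle (CohB1.ProjSpaceOver 1 P) ℤ) (hB : ⇑B = IntMult.interProd δ' (NP + 1) (IntMult.interProd δ' (NP + 1) (Set.indicator {ι' (genericPoint C')} 1) (Set.indicator {ζX} 1)) (Set.indicator {P1.sect P 0 (genericPoint P)} 1)) : ⇑(AlgebraicCycle.map (CohB1.ProjSpaceOver.toBase 1 P) δ' δP B) = IntMult.interProd δP NP (Cyc.subschemeFun δP r (pullback.snd ι' (P1.sect P 0))) (Set.indicator {ι (genericPoint X)} 1) := by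
  classical
  haveI : CompactSpace P := QuasiCompact.compactSpace_of_compactSpace fP
  haveI : IsLocallyNoetherian P := hP.1
  haveI : IsNoetherian P := {}
  obtain ⟨ξ, hξv, hξd, hsp, hξp⟩ := Diag27.exists_vgen hP hδ' (ι (genericPoint X))
  obtain rfl : ξ = ζX := Diag27.eq_of_delta_le hP'.2.2 (hsp ζX (specializes_of_eq hζ1.symm)) (by rw [hξd, hn, hζ2])
  have hfib : ∀ x, ι' (genericPoint C') ⤳ P1.sect P 0 x → δP x ≤ (r : ℤ) := fun x hx => by
    obtain ⟨w, hw⟩ := hx.mem_closed ι'.isClosedEmbedding.isClosed_range ⟨_, rfl⟩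
    obtain ⟨z, -, hz⟩ := Scheme.Pullback.exists_preimage_pullback w x hw
    exact hz ▸ hC0 z
  exact Diag27.map_interProd_family fP hP hNP hδ' ι' hr 0 hfib h3 hδP hξv hξd hξp B hB


end Groth.Agent.S6494
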