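import Groth.Statements.S6495
import Groth.Agent.Lib.Cyc26.Limit
import Groth.Agent.Lib.Cyc26.LimitCycle
-- import your own Groth.Agent.* helpers here

set_option autoImplicit false
universe u
open CategoryTheory AlgebraicGeometry
open Cyc

namespace Groth.Agent.S6495

/-- Surjectivity of colim Z_k(X_i) → Z_k(X'): every k-cycle α' on the limit X' is g_i^*α for some i and
some k-cycle α on X_i, where g_i : X' → X_i is the projection and g_i^* the shift-0 base-change
pullback on coefficient functions. Setting: a directed inverse system (X_i) of quasi-compact schemes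
with affine flat transition morphisms and limit X' (a limit cone), each X_i and X' carrying a
dimension function with Cyc.IsSetup, and every transition map and every projection X' → X_i shifting
the dimension functions by c = 0 at generic points of fibres, so that the base-change pullbacks g^*
are Cyc.pullFun with shift 0. (The published statement takes X_i and X′ to be the base changes of
one quasi-compact scheme of finite type over a base S along S_i → S and lim S_i → S; this row allows
any such inverse system.) -/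
theorem result (I : Type u) [Preorder I] [IsDirected I (fun a b => a ≤ b)] [Nonempty I] (D : Iᵒᵖ ⥤ Scheme.{u}) (c : Limits.Cone D) (hc : Limits.IsLimit c) (haff : ∀ (i j : Iᵒᵖ) (f : i ⟶ j), IsAffineHom (D.map f)) (hflat : ∀ (i j : Iᵒᵖ) (f : i ⟶ j), Flat (D.map f)) (hqc : ∀ i, CompactSpace ↥(D.obj i)) (δ : (i : Iᵒᵖ) → ↥(D.obj i) → ℤ) (δ' : ↥c.pt → ℤ) (hset : ∀ i, Cyc.IsSetup (D.obj i) (δ i)) (hset' : Cyc.IsSetup c.pt δ') (hshift : ∀ (i j : Iᵒᵖ) (f : i ⟶ j) (x : ↥(D.obj i)), (∀ y, D.map f y = D.map f x → y ⤳ x → y = x) → δ i x = δ j (D.map f x)) (hflat' : ∀ i, Flat (c.π.app i)) (hshift' : ∀ (i : Iᵒᵖ) (x : ↥c.pt), (∀ y, c.π.app i y = c.π.app i x → y ⤳ x → y = x) → δ' x = δ i (c.π.app i x)) (k : ℤ) (α' : AlgebraicCycle c.pt ℤ) (hα' : α' ∈ Cyc.Zk c.pt δ' k) : ∃ (i : Iᵒᵖ) (α : AlgebraicCycle (D.obj i) ℤ), α ∈ Cyc.Zk (D.obj i) (δ i) k ∧ Cyc.pullFun (c.π.app i) δ' (δ i) 0 ⇑α = ⇑α' := by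
  classical
  haveI := hqc
  haveI : ∀ {a b : Iᵒᵖ} (f : a ⟶ b), IsAffineHom (D.map f) := fun f => haff _ _ f
  haveI : IsLocallyNoetherian c.pt := hset'.1
  haveI : CompactSpace c.pt := Scheme.compactSpace_of_isLimit D c hc
  set T := (Cyc26Lim.finite_support α').toFinset
  obtain ⟨i, hi⟩ := Cyc26Lim.exists_good_of_finite D c hc T
  let a : D.obj i → ℤ := fun x => ∑ y ∈ T.filter (fun y => Cyc26Lim.pr D c i y = x), α' y
  have hsub : Function.support a ⊆ ↑(T.image (Cyc26Lim.pr D c i)) := by
    intro x hx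
    obtain ⟨y, hy, -⟩ := Finset.exists_ne_zero_of_sum_ne_zero hx
    rw [Finset.mem_filter] at hy
    exact Finset.mem_image.2 ⟨y, hy.1, hy.2⟩
  have hmax : ∀ y ∈ T, δ' y = δ i (Cyc26Lim.pr D c i y) := fun y hy =>
    hshift' i y fun y' h1 h2 => (hi y hy).eq_of_specializes h1 h2
  have hT : ∀ y, y ∈ T ↔ α' y ≠ 0 := fun y => by simp [T]
  let α : AlgebraicCycle (D.obj i) ℤ := ⟨a, Set.subset_univ _, fun z _ =>
    ⟨Set.univ, Filter.univ_mem, ((T.image (Cyc26Lim.pr D c i)).finite_toSet.subset hsub).subset Set.inter_subset_right⟩⟩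
  refine ⟨i, α, fun x hx => ?_, funext fun z => ?_⟩
  · refine Finset.sum_eq_zero fun y hy => ?_
    rw [Finset.mem_filter] at hy
    exact hα' y (by rw [hmax y hy.1, hy.2]; exact hx)
  have hone : ∀ y ∈ T, Cyc26Lim.pr D c i z = Cyc26Lim.pr D c i y →
      a (Cyc26Lim.pr D c i z) = α' y := by
    intro y hy he
    show ∑ y' ∈ T.filter (fun y' => Cyc26Lim.pr D c i y' = Cyc26Lim.pr D c i z), α' y' = α' y
    rw [Finset.sum_eq_single y]
    · intro y' hy' hne
      rw [Finset.mem_filter] at hy'
      exact absurd ((hi y hy).eq_of_specializes (hy'.2.trans he) ((hi y' hy'.1).spec y (hy'.2.trans he).symm)) hne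
    · exact fun h => absurd (Finset.mem_filter.2 ⟨hy, he.symm⟩) h
  show (if δ' z = δ i (Cyc26Lim.pr D c i z) + 0 then a (Cyc26Lim.pr D c i z) * _ else 0) = α' z
  by_cases hex : ∃ y ∈ T, Cyc26Lim.pr D c i z = Cyc26Lim.pr D c i y
  · obtain ⟨y, hy, he⟩ := hex
    by_cases hzy : z = y
    · subst hzy
      rw [if_pos (by rw [add_zero]; exact hmax z hy), hone z hy rfl]
      have hl := (hi z hy).length_eq
      erw [hl]
      simp
    · rw [if_neg]
      · by_contra h
        exact hzy ((hi y hy).eq_of_specializes he ((hi z ((hT z).2 (Ne.symm h))).spec y he.symm))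
      · intro hd
        have hlt := (hset'.2.2 y z ((hi y hy).spec z he) (Ne.symm hzy)).1
        rw [hmax y hy, hd, add_zero, he] at hlt
        exact lt_irrefl _ hlt
  · push_neg at hex
    have h0 : α' z = 0 := by
      by_contra h
      exact hex z ((hT z).2 h) rfl
    have ha : a (Cyc26Lim.pr D c i z) = 0 := Finset.sum_eq_zero fun y hy => by
      rw [Finset.mem_filter] at hy
      exact absurd hy.2.symm (hex y hy.1)
    rw [ha, h0, zero_mul, ite_self]

end Groth.Agent.S6495
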