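import Groth.Statements.S6496
import Groth.Agent.Lib.Cyc26.Limit
import Groth.Agent.Lib.Cyc26.LimitCycle
-- import your own Groth.Agent.* helpers here

set_option autoImplicit false
universe u
open CategoryTheory AlgebraicGeometry
open Cyc

namespace Groth.Agent.S6496

/-- Injectivity of colim Z_k(X_i) → Z_k(X'): if a k-cycle α on X_i pulls back to the zero cycle on X',
then it pulls back to zero on some stage X_j above X_i. Setting: a directed inverse system (X_i) of
quasi-compact schemes with affine flat transition morphisms and limit X' (a limit cone), each X_i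
and X' carrying a dimension function with Cyc.IsSetup, and every transition map and every projection
X' → X_i shifting the dimension functions by c = 0 at generic points of fibres, so that the
base-change pullbacks g^* are Cyc.pullFun with shift 0. (The published statement takes X_i and X′ to
be the base changes of one quasi-compact scheme of finite type over a base S along S_i → S and lim
S_i → S; this row allows any such inverse system.) -/
theorem result (I : Type u) [Preorder I] [IsDirected I (fun a b => a ≤ b)] [Nonempty I] (D : Iᵒᵖ ⥤ Scheme.{u}) (c : Limits.Cone D) (hc : Limits.IsLimit c) (haff : ∀ (i j : Iᵒᵖ) (f : i ⟶ j), IsAffineHom (D.map f)) (hflat : ∀ (i j : Iᵒᵖ) (f : i ⟶ j), Flat (D.map f)) (hqc : ∀ i, CompactSpace ↥(D.obj i)) (δ : (i : Iᵒᵖ) → ↥(D.obj i) → ℤ) (δ' : ↥c.pt → ℤ) (hset : ∀ i, Cyc.IsSetup (D.obj i) (δ i)) (hset' : Cyc.IsSetup c.pt δ') (hshift : ∀ (i j : Iᵒᵖ) (f : i ⟶ j) (x : ↥(D.obj i)), (∀ y, D.map f y = D.map f x → y ⤳ x → y = x) → δ i x =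 δ j (D.map f x)) (hflat' : ∀ i, Flat (c.π.app i)) (hshift' : ∀ (i : Iᵒᵖ) (x : ↥c.pt), (∀ y, c.π.app i y = c.π.app i x → y ⤳ x → y = x) → δ' x = δ i (c.π.app i x)) (k : ℤ) (i : Iᵒᵖ) (α : AlgebraicCycle (D.obj i) ℤ) (hα : α ∈ Cyc.Zk (D.obj i) (δ i) k) (h0 : Cyc.pullFun (c.π.app i) δ' (δ i) 0 ⇑α = 0) : ∃ (j : Iᵒᵖ) (f : j ⟶ i), Cyc.pullFun (D.map f) (δ j) (δ i) 0 ⇑α = 0 := by
  classical
  haveI := hqc
  haveI : ∀ {a b : Iᵒᵖ} (f : a ⟶ b), IsAffineHom (D.map f) := fun f => haff _ _ f
  haveI := hflat' i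
  set T := (Cyc26Lim.finite_support α).toFinset
  have hemp : ∀ x ∈ T, ∀ z : c.pt, c.π.app i z ≠ x := by
    intro x hx z hz
    have hx' : α x ≠ 0 := by simpa [T] using hx
    obtain ⟨y, hy, hymax⟩ := Cyc26Lim.exists_max (δ := δ') (Cyc26Lim.pr D c i) z hset'.1 hset'.2.2
    haveI : IsLocallyNoetherian c.pt := hset'.1
    have hyx : Cyc26Lim.pr D c i y = x := hy.trans hz
    have hd : δ' y = δ i (Cyc26Lim.pr D c i y) + 0 := by
      rw [add_zero]
      exact hshift' i y fun y' h1 h2 => hymax y' h1 h2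
    have h1 := congrFun h0 y
    change (if δ' y = δ i (Cyc26Lim.pr D c i y) + 0 then
      α (Cyc26Lim.pr D c i y) * _ else 0) = 0 at h1
    rw [if_pos hd] at h1
    rcases mul_eq_zero.1 h1 with h2 | h2
    · exact hx' (hyx ▸ h2)
    · exact Cyc26Lim.length_pos (Cyc26Lim.pr D c i) y hymax (Int.natCast_eq_zero.1 h2)
  choose jx fx hfx using fun x : T => Cyc26Lim.exists_fibre_eq_empty D c hc x.1 (hemp x.1 x.2)
  obtain ⟨j, hj⟩ := IsCofiltered.inf_objs_exists (insert i (Finset.univ.image jx))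
  obtain ⟨f⟩ := hj (Finset.mem_insert_self i _)
  refine ⟨j, f, funext fun z => ?_⟩
  have hz : α (D.map f z) = 0 := by
    by_contra h
    have hm : D.map f z ∈ T := by simpa [T] using h
    obtain ⟨t⟩ := hj (Finset.mem_insert_of_mem (Finset.mem_image_of_mem jx (Finset.mem_univ ⟨_, hm⟩)))
    refine hfx ⟨_, hm⟩ (D.map t z) ?_
    rw [← Scheme.Hom.comp_apply, ← D.map_comp, Subsingleton.elim (t ≫ fx ⟨_, hm⟩) f]
  unfold Cyc.pullFun
  simp only [hz, zero_mul, ite_self, Pi.zero_apply]

end Groth.Agent.S6496
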