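import Groth.Statements.S6498
import Groth.Agent.Lib.Exact8.Externals
import Groth.Agent.Lib.DBC9.Good
import Groth.Agent.Lib.RelPCS8.Noeth

set_option autoImplicit false
universe u
open CategoryTheory CategoryTheory.Limits AlgebraicGeometry
attribute [local instance] HasDerivedCategory.standard
open IntMult

namespace Groth.Agent.S6498

/-- Let X be a locally Noetherian scheme. If L and K lie in D^-_Coh(O_X) (bounded above with coherent
cohomology sheaves) then so does L ⊗^L_{O_X} K. Here K is presented by a cochain complex E and − ⊗^L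
E is the prelude's total left derived functor DCoh.LTensorCx E, under its existence hypothesis
DCoh.HasLTensorCx E. (Part (1), coherence of the Tor sheaves of two coherent modules, is not
stated.) -/
theorem result (X : Scheme.{u}) [IsLocallyNoetherian X] (E : CochainComplex X.Modules ℤ) [DCoh.HasLTensorCx E] (L : DCoh.D X) (hL : DCoh.IsCohD L) (hLb : ∃ a : ℤ, ∀ i, a < i → IsZero (DCoh.HD L i)) (hE : DCoh.IsCohD (DCoh.toD X E)) (hEb : ∃ b : ℤ, ∀ i, b < i → IsZero (DCoh.HD (DCoh.toD X E) i)) : DCoh.IsCohD ((DCoh.LTensorCx E).obj L) ∧ ∃ n : ℤ, ∀ i, n < i → IsZero (DCoh.HD ((DCoh.LTensorCx E).obj L) i) := by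
  obtain ⟨a, ha⟩ := hLb
  obtain ⟨b, hb⟩ := hEb
  haveI : L.IsLE a := (DerivedCategory.isLE_iff L a).2 ha
  haveI hEle : (DCoh.toD X E).IsLE b := (DerivedCategory.isLE_iff _ b).2 hb
  haveI := Groth.Agent.KFlat.Sch.hasLpull (𝟙 X)
  obtain ⟨n⟩ := Groth.Agent.DMon9.nonempty_lpull_natIso_lP (f := 𝟙 X)
  let i : (DCoh.Lpull (𝟙 X)).obj L ≅ L := n.app L ≪≫ (Groth.Agent.DBC9.lPId X).app L
  let j := (DCoh.LTensorCx E).mapIso i
  haveI hle : ((DCoh.LTensorCx E).obj L).IsLE (b + a) :=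
    @Triangulated.TStructure.isLE_of_iso _ _ _ _ _ _ _ _ _ _ j (b + a) (Groth.Agent.Exact8.isLE_lt_lpull b a E L)
  have hpc : ∀ {K : DCoh.D X} {c : ℤ}, DCoh.IsCohD K → K.IsLE c → ∀ m, DCoh.IsPseudoCoherentD m K :=
    fun {K c} hK hc m => Groth.Agent.RelPCS8.Noeth.pc_of_isCohD hK
      (fun x => ⟨⊤, c, trivial, @Groth.Agent.RelPCS8.Noeth.isLE_res _ K c hc _ _ _⟩) m
  have hEr : ∀ m, DerSch.IsPseudoCoherentRel (𝟙 X) m (DCoh.toD X E) := fun m =>
    (Groth.Agent.RelPCS8.Noeth.rel_iff_pc' (𝟙 X) m _).2 (hpc hE hEle m)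
  have hLr : ∀ m, DerSch.IsPseudoCoherentRel (𝟙 X) m L := fun m =>
    (Groth.Agent.RelPCS8.Noeth.rel_iff_pc' (𝟙 X) m _).2 (hpc hL ‹L.IsLE a› m)
  refine ⟨?_, b + a, (DerivedCategory.isLE_iff _ (b + a)).1 hle⟩
  have hall : DerSch.IsPseudoCoherentRelAll (𝟙 X) ((DCoh.LTensorCx E).obj ((DCoh.Lpull (𝟙 X)).obj L)) := fun m => by
    have h := Groth.Agent.Exact8.rel_lt_lpull (f := 𝟙 X) (g := 𝟙 X) (a := m - a) (b := b) (c := m - b) (d := a) (m := m)
      (by omega) (by omega) E (hEr _) (hLr _)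
    rwa [Category.comp_id] at h
  intro q
  exact Groth.Agent.CohMop.isCoh_of_iso ((DerivedCategory.homologyFunctor X.Modules q).mapIso j)
    (Groth.Agent.RelPCS8.Noeth.isCohD_of_relAll (𝟙 X) hall q)

end Groth.Agent.S6498
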