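import Groth.Statements.S6502
import Groth.Agent.S2168
import Groth.Agent.Lib.CI2.AvramovCI

set_option autoImplicit false
universe u
open LCI

namespace Groth.Agent.S6502

/-- A Noetherian ring A is a local complete intersection (every localization A_p at a prime is a
complete intersection, that is, its completion is a regular complete local ring modulo a regular
sequence) exactly when, for each maximal ideal m of A, the localization A_m is itself a complete
intersection. -/
theorem result {A : Type u} [CommRing A] [IsNoetherianRing A] :
    (∀ (p : Ideal A) [p.IsPrime], Pi1.IsCompleteIntersection (Localization.AtPrime p)) ↔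
    (∀ (m : Ideal A) [m.IsMaximal], Pi1.IsCompleteIntersection (Localization.AtPrime m)) := by
  refine ⟨fun h m _ => h m, fun h p hp => ?_⟩
  obtain ⟨m, hm, hpm⟩ := Ideal.exists_le_maximal p hp.ne_top
  let L := Localization.AtPrime m
  have hdisj : Disjoint (m.primeCompl : Set A) (p : Set A) :=
    Set.disjoint_left.2 fun x hx hxp => hx (hpm hxp)
  haveI hP : (p.map (algebraMap A L)).IsPrime :=
    IsLocalization.isPrime_of_isPrime_disjoint m.primeCompl L p hp hdisj
  have hcomap : (p.map (algebraMap A L)).comap (algebraMap A L) = p :=
    IsLocalization.comap_map_of_isPrime_disjoint m.primeCompl L hp hdisj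
  have hci := Groth.Agent.S2168.result (h m) (p.map (algebraMap A L))
  haveI : ((p.map (algebraMap A L)).comap (algebraMap A L)).IsPrime := Ideal.IsPrime.comap _
  haveI : IsLocalization.AtPrime (Localization.AtPrime (p.map (algebraMap A L)))
      ((p.map (algebraMap A L)).comap (algebraMap A L)) :=
    IsLocalization.isLocalization_isLocalization_atPrime_isLocalization m.primeCompl _ _
  haveI : IsLocalization.AtPrime (Localization.AtPrime (p.map (algebraMap A L))) p := by
    have := this
    simp only [hcomap] at this
    exact this
  exact Groth.Agent.CI2.ci_congr
    (IsLocalization.algEquiv p.primeCompl (Localization.AtPrime (p.map (algebraMap A L)))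
      (Localization.AtPrime p)).toRingEquiv hci

end Groth.Agent.S6502
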