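import Groth.Statements.S6506
import Groth.Agent.Lib.HyperH28.InClass

set_option autoImplicit false
universe u
open CategoryTheory
open Hyper

namespace Groth.Agent.S6506

open Opposite CategoryTheory.Limits in
/-- Let C be a small site with fibre products and B a class of objects such that (1) every object U has
a covering {U_j → U} with all U_j in B, and (2) whenever {U_j → U} is a covering with all U_j in B
and U' → U is a morphism with U' in B, the family obtained by adding U' → U is again a covering.
Then every object X has a hypercovering K such that every object occurring in every K_n belongs to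
B. -/
theorem result {C : Type u} [SmallCategory C] [HasPullbacks C]
    (J : GrothendieckTopology C) (B : Set C)
    (h1 : ∀ U : C, ∃ (ι : Type u) (V : ι → C) (f : ∀ i, V i ⟶ U), Sieve.ofArrows V f ∈ J U ∧ ∀ i, V i ∈ B)
    (h2 : ∀ (U : C) (ι : Type u) (V : ι → C) (f : ∀ i, V i ⟶ U),
      Sieve.ofArrows V f ∈ J U → (∀ i, V i ∈ B) → ∀ (U' : C) (g : U' ⟶ U), U' ∈ B →
      Sieve.ofArrows (Option.elim' U' V) (fun o => Option.rec g f o) ∈ J U)
    (X : C) [∀ (n : ℕ) (F : (SimplexCategory.Truncated n)ᵒᵖ ⥤ Limits.FormalCoproduct.{u} (Over X)),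
      (SimplexCategory.Truncated.inclusion n).op.HasRightKanExtension F] :
    ∃ K : SimplicialObject (FormalCoproduct.{u} (Over X)), Hyper.IsHypercovering J X K ∧
      ∀ (n : ℕ) (i : (K.obj (op (SimplexCategory.mk n))).I),
        ((K.obj (op (SimplexCategory.mk n))).obj i).left ∈ B := by
  choose ι' Y f hf hY using h1
  obtain ⟨K, hK, hP⟩ := Groth.Agent.HyperH28.exists_hyp_all
    (Groth.Agent.HyperH28.covOver J X (⟨ι', Y, f, hf, hY⟩ : Groth.Agent.HyperH28.CovData J (· ∈ B)))
  exact ⟨K, Groth.Agent.HyperH28.isHypercovering_of_fills J X hK, hP⟩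

end Groth.Agent.S6506
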