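import Groth.Statements.S6514
import Groth.Agent.Lib.KFlat.Pullback
import Groth.Agent.Lib.KInj.Basic

set_option autoImplicit false
set_option backward.isDefEq.respectTransparency false
universe u
open CategoryTheory
open DCoh

namespace Groth.Agent.S6514

open CategoryTheory.Limits AlgebraicGeometry
open scoped TensorProduct

theorem mono_pullback {X Y : Scheme.{u}} (f : X ⟶ Y) [Flat f] {A B : Y.Modules} (g : A ⟶ B) [Mono g] :
    Mono ((Scheme.Modules.pullback f).map g) := by
  refine (KFlat.Sch.mono_iff_stalk _).2 fun y => ?_
  have hinj : Function.Injective (KFlat.Sch.stk g (f y)) := (KFlat.Sch.mono_iff_stalk g).1 inferInstance (f y)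
  have : _root_.Module.Flat (Y.presheaf.stalk (f y)) (X.presheaf.stalk y) := Flat.stalkMap f y
  have key := _root_.Module.Flat.lTensor_preserves_injective_linearMap
    (M := X.presheaf.stalk y) (KFlat.Sch.stk g (f y)) hinj
  intro a b hab
  obtain ⟨a, rfl⟩ := (M2.pullStalkEquiv f y A).surjective a
  obtain ⟨b, rfl⟩ := (M2.pullStalkEquiv f y A).surjective b
  rw [KFlat.Sch.pullStalkEquiv_naturality, KFlat.Sch.pullStalkEquiv_naturality] at hab
  exact congrArg _ (key ((M2.pullStalkEquiv f y B).injective hab))


open AlgebraicGeometry in
/-- If f : X → Y is a flat morphism of schemes and I is a K-injective complex of O_X-modules, then f_* I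
(direct image applied termwise) is a K-injective complex of O_Y-modules. (The published statement is
for flat morphisms of ringed spaces; this row is for flat morphisms of schemes.) -/
theorem result {X Y : Scheme.{u}} (f : X ⟶ Y) [Flat f]
    (I : CochainComplex X.Modules ℤ) (hI : I.IsKInjective) :
    CochainComplex.IsKInjective (((Scheme.Modules.pushforward f).mapHomologicalComplex (ComplexShape.up ℤ)).obj I) := by
  have := KFlat.Sch.preservesFiniteColimits_pullback f
  have : PreservesBinaryBiproducts (Scheme.Modules.pullback f) := preservesBinaryBiproducts_of_preservesBinaryCoproducts _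
  have : (Scheme.Modules.pullback f).Additive := Functor.additive_of_preservesBinaryBiproducts _
  have : PreservesFiniteLimits (Scheme.Modules.pullback f) :=
    (Functor.preservesFiniteLimits_iff_forall_exact_map_and_mono _).2 fun S hS => by
      have := hS.mono_f
      have := hS.epi_g
      exact ⟨hS.exact.map_of_epi_of_preservesCokernel _ hS.epi_g inferInstance, mono_pullback f S.f⟩
  have := hI
  exact KInjLib.isKInjective_of_adj (Scheme.Modules.pushforward f) (Scheme.Modules.pullback f)
    (Scheme.Modules.pullbackPushforwardAdjunction f) I

end Groth.Agent.S6514
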