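import Groth.Statements.S6516
import Groth.Agent.Lib.DPerf.Local
-- import your own Groth.Agent.* helpers here

set_option autoImplicit false
universe u
open CategoryTheory
open DCoh

namespace Groth.Agent.S6516

open AlgebraicGeometry in
/-- Schemes; with the bounded finite-locally-free reading of strictly perfect used throughout this
problem's derived-category definitions: the mapping cone of a morphism between strictly perfect
complexes of O_X-modules is strictly perfect. -/
theorem result {X : Scheme.{u}} {E F : CochainComplex X.Modules ℤ} (φ : E ⟶ F)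
    (hE : DCoh.IsStrictlyPerfect E) (hF : DCoh.IsStrictlyPerfect F) :
    DCoh.IsStrictlyPerfect (CochainComplex.mappingCone φ) := by
  obtain ⟨⟨a, b, hv⟩, hf⟩ := hE
  obtain ⟨⟨c, d, hw⟩, hg⟩ := hF
  have e : ∀ n : ℤ, (CochainComplex.mappingCone φ).X n ≅ Limits.biprod (E.X (n + 1)) (F.X n) := fun n =>
    { hom := Limits.biprod.lift ((CochainComplex.mappingCone.fst φ).1.v n (n + 1) rfl)
        ((CochainComplex.mappingCone.snd φ).v n n (add_zero n))
      inv := Limits.biprod.desc ((CochainComplex.mappingCone.inl φ).v (n + 1) n (by omega))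
        ((CochainComplex.mappingCone.inr φ).f n)
      hom_inv_id := by rw [Limits.biprod.lift_desc]; exact CochainComplex.mappingCone.id_X _ n (n + 1) rfl
      inv_hom_id := by apply Limits.biprod.hom_ext' <;> apply Limits.biprod.hom_ext <;> simp }
  refine ⟨⟨min (a - 1) c, max b d, fun i hi => ?_⟩, fun n => ?_⟩
  · refine Limits.IsZero.of_iso ?_ (e i)
    rw [Limits.biprod_isZero_iff]
    exact ⟨hv (i + 1) (by omega), hw i (by omega)⟩
  · exact Groth.Agent.M2.isFinLocFree_of_iso (e n).symm
      (Groth.Agent.KFlat.Sch.isFinLocFree_biprod (hf (n + 1)) (hg n))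

end Groth.Agent.S6516
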