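import Groth.Statements.S6521
import Groth.Agent.Lib.SiteRlim16.Space

set_option autoImplicit false
universe u
open CategoryTheory
open CohTop

namespace Groth.Agent.S6521
set_option linter.style.haveILetI false
set_option backward.isDefEq.respectTransparency false
set_option backward.isDefEq.respectTransparency.types false


open TopologicalSpace CategoryTheory.Limits in
/-- Let E be an object of the derived category of abelian sheaves on a topological space X. Assume there
are a function p : ℤ → ℤ and a basis B of opens of X such that H^k(U, H^{m-k}(E)) = 0 for every U in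
B, every m and every k > p(m). Then E is a derived limit of the tower of its truncations τ_{≥ -n} E
through the canonical maps. The countable product of the truncations is assumed to exist. (The
published statement is for D(O_X) of a ringed space; this row is for abelian sheaves on a
topological space.) -/
theorem result {X : TopCat.{u}}
    [HasDerivedCategory.{u} (CohTop.Ab X)] (E : DerivedCategory (CohTop.Ab X))
    [HasProduct (CohCx.truncTower E)] (B : Set (Opens X)) (hB : Opens.IsBasis B) (p : ℤ → ℤ)
    (h : ∀ U ∈ B, ∀ (m : ℤ) (k : ℕ), p m < k → Subsingleton (CohTop.HU (CohCx.HD E (m - k)) k U)) :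
    CohCx.IsRlimVia (CohCx.truncTower E) (CohCx.truncTowerMap E) E (CohCx.toTruncTower E) := by
  refine Groth.Agent.SiteRlim.isRlimVia_truncTower_space E fun x m => ?_
  refine ⟨(max (p m) (p (m + 1)) - m).toNat, fun V hV => ?_⟩
  have hp : ∀ V : Opens X, x ∈ V → ∃ U : Opens X, x ∈ U ∧ U ≤ V ∧
      ∀ (m : ℤ) (k : ℕ), p m < k → Subsingleton (CohTop.HU (CohCx.HD E (m - k)) k U) := fun V hV => by
    obtain ⟨U, hU, hxU, hUV⟩ := Opens.isBasis_iff_nbhd.1 hB hV
    exact ⟨U, hxU, hUV, h U hU⟩
  · obtain ⟨U, hxU, hUV, hv⟩ := hp V hV
    refine ⟨U, hxU, hUV, fun n k hn hk hk' => ?_⟩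
    have := hv ((k : ℤ) - n - 1) k (by
      rcases eq_or_ne ((k : ℤ) - n - 1) m with e | e
      · rw [e]; omega
      · rw [show (k : ℤ) - n - 1 = m + 1 by omega]; omega)
    rwa [show (k : ℤ) - n - 1 - k = -(n : ℤ) - 1 by omega] at this

end Groth.Agent.S6521
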