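import Groth.Statements.S6524
import Groth.Agent.Lib.FC16.Baer
import Mathlib.CategoryTheory.Adjunction.Whiskering
import Mathlib.CategoryTheory.Sites.Abelian

set_option autoImplicit false
universe u
open CategoryTheory
open CohSite

namespace Groth.Agent.S6524
set_option linter.style.haveILetI false
set_option backward.isDefEq.respectTransparency false
set_option backward.isDefEq.respectTransparency.types false


/-- Let (C, J) be a small site and I an abelian sheaf. Suppose that for every object X of C, every
abelian subsheaf S of the free abelian sheaf Z_X^# on X (given as a monomorphism S → Z_X^#) and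
every morphism S → I, the morphism extends to Z_X^# → I. Then I is an injective abelian sheaf. -/
theorem result {C : Type u} [SmallCategory C]
    (J : GrothendieckTopology C) (I : Sheaf J AddCommGrpCat.{u})
    (h : ∀ (X : C) (S : Sheaf J AddCommGrpCat.{u}) (i : S ⟶ CohCx.freeSheaf J X) [Mono i] (φ : S ⟶ I),
      ∃ ψ : CohCx.freeSheaf J X ⟶ I, i ≫ ψ = φ) :
    Injective I := by
  let adj := (AddCommGrpCat.adj.{u}.whiskerRight Cᵒᵖ).comp (sheafificationAdjunction J AddCommGrpCat.{u})
  refine Groth.Agent.FC16.Baer.injective_of_isSeparating (P := ObjectProperty.ofObj (CohCx.freeSheaf J)) ?_ I ?_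
  · intro M N f g hfg
    apply ObjectProperty.hom_ext
    ext V x
    let y : yoneda.obj V.unop ⟶ M.obj ⋙ CategoryTheory.forget AddCommGrpCat.{u} := yonedaEquiv.symm x
    have e := congrArg (adj.homEquiv (yoneda.obj V.unop) N) (hfg _ ⟨V.unop⟩ ((adj.homEquiv (yoneda.obj V.unop) M).symm y))
    rw [adj.homEquiv_naturality_right ((adj.homEquiv _ _).symm y) f, adj.homEquiv_naturality_right ((adj.homEquiv _ _).symm y) g, Equiv.apply_symm_apply] at e
    have e2 := congrArg yonedaEquiv e
    simpa [y, yonedaEquiv] using e2
  · rintro _ ⟨X⟩ S i hi φ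
    exact h X S i φ

end Groth.Agent.S6524
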