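import Groth.Statements.S6530
import Mathlib.RingTheory.AdicCompletion.Algebra
import Mathlib.RingTheory.DividedPowers.DPMorphism
import Mathlib.Tactic.LinearCombination

set_option autoImplicit false
universe u
open DPow

namespace Groth.Agent.S6530

/-- Let (A, I, γ) be a divided power ring and p a prime number with p^t A ⊆ I for some t ≥ 0, so that p
is nilpotent in A/I. Let A^∧ be the p-adic completion of A and π : A^∧ → A/I the composite of the
evaluation A^∧ → A/p^tA with the projection A/p^tA → A/I. Then π is surjective, and there is a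
divided power structure on Ker(π) (this kernel is the p-adic completion of I) such that the
canonical map A → A^∧ is a homomorphism of divided power rings. -/
theorem result {A : Type u} [CommRing A] {I : Ideal A}
    (γ : DividedPowers I) (p : ℕ) [Fact p.Prime] (t : ℕ) (ht : Ideal.span {(p : A)} ^ t ≤ I) :
    Function.Surjective ((Ideal.Quotient.factor ht).comp
      (AdicCompletion.evalₐ (Ideal.span {(p : A)}) t).toRingHom) ∧
    ∃ δ : DividedPowers (RingHom.ker ((Ideal.Quotient.factor ht).comp
      (AdicCompletion.evalₐ (Ideal.span {(p : A)}) t).toRingHom)),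
      γ.IsDPMorphism δ (algebraMap A (AdicCompletion (Ideal.span {(p : A)}) A)) := by
  classical
  let J : Ideal A := Ideal.span {(p : A)}
  let π : AdicCompletion J A →+* A ⧸ I := (Ideal.Quotient.factor ht).comp (AdicCompletion.evalₐ J t).toRingHom
  let K := RingHom.ker π
  refine ⟨(Ideal.Quotient.factor_surjective ht).comp (AdicCompletion.surjective_evalₐ J t), ?_⟩
  have hJI : ∀ k, J ^ (k + t) ≤ I := fun k => (Ideal.pow_le_pow_right (by omega)).trans ht
  have good : ∀ (n k : ℕ) (a a' : A), a ∈ I → Ideal.Quotient.mk (J ^ (k + t)) a' = Ideal.Quotient.mk (J ^ (k + t)) a →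
      Ideal.Quotient.mk (J ^ k) (γ.dpow n a') = Ideal.Quotient.mk (J ^ k) (γ.dpow n a) := by
    intro n k a a' ha h
    rw [Ideal.Quotient.eq] at h ⊢
    rw [Ideal.span_singleton_pow, Ideal.mem_span_singleton] at h
    obtain ⟨c, hc⟩ := h
    have hb : (p : A) ^ t * c ∈ I :=
      ht (Ideal.mul_mem_right _ _ (Ideal.pow_mem_pow (Ideal.mem_span_singleton_self _) t))
    have e : a' = (p : A) ^ k * ((p : A) ^ t * c) + a := by linear_combination (norm := ring_nf) hc
    rw [e, γ.dpow_add (I.mul_mem_left _ hb) ha]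
    rw [← Finset.add_sum_erase _ _ (show (0, n) ∈ Finset.antidiagonal n by simp), γ.dpow_zero (I.mul_mem_left _ hb),
      one_mul, add_sub_cancel_left]
    refine Ideal.sum_mem _ fun q hq => ?_
    simp only [Finset.mem_erase, Finset.mem_antidiagonal, ne_eq] at hq
    have hq1 : q.1 ≠ 0 := fun h0 => hq.1 (Prod.ext h0 (by omega))
    rw [γ.dpow_mul hb, ← pow_mul]
    exact Ideal.mul_mem_right _ _ (Ideal.mul_mem_right _ _
      (Ideal.pow_le_pow_right (Nat.le_mul_of_pos_right k (Nat.pos_of_ne_zero hq1))
        (Ideal.pow_mem_pow (Ideal.mem_span_singleton_self _) _)))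
  have hmemI : ∀ z ∈ K, ∀ k a, AdicCompletion.evalₐ J (k + t) z = Ideal.Quotient.mk _ a → a ∈ I := by
    intro z hz k a ha
    obtain ⟨f, rfl⟩ := AdicCompletion.mk_surjective J A z
    rw [AdicCompletion.evalₐ_mk, Ideal.Quotient.eq] at ha
    have h1 : π (AdicCompletion.mk J A f) = Ideal.Quotient.mk I (f.val t) := by
      show Ideal.Quotient.factor ht (AdicCompletion.evalₐ J t (AdicCompletion.mk J A f)) = _
      rw [AdicCompletion.evalₐ_mk, Ideal.Quotient.factor_mk]
    rw [RingHom.mem_ker, h1, Ideal.Quotient.eq_zero_iff_mem] at hz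
    have h2 := Ideal.Quotient.eq.mp (AdicCompletion.Ideal.mk_eq_mk J (show t ≤ k + t by omega) f)
    have := I.sub_mem (I.add_mem (ht h2) hz) (hJI k ha)
    convert this using 1
    ring
  let G : AdicCompletion.AdicCauchySequence J A → ℕ → ℕ → A := fun f n k => γ.dpow n (f.val (k + t))
  have hG : ∀ (f : AdicCompletion.AdicCauchySequence J A), AdicCompletion.mk J A f ∈ K → ∀ n k,
      G f n k ≡ G f n (k + 1) [SMOD (J ^ k • ⊤ : Submodule A A)] := by
    intro f hf n k
    rw [SModEq.sub_mem, smul_eq_mul, Ideal.mul_top, ← Ideal.Quotient.eq]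
    refine good n k _ _ (hmemI _ hf (k + 1) _ (AdicCompletion.evalₐ_mk _ _ _)) ?_
    exact (AdicCompletion.Ideal.mk_eq_mk J (by omega) f).symm
  let d : ℕ → AdicCompletion J A → AdicCompletion J A := fun n z =>
    if hz : z ∈ K then
      AdicCompletion.mk J A (AdicCompletion.AdicCauchySequence.mk J A (G (AdicCompletion.mk_surjective J A z).choose n)
        (hG _ (by rw [(AdicCompletion.mk_surjective J A z).choose_spec]; exact hz) n))
    else 0
  have hd : ∀ n, ∀ z ∈ K, ∀ k a, AdicCompletion.evalₐ J (k + t) z = Ideal.Quotient.mk _ a →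
      AdicCompletion.evalₐ J k (d n z) = Ideal.Quotient.mk _ (γ.dpow n a) := by
    intro n z hz k a ha
    simp only [d, dif_pos hz, AdicCompletion.evalₐ_mk]
    refine good n k a _ (hmemI z hz k a ha) ?_
    refine Eq.trans ?_ ha
    conv_rhs => rw [← (AdicCompletion.mk_surjective J A z).choose_spec]
    exact (AdicCompletion.evalₐ_mk _ _ _).symm
  have rep : ∀ (z : AdicCompletion J A) k, ∃ a, AdicCompletion.evalₐ J k z = Ideal.Quotient.mk _ a := fun z k => by
    obtain ⟨a, ha⟩ := Ideal.Quotient.mk_surjective (AdicCompletion.evalₐ J k z)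
    exact ⟨a, ha.symm⟩
  have hdK : ∀ n z, n ≠ 0 → z ∈ K → d n z ∈ K := by
    intro n z hn hz
    obtain ⟨a, ha⟩ := rep z (t + t)
    show Ideal.Quotient.factor ht (AdicCompletion.evalₐ J t (d n z)) = 0
    rw [hd n z hz t a ha, Ideal.Quotient.factor_mk, Ideal.Quotient.eq_zero_iff_mem]
    exact γ.dpow_mem hn (hmemI z hz t a ha)
  let δ : DividedPowers K :=
    { dpow := d
      dpow_null := fun hz => dif_neg hz
      dpow_zero := fun {z} hz => AdicCompletion.ext_evalₐ fun k => by
        obtain ⟨a, ha⟩ := rep z (k + t)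
        rw [hd 0 z hz k a ha, γ.dpow_zero (hmemI z hz k a ha), map_one, map_one]
      dpow_one := fun {z} hz => AdicCompletion.ext_evalₐ fun k => by
        obtain ⟨a, ha⟩ := rep z (k + t)
        rw [hd 1 z hz k a ha, γ.dpow_one (hmemI z hz k a ha)]
        obtain ⟨f, rfl⟩ := AdicCompletion.mk_surjective J A z
        rw [AdicCompletion.evalₐ_mk] at ha ⊢
        rw [← AdicCompletion.Ideal.mk_eq_mk J (show k ≤ k + t by omega) f, Ideal.Quotient.eq]
        rw [Ideal.Quotient.eq] at ha
        have := Ideal.pow_le_pow_right (show k ≤ k + t by omega) ha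
        simpa using neg_mem this
      dpow_mem := fun hn hz => hdK _ _ hn hz
      dpow_add := fun {n z w} hz hw => AdicCompletion.ext_evalₐ fun k => by
        obtain ⟨a, ha⟩ := rep z (k + t)
        obtain ⟨b, hb⟩ := rep w (k + t)
        rw [hd n (z + w) (K.add_mem hz hw) k (a + b) (by rw [map_add, map_add, ha, hb]),
          γ.dpow_add (hmemI z hz k a ha) (hmemI w hw k b hb), map_sum, map_sum]
        exact Finset.sum_congr rfl fun q _ => by rw [map_mul, map_mul, hd _ z hz k a ha, hd _ w hw k b hb]
      dpow_mul := fun {n x z} hz => AdicCompletion.ext_evalₐ fun k => by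
        obtain ⟨a, ha⟩ := rep z (k + t)
        obtain ⟨c, hc⟩ := rep x (k + t)
        have hc' : AdicCompletion.evalₐ J k x = Ideal.Quotient.mk _ c := by
          obtain ⟨f, rfl⟩ := AdicCompletion.mk_surjective J A x
          rw [AdicCompletion.evalₐ_mk] at hc ⊢
          rw [← AdicCompletion.Ideal.mk_eq_mk J (show k ≤ k + t by omega) f, Ideal.Quotient.eq]
          exact Ideal.pow_le_pow_right (by omega) (Ideal.Quotient.eq.mp hc)
        rw [hd n (x * z) (K.mul_mem_left x hz) k (c * a) (by rw [map_mul, map_mul, ha, hc]),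
          γ.dpow_mul (hmemI z hz k a ha), map_mul, map_mul, map_pow, map_pow, hd n z hz k a ha, hc']
      mul_dpow := fun {m n z} hz => AdicCompletion.ext_evalₐ fun k => by
        obtain ⟨a, ha⟩ := rep z (k + t)
        rw [map_mul, map_mul, map_natCast, hd m z hz k a ha, hd n z hz k a ha, hd _ z hz k a ha, ← map_mul,
          γ.mul_dpow (hmemI z hz k a ha), map_mul, map_natCast]
      dpow_comp := fun {m n z} hn hz => AdicCompletion.ext_evalₐ fun k => by
        obtain ⟨a, ha⟩ := rep z (k + t + t)
        have ha' : AdicCompletion.evalₐ J (k + t) z = Ideal.Quotient.mk _ a := by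
          obtain ⟨f, rfl⟩ := AdicCompletion.mk_surjective J A z
          rw [AdicCompletion.evalₐ_mk] at ha ⊢
          rw [← AdicCompletion.Ideal.mk_eq_mk J (show k + t ≤ k + t + t by omega) f, Ideal.Quotient.eq]
          exact Ideal.pow_le_pow_right (by omega) (Ideal.Quotient.eq.mp ha)
        rw [hd m _ (hdK n z hn hz) k _ (hd n z hz (k + t) a ha), map_mul, map_natCast, hd _ z hz k a ha',
          γ.dpow_comp hn (hmemI z hz k a ha'), map_mul, map_natCast] }
  have hI : ∀ a ∈ I, algebraMap A (AdicCompletion J A) a ∈ K := fun a ha => by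
    show Ideal.Quotient.factor ht (AdicCompletion.evalₐ J t (algebraMap A (AdicCompletion J A) a)) = 0
    rw [AlgHom.commutes]
    exact Ideal.Quotient.eq_zero_iff_mem.mpr ha
  refine ⟨δ, Ideal.map_le_iff_le_comap.mpr hI, fun {n} a ha => AdicCompletion.ext_evalₐ fun k => ?_⟩
  refine (hd n _ (hI a ha) k a (AlgHom.commutes _ a)).trans (AlgHom.commutes _ _).symm

end Groth.Agent.S6530
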