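import Groth.Statements.S6536
import Groth.Agent.Lib.CurveVA17.RegSec

set_option autoImplicit false
universe u
open CategoryTheory CategoryTheory.Limits AlgebraicGeometry
open Curves

namespace Groth.Agent.S6536

/-- Let X be proper over the field k, of dimension one, with H^0(X, O_X) = k, and let L be an invertible
O_X-module which has a regular global section (a monomorphism O_X → L), satisfies H^1(X, L) = 0 and
is ample. Then L^{⊗6} is very ample on X over k: there is a closed immersion i : X → P^n_k over k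
with i^* O(1) ≅ L^{⊗6}. -/
theorem result (k : Type u) [Field k] (X : Scheme.{u}) [X.Over (Spec (CommRingCat.of k))]
    [IsProper (X ↘ (Spec (CommRingCat.of k)))] (hdim : topologicalKrullDim X = 1)
    (h0 : Module.finrank k (Coh.HH X (Coh.structureModule X) 0) = 1) (L : X.Modules) (hL : PicF.IsInvertible L)
    (hs : ∃ s : Coh.structureModule X ⟶ L, Mono s) (h1 : Subsingleton (Coh.HH X L 1)) (hample : CohB1.IsAmple L) :
    ∃ (n : ℕ) (i : X ⟶ CohB1.ProjSpace n k), IsClosedImmersion i ∧ i ≫ CohB1.ProjSpace.toSpec n k = X ↘ (Spec (CommRingCat.of k)) ∧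
      Nonempty ((Scheme.Modules.pullback i).obj (Twist.twistProjSpace n k 1) ≅ CohB1.tensorPow L 6) := by
  obtain ⟨s, hs⟩ := hs
  haveI := hs
  haveI := Groth.Agent.VB17.isNoetherian_of_over (k := k) (X := X)
  have hgg := Groth.Agent.CurveVA17.isGloballyGenerated_sq k hdim.le hL s h1
  have hv : ∀ n : ℕ, Subsingleton (Coh.HH X (CohB1.tensorPow L (n + 1)) 1) := by
    intro n
    induction n with
    | zero => exact Groth.Agent.CMReg18.van_iso k (Groth.Agent.M2.tensorPowOne L).symm h1
    | succ n ih =>
      exact Groth.Agent.CMReg18.van_iso k (Groth.Agent.M2.tensorComm _ _)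
        (Groth.Agent.CurveVA17.h1_tensor k hdim.le hL s (Groth.Agent.M2.isInvertible_tensorPow hL (n + 1)) ih)
  refine Groth.Agent.CurveVA17.exists_closedImmersion_of_gg k hdim.le (Groth.Agent.M2.isInvertible_tensor hL hL)
    hgg 2 ?_ (Groth.Agent.M2.tensorPowAdd L 3 3 ≪≫ (Groth.Agent.M2.tensorPowMul L L 3).symm)
    ((Groth.Agent.Amp.isAmple_tensorPow_iff hL (n := 6) (by norm_num)).2 hample)
  exact Groth.Agent.CMReg18.van_iso k
    ((Groth.Agent.M2.tensorPowMul L L 2) ≪≫ (Groth.Agent.M2.tensorPowAdd L 2 2).symm).symm (hv 3)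

end Groth.Agent.S6536
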