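import Groth.Statements.S6541
-- import your own Groth.Agent.* helpers here
import Groth.Agent.Lib.CurveCoh17.P1Apps

set_option autoImplicit false
universe u
open CategoryTheory CategoryTheory.Limits AlgebraicGeometry
open Curves

namespace Groth.Agent.S6541

/-- Let X be a proper curve over the field k (proper, integral, of dimension one). If the first
cohomology of O_X vanishes and some invertible O_X-module has degree 1, then X is isomorphic to
P^1_k over k. -/
theorem result (k : Type u) [Field k] (X : Scheme.{u}) [X.Over (Spec (CommRingCat.of k))]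
    [IsIntegral X] [IsProper (X ↘ (Spec (CommRingCat.of k)))] (hdim : topologicalKrullDim X = 1)
    (h1 : Subsingleton (Coh.HH X (Coh.structureModule X) 1))
    (L : X.Modules) (hL : PicF.IsInvertible L) (hdeg : Curv2.deg k X L 1 = 1) :
    ∃ e : X ≅ CohB1.ProjSpace 1 k, e.hom ≫ CohB1.ProjSpace.toSpec 1 k = X ↘ (Spec (CommRingCat.of k)) := by
  have hg : Curv2.genus k X = 0 := Module.finrank_zero_of_subsingleton
  exact Groth.Agent.CurveCoh17.exists_iso_P1 hdim hL hdeg
    ((Groth.Agent.VB17.curveLike hdim).two_le_h0 hg hL hdeg)

end Groth.Agent.S6541
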