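import Groth.Statements.S6543
import Groth.Agent.Lib.DlzCurve17.Gorenstein
import Groth.Agent.Lib.DlzCurve17.Duality
import Groth.Agent.Lib.ThetaGrp19.Scalar
import Groth.Agent.Lib.AutCard17.Curve
import Groth.Agent.Lib.CurveCoh17.P1Apps
import Groth.Agent.Lib.CurveCoh17.Pairing
-- import your own Groth.Agent.* helpers here

set_option autoImplicit false
universe u
open CategoryTheory CategoryTheory.Limits AlgebraicGeometry
open Curves

namespace Groth.Agent.S6543

attribute [local instance] HasDerivedCategory.standard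

open Groth.Agent

/-- An integral proper curve of genus zero with Gorenstein local rings has an invertible module of degree `-2`. -/
theorem exists_deg_neg_two (k : Type u) [Field k] (X : Scheme.{u}) [X.Over (Spec (CommRingCat.of k))]
    [IsIntegral X] [IsProper (X ↘ (Spec (CommRingCat.of k)))] (hdim : topologicalKrullDim X = 1)
    (h0 : Module.finrank k (Coh.HH X (Coh.structureModule X) 0) = 1) (hg : Curv2.genus k X = 0)
    (hgor : ∀ x : X, LocCoh.IsGorensteinLocalRing (X.presheaf.stalk x)) :
    ∃ W : X.Modules, PicF.IsInvertible W ∧ Curv2.deg k X W 1 = -2 := by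
  let str := X ↘ Spec (CommRingCat.of k)
  have hC : CurveCoh17.CurveLike k X := VB17.curveLike hdim
  haveI := hC.noetherian
  haveI : DCoh.HasRpush str := DBC9.hasRpush str
  have h : DCoh.RpushPreservesQCoh str := BC8.rpushPreserves str
  haveI : DCoh.HasShriek str h := BC8.isLeftAdjoint_rpushQ str h
  let OY := BC8.oQ (Spec (CommRingCat.of k))
  have hOY : Nonempty (OY.obj ≅ DCoh.inD (Spec (CommRingCat.of k)) (Coh.structureModule (Spec (CommRingCat.of k)))) :=
    ⟨Iso.refl _⟩
  let W := DCoh.dualizingMod str h OY 1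
  have hW : PicF.IsInvertible W := DlzCurve17.isInvertible_dualizing k X hdim hgor h OY hOY
  obtain ⟨t, ht⟩ := DlzCurve17.exists_trace k X hdim h OY hOY
  refine ⟨W, hW, ?_⟩
  have hWc : Coh.IsCoh W := CurveCoh17.isCoh_of_ofRank ((M2.isInvertible_iff_isFinLocFreeOfRank_one W).1 hW)
  have hOc := CurveCoh17.isCoh_structureModule (X := X)
  haveI : Module.Finite k (Coh.HH X (Coh.structureModule X) 1) := hC.fin _ hOc 1
  haveI : Subsingleton (Coh.HH X (Coh.structureModule X) 1) := Module.finrank_zero_iff.1 hg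
  haveI hW0 : Subsingleton (Coh.HH X W 0) := by
    haveI : Subsingleton (Coh.structureModule X ⟶ W) := ⟨fun a b => by
      obtain ⟨φ, -, huniq⟩ := ht _ hOc 0
      exact (huniq a fun x => by rw [Subsingleton.elim x 0]; simp).trans
        (huniq b fun x => by rw [Subsingleton.elim x 0]; simp).symm⟩
    exact ((CurveCoh17.hh0 W).toEquiv.trans (AutCard17.homEquivGamma W).symm).subsingleton
  haveI : Module.Finite k (Coh.HH X W 1) := hC.fin _ hWc 1
  have ht0 : t ≠ 0 := by
    intro h0'
    obtain ⟨φ, -, huniq⟩ := ht W hWc 0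
    have hid : 𝟙 W = 0 := (huniq _ fun x => by rw [h0']; rfl).trans (huniq _ fun x => by rw [h0']; rfl).symm
    exact VB17.not_isZero_of_invertible hW ((IsZero.iff_id_eq_zero _).2 hid)
  have hscal : ∀ c : Γ(X, ⊤), ∃ a : k, (Coh.toGlobal str a : Γ(X, ⊤)) = c := by
    intro c
    have hne : (CurveCoh17.hh0 (Coh.structureModule X)).symm (M1.one ⊤) ≠ 0 := fun he => by
      have h1 : (M1.one (X := X) ⊤) = 0 := by
        have := congrArg (CurveCoh17.hh0 (Coh.structureModule X)) he
        rwa [AddEquiv.apply_symm_apply, map_zero] at this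
      exact one_ne_zero (α := Γ(X, ⊤)) h1
    obtain ⟨a, ha⟩ := (finrank_eq_one_iff_of_nonzero' _ hne).1 h0
      ((CurveCoh17.hh0 (Coh.structureModule X)).symm (c : Γ(Coh.structureModule X, ⊤)))
    refine ⟨a, ?_⟩
    have := congrArg (CurveCoh17.hh0 (Coh.structureModule X)) ha
    have e := CurveCoh17.hh0_smul (M := Coh.structureModule X) (Coh.toGlobal str a)
      ((CurveCoh17.hh0 (Coh.structureModule X)).symm (M1.one ⊤))
    have e' := e.trans (congrArg (fun z => (show Γ(X, ⊤) from Coh.toGlobal str a) • z)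
      ((CurveCoh17.hh0 (Coh.structureModule X)).apply_symm_apply (M1.one ⊤)))
    exact (mul_one (Coh.toGlobal str a : Γ(X, ⊤))).symm.trans
      (e'.symm.trans (this.trans ((CurveCoh17.hh0 (Coh.structureModule X)).apply_symm_apply _)))
  have h1W : Module.finrank k (Coh.HH X W 1) = 1 := by
    rw [← Subspace.dual_finrank_eq]
    refine (finrank_eq_one_iff_of_nonzero' t ht0).2 fun ψ => ?_
    obtain ⟨φ, hφ, -⟩ := ht W hWc ψ
    obtain ⟨c, hc, -⟩ := ThetaGrp19.existsUnique_smulHom hW φ
    obtain ⟨a, rfl⟩ := hscal c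
    refine ⟨a, LinearMap.ext fun x => ?_⟩
    rw [hφ x]
    have e1 : φ = Formal.smulModΓ W (Coh.toGlobal str a) := hc.trans (Scheme.Modules.hom_ext _ _ fun V => rfl)
    rw [e1]
    refine Eq.trans ?_ (congrArg t (CurveCoh17.hmap₀_smulModΓ W (Coh.toGlobal str a) 1 x)).symm
    exact (map_smul t a x).symm
  rw [Curv2.deg, hC.euler_structureModule, h0, (hC.adm hWc).euler_eq, h1W, hg,
    Module.finrank_zero_of_subsingleton (M := Coh.HH X W 0)]
  norm_num


/-- Let X be a proper curve over the field k (proper, integral, of dimension one) with H^0(X, O_X) = k,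
genus 0 and Gorenstein local rings. If X has an invertible O_X-module of odd degree, then X is
isomorphic to P^1_k over k. -/
theorem result (k : Type u) [Field k] (X : Scheme.{u}) [X.Over (Spec (CommRingCat.of k))]
    [IsIntegral X] [IsProper (X ↘ (Spec (CommRingCat.of k)))] (hdim : topologicalKrullDim X = 1)
    (h0 : Module.finrank k (Coh.HH X (Coh.structureModule X) 0) = 1) (hg : Curv2.genus k X = 0) (hgor : ∀ x : X, LocCoh.IsGorensteinLocalRing (X.presheaf.stalk x))
    (L : X.Modules) (hL : PicF.IsInvertible L) (hodd : Odd (Curv2.deg k X L 1)) :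
    ∃ e : X ≅ CohB1.ProjSpace 1 k, e.hom ≫ CohB1.ProjSpace.toSpec 1 k = X ↘ (Spec (CommRingCat.of k)) := by
  obtain ⟨W, hW, hdW⟩ := exists_deg_neg_two k X hdim h0 hg hgor
  have hX : Groth.Agent.CurveCoh17.CurveLike k X := Groth.Agent.VB17.curveLike hdim
  haveI := hX.noetherian
  obtain ⟨m, hm⟩ := hodd
  obtain ⟨W', hW', ⟨e⟩⟩ := Groth.Agent.M2.exists_inverse hW
  have hdW' : Curv2.deg k X W' 1 = 2 := by rw [hX.deg_of_tensor_iso hW hW' e, hdW]; norm_num
  obtain ⟨n, rfl | rfl⟩ := m.eq_nat_or_neg
  · have hP := Groth.Agent.M2.isInvertible_tensorPow hW n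
    refine Groth.Agent.CurveCoh17.exists_iso_P1 hdim (Groth.Agent.M2.isInvertible_tensor hL hP) ?_ ?_
    · rw [hX.deg_tensor_invertible hL hP, hX.deg_tensorPow hW, hdW, hm]; ring
    · refine hX.two_le_h0 hg (Groth.Agent.M2.isInvertible_tensor hL hP) ?_
      rw [hX.deg_tensor_invertible hL hP, hX.deg_tensorPow hW, hdW, hm]; ring
  · have hP := Groth.Agent.M2.isInvertible_tensorPow hW' n
    refine Groth.Agent.CurveCoh17.exists_iso_P1 hdim (Groth.Agent.M2.isInvertible_tensor hL hP) ?_ ?_
    · rw [hX.deg_tensor_invertible hL hP, hX.deg_tensorPow hW', hdW', hm]; ring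
    · refine hX.two_le_h0 hg (Groth.Agent.M2.isInvertible_tensor hL hP) ?_
      rw [hX.deg_tensor_invertible hL hP, hX.deg_tensorPow hW', hdW', hm]; ring

end Groth.Agent.S6543
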