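import Groth.Statements.S6544
-- import your own Groth.Agent.* helpers here
import Groth.Agent.Lib.CurveCoh17.DegTwo
import Groth.Agent.Lib.GeomRed18.Smooth
import Groth.Agent.S1536
import Groth.Agent.Lib.GeomIrr18.Scheme

set_option autoImplicit false
universe u
open CategoryTheory CategoryTheory.Limits AlgebraicGeometry
open Curves

namespace Groth.Agent.S6544

/-- Let X be a proper curve over the field k (proper, integral, of dimension one) which is smooth and
geometrically irreducible over k, of genus 0. If X has an invertible O_X-module of odd degree, then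
X is isomorphic to P^1_k over k. -/
theorem result (k : Type u) [Field k] (X : Scheme.{u}) [X.Over (Spec (CommRingCat.of k))]
    [IsIntegral X] [IsProper (X ↘ (Spec (CommRingCat.of k)))] (hdim : topologicalKrullDim X = 1)
    [Smooth (X ↘ (Spec (CommRingCat.of k)))] [GeometricallyIrreducible (X ↘ (Spec (CommRingCat.of k)))] (hg : Curv2.genus k X = 0)
    (L : X.Modules) (hL : PicF.IsInvertible L) (hodd : Odd (Curv2.deg k X L 1)) :
    ∃ e : X ≅ CohB1.ProjSpace 1 k, e.hom ≫ CohB1.ProjSpace.toSpec 1 k = X ↘ (Spec (CommRingCat.of k)) := by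
  haveI : GeometricallyConnected (X ↘ Spec (CommRingCat.of k)) :=
    Groth.Agent.GeomIrr.geometricallyConnected_of_irreducible _
  haveI : GeometricallyReduced (X ↘ Spec (CommRingCat.of k)) := Groth.Agent.GeomRed.geometricallyReduced_of_smooth
  have h0 : Module.finrank k (Coh.HH X (Coh.structureModule X) 0) = 1 := Groth.Agent.S1536.result k X
  have hX : Groth.Agent.VB17.RegCurve k X := Groth.Agent.VB17.regCurve' hdim
  haveI := hX.like.noetherian
  have hbig := Groth.Agent.CurveCoh17.hasBigDeg_of_regCurve hX hdim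
  obtain ⟨W, lam, hW⟩ := Groth.Agent.VB17.exists_isDualizing hX h0 hbig
  obtain ⟨-, -, hd⟩ := hW.invariants hX h0 hbig
  rw [hg] at hd
  obtain ⟨W', hW', ⟨e⟩⟩ := Groth.Agent.M2.exists_inverse hW.inv
  have hd' := hX.like.deg_of_tensor_iso hW.inv hW' e
  obtain ⟨n, hn⟩ := hodd
  have key : ∀ (m : ℕ) (V : X.Modules), PicF.IsInvertible V →
      Curv2.deg k X L 1 + m * Curv2.deg k X V 1 = 1 →
      ∃ E : X.Modules, PicF.IsInvertible E ∧ Curv2.deg k X E 1 = 1 := fun m V hV h => by
    have hVm := Groth.Agent.M2.isInvertible_tensorPow hV m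
    exact ⟨_, Groth.Agent.M2.isInvertible_tensor hL hVm,
      by rw [hX.like.deg_tensor_invertible hL hVm, hX.like.deg_tensorPow hV, h]⟩
  obtain ⟨E, hE, hdE⟩ : ∃ E : X.Modules, PicF.IsInvertible E ∧ Curv2.deg k X E 1 = 1 := by
    rcases le_total 0 n with h | h
    · refine key n.toNat W hW.inv ?_
      rw [Int.toNat_of_nonneg h, hd, hn]; push_cast; ring
    · refine key (-n).toNat W' hW' ?_
      rw [Int.toNat_of_nonneg (by omega), hd', hd, hn]; push_cast; ring
  have h1 := Groth.Agent.CurveCoh17.rkOne_of_invertible hX.like.dim hE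
  haveI := hX.like.h1_subsingleton_of_deg h1 h0 (by rw [hdE, hg]; norm_num)
  have h := hX.like.rr h1.coh
  rw [Module.finrank_zero_of_subsingleton (M := Coh.HH X E 1), hdE, h0, hg] at h
  exact Groth.Agent.CurveCoh17.exists_iso_P1 hdim hE hdE (by omega)

end Groth.Agent.S6544
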