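import Groth.Statements.S6548
import Groth.Agent.Lib.JacPts22.TorsExt
import Groth.Agent.Lib.GeomIrr18.Res
import Groth.Agent.Lib.GeomRed18.Smooth

set_option linter.style.haveILetI false
set_option backward.isDefEq.respectTransparency false
set_option backward.isDefEq.respectTransparency.types false
set_option maxHeartbeats 1000000
set_option autoImplicit false
universe u
open CategoryTheory CategoryTheory.Limits AlgebraicGeometry
open Curves

namespace Groth.Agent.S6548

open Groth.Agent Groth.Agent.JacPts22
attribute [local instance] Curv2.resAlgebra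

/-- Let k be a field, n a natural number invertible in k, and X a smooth proper curve over k (proper,
smooth, integral, of dimension one) with H^0(X, O_X) = k and genus 1. Then over some finite
separable field extension k′ of k the base change X_{k′} acquires a point rational over k′ (a
section of X_{k′} → Spec k′) and has exactly n^2 isomorphism classes of invertible modules M with
M^{⊗n} ≅ O. (The published statement gives Pic(X_{k′})[n] ≅ (Z/nZ)^2; this row states the number of
classes, which is equivalent because pullback embeds Pic(X_{k′}) into the Picard group over an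
algebraic closure.) -/
theorem result (k : Type u) [Field k] (X : Scheme.{u}) [X.Over (Spec (CommRingCat.of k))]
    [IsIntegral X] [IsProper (X ↘ (Spec (CommRingCat.of k)))] [Smooth (X ↘ (Spec (CommRingCat.of k)))] (hdim : topologicalKrullDim X = 1)
    (h0 : Module.finrank k (Coh.HH X (Coh.structureModule X) 0) = 1) (hg : Curv2.genus k X = 1)
    (n : ℕ) (hn : IsUnit (n : k)) :
    ∃ (k' : Type u) (_ : Field k') (_ : Algebra k k'), FiniteDimensional k k' ∧ Algebra.IsSeparable k k' ∧
      (∃ x : Spec (CommRingCat.of k') ⟶ Curv2.bc k X k', x ≫ Curv2.bcSnd k X k' = 𝟙 _) ∧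
      Nat.card {c : PicF.Cl (Curv2.bc k X k') | ∃ M : Scheme.Modules (Curv2.bc k X k'), PicF.cl M = c ∧ PicF.IsInvertible M ∧ Nonempty (CohB1.tensorPow M (n) ≅ Coh.structureModule (Curv2.bc k X k'))} = n ^ 2 := by
  obtain ⟨z⟩ : Nonempty X := inferInstance
  haveI : Smooth ((⊤ : X.Opens).ι ≫ (X ↘ Spec (CommRingCat.of k))) := inferInstance
  obtain ⟨x, -, -, hf, hs⟩ := GeomRed.exists_separable_point (k := k) (⊤ : X.Opens) (x := z) trivial
  haveI := hf
  haveI := hs
  obtain ⟨k', iF, iA, h1, h2, -, h4, h5⟩ := exists_point_full_torsion hdim h0 hn.ne_zero (X.residueField x)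
    (X.fromSpecResidueField x) (GeomIrr.spec_resMap k X x).symm
  refine ⟨k', iF, iA, h1, h2, h4, ?_⟩
  rw [h5, hg]

end Groth.Agent.S6548
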