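import Groth.Statements.S6551
import Groth.Agent.Lib.NodalCrit14.Locus
import Groth.Agent.Lib.SyntDescend3.Main
import Groth.Agent.Lib.Descend.Stage

set_option autoImplicit false
universe u
open CategoryTheory AlgebraicGeometry
open Curves

namespace Groth.Agent.S6551

open CategoryTheory.Limits in
theorem exists_stage_nodal {J : Type u} [SmallCategory J] [IsCofiltered J] {X₀ Y₀ : Scheme.{u}}
    (E : J ⥤ Scheme.{u}) (t : E ⟶ (Functor.const J).obj Y₀) (e : Cone E) (he : IsLimit e)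
    [∀ k, IsAffineHom (t.app k)] (f₀ : X₀ ⟶ Y₀) [LocallyOfFinitePresentation f₀] [CompactSpace X₀]
    [QuasiSeparatedSpace X₀] [CompactSpace Y₀] [QuasiSeparatedSpace Y₀]
    (q : e.pt ⟶ Y₀) {P : Scheme.{u}} (p : P ⟶ X₀) (r : P ⟶ e.pt)
    (hq : ∀ k, e.π.app k ≫ t.app k = q) (hP : IsPullback p r f₀ q) (hr : Curv2.IsNodalFamily r) :
    ∃ k, Curv2.IsNodalFamily (pullback.snd f₀ (t.app k)) := by
  obtain ⟨hrf, hrl, hn⟩ := (NodalCrit14.isNodalFamily_iff r).1 hr
  have hsyn : Synt.IsSyntomicMor r := (S9758.result r).1 ⟨hrf,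
    (S8660.result r).2 ⟨inferInstance, inferInstance, fun z => NodalCrit14.ci_of_good r (hn z).1⟩⟩
  obtain ⟨k, hk⟩ := SyntDescend3.exists_syntomic (f := f₀) he hq hP hsyn
  haveI hkf : Flat (pullback.snd f₀ (t.app k)) := ((S9758.result _).2 hk).1
  let fk := pullback.snd f₀ (t.app k)
  let U : (pullback f₀ (t.app k)).Opens := ⟨_, NodalCrit14.isOpen_nodalPt fk⟩
  let D' := Descend.pbDiagram E t f₀
  have hlim : IsLimit (Descend.pbCone E t f₀ e hq hP) := Descend.pbIsLimit E t f₀ e hq hP he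
  haveI : ∀ {i j : J} (a : i ⟶ j), IsAffineHom (D'.map a) := fun a => Descend.pb_isAffineHom_map E t f₀ a
  have htop : (Descend.pbCone E t f₀ e hq hP).π.app k ⁻¹ᵁ ⊤ ≤
      (Descend.pbCone E t f₀ e hq hP).π.app k ⁻¹ᵁ U := fun z _ =>
    (@NodalCrit14.nodalPt_bc _ _ fk hkf _ _ _ _ _ _ hrf hrl (Descend.pbCone_isPullback E t f₀ e hq hP k) z).1 (hn z)
  have hc : IsCompact ((⊤ : (D'.obj k).Opens) : Set (D'.obj k)) := by
    haveI : CompactSpace ↥(D'.obj k) := Descend.pb_compactSpace E t f₀ k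
    exact isCompact_univ
  obtain ⟨j, a, ha⟩ := exists_map_preimage_le_map_preimage D' _ hlim hc (V := U) htop
  have sq := Descend.pbMap_isPullback E t f₀ a
  haveI hjf : Flat (pullback.snd f₀ (t.app j)) := MorphismProperty.of_isPullback (P := @Flat) sq hkf
  exact ⟨j, (NodalCrit14.isNodalFamily_iff _).2 ⟨hjf, inferInstance,
    fun z => (@NodalCrit14.nodalPt_bc _ _ fk hkf _ _ _ _ _ _ hjf _ sq z).2 (ha (Set.mem_univ z))⟩⟩

/-- Let S = lim S_i be the limit of a cofiltered system of schemes with affine transition morphisms, i₀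
an index with S_{i₀} quasi-compact and quasi-separated, and f₀ : X₀ → Y₀ a morphism of quasi-compact
quasi-separated schemes over S_{i₀} which is locally of finite presentation. Write f : X → Y for the
pullback of f₀ along S → S_{i₀}. Assuming f to be at-worst-nodal, with relative dimension 1, there
exists an index i mapping to i₀ for which the pullback f_i : X_i → Y_i of f₀ to S_i is likewise
at-worst-nodal of relative dimension 1. -/
theorem result {I : Type u} [SmallCategory I] [IsCofiltered I]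
    (D : I ⥤ Scheme.{u}) (c : Limits.Cone D) (hc : Limits.IsLimit c)
    [∀ (i j : I) (f : i ⟶ j), IsAffineHom (D.map f)] (i₀ : I) [CompactSpace (D.obj i₀)]
    [QuasiSeparatedSpace (D.obj i₀)] {X₀ Y₀ : Scheme.{u}} (f₀ : X₀ ⟶ Y₀) (g₀ : Y₀ ⟶ D.obj i₀)
    [CompactSpace X₀] [QuasiSeparatedSpace X₀] [CompactSpace Y₀] [QuasiSeparatedSpace Y₀]
    {X Y : Scheme.{u}} (f : X ⟶ Y) (g : Y ⟶ c.pt) (qY : Y ⟶ Y₀) (qX : X ⟶ X₀)
    (hY : IsPullback qY g g₀ (c.π.app i₀)) (hX : IsPullback qX f f₀ qY) [LocallyOfFinitePresentation f₀]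
    (hf : Curv2.IsNodalFamily f) :
    ∃ (i : I) (φ : i ⟶ i₀) (Xi Yi : Scheme.{u}) (fi : Xi ⟶ Yi) (gi : Yi ⟶ D.obj i) (pY : Yi ⟶ Y₀)
      (pX : Xi ⟶ X₀), IsPullback pY gi g₀ (D.map φ) ∧ IsPullback pX fi f₀ pY ∧ Curv2.IsNodalFamily fi := by
  exact Descend.exists_stage (fun _ _ f => Curv2.IsNodalFamily f) (fun _ _ f => Curv2.IsNodalFamily f) hc
    f₀ g₀ f g qY qX hY hX hf
    fun E t e _ q P p r he hq hP hr => exists_stage_nodal E t e he f₀ q p r hq hP hr

end Groth.Agent.S6551
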