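import Groth.Statements.S6552
import Groth.Agent.Lib.Nodal27.Scheme
-- import your own Groth.Agent.* helpers here

set_option autoImplicit false
universe u
open CategoryTheory CategoryTheory.Limits AlgebraicGeometry
open Curves

namespace Groth.Agent.S6552

/-- Let k be a field, X a scheme locally of finite type over k of dimension 1, π : Y → X an étale
morphism, and y ∈ Y a point with image x. Then x is a closed point of X which is a node if and only
if y is a closed point of Y which is a node (Y being a k-scheme through π). -/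
theorem result (k : Type u) [Field k] (X : Scheme.{u}) [X.Over (Spec (CommRingCat.of k))] [LocallyOfFiniteType (X ↘ (Spec (CommRingCat.of k)))] (hdim : topologicalKrullDim X = 1)
    {Y : Scheme.{u}} (π : Y ⟶ X) [Etale π] (y : Y) :
    Curv2.IsNode k X (π y) ↔ @Curv2.IsNode k _ Y ⟨π ≫ (X ↘ (Spec (CommRingCat.of k)))⟩ y := by
  letI : Y.Over (Spec (CommRingCat.of k)) := ⟨π ≫ (X ↘ Spec (CommRingCat.of k))⟩
  haveI : LocallyOfFiniteType (Y ↘ Spec (CommRingCat.of k)) :=
    inferInstanceAs (LocallyOfFiniteType (π ≫ (X ↘ Spec (CommRingCat.of k))))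
  let kb := AlgebraicClosure k
  let f := X ↘ Spec (CommRingCat.of k)
  let σ := Spec.map (CommRingCat.ofHom (algebraMap k kb))
  haveI : Etale (pullback.snd π (pullback.fst f σ)) := MorphismProperty.pullback_snd _ _ inferInstance
  let i := pullbackRightPullbackFstIso f σ π
  let Pm : Curv2.bc k Y kb ⟶ Curv2.bc k X kb := i.inv ≫ pullback.snd π (pullback.fst f σ)
  haveI : Etale Pm := inferInstanceAs (Etale (i.inv ≫ pullback.snd π (pullback.fst f σ)))
  have h1 : Pm ≫ Curv2.bcSnd k X kb = Curv2.bcSnd k Y kb := by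
    show (i.inv ≫ pullback.snd π (pullback.fst f σ)) ≫ pullback.snd f σ = _
    rw [Category.assoc, ← pullbackRightPullbackFstIso_hom_snd f σ π, Iso.inv_hom_id_assoc]
    rfl
  have h2 : Pm ≫ Curv2.bcFst k X kb = Curv2.bcFst k Y kb ≫ π := by
    show (i.inv ≫ pullback.snd π (pullback.fst f σ)) ≫ pullback.fst f σ = _
    rw [Category.assoc, pullbackRightPullbackFstIso_inv_snd_fst f σ π]
    rfl
  have hover : ∀ w, Curv2.bcFst k X kb (Pm w) = π (Curv2.bcFst k Y kb w) := fun w => by
    rw [← Scheme.Hom.comp_apply, h2, Scheme.Hom.comp_apply]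
  rw [Nodal27.isNode_iff X k, Nodal27.isNode_iff Y k]
  constructor
  · rintro ⟨hx, xb, hxb, ho⟩
    haveI : Surjective σ :=
      ⟨Function.surjective_to_subsingleton (α := Spec (CommRingCat.of kb)) (β := Spec (CommRingCat.of k)) _⟩
    haveI : Surjective (Curv2.bcFst k Y kb) := MorphismProperty.pullback_fst _ _ inferInstance
    obtain ⟨w, rfl⟩ := (Curv2.bcFst k Y kb).surjective y
    have hc : IsClosed ({Pm w} : Set (Curv2.bc k X kb)) := (Nodal27.isClosed_bc_iff X k _).2 (by rw [hover]; exact hx)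
    have hw := Nodal27.isClosed_of_etale_of_isClosed Pm (Curv2.bcSnd k X kb) hc
    refine ⟨(Nodal27.isClosed_bc_iff Y k w).1 hw, w, rfl, ?_⟩
    rw [← h1]
    exact (Nodal27.odpAt_etale_iff Pm (Curv2.bcSnd k X kb) hw).2 (Nodal27.odpAt_conj X k ((hover w).trans hxb.symm) ho)
  · rintro ⟨hy, w, rfl, ho⟩
    have hw := (Nodal27.isClosed_bc_iff Y k w).2 hy
    rw [← h1] at ho
    exact ⟨Nodal27.isClosed_image π f hy, Pm w, hover w, (Nodal27.odpAt_etale_iff Pm (Curv2.bcSnd k X kb) hw).1 ho⟩

end Groth.Agent.S6552
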