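import Groth.Statements.S6553
import Groth.Agent.Lib.Nodal27.QuadScheme
-- import your own Groth.Agent.* helpers here

set_option autoImplicit false
universe u
open CategoryTheory CategoryTheory.Limits AlgebraicGeometry
open Curves

namespace Groth.Agent.S6553

/-- Let k'/k be a finite separable extension of fields, X a scheme locally of finite type over k' of
dimension 1, and x ∈ X a closed point. Then x is a node of the k'-scheme X if and only if x is a
node of X viewed as a k-scheme via Spec k' → Spec k. -/
theorem result (k : Type u) [Field k] (k' : Type u) [Field k'] [Algebra k k']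
    [FiniteDimensional k k'] [Algebra.IsSeparable k k']
    (X : Scheme.{u}) [X.Over (Spec (CommRingCat.of k'))] [LocallyOfFiniteType (X ↘ (Spec (CommRingCat.of k')))] (hdim : topologicalKrullDim X = 1)
    (x : X) (hx : IsClosed ({x} : Set X)) :
    Curv2.IsNode k' X x ↔
      @Curv2.IsNode k _ X ⟨(X ↘ (Spec (CommRingCat.of k'))) ≫ Spec.map (CommRingCat.ofHom (algebraMap k k'))⟩ x := by
  let g := X ↘ (Spec (CommRingCat.of k'))
  let σ := Spec.map (CommRingCat.ofHom (algebraMap k k'))
  let ok : X.Over (Spec (CommRingCat.of k)) := ⟨g ≫ σ⟩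
  haveI hσ : LocallyOfFiniteType σ := (HasRingHomProperty.Spec_iff (P := @LocallyOfFiniteType)).2
    (RingHom.finiteType_algebraMap.2 inferInstance)
  haveI : LocallyOfFiniteType g := inferInstance
  haveI hlft : @LocallyOfFiniteType X (Spec (CommRingCat.of k))
      (@CategoryTheory.over _ _ X (Spec (CommRingCat.of k)) ok) :=
    (inferInstance : LocallyOfFiniteType (g ≫ σ))
  rw [Groth.Agent.Nodal27.isNode_iff_algNode k' X hx,
    @Groth.Agent.Nodal27.isNode_iff_algNode k _ X ok hlft x hx]
  refine and_congr_left fun _ => ?_
  let ak' : Algebra k' (X.residueField x) := Curv2.resAlgebra k' X x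
  let ak : Algebra k (X.residueField x) := @Curv2.resAlgebra k _ X ok x
  have htow : CommRingCat.ofHom (@Curv2.resMap k _ X ok x) =
      CommRingCat.ofHom (algebraMap k k') ≫ CommRingCat.ofHom (Curv2.resMap k' X x) := by
    refine Spec.map_injective ?_
    rw [Spec.map_comp, @Groth.Agent.GeomIrr.spec_resMap k _ X ok x, Groth.Agent.GeomIrr.spec_resMap k' X x, Category.assoc]
    rfl
  haveI : IsScalarTower k k' (X.residueField x) :=
    IsScalarTower.of_algebraMap_eq' (congrArg CommRingCat.Hom.hom htow)
  exact ⟨fun h => Algebra.IsSeparable.trans k k' (X.residueField x),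
    fun h => Algebra.isSeparable_tower_top_of_isSeparable k k' (X.residueField x)⟩


end Groth.Agent.S6553
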