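import Groth.Statements.S6555
-- import your own Groth.Agent.* helpers here
import Groth.Agent.Lib.CurveOm17.Uniformizer
import Mathlib.RingTheory.Smooth.StandardSmoothCotangent
import Mathlib.RingTheory.RingHom.StandardSmooth
import Mathlib.AlgebraicGeometry.Morphisms.Smooth

set_option autoImplicit false
universe u
open CategoryTheory CategoryTheory.Limits AlgebraicGeometry
attribute [local instance] Curv2.resAlgebra Curv2.stalkAlgebra
open Curves

namespace Groth.Agent.S6555

/-- Let X be a scheme over the field k and x ∈ X a closed point near which X → Spec k is smooth of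
relative dimension 1 (on some open neighbourhood of x), with κ(x)/k separable. If s is an
irreducible element of the local ring O_{X,x} (a discrete valuation ring, so s generates its maximal
ideal), then Ω_{O_{X,x}/k}, which is the stalk of Ω_{X/k} at x, is free of rank one with basis d s:
the map a ↦ a · d s from O_{X,x} to Ω_{O_{X,x}/k} is bijective. -/
theorem result (k : Type u) [Field k] (X : Scheme.{u}) [X.Over (Spec (CommRingCat.of k))]
    (x : X) (hx : IsClosed ({x} : Set X))
    (hsm : ∃ U : X.Opens, x ∈ U ∧ SmoothOfRelativeDimension 1 (U.ι ≫ (X ↘ (Spec (CommRingCat.of k)))))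
    (hsep : Algebra.IsSeparable k (X.residueField x))
    (s : X.presheaf.stalk x) (hs : Irreducible s) :
    Function.Bijective (fun a : X.presheaf.stalk x => a • KaehlerDifferential.D k (X.presheaf.stalk x) s) := by
  obtain ⟨U, hxU, hg⟩ := hsm
  let p := X ↘ Spec (CommRingCat.of k)
  obtain ⟨V, hV, W, hW, hxW, e, hss⟩ :=
    SmoothOfRelativeDimension.exists_isStandardSmoothOfRelativeDimension (n := 1) (f := U.ι ≫ p) ⟨x, hxU⟩
  haveI : Subsingleton (Spec (CommRingCat.of k)) := inferInstanceAs (Subsingleton (PrimeSpectrum k))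
  obtain rfl : V = ⊤ := TopologicalSpace.Opens.ext (Set.eq_univ_of_forall fun y => by
    rw [Subsingleton.elim (α := Spec (CommRingCat.of k)) y ((U.ι ≫ p) ⟨x, hxU⟩)]; exact e hxW)
  let W' : X.Opens := U.ι ''ᵁ W
  have hxW' : x ∈ W' := ⟨⟨x, hxU⟩, hxW, rfl⟩
  have hW' : IsAffineOpen W' := hW.image_of_isOpenImmersion U.ι
  let A := Γ(X, W')
  let φ : k →+* A := ((U.ι ≫ p).appLE ⊤ W e).hom.comp (Scheme.ΓSpecIso (CommRingCat.of k)).inv.hom
  have hφ : φ.IsStandardSmoothOfRelativeDimension 1 := by
    have h := RingHom.IsStandardSmoothOfRelativeDimension.comp (n := 1) (m := 0) hss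
      (RingHom.IsStandardSmoothOfRelativeDimension.equiv (Scheme.ΓSpecIso (CommRingCat.of k)).symm.commRingCatIsoToRingEquiv)
    exact h
  letI : Algebra k A := φ.toAlgebra
  haveI : Algebra.IsStandardSmoothOfRelativeDimension 1 k A := hφ
  haveI : Algebra.IsStandardSmooth k A := Algebra.IsStandardSmoothOfRelativeDimension.isStandardSmooth 1
  letI := X.presheaf.algebra_section_stalk (⟨x, hxW'⟩ : W')
  haveI := hW'.isLocalization_stalk ⟨x, hxW'⟩
  let O := X.presheaf.stalk x
  haveI : IsScalarTower k A O := IsScalarTower.of_algebraMap_eq fun c => by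
    show X.presheaf.germ ⊤ x trivial (Coh.toGlobal p c) = X.presheaf.germ W' x hxW' (φ c)
    have h1 : φ c = X.presheaf.map (homOfLE (le_top : W' ≤ ⊤)).op (Coh.toGlobal p c) := by
      show (U.ι ≫ p).appLE ⊤ W e ((Scheme.ΓSpecIso (CommRingCat.of k)).inv c) = _
      rw [Scheme.Hom.comp_appLE, Scheme.Opens.ι_appLE]
      rfl
    rw [h1, TopCat.Presheaf.germ_res_apply]
  haveI : Nontrivial A := (algebraMap A O).domain_nontrivial
  haveI : Algebra.FormallySmooth k O :=
    haveI : Algebra.FormallySmooth A O :=
      Algebra.FormallySmooth.of_isLocalization (hW'.primeIdealOf ⟨x, hxW'⟩).asIdeal.primeCompl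
    Algebra.FormallySmooth.comp k A O
  haveI : IsNoetherianRing A := Algebra.FiniteType.isNoetherianRing k A
  haveI : IsNoetherianRing O := IsLocalization.isNoetherianRing (hW'.primeIdealOf ⟨x, hxW'⟩).asIdeal.primeCompl O inferInstance
  have hr := Algebra.IsStandardSmoothOfRelativeDimension.rank_kaehlerDifferential (R := k) (S := A) 1
  haveI : Module.Finite A (KaehlerDifferential k A) := inferInstance
  have hfr : Module.finrank A (KaehlerDifferential k A) = 1 := Module.finrank_eq_of_rank_eq (by exact_mod_cast hr)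
  let b := Module.finBasisOfFinrankEq A (KaehlerDifferential k A) hfr
  haveI : Algebra.FormallyEtale A O :=
    Algebra.FormallyEtale.of_isLocalization (hW'.primeIdealOf ⟨x, hxW'⟩).asIdeal.primeCompl
  let b' : Module.Basis (Fin 1) O (KaehlerDifferential k O) :=
    (b.baseChange O).map (KaehlerDifferential.isBaseChange_of_formallyEtale k A O).equiv
  let e₁ : KaehlerDifferential k O ≃ₗ[O] O := b'.equivFun.trans (LinearEquiv.funUnique (Fin 1) O O)
  haveI : Algebra.IsSeparable k (IsLocalRing.ResidueField O) := hsep
  exact Groth.Agent.CurveOm17.bijective_smul_D e₁ s hs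

end Groth.Agent.S6555
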