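import Groth.Statements.S6556
import Groth.Agent.Lib.InsepRam17.Alg
import Groth.Agent.Lib.CohBC18.Field
-- import your own Groth.Agent.* helpers here

set_option autoImplicit false
set_option linter.style.haveILetI false
set_option backward.isDefEq.respectTransparency false
set_option maxHeartbeats 1600000
universe u
open CategoryTheory CategoryTheory.Limits AlgebraicGeometry
attribute [local instance] Curv2.resAlgebra
open Curves

namespace Groth.Agent.S6556

open Groth.Agent

/-- The ramification index computed in any model of the local ring. -/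
theorem ramificationIdx_eq_length {R S B : Type u} [CommRing R] [CommRing S] [CommRing B] [Algebra R S]
    [Algebra S B] [Algebra R B] [IsScalarTower R S B] (q : Ideal S) [q.IsPrime] [IsLocalization.AtPrime B q] :
    q.ramificationIdx R = (Module.length B (B ⧸ (q.under R).map (algebraMap R B))).toNat := by
  rw [Ideal.ramificationIdx_def]
  congr 1
  let e : Localization.AtPrime q ≃ₐ[S] B := IsLocalization.algEquiv q.primeCompl _ _
  set I := (q.under R).map (algebraMap R (Localization.AtPrime q))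
  have hI : (q.under R).map (algebraMap R B) = I.map e.toRingEquiv.toRingHom := by
    rw [Ideal.map_map]
    congr 1
    refine RingHom.ext fun r => ?_
    show algebraMap R B r = e (algebraMap R (Localization.AtPrime q) r)
    rw [IsScalarTower.algebraMap_apply R S B, IsScalarTower.algebraMap_apply R S (Localization.AtPrime q), AlgEquiv.commutes]
  rw [hI]
  letI : Algebra (Localization.AtPrime q) B := e.toRingEquiv.toRingHom.toAlgebra
  rw [← Module.length_eq_of_surjective (M := B ⧸ I.map e.toRingEquiv.toRingHom) (R := B)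
    (S := Localization.AtPrime q) e.surjective]
  let E := Ideal.quotientEquiv I _ e.toRingEquiv rfl
  refine LinearEquiv.length_eq ({ E.toAddEquiv with map_smul' := fun a z => ?_ } : _ ≃ₗ[Localization.AtPrime q] _)
  obtain ⟨z, rfl⟩ := Ideal.Quotient.mk_surjective z
  exact congrArg (Ideal.Quotient.mk (I.map e.toRingEquiv.toRingHom)) (map_mul e a z)

/-- Let X be a smooth curve over the field k (integral, separated, of finite type and smooth over k, of
dimension one), k̄ an algebraic closure of k, x̄ ∈ X_{k̄} a closed point and x ∈ X its image. Then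
the ramification index of the extension of discrete valuation rings O_{X,x} → O_{X_{k̄}, x̄} (the
length of O_{X_{k̄},x̄} modulo the ideal generated by the maximal ideal of O_{X,x}) equals the
inseparable degree [κ(x) : k]_i. -/
theorem result (k : Type u) [Field k] (X : Scheme.{u}) [X.Over (Spec (CommRingCat.of k))]
    [IsIntegral X] [IsSeparated (X ↘ (Spec (CommRingCat.of k)))] [LocallyOfFiniteType (X ↘ (Spec (CommRingCat.of k)))] [QuasiCompact (X ↘ (Spec (CommRingCat.of k)))] (hdX : topologicalKrullDim X = 1) [Smooth (X ↘ (Spec (CommRingCat.of k)))]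
    (xb : Curv2.bc k X (AlgebraicClosure k)) (hxb : IsClosed ({xb} : Set (Curv2.bc k X (AlgebraicClosure k)))) :
    letI := ((Curv2.bcFst k X (AlgebraicClosure k)).stalkMap xb).hom.toAlgebra
    Ideal.ramificationIdx (IsLocalRing.maximalIdeal ((Curv2.bc k X (AlgebraicClosure k)).presheaf.stalk xb))
        (X.presheaf.stalk (Curv2.bcFst k X (AlgebraicClosure k) xb)) =
      Field.finInsepDegree k (X.residueField (Curv2.bcFst k X (AlgebraicClosure k) xb)) := by
  classical
  let K := AlgebraicClosure k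
  let X' := Curv2.bc k X K
  let g := Curv2.bcFst k X K
  let q' := Curv2.bcSnd k X K
  let qX := X ↘ Spec (CommRingCat.of k)
  let gS : Spec (CommRingCat.of K) ⟶ Spec (CommRingCat.of k) := Spec.map (CommRingCat.ofHom (algebraMap k K))
  have H : IsPullback g q' qX gS := IsPullback.of_hasPullback _ _
  haveI : IsAffineHom gS := inferInstance
  haveI : IsIntegralHom gS := IsIntegralHom.SpecMap_iff.2 (algebraMap_isIntegral_iff.2 inferInstance)
  haveI : IsIntegralHom g := MorphismProperty.of_isPullback (P := @IsIntegralHom) H.flip inferInstance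
  haveI : LocallyOfFiniteType q' := MorphismProperty.of_isPullback (P := @LocallyOfFiniteType) H inferInstance
  have hx : IsClosed ({g xb} : Set X) := by simpa using g.isClosedMap _ hxb
  obtain ⟨U, hU, hxU, -⟩ := exists_isAffineOpen_mem_and_subset (show g xb ∈ (⊤ : X.Opens) from trivial)
  have hW : IsAffineOpen (g ⁻¹ᵁ U) := hU.preimage g
  have hpo := FlatH4.isPushout_sections (g := g) (iY := q') (iX := qX) (f := gS) H
    (US := ⊤) (UT := ⊤) (UX := U) (UY := g ⁻¹ᵁ U) (by simp) (by simp) (by simp)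
    (isAffineOpen_top _) (isAffineOpen_top _) hU
  let jC : k →+* Γ(X, U) := (qX.appLE ⊤ U le_top).hom.comp (Scheme.ΓSpecIso (CommRingCat.of k)).inv.hom
  let jD : K →+* Γ(X', g ⁻¹ᵁ U) := (q'.appLE ⊤ (g ⁻¹ᵁ U) le_top).hom.comp (Scheme.ΓSpecIso (CommRingCat.of K)).inv.hom
  letI a0 : Algebra k Γ(X, U) := jC.toAlgebra
  letI a1 : Algebra K Γ(X', g ⁻¹ᵁ U) := jD.toAlgebra
  letI a2 : Algebra Γ(X, U) Γ(X', g ⁻¹ᵁ U) := (g.appLE U (g ⁻¹ᵁ U) le_rfl).hom.toAlgebra
  letI a3 : Algebra k Γ(X', g ⁻¹ᵁ U) :=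
    ((algebraMap Γ(X, U) Γ(X', g ⁻¹ᵁ U)).comp (algebraMap k Γ(X, U))).toAlgebra
  haveI : IsScalarTower k Γ(X, U) Γ(X', g ⁻¹ᵁ U) := IsScalarTower.of_algebraMap_eq' rfl
  have hpo' : IsPushout (CommRingCat.ofHom (algebraMap k Γ(X, U))) (CommRingCat.ofHom (algebraMap k K))
      (CommRingCat.ofHom (algebraMap Γ(X, U) Γ(X', g ⁻¹ᵁ U)))
      (CommRingCat.ofHom (algebraMap K Γ(X', g ⁻¹ᵁ U))) := by
    refine hpo.of_iso (Scheme.ΓSpecIso (CommRingCat.of k)) (Iso.refl _) (Scheme.ΓSpecIso (CommRingCat.of K))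
      (Iso.refl _) ?_ ?_ ?_ ?_
    · rw [Iso.refl_hom, Category.comp_id, ← Iso.inv_comp_eq]
      rfl
    · have e : gS.appLE ⊤ ⊤ (by simp) = gS.appTop := gS.appLE_eq_app
      refine (congrArg (· ≫ _) e).trans ?_
      exact Scheme.ΓSpecIso_naturality (CommRingCat.ofHom (algebraMap k K))
    · rw [Iso.refl_hom, Category.comp_id, Iso.refl_hom, Category.id_comp]
      rfl
    · rw [Iso.refl_hom, Category.comp_id, ← Iso.inv_comp_eq]
      rfl
  haveI : IsScalarTower k K Γ(X', g ⁻¹ᵁ U) :=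
    IsScalarTower.of_algebraMap_eq' (congrArg CommRingCat.Hom.hom hpo'.w)
  haveI : Algebra.IsPushout k Γ(X, U) K Γ(X', g ⁻¹ᵁ U) := CommRingCat.isPushout_iff_isPushout.1 hpo'
  have hxbV : xb ∈ g ⁻¹ᵁ U := hxU
  let p := (hU.primeIdealOf ⟨g xb, hxU⟩).asIdeal
  let q := (hW.primeIdealOf ⟨xb, hxbV⟩).asIdeal
  haveI : p.IsMaximal := hU.primeIdealOf_isMaximal_of_isClosed ⟨g xb, hxU⟩ hx
  haveI : q.IsMaximal := hW.primeIdealOf_isMaximal_of_isClosed ⟨xb, hxbV⟩ hxb
  have hqp : q.under Γ(X, U) = p :=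
    congr($(IsAffineOpen.comap_primeIdealOf_appLE U hU (g ⁻¹ᵁ U) hW (f := g) le_rfl hxbV).1)
  have hftC : jC.FiniteType := RingHom.FiniteType.comp
    (qX.finiteType_appLE (isAffineOpen_top _) hU le_top)
    (RingHom.FiniteType.of_surjective _ (Scheme.ΓSpecIso (CommRingCat.of k)).commRingCatIsoToRingEquiv.symm.surjective)
  have hftD : jD.FiniteType := RingHom.FiniteType.comp
    (q'.finiteType_appLE (isAffineOpen_top _) hW le_top)
    (RingHom.FiniteType.of_surjective _ (Scheme.ΓSpecIso (CommRingCat.of K)).commRingCatIsoToRingEquiv.symm.surjective)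
  haveI : Algebra.FiniteType k Γ(X, U) := hftC
  haveI : Algebra.FiniteType K Γ(X', g ⁻¹ᵁ U) := hftD
  letI := Ideal.Quotient.field p
  letI := Ideal.Quotient.field q
  haveI : Algebra.FiniteType k (Γ(X, U) ⧸ p) :=
    Algebra.FiniteType.of_surjective (Ideal.Quotient.mkₐ k p) Ideal.Quotient.mk_surjective
  haveI : Module.Finite k (Γ(X, U) ⧸ p) := finite_of_finite_type_of_isJacobsonRing k _
  haveI : Algebra.FiniteType K (Γ(X', g ⁻¹ᵁ U) ⧸ q) :=
    Algebra.FiniteType.of_surjective (Ideal.Quotient.mkₐ K q) Ideal.Quotient.mk_surjective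
  haveI : Module.Finite K (Γ(X', g ⁻¹ᵁ U) ⧸ q) := finite_of_finite_type_of_isJacobsonRing K _
  haveI : Algebra.IsIntegral K (Γ(X', g ⁻¹ᵁ U) ⧸ q) := Algebra.IsIntegral.of_finite _ _
  let eK : K ≃ₐ[K] (Γ(X', g ⁻¹ᵁ U) ⧸ q) := AlgEquiv.ofBijective (Algebra.ofId _ _)
    (IsAlgClosed.algebraMap_bijective_of_isIntegral (k := K) (K := Γ(X', g ⁻¹ᵁ U) ⧸ q))
  let τ : Γ(X', g ⁻¹ᵁ U) →ₐ[K] K := eK.symm.toAlgHom.comp (Ideal.Quotient.mkₐ K q)
  have hτ : RingHom.ker τ = q := Ideal.ext fun d => by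
    rw [RingHom.mem_ker, show τ d = eK.symm (Ideal.Quotient.mk q d) from rfl,
      map_eq_zero_iff _ eK.symm.injective, Ideal.Quotient.eq_zero_iff_mem]
  have key := InsepRam17.ramificationIdx_bc (k := k) (K := K) p q hqp τ hτ
  -- stalks
  letI : Algebra Γ(X, U) (X.presheaf.stalk (g xb)) := TopCat.Presheaf.algebra_section_stalk X.presheaf (⟨g xb, hxU⟩ : U)
  haveI : IsLocalization.AtPrime (X.presheaf.stalk (g xb)) p := hU.isLocalization_stalk ⟨g xb, hxU⟩
  letI : Algebra Γ(X', g ⁻¹ᵁ U) (X'.presheaf.stalk xb) := TopCat.Presheaf.algebra_section_stalk X'.presheaf (⟨xb, hxbV⟩ : g ⁻¹ᵁ U)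
  haveI : IsLocalization.AtPrime (X'.presheaf.stalk xb) q := hW.isLocalization_stalk ⟨xb, hxbV⟩
  letI := (g.stalkMap xb).hom.toAlgebra
  haveI : IsLocalHom (algebraMap (X.presheaf.stalk (g xb)) (X'.presheaf.stalk xb)) :=
    inferInstanceAs (IsLocalHom (g.stalkMap xb).hom)
  haveI : IsLocalization.AtPrime (X'.presheaf.stalk xb) (IsLocalRing.maximalIdeal (X'.presheaf.stalk xb)) :=
    IsLocalization.self fun a ha => not_not.1 ha
  letI : Algebra Γ(X, U) (X'.presheaf.stalk xb) :=
    ((algebraMap Γ(X', g ⁻¹ᵁ U) (X'.presheaf.stalk xb)).comp (algebraMap Γ(X, U) Γ(X', g ⁻¹ᵁ U))).toAlgebra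
  haveI : IsScalarTower Γ(X, U) Γ(X', g ⁻¹ᵁ U) (X'.presheaf.stalk xb) := IsScalarTower.of_algebraMap_eq' rfl
  have hcomm : ∀ c : Γ(X, U), algebraMap Γ(X, U) (X'.presheaf.stalk xb) c =
      g.stalkMap xb (algebraMap Γ(X, U) (X.presheaf.stalk (g xb)) c) := fun c => by
    show X'.presheaf.germ (g ⁻¹ᵁ U) xb hxbV (g.appLE U (g ⁻¹ᵁ U) le_rfl c) =
      g.stalkMap xb (X.presheaf.germ U (g xb) hxU c)
    rw [Scheme.Hom.germ_stalkMap_apply, Scheme.Hom.app_eq_appLE]
  rw [ramificationIdx_eq_length (R := Γ(X, U)) (B := X'.presheaf.stalk xb) q] at key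
  rw [ramificationIdx_eq_length (R := X.presheaf.stalk (g xb)) (B := X'.presheaf.stalk xb)
    (IsLocalRing.maximalIdeal (X'.presheaf.stalk xb)), Ideal.under, IsLocalRing.maximalIdeal_comap,
    ← IsLocalization.AtPrime.map_eq_maximalIdeal p (X.presheaf.stalk (g xb)), Ideal.map_map]
  rw [show (algebraMap (X.presheaf.stalk (g xb)) (X'.presheaf.stalk xb)).comp (algebraMap Γ(X, U) (X.presheaf.stalk (g xb))) =
    algebraMap Γ(X, U) (X'.presheaf.stalk xb) from RingHom.ext fun c => (hcomm c).symm, ← hqp]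
  refine key.trans ?_
  -- residue field
  let ev : Γ(X, U) →+* X.residueField (g xb) :=
    (X.residue (g xb)).hom.comp (algebraMap Γ(X, U) (X.presheaf.stalk (g xb)))
  have hev : ∀ c ∈ p, ev c = 0 := fun c hc => by
    refine (IsLocalRing.residue_eq_zero_iff _).2 ?_
    rw [← IsLocalization.AtPrime.map_eq_maximalIdeal p (X.presheaf.stalk (g xb))]
    exact Ideal.mem_map_of_mem _ hc
  let evl : (Γ(X, U) ⧸ p) →+* X.residueField (g xb) := Ideal.Quotient.lift p ev hev
  have hsurj : Function.Surjective evl := fun z => by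
    obtain ⟨a, rfl⟩ := (IsLocalRing.residue_surjective : Function.Surjective (IsLocalRing.residue (X.presheaf.stalk (g xb)))) z
    obtain ⟨⟨c, s⟩, hcs⟩ := IsLocalization.surj p.primeCompl a
    have hs : (Ideal.Quotient.mk p (s : Γ(X, U))) ≠ 0 := fun h => s.2 (Ideal.Quotient.eq_zero_iff_mem.1 h)
    refine ⟨Ideal.Quotient.mk p c * (Ideal.Quotient.mk p (s : Γ(X, U)))⁻¹, ?_⟩
    rw [map_mul, map_inv₀]
    refine (mul_inv_eq_iff_eq_mul₀ ((map_ne_zero evl).2 hs)).2 ?_
    show ev c = _ * ev s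
    exact ((congrArg (IsLocalRing.residue (X.presheaf.stalk (g xb))) hcs).symm.trans (map_mul _ _ _))
  have hk : ∀ a : k, evl (algebraMap k (Γ(X, U) ⧸ p) a) = algebraMap k (X.residueField (g xb)) a := fun a => by
    show X.residue (g xb) (X.presheaf.germ U (g xb) hxU (qX.appLE ⊤ U le_top ((Scheme.ΓSpecIso (CommRingCat.of k)).inv a))) =
      X.residue (g xb) (X.presheaf.germ ⊤ (g xb) trivial (qX.appTop ((Scheme.ΓSpecIso (CommRingCat.of k)).inv a)))
    congr 1
    exact X.presheaf.germ_res_apply (homOfLE (le_top : U ≤ ⊤)) (g xb) hxU _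
  exact Field.finInsepDegree_eq_of_equiv k _ _ (AlgEquiv.ofBijective ⟨evl, hk⟩ ⟨evl.injective, hsurj⟩)


end Groth.Agent.S6556
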