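import Groth.Statements.S6557
import Groth.Agent.Lib.RegSmooth17.Scheme
import Groth.Agent.Lib.SmoothReg17.Basic
import Groth.Agent.Lib.RegLoc.GlobalDim
import Groth.Agent.Lib.Curve17.Basic
import Groth.Agent.Lib.VarDim.Irred
import Groth.Agent.Lib.Descend.BaseChangeAt
import Mathlib.FieldTheory.IsAlgClosed.AlgebraicClosure
import Mathlib.AlgebraicGeometry.PullbackCarrier
import Mathlib.AlgebraicGeometry.Pullbacks

set_option autoImplicit false
universe u
open CategoryTheory CategoryTheory.Limits AlgebraicGeometry
open Curves

namespace Groth.Agent.S6557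
open Groth.Agent TopologicalSpace IsLocalRing
set_option linter.style.haveILetI false

/-- Let k be a field and f : X → Y a surjective morphism over k of curves over k (integral, separated,
of finite type over k, of dimension one). If X is smooth over k and every local ring of Y is an
integrally closed domain, then Y is also smooth over k. -/
theorem result (k : Type u) [Field k]
    (X Y : Scheme.{u}) [X.Over (Spec (CommRingCat.of k))] [Y.Over (Spec (CommRingCat.of k))]
    [IsIntegral X] [IsSeparated (X ↘ (Spec (CommRingCat.of k)))] [LocallyOfFiniteType (X ↘ (Spec (CommRingCat.of k)))] [QuasiCompact (X ↘ (Spec (CommRingCat.of k)))] (hdX : topologicalKrullDim X = 1) [IsIntegral Y] [IsSeparated (Y ↘ (Spec (CommRingCat.of k)))] [LocallyOfFiniteType (Y ↘ (Spec (CommRingCat.of k)))] [QuasiCompact (Y ↘ (Spec (CommRingCat.of k)))] (hdY : topologicalKrullDim Y = 1)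
    (f : X ⟶ Y) (hf : f ≫ (Y ↘ (Spec (CommRingCat.of k))) = X ↘ (Spec (CommRingCat.of k))) [Surjective f]
    [Smooth (X ↘ (Spec (CommRingCat.of k)))] (hY : Pi1.IsNormalScheme Y) :
    Smooth (Y ↘ (Spec (CommRingCat.of k))) := by
  set pX := X ↘ (Spec (CommRingCat.of k))
  set pY := Y ↘ (Spec (CommRingCat.of k))
  haveI : IsLocallyNoetherian Y := LocallyOfFiniteType.isLocallyNoetherian pY
  haveI : LocallyOfFinitePresentation pY := inferInstance
  have e : f (genericPoint X) = genericPoint Y := by
    refine Curve17.map_genericPoint hdY.le f ?_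
    rw [Set.range_eq_univ.2 f.surjective]
    by_contra hnt
    rw [Set.not_nontrivial_iff] at hnt
    refine Curve17.not_isClosed_genericPoint hdY ?_
    convert! isClosed_univ
    exact Set.eq_univ_iff_forall.2 fun y => hnt (Set.mem_univ y) (Set.mem_univ _)
  have hv : ∀ y : Y, IsPrincipalIdealRing (Y.presheaf.stalk y) := by
    intro y
    by_cases hy : y = genericPoint Y
    · subst hy
      letI : Field (Y.presheaf.stalk (genericPoint Y)) := inferInstanceAs (Field Y.functionField)
      infer_instance
    · haveI := (hY y).2
      haveI := Curve17.isDiscreteValuationRing_stalk hdY (Curve17.isClosed_singleton hdY.le hy)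
      infer_instance
  haveI : Flat f := (Flat.iff_flat_stalkMap f).2 fun x => Curve17.flat_stalkMap_of_dvr f e x (hv (f x))
  let K := AlgebraicClosure k
  let g : Spec (CommRingCat.of K) ⟶ Spec (CommRingCat.of k) := Spec.map (CommRingCat.ofHom (algebraMap k K))
  haveI : Flat g := by
    rw [HasRingHomProperty.Spec_iff (P := @Flat)]
    exact RingHom.flat_algebraMap_iff.2 (inferInstance : Module.Flat k K)
  haveI : Surjective g := ⟨fun y => ⟨default, @Subsingleton.elim _ (inferInstanceAs (Subsingleton (PrimeSpectrum k))) _ _⟩⟩
  let snd := pullback.snd pY g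
  let fst := pullback.fst pY g
  let f' : pullback f fst ⟶ pullback pY g := pullback.snd f fst
  haveI : Flat f' := inferInstance
  haveI : Surjective f' := inferInstance
  haveI : LocallyOfFiniteType snd := inferInstance
  haveI : IsLocallyNoetherian (pullback pY g) := LocallyOfFiniteType.isLocallyNoetherian snd
  have hQ : IsPullback (pullback.fst f fst) (f' ≫ snd) pX g := by
    rw [← hf]
    exact (IsPullback.of_hasPullback f fst).paste_vert (IsPullback.of_hasPullback pY g)
  haveI : Smooth (f' ≫ snd) := MorphismProperty.of_isPullback (P := @Smooth) hQ inferInstance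
  have hreg : ∀ y : ↥(pullback pY g), IsRegularLocalRing ((pullback pY g).presheaf.stalk y) := by
    intro y
    obtain ⟨z, rfl⟩ := f'.surjective y
    haveI := SmoothReg17.isRegularLocalRing_stalk (f' ≫ snd) z
    letI := (f'.stalkMap z).hom.toAlgebra
    haveI : Module.Flat ((pullback pY g).presheaf.stalk (f' z)) ((pullback f fst).presheaf.stalk z) :=
      Flat.stalkMap f' z
    haveI : IsLocalHom (algebraMap ((pullback pY g).presheaf.stalk (f' z)) ((pullback f fst).presheaf.stalk z)) :=
      inferInstanceAs (IsLocalHom (f'.stalkMap z).hom)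
    exact RegLoc.isRegularLocalRing_of_flat _ ((pullback f fst).presheaf.stalk z)
  haveI : Smooth snd := RegSmooth17.smooth_of_regular_of_perfectField snd hreg
  rw [← Scheme.Hom.smoothLocus_eq_top_iff, ← top_le_iff]
  intro y _
  haveI : Surjective fst := inferInstance
  obtain ⟨y', rfl⟩ := fst.surjective y
  exact Descend.mem_smoothLocus_of_flat_baseChange (IsPullback.of_hasPullback pY g) y'
    ((Scheme.Hom.smoothLocus_eq_top snd).ge trivial)

end Groth.Agent.S6557
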