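import Groth.Statements.S6558
-- import your own Groth.Agent.* helpers here
import Groth.Agent.Lib.SepPt17.Frob
import Groth.Agent.Lib.Curve17.FrobTwist
import Groth.Agent.Lib.CurveCoh17.GenusBC

set_option autoImplicit false
universe u
open CategoryTheory CategoryTheory.Limits AlgebraicGeometry
open Curves

namespace Groth.Agent.S6558

/-- Let p be a prime number, k a field of characteristic p, and f : X → Y a nonconstant morphism over k
of proper nonsingular curves over k (proper, integral, of dimension one, all local rings regular),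
nonconstant meaning f(ξ_X) = ξ_Y for the generic points (hypothesis e), so that k(Y) maps into k(X).
Assume X is smooth over k with H^0(X, O_X) = k and k(X)/k(Y) purely inseparable. Then Y is smooth
over k, its global functions are the constants k, and Y and X have the same genus. -/
theorem result (k : Type u) [Field k] (p : ℕ) [Fact p.Prime] [CharP k p]
    (X Y : Scheme.{u}) [X.Over (Spec (CommRingCat.of k))] [Y.Over (Spec (CommRingCat.of k))]
    [IsIntegral X] [IsProper (X ↘ (Spec (CommRingCat.of k)))] (hdX : topologicalKrullDim X = 1) (hregX : ∀ x : X, IsRegularLocalRing (X.presheaf.stalk x))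
    [IsIntegral Y] [IsProper (Y ↘ (Spec (CommRingCat.of k)))] (hdY : topologicalKrullDim Y = 1) (hregY : ∀ y : Y, IsRegularLocalRing (Y.presheaf.stalk y))
    (f : X ⟶ Y) (hf : f ≫ (Y ↘ (Spec (CommRingCat.of k))) = X ↘ (Spec (CommRingCat.of k))) (e : f (genericPoint X) = genericPoint Y)
    [Smooth (X ↘ (Spec (CommRingCat.of k)))] (h0 : Module.finrank k (Coh.HH X (Coh.structureModule X) 0) = 1)
    (hpi : letI := ((Y.presheaf.stalkSpecializes (specializes_of_eq e) ≫ f.stalkMap (genericPoint X)).hom).toAlgebra
      IsPurelyInseparable Y.functionField X.functionField) :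
    Smooth (Y ↘ (Spec (CommRingCat.of k))) ∧ Module.finrank k (Coh.HH Y (Coh.structureModule Y) 0) = 1 ∧
      Curv2.genus k Y = Curv2.genus k X := by
  haveI : ExpChar k p := ExpChar.prime Fact.out
  have hnY : ∀ y : Y, IsIntegrallyClosed (Y.presheaf.stalk y) := fun y =>
    haveI := hregY y
    haveI := RegLoc.isDomain (Y.presheaf.stalk y)
    haveI := RegLoc.ufd_of_isRegularLocalRing (Y.presheaf.stalk y)
    inferInstance
  obtain ⟨r, i, hi⟩ := Curve17.exists_iso_pullback_iterateFrobenius (k := k) p (X ↘ Spec (CommRingCat.of k))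
    (Y ↘ Spec (CommRingCat.of k)) hdX hdY hnY f hf e hpi
  haveI : Smooth (Y ↘ Spec (CommRingCat.of k)) := by rw [← hi]; infer_instance
  have hpb : IsPullback (i.hom ≫ pullback.fst (X ↘ Spec (CommRingCat.of k))
      (Spec.map (CommRingCat.ofHom (iterateFrobenius k p r)))) (Y ↘ Spec (CommRingCat.of k))
      (X ↘ Spec (CommRingCat.of k)) (Spec.map (CommRingCat.ofHom (iterateFrobenius k p r))) :=
    (IsPullback.of_hasPullback _ _).of_iso i.symm (Iso.refl _) (Iso.refl _) (Iso.refl _)
      (by simp) (by simp [← hi]) (by simp) (by simp)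
  haveI := VB17.isNoetherian_of_over (k := k) (X := X)
  exact ⟨inferInstance, (SepPt17.finrank_HH_pullback _ hpb 0).trans h0, SepPt17.finrank_HH_pullback _ hpb 1⟩

end Groth.Agent.S6558
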