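import Groth.Statements.S6559
import Groth.Agent.Lib.Curve17.Glue
import Groth.Agent.Lib.Curve17.Basic
import Mathlib.AlgebraicGeometry.SpreadingOut
import Mathlib.AlgebraicGeometry.ValuativeCriterion

set_option autoImplicit false
universe u
open CategoryTheory CategoryTheory.Limits AlgebraicGeometry
open Curves

namespace Groth.Agent.S6559
open Groth.Agent TopologicalSpace
set_option linter.style.haveILetI false

/-- Let k be a field, X a curve over k (integral, separated and of finite type over k, of dimension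
one), Y a proper variety over k (integral, proper over k), U ⊆ X a nonempty open and f : U → Y a
morphism over k. If the local ring of X at a closed point x is a discrete valuation ring, then f
extends to a k-morphism U' → Y on some open U' ⊇ U of X containing x. -/
theorem result (k : Type u) [Field k]
    (X Y : Scheme.{u}) [X.Over (Spec (CommRingCat.of k))] [Y.Over (Spec (CommRingCat.of k))]
    [IsIntegral X] [IsSeparated (X ↘ (Spec (CommRingCat.of k)))] [LocallyOfFiniteType (X ↘ (Spec (CommRingCat.of k)))] [QuasiCompact (X ↘ (Spec (CommRingCat.of k)))] (hdX : topologicalKrullDim X = 1)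
    [IsIntegral Y] [IsProper (Y ↘ (Spec (CommRingCat.of k)))]
    (U : X.Opens) (hU : (U : Set X).Nonempty) (f : (U : Scheme.{u}) ⟶ Y) (hf : f ≫ (Y ↘ (Spec (CommRingCat.of k))) = U.ι ≫ (X ↘ (Spec (CommRingCat.of k))))
    (x : X) (hx : IsClosed ({x} : Set X)) (hdvr : IsDiscreteValuationRing (X.presheaf.stalk x)) :
    ∃ (U' : X.Opens) (hUU' : U ≤ U') (f' : (U' : Scheme.{u}) ⟶ Y), x ∈ U' ∧
      f' ≫ (Y ↘ (Spec (CommRingCat.of k))) = U'.ι ≫ (X ↘ (Spec (CommRingCat.of k))) ∧ X.homOfLE hUU' ≫ f' = f := by
  set pX := X ↘ (Spec (CommRingCat.of k))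
  set pY := Y ↘ (Spec (CommRingCat.of k))
  have hη : genericPoint X ∈ U := hU.elim fun y hy => (genericPoint_specializes y).mem_open U.2 hy
  haveI := hdvr
  let i₁ : Spec X.functionField ⟶ Y := U.fromSpecStalkOfMem (genericPoint X) hη ≫ f
  have hsq : CommSq i₁ (Spec.map (CommRingCat.ofHom (algebraMap (X.presheaf.stalk x) X.functionField))) pY
      (X.fromSpecStalk x ≫ pX) := ⟨by
    change (U.fromSpecStalkOfMem (genericPoint X) hη ≫ f) ≫ pY =
      Spec.map (X.presheaf.stalkSpecializes (genericPoint_specializes x)) ≫ X.fromSpecStalk x ≫ pX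
    rw [Category.assoc, hf, Scheme.Opens.fromSpecStalkOfMem_ι_assoc,
      Scheme.SpecMap_stalkSpecializes_fromSpecStalk_assoc]⟩
  have hP : (ValuativeCriterion ⊓ @QuasiCompact ⊓ @QuasiSeparated ⊓ @LocallyOfFiniteType) pY := by
    rw [← IsProper.eq_valuativeCriterion]; infer_instance
  obtain ⟨⟨φ, hφ1, hφ2⟩⟩ := (hP.1.1.1.existence ({ R := X.presheaf.stalk x, domain := (by infer_instance : IsDomain (X.presheaf.stalk x)), valuationRing := (by infer_instance : ValuationRing (X.presheaf.stalk x)), K := X.functionField, field := (by infer_instance : Field X.functionField), algebra := (by infer_instance : Algebra (X.presheaf.stalk x) X.functionField), isFractionRing := (by infer_instance : IsFractionRing (X.presheaf.stalk x) X.functionField), i₁ := i₁, i₂ := X.fromSpecStalk x ≫ pX, commSq := hsq } : ValuativeCommSq pY)).exists_lift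
  obtain ⟨V, hxV, g, hg1, hg2⟩ := spread_out_of_isGermInjective' pX pY φ hφ2
  have hηV : genericPoint X ∈ V := (genericPoint_specializes x).mem_open V.2 hxV
  have hηW : genericPoint X ∈ U ⊓ V := ⟨hη, hηV⟩
  have hagree : X.homOfLE (inf_le_left : U ⊓ V ≤ U) ≫ f = X.homOfLE (inf_le_right : U ⊓ V ≤ V) ≫ g := by
    haveI : Nonempty (U ⊓ V : X.Opens) := ⟨⟨_, hηW⟩⟩
    let ι := (U ⊓ V).fromSpecStalkOfMem (genericPoint X) hηW
    haveI : IsDominant ι := by
      have hr : (U ⊓ V).ι (ι (IsLocalRing.closedPoint _)) = genericPoint X := by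
        rw [← Scheme.Hom.comp_apply, Scheme.Opens.fromSpecStalkOfMem_ι, Scheme.fromSpecStalk_closedPoint]
      refine ⟨fun y => ?_⟩
      refine closure_mono (s := {ι (IsLocalRing.closedPoint (X.presheaf.stalk (genericPoint X)))})
        (t := Set.range ι) (by rintro _ rfl; exact ⟨_, rfl⟩) (specializes_iff_mem_closure.1 ?_)
      apply ((U ⊓ V).ι.isOpenEmbedding.isInducing).specializes_iff.1
      rw [hr]
      exact genericPoint_specializes _
    have hpre : ∀ (W : X.Opens) (hW : U ⊓ V ≤ W),
        ι ≫ X.homOfLE hW = W.fromSpecStalkOfMem (genericPoint X) (hW hηW) := fun W hW => by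
      rw [← cancel_mono W.ι]; simp [ι]
    refine ext_of_isDominant_of_isSeparated pY ?_ ι ?_
    · rw [Category.assoc, Category.assoc, hf, hg2, Scheme.homOfLE_ι_assoc, Scheme.homOfLE_ι_assoc]
    · rw [← Category.assoc, ← Category.assoc, hpre U inf_le_left, hpre V inf_le_right]
      have h1 : Spec.map (X.presheaf.stalkSpecializes (genericPoint_specializes x)) ≫ V.fromSpecStalkOfMem x hxV =
          V.fromSpecStalkOfMem (genericPoint X) hηV := by
        rw [← cancel_mono V.ι]; simp
      rw [← h1, Category.assoc, ← hg1]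
      exact hφ1.symm
  obtain ⟨W, hUW, hVW, e, hW, he1, he2, hext⟩ := Curve17.exists_glue f g hagree
  refine ⟨W, hUW, e, hVW hxV, ?_, he1⟩
  refine hext _ _ ?_ ?_
  · rw [← Category.assoc, he1, hf, Scheme.homOfLE_ι_assoc]
  · rw [← Category.assoc, he2, hg2, Scheme.homOfLE_ι_assoc]

end Groth.Agent.S6559
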