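import Groth.Statements.S6563
import Groth.Agent.Lib.CurveNF.Compact
import Groth.Agent.Lib.VarDim.Scheme
import Groth.Agent.S1627
import Groth.Agent.S7645

set_option autoImplicit false
universe u
open CategoryTheory CategoryTheory.Limits AlgebraicGeometry
open Curves

namespace Groth.Agent.S6563

/-- Let k be a field and f : X → Y a morphism over k of varieties over k, with X a curve (integral,
separated and of finite type over k, of dimension one) and Y proper over k (and integral). Then f
extends over a projective completion of X: there are a projective curve X̄ over k (integral, of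
dimension one, admitting a closed immersion over k into some P^n_k), an open immersion j : X → X̄
over k and a k-morphism g : X̄ → Y with g ∘ j = f. -/
theorem result (k : Type u) [Field k]
    (X Y : Scheme.{u}) [X.Over (Spec (CommRingCat.of k))] [Y.Over (Spec (CommRingCat.of k))]
    [IsIntegral X] [IsSeparated (X ↘ (Spec (CommRingCat.of k)))] [LocallyOfFiniteType (X ↘ (Spec (CommRingCat.of k)))] [QuasiCompact (X ↘ (Spec (CommRingCat.of k)))] (hdX : topologicalKrullDim X = 1)
    [IsIntegral Y] [IsProper (Y ↘ (Spec (CommRingCat.of k)))]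
    (f : X ⟶ Y) (hf : f ≫ (Y ↘ (Spec (CommRingCat.of k))) = X ↘ (Spec (CommRingCat.of k))) :
    ∃ (Xb : Scheme.{u}) (_ : Xb.Over (Spec (CommRingCat.of k))) (j : X ⟶ Xb) (g : Xb ⟶ Y),
      IsOpenImmersion j ∧ j ≫ g = f ∧ j ≫ (Xb ↘ (Spec (CommRingCat.of k))) = X ↘ (Spec (CommRingCat.of k)) ∧ g ≫ (Y ↘ (Spec (CommRingCat.of k))) = Xb ↘ (Spec (CommRingCat.of k)) ∧
      IsIntegral Xb ∧ topologicalKrullDim Xb = 1 ∧
      ∃ (n : ℕ) (i : Xb ⟶ CohB1.ProjSpace n k), IsClosedImmersion i ∧ i ≫ CohB1.ProjSpace.toSpec n k = Xb ↘ (Spec (CommRingCat.of k)) := by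
  let p := X ↘ (Spec (CommRingCat.of k))
  let r := Y ↘ (Spec (CommRingCat.of k))
  rcases Groth.Agent.S1627.result k X hdX with haff | ⟨d, c, hc, hcp⟩
  swap
  · exact ⟨X, inferInstance, 𝟙 X, f, inferInstance, Category.id_comp _, Category.id_comp _, hf, inferInstance,
      hdX, d, c, hc, hcp⟩
  haveI := haff
  haveI : Nonempty (⊤ : X.Opens) := ⟨⟨genericPoint X, trivial⟩⟩
  haveI : IsDomain Γ(X, ⊤) := IsIntegral.component_integral _
  letI : Algebra k Γ(X, ⊤) := ((Scheme.ΓSpecIso (CommRingCat.of k)).inv ≫ p.appTop).hom.toAlgebra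
  haveI : Algebra.FiniteType k Γ(X, ⊤) := by
    show ((Scheme.ΓSpecIso (CommRingCat.of k)).inv ≫ p.appTop).hom.FiniteType
    rw [CommRingCat.hom_comp]
    exact RingHom.FiniteType.comp ((HasRingHomProperty.iff_of_isAffine (P := @LocallyOfFiniteType)).1 inferInstance)
      (RingHom.FiniteType.of_surjective _ (Scheme.ΓSpecIso (CommRingCat.of k)).symm.commRingCatIsoToRingEquiv.surjective)
  obtain ⟨P, hP, q, j₀, hq, hj, hjq⟩ := Groth.Agent.CurveNF.exists_proper_compactification k Γ(X, ⊤)
  haveI := hq
  haveI := hj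
  have hp : (X.isoSpec.hom ≫ j₀) ≫ q = p := by
    rw [Category.assoc, hjq, show (CommRingCat.ofHom (algebraMap k Γ(X, ⊤))) =
      (Scheme.ΓSpecIso (CommRingCat.of k)).inv ≫ p.appTop from rfl, Spec.map_comp, Scheme.isoSpec_hom_naturality_assoc]
    simp [Scheme.isoSpec_Spec_hom, ← Spec.map_comp]
  let i : X ⟶ pullback q r := pullback.lift (X.isoSpec.hom ≫ j₀) f (hp.trans hf.symm)
  haveI : IsImmersion (i ≫ pullback.fst q r) := by
    rw [pullback.lift_fst]
    infer_instance
  haveI : IsImmersion i := IsImmersion.of_comp i (pullback.fst q r)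
  haveI : IsProper (pullback.fst q r ≫ q) := inferInstance
  haveI : QuasiCompact i := by
    haveI : QuasiCompact (i ≫ pullback.fst q r ≫ q) := by
      rw [pullback.lift_fst_assoc, hp]
      infer_instance
    exact QuasiCompact.of_comp i (pullback.fst q r ≫ q)
  haveI : IsOpenImmersion i.toImage := inferInstance
  haveI : IsReduced i.image := Groth.Agent.CurveNF.isReduced_image i
  haveI : IrreducibleSpace i.image := by
    rw [irreducibleSpace_def]
    convert! ((IrreducibleSpace.isIrreducible_univ X).image _ i.toImage.continuous.continuousOn).closure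
    simpa using i.toImage.denseRange.closure_range.symm
  haveI : IsIntegral i.image := isIntegral_of_irreducibleSpace_of_isReduced _
  let qi : i.image ⟶ Spec (CommRingCat.of k) := i.imageι ≫ pullback.fst q r ≫ q
  have hqi : i.toImage ≫ qi = p := by
    rw [Scheme.Hom.toImage_imageι_assoc, pullback.lift_fst_assoc, hp]
  have hd : topologicalKrullDim i.image = 1 := by
    have h1 := Groth.Agent.VarDim.sdim_comp_of_surjective qi i.toImage (genericPoint X)
    simp only [hqi] at h1
    rw [genericPoint_eq_of_isOpenImmersion i.toImage] at h1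
    rw [Groth.Agent.VarDim.dim_eq_sdim_genericPoint qi, ← h1, ← Groth.Agent.VarDim.dim_eq_sdim_genericPoint p]
    exact hdX
  letI : i.image.Over (Spec (CommRingCat.of k)) := ⟨qi⟩
  haveI : IsProper (i.image ↘ (Spec (CommRingCat.of k))) := inferInstanceAs (IsProper (_ ≫ _))
  refine ⟨i.image, ⟨qi⟩, i.toImage, i.imageι ≫ pullback.snd q r, inferInstance, ?_, hqi, ?_, inferInstance, hd,
    Groth.Agent.S7645.result k i.image hd.le⟩
  · rw [Scheme.Hom.toImage_imageι_assoc, pullback.lift_snd]
  · rw [Category.assoc, ← pullback.condition]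
    rfl

end Groth.Agent.S6563
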