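import Groth.Statements.S6566
import Groth.Agent.Lib.DlzCurve17.EndOmega
import Groth.Agent.Lib.DlzCurve17.H0One

set_option autoImplicit false
set_option backward.isDefEq.respectTransparency false
set_option maxHeartbeats 1000000
universe u
open CategoryTheory CategoryTheory.Limits AlgebraicGeometry
attribute [local instance] HasDerivedCategory.standard
open Curves

namespace Groth.Agent.S6566

/-- Let X be proper over the field k, of dimension one, with H^0(X, O_X) = k, and ω_X its dualizing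
module (the degree -1 cohomology sheaf of f^! O for the structure morphism f, assuming Rf_* on
D_QCoh and its right adjoint exist). For coherent O_X-modules F and Q and an exact sequence ω_X → F
→ Q → 0 in which Q has no first cohomology, F has no first cohomology unless the map ω_X → F admits
a retraction (so that F splits as ω_X ⊕ Q): that is, H^1(X, F) = 0 or ω_X → F has a left inverse. -/
theorem result (k : Type u) [Field k] (X : Scheme.{u}) [X.Over (Spec (CommRingCat.of k))] [IsProper (X ↘ (Spec (CommRingCat.of k)))] (hdim : topologicalKrullDim X = 1)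
    (h0 : Module.finrank k (Coh.HH X (Coh.structureModule X) 0) = 1)
    [DCoh.HasRpush (X ↘ (Spec (CommRingCat.of k)))] (h : DCoh.RpushPreservesQCoh (X ↘ (Spec (CommRingCat.of k)))) [DCoh.HasShriek (X ↘ (Spec (CommRingCat.of k))) h]
    (OY : DCoh.DQCoh (Spec (CommRingCat.of k))) (hOY : Nonempty (OY.obj ≅ DCoh.inD (Spec (CommRingCat.of k)) (Coh.structureModule (Spec (CommRingCat.of k)))))
    (F Q : X.Modules) (hF : Coh.IsCoh F) (hQ : Coh.IsCoh Q)
    (f : DCoh.dualizingMod (X ↘ (Spec (CommRingCat.of k))) h OY 1 ⟶ F) (g : F ⟶ Q) [Epi g] (w : f ≫ g = 0) (hex : (ShortComplex.mk f g w).Exact)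
    (hQ1 : Subsingleton (Coh.HH X Q 1)) :
    Subsingleton (Coh.HH X F 1) ∨ ∃ r : F ⟶ DCoh.dualizingMod (X ↘ (Spec (CommRingCat.of k))) h OY 1, f ≫ r = 𝟙 (DCoh.dualizingMod (X ↘ (Spec (CommRingCat.of k))) h OY 1) := by
  let ω := DCoh.dualizingMod (X ↘ (Spec (CommRingCat.of k))) h OY 1
  have hCM := DlzCurve17.isCM_of_h0 hdim h0
  have hequi := DlzCurve17.equidim_of_h0 hdim h0
  haveI := DlzCurve17.isIso_secHom_ofHom k h OY hOY hCM hequi
  by_cases hs : Subsingleton (Coh.HH X F 1)
  · exact Or.inl hs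
  right
  obtain ⟨t, ht⟩ := DlzCurve17.exists_trace k X hdim h OY hOY
  haveI : Module.Free k (Coh.HH X F 1) := Module.Free.of_divisionRing _ _
  obtain ⟨ψ, hψ⟩ : ∃ ψ : Coh.HH X F 1 →ₗ[k] k, ψ ≠ 0 := by
    by_contra hh
    push Not at hh
    exact hs (subsingleton_of_forall_eq 0 fun v => (Module.forall_dual_apply_eq_zero_iff k v).1 fun ψ => by
      rw [show ψ = 0 from hh ψ]; rfl)
  obtain ⟨φ, hφ, -⟩ := ht F hF ψ
  let χ := M1.secHom (RefHull.ofHom (𝟙 ω) (⊤ : X.Opens))
  obtain ⟨c, hc⟩ : ∃ c : Γ(X, ⊤), χ.app ⊤ (show Γ(Coh.structureModule X, ⊤) from c) = RefHull.ofHom (f ≫ φ) ⊤ :=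
    ⟨(inv χ).app ⊤ (RefHull.ofHom (f ≫ φ) ⊤), by
      show (inv χ ≫ χ).app ⊤ _ = _
      rw [IsIso.inv_hom_id]
      rfl⟩
  have key : ∀ (x : X) (v : (ω).presheaf.stalk x),
      RefHull.stalkMapₗ (f ≫ φ) x v = X.presheaf.germ ⊤ x trivial c • v := fun x v => by
    rw [Twist.secHom_app] at hc
    have h1 := congrArg (fun s : Γ(RefHull.homSh ω ω, ⊤) => (s.1 ⟨x, trivial⟩) v) hc
    refine (Eq.symm h1).trans ?_
    show X.presheaf.germ ⊤ x trivial c • RefHull.stalkMapₗ (𝟙 ω) x v = _
    refine congrArg _ ?_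
    obtain ⟨V, hV, m, rfl⟩ := (ω).presheaf.exists_germ_eq v
    exact RefHull.stalkMapₗ_germ _ _ _ _
  rcases DlzCurve17.eq_zero_or_isUnit_of_h0 h0 c with rfl | hu
  · have h0f : f ≫ φ = 0 := by
      refine Scheme.Modules.hom_ext _ _ fun U => ?_
      refine ConcreteCategory.hom_ext _ _ fun m => M1.section_ext _ _ fun x hx => ?_
      have := key x ((ω).presheaf.germ U x hx m)
      rw [map_zero, zero_smul, RefHull.stalkMapₗ_germ] at this
      exact this.trans (map_zero _).symm
    obtain ⟨φ', hφ'⟩ : ∃ φ' : Q ⟶ ω, g ≫ φ' = φ := ⟨_, hex.g_desc φ h0f⟩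
    refine absurd (LinearMap.ext fun x => ?_) hψ
    rw [hφ x, ← hφ', Functor.map_comp, Sheaf.H.map_comp_apply]
    haveI : Subsingleton (Sheaf.H ((SheafOfModules.toSheaf X.ringCatSheaf).obj Q) 1) := hQ1
    rw [Subsingleton.elim (Sheaf.H.map ((SheafOfModules.toSheaf X.ringCatSheaf).map g) 1 x) 0, map_zero]
    exact map_zero t
  · haveI : IsIso (f ≫ φ) := (M1.isIso_iff_stalk _).2 fun x => by
      obtain ⟨u, hu'⟩ := hu.map (X.presheaf.germ ⊤ x trivial).hom
      show Function.Bijective (RefHull.stalkMapₗ (f ≫ φ) x)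
      refine ⟨fun a b hab => ?_, fun b => ⟨(↑u⁻¹ : X.presheaf.stalk x) • b, ?_⟩⟩
      · have h2 := (key x a).symm.trans (hab.trans (key x b))
        rw [← hu'] at h2
        have h3 := congrArg (fun v => (↑u⁻¹ : X.presheaf.stalk x) • v) h2
        simpa [← mul_smul] using h3
      · refine (key x _).trans ?_
        rw [← hu', ← mul_smul, Units.mul_inv, one_smul]
    exact ⟨φ ≫ inv (f ≫ φ), by rw [← Category.assoc, IsIso.hom_inv_id]⟩

end Groth.Agent.S6566
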