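import Groth.Statements.S6567
import Groth.Agent.S6566
import Groth.Agent.Lib.DlzCurve17.EndScalar
import Groth.Agent.Lib.DefAmp1.Basic
import Groth.Agent.Lib.Snapper.Positive
import Groth.Agent.Lib.NefH1.Core
import Groth.Agent.Lib.GPStab28.Key

set_option autoImplicit false
set_option linter.style.haveILetI false
set_option backward.isDefEq.respectTransparency false
set_option maxHeartbeats 1000000
universe u
open CategoryTheory CategoryTheory.Limits AlgebraicGeometry
attribute [local instance] HasDerivedCategory.standard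
open Curves

namespace Groth.Agent.S6567

open Groth.Agent.M1 Groth.Agent.CurveCoh17

/-- Let X be proper over the field k, of dimension one, with H^0(X, O_X) = k, and ω_X its dualizing
module (the degree -1 cohomology sheaf of f^! O for the structure morphism f, assuming Rf_* on
D_QCoh and its right adjoint exist). Suppose ω_X → F → Q → 0 is exact, with F and Q coherent
O_X-modules, where Q has zero-dimensional support and dim_k H^0(X, Q) ≥ 2, and suppose no nonzero
submodule Q' ⊆ F maps injectively into Q. Then the global sections of F together map onto Q: for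
some index type ι and some map p from the free module O_X^{(ι)} to F, the composite O_X^{(ι)} → F →
Q is an epimorphism. -/
theorem result (k : Type u) [Field k] (X : Scheme.{u}) [X.Over (Spec (CommRingCat.of k))] [IsProper (X ↘ (Spec (CommRingCat.of k)))] (hdim : topologicalKrullDim X = 1)
    (h0 : Module.finrank k (Coh.HH X (Coh.structureModule X) 0) = 1)
    [DCoh.HasRpush (X ↘ (Spec (CommRingCat.of k)))] (h : DCoh.RpushPreservesQCoh (X ↘ (Spec (CommRingCat.of k)))) [DCoh.HasShriek (X ↘ (Spec (CommRingCat.of k))) h]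
    (OY : DCoh.DQCoh (Spec (CommRingCat.of k))) (hOY : Nonempty (OY.obj ≅ DCoh.inD (Spec (CommRingCat.of k)) (Coh.structureModule (Spec (CommRingCat.of k)))))
    (F Q : X.Modules) (hF : Coh.IsCoh F) (hQ : Coh.IsCoh Q)
    (f : DCoh.dualizingMod (X ↘ (Spec (CommRingCat.of k))) h OY 1 ⟶ F) (g : F ⟶ Q) [Epi g] (w : f ≫ g = 0) (hex : (ShortComplex.mk f g w).Exact)
    (hQ0 : topologicalKrullDim (CohB1.support Q) ≤ 0) (hQ2 : 2 ≤ Module.finrank k (Coh.HH X Q 0))
    (hno : ∀ (Q' : X.Modules) (i : Q' ⟶ F), Mono i → Mono (i ≫ g) → IsZero Q') :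
    ∃ (ι : Type u) (p : (SheafOfModules.free ι : X.Modules) ⟶ F), Epi (p ≫ g) := by
  classical
  let ω := DCoh.dualizingMod (X ↘ (Spec (CommRingCat.of k))) h OY 1
  have hω : Coh.IsCoh ω := DlzCurve17.isCoh_dualizingMod k X h OY hOY
  have hX := CurveAmple18.curveLike k X hdim.le
  haveI := hX.noetherian
  haveI := hX.separated
  obtain ⟨S0, hS0⟩ := DefAmp1.exists_finset_of_closed (C := CohB1.support Q) (M1.isClosed_support hQ.2)
    fun x hx => Snapper.isClosed_point_of_dim_le_zero (M1.isClosed_support hQ.2) hQ0 hx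
  have hS : SuppIn Q (S0.filter fun x => IsClosed ({x} : Set X)) :=
    ⟨fun x hx => (Finset.mem_filter.1 hx).2, fun x hx a => by
      by_contra ha
      have hxs : x ∈ CohB1.support Q := fun hsub => ha (hsub.elim _ _)
      exact hx (Finset.mem_filter.2 (hS0 x hxs))⟩
  let p : fr Γ(F, (⊤ : X.Opens)) ⟶ F := freeHom id
  refine ⟨Γ(F, (⊤ : X.Opens)), p, ?_⟩
  have hp : ∀ (N : X.Modules) (φ : F ⟶ N), p ≫ φ = 0 → ∀ t : Γ(F, (⊤ : X.Opens)), φ.app ⊤ t = 0 := fun N φ hφ t => by
    have h1 : ιF t ≫ p ≫ φ = 0 := by rw [hφ, comp_zero]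
    rw [ιF_freeHom_assoc] at h1
    have h2 := congrArg (fun a : Coh.structureModule X ⟶ N => a.app ⊤ (one ⊤)) h1
    calc φ.app ⊤ t = φ.app ⊤ ((secHom t).app ⊤ (one ⊤)) := by rw [secHom_app_one]
      _ = (secHom t ≫ φ).app ⊤ (one ⊤) := rfl
      _ = 0 := h2.trans rfl
  let π := cokernel.π (p ≫ g)
  let j := kernel.ι (g ≫ π)
  let f' : ω ⟶ kernel (g ≫ π) := kernel.lift _ f (by rw [← Category.assoc, w, zero_comp])
  let g' : kernel (g ≫ π) ⟶ kernel π := kernel.lift π (j ≫ g) (by rw [Category.assoc]; exact kernel.condition _)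
  haveI : Epi g' := by
    rw [epi_iff_surjective_up_to_refinements]
    intro A y
    obtain ⟨A', e, he, x0, hx0⟩ := surjective_up_to_refinements_of_epi g (y ≫ kernel.ι π)
    refine ⟨A', e, he, kernel.lift _ x0 ?_, ?_⟩
    · rw [← Category.assoc, ← hx0, Category.assoc, Category.assoc, kernel.condition, comp_zero, comp_zero]
    · rw [← cancel_mono (kernel.ι π)]
      simp only [Category.assoc, g', kernel.lift_ι, j, kernel.lift_ι_assoc]
      exact hx0
  have w' : f' ≫ g' = 0 := by
    rw [← cancel_mono (kernel.ι π)]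
    simp only [Category.assoc, g', kernel.lift_ι, f', j, kernel.lift_ι_assoc, zero_comp]
    exact w
  have hex' : (ShortComplex.mk f' g' w').Exact := by
    rw [ShortComplex.exact_iff_exact_up_to_refinements]
    intro A z hz
    have hz' : (z ≫ j) ≫ g = 0 := by
      have := congrArg (fun a => a ≫ kernel.ι π) hz
      simpa [g'] using this
    obtain ⟨A', e, he, a, ha⟩ := (ShortComplex.exact_iff_exact_up_to_refinements _).1 hex (z ≫ j) hz'
    refine ⟨A', e, he, a, ?_⟩
    rw [← cancel_mono j, Category.assoc, Category.assoc, kernel.lift_ι]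
    exact ha
  have hQ1supp : SuppIn (kernel π) (S0.filter fun x => IsClosed ({x} : Set X)) :=
    GPStab28.suppIn_of_injective (kernel.ι π) (fun x => (M1.mono_iff_stalk _).1 inferInstance x) hS
  have hTsupp : SuppIn (cokernel (p ≫ g)) (S0.filter fun x => IsClosed ({x} : Set X)) :=
    GPStab28.suppIn_of_surjective π (fun x => (M1.epi_iff_stalk _).1 inferInstance x) hS
  have hker : Coh.IsCoh (kernel π) :=
    M1.isCoh_kernel hQ (M1.isQCoh_cokernel (M1.isQCoh_fr X _) hQ.1 (p ≫ g)) π
  have hF' : Coh.IsCoh (kernel (g ≫ π)) :=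
    M1.isCoh_kernel hF (M1.isQCoh_cokernel (M1.isQCoh_fr X _) hQ.1 (p ≫ g)) (g ≫ π)
  rcases S6566.result k X hdim h0 h OY hOY _ _ hF' hker f' g' w' hex' (hQ1supp.subsingleton_HH 0) with hF1 | ⟨r, hr⟩
  · -- every section of the cokernel lifts, hence vanishes
    have hsurj : Function.Surjective (hmap k (g ≫ π) 0) := fun y =>
      (exact_hmap_hdelta k (NefH1.epiSC_shortExact (g ≫ π)) 0 y).1 (Subsingleton.elim (h := hF1) _ _)
    refine Preadditive.epi_of_isZero_cokernel _ ?_
    refine DPerf.isZero_of_stalks fun x => subsingleton_of_forall_eq 0 fun a => ?_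
    by_cases hxS : x ∈ S0.filter fun x => IsClosed ({x} : Set X)
    · obtain ⟨σ, hσ⟩ := hTsupp.exists_section ⊤
        (Function.update (fun y => (0 : (cokernel (p ≫ g)).presheaf.stalk y)) x a)
      obtain ⟨v, hv⟩ := hsurj ((hh0 _).symm σ)
      have h1 : σ = 0 := by
        rw [← (hh0 _).apply_symm_apply σ, ← hv, hh0_hmap]
        exact hp _ (g ≫ π) (by rw [← Category.assoc]; exact cokernel.condition _) _
      have h2 := (hσ x hxS trivial).trans (Function.update_self x _ _)
      rw [h1, map_zero] at h2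
      exact h2.symm
    · exact hTsupp.zero x hxS a
  · exfalso
    haveI : Mono (kernel.ι r ≫ g') := by
      refine Preadditive.mono_of_cancel_zero _ fun {A} z hz => ?_
      obtain ⟨A', e, he, a, ha⟩ := (ShortComplex.exact_iff_exact_up_to_refinements _).1 hex' (z ≫ kernel.ι r)
        (by rw [Category.assoc]; exact hz)
      have ha' : e ≫ z ≫ kernel.ι r = a ≫ f' := ha
      have h1 : (e ≫ z ≫ kernel.ι r) ≫ r = (a ≫ f') ≫ r := congrArg (fun b => b ≫ r) ha'
      rw [Category.assoc, Category.assoc, kernel.condition, comp_zero, comp_zero, Category.assoc, hr,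
        Category.comp_id] at h1
      rw [← h1, zero_comp] at ha'
      rw [← cancel_epi e, comp_zero, ← cancel_mono (kernel.ι r), Category.assoc, zero_comp]
      exact ha'
    haveI : Mono ((kernel.ι r ≫ j) ≫ g) := by
      rw [show (kernel.ι r ≫ j) ≫ g = (kernel.ι r ≫ g') ≫ kernel.ι π by simp [g']]
      infer_instance
    have hK : IsZero (kernel r) := hno _ (kernel.ι r ≫ j) inferInstance inferInstance
    have hg' : g' = 0 := by
      have h1 : (𝟙 _ - r ≫ f') ≫ g' = 0 := by
        rw [← kernel.lift_ι r (𝟙 _ - r ≫ f') (by rw [Preadditive.sub_comp, Category.assoc, hr]; simp),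
          hK.eq_of_src (kernel.ι r) 0, comp_zero, zero_comp]
      rwa [Preadditive.sub_comp, Category.id_comp, Category.assoc, w', comp_zero, sub_zero] at h1
    have hι : kernel.ι π = 0 := by rw [← cancel_epi g', hg', zero_comp, zero_comp]
    have hq : p ≫ g = 0 := by
      rw [← kernel.lift_ι π (p ≫ g) (cokernel.condition _), hι, comp_zero]
    have hinj : Function.Injective (hdelta k (NefH1.epiSC_shortExact g) 0) := by
      rw [← LinearMap.ker_eq_bot, eq_bot_iff]
      intro y hy
      obtain ⟨v, hv⟩ := (exact_hmap_hdelta k (NefH1.epiSC_shortExact g) 0 y).1 hy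
      refine (Submodule.mem_bot k).2 ((hh0 _).injective ?_)
      rw [← hv, map_zero]
      exact (hh0_hmap k g v).trans (hp Q g hq _)
    let e : ω ⟶ kernel g := kernel.lift g f w
    haveI : Epi e := hex.epi_kernelLift
    have hsur : Function.Surjective (hmap k e 1) :=
      NefH1.surjective_h1 k (fun M hM => CurveCoh17.subsingleton_HH_of_dim hdim.le M hM 0) e hω.1
        (M1.isCoh_kernel hF hQ.1 g).1
    haveI : Module.Finite k (Coh.HH X ω 1) := hX.fin _ hω 1
    haveI : Module.Finite k (Coh.HH X (kernel g) 1) := hX.fin _ (M1.isCoh_kernel hF hQ.1 g) 1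
    have hle : Module.finrank k (Coh.HH X Q 0) ≤ Module.finrank k (Coh.HH X ω 1) :=
      (LinearMap.finrank_le_finrank_of_injective hinj).trans (LinearMap.finrank_le_finrank_of_surjective hsur)
    rw [DlzCurve17.h1_dualizing_eq k h OY hOY (DlzCurve17.isCM_of_h0 hdim h0)
      (DlzCurve17.equidim_of_h0 hdim h0) hdim, h0] at hle
    omega

end Groth.Agent.S6567
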