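import Groth.Statements.S6568
import Groth.Agent.Lib.DlzCurve17.EndScalar
import Groth.Agent.Lib.TFOne27.Basic
import Groth.Agent.Lib.TFOne27.Modif
import Groth.Agent.Lib.NefH1.Core
import Groth.Agent.Lib.Snapper.Positive
import Groth.Agent.Lib.GPStab28.Key

set_option autoImplicit false
set_option linter.style.haveILetI false
set_option backward.isDefEq.respectTransparency false
set_option backward.isDefEq.respectTransparency.types false
set_option maxHeartbeats 1000000
universe u
open CategoryTheory CategoryTheory.Limits AlgebraicGeometry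
attribute [local instance] HasDerivedCategory.standard
open Curves

namespace Groth.Agent.S6568

open Groth.Agent.M1 Groth.Agent.CurveCoh17

theorem finrank_eq_one_of_smul {K V : Type u} [Field K] [AddCommGroup V] [Module K V] [Module.Finite K V]
    (h : Function.Bijective fun r : K => r • (LinearMap.id : V →ₗ[K] V)) : Module.finrank K V = 1 := by
  have h1 : Module.finrank K (V →ₗ[K] V) = 1 :=
    ((LinearEquiv.ofBijective (LinearMap.toSpanSingleton K _ LinearMap.id) h).finrank_eq).symm.trans
      (Module.finrank_self K)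
  rw [Module.finrank_linearMap] at h1
  exact (Nat.eq_one_of_mul_eq_one_left h1)

/-- Let X be proper and integral over the field k, of dimension one, with H^0(X, O_X) = k, and ω_X its
dualizing module (the degree -1 cohomology sheaf of f^! O for the structure morphism f, assuming
Rf_* on D_QCoh and its right adjoint exist). Suppose F is a torsion-free coherent O_X-module
(stalkwise: a · m = 0 forces a = 0 or m = 0) containing ω_X as a submodule, with coherent quotient Q
= F/ω_X supported in dimension zero and with dim_k H^0(X, Q) ≥ 2 (so 0 → ω_X → F → Q → 0 is short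
exact). Then F is generated by its global sections. -/
theorem result (k : Type u) [Field k] (X : Scheme.{u}) [X.Over (Spec (CommRingCat.of k))] [IsIntegral X] [IsProper (X ↘ (Spec (CommRingCat.of k)))] (hdim : topologicalKrullDim X = 1)
    (h0 : Module.finrank k (Coh.HH X (Coh.structureModule X) 0) = 1)
    [DCoh.HasRpush (X ↘ (Spec (CommRingCat.of k)))] (h : DCoh.RpushPreservesQCoh (X ↘ (Spec (CommRingCat.of k)))) [DCoh.HasShriek (X ↘ (Spec (CommRingCat.of k))) h]
    (OY : DCoh.DQCoh (Spec (CommRingCat.of k))) (hOY : Nonempty (OY.obj ≅ DCoh.inD (Spec (CommRingCat.of k)) (Coh.structureModule (Spec (CommRingCat.of k)))))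
    (F Q : X.Modules) (hF : Coh.IsCoh F) (hQ : Coh.IsCoh Q)
    (f : DCoh.dualizingMod (X ↘ (Spec (CommRingCat.of k))) h OY 1 ⟶ F) (g : F ⟶ Q) (w : f ≫ g = 0) (hex : (ShortComplex.mk f g w).ShortExact)
    (htf : ∀ (x : X) (a : X.presheaf.stalk x) (m : F.presheaf.stalk x), a • m = 0 → a = 0 ∨ m = 0)
    (hQ0 : topologicalKrullDim (CohB1.support Q) ≤ 0) (hQ2 : 2 ≤ Module.finrank k (Coh.HH X Q 0)) :
    Curv2.IsGloballyGenerated F := by
  classical
  let ω := DCoh.dualizingMod (X ↘ (Spec (CommRingCat.of k))) h OY 1
  have hω : Coh.IsCoh ω := DlzCurve17.isCoh_dualizingMod k X h OY hOY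
  have hCM := DlzCurve17.isCM_of_h0 hdim h0
  have hequi := DlzCurve17.equidim_of_h0 hdim h0
  have hωt : TorSh.IsTorsionFree ω := DlzCurve17.isTorsionFree_dualizingMod k X h OY hOY hdim
  have hFt : TorSh.IsTorsionFree F := fun x =>
    Module.isTorsionFree_iff_smul_eq_zero.2 (htf x)
  have hX := CurveAmple18.curveLike k X hdim.le
  haveI := hX.noetherian
  haveI := hX.separated
  haveI := hex.mono_f
  haveI := hex.epi_g
  let η := genericPoint X
  letI : Field (X.presheaf.stalk η) := (Field.toIsField X.functionField).toField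
  have hQη : Subsingleton (Q.presheaf.stalk η) := by
    by_contra hs
    have hcl := Snapper.isClosed_point_of_dim_le_zero (M1.isClosed_support hQ.2) hQ0 (x := η) hs
    have huniv : (Set.univ : Set X) = {η} := by
      rw [← (genericPoint_spec X).def, hcl.closure_eq]
    haveI : Subsingleton X := ⟨fun a b => (show a ∈ ({η} : Set X) from huniv ▸ Set.mem_univ a).trans
      (show b ∈ ({η} : Set X) from huniv ▸ Set.mem_univ b).symm⟩
    have h01 : topologicalKrullDim X ≤ 0 := Order.krullDim_nonpos_iff_forall_isMax.2 fun Z W hWZ y _ => by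
      obtain ⟨z, hz⟩ := Z.isIrreducible'.nonempty
      rw [Subsingleton.elim y z]
      exact hz
    rw [hdim] at h01
    exact absurd h01 (by decide)
  haveI := DlzCurve17.finite_stalk hω η
  haveI := DlzCurve17.finite_stalk hF η
  have hωη : Module.finrank (X.presheaf.stalk η) ((ω).presheaf.stalk η) = 1 :=
    finrank_eq_one_of_smul (DlzCurve17.bijective_smul_stalk k h OY hOY hCM hequi η)
  have hfη : Function.Bijective (stalkLin f η) := ⟨TFOne27.injective_stalkLin f η, fun v => by
    exact TFOne27.exact_stalk hex.exact η v (Subsingleton.elim (h := hQη) _ _)⟩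
  have hFη : Module.finrank (X.presheaf.stalk η) (F.presheaf.stalk η) = 1 :=
    (LinearEquiv.ofBijective _ hfη).finrank_eq.symm.trans hωη
  have hgen : ∀ y ∈ genericPoints (X : Type u), y = η := fun y hy =>
    eq_genericPoint_of_maximal fun z hz => ((TFOne27.mem_genericPoints.1 hy) z hz)
  let p : fr Γ(F, (⊤ : X.Opens)) ⟶ F := freeHom id
  refine ⟨Γ(F, (⊤ : X.Opens)), p, ?_⟩
  let π := cokernel.π p
  have hN : Coh.IsQCoh (cokernel p) := M1.isQCoh_cokernel (M1.isQCoh_fr X _) hF.1 p
  have hNc : Coh.IsCoh (cokernel p) := ⟨hN, M1.isFT_of_epi π hF.2⟩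
  have hF' : Coh.IsCoh (kernel π) := M1.isCoh_kernel hF hN π
  have hsec : ∀ t : Γ(F, (⊤ : X.Opens)), π.app ⊤ t = 0 := fun t => by
    have h1 : ιF t ≫ p ≫ π = 0 := by rw [cokernel.condition, comp_zero]
    rw [ιF_freeHom_assoc] at h1
    have h2 := congrArg (fun a : Coh.structureModule X ⟶ cokernel p => a.app ⊤ (one ⊤)) h1
    calc π.app ⊤ t = π.app ⊤ ((secHom t).app ⊤ (one ⊤)) := by rw [secHom_app_one]
      _ = (secHom t ≫ π).app ⊤ (one ⊤) := rfl
      _ = 0 := h2.trans rfl
  haveI := hX.fin _ hω 0
  haveI := hX.fin _ hω 1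
  haveI := hX.fin _ hF 0
  haveI := hX.fin _ hF' 0
  haveI := hX.fin _ hQ 0
  have hlt : Module.finrank k (Coh.HH X ω 0) < Module.finrank k (Coh.HH X F 0) := by
    have e1 := LinearMap.finrank_range_add_finrank_ker (hdelta k hex 0)
    have e2 := LinearMap.finrank_range_add_finrank_ker (hmap k g 0)
    have e3 : LinearMap.ker (hdelta k hex 0) = LinearMap.range (hmap k g 0) :=
      (exact_hmap_hdelta k hex 0).linearMap_ker_eq
    have e4 : LinearMap.ker (hmap k g 0) = LinearMap.range (hmap k f 0) :=
      (exact_hmap_hmap k hex 0).linearMap_ker_eq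
    have e5 : Module.finrank k (LinearMap.range (hmap k f 0)) = Module.finrank k (Coh.HH X ω 0) :=
      LinearMap.finrank_range_of_inj (f := hmap k f 0) (hmap_f_injective k (S := ShortComplex.mk f g w) hex)
    have e6 := (LinearMap.range (hdelta k hex 0)).finrank_le
    rw [DlzCurve17.h1_dualizing_eq k h OY hOY hCM hequi hdim, h0] at e6
    simp only at e1 e2 e6
    rw [e3] at e1
    rw [e4] at e2
    try simp only at e1 e2
    omega
  obtain ⟨z, hz⟩ : ∃ z : Coh.HH X F 0, z ≠ 0 := by
    by_contra hh
    push Not at hh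
    haveI : Subsingleton (Coh.HH X F 0) := subsingleton_of_forall_eq 0 hh
    rw [Module.finrank_zero_of_subsingleton (R := k) (M := Coh.HH X F 0)] at hlt
    omega
  let t := hh0 F z
  have htη : F.presheaf.germ ⊤ η trivial t ≠ 0 := fun h' => hz ((hh0 F).injective (by
    rw [map_zero]
    haveI : Coh.IsQCoh F := hF.1
    refine GenericZero.eq_zero_of_maxPt hFt t fun y hy hmax => ?_
    obtain rfl : y = η := hgen y (TFOne27.mem_genericPoints.2 hmax)
    exact h'))
  have hNη : Subsingleton ((cokernel p).presheaf.stalk η) := subsingleton_of_forall_eq 0 fun a => by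
    obtain ⟨v, rfl⟩ := TFOne27.surjective_stalkLin π η a
    obtain ⟨c, rfl⟩ := (finrank_eq_one_iff_of_nonzero' _ htη).1 hFη v
    rw [map_smul, show stalkLin π η (F.presheaf.germ ⊤ η trivial t) =
      ((cokernel p).presheaf.germ ⊤ η trivial (π.app ⊤ t) : (cokernel p).presheaf.stalk η) from
        M1.germ_naturality π ⊤ η trivial t, hsec, map_zero, smul_zero]
  obtain ⟨S, hS⟩ := exists_suppIn_of_maximal hdim.le hNc fun y hy a => by
    obtain rfl := eq_genericPoint_of_maximal hy
    exact Subsingleton.elim (h := hNη) _ _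
  have hge : Module.finrank k (Coh.HH X F 0) ≤ Module.finrank k (Coh.HH X (kernel π) 0) := by
    refine LinearMap.finrank_le_finrank_of_surjective (f := hmap k (kernel.ι π) 0) fun y => ?_
    refine (exact_hmap_hmap k (NefH1.epiSC_shortExact π) 0 y).1 ((hh0 _).injective ?_)
    rw [map_zero]
    exact (hh0_hmap k π y).trans (hsec _)
  have hF'1 : Subsingleton (Coh.HH X (kernel π) 1) := by
    refine DlzCurve17.subsingleton_h1_of_forall_zero k h OY hOY hdim hF' fun φ => ?_
    by_contra hφ
    obtain ⟨a, ha⟩ : ∃ a, stalkLin φ η a ≠ 0 := by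
      by_contra hh
      push Not at hh
      exact hφ (TFOne27.hom_eq_zero hω hωt φ fun y hy a => by obtain rfl := hgen y hy; exact hh a)
    have hinjη : Function.Injective (stalkLin φ η) := by
      refine (injective_iff_map_eq_zero _).2 fun b hb => TFOne27.injective_stalkLin (kernel.ι π) η ?_
      rw [map_zero]
      have hne : stalkLin (kernel.ι π) η a ≠ 0 := fun h' => ha (by
        rw [TFOne27.injective_stalkLin (kernel.ι π) η (h'.trans (map_zero _).symm), map_zero])
      obtain ⟨c, hc⟩ := (finrank_eq_one_iff_of_nonzero' _ hne).1 hFη (stalkLin (kernel.ι π) η b)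
      rw [← map_smul] at hc
      obtain rfl := TFOne27.injective_stalkLin (kernel.ι π) η hc
      rw [map_smul] at hb
      rw [(smul_eq_zero.1 hb).resolve_right ha, zero_smul, map_zero]
    have hι : kernel.ι φ ≫ kernel.ι π = 0 := TFOne27.hom_eq_zero hF hFt _ fun y hy b => by
      obtain rfl := hgen y hy
      have h1 : stalkLin φ η (stalkLin (kernel.ι φ) η b) = 0 := by
        rw [← TFOne27.stalkLin_comp, kernel.condition, TFOne27.stalkLin_zero]
      rw [TFOne27.stalkLin_comp, hinjη (h1.trans (map_zero _).symm), map_zero]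
    haveI : Mono φ := Preadditive.mono_of_kernel_zero ((cancel_mono (kernel.ι π)).1 (hι.trans zero_comp.symm))
    have hle : Module.finrank k (Coh.HH X (kernel π) 0) ≤ Module.finrank k (Coh.HH X ω 0) :=
      LinearMap.finrank_le_finrank_of_injective
        (hmap_f_injective k (S := ShortComplex.mk φ (cokernel.π φ) (cokernel.condition φ))
          { exact := ShortComplex.exact_of_g_is_cokernel _ (cokernelIsCokernel φ) })
    omega
  refine Preadditive.epi_of_isZero_cokernel _ ?_
  refine DPerf.isZero_of_stalks fun x => subsingleton_of_forall_eq 0 fun a => ?_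
  by_cases hxS : x ∈ S
  · obtain ⟨σ, hσ⟩ := hS.exists_section ⊤ (Function.update (fun y => (0 : (cokernel p).presheaf.stalk y)) x a)
    obtain ⟨v, hv⟩ := (exact_hmap_hdelta k (NefH1.epiSC_shortExact π) 0 ((hh0 _).symm σ)).1
      (Subsingleton.elim (h := hF'1) _ _)
    have h1 : σ = 0 := by
      rw [← (hh0 _).apply_symm_apply σ, ← hv]
      exact (hh0_hmap k π v).trans (hsec _)
    have h2 := (hσ x hxS trivial).trans (Function.update_self x _ _)
    rw [h1, map_zero] at h2
    exact h2.symm
  · exact hS.zero x hxS a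

end Groth.Agent.S6568
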