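import Groth.Statements.S6569
import Groth.Agent.S6570
import Groth.Agent.S9287
import Groth.Agent.Lib.ProdComp12.Basic

set_option autoImplicit false
universe u
open CategoryTheory CategoryTheory.Limits AlgebraicGeometry
attribute [local instance] HasDerivedCategory.standard
open Curves

namespace Groth.Agent.S6569

theorem isNodalFamily_iff (k : Type u) [Field k] (X : Scheme.{u}) [X.Over (Spec (CommRingCat.of k))]
    [LocallyOfFiniteType (X ↘ (Spec (CommRingCat.of k)))]
    (hequi : ∀ Z ∈ irreducibleComponents (X : Type u), topologicalKrullDim Z = 1) :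
    Curv2.AtWorstNodal k X ↔ Curv2.IsNodalFamily (X ↘ (Spec (CommRingCat.of k))) := by
  let p := X ↘ (Spec (CommRingCat.of k))
  haveI : Flat p := ProdComp12.flat_over_field p
  constructor
  · intro h
    have hg : Nodal27.Good (pullback.snd p (Spec.map (CommRingCat.ofHom (algebraMap k (AlgebraicClosure k))))) :=
      (Nodal27.good_bar_iff X k).2 ⟨hequi, h⟩
    refine Nodal27.isNodalFamily_of_famGood p fun L _ _ t => ?_
    obtain ⟨ψ, rfl⟩ := Spec.map_surjective t
    letI : Algebra k L := ψ.hom.toAlgebra
    let i : AlgebraicClosure k →ₐ[k] L := IsAlgClosed.lift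
    have ht : Spec.map ψ = Spec.map (CommRingCat.ofHom i.toRingHom) ≫
        Spec.map (CommRingCat.ofHom (algebraMap k (AlgebraicClosure k))) := by
      rw [← Spec.map_comp]
      congr 1
      exact CommRingCat.hom_ext i.comp_algebraMap.symm
    rw [ht]
    exact (Nodal27.good_pullback_iff p _ _).2 hg
  · intro h
    exact ((Nodal27.good_bar_iff X k).1 (Nodal27.famGood_of_isNodalFamily p h (AlgebraicClosure k)
      (Spec.map (CommRingCat.ofHom (algebraMap k (AlgebraicClosure k)))))).2

theorem lciMor_iff {k : Type u} [Field k] {X : Scheme.{u}} (p : X ⟶ Spec (CommRingCat.of k)) :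
    Dual3.IsLCIMor p ↔ Synt.IsSyntomicMor p := by
  haveI : Flat p := ProdComp12.flat_over_field p
  refine forall_congr' fun x => exists_congr fun U => exists_congr fun V => exists_congr fun e =>
    and_congr_right fun _ => ?_
  letI := (p.appLE V.1 U.1 e).hom.toAlgebra
  have hflat : Module.Flat Γ(Spec (CommRingCat.of k), V.1) Γ(X, U.1) := p.flat_appLE V.2 U.2 e
  exact ⟨fun h => (S9287.result _ _).2 ⟨hflat, h⟩, fun h => ((S9287.result _ _).1 h).2⟩

theorem localFibreDim_eq_one {k : Type u} [Field k] {X : Scheme.{u}} (p : X ⟶ Spec (CommRingCat.of k))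
    [LocallyOfFiniteType p] (hequi : ∀ Z ∈ irreducibleComponents (X : Type u), topologicalKrullDim Z = 1) (x : X) :
    Dual3.localFibreDim p x = 1 := by
  haveI : IsIso ((Spec (CommRingCat.of k)).fromSpecResidueField (p x)) :=
    ConsH13.isIso_fromSpecResidueField_of_subsingleton _ _
  haveI : IsIso (p.fiberι (p x)) := inferInstanceAs (IsIso (pullback.fst _ _))
  refine (iInf_subtype'.trans ?_)
  show FlatMor.localDim (p.fiber (p x)) (p.asFiber x) = 1
  rw [FibDim14.localDim_of_isOpenEmbedding (p.fiberι (p x)).isOpenEmbedding, p.fiberι_asFiber]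
  exact (Nodal27.components_iff p).1 hequi x


/-- Let k be a field and X a scheme locally of finite type over k, equidimensional of dimension 1; the
structure morphism is also assumed quasi-separated (automatic here, X being locally Noetherian), so
that the sheaf of differentials Ω_{X/k} can be taken as the conormal sheaf of the diagonal. Two
conditions on X are then equivalent: (1) X has at worst nodal singularities; (2) X → Spec k is a
local complete intersection morphism, and Z → Spec k is unramified, where Z ⊆ X denotes the closed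
subscheme whose ideal sheaf is the first Fitting ideal of Ω_{X/k}. -/
theorem result (k : Type u) [Field k] (X : Scheme.{u}) [X.Over (Spec (CommRingCat.of k))] [LocallyOfFiniteType (X ↘ (Spec (CommRingCat.of k)))] [QuasiSeparated (X ↘ (Spec (CommRingCat.of k)))]
    (hequi : ∀ Z ∈ irreducibleComponents (X : Type u), topologicalKrullDim Z = 1) :
    Curv2.AtWorstNodal k X ↔
      (Dual3.IsLCIMor (X ↘ (Spec (CommRingCat.of k))) ∧
        FormallyUnramified ((Fitt.sheafIdeal (Omega.sheaf (X ↘ (Spec (CommRingCat.of k)))) 1).subschemeι ≫ (X ↘ (Spec (CommRingCat.of k))))) := by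
  rw [isNodalFamily_iff k X hequi, lciMor_iff, S6570.result]
  exact ⟨fun h => ⟨h.1, h.2.2⟩, fun h => ⟨h.1, localFibreDim_eq_one _ hequi, h.2⟩⟩

end Groth.Agent.S6569
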