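import Groth.Statements.S6572
import Groth.Agent.Lib.RamOm17.Length
import Groth.Agent.Lib.Hurwitz17.Fibre
import Groth.Agent.Lib.CurveOm17.KaehlerStalk
import Groth.Agent.Lib.CurveCartier25.RelDim
import Groth.Agent.Lib.SmoothReg17.Basic
import Groth.Agent.Lib.QFQuot4.Scheme
-- import your own Groth.Agent.* helpers here

set_option autoImplicit false
universe u
open CategoryTheory CategoryTheory.Limits AlgebraicGeometry
open Curves

namespace Groth.Agent.S6572

/-- Let k be a field and f : X → Y a morphism over k of smooth proper curves over k (proper, smooth,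
integral, of dimension one) which is generically étale (étale on a nonempty open of X) and
nonconstant (f(ξ_X) = ξ_Y for the generic points), with H^0(X, O_X) = H^0(Y, O_Y) = k. For a closed
point x ∈ X with image y, write e_x for the ramification index of the extension of discrete
valuation rings O_{Y,y} → O_{X,x} and d_x for the length of the O_{X,x}-module Ω_{O_{X,x}/O_{Y,y}}.
Then e_x − 1 ≤ d_x, with equality exactly when O_{Y,y} → O_{X,x} is tame: the residue field
extension κ(x)/κ(y) is separable and e_x is not divisible by the characteristic of κ(y) (e_x ≠ 0 in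
κ(y)). (The published statement also identifies d_x with the multiplicity of x in the ramification
divisor; this row takes the length of Ω_{O_{X,x}/O_{Y,y}}, the stalk of Ω_{X/Y} at x, as the
definition of d_x.) -/
theorem result (k : Type u) [Field k]
    (X Y : Scheme.{u}) [X.Over (Spec (CommRingCat.of k))] [Y.Over (Spec (CommRingCat.of k))]
    [IsIntegral X] [IsProper (X ↘ (Spec (CommRingCat.of k)))] [Smooth (X ↘ (Spec (CommRingCat.of k)))] (hdX : topologicalKrullDim X = 1)
    [IsIntegral Y] [IsProper (Y ↘ (Spec (CommRingCat.of k)))] [Smooth (Y ↘ (Spec (CommRingCat.of k)))] (hdY : topologicalKrullDim Y = 1)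
    (hX0 : Module.finrank k (Coh.HH X (Coh.structureModule X) 0) = 1) (hY0 : Module.finrank k (Coh.HH Y (Coh.structureModule Y) 0) = 1)
    (f : X ⟶ Y) (hf : f ≫ (Y ↘ (Spec (CommRingCat.of k))) = X ↘ (Spec (CommRingCat.of k))) (e : f (genericPoint X) = genericPoint Y)
    (het : ∃ U : X.Opens, (U : Set X).Nonempty ∧ Etale (U.ι ≫ f))
    (x : X) (hx : IsClosed ({x} : Set X)) :
    letI := (f.stalkMap x).hom.toAlgebra
    letI := (f.residueFieldMap x).hom.toAlgebra
    ((((Ideal.ramificationIdx (IsLocalRing.maximalIdeal (X.presheaf.stalk x)) (Y.presheaf.stalk (f x)) - 1 : ℕ) : ℕ∞) ≤ Module.length (X.presheaf.stalk x) (KaehlerDifferential (Y.presheaf.stalk (f x)) (X.presheaf.stalk x))) ∧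
      ((Module.length (X.presheaf.stalk x) (KaehlerDifferential (Y.presheaf.stalk (f x)) (X.presheaf.stalk x)) = ((Ideal.ramificationIdx (IsLocalRing.maximalIdeal (X.presheaf.stalk x)) (Y.presheaf.stalk (f x)) - 1 : ℕ) : ℕ∞)) ↔
        (Algebra.IsSeparable (Y.residueField (f x)) (X.residueField x) ∧ ((Ideal.ramificationIdx (IsLocalRing.maximalIdeal (X.presheaf.stalk x)) (Y.presheaf.stalk (f x)) : ℕ) : Y.residueField (f x)) ≠ 0))) := by
  letI alg : Algebra (Y.presheaf.stalk (f x)) (X.presheaf.stalk x) := (f.stalkMap x).hom.toAlgebra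
  let pX := X ↘ (Spec (CommRingCat.of k))
  let pY := Y ↘ (Spec (CommRingCat.of k))
  haveI : IsLocallyNoetherian X := LocallyOfFiniteType.isLocallyNoetherian pX
  haveI : IsLocallyNoetherian Y := LocallyOfFiniteType.isLocallyNoetherian pY
  haveI : IsProper (f ≫ pY) := by rw [hf]; infer_instance
  haveI : IsProper f := IsProper.of_comp f pY
  have hy : IsClosed ({f x} : Set Y) := by
    simpa using f.isClosedMap _ hx
  haveI := SmoothReg17.isIntegrallyClosed_stalk pX x
  haveI := SmoothReg17.isIntegrallyClosed_stalk pY (f x)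
  haveI := Curve17.isDiscreteValuationRing_stalk hdX hx
  haveI := Curve17.isDiscreteValuationRing_stalk hdY hy
  haveI : IsLocalHom (algebraMap (Y.presheaf.stalk (f x)) (X.presheaf.stalk x)) :=
    inferInstanceAs (IsLocalHom (f.stalkMap x).hom)
  have h0 : (f.residueFieldMap x).hom.toAlgebra =
      (inferInstance : Algebra (IsLocalRing.ResidueField (Y.presheaf.stalk (f x)))
        (IsLocalRing.ResidueField (X.presheaf.stalk x))) := by
    refine Algebra.algebra_ext _ _ fun r => ?_
    obtain ⟨r, rfl⟩ := IsLocalRing.residue_surjective r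
    exact ConcreteCategory.congr_hom (Scheme.residue_residueFieldMap f x) r
  haveI : Module.Finite (IsLocalRing.ResidueField (Y.presheaf.stalk (f x)))
      (IsLocalRing.ResidueField (X.presheaf.stalk x)) := by
    have h1 : (f.residueFieldMap x).hom.Finite :=
      QFQuot4.finite_residueFieldMap_of_closed_in_fibre f x (hx.preimage continuous_subtype_val)
    rw [RingHom.Finite, h0] at h1
    exact h1
  let A := Y.presheaf.stalk (f x)
  let B := X.presheaf.stalk x
  obtain ⟨ϖ, hϖ⟩ := IsDiscreteValuationRing.exists_irreducible B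
  have hne : (IsLocalRing.maximalIdeal A).map (algebraMap A B) ≠ ⊥ := by
    rw [ne_eq, Ideal.map_eq_bot_iff_of_injective (f := algebraMap A B) (Curve17.stalkMap_injective f e x)]
    exact IsDiscreteValuationRing.not_a_field A
  obtain ⟨n, hn⟩ := IsDiscreteValuationRing.ideal_eq_span_pow_irreducible hne hϖ
  have hmap : (IsLocalRing.maximalIdeal A).map (algebraMap A B) = IsLocalRing.maximalIdeal B ^ n := by
    rw [hn, hϖ.maximalIdeal_eq, Ideal.span_singleton_pow]
  have hn1 : 1 ≤ n := by
    rcases Nat.eq_zero_or_pos n with rfl | h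
    · exfalso
      rw [pow_zero, Ideal.one_eq_top] at hmap
      exact (IsLocalRing.maximalIdeal.isMaximal B).ne_top (top_le_iff.1
        (hmap.ge.trans (IsLocalRing.map_maximalIdeal_le (algebraMap A B))))
    · exact h
  haveI : SmoothOfRelativeDimension 1 pX := CurveCartier25.smoothOfRelativeDimension_one pX hdX
  letI : Algebra k B := (RegSmooth17.toStalk pX x).toAlgebra
  letI : Algebra k A := (RegSmooth17.toStalk pY (f x)).toAlgebra
  haveI : IsScalarTower k A B := IsScalarTower.of_algebraMap_eq fun c => by
    show RegSmooth17.toStalk pX x c = f.stalkMap x (RegSmooth17.toStalk pY (f x) c)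
    exact (Hurwitz17.stalkMap_stalkRingMap f hf x c).symm
  obtain ⟨eS⟩ := CurveOm17.nonempty_kaehler_stalk_equiv pX x
  have hcyc : ∃ w : Ω[B⁄A], Submodule.span B {w} = ⊤ := by
    refine ⟨KaehlerDifferential.map k A B B (eS.symm 1), eq_top_iff.2 fun v _ => ?_⟩
    obtain ⟨v, rfl⟩ := KaehlerDifferential.map_surjective k A B v
    refine Submodule.mem_span_singleton.2 ⟨eS v, ?_⟩
    rw [← map_smul, ← map_smul eS.symm, smul_eq_mul, mul_one, eS.symm_apply_apply]
  obtain ⟨h1, h2⟩ := RamOm17.length_kaehler (A := A) (B := B) n hn1 hmap hcyc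
  have hram : Ideal.ramificationIdx (IsLocalRing.maximalIdeal B) A = n :=
    Hurwitz17.ramificationIdx_eq_of_map_eq (IsDiscreteValuationRing.not_a_field B) hmap
  rw [hram]
  refine ⟨h1, h2.trans (and_congr ?_ Iff.rfl)⟩
  exact Iff.of_eq (congrArg (fun a => @Algebra.IsSeparable _ _ _ _ a) h0.symm)

end Groth.Agent.S6572
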