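import Groth.Prelude.Def_CAlg
import Mathlib.RingTheory.MvPowerSeries.Derivative
import Mathlib.RingTheory.MvPowerSeries.Inverse
import Mathlib.LinearAlgebra.Matrix.Determinant.Basic
import Mathlib.RingTheory.Ideal.Quotient.Operations
import Mathlib.RingTheory.Nilpotent.Defs
import Groth.Agent.Lib.NodeJac3.Main
-- import your own Groth.Agent.* helpers here

set_option autoImplicit false
set_option linter.style.haveILetI false
universe u
namespace Curves
end Curves
open Curves

namespace Groth.Agent.S6574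

/-- Let k be a field, A = k[[x_1, …, x_n]], and I = (f_1, …, f_m) ⊆ m_A. The following are equivalent:
(1) A/I is a node in the algebraic sense: A/I ≅ k[[u, v]]/(a u^2 + b uv + c v^2) as k-algebras for a
nondegenerate quadratic form (A/I is complete with residue field k, so this is the completion
criterion for nodes); (2) the quotient A/I has no nonzero nilpotents, and m_A is generated by I
together with every (n−1)-by-(n−1) minor taken from the Jacobian (∂f_j/∂x_i) (that is, these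
elements generate I + m_A = m_A); (3) depth(A/I) = 1 and the same condition on minors. Stated as (1)
⇔ (2) and (2) ⇔ (3). -/
theorem result (k : Type u) [Field k] (n m : ℕ)
    (f : Fin m → MvPowerSeries (Fin n) k) (hf : ∀ j, f j ∈ IsLocalRing.maximalIdeal (MvPowerSeries (Fin n) k)) :
    ((∃ a b c : k, 4 * a * c - b ^ 2 ≠ 0 ∧
        Nonempty ((MvPowerSeries (Fin n) k ⧸ Ideal.span (Set.range f)) ≃ₐ[k]
          (MvPowerSeries (Fin 2) k ⧸ Ideal.span
            {(MvPowerSeries.C a * MvPowerSeries.X 0 ^ 2 + MvPowerSeries.C b * MvPowerSeries.X 0 * MvPowerSeries.X 1 +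
              MvPowerSeries.C c * MvPowerSeries.X 1 ^ 2 : MvPowerSeries (Fin 2) k)}))) ↔
      (IsReduced (MvPowerSeries (Fin n) k ⧸ Ideal.span (Set.range f)) ∧
        Ideal.span {d : MvPowerSeries (Fin n) k | ∃ (ρ : Fin (n - 1) → Fin m) (γ : Fin (n - 1) → Fin n), Function.Injective ρ ∧ Function.Injective γ ∧
          d = ((Matrix.of fun (j : Fin m) (i : Fin n) => MvPowerSeries.pderiv k i (f j)).submatrix ρ γ).det} ⊔ Ideal.span (Set.range f) = IsLocalRing.maximalIdeal (MvPowerSeries (Fin n) k))) ∧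
    ((IsReduced (MvPowerSeries (Fin n) k ⧸ Ideal.span (Set.range f)) ∧
        Ideal.span {d : MvPowerSeries (Fin n) k | ∃ (ρ : Fin (n - 1) → Fin m) (γ : Fin (n - 1) → Fin n), Function.Injective ρ ∧ Function.Injective γ ∧
          d = ((Matrix.of fun (j : Fin m) (i : Fin n) => MvPowerSeries.pderiv k i (f j)).submatrix ρ γ).det} ⊔ Ideal.span (Set.range f) = IsLocalRing.maximalIdeal (MvPowerSeries (Fin n) k)) ↔
      (LocCoh.depth (MvPowerSeries (Fin n) k) (MvPowerSeries (Fin n) k ⧸ Ideal.span (Set.range f)) = 1 ∧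
        Ideal.span {d : MvPowerSeries (Fin n) k | ∃ (ρ : Fin (n - 1) → Fin m) (γ : Fin (n - 1) → Fin n), Function.Injective ρ ∧ Function.Injective γ ∧
          d = ((Matrix.of fun (j : Fin m) (i : Fin n) => MvPowerSeries.pderiv k i (f j)).submatrix ρ γ).det} ⊔ Ideal.span (Set.range f) = IsLocalRing.maximalIdeal (MvPowerSeries (Fin n) k))) := by
  classical
  haveI := Groth.Agent.H2Alg.PSHom.isRegularLocalRing k n
  set I : Ideal (MvPowerSeries (Fin n) k) := Ideal.span (Set.range f) with hIdef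
  have hI : I ≤ IsLocalRing.maximalIdeal (MvPowerSeries (Fin n) k) :=
    Ideal.span_le.2 fun _ ⟨j, e⟩ => e ▸ hf j
  have fwd : (∃ a b c : k, 4 * a * c - b ^ 2 ≠ 0 ∧
      Nonempty ((MvPowerSeries (Fin n) k ⧸ I) ≃ₐ[k] (MvPowerSeries (Fin 2) k ⧸ Ideal.span
        {(MvPowerSeries.C a * MvPowerSeries.X 0 ^ 2 + MvPowerSeries.C b * MvPowerSeries.X 0 * MvPowerSeries.X 1 +
          MvPowerSeries.C c * MvPowerSeries.X 1 ^ 2 : MvPowerSeries (Fin 2) k)}))) →
      (IsReduced (MvPowerSeries (Fin n) k ⧸ I) ∧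
        LocCoh.depth (MvPowerSeries (Fin n) k) (MvPowerSeries (Fin n) k ⧸ I) = 1) ∧
      Groth.Agent.NodeJac3.minors f ⊔ I = IsLocalRing.maximalIdeal (MvPowerSeries (Fin n) k) := by
    rintro ⟨a, b, c, hd, ⟨e⟩⟩
    exact ⟨Groth.Agent.NodeJac3.props_of_node I hI hd e,
      Groth.Agent.NodeJac3.two_le_and_jacobian_of_node I hI f rfl hd e⟩
  have hn2 : Groth.Agent.NodeJac3.minors f ⊔ I = IsLocalRing.maximalIdeal (MvPowerSeries (Fin n) k) → 2 ≤ n := by
    intro hJ
    by_contra hlt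
    haveI : IsEmpty (Fin (n - 1)) := by rw [show n - 1 = 0 by omega]; infer_instance
    have h1 : (1 : MvPowerSeries (Fin n) k) ∈ Groth.Agent.NodeJac3.minors f :=
      Ideal.subset_span ⟨isEmptyElim, isEmptyElim, fun x => isEmptyElim x, fun x => isEmptyElim x,
        Matrix.det_isEmpty.symm⟩
    exact (IsLocalRing.maximalIdeal.isMaximal (MvPowerSeries (Fin n) k)).ne_top
      (hJ ▸ (Ideal.eq_top_iff_one _).2 (Ideal.mem_sup_left h1))
  have bwd : Groth.Agent.NodeJac3.minors f ⊔ I = IsLocalRing.maximalIdeal (MvPowerSeries (Fin n) k) →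
      (∀ z, (∀ x ∈ IsLocalRing.maximalIdeal (MvPowerSeries (Fin n) k), x * z ∈ I) → z ∈ I) →
      ∃ a b c : k, 4 * a * c - b ^ 2 ≠ 0 ∧
        Nonempty ((MvPowerSeries (Fin n) k ⧸ I) ≃ₐ[k] (MvPowerSeries (Fin 2) k ⧸ Ideal.span
          {(MvPowerSeries.C a * MvPowerSeries.X 0 ^ 2 + MvPowerSeries.C b * MvPowerSeries.X 0 * MvPowerSeries.X 1 +
            MvPowerSeries.C c * MvPowerSeries.X 1 ^ 2 : MvPowerSeries (Fin 2) k)})) := by
    intro hJ hsoc
    obtain ⟨r, rfl⟩ : ∃ r, n = r + 2 := ⟨n - 2, by have := hn2 hJ; omega⟩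
    exact Groth.Agent.NodeJac3.node_of_jacobian hI f rfl hJ hsoc
  have socred : Groth.Agent.NodeJac3.minors f ⊔ I = IsLocalRing.maximalIdeal (MvPowerSeries (Fin n) k) →
      IsReduced (MvPowerSeries (Fin n) k ⧸ I) →
      ∀ z, (∀ x ∈ IsLocalRing.maximalIdeal (MvPowerSeries (Fin n) k), x * z ∈ I) → z ∈ I := by
    intro hJ hred z hz
    by_cases hu : IsUnit z
    · exfalso
      have hmI : IsLocalRing.maximalIdeal (MvPowerSeries (Fin n) k) ≤ I := fun x hx =>
        (Ideal.mul_unit_mem_iff_mem _ hu).1 (hz x hx)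
      have h2 := Groth.Agent.NodeJac3.finrank_linSpace_add_two hI f rfl hJ (hn2 hJ)
      have htop : Groth.Agent.NodeJac3.linSpace I = ⊤ := by
        rw [eq_top_iff, ← (Pi.basisFun k (Fin n)).span_eq, Submodule.span_le]
        rintro _ ⟨i, rfl⟩
        rw [Pi.basisFun_apply, ← Groth.Agent.NodeJac3.lin_X]
        exact Groth.Agent.NodeJac3.lin_mem_linSpace
          (hmI ((Groth.Agent.NodeJac3.mem_max_iff _).2 (MvPowerSeries.constantCoeff_X i)))
      rw [htop, finrank_top, Module.finrank_pi, Fintype.card_fin] at h2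
      omega
    · rw [← Ideal.Quotient.eq_zero_iff_mem]
      refine IsReduced.eq_zero _ ⟨2, ?_⟩
      rw [← map_pow, Ideal.Quotient.eq_zero_iff_mem, pow_two]
      exact hz z ((IsLocalRing.mem_maximalIdeal _).2 hu)
  have socdep : LocCoh.depth (MvPowerSeries (Fin n) k) (MvPowerSeries (Fin n) k ⧸ I) = 1 →
      ∀ z, (∀ x ∈ IsLocalRing.maximalIdeal (MvPowerSeries (Fin n) k), x * z ∈ I) → z ∈ I := by
    intro hdep z hz
    by_contra hzI
    have h0 : LocCoh.depth (MvPowerSeries (Fin n) k) (MvPowerSeries (Fin n) k ⧸ I) = 0 := by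
      rw [Groth.Agent.Depth3.depth_eq_zero_iff, ← Groth.Agent.Depth3.forall_not_regular_iff_mem_associatedPrimes]
      intro x hx hreg
      refine hzI (Ideal.Quotient.eq_zero_iff_mem.1 (hreg (a₁ := Ideal.Quotient.mk I z) (a₂ := 0) ?_))
      simp only [smul_zero]
      exact Ideal.Quotient.eq_zero_iff_mem.2 (hz x hx)
    rw [h0] at hdep
    exact zero_ne_one hdep
  refine ⟨⟨fun h => ⟨(fwd h).1.1, (fwd h).2⟩, fun h => bwd h.2 (socred h.2 h.1)⟩, ⟨fun h => ?_, fun h => ?_⟩⟩
  · exact ⟨(fwd (bwd h.2 (socred h.2 h.1))).1.2, h.2⟩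
  · exact ⟨(fwd (bwd h.2 (socdep h.1))).1.1, h.2⟩

end Groth.Agent.S6574
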