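import Groth.Statements.S6575
import Mathlib.Tactic
import Mathlib.RingTheory.Ideal.Quotient.Operations
import Mathlib.LinearAlgebra.Matrix.Determinant.Basic
import Mathlib.RingTheory.Ideal.Span
-- import your own Groth.Agent.* helpers here

set_option autoImplicit false
universe u
open Curves

namespace Groth.Agent.S6575
set_option linter.style.haveILetI false

/-- Let k be a field, A = k[[x_1, …, x_n]] and I ⊆ A an ideal generated by f_1, …, f_m and also by g_1,
…, g_l. Then for every r ≥ 0 the ideal of A/I generated by the r × r minors of (∂f_j/∂x_i) equals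
the one generated by the r × r minors of (∂g_s/∂x_i); stated in A as equality of the ideals
generated by the minors together with I. (The published result also asserts independence of the
regular system of parameters x_1, …, x_n, which is not stated here.) -/
theorem result (k : Type u) [Field k] (n m l r : ℕ)
    (f : Fin m → MvPowerSeries (Fin n) k) (g : Fin l → MvPowerSeries (Fin n) k)
    (hfg : Ideal.span (Set.range f) = Ideal.span (Set.range g)) :
    Ideal.span {d : MvPowerSeries (Fin n) k | ∃ (ρ : Fin r → Fin m) (γ : Fin r → Fin n), Function.Injective ρ ∧ Function.Injective γ ∧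
          d = ((Matrix.of fun (j : Fin m) (i : Fin n) => MvPowerSeries.pderiv k i (f j)).submatrix ρ γ).det} ⊔ Ideal.span (Set.range f) =
      Ideal.span {d : MvPowerSeries (Fin n) k | ∃ (ρ : Fin r → Fin l) (γ : Fin r → Fin n), Function.Injective ρ ∧ Function.Injective γ ∧
          d = ((Matrix.of fun (j : Fin l) (i : Fin n) => MvPowerSeries.pderiv k i (g j)).submatrix ρ γ).det} ⊔ Ideal.span (Set.range g) := by
  classical
  suffices key : ∀ (m l : ℕ) (f : Fin m → MvPowerSeries (Fin n) k) (g : Fin l → MvPowerSeries (Fin n) k),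
      Ideal.span (Set.range g) ≤ Ideal.span (Set.range f) →
      Ideal.span {d : MvPowerSeries (Fin n) k | ∃ (ρ : Fin r → Fin l) (γ : Fin r → Fin n), Function.Injective ρ ∧ Function.Injective γ ∧
          d = ((Matrix.of fun (j : Fin l) (i : Fin n) => MvPowerSeries.pderiv k i (g j)).submatrix ρ γ).det} ⊔ Ideal.span (Set.range g) ≤
      Ideal.span {d : MvPowerSeries (Fin n) k | ∃ (ρ : Fin r → Fin m) (γ : Fin r → Fin n), Function.Injective ρ ∧ Function.Injective γ ∧
          d = ((Matrix.of fun (j : Fin m) (i : Fin n) => MvPowerSeries.pderiv k i (f j)).submatrix ρ γ).det} ⊔ Ideal.span (Set.range f) from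
    le_antisymm (key l m g f hfg.le) (key m l f g hfg.ge)
  intro m l f g hle
  refine sup_le ?_ (hle.trans le_sup_right)
  set J := Ideal.span {d : MvPowerSeries (Fin n) k | ∃ (ρ : Fin r → Fin m) (γ : Fin r → Fin n), Function.Injective ρ ∧ Function.Injective γ ∧
      d = ((Matrix.of fun (j : Fin m) (i : Fin n) => MvPowerSeries.pderiv k i (f j)).submatrix ρ γ).det} ⊔ Ideal.span (Set.range f) with hJ
  rw [Ideal.span_le]
  rintro d ⟨ρ, γ, -, hγ, rfl⟩
  have ha : ∀ s, ∃ a : Fin m → MvPowerSeries (Fin n) k, ∑ j, a j * f j = g s := fun s =>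
    Ideal.mem_span_range_iff_exists_fun.1 (hle (Ideal.subset_span ⟨s, rfl⟩))
  choose a ha using ha
  let φ := Ideal.Quotient.mk J
  have hf : ∀ j, φ (f j) = 0 := fun j =>
    Ideal.Quotient.eq_zero_iff_mem.2 (Submodule.mem_sup_right (Ideal.subset_span ⟨j, rfl⟩))
  have hent : ∀ s i, φ (MvPowerSeries.pderiv k i (g s)) = ∑ j, φ (a s j) * φ (MvPowerSeries.pderiv k i (f j)) := by
    intro s i
    rw [← ha s, map_sum, map_sum]
    refine Finset.sum_congr rfl fun j _ => ?_
    rw [Derivation.leibniz, map_add, smul_eq_mul, smul_eq_mul, map_mul, map_mul, hf, zero_mul, add_zero]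
  rw [SetLike.mem_coe, ← Ideal.Quotient.eq_zero_iff_mem, RingHom.map_det]
  have hmat : (RingHom.mapMatrix (Ideal.Quotient.mk J))
      ((Matrix.of fun (j : Fin l) (i : Fin n) => MvPowerSeries.pderiv k i (g j)).submatrix ρ γ) =
      Matrix.of fun x => ∑ j, φ (a (ρ x) j) • (fun y => φ (MvPowerSeries.pderiv k (γ y) (f j))) := by
    ext x y
    simp only [RingHom.mapMatrix_apply, Matrix.map_apply, Matrix.submatrix_apply, Matrix.of_apply,
      Finset.sum_apply, Pi.smul_apply, smul_eq_mul]
    exact hent (ρ x) (γ y)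
  rw [hmat]
  change Matrix.detRowAlternating (fun x => ∑ j, φ (a (ρ x) j) • (fun y => φ (MvPowerSeries.pderiv k (γ y) (f j)))) = 0
  rw [← AlternatingMap.coe_multilinearMap, MultilinearMap.map_sum]
  refine Finset.sum_eq_zero fun σ _ => ?_
  rw [MultilinearMap.map_smul_univ, AlternatingMap.coe_multilinearMap]
  by_cases hσ : Function.Injective σ
  · have h0 : φ ((Matrix.of fun (j : Fin m) (i : Fin n) => MvPowerSeries.pderiv k i (f j)).submatrix σ γ).det = 0 :=
      Ideal.Quotient.eq_zero_iff_mem.2 (Submodule.mem_sup_left (Ideal.subset_span ⟨σ, γ, hσ, hγ, rfl⟩))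
    rw [RingHom.map_det] at h0
    exact smul_eq_zero_of_right _ h0
  · obtain ⟨p, q, hpq, hne⟩ := Function.not_injective_iff.1 hσ
    rw [AlternatingMap.map_eq_zero_of_eq _ _ (by rw [hpq]) hne, smul_zero]

end Groth.Agent.S6575
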