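import Groth.Statements.S6578
-- import your own Groth.Agent.* helpers here
import Groth.Agent.S3572
import Groth.Agent.Lib.CurveCoh17.RegPoint
import Groth.Agent.Lib.CurveCoh17.Bases
import Groth.Agent.Lib.VB17.Proper
import Groth.Agent.Lib.VB17.Sub
import Groth.Agent.Lib.ModM1.Coh
import Groth.Agent.Lib.CurveCoh17.Hyper

set_option autoImplicit false
universe u
open CategoryTheory CategoryTheory.Limits AlgebraicGeometry
open Curves

namespace Groth.Agent.S6578

/-- Let k be a field and X a proper curve over k all of whose local rings are regular (X integral,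
proper, of dimension one), and let (L, V) be a g^r_d on X, given by an invertible module L of degree
d and an ordered basis s_0, …, s_r of V ⊆ Γ(X, L) (k-linearly independent global sections). Then
there exist a morphism φ : X → P^r_k = Proj k[T_0, …, T_r] over k and a map α : φ^*O(1) → L sending
φ^*T_i to s_i for each i (so φ^*T_0, …, φ^*T_r go to a basis of V). -/
theorem result (k : Type u) [Field k] (X : Scheme.{u}) [X.Over (Spec (CommRingCat.of k))]
    [IsIntegral X] [IsProper (X ↘ (Spec (CommRingCat.of k)))] (hdim : topologicalKrullDim X = 1) (hreg : ∀ x : X, IsRegularLocalRing (X.presheaf.stalk x))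
    (d r : ℕ) (L : X.Modules) (s : Fin (r + 1) → LinSer.Sect X L) (hL : LinSer.IsLinSer k X L d r s) :
    ∃ (φ : X ⟶ CohB1.ProjSpace r k) (α : (Scheme.Modules.pullback φ).obj (Twist.twistProjSpace r k 1) ⟶ L),
      φ ≫ CohB1.ProjSpace.toSpec r k = X ↘ (Spec (CommRingCat.of k)) ∧
        ∀ i : Fin (r + 1), (α.val.app (Opposite.op ⊤)).hom (OmegaSh.pullSect φ (Twist.twistProjSpace r k 1) ⊤ (Twist.globalOf (CohB1.polyGrading r k) (⟨MvPolynomial.X i, MvPolynomial.isHomogeneous_X k i⟩ : (CohB1.polyGrading r k) 1))) = s i := by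
  classical
  haveI := Groth.Agent.VB17.isNoetherian_of_over (k := k) (X := X)
  have hpid : ∀ x : X, IsPrincipalIdealRing (X.presheaf.stalk x) := fun x =>
    haveI := hreg x
    Groth.Agent.CurveCoh17.pid_stalk_of_regular hdim.le x
  obtain ⟨hLi, -, hind⟩ := hL
  have hLr := (Groth.Agent.M2.isInvertible_iff_isFinLocFreeOfRank_one _).1 hLi
  let ψ : FlatMod.freeMod X (r + 1) ⟶ L := Sigma.desc fun i => Groth.Agent.M1.secHom (s i)
  let I := Abelian.image ψ
  let π : FlatMod.freeMod X (r + 1) ⟶ I := Abelian.factorThruImage ψ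
  let incl : I ⟶ L := Abelian.image.ι ψ
  have hfac : π ≫ incl = ψ := Abelian.image.fac ψ
  let e : Fin (r + 1) → Γ(FlatMod.freeMod X (r + 1), (⊤ : X.Opens)) := fun i =>
    (Sigma.ι (fun _ : Fin (r + 1) => Coh.structureModule X) i).app ⊤ (Groth.Agent.M1.one ⊤)
  let t : Fin (r + 1) → ProjUP.Γm I := fun i => π.app ⊤ (e i)
  have hincl : ∀ i, incl.app ⊤ (t i) = s i := fun i => by
    show incl.app ⊤ (π.app ⊤ ((Sigma.ι (fun _ : Fin (r + 1) => Coh.structureModule X) i).app ⊤ _)) = _
    rw [← CategoryTheory.comp_apply, ← Scheme.Modules.Hom.comp_app, hfac, ← CategoryTheory.comp_apply,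
      ← Scheme.Modules.Hom.comp_app, Sigma.ι_desc]
    exact Groth.Agent.M1.secHom_app_one (s i)
  have hgen : ProjUP.GeneratedBy I t := fun x => by
    refine eq_top_iff.2 fun b _ => ?_
    obtain ⟨a, rfl⟩ := (Groth.Agent.M1.epi_iff_stalk π).1 inferInstance x b
    obtain ⟨c, rfl⟩ := ((Groth.Agent.P1Split.isBas_coprod (fun _ : Fin (r + 1) => Coh.structureModule X)
      (fun _ => Groth.Agent.M1.one ⊤) (fun _ => Groth.Agent.P1Split.isGen_one ⊤)).stalk (x := x) trivial).2 a
    rw [← Groth.Agent.CurveCoh17.stalkLin_apply]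
    dsimp only
    rw [map_sum]
    refine Submodule.sum_mem _ fun i _ => ?_
    rw [map_smul]
    refine Submodule.smul_mem _ _ (Submodule.subset_span ⟨i, ?_⟩)
    rw [Groth.Agent.CurveCoh17.stalkLin_apply, Groth.Agent.M1.germ_naturality]
  have hIc : Coh.IsCoh I := Groth.Agent.M1.isCoh_kernel (Groth.Agent.CurveCoh17.isCoh_of_ofRank hLr)
    (Groth.Agent.M1.isQCoh_cokernel (Groth.Agent.CurveCoh17.isCoh_of_ofRank
      (Groth.Agent.M2.isFinLocFreeOfRank_freeMod X (r + 1))).1
      (Groth.Agent.CurveCoh17.isCoh_of_ofRank hLr).1 ψ) _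
  obtain ⟨r', hr', hIr⟩ := Groth.Agent.VB17.exists_rank_of_mono hpid hLr hIc incl
  have hIi : PicF.IsInvertible I := by
    rcases Nat.le_one_iff_eq_zero_or_eq_one.1 hr' with h | h
    · subst h
      exfalso
      have hz := Groth.Agent.VB17.isZero_of_rank_zero hIr
      have hs0 : s 0 = 0 := by
        rw [← hincl 0, hz.eq_of_src incl 0]
        simp
        rfl
      have hc := congrFun (hind (Pi.single 0 1) (Finset.sum_eq_zero fun i _ => by
        by_cases hi : i = 0
        · subst hi; rw [hs0, smul_zero]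
        · rw [Pi.single_eq_of_ne hi, map_zero, zero_smul])) 0
      rw [Pi.single_eq_same] at hc
      exact one_ne_zero hc
    · exact (Groth.Agent.M2.isInvertible_iff_isFinLocFreeOfRank_one _).2 (h ▸ hIr)
  obtain ⟨φ, hφ, τ, hτ⟩ := Groth.Agent.S3572.result r (X ↘ Spec (CommRingCat.of k)) I hIi t hgen
  refine ⟨φ, τ.hom ≫ incl, hφ, fun i => ?_⟩
  refine Eq.trans ?_ (hincl i)
  rw [← hτ i]
  rfl

end Groth.Agent.S6578
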