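import Groth.Statements.S6579
-- import your own Groth.Agent.* helpers here
import Groth.Agent.S7640
import Groth.Agent.Lib.CurveCoh17.Pencil2
import Groth.Agent.Lib.CurveCoh17.HZero
import Groth.Agent.Lib.CurveCoh17.RegPoint
import Groth.Agent.Lib.VB17.Duality
import Groth.Agent.Lib.VB17.Proper
import Groth.Agent.Lib.CurveOm17.Coeff
import Groth.Agent.Lib.Twist.UniversalExist
import Groth.Agent.Lib.ModM1.Coh

set_option autoImplicit false
universe u
open CategoryTheory CategoryTheory.Limits AlgebraicGeometry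
open Curves

namespace Groth.Agent.S6579

/-- Let k be a field and X a proper curve over k all of whose local rings are regular (X integral,
proper, of dimension one), (L, V) a g^1_d on X with ordered basis s_0, s_1 of V, and φ : X → P^1_k a
morphism over k together with α : φ^*O(1) → L sending φ^*T_i to s_i (the morphism attached to the
linear series). Then either (1) φ is nonconstant and has degree at most d — here: φ does not factor
through a closed point, and k(X) has dimension at most d over the local ring of P^1_k at the image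
of the generic point of X (that image is then the generic point, so this is [k(X) : k(P^1_k)] ≤ d) —
or (2) φ maps X (set-theoretically) to a single closed point of P^1_k, and in that case H^0(X, O_X)
is bigger than k. -/
theorem result (k : Type u) [Field k] (X : Scheme.{u}) [X.Over (Spec (CommRingCat.of k))]
    [IsIntegral X] [IsProper (X ↘ (Spec (CommRingCat.of k)))] (hdim : topologicalKrullDim X = 1) (hreg : ∀ x : X, IsRegularLocalRing (X.presheaf.stalk x))
    (d : ℕ) (L : X.Modules) (s : Fin (1 + 1) → LinSer.Sect X L) (hL : LinSer.IsLinSer k X L d 1 s)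
    (φ : X ⟶ CohB1.ProjSpace 1 k) (α : (Scheme.Modules.pullback φ).obj (Twist.twistProjSpace 1 k 1) ⟶ L)
    (hφ : φ ≫ CohB1.ProjSpace.toSpec 1 k = X ↘ (Spec (CommRingCat.of k)) ∧
        ∀ i : Fin (1 + 1), (α.val.app (Opposite.op ⊤)).hom (OmegaSh.pullSect φ (Twist.twistProjSpace 1 k 1) ⊤ (Twist.globalOf (CohB1.polyGrading 1 k) (⟨MvPolynomial.X i, MvPolynomial.isHomogeneous_X k i⟩ : (CohB1.polyGrading 1 k) 1))) = s i) :
    ((¬ ∃ p : CohB1.ProjSpace 1 k, IsClosed ({p} : Set (CohB1.ProjSpace 1 k)) ∧ Set.range φ ⊆ {p}) ∧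
      (letI := (φ.stalkMap (genericPoint X)).hom.toAlgebra
       Module.finrank ((CohB1.ProjSpace 1 k).presheaf.stalk (φ (genericPoint X))) X.functionField ≤ d)) ∨
    ((∃ p : CohB1.ProjSpace 1 k, IsClosed ({p} : Set (CohB1.ProjSpace 1 k)) ∧ Set.range φ ⊆ {p}) ∧
      Module.finrank k (Coh.HH X (Coh.structureModule X) 0) ≠ 1) := by
  classical
  haveI := Groth.Agent.VB17.isNoetherian_of_over (k := k) (X := X)
  obtain ⟨hLi, hdeg, hind⟩ := hL
  obtain ⟨hφk, hαs⟩ := hφ
  let O1 := Twist.twistProjSpace 1 k 1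
  have hO1 : PicF.IsInvertible O1 := Twist.isInvertible_twistProjSpace 1 k 1
  have hs0 : s 0 ≠ 0 := fun h => by
    have := congrFun (hind (Pi.single 0 1) (Finset.sum_eq_zero fun i _ => by
      by_cases hi : i = 0
      · subst hi; rw [h, smul_zero]
      · rw [Pi.single_eq_of_ne hi, map_zero, zero_smul])) 0
    rw [Pi.single_eq_same] at this
    exact one_ne_zero this
  by_cases hp : ∃ p : CohB1.ProjSpace 1 k, IsClosed ({p} : Set (CohB1.ProjSpace 1 k)) ∧ Set.range φ ⊆ {p}
  · refine Or.inr ⟨hp, fun h1 => ?_⟩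
    obtain ⟨p, -, hp⟩ := hp
    obtain ⟨D, g, hpD, hg⟩ := Groth.Agent.ProjUP.exists_isGen_of_invertible hO1 p
    have hD : (⊤ : X.Opens) ≤ φ ⁻¹ᵁ D := fun x _ => by
      show φ x ∈ D
      rw [show φ x = p from hp ⟨x, rfl⟩]
      exact hpD
    let M := (Scheme.Modules.pullback φ).obj O1
    let g' : Γ(M, (⊤ : X.Opens)) := Groth.Agent.M1.mres M hD (Groth.Agent.M2.pullSec φ O1 g)
    have hg' : Groth.Agent.Twist.IsGen M ⊤ g' := (Groth.Agent.Twist.IsGen.pullback φ hg).mres hD
    let w : Γ(L, (⊤ : X.Opens)) := α.app ⊤ g'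
    have hsw : ∀ i, ∃ a : Γ(X, ⊤), a • w = (s i : Γ(L, (⊤ : X.Opens))) := fun i => by
      obtain ⟨a, ha⟩ := Groth.Agent.CurveOm17.exists_eq_smul_of_isGen hg'
        (show Γ(M, (⊤ : X.Opens)) from OmegaSh.pullSect φ O1 ⊤ (Twist.globalOf (CohB1.polyGrading 1 k) (⟨MvPolynomial.X i, MvPolynomial.isHomogeneous_X k i⟩ : (CohB1.polyGrading 1 k) 1)))
      refine ⟨a, ?_⟩
      rw [← hαs i]
      show a • α.app ⊤ g' = α.app ⊤ _
      exact ((congrArg (α.app ⊤) ha).trans (Scheme.Modules.Hom.app_smul _ _ _)).symm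
    let gk : k →+* Γ(X, ⊤) := ((Scheme.ΓSpecIso (CommRingCat.of k)).inv ≫ (X ↘ Spec (CommRingCat.of k)).appTop).hom
    have hgk : Function.Surjective gk := by
      letI : Algebra k Γ(X, ⊤) := gk.toAlgebra
      let e : Coh.HH X (Coh.structureModule X) 0 ≃+ Γ(X, ⊤) :=
        Sheaf.H.equiv₀ (Coh.toAb (Coh.structureModule X)) (isTerminalTop (α := X.Opens))
      have he : ∀ (c : k) x, e (c • x) = gk c * e x := by
        intro c x
        refine ((Sheaf.H.equiv₀_naturality (isTerminalTop (α := X.Opens))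
          (Coh.smulAb (Coh.structureModule X) (Coh.toGlobal (X ↘ Spec (CommRingCat.of k)) c)) x).symm).trans ?_
        refine (Coh.smulAb_app _ _ _ _).trans ?_
        show Coh.resTop X (Opposite.op ⊤) _ * _ = _
        simp [gk, Coh.resTop, Coh.toGlobal]
        rfl
      let el : Coh.HH X (Coh.structureModule X) 0 ≃ₗ[k] Γ(X, ⊤) :=
        { e with map_smul' := fun c x => he c x }
      obtain ⟨x⟩ := (inferInstance : Nonempty X)
      haveI : Nontrivial Γ(X, ⊤) := (X.presheaf.germ ⊤ x trivial).hom.domain_nontrivial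
      intro a
      obtain ⟨c, hc⟩ := exists_smul_eq_of_finrank_eq_one (el.finrank_eq ▸ h1) (one_ne_zero : (1 : Γ(X, ⊤)) ≠ 0) a
      refine ⟨c, ?_⟩
      rw [← hc, Algebra.smul_def, mul_one]
      rfl
    obtain ⟨a0, ha0⟩ := hsw 0
    obtain ⟨a1, ha1⟩ := hsw 1
    obtain ⟨c0, rfl⟩ := hgk a0
    obtain ⟨c1, rfl⟩ := hgk a1
    have hcz := congrFun (hind ![c1, -c0] (by
      rw [Fin.sum_univ_two]
      simp only [Matrix.cons_val_zero, Matrix.cons_val_one]
      show gk c1 • (s 0 : Γ(L, (⊤ : X.Opens))) + gk (-c0) • (s 1 : Γ(L, (⊤ : X.Opens))) = 0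
      rw [← ha0, ← ha1, map_neg, neg_smul]
      refine add_neg_eq_zero.2 ?_
      exact (mul_smul _ _ _).symm.trans ((congrArg (fun r : Γ(X, ⊤) => r • w) (mul_comm _ _)).trans (mul_smul _ _ _)))) 1
    simp only [Matrix.cons_val_one, Matrix.cons_val_zero, Pi.zero_apply, neg_eq_zero] at hcz
    rw [hcz, map_zero, zero_smul] at ha0
    exact hs0 ha0.symm
  · refine Or.inl ⟨hp, ?_⟩
    letI : (CohB1.ProjSpace 1 k).Over (Spec (CommRingCat.of k)) := ⟨CohB1.ProjSpace.toSpec 1 k⟩
    haveI := Groth.Agent.RegExt.isIntegral_projSpace 1 k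
    haveI hPp : IsProper ((CohB1.ProjSpace 1 k) ↘ Spec (CommRingCat.of k)) := Groth.Agent.ProjSpace.isProper_toSpec 1 k
    have hdimY : topologicalKrullDim (CohB1.ProjSpace 1 k) = 1 := by rw [Groth.Agent.S10829.result k 1]; rfl
    haveI : IsProper (φ ≫ ((CohB1.ProjSpace 1 k) ↘ Spec (CommRingCat.of k))) := by
      rw [show φ ≫ ((CohB1.ProjSpace 1 k) ↘ Spec (CommRingCat.of k)) = _ from hφk]; infer_instance
    haveI : IsProper φ := IsProper.of_comp φ ((CohB1.ProjSpace 1 k) ↘ Spec (CommRingCat.of k))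
    have hnc : (Set.range φ).Nontrivial := by
      by_contra h
      refine hp ⟨φ (genericPoint X), ?_, fun y hy => (Set.not_nontrivial_iff.1 h) hy ⟨_, rfl⟩⟩
      have hr : Set.range φ = {φ (genericPoint X)} := Set.eq_singleton_iff_unique_mem.2
        ⟨⟨_, rfl⟩, fun y hy => (Set.not_nontrivial_iff.1 h) hy ⟨_, rfl⟩⟩
      rw [← hr]
      exact φ.isClosedMap.isClosed_range
    have hξ : φ (genericPoint X) = genericPoint (CohB1.ProjSpace 1 k) :=
      Groth.Agent.Curve17.map_genericPoint hdimY.le φ hnc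
    have hM : PicF.IsInvertible ((Scheme.Modules.pullback φ).obj O1) := PicLoc.isInvertible_pullback φ hO1
    have hdM : Curv2.deg k X ((Scheme.Modules.pullback φ).obj O1) 1 = (φ.residueDegree (genericPoint X) : ℤ) := by
      rw [Groth.Agent.S7640.result k X (CohB1.ProjSpace 1 k) hdim hdimY φ hφk hξ 1 O1
        ((Groth.Agent.M2.isInvertible_iff_isFinLocFreeOfRank_one _).1 hO1),
        show Curv2.deg k (CohB1.ProjSpace 1 k) O1 1 = 1 from Groth.Agent.CurveCoh17.deg_twistP1 k, mul_one]
    have hne : α ≠ 0 := fun h => hs0 (by rw [← hαs 0, h]; rfl)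
    have hR : Groth.Agent.VB17.RegCurve k X := ⟨Groth.Agent.VB17.curveLike hdim, inferInstance, fun x =>
      haveI := hreg x
      Groth.Agent.CurveCoh17.pid_stalk_of_regular hdim.le x⟩
    haveI : Mono α := Groth.Agent.VB17.mono_of_ne_zero hR hM hLi α hne
    have hle := (Groth.Agent.VB17.deg_le_of_mono hR.like
      ((Groth.Agent.M2.isInvertible_iff_isFinLocFreeOfRank_one _).1 hM)
      ((Groth.Agent.M2.isInvertible_iff_isFinLocFreeOfRank_one _).1 hLi) α).1
    rw [hdM, hdeg] at hle
    let ξ := genericPoint X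
    letI : Algebra ((CohB1.ProjSpace 1 k).presheaf.stalk (φ ξ)) (X.presheaf.stalk ξ) := (φ.stalkMap ξ).hom.toAlgebra
    letI : Algebra ((CohB1.ProjSpace 1 k).residueField (φ ξ)) (X.residueField ξ) := (φ.residueFieldMap ξ).hom.toAlgebra
    have hKY : IsField ((CohB1.ProjSpace 1 k).presheaf.stalk (φ ξ)) := by
      rw [hξ]; exact Field.toIsField (CohB1.ProjSpace 1 k).functionField
    have hKX : IsField (X.presheaf.stalk ξ) := Field.toIsField X.functionField
    have bij : ∀ (Z : Scheme.{u}) (z : Z), IsField (Z.presheaf.stalk z) → Function.Bijective (Z.residue z) :=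
      fun Z z h => ⟨by
        refine (injective_iff_map_eq_zero _).2 fun a ha => ?_
        by_contra hne
        have hu : IsUnit a := by
          letI := h.toField
          exact isUnit_iff_ne_zero.2 hne
        have h0 := hu.map (Z.residue z).hom
        rw [show (Z.residue z).hom a = 0 from ha] at h0
        exact not_isUnit_zero h0, IsLocalRing.residue_surjective⟩
    have h1 : Module.finrank ((CohB1.ProjSpace 1 k).presheaf.stalk (φ ξ)) (X.presheaf.stalk ξ) = φ.residueDegree ξ :=
      Algebra.finrank_eq_of_equiv_equiv (RingEquiv.ofBijective ((CohB1.ProjSpace 1 k).residue (φ ξ)).hom (bij _ _ hKY))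
        (RingEquiv.ofBijective (X.residue ξ).hom (bij _ _ hKX))
        (RingHom.ext fun a => ConcreteCategory.congr_hom (Scheme.residue_residueFieldMap φ ξ) a)
    refine le_trans (le_of_eq h1) ?_
    exact_mod_cast hle

end Groth.Agent.S6579
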