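import Groth.Statements.S6580
import Mathlib.Tactic.NoncommRing

set_option autoImplicit false
universe v u
open CategoryTheory CategoryTheory.Limits
open CohDer

namespace Groth.Agent.S6580


open CategoryTheory.Pretriangulated in
/-- Let (X, Y, Z, f, g, h) be a distinguished triangle of a pretriangulated category, and let a : X ⟶ X
and c : Z ⟶ Z be idempotents with h ≫ a⟦1⟧ = c ≫ h. Then there is an idempotent b : Y ⟶ Y such that
(a, b, c) is an endomorphism of the triangle. -/
theorem result {D : Type u} [Category.{v} D] [Preadditive D] [HasZeroObject D] [HasShift D ℤ]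
    [∀ n : ℤ, (shiftFunctor D n).Additive] [Pretriangulated D]
    (T : Triangle D) (hT : T ∈ distinguishedTriangles) (a : T.obj₁ ⟶ T.obj₁) (c : T.obj₃ ⟶ T.obj₃)
    (ha : a ≫ a = a) (hc : c ≫ c = c) (comm : T.mor₃ ≫ (shiftFunctor D (1 : ℤ)).map a = c ≫ T.mor₃) :
    ∃ b : T.obj₂ ⟶ T.obj₂, b ≫ b = b ∧ T.mor₁ ≫ b = a ≫ T.mor₁ ∧ T.mor₂ ≫ c = b ≫ T.mor₂ := by
  obtain ⟨b0, h1, h2⟩ := complete_distinguished_triangle_morphism₂ T T hT hT a c comm
  obtain ⟨d, hd⟩ : ∃ d, d = b0 ≫ b0 - b0 := ⟨_, rfl⟩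
  have hd1 : T.mor₁ ≫ d = 0 := by
    rw [hd, Preadditive.comp_sub, reassoc_of% h1, h1, reassoc_of% ha, sub_self]
  have hd2 : d ≫ T.mor₂ = 0 := by
    rw [hd, Preadditive.sub_comp, Category.assoc, ← h2, ← Category.assoc, ← h2, Category.assoc, hc, sub_self]
  have hdd : d ≫ d = 0 := by
    obtain ⟨u, hu⟩ := Triangle.yoneda_exact₂ T hT d hd1
    calc d ≫ d = d ≫ (T.mor₂ ≫ u) := by rw [← hu]
      _ = 0 := by rw [← Category.assoc, hd2, zero_comp]
  refine ⟨b0 + (d - b0 ≫ d - b0 ≫ d), ?_, ?_, ?_⟩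
  · have key : ∀ x y : End T.obj₂, y = x * x - x → y * y = 0 →
        (x + (y - y * x - y * x)) * (x + (y - y * x - y * x)) = x + (y - y * x - y * x) := by
      rintro x y rfl hy
      have e : (x + ((x * x - x) - (x * x - x) * x - (x * x - x) * x)) *
            (x + ((x * x - x) - (x * x - x) * x - (x * x - x) * x)) -
          (x + ((x * x - x) - (x * x - x) * x - (x * x - x) * x)) =
          ((x * x - x) * (x * x - x)) * (4 • (x * x) - 4 • x - 3 • 1) := by noncomm_ring
      rw [hy, zero_mul] at e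
      exact sub_eq_zero.mp e
    exact key b0 d hd hdd
  · simp [Preadditive.comp_add, Preadditive.comp_sub, h1, hd1, reassoc_of% h1]
  · simp [Preadditive.add_comp, Preadditive.sub_comp, h2, hd2]


end Groth.Agent.S6580
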