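import Groth.Statements.S6581
import Mathlib.CategoryTheory.Triangulated.Pretriangulated

set_option autoImplicit false
universe v u
open CategoryTheory CategoryTheory.Limits
open CohDer

namespace Groth.Agent.S6581

open CategoryTheory.Pretriangulated

variable {D : Type u} [Category.{v} D] [Preadditive D] [HasZeroObject D] [HasShift D ℤ]
    [∀ n : ℤ, (shiftFunctor D n).Additive] [Pretriangulated D]

/-- the direct sum of two triangles -/
noncomputable abbrev biTri (T T' : Triangle D) : Triangle D :=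
  Triangle.mk (biprod.map T.mor₁ T'.mor₁) (biprod.map T.mor₂ T'.mor₂)
    (biprod.desc (T.mor₃ ≫ (shiftFunctor D (1 : ℤ)).map biprod.inl)
      (T'.mor₃ ≫ (shiftFunctor D (1 : ℤ)).map biprod.inr))

noncomputable def biFst (T T' : Triangle D) : biTri T T' ⟶ T where
  hom₁ := biprod.fst
  hom₂ := biprod.fst
  hom₃ := biprod.fst
  comm₁ := biprod.map_fst _ _
  comm₂ := biprod.map_fst _ _
  comm₃ := by
    change biprod.desc _ _ ≫ (shiftFunctor D (1 : ℤ)).map biprod.fst = biprod.fst ≫ T.mor₃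
    apply biprod.hom_ext' <;> simp [← Functor.map_comp]

noncomputable def biSnd (T T' : Triangle D) : biTri T T' ⟶ T' where
  hom₁ := biprod.snd
  hom₂ := biprod.snd
  hom₃ := biprod.snd
  comm₁ := biprod.map_snd _ _
  comm₂ := biprod.map_snd _ _
  comm₃ := by
    change biprod.desc _ _ ≫ (shiftFunctor D (1 : ℤ)).map biprod.snd = biprod.snd ≫ T'.mor₃
    apply biprod.hom_ext' <;> simp [← Functor.map_comp]

noncomputable def biInl (T T' : Triangle D) : T ⟶ biTri T T' where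
  hom₁ := biprod.inl
  hom₂ := biprod.inl
  hom₃ := biprod.inl
  comm₁ := (biprod.inl_map _ _).symm
  comm₂ := (biprod.inl_map _ _).symm
  comm₃ := (biprod.inl_desc _ _).symm

theorem biTri_mem (T T' : Triangle D) (hT : T ∈ distinguishedTriangles)
    (hT' : T' ∈ distinguishedTriangles) : biTri T T' ∈ distinguishedTriangles := by
  let F : WalkingPair → Triangle D := fun j => WalkingPair.casesOn j T T'
  let φ : biTri T T' ⟶ productTriangle F := productTriangle.lift F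
    (fun j => WalkingPair.casesOn (motive := fun j => biTri T T' ⟶ F j) j (biFst T T') (biSnd T T'))
  have e1 : IsIso φ.hom₁ := by
    refine ⟨biprod.lift (Pi.π (fun j => (F j).obj₁) .left) (Pi.π (fun j => (F j).obj₁) .right), ?_, ?_⟩
    · refine biprod.hom_ext _ _
        (((Category.assoc _ _ _).trans ((congrArg _ (biprod.lift_fst _ _)).trans ?_)).trans (Category.id_comp _).symm)
        (((Category.assoc _ _ _).trans ((congrArg _ (biprod.lift_snd _ _)).trans ?_)).trans (Category.id_comp _).symm)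
      · exact Pi.lift_π _ _
      · exact Pi.lift_π _ _
    · apply Limits.Pi.hom_ext
      intro j
      refine (Category.assoc _ _ _).trans ((congrArg _ (Pi.lift_π _ j)).trans ((?_ : _ = _).trans (Category.id_comp _).symm))
      rcases j with _ | _
      · exact biprod.lift_fst _ _
      · exact biprod.lift_snd _ _
  have e2 : IsIso φ.hom₂ := by
    refine ⟨biprod.lift (Pi.π (fun j => (F j).obj₂) .left) (Pi.π (fun j => (F j).obj₂) .right), ?_, ?_⟩
    · refine biprod.hom_ext _ _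
        (((Category.assoc _ _ _).trans ((congrArg _ (biprod.lift_fst _ _)).trans ?_)).trans (Category.id_comp _).symm)
        (((Category.assoc _ _ _).trans ((congrArg _ (biprod.lift_snd _ _)).trans ?_)).trans (Category.id_comp _).symm)
      · exact Pi.lift_π _ _
      · exact Pi.lift_π _ _
    · apply Limits.Pi.hom_ext
      intro j
      refine (Category.assoc _ _ _).trans ((congrArg _ (Pi.lift_π _ j)).trans ((?_ : _ = _).trans (Category.id_comp _).symm))
      rcases j with _ | _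
      · exact biprod.lift_fst _ _
      · exact biprod.lift_snd _ _
  have e3 : IsIso φ.hom₃ := by
    refine ⟨biprod.lift (Pi.π (fun j => (F j).obj₃) .left) (Pi.π (fun j => (F j).obj₃) .right), ?_, ?_⟩
    · refine biprod.hom_ext _ _
        (((Category.assoc _ _ _).trans ((congrArg _ (biprod.lift_fst _ _)).trans ?_)).trans (Category.id_comp _).symm)
        (((Category.assoc _ _ _).trans ((congrArg _ (biprod.lift_snd _ _)).trans ?_)).trans (Category.id_comp _).symm)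
      · exact Pi.lift_π _ _
      · exact Pi.lift_π _ _
    · apply Limits.Pi.hom_ext
      intro j
      refine (Category.assoc _ _ _).trans ((congrArg _ (Pi.lift_π _ j)).trans ((?_ : _ = _).trans (Category.id_comp _).symm))
      rcases j with _ | _
      · exact biprod.lift_fst _ _
      · exact biprod.lift_snd _ _
  have : IsIso φ := Triangle.isIso_of_isIsos _ e1 e2 e3
  exact isomorphic_distinguished _
    (productTriangle_distinguished F (by rintro (_ | _) <;> assumption)) _ (asIso φ)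

noncomputable def biMap {T T' U U' : Triangle D} (φ : T ⟶ U) (ψ : T' ⟶ U') : biTri T T' ⟶ biTri U U' where
  hom₁ := biprod.map φ.hom₁ ψ.hom₁
  hom₂ := biprod.map φ.hom₂ ψ.hom₂
  hom₃ := biprod.map φ.hom₃ ψ.hom₃
  comm₁ := by
    change biprod.map T.mor₁ T'.mor₁ ≫ biprod.map φ.hom₂ ψ.hom₂ =
      biprod.map φ.hom₁ ψ.hom₁ ≫ biprod.map U.mor₁ U'.mor₁
    ext <;> simp [φ.comm₁, ψ.comm₁]
  comm₂ := by
    change biprod.map T.mor₂ T'.mor₂ ≫ biprod.map φ.hom₃ ψ.hom₃ =
      biprod.map φ.hom₂ ψ.hom₂ ≫ biprod.map U.mor₂ U'.mor₂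
    ext <;> simp [φ.comm₂, ψ.comm₂]
  comm₃ := by
    change biprod.desc _ _ ≫ (shiftFunctor D (1 : ℤ)).map (biprod.map φ.hom₁ ψ.hom₁) =
      biprod.map φ.hom₃ ψ.hom₃ ≫ biprod.desc _ _
    apply biprod.hom_ext'
    · simp [← Functor.map_comp, ← φ.comm₃_assoc]
    · simp [← Functor.map_comp, ← ψ.comm₃_assoc]

theorem mem_left (T T' : Triangle D) (h : biTri T T' ∈ distinguishedTriangles) :
    T ∈ distinguishedTriangles := by
  obtain ⟨Z, g, k, hZ⟩ := distinguished_cocone_triangle T.mor₁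
  obtain ⟨c, hc1, hc2⟩ := complete_distinguished_triangle_morphism _ _ hZ h
    biprod.inl biprod.inl (biprod.inl_map T.mor₁ T'.mor₁).symm
  obtain ⟨d, hd1, hd2⟩ := complete_distinguished_triangle_morphism _ _ h hZ
    biprod.fst biprod.fst (biprod.map_fst T.mor₁ T'.mor₁)
  let φ : Triangle.mk T.mor₁ g k ⟶ T :=
    ({ hom₁ := biprod.inl, hom₂ := biprod.inl, hom₃ := c
       comm₁ := (biprod.inl_map _ _).symm, comm₂ := hc1, comm₃ := hc2 } :
      Triangle.mk T.mor₁ g k ⟶ biTri T T') ≫ biFst T T'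
  let ψ : T ⟶ Triangle.mk T.mor₁ g k :=
    biInl T T' ≫ ({ hom₁ := biprod.fst, hom₂ := biprod.fst, hom₃ := d
                    comm₁ := biprod.map_fst _ _, comm₂ := hd1, comm₃ := hd2 } :
      biTri T T' ⟶ Triangle.mk T.mor₁ g k)
  have hφ1 : φ.hom₁ = 𝟙 _ := biprod.inl_fst
  have hφ2 : φ.hom₂ = 𝟙 _ := biprod.inl_fst
  have hψ1 : ψ.hom₁ = 𝟙 _ := biprod.inl_fst
  have hψ2 : ψ.hom₂ = 𝟙 _ := biprod.inl_fst
  have a : IsIso (φ ≫ ψ).hom₃ :=
    isIso₃_of_isIso₁₂ (φ ≫ ψ) hZ hZ (by rw [comp_hom₁, hφ1, hψ1]; exact inferInstanceAs (IsIso (𝟙 T.obj₁ ≫ 𝟙 T.obj₁)))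
      (by rw [comp_hom₂, hφ2, hψ2]; exact inferInstanceAs (IsIso (𝟙 T.obj₂ ≫ 𝟙 T.obj₂)))
  have hi1 : (biMap (ψ ≫ φ) (𝟙 T')).hom₁ = 𝟙 _ := by
    change biprod.map (ψ.hom₁ ≫ φ.hom₁) (𝟙 T'.obj₁) = 𝟙 (T.obj₁ ⊞ T'.obj₁)
    rw [show ψ.hom₁ ≫ φ.hom₁ = 𝟙 T.obj₁ by rw [hψ1, hφ1]; exact Category.id_comp _]
    ext <;> simp
  have hi2 : (biMap (ψ ≫ φ) (𝟙 T')).hom₂ = 𝟙 _ := by
    change biprod.map (ψ.hom₂ ≫ φ.hom₂) (𝟙 T'.obj₂) = 𝟙 (T.obj₂ ⊞ T'.obj₂)
    rw [show ψ.hom₂ ≫ φ.hom₂ = 𝟙 T.obj₂ by rw [hψ2, hφ2]; exact Category.id_comp _]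
    ext <;> simp
  obtain ⟨i, hi3, hi4⟩ : IsIso (biprod.map (ψ.hom₃ ≫ φ.hom₃) (𝟙 T'.obj₃)) :=
    isIso₃_of_isIso₁₂ (biMap (ψ ≫ φ) (𝟙 T')) h h (by rw [hi1]; infer_instance) (by rw [hi2]; infer_instance)
  have b : IsIso (ψ.hom₃ ≫ φ.hom₃) := by
    refine ⟨biprod.inl ≫ i ≫ biprod.fst, ?_, ?_⟩
    · rw [← biprod.inl_map_assoc (g := 𝟙 T'.obj₃), reassoc_of% hi3, biprod.inl_fst]
    · rw [Category.assoc, Category.assoc, ← biprod.map_fst (g := 𝟙 T'.obj₃), reassoc_of% hi4, biprod.inl_fst]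
  have : IsIso φ.hom₃ := by
    have a' : IsIso (φ.hom₃ ≫ ψ.hom₃) := a
    have r : φ.hom₃ ≫ (ψ.hom₃ ≫ inv (φ.hom₃ ≫ ψ.hom₃)) = 𝟙 _ := by rw [← Category.assoc, IsIso.hom_inv_id]
    have l : (inv (ψ.hom₃ ≫ φ.hom₃) ≫ ψ.hom₃) ≫ φ.hom₃ = 𝟙 _ := by rw [Category.assoc, IsIso.inv_hom_id]
    refine ⟨_, r, ?_⟩
    rw [show ψ.hom₃ ≫ inv (φ.hom₃ ≫ ψ.hom₃) = inv (ψ.hom₃ ≫ φ.hom₃) ≫ ψ.hom₃ by
      rw [← Category.comp_id (inv (ψ.hom₃ ≫ φ.hom₃) ≫ ψ.hom₃), ← r, ← Category.assoc _ φ.hom₃, l, Category.id_comp]]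
    exact l
  have : IsIso φ := Triangle.isIso_of_isIsos _ (by rw [hφ1]; exact inferInstanceAs (IsIso (𝟙 T.obj₁))) (by rw [hφ2]; exact inferInstanceAs (IsIso (𝟙 T.obj₂))) this
  exact isomorphic_distinguished _ hZ _ (asIso φ).symm

noncomputable def biSwap (T T' : Triangle D) : biTri T' T ≅ biTri T T' :=
  Triangle.isoMk _ _ (biprod.braiding _ _) (biprod.braiding _ _) (biprod.braiding _ _)
    (show biprod.map T'.mor₁ T.mor₁ ≫ (biprod.braiding _ _).hom = (biprod.braiding _ _).hom ≫ biprod.map T.mor₁ T'.mor₁ by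
      ext <;> simp)
    (show biprod.map T'.mor₂ T.mor₂ ≫ (biprod.braiding _ _).hom = (biprod.braiding _ _).hom ≫ biprod.map T.mor₂ T'.mor₂ by
      ext <;> simp)
    (show biprod.desc _ _ ≫ (shiftFunctor D (1 : ℤ)).map (biprod.braiding T'.obj₁ T.obj₁).hom =
        (biprod.braiding _ _).hom ≫ biprod.desc _ _ by
      apply biprod.hom_ext' <;> simp [← Functor.map_comp]
      all_goals (congr 2; ext <;> simp))


open CategoryTheory.Pretriangulated in
/-- Let T = (X, Y, Z, f, g, h) and T' = (X', Y', Z', f', g', h') be triangles in a pretriangulated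
category. The direct sum triangle (X ⊞ X', Y ⊞ Y', Z ⊞ Z', f ⊕ f', g ⊕ g', h ⊕ h') (whose third map
Z ⊞ Z' ⟶ (X ⊞ X')⟦1⟧ has components h ≫ inl⟦1⟧ and h' ≫ inr⟦1⟧) is distinguished if and only if T
and T' are both distinguished. -/
theorem result {D : Type u} [Category.{v} D] [Preadditive D] [HasZeroObject D] [HasShift D ℤ]
    [∀ n : ℤ, (shiftFunctor D n).Additive] [Pretriangulated D]
    (T T' : Triangle D) :
    Triangle.mk (biprod.map T.mor₁ T'.mor₁) (biprod.map T.mor₂ T'.mor₂)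
        (biprod.desc (T.mor₃ ≫ (shiftFunctor D (1 : ℤ)).map biprod.inl) (T'.mor₃ ≫ (shiftFunctor D (1 : ℤ)).map biprod.inr)) ∈ distinguishedTriangles ↔
      (T ∈ distinguishedTriangles ∧ T' ∈ distinguishedTriangles) := by
  exact ⟨fun h => ⟨mem_left T T' h, mem_left T' T (isomorphic_distinguished _ h _ (biSwap T T'))⟩,
    fun h => biTri_mem T T' h.1 h.2⟩


end Groth.Agent.S6581
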