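import Groth.Statements.S6582

set_option autoImplicit false
universe v u v' u'
open CategoryTheory CategoryTheory.Limits
open CohDer

open ZeroObject

namespace Groth.Agent.S6582


open CategoryTheory.Pretriangulated in
/-- Let F : D ⥤ D' be an exact functor of pretriangulated categories. The full subcategory of D on the
objects X with F(X) ≅ 0 is a strictly full pretriangulated subcategory (it contains a zero object,
is stable under shifts and isomorphisms and is closed under extensions) and it is saturated:
whenever X ⊞ Y belongs to it, so do X and Y. -/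
theorem result {D : Type u} [Category.{v} D] [Preadditive D] [HasZeroObject D] [HasShift D ℤ]
    [∀ n : ℤ, (shiftFunctor D n).Additive] [Pretriangulated D]
    {D' : Type u'} [Category.{v'} D'] [Preadditive D'] [HasZeroObject D'] [HasShift D' ℤ]
    [∀ n : ℤ, (shiftFunctor D' n).Additive] [Pretriangulated D']
    (F : D ⥤ D') [F.Additive] [F.CommShift ℤ] [F.IsTriangulated] :
    (ObjectProperty.IsTriangulated (fun X : D => IsZero (F.obj X))) ∧
    (ObjectProperty.IsClosedUnderIsomorphisms (fun X : D => IsZero (F.obj X))) ∧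
    (∀ X Y : D, IsZero (F.obj (X ⊞ Y)) → IsZero (F.obj X) ∧ IsZero (F.obj Y)) := by
  have hI : ObjectProperty.IsClosedUnderIsomorphisms (fun X : D => IsZero (F.obj X)) :=
    ⟨fun e h => IsZero.of_iso h (F.mapIso e).symm⟩
  refine ⟨?_, hI, fun X Y h => ⟨?_, ?_⟩⟩
  · exact
    { exists_zero := ⟨0, isZero_zero D, F.map_isZero (isZero_zero D)⟩
      isStableUnderShiftBy := fun n => ⟨fun X hX => by
        have hX' : IsZero (F.obj X) := hX
        exact IsZero.of_iso (Functor.map_isZero _ hX') ((F.commShiftIso n).app X)⟩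
      ext₂' := fun T hT h1 h3 => ObjectProperty.le_isoClosure _ _
        (Triangle.isZero₂_of_isZero₁₃ _ (F.map_distinguished T hT) h1 h3) }
  · have e : F.map (biprod.inl : X ⟶ X ⊞ Y) ≫ F.map biprod.fst = 𝟙 _ := by
      rw [← F.map_comp, biprod.inl_fst, F.map_id]
    rw [IsZero.iff_id_eq_zero, ← e, h.eq_of_tgt (F.map biprod.inl) 0, zero_comp]
  · have e : F.map (biprod.inr : Y ⟶ X ⊞ Y) ≫ F.map biprod.snd = 𝟙 _ := by
      rw [← F.map_comp, biprod.inr_snd, F.map_id]
    rw [IsZero.iff_id_eq_zero, ← e, h.eq_of_tgt (F.map biprod.inr) 0, zero_comp]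


end Groth.Agent.S6582
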