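import Groth.Statements.S6584
import Mathlib.CategoryTheory.Triangulated.HomologicalFunctor

set_option autoImplicit false
universe v u v' u'
open CategoryTheory CategoryTheory.Limits
open CohDer

open ZeroObject

namespace Groth.Agent.S6584


open CategoryTheory.Pretriangulated in
/-- Let H : D ⥤ A be a homological functor from a pretriangulated category to an abelian category. The
full subcategory of D on the objects X with H(X⟦n⟧) = 0 for all n ≫ 0 is a strictly full
pretriangulated subcategory (zero object, stable under shifts and isomorphisms, closed under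
extensions) and is saturated: if X ⊞ Y belongs to it then so do X and Y. -/
theorem result {D : Type u} [Category.{v} D] [Preadditive D] [HasZeroObject D] [HasShift D ℤ]
    [∀ n : ℤ, (shiftFunctor D n).Additive] [Pretriangulated D]
    {A : Type u'} [Category.{v'} A] [Abelian A] (H : D ⥤ A) [H.IsHomological] :
    (ObjectProperty.IsTriangulated (fun X : D => ∃ N : ℤ, ∀ n : ℤ, N ≤ n → IsZero (H.obj ((shiftFunctor D n).obj X)))) ∧
    (ObjectProperty.IsClosedUnderIsomorphisms (fun X : D => ∃ N : ℤ, ∀ n : ℤ, N ≤ n → IsZero (H.obj ((shiftFunctor D n).obj X)))) ∧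
    (∀ X Y : D, (∃ N : ℤ, ∀ n : ℤ, N ≤ n → IsZero (H.obj ((shiftFunctor D n).obj (X ⊞ Y)))) →
      (∃ N : ℤ, ∀ n : ℤ, N ≤ n → IsZero (H.obj ((shiftFunctor D n).obj X))) ∧
      (∃ N : ℤ, ∀ n : ℤ, N ≤ n → IsZero (H.obj ((shiftFunctor D n).obj Y)))) := by
  let P : ObjectProperty D := fun X : D => ∃ N : ℤ, ∀ n : ℤ, N ≤ n → IsZero (H.obj ((shiftFunctor D n).obj X))
  have hI : P.IsClosedUnderIsomorphisms :=
    ⟨fun e ⟨N, hN⟩ => ⟨N, fun n hn => IsZero.of_iso (hN n hn) (H.mapIso ((shiftFunctor D n).mapIso e)).symm⟩⟩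
  refine ⟨?_, hI, fun X Y ⟨N, hN⟩ => ⟨⟨N, fun n hn => ?_⟩, ⟨N, fun n hn => ?_⟩⟩⟩
  · exact
    { exists_zero := ⟨0, isZero_zero D, 0, fun n _ => H.map_isZero ((shiftFunctor D n).map_isZero (isZero_zero D))⟩
      isStableUnderShiftBy := fun k => ⟨fun X ⟨N, hN⟩ => ⟨N - k, fun n hn =>
        IsZero.of_iso (hN (k + n) (by lia)) (H.mapIso ((shiftFunctorAdd' D k n (k + n) rfl).app X).symm)⟩⟩
      ext₂' := fun T hT ⟨N, hN⟩ ⟨M, hM⟩ => ObjectProperty.le_isoClosure _ _ ⟨max N M, fun n hn => by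
        have hT' := Triangle.shift_distinguished _ hT n
        exact (H.map_distinguished_exact _ hT').isZero_X₂
          ((hN n (hn.trans' (le_max_left N M))).eq_of_src _ _) ((hM n (hn.trans' (le_max_right N M))).eq_of_tgt _ _)⟩ }
  · have e : H.map ((biprod.inl : X ⟶ X ⊞ Y)⟦n⟧') ≫ H.map ((biprod.fst : X ⊞ Y ⟶ X)⟦n⟧') = 𝟙 _ := by
      rw [← H.map_comp, ← Functor.map_comp, biprod.inl_fst, CategoryTheory.Functor.map_id, H.map_id]
    rw [IsZero.iff_id_eq_zero, ← e, (hN n hn).eq_of_tgt (H.map _) 0, zero_comp]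
  · have e : H.map ((biprod.inr : Y ⟶ X ⊞ Y)⟦n⟧') ≫ H.map ((biprod.snd : X ⊞ Y ⟶ Y)⟦n⟧') = 𝟙 _ := by
      rw [← H.map_comp, ← Functor.map_comp, biprod.inr_snd, CategoryTheory.Functor.map_id, H.map_id]
    rw [IsZero.iff_id_eq_zero, ← e, (hN n hn).eq_of_tgt (H.map _) 0, zero_comp]


end Groth.Agent.S6584
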