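import Groth.Statements.S6585
import Mathlib.CategoryTheory.Triangulated.Orthogonal
import Mathlib.CategoryTheory.Triangulated.Generators

set_option autoImplicit false
universe v u
open CategoryTheory CategoryTheory.Limits
open CohDer

namespace Groth.Agent.S6585


open CategoryTheory.Pretriangulated in
/-- Let D be a triangulated category and E, K objects of D. Then Hom(E, K⟦i⟧) = 0 for all integers i if
and only if Hom(E', K) = 0 for every E' in ⟨E⟩, the smallest strictly full saturated triangulated
subcategory of D containing E (the objects obtained from E by shifts, finite direct sums, direct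
summands and extensions). -/
theorem result {D : Type u} [Category.{v} D] [Preadditive D] [HasZeroObject D] [HasShift D ℤ]
    [∀ n : ℤ, (shiftFunctor D n).Additive] [Pretriangulated D] [IsTriangulated D]
    (E K : D) :
    (∀ (i : ℤ) (f : E ⟶ (shiftFunctor D i).obj K), f = 0) ↔
      ∀ (E' : D), (ObjectProperty.singleton E).triangEnvelope E' → ∀ f : E' ⟶ K, f = 0 := by
  constructor
  · intro h E' hE' f
    let P : ObjectProperty D := fun Y => ∃ i : ℤ, Nonempty (Y ≅ (shiftFunctor D i).obj K)
    have : P.IsStableUnderShift ℤ := ⟨fun a => ⟨fun Y ⟨i, ⟨e⟩⟩ =>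
      ⟨i + a, ⟨(shiftFunctor D a).mapIso e ≪≫ ((shiftFunctorAdd D i a).app K).symm⟩⟩⟩⟩
    have : P.leftOrthogonal.IsStableUnderRetracts := ⟨fun {X Y} r hY Z g hZ => by
      rw [← Category.id_comp g, ← r.retract, Category.assoc, hY (r.r ≫ g) hZ, comp_zero]⟩
    have hle : (ObjectProperty.singleton E).triangEnvelope ≤ P.leftOrthogonal := by
      rw [ObjectProperty.triangEnvelope_le_iff, ObjectProperty.singleton_le_iff]
      rintro Y g ⟨i, ⟨e⟩⟩
      rw [← cancel_mono e.hom, zero_comp]
      exact h i _
    have hKP : P K := ⟨0, ⟨((shiftFunctorZero D ℤ).app K).symm⟩⟩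
    exact hle E' hE' f hKP
  · intro h i f
    have hE : (ObjectProperty.singleton E).triangEnvelope E :=
      ObjectProperty.le_triangEnvelope _ E (by simp)
    have hs : (ObjectProperty.singleton E).triangEnvelope ((shiftEquiv D i).inverse.obj E) :=
      (ObjectProperty.singleton E).triangEnvelope.le_shift (-i) _ hE
    apply ((shiftEquiv D i).symm.toAdjunction.homEquiv E K).symm.injective
    exact (h _ hs _).trans (h _ hs _).symm


end Groth.Agent.S6585
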