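import Groth.Statements.S6593

set_option autoImplicit false
universe w v u
open CategoryTheory CategoryTheory.Limits
open CohDer

namespace Groth.Agent.S6593

open CategoryTheory.Pretriangulated

theorem shift_desc {D : Type u} [Category.{v} D] [HasShift D ℤ] {J : Type w} (X : J → D)
    [HasCoproduct X] {A : D} (b : ∀ j, (shiftFunctor D (1 : ℤ)).obj (X j) ⟶ A) :
    ∃ c : (shiftFunctor D (1 : ℤ)).obj (∐ X) ⟶ A,
      ∀ j, (shiftFunctor D (1 : ℤ)).map (Sigma.ι X j) ≫ c = b j :=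
  let h := isColimitCofanMkObjOfIsColimit (shiftFunctor D (1 : ℤ)) _ _ (coproductIsCoproduct X)
  ⟨Cofan.IsColimit.desc h b, fun j => Cofan.IsColimit.fac h b j⟩

theorem shift_hom_ext {D : Type u} [Category.{v} D] [HasShift D ℤ] {J : Type w} (X : J → D)
    [HasCoproduct X] {A : D} {b c : (shiftFunctor D (1 : ℤ)).obj (∐ X) ⟶ A}
    (h : ∀ j, (shiftFunctor D (1 : ℤ)).map (Sigma.ι X j) ≫ b =
      (shiftFunctor D (1 : ℤ)).map (Sigma.ι X j) ≫ c) : b = c :=
  Cofan.IsColimit.hom_ext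
    (isColimitCofanMkObjOfIsColimit (shiftFunctor D (1 : ℤ)) _ _ (coproductIsCoproduct X)) b c h


open CategoryTheory.Pretriangulated in
/-- Let D be a pretriangulated category and (X_i → Y_i → Z_i → X_i⟦1⟧)_{i ∈ I} a family of distinguished
triangles. If the direct sums ⨁ X_i, ⨁ Y_i, ⨁ Z_i exist, then ⨁ X_i → ⨁ Y_i → ⨁ Z_i → (⨁ X_i)⟦1⟧ is
a distinguished triangle (the last map is induced by the composites Z_i → X_i⟦1⟧ → (⨁ X_i)⟦1⟧). -/
theorem result {D : Type u} [Category.{v} D] [Preadditive D] [HasZeroObject D] [HasShift D ℤ]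
    [∀ n : ℤ, (shiftFunctor D n).Additive] [Pretriangulated D]
    {J : Type w} (T : J → Triangle D) (hT : ∀ j, T j ∈ distinguishedTriangles)
    [HasCoproduct (fun j => (T j).obj₁)] [HasCoproduct (fun j => (T j).obj₂)] [HasCoproduct (fun j => (T j).obj₃)] :
    Triangle.mk (Limits.Sigma.map (fun j => (T j).mor₁)) (Limits.Sigma.map (fun j => (T j).mor₂))
      (Sigma.desc (fun j => (T j).mor₃ ≫ (shiftFunctor D (1 : ℤ)).map (Sigma.ι (fun j => (T j).obj₁) j))) ∈ distinguishedTriangles := by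
  let X := fun j => (T j).obj₁
  let Y := fun j => (T j).obj₂
  let Z := fun j => (T j).obj₃
  let f₁ := Limits.Sigma.map (fun j => (T j).mor₁)
  obtain ⟨W, f₂, f₃, hW⟩ := distinguished_cocone_triangle f₁
  have hc : ∀ j, ∃ g : (T j).obj₃ ⟶ W, (T j).mor₂ ≫ g = Sigma.ι Y j ≫ f₂ ∧
      (T j).mor₃ ≫ (shiftFunctor D (1 : ℤ)).map (Sigma.ι X j) = g ≫ f₃ := fun j =>
    complete_distinguished_triangle_morphism (T j) (Triangle.mk f₁ f₂ f₃) (hT j) hW
      (Sigma.ι X j) (Sigma.ι Y j) (Limits.Sigma.ι_map (fun j => (T j).mor₁) j).symm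
  choose g hg₂ hg₃ using hc
  have yex₂ : ∀ {A : D} (y : (∐ Y) ⟶ A), f₁ ≫ y = 0 → ∃ a : W ⟶ A, y = f₂ ≫ a := fun y hy =>
    Triangle.yoneda_exact₂ _ hW y hy
  have yex₃ : ∀ {A : D} (a : W ⟶ A), f₂ ≫ a = 0 →
      ∃ b : (shiftFunctor D (1 : ℤ)).obj (∐ X) ⟶ A, a = f₃ ≫ b := fun a ha =>
    Triangle.yoneda_exact₃ _ hW a ha
  have hf₃₁ : f₃ ≫ (shiftFunctor D (1 : ℤ)).map f₁ = 0 := comp_distTriang_mor_zero₃₁ _ hW
  let φ₃ : (∐ Z) ⟶ W := Sigma.desc g
  have hiso : IsIso φ₃ := by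
    refine isIso_of_coyoneda_map_bijective _ fun A => ⟨?_, fun z => ?_⟩
    · intro a a' haa'
      rw [← sub_eq_zero]
      have ha : φ₃ ≫ (a - a') = 0 := by
        rw [Preadditive.comp_sub, sub_eq_zero]; exact haa'
      have hga : ∀ j, g j ≫ (a - a') = 0 := fun j => by
        have := Sigma.ι Z j ≫= ha
        rwa [comp_zero, Sigma.ι_desc_assoc] at this
      have h2 : f₂ ≫ (a - a') = 0 := Sigma.hom_ext _ _ fun j => by
        rw [comp_zero, ← Category.assoc, ← hg₂, Category.assoc, hga, comp_zero]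
      obtain ⟨b, hb⟩ := yex₃ _ h2
      have hj : ∀ j, ∃ c : (shiftFunctor D (1 : ℤ)).obj (Y j) ⟶ A,
          (shiftFunctor D (1 : ℤ)).map (Sigma.ι X j) ≫ b = (shiftFunctor D (1 : ℤ)).map (T j).mor₁ ≫ c := by
        intro j
        obtain ⟨c, hc⟩ := Triangle.yoneda_exact₃ (T j).rotate (rot_of_distTriang _ (hT j))
          ((shiftFunctor D (1 : ℤ)).map (Sigma.ι X j) ≫ b) (by
            change (T j).mor₃ ≫ _ = 0
            exact (Category.assoc _ _ _).symm.trans ((congrArg (· ≫ b) (hg₃ j)).trans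
              ((Category.assoc _ _ _).trans ((congrArg (g j ≫ ·) hb.symm).trans (hga j)))))
        exact ⟨-c, hc.trans ((Preadditive.neg_comp _ _).trans (Preadditive.comp_neg _ _).symm)⟩
      choose c hc using hj
      obtain ⟨C, hC⟩ := shift_desc Y c
      have hb' : b = (shiftFunctor D (1 : ℤ)).map f₁ ≫ C := shift_hom_ext X fun j => by
        rw [hc j, ← Category.assoc, ← Functor.map_comp,
          show Sigma.ι X j ≫ f₁ = (T j).mor₁ ≫ Sigma.ι Y j from Limits.Sigma.ι_map _ j, Functor.map_comp,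
          Category.assoc, hC]
      rw [hb, hb', ← Category.assoc, hf₃₁, zero_comp]
    · obtain ⟨a₀, ha₀⟩ := yex₂ (Sigma.desc fun j => (T j).mor₂ ≫ Sigma.ι Z j ≫ z)
        (Sigma.hom_ext _ _ fun j => by
          simp [f₁, Y, Z, comp_distTriang_mor_zero₁₂_assoc (T j) (hT j)])
      have hj : ∀ j, ∃ b : (shiftFunctor D (1 : ℤ)).obj (X j) ⟶ A,
          Sigma.ι Z j ≫ z - g j ≫ a₀ = (T j).mor₃ ≫ b := fun j =>
        Triangle.yoneda_exact₃ _ (hT j) _ (by
          rw [Preadditive.comp_sub, ← Category.assoc _ (g j), hg₂, Category.assoc, ← ha₀,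
            Sigma.ι_desc, sub_self])
      choose b hb using hj
      obtain ⟨B, hB⟩ := shift_desc X b
      refine ⟨a₀ + f₃ ≫ B, Sigma.hom_ext _ _ fun j => ?_⟩
      show Sigma.ι Z j ≫ φ₃ ≫ (a₀ + f₃ ≫ B) = _
      rw [Sigma.ι_desc_assoc, Preadditive.comp_add, ← Category.assoc, ← hg₃, Category.assoc, hB, ← hb]
      abel
  refine isomorphic_distinguished _ hW _ (Triangle.isoMk _ _ (Iso.refl _) (Iso.refl _) (@asIso D _ _ _ φ₃ hiso) ?_ ?_ ?_)
  · exact (Category.comp_id _).trans (Category.id_comp _).symm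
  · refine Sigma.hom_ext (f := fun j => (T j).obj₂) _ _ fun j => ?_
    show Sigma.ι Y j ≫ (Limits.Sigma.map fun j => (T j).mor₂) ≫ Sigma.desc g = Sigma.ι Y j ≫ 𝟙 (∐ Y) ≫ f₂
    rw [Category.id_comp, ← Category.assoc, Limits.Sigma.ι_map, Category.assoc, Sigma.ι_desc, hg₂]
  · refine Sigma.hom_ext (f := fun j => (T j).obj₃) _ _ fun j => ?_
    show Sigma.ι Z j ≫ (Sigma.desc fun j => (T j).mor₃ ≫ (shiftFunctor D (1 : ℤ)).map (Sigma.ι X j)) ≫
      (shiftFunctor D (1 : ℤ)).map (𝟙 (∐ X)) = Sigma.ι Z j ≫ Sigma.desc g ≫ f₃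
    rw [CategoryTheory.Functor.map_id, Category.comp_id, Sigma.ι_desc, Sigma.ι_desc_assoc, hg₃]


end Groth.Agent.S6593
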