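import Groth.Statements.S6594

set_option autoImplicit false
universe v u
open CategoryTheory CategoryTheory.Limits
open CohDer

namespace Groth.Agent.S6594

open CategoryTheory.Pretriangulated


open CategoryTheory.Pretriangulated in
/-- (1) ⇔ (3): let D be a pretriangulated category and f : X ⟶ Y a morphism. Then f has a kernel if and
only if f is isomorphic to a composite K ⊞ Z → Z → Z ⊞ Q of a projection and a coprojection for some
objects K, Z, Q. -/
theorem result {D : Type u} [Category.{v} D] [Preadditive D] [HasZeroObject D] [HasShift D ℤ]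
    [∀ n : ℤ, (shiftFunctor D n).Additive] [Pretriangulated D]
    {X Y : D} (f : X ⟶ Y) :
    HasKernel f ↔ ∃ (K Z Q : D) (e₁ : X ≅ K ⊞ Z) (e₂ : Y ≅ Z ⊞ Q),
      f = e₁.hom ≫ biprod.snd ≫ biprod.inl ≫ e₂.inv := by
  constructor
  · intro _
    obtain ⟨Z, p, h, hT⟩ := distinguished_cocone_triangle (kernel.ι f)
    let T := Triangle.mk (kernel.ι f) p h
    have h0 : T.mor₃ = 0 := T.mor₃_eq_zero_of_mono₁ hT (inferInstanceAs (Mono (kernel.ι f)))
    obtain ⟨e₁, he₁, he₁'⟩ := exists_iso_binaryBiproduct_of_distTriang T hT h0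
    obtain ⟨g, hg⟩ : ∃ g : Z ⟶ Y, f = p ≫ g := T.yoneda_exact₂ hT f (kernel.condition f)
    have : Mono g := by
      rw [Preadditive.mono_iff_cancel_zero]
      intro W t ht
      let s : Z ⟶ X := biprod.inr ≫ e₁.inv
      have hs : s ≫ p = 𝟙 Z := by
        change (biprod.inr ≫ e₁.inv) ≫ T.mor₂ = 𝟙 Z
        rw [he₁', Category.assoc, Iso.inv_hom_id_assoc, biprod.inr_snd]
        rfl
      obtain ⟨l, hl⟩ : ∃ l : W ⟶ kernel f, l ≫ kernel.ι f = t ≫ s :=
        ⟨kernel.lift f (t ≫ s) (by rw [hg, Category.assoc, reassoc_of% hs, ht]),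
          kernel.lift_ι _ _ _⟩
      have hkp : kernel.ι f ≫ p = 0 := comp_distTriang_mor_zero₁₂ T hT
      calc t = (t ≫ s) ≫ p := by rw [Category.assoc, hs, Category.comp_id]
        _ = 0 := by rw [← hl, Category.assoc, hkp, comp_zero]
    obtain ⟨Q, r, h', hT'⟩ := distinguished_cocone_triangle g
    let T' := Triangle.mk g r h'
    have h0' : T'.mor₃ = 0 := T'.mor₃_eq_zero_of_mono₁ hT' this
    obtain ⟨e₂, he₂, -⟩ := exists_iso_binaryBiproduct_of_distTriang T' hT' h0'
    refine ⟨kernel f, Z, Q, e₁, e₂, ?_⟩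
    have h1 : p = e₁.hom ≫ biprod.snd := he₁'
    have h2 : g = biprod.inl ≫ e₂.inv := (Iso.eq_comp_inv e₂).2 he₂
    exact hg.trans (by rw [h1, h2]; exact Category.assoc _ _ _)
  · rintro ⟨K, Z, Q, e₁, e₂, rfl⟩
    refine ⟨⟨⟨KernelFork.ofι (biprod.inl ≫ e₁.inv) (by simp), ?_⟩⟩⟩
    refine KernelFork.IsLimit.ofι _ _ (fun {W} g _ => g ≫ e₁.hom ≫ biprod.fst) (fun {W} g hg => ?_)
      (fun {W} g hg m hm => by rw [← hm]; simp)
    have h2 : g ≫ e₁.hom ≫ biprod.snd = 0 := by
      have := congrArg (fun k => k ≫ e₂.hom ≫ biprod.fst) hg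
      simpa using this
    rw [← cancel_mono e₁.hom]
    apply biprod.hom_ext <;> simp [h2]


end Groth.Agent.S6594
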