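import Groth.Statements.S6596
import Groth.Agent.Lib.Postnikov.System

set_option autoImplicit false
universe v u
open CategoryTheory CategoryTheory.Limits
open CohDer

namespace Groth.Agent.S6596


open CategoryTheory.Pretriangulated in
/-- Let D be a triangulated category and φ : X ⟶ X' a morphism of chain complexes in D considered in
degrees ≤ n, where a Postnikov system for the complex X_n → … → X_0 consists of objects Y_k, an
isomorphism Y_0 ⟶ X_0, and for 0 ≤ k < n distinguished triangles Y_{k+1} ⟶ X_{k+1} ⟶ Y_k ⟶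
Y_{k+1}⟦1⟧ with X_{k+1} ⟶ Y_k ⟶ X_k the differential. Suppose X and X' carry Postnikov systems (Y,
a, b, c) and (Y', a', b', c'). If Hom(X_i⟦i - j - 1⟧, X'_j) = 0 for all j + 1 < i ≤ n, then φ
extends to a morphism of Postnikov systems: morphisms y_k : Y_k ⟶ Y'_k for k ≤ n forming, with the
φ_k, morphisms of the distinguished triangles and compatible with Y_0 ⟶ X_0 and Y'_0 ⟶ X'_0. -/
theorem result {D : Type u} [Category.{v} D] [Preadditive D] [HasZeroObject D] [HasShift D ℤ]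
    [∀ n : ℤ, (shiftFunctor D n).Additive] [Pretriangulated D] [IsTriangulated D]
    (X X' : ChainComplex D ℕ) (φ : X ⟶ X') (n : ℕ)
    (Y : ℕ → D) (a : ∀ k, Y k ⟶ X.X k) (b : ∀ k, X.X (k + 1) ⟶ Y k)
    (c : ∀ k, Y k ⟶ (shiftFunctor D (1 : ℤ)).obj (Y (k + 1)))
    (h0 : IsIso (a 0))
    (hP : ∀ k, k < n → Triangle.mk (a (k + 1)) (b k) (c k) ∈ distinguishedTriangles ∧ b k ≫ a k = X.d (k + 1) k)
    (qY : ℕ → D) (qa : ∀ k, qY k ⟶ X'.X k) (qb : ∀ k, X'.X (k + 1) ⟶ qY k)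
    (qc : ∀ k, qY k ⟶ (shiftFunctor D (1 : ℤ)).obj (qY (k + 1)))
    (qh0 : IsIso (qa 0))
    (qhP : ∀ k, k < n → Triangle.mk (qa (k + 1)) (qb k) (qc k) ∈ distinguishedTriangles ∧ qb k ≫ qa k = X'.d (k + 1) k)
    (hX : ∀ i j : ℕ, j + 1 < i → i ≤ n → ∀ ψ : (shiftFunctor D ((i : ℤ) - j - 1)).obj (X.X i) ⟶ X'.X j, ψ = 0) :
    ∃ y : ∀ k, Y k ⟶ qY k,
      (∀ k, k ≤ n → y k ≫ qa k = a k ≫ φ.f k) ∧
      (∀ k, k < n → b k ≫ y k = φ.f (k + 1) ≫ qb k ∧ c k ≫ (shiftFunctor D (1 : ℤ)).map (y (k + 1)) = y k ≫ qc k) := by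
  classical
  have key : ∀ k, k < n → ∀ δ : X.X (k + 1) ⟶ qY k, δ ≫ qa k = 0 → δ = 0 := fun k hk δ hδ =>
    Postnikov.eq_zero_of_comp_a₀ qh0 (fun k hk => (qhP k hk).1) k hk.le _
      (fun i hi => (Postnikov.van_right (hX (k + 1) i (by omega) (by omega))).shift (by omega)) δ hδ
  have step : ∀ k (y : {y : Y k ⟶ qY k // k ≤ n → y ≫ qa k = a k ≫ φ.f k}),
      ∃ y' : {y : Y (k + 1) ⟶ qY (k + 1) // k + 1 ≤ n → y ≫ qa (k + 1) = a (k + 1) ≫ φ.f (k + 1)},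
        k < n → b k ≫ y.1 = φ.f (k + 1) ≫ qb k ∧
          c k ≫ (shiftFunctor D (1 : ℤ)).map y'.1 = y.1 ≫ qc k := by
    rintro k ⟨y, hy⟩
    by_cases hk : k < n
    · have hsq : b k ≫ y = φ.f (k + 1) ≫ qb k := by
        refine sub_eq_zero.1 (key k hk _ ?_)
        rw [Preadditive.sub_comp, Category.assoc, hy hk.le, Category.assoc, (qhP k hk).2,
          ← Category.assoc (b k), (hP k hk).2, φ.comm, sub_self]
      obtain ⟨y', h₁, h₂⟩ := complete_distinguished_triangle_morphism₁ _ _ (hP k hk).1 (qhP k hk).1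
        (φ.f (k + 1)) y hsq
      exact ⟨⟨y', fun _ => h₁.symm⟩, fun _ => ⟨hsq, h₂⟩⟩
    · exact ⟨⟨0, fun h => absurd h (by omega)⟩, fun h => absurd h hk⟩
  choose next hnext using step
  let y : ∀ k, {y : Y k ⟶ qY k // k ≤ n → y ≫ qa k = a k ≫ φ.f k} := fun k =>
    Nat.rec ⟨a 0 ≫ φ.f 0 ≫ inv (qa 0), fun _ => by simp⟩ (fun k t => next k t) k
  exact ⟨fun k => (y k).1, fun k hk => (y k).2 hk, fun k hk => hnext k (y k) hk⟩


end Groth.Agent.S6596
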