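import Groth.Statements.S6597
import Groth.Agent.Lib.Postnikov.System

set_option autoImplicit false
universe v u
open CategoryTheory CategoryTheory.Limits
open CohDer

namespace Groth.Agent.S6597


open CategoryTheory.Pretriangulated in
/-- Let D be a triangulated category, φ : X ⟶ X' a morphism of chain complexes in D considered in
degrees ≤ n, where a Postnikov system for the complex X_n → … → X_0 consists of objects Y_k, an
isomorphism Y_0 ⟶ X_0, and for 0 ≤ k < n distinguished triangles Y_{k+1} ⟶ X_{k+1} ⟶ Y_k ⟶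
Y_{k+1}⟦1⟧ with X_{k+1} ⟶ Y_k ⟶ X_k the differential; let (Y, a, b, c) and (Y', a', b', c') be
Postnikov systems for X and X'. If Hom(X_i⟦i⟧, Y'_n⟦n⟧) = 0 for i = 1, …, n, then two morphisms of
Postnikov systems extending φ agree on Y_n. (The published statement says there is at most one
morphism of Postnikov systems; the argument, by induction along Y_0 → Y_1⟦1⟧ → … → Y_n⟦n⟧,
determines the component in degree n, which is what is asserted here.) -/
theorem result {D : Type u} [Category.{v} D] [Preadditive D] [HasZeroObject D] [HasShift D ℤ]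
    [∀ n : ℤ, (shiftFunctor D n).Additive] [Pretriangulated D] [IsTriangulated D]
    (X X' : ChainComplex D ℕ) (φ : X ⟶ X') (n : ℕ)
    (Y : ℕ → D) (a : ∀ k, Y k ⟶ X.X k) (b : ∀ k, X.X (k + 1) ⟶ Y k)
    (c : ∀ k, Y k ⟶ (shiftFunctor D (1 : ℤ)).obj (Y (k + 1)))
    (h0 : IsIso (a 0))
    (hP : ∀ k, k < n → Triangle.mk (a (k + 1)) (b k) (c k) ∈ distinguishedTriangles ∧ b k ≫ a k = X.d (k + 1) k)
    (qY : ℕ → D) (qa : ∀ k, qY k ⟶ X'.X k) (qb : ∀ k, X'.X (k + 1) ⟶ qY k)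
    (qc : ∀ k, qY k ⟶ (shiftFunctor D (1 : ℤ)).obj (qY (k + 1)))
    (qh0 : IsIso (qa 0))
    (qhP : ∀ k, k < n → Triangle.mk (qa (k + 1)) (qb k) (qc k) ∈ distinguishedTriangles ∧ qb k ≫ qa k = X'.d (k + 1) k)
    (hv : ∀ i : ℕ, 1 ≤ i → i ≤ n → ∀ ψ : (shiftFunctor D (i : ℤ)).obj (X.X i) ⟶ (shiftFunctor D (n : ℤ)).obj (qY n), ψ = 0)
    (y z : ∀ k, Y k ⟶ qY k)
    (hy : (∀ k, k ≤ n → y k ≫ qa k = a k ≫ φ.f k) ∧
      (∀ k, k < n → b k ≫ y k = φ.f (k + 1) ≫ qb k ∧ c k ≫ (shiftFunctor D (1 : ℤ)).map (y (k + 1)) = y k ≫ qc k))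
    (hz : (∀ k, k ≤ n → z k ≫ qa k = a k ≫ φ.f k) ∧
      (∀ k, k < n → b k ≫ z k = φ.f (k + 1) ≫ qb k ∧ c k ≫ (shiftFunctor D (1 : ℤ)).map (z (k + 1)) = z k ≫ qc k)) :
    y n = z n := by
  suffices R : ∀ k, k ≤ n → ∀ t : qY k ⟶ (qY n)⟦((n : ℤ) - k)⟧, (y k - z k) ≫ t = 0 by
    have h := R n le_rfl ((shiftFunctorZero' D ((n : ℤ) - n) (by omega)).inv.app (qY n))
    rw [Preadditive.IsIso.comp_right_eq_zero] at h
    exact sub_eq_zero.1 h
  intro k
  induction k with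
  | zero =>
    intro _ t
    have : (y 0 - z 0) ≫ qa 0 = 0 := by
      rw [Preadditive.sub_comp, hy.1 0 (Nat.zero_le _), hz.1 0 (Nat.zero_le _), sub_self]
    rw [Preadditive.IsIso.comp_right_eq_zero] at this
    rw [this, zero_comp]
  | succ k ih =>
    intro hk t
    let u := (y (k + 1) - z (k + 1)) ≫ t
    let e := (shiftFunctorAdd' D ((n : ℤ) - (k + 1 : ℕ)) 1 ((n : ℤ) - k) (by omega)).app (qY n)
    have h1 : c k ≫ u⟦(1 : ℤ)⟧' = 0 := by
      rw [← cancel_mono e.inv, zero_comp, Functor.map_comp, Functor.map_sub, ← Category.assoc (c k),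
        Preadditive.comp_sub, (hy.2 k hk).2, (hz.2 k hk).2, ← Preadditive.sub_comp, Category.assoc,
        Category.assoc]
      exact ih (by omega) _
    obtain ⟨g, hg⟩ : ∃ g : (X.X (k + 1))⟦(1 : ℤ)⟧ ⟶ ((qY n)⟦((n : ℤ) - (k + 1 : ℕ))⟧)⟦(1 : ℤ)⟧,
        u⟦(1 : ℤ)⟧' = (-((a (k + 1))⟦(1 : ℤ)⟧')) ≫ g :=
      Triangle.yoneda_exact₃ _ (rot_of_distTriang _ (hP k (by omega)).1) _ h1
    obtain ⟨g', rfl⟩ := (shiftFunctor D (1 : ℤ)).map_surjective g
    have hg' : g' = 0 := ((Postnikov.Van.shift (A := X.X (k + 1)) (B := qY n) (a := ((k + 1 : ℕ) : ℤ)) (b := (n : ℤ))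
      (hv (k + 1) (by omega) hk) (a' := 0) (b' := (n : ℤ) - (k + 1 : ℕ)) (by omega))).left g'
    rw [hg', Functor.map_zero, comp_zero] at hg
    exact (shiftFunctor D (1 : ℤ)).map_injective (hg.trans (Functor.map_zero _ _ _).symm)


end Groth.Agent.S6597
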