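import Groth.Statements.S6598
import Mathlib.Algebra.Homology.HomologicalComplexBiprod
import Mathlib.Algebra.Homology.HomotopyCategory.Pretriangulated

set_option autoImplicit false
universe v u
open CategoryTheory CategoryTheory.Limits
open CohDer

namespace Groth.Agent.S6598
open CategoryTheory CategoryTheory.Limits



/-- Let α : K ⟶ L be a morphism of cochain complexes over an additive category. There is a factorization
K ⟶ L' ⟶ L of α such that (1) K ⟶ L' is a termwise split injection (in each degree isomorphic to the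
inclusion of a direct summand) and (2) L' ⟶ L admits a section s : L ⟶ L' (s followed by L' ⟶ L is
the identity) such that L' ⟶ L followed by s is homotopic to the identity of L'. Moreover if K and L
are both bounded below, resp. both bounded above, then L' may be chosen bounded below, resp. bounded
above. -/
theorem result {V : Type u} [Category.{v} V] [Preadditive V] [HasBinaryBiproducts V] [HasZeroObject V]
    (K L : CochainComplex V ℤ) (α : K ⟶ L) :
    ∃ (L' : CochainComplex V ℤ) (α' : K ⟶ L') (π : L' ⟶ L) (s : L ⟶ L'),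
      α' ≫ π = α ∧ s ≫ π = 𝟙 L ∧ Nonempty (Homotopy (π ≫ s) (𝟙 L')) ∧
      (∀ n : ℤ, ∃ (C : V) (e : L'.X n ≅ K.X n ⊞ C), α'.f n ≫ e.hom = biprod.inl) ∧
      (∀ a : ℤ, K.IsStrictlyGE a → L.IsStrictlyGE a → ∃ a' : ℤ, L'.IsStrictlyGE a') ∧
      (∀ a : ℤ, K.IsStrictlyLE a → L.IsStrictlyLE a → ∃ a' : ℤ, L'.IsStrictlyLE a') := by
  let M := CochainComplex.mappingCone (𝟙 K)
  let α' : K ⟶ L ⊞ M := biprod.lift α (CochainComplex.mappingCone.inr (𝟙 K))
  refine ⟨L ⊞ M, α', biprod.fst, biprod.inl, biprod.lift_fst _ _, biprod.inl_fst, ?_, fun n => ?_, ?_, ?_⟩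
  · exact ⟨Homotopy.equivSubZero.symm ((Homotopy.ofEq (show biprod.fst ≫ biprod.inl - 𝟙 (L ⊞ M) = biprod.snd ≫ 𝟙 M ≫ (-biprod.inr) by
        rw [sub_eq_iff_eq_add, Category.id_comp, Preadditive.comp_neg, ← biprod.total]
        abel)).trans
      (((((CochainComplex.mappingCone.homotopyToZeroOfId K)).compRight (-biprod.inr)).compLeft biprod.snd).trans (Homotopy.ofEq (by simp))))⟩
  · let cf := (CochainComplex.mappingCone.fst (𝟙 K)).1.v n (n + 1) rfl
    let cs := (CochainComplex.mappingCone.snd (𝟙 K)).v n n (add_zero n)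
    let ci := (CochainComplex.mappingCone.inl (𝟙 K)).v (n + 1) n (by omega)
    let r : (L ⊞ M).X n ⟶ K.X n := (biprod.snd : L ⊞ M ⟶ M).f n ≫ cs
    have hα : α'.f n ≫ r = 𝟙 _ ∧ α'.f n ≫ (biprod.fst : L ⊞ M ⟶ L).f n = α.f n ∧
        α'.f n ≫ (biprod.snd : L ⊞ M ⟶ M).f n = (CochainComplex.mappingCone.inr (𝟙 K)).f n := by
      simp [α', r, cs, M]
    have hid : cf ≫ ci + cs ≫ (CochainComplex.mappingCone.inr (𝟙 K)).f n = 𝟙 (M.X n) :=
      CochainComplex.mappingCone.id_X (𝟙 K) n (n + 1) rfl
    have h1 : ci ≫ cf = 𝟙 _ ∧ ci ≫ cs = 0 ∧ (CochainComplex.mappingCone.inr (𝟙 K)).f n ≫ cf = 0 := by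
      simp [ci, cf, cs]
    refine ⟨L.X n ⊞ K.X (n + 1),
      { hom := biprod.lift r (biprod.lift ((biprod.fst : L ⊞ M ⟶ L).f n - r ≫ α.f n) ((biprod.snd : L ⊞ M ⟶ M).f n ≫ cf))
        inv := biprod.desc (α'.f n) (biprod.desc ((biprod.inl : L ⟶ L ⊞ M).f n) (ci ≫ (biprod.inr : M ⟶ L ⊞ M).f n))
        hom_inv_id := ?_
        inv_hom_id := ?_ }, ?_⟩
    · rw [biprod.lift_desc, biprod.lift_desc]
      apply HomologicalComplex.biprodX_ext_to
      · simp [hα.2.1]
      · simp only [Preadditive.add_comp, Preadditive.sub_comp, Category.assoc, hα.2.2,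
          HomologicalComplex.biprod_inl_snd_f, HomologicalComplex.biprod_inr_snd_f, Category.comp_id, Category.id_comp,
          comp_zero, sub_zero, zero_add, add_zero, r]
        rw [← Preadditive.comp_add, add_comm]
        erw [Category.comp_id]
        rw [add_comm, add_comm (cs ≫ _), hid]
        exact Category.comp_id _
    · refine biprod.hom_ext' _ _ ?_ (biprod.hom_ext' _ _ ?_ ?_)
      · apply biprod.hom_ext
        · simpa using hα.1
        · apply biprod.hom_ext
          · simp [reassoc_of% hα.1, hα.2.1]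
          · simp [reassoc_of% hα.2.2, h1.2.2]
      · apply biprod.hom_ext
        · simp [r]
        · apply biprod.hom_ext <;> simp [r]
      · apply biprod.hom_ext
        · simp [r, h1.2.1]
        · apply biprod.hom_ext <;> simp [r, h1.1, reassoc_of% h1.2.1]
    · apply biprod.hom_ext
      · simpa using hα.1
      · apply biprod.hom_ext
        · simp [reassoc_of% hα.1, hα.2.1]
        · simp [reassoc_of% hα.2.2, h1.2.2]
  · intro a hK hL
    refine ⟨a - 1, (CochainComplex.isStrictlyGE_iff _ _).2 fun i hi => ?_⟩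
    rw [IsZero.iff_id_eq_zero]
    refine HomologicalComplex.biprodX_ext_to ((L.isZero_of_isStrictlyGE a i (by omega)).eq_of_tgt _ _) ?_
    exact (CochainComplex.mappingCone.ext_to_iff _ i (i + 1) rfl _ _).2
      ⟨(K.isZero_of_isStrictlyGE a _ (by omega)).eq_of_tgt _ _, (K.isZero_of_isStrictlyGE a _ (by omega)).eq_of_tgt _ _⟩
  · intro a hK hL
    refine ⟨a, (CochainComplex.isStrictlyLE_iff _ _).2 fun i hi => ?_⟩
    rw [IsZero.iff_id_eq_zero]
    refine HomologicalComplex.biprodX_ext_to ((L.isZero_of_isStrictlyLE a i (by omega)).eq_of_tgt _ _) ?_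
    exact (CochainComplex.mappingCone.ext_to_iff _ i (i + 1) rfl _ _).2
      ⟨(K.isZero_of_isStrictlyLE a _ (by omega)).eq_of_tgt _ _, (K.isZero_of_isStrictlyLE a _ (by omega)).eq_of_tgt _ _⟩


end Groth.Agent.S6598
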