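import Groth.Statements.S6599
import Mathlib.Algebra.Homology.HomologicalComplexBiprod
import Mathlib.Algebra.Homology.HomotopyCategory.MappingCocone

set_option autoImplicit false
universe v u
open CategoryTheory CategoryTheory.Limits
open CohDer

namespace Groth.Agent.S6599
open CategoryTheory CategoryTheory.Limits



/-- Let α : K ⟶ L be a morphism of cochain complexes over an additive category. There is a factorization
K ⟶ K' ⟶ L of α such that (1) K' ⟶ L is a termwise split surjection (in each degree isomorphic to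
the projection onto a direct summand) and (2) K ⟶ K' admits a retraction s : K' ⟶ K (K ⟶ K' followed
by s is the identity) such that s followed by K ⟶ K' is homotopic to the identity of K'. Moreover if
K and L are both bounded below, resp. both bounded above, then K' may be chosen bounded below, resp.
bounded above. -/
theorem result {V : Type u} [Category.{v} V] [Preadditive V] [HasBinaryBiproducts V] [HasZeroObject V]
    (K L : CochainComplex V ℤ) (α : K ⟶ L) :
    ∃ (K' : CochainComplex V ℤ) (i : K ⟶ K') (α' : K' ⟶ L) (s : K' ⟶ K),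
      i ≫ α' = α ∧ i ≫ s = 𝟙 K ∧ Nonempty (Homotopy (s ≫ i) (𝟙 K')) ∧
      (∀ n : ℤ, ∃ (C : V) (e : K'.X n ≅ C ⊞ L.X n), e.inv ≫ α'.f n = biprod.snd) ∧
      (∀ a : ℤ, K.IsStrictlyGE a → L.IsStrictlyGE a → ∃ a' : ℤ, K'.IsStrictlyGE a') ∧
      (∀ a : ℤ, K.IsStrictlyLE a → L.IsStrictlyLE a → ∃ a' : ℤ, K'.IsStrictlyLE a') := by
  let M := CochainComplex.mappingCocone (𝟙 L)
  let α' : K ⊞ M ⟶ L := biprod.desc α (CochainComplex.mappingCocone.fst (𝟙 L))
  obtain ⟨hM⟩ : Nonempty (Homotopy (𝟙 M) 0) :=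
    (HomotopyCategory.isZero_quotient_obj_iff M).1
      (IsZero.of_iso (Functor.map_isZero _ ((HomotopyCategory.isZero_quotient_obj_iff _).2
        ⟨CochainComplex.mappingCone.homotopyToZeroOfId L⟩))
        (((HomotopyCategory.quotient V (ComplexShape.up ℤ)).commShiftIso (-1 : ℤ)).app (CochainComplex.mappingCone (𝟙 L))))
  refine ⟨K ⊞ M, biprod.inl, α', biprod.fst, biprod.inl_desc _ _, biprod.inl_fst, ?_, fun n => ?_, ?_, ?_⟩
  · exact ⟨Homotopy.equivSubZero.symm ((Homotopy.ofEq (show biprod.fst ≫ biprod.inl - 𝟙 (K ⊞ M) = biprod.snd ≫ 𝟙 M ≫ (-biprod.inr) by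
        rw [sub_eq_iff_eq_add, Category.id_comp, Preadditive.comp_neg, ← biprod.total]
        abel)).trans
      ((((hM).compRight (-biprod.inr)).compLeft biprod.snd).trans (Homotopy.ofEq (by simp))))⟩
  · let cf := (CochainComplex.mappingCocone.fst (𝟙 L)).f n
    let cs := (CochainComplex.mappingCocone.snd (𝟙 L)).v n (n - 1) (by omega)
    let ci := (CochainComplex.mappingCocone.inl (𝟙 L)).v n n (add_zero n)
    let cr := (CochainComplex.mappingCocone.inr (𝟙 L)).1.v (n - 1) n (by omega)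
    have hid : cf ≫ ci + cs ≫ cr = 𝟙 (M.X n) :=
      CochainComplex.mappingCocone.id_X (𝟙 L) n (n - 1) (by omega)
    have h1 : ci ≫ cf = 𝟙 _ ∧ ci ≫ cs = 0 ∧ cr ≫ cf = 0 ∧ cr ≫ cs = 𝟙 _ := by
      simp [ci, cf, cs, cr]
    have hα : (biprod.inl : K ⟶ K ⊞ M).f n ≫ α'.f n = α.f n ∧ (biprod.inr : M ⟶ K ⊞ M).f n ≫ α'.f n = cf := by
      simp [α', cf, M]
    refine ⟨K.X n ⊞ L.X (n - 1),
      { hom := biprod.lift (biprod.lift ((biprod.fst : K ⊞ M ⟶ K).f n) ((biprod.snd : K ⊞ M ⟶ M).f n ≫ cs)) (α'.f n)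
        inv := biprod.desc (biprod.desc ((biprod.inl : K ⟶ K ⊞ M).f n - α.f n ≫ ci ≫ (biprod.inr : M ⟶ K ⊞ M).f n)
          (cr ≫ (biprod.inr : M ⟶ K ⊞ M).f n)) (ci ≫ (biprod.inr : M ⟶ K ⊞ M).f n)
        hom_inv_id := ?_
        inv_hom_id := ?_ }, ?_⟩
    · rw [biprod.lift_desc, biprod.lift_desc]
      apply HomologicalComplex.biprodX_ext_from
      · simp [reassoc_of% hα.1]
      · simp only [Preadditive.comp_add, Preadditive.comp_sub, reassoc_of% hα.2,
          HomologicalComplex.biprod_inr_fst_f_assoc, HomologicalComplex.biprod_inr_snd_f_assoc, zero_comp,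
          Category.assoc, Category.comp_id, sub_zero, zero_add]
        rw [← Category.assoc, ← Category.assoc, ← Preadditive.add_comp, add_comm, hid]
        exact Category.id_comp _
    · refine biprod.hom_ext' _ _ (biprod.hom_ext' _ _ ?_ ?_) ?_
      · apply biprod.hom_ext
        · apply biprod.hom_ext <;> simp [h1.2.1, reassoc_of% h1.2.1]
        · simp [hα.1, hα.2, h1.1]
      · apply biprod.hom_ext
        · apply biprod.hom_ext <;> simp [h1.2.2.2]
        · simp [hα.2, h1.2.2.1]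
      · apply biprod.hom_ext
        · apply biprod.hom_ext <;> simp [h1.2.1]
        · simp [hα.2, h1.1]
    · refine biprod.hom_ext' _ _ (biprod.hom_ext' _ _ ?_ ?_) ?_
      · simp [hα.1, hα.2, h1.1]
      · simp [hα.2, h1.2.2.1]
      · simp [hα.2, h1.1]
  · intro a hK hL
    refine ⟨a, (CochainComplex.isStrictlyGE_iff _ _).2 fun i hi => ?_⟩
    rw [IsZero.iff_id_eq_zero]
    refine HomologicalComplex.biprodX_ext_to ((K.isZero_of_isStrictlyGE a i (by omega)).eq_of_tgt _ _) ?_
    rw [← cancel_mono (𝟙 _), ← CochainComplex.mappingCocone.id_X (𝟙 L) i (i - 1) (by omega),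
      (L.isZero_of_isStrictlyGE a i (by omega)).eq_of_tgt ((CochainComplex.mappingCocone.fst (𝟙 L)).f i) 0,
      (L.isZero_of_isStrictlyGE a (i - 1) (by omega)).eq_of_tgt ((CochainComplex.mappingCocone.snd (𝟙 L)).v i (i - 1) (by omega)) 0]
    simp
  · intro a hK hL
    refine ⟨a + 1, (CochainComplex.isStrictlyLE_iff _ _).2 fun i hi => ?_⟩
    rw [IsZero.iff_id_eq_zero]
    refine HomologicalComplex.biprodX_ext_to ((K.isZero_of_isStrictlyLE a i (by omega)).eq_of_tgt _ _) ?_
    rw [← cancel_mono (𝟙 _), ← CochainComplex.mappingCocone.id_X (𝟙 L) i (i - 1) (by omega),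
      (L.isZero_of_isStrictlyLE a i (by omega)).eq_of_tgt ((CochainComplex.mappingCocone.fst (𝟙 L)).f i) 0,
      (L.isZero_of_isStrictlyLE a (i - 1) (by omega)).eq_of_tgt ((CochainComplex.mappingCocone.snd (𝟙 L)).v i (i - 1) (by omega)) 0]
    simp


end Groth.Agent.S6599
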