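import Groth.Statements.S6600
import Mathlib.CategoryTheory.Triangulated.Orthogonal

set_option autoImplicit false
universe v u
open CategoryTheory CategoryTheory.Limits
open CohDer

namespace Groth.Agent.S6600


open CategoryTheory.Pretriangulated in
/-- Let D be a triangulated category, A ⊂ D a full subcategory invariant under all shifts, and X → Y → Z
→ X⟦1⟧ a distinguished triangle. Then Z lies in the right orthogonal A^⊥ if and only if Hom(A, X) →
Hom(A, Y) is bijective for every object A of A. -/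
theorem result {D : Type u} [Category.{v} D] [Preadditive D] [HasZeroObject D] [HasShift D ℤ]
    [∀ n : ℤ, (shiftFunctor D n).Additive] [Pretriangulated D] [IsTriangulated D]
    (P : ObjectProperty D) [P.IsStableUnderShift ℤ] (T : Triangle D) (hT : T ∈ distinguishedTriangles) :
    P.rightOrthogonal T.obj₃ ↔ ∀ A : D, P A → Function.Bijective (fun u : A ⟶ T.obj₁ => u ≫ T.mor₁) := by
  refine ⟨fun h A hA => ⟨fun u₁ u₂ hu => ?_, fun v => ?_⟩, fun h A u hA => ?_⟩
  · simp only at hu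
    have h0 : (u₁ - u₂) ≫ T.mor₁ = 0 := by rw [Preadditive.sub_comp, hu, sub_self]
    obtain ⟨β, hβ⟩ := Triangle.coyoneda_exact₂ _ (inv_rot_of_distTriang _ hT) (u₁ - u₂) h0
    have := (inferInstance : P.rightOrthogonal.IsStableUnderShift ℤ)
    have := P.rightOrthogonal.le_shift (-1 : ℤ) _ h
    have hβ0 : β = 0 := this β hA
    rw [hβ0] at hβ
    rw [Limits.zero_comp] at hβ
    exact sub_eq_zero.mp hβ
  · obtain ⟨β, hβ⟩ := Triangle.coyoneda_exact₂ _ hT v (h (v ≫ T.mor₂) hA)
    exact ⟨β, hβ.symm⟩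
  · have h3 : u ≫ T.mor₃ = 0 := by
      obtain ⟨u', hu'⟩ := ((shiftEquiv D (1 : ℤ)).symm.toAdjunction.homEquiv A T.obj₁).surjective
        (((shiftEquiv D (1 : ℤ)).symm.toAdjunction.homEquiv A T.obj₁) 0)
      have hA' : P (A⟦(-1 : ℤ)⟧) := P.le_shift (-1 : ℤ) _ hA
      have h0 : (u ≫ T.mor₃ ≫ T.mor₁⟦(1 : ℤ)⟧') = 0 := by simp [comp_distTriang_mor_zero₃₁ _ hT]
      let e := (shiftFunctorCompIsoId D (-1 : ℤ) (1 : ℤ) (by simp)).app A
      obtain ⟨w, hw⟩ := (shiftFunctor D (1 : ℤ)).map_surjective (e.hom ≫ u ≫ T.mor₃)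
      have hw1 : w ≫ T.mor₁ = 0 := by
        apply (shiftFunctor D (1 : ℤ)).map_injective
        rw [Functor.map_comp, hw, Category.assoc, Category.assoc, h0, comp_zero, Functor.map_zero]
      have hw0 : w = 0 := (h _ hA').1 (by simpa using hw1)
      rw [hw0, Functor.map_zero] at hw
      rw [← cancel_epi e.hom, ← hw, comp_zero]
    obtain ⟨β, hβ⟩ := Triangle.coyoneda_exact₃ _ hT u h3
    obtain ⟨γ, hγ⟩ := (h A hA).2 β
    rw [hβ, ← hγ]
    simp [comp_distTriang_mor_zero₁₂ _ hT]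


end Groth.Agent.S6600
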