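import Groth.Statements.S6601
import Mathlib.CategoryTheory.Triangulated.Orthogonal

set_option autoImplicit false
universe v u
open CategoryTheory CategoryTheory.Limits
open CohDer

namespace Groth.Agent.S6601


open CategoryTheory.Pretriangulated in
/-- Let D be a triangulated category, B ⊂ D a full subcategory invariant under all shifts, and X → Y → Z
→ X⟦1⟧ a distinguished triangle. Then X lies in the left orthogonal ^⊥B if and only if Hom(Z, B) →
Hom(Y, B) is bijective for every object B of B. -/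
theorem result {D : Type u} [Category.{v} D] [Preadditive D] [HasZeroObject D] [HasShift D ℤ]
    [∀ n : ℤ, (shiftFunctor D n).Additive] [Pretriangulated D] [IsTriangulated D]
    (P : ObjectProperty D) [P.IsStableUnderShift ℤ] (T : Triangle D) (hT : T ∈ distinguishedTriangles) :
    P.leftOrthogonal T.obj₁ ↔ ∀ B : D, P B → Function.Bijective (fun u : T.obj₃ ⟶ B => T.mor₂ ≫ u) := by
  refine ⟨fun h A hA => ⟨fun u₁ u₂ hu => ?_, fun v => ?_⟩, fun h A u hA => ?_⟩
  · simp only at hu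
    have h0 : T.mor₂ ≫ (u₁ - u₂) = 0 := by rw [Preadditive.comp_sub, hu, sub_self]
    obtain ⟨β, hβ⟩ := Triangle.yoneda_exact₃ _ hT (u₁ - u₂) h0
    have := (inferInstance : P.leftOrthogonal.IsStableUnderShift ℤ)
    have := P.leftOrthogonal.le_shift (1 : ℤ) _ h
    have hβ0 : β = 0 := this β hA
    rw [hβ0, Limits.comp_zero] at hβ
    exact sub_eq_zero.mp hβ
  · obtain ⟨β, hβ⟩ := Triangle.yoneda_exact₂ _ hT v (h (T.mor₁ ≫ v) hA)
    exact ⟨β, hβ.symm⟩
  · have h3 : T.mor₃ ≫ u⟦(1 : ℤ)⟧' = 0 :=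
      (h _ (P.le_shift (1 : ℤ) _ hA)).1 (by simp [comp_distTriang_mor_zero₂₃_assoc _ hT])
    obtain ⟨β, hβ⟩ : ∃ β, u⟦(1 : ℤ)⟧' = (-T.mor₁⟦(1 : ℤ)⟧') ≫ β :=
      Triangle.yoneda_exact₃ _ (rot_of_distTriang _ hT) _ h3
    obtain ⟨v, rfl⟩ := (shiftFunctor D (1 : ℤ)).map_surjective β
    obtain ⟨γ, hγ⟩ := (h A hA).2 v
    apply (shiftFunctor D (1 : ℤ)).map_injective
    rw [hβ, ← hγ, Preadditive.neg_comp, ← Functor.map_comp]
    simp [comp_distTriang_mor_zero₁₂_assoc _ hT]

end Groth.Agent.S6601
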