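import Groth.Statements.S6606
import Mathlib

set_option autoImplicit false
universe v u
open CategoryTheory CategoryTheory.Limits
open CohDer

namespace Groth.Agent.S6606


/-- Let A be an abelian category, β : P ⟶ L and α : E ⟶ L morphisms of cochain complexes and n an
integer. Assume P is a bounded complex of projective objects with Pⁱ = 0 for i < n, and that Hⁱ(α)
is an isomorphism for i > n and an epimorphism for i = n. Then there is γ : P ⟶ E such that γ ≫ α is
homotopic to β. -/
theorem result {A : Type u} [Category.{v} A] [Abelian A]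
    (P E L : CochainComplex A ℤ) (β : P ⟶ L) (α : E ⟶ L) (n b : ℤ) [P.IsStrictlyGE n] [P.IsStrictlyLE b]
    (hP : ∀ i : ℤ, Projective (P.X i))
    (hiso : ∀ i : ℤ, n < i → IsIso (HomologicalComplex.homologyMap α i)) (hepi : Epi (HomologicalComplex.homologyMap α n)) :
    ∃ γ : P ⟶ E, Nonempty (Homotopy (γ ≫ α) β) := by
  letI := HasDerivedCategory.standard A
  haveI := hP
  haveI : P.IsKProjective := CochainComplex.isKProjective_of_projective P b
  let Cn := CochainComplex.mappingCone α
  have hT := DerivedCategory.mappingCone_triangle_distinguished α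
  have hz : ∀ i, n ≤ i → Cn.ExactAt i := fun i hi => by
    haveI hmono : Mono ((DerivedCategory.homologyFunctor A (i + 1)).map (DerivedCategory.Q.map α)) := by
      haveI := hiso (i + 1) (by omega)
      haveI : IsIso ((DerivedCategory.Q ⋙ DerivedCategory.homologyFunctor A (i + 1)).map α) :=
        (NatIso.isIso_map_iff (DerivedCategory.homologyFunctorFactors A (i + 1)) α).2
          (inferInstanceAs (IsIso (HomologicalComplex.homologyMap α (i + 1))))
      exact inferInstanceAs (Mono ((DerivedCategory.Q ⋙ DerivedCategory.homologyFunctor A (i + 1)).map α))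
    haveI hep : Epi ((DerivedCategory.homologyFunctor A i).map (DerivedCategory.Q.map α)) := by
      haveI : Epi (HomologicalComplex.homologyMap α i) := by
        rcases eq_or_lt_of_le hi with h | h
        · subst h; exact hepi
        · haveI := hiso i h; infer_instance
      exact (MorphismProperty.epimorphisms A).arrow_mk_iso_iff
        (Arrow.isoMk ((DerivedCategory.homologyFunctorFactors A i).app E) ((DerivedCategory.homologyFunctorFactors A i).app L)
          (((DerivedCategory.homologyFunctorFactors A i).hom.naturality α).symm)) |>.2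
        (MorphismProperty.epimorphisms.infer_property _)
    have h₂ := (DerivedCategory.HomologySequence.epi_homologyMap_mor₁_iff _ hT i).1 hep
    have hδ := (DerivedCategory.HomologySequence.mono_homologyMap_mor₁_iff _ hT i (i + 1) (by omega)).1 hmono
    have hz' := (DerivedCategory.HomologySequence.exact₃ _ hT i (i + 1) (by omega)).isZero_of_both_zeros h₂ hδ
    rw [HomologicalComplex.exactAt_iff_isZero_homology]
    exact hz'.of_iso ((DerivedCategory.homologyFunctorFactors A i).app Cn).symm
  haveI : Cn.IsLE (n - 1) := by
    rw [CochainComplex.isLE_iff]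
    exact fun i hi => hz i (by omega)
  have h0 : DerivedCategory.Q.map (β ≫ CochainComplex.mappingCone.inr α) = 0 := by
    let ι := Cn.ιTruncLE (n - 1)
    let g := DerivedCategory.Q.map (β ≫ CochainComplex.mappingCone.inr α) ≫ inv (DerivedCategory.Q.map ι)
    obtain ⟨g₁, hg₁⟩ := (CochainComplex.IsKProjective.Qh_map_bijective P
      ((HomotopyCategory.quotient A (ComplexShape.up ℤ)).obj (Cn.truncLE (n - 1)))).2
      ((DerivedCategory.quotientCompQhIso A).hom.app P ≫ g ≫ (DerivedCategory.quotientCompQhIso A).inv.app _)
    obtain ⟨φ, rfl⟩ := (HomotopyCategory.quotient A (ComplexShape.up ℤ)).map_surjective g₁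
    have hφ : φ = 0 := by
      ext i
      by_cases hi : i < n
      · exact (P.isZero_of_isStrictlyGE n i hi).eq_of_src _ _
      · exact ((Cn.truncLE (n - 1)).isZero_of_isStrictlyLE (n - 1) i (by omega)).eq_of_tgt _ _
    subst hφ
    rw [Functor.map_zero, Functor.map_zero] at hg₁
    have h1 : (DerivedCategory.quotientCompQhIso A).hom.app P ≫ g ≫
        (DerivedCategory.quotientCompQhIso A).inv.app _ = 0 := hg₁.symm
    have h2 : g = 0 := by
      rw [← cancel_epi ((DerivedCategory.quotientCompQhIso A).hom.app P),
        ← cancel_mono ((DerivedCategory.quotientCompQhIso A).inv.app (Cn.truncLE (n - 1)))]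
      simpa using h1
    have h3 := congrArg (· ≫ DerivedCategory.Q.map ι) h2
    simpa [g] using h3
  let q := HomotopyCategory.quotient A (ComplexShape.up ℤ)
  have h4 : q.map (β ≫ CochainComplex.mappingCone.inr α) = 0 := by
    refine (CochainComplex.IsKProjective.Qh_map_bijective P (q.obj Cn)).1 ?_
    rw [Functor.map_zero]
    have h := (DerivedCategory.quotientCompQhIso A).hom.naturality (β ≫ CochainComplex.mappingCone.inr α)
    rw [h0, comp_zero, ← zero_comp (X := DerivedCategory.Qh.obj (q.obj P))] at h
    exact (cancel_mono _).1 h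
  obtain ⟨g, hg⟩ := Pretriangulated.Triangle.coyoneda_exact₂ (CochainComplex.mappingCone.triangleh α)
    (HomotopyCategory.mappingCone_triangleh_distinguished α) (q.map β) ((q.map_comp _ _).symm.trans h4)
  obtain ⟨γ, rfl⟩ := q.map_surjective g
  exact ⟨γ, ⟨HomotopyCategory.homotopyOfEq _ _ ((q.map_comp _ _).trans hg.symm)⟩⟩


end Groth.Agent.S6606
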