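import Groth.Statements.S6608

set_option autoImplicit false
universe v u
open CategoryTheory CategoryTheory.Limits
open CohDer

open ZeroObject

namespace Groth.Agent.S6608


open CategoryTheory.Pretriangulated in
/-- Let D be a pretriangulated category and S a set of arrows of D containing the identities and
satisfying MS6 (compatibility with the triangulated structure; here together with stability under
shifts, MS5). Then every isomorphism of D lies in S. -/
theorem result {D : Type u} [Category.{v} D] [Preadditive D] [HasZeroObject D] [HasShift D ℤ]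
    [∀ n : ℤ, (shiftFunctor D n).Additive] [Pretriangulated D]
    (S : MorphismProperty D) [S.ContainsIdentities] [S.IsCompatibleWithTriangulation]
    {X Y : D} (f : X ⟶ Y) [IsIso f] : S f := by
  have key : S (f⟦(1 : ℤ)⟧') := by
    have h1 : Triangle.mk (0 : X ⟶ (0 : D)) (0 : (0 : D) ⟶ X⟦(1 : ℤ)⟧) (-(𝟙 X)⟦(1 : ℤ)⟧') ∈ distinguishedTriangles :=
      rot_of_distTriang _ (contractible_distinguished X)
    have h2 : Triangle.mk (0 : X ⟶ (0 : D)) (0 : (0 : D) ⟶ Y⟦(1 : ℤ)⟧) (-(inv f)⟦(1 : ℤ)⟧') ∈ distinguishedTriangles := by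
      refine isomorphic_distinguished _ h1 _ ?_
      exact Triangle.isoMk _ _ (Iso.refl _) (Iso.refl _) ((shiftFunctor D (1 : ℤ)).mapIso (asIso f).symm)
        (show _ = _ from (Limits.zero_comp.trans Limits.comp_zero.symm)) (show _ = _ from (Limits.zero_comp.trans Limits.comp_zero.symm))
          (show (-(inv f)⟦(1 : ℤ)⟧') ≫ (shiftFunctor D (1 : ℤ)).map (𝟙 X) = (inv f)⟦(1 : ℤ)⟧' ≫ (-(𝟙 X)⟦(1 : ℤ)⟧') by simp)
    obtain ⟨c, hc, -, h4⟩ := MorphismProperty.compatible_with_triangulation (W := S) _ _ h1 h2 (𝟙 _) (𝟙 _)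
      (S.id_mem _) (S.id_mem _) (Limits.zero_comp.trans Limits.comp_zero.symm)
    change X⟦(1 : ℤ)⟧ ⟶ Y⟦(1 : ℤ)⟧ at c
    change (-(𝟙 X)⟦(1 : ℤ)⟧') ≫ (shiftFunctor D (1 : ℤ)).map (𝟙 X) = c ≫ (-(inv f)⟦(1 : ℤ)⟧') at h4
    simp only [CategoryTheory.Functor.map_id, Category.comp_id, Preadditive.comp_neg, neg_inj] at h4
    have : c = f⟦(1 : ℤ)⟧' := by
      rw [← cancel_mono ((shiftFunctor D (1 : ℤ)).map (inv f)), ← h4, ← Functor.map_comp, IsIso.hom_inv_id,
        CategoryTheory.Functor.map_id]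
    exact this ▸ hc
  exact (MorphismProperty.IsCompatibleWithShift.iff S f (1 : ℤ)).mp key


end Groth.Agent.S6608
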