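import Groth.Statements.S6610
import Mathlib
import Groth.Agent.Lib.RFPlus.Horseshoe

set_option autoImplicit false
universe v u
open CategoryTheory CategoryTheory.Limits
open CohDer

namespace Groth.Agent.S6610

open CategoryTheory CategoryTheory.Limits Opposite
set_option backward.isDefEq.respectTransparency false

noncomputable section
variable {A : Type u} [Category.{v} A] [Abelian A]

abbrev G (A : Type u) [Category.{v} A] [Abelian A] : (CochainComplex A ℤ)ᵒᵖ ⥤ CochainComplex Aᵒᵖ ℤ :=
  (CochainComplex.opEquivalence A).functor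

theorem quasiIso_G_map_iff {K L : CochainComplex A ℤ} (f : K ⟶ L) : QuasiIso ((G A).map f.op) ↔ QuasiIso f := by
  have key : ∀ m m' : ℤ, m' = -m → (QuasiIsoAt ((G A).map f.op) m ↔ QuasiIsoAt f m') := by
    intro m m' hm
    rw [quasiIsoAt_iff' _ (m - 1) m (m + 1) (by simp) (by simp),
      quasiIsoAt_iff' f (-(m + 1)) m' (-(m - 1)) (by simp; omega) (by simp; omega)]
    subst hm
    exact ShortComplex.quasiIso_opMap_iff ((HomologicalComplex.shortComplexFunctor' A _ (-(m + 1)) (-m) (-(m - 1))).map f)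
  simp only [quasiIso_iff]
  exact ⟨fun h m => (key (-m) m (by omega)).1 (h _), fun h m => (key m (-m) rfl).2 (h _)⟩

theorem injective_G_iff (K : CochainComplex A ℤ) (k : ℤ) :
    Injective (((G A).obj (op K)).X k) ↔ Projective (K.X (-k)) :=
  (Injective.projective_iff_injective_op).symm

theorem isGE_G_iff (K : CochainComplex A ℤ) (n n' : ℤ) (h : n + n' = 0) :
    ((G A).obj (op K)).IsStrictlyGE n ↔ K.IsStrictlyLE n' := by
  rw [CochainComplex.isStrictlyGE_iff, CochainComplex.isStrictlyLE_iff]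
  exact ⟨fun H i hi => by have h2 := (H (-i) (by omega)).unop; change IsZero (K.X (- -i)) at h2; rwa [neg_neg] at h2,
    fun H i hi => (H (-i) (by omega)).op⟩

end


/-- Let A be an abelian category with enough projectives and S : 0 → A• → B• → C• → 0 a short exact
sequence of cochain complexes all vanishing above degree n. Then there are a short exact sequence T
: 0 → P₁ → P₂ → P₃ → 0 of complexes of projective objects vanishing above degree n and a morphism of
short exact sequences T ⟶ S whose three components are quasi-isomorphisms (projective resolutions).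
(The published statement is phrased for bounded below complexes; projective resolutions are bounded
above by definition and exist only for complexes with cohomology bounded above, so the statement is
given here for bounded above complexes, the case dual to the injective one.) -/
theorem result {A : Type u} [Category.{v} A] [Abelian A] [EnoughProjectives A]
    (S : ShortComplex (CochainComplex A ℤ)) (hS : S.ShortExact) (n : ℤ)
    [S.X₁.IsStrictlyLE n] [S.X₂.IsStrictlyLE n] [S.X₃.IsStrictlyLE n] :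
    ∃ (T : ShortComplex (CochainComplex A ℤ)) (φ : T ⟶ S), T.ShortExact ∧
      T.X₁.IsStrictlyLE n ∧ T.X₂.IsStrictlyLE n ∧ T.X₃.IsStrictlyLE n ∧
      (∀ k : ℤ, Projective (T.X₁.X k) ∧ Projective (T.X₂.X k) ∧ Projective (T.X₃.X k)) ∧
      QuasiIso φ.τ₁ ∧ QuasiIso φ.τ₂ ∧ QuasiIso φ.τ₃ := by
  haveI := hS.mono_f
  haveI := hS.epi_g
  let S' := S.op.map (G A)
  have hS' : S'.ShortExact := hS.op.map_of_exact _
  haveI : S'.X₁.IsStrictlyGE (-n) := (isGE_G_iff S.X₃ _ n (by omega)).2 inferInstance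
  haveI : S'.X₂.IsStrictlyGE (-n) := (isGE_G_iff S.X₂ _ n (by omega)).2 inferInstance
  haveI : S'.X₃.IsStrictlyGE (-n) := (isGE_G_iff S.X₁ _ n (by omega)).2 inferInstance
  haveI : EnoughInjectives Aᵒᵖ := inferInstance
  obtain ⟨T, φ, hT, hG1, hG2, hG3, hI, q1, q2, q3⟩ := Groth.Agent.RFPlus.exists_shortExact_injective S' hS' (-n)
  let O₁ := (G A).objPreimage T.X₁
  let O₂ := (G A).objPreimage T.X₂
  let O₃ := (G A).objPreimage T.X₃
  let e₁ : (G A).obj (op O₁.unop) ≅ T.X₁ := (G A).objObjPreimageIso T.X₁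
  let e₂ : (G A).obj (op O₂.unop) ≅ T.X₂ := (G A).objObjPreimageIso T.X₂
  let e₃ : (G A).obj (op O₃.unop) ≅ T.X₃ := (G A).objObjPreimageIso T.X₃
  let T' : ShortComplex (CochainComplex A ℤ)ᵒᵖ := ShortComplex.mk ((G A).preimage (e₁.hom ≫ T.f ≫ e₂.inv))
    ((G A).preimage (e₂.hom ≫ T.g ≫ e₃.inv)) ((G A).map_injective (by simp))
  let eT : T'.map (G A) ≅ T := ShortComplex.isoMk e₁ e₂ e₃ (by simp [T']) (by simp [T'])
  have hT'G : (T'.map (G A)).ShortExact := ShortComplex.shortExact_of_iso eT.symm hT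
  have hT' : T'.ShortExact :=
    { exact := (ShortComplex.exact_map_iff_of_faithful T' (G A)).1 hT'G.exact
      mono_f := ((G A).mono_map_iff_mono T'.f).1 hT'G.mono_f
      epi_g := ((G A).epi_map_iff_epi T'.g).1 hT'G.epi_g }
  let τ₁ := (G A).preimage (φ.τ₁ ≫ e₁.inv)
  let τ₂ := (G A).preimage (φ.τ₂ ≫ e₂.inv)
  let τ₃ := (G A).preimage (φ.τ₃ ≫ e₃.inv)
  let ψ : S.op ⟶ T' :=
    { τ₁ := τ₁, τ₂ := τ₂, τ₃ := τ₃
      comm₁₂ := (G A).map_injective (by simpa [τ₁, τ₂, T', S'] using φ.comm₁₂)
      comm₂₃ := (G A).map_injective (by simpa [τ₂, τ₃, T', S'] using φ.comm₂₃) }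
  refine ⟨T'.unop, ShortComplex.unopMap ψ, hT'.unop, ?_, ?_, ?_, fun k => ⟨?_, ?_, ?_⟩, ?_, ?_, ?_⟩
  · exact (isGE_G_iff O₃.unop (-n) n (by omega)).1 (CochainComplex.isStrictlyGE_of_iso e₃.symm _)
  · exact (isGE_G_iff O₂.unop (-n) n (by omega)).1 (CochainComplex.isStrictlyGE_of_iso e₂.symm _)
  · exact (isGE_G_iff O₁.unop (-n) n (by omega)).1 (CochainComplex.isStrictlyGE_of_iso e₁.symm _)
  · have h := (injective_G_iff O₃.unop (-k)).1 (Injective.of_iso ((HomologicalComplex.eval _ _ (-k)).mapIso e₃.symm) (hI (-k)).2.2)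
    rwa [neg_neg] at h
  · have h := (injective_G_iff O₂.unop (-k)).1 (Injective.of_iso ((HomologicalComplex.eval _ _ (-k)).mapIso e₂.symm) (hI (-k)).2.1)
    rwa [neg_neg] at h
  · have h := (injective_G_iff O₁.unop (-k)).1 (Injective.of_iso ((HomologicalComplex.eval _ _ (-k)).mapIso e₁.symm) (hI (-k)).1)
    rwa [neg_neg] at h
  · refine (quasiIso_G_map_iff τ₃.unop).1 ?_
    rw [Quiver.Hom.op_unop, Functor.map_preimage]
    infer_instance
  · refine (quasiIso_G_map_iff τ₂.unop).1 ?_
    rw [Quiver.Hom.op_unop, Functor.map_preimage]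
    infer_instance
  · refine (quasiIso_G_map_iff τ₁.unop).1 ?_
    rw [Quiver.Hom.op_unop, Functor.map_preimage]
    infer_instance


end Groth.Agent.S6610
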