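import Groth.Statements.S6611
import Mathlib.Algebra.Homology.HomotopyCategory.KInjective
import Mathlib.Algebra.Homology.HomologySequenceLemmas
import Mathlib.Algebra.Homology.HomologicalComplexAbelian

set_option autoImplicit false
universe v u
open CategoryTheory CategoryTheory.Limits
open CohDer

namespace Groth.Agent.S6611

open CochainComplex.HomComplex in
theorem extend_aux {A : Type u} [Category.{v} A] [Abelian A]
    (S : ShortComplex (CochainComplex A ℤ)) (hS : S.ShortExact) [QuasiIso S.f]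
    (I : CochainComplex A ℤ) [I.IsKInjective] [∀ n, Injective (I.X n)] (γ : S.X₁ ⟶ I) :
    ∃ β : S.X₂ ⟶ I, S.f ≫ β = γ := by
  have hn : ∀ n : ℤ, (S.map (HomologicalComplex.eval A (ComplexShape.up ℤ) n)).ShortExact :=
    fun n => hS.map_of_exact _
  have hm : ∀ n, Mono (S.f.f n) := fun n => (hn n).mono_f
  have he : ∀ n, Epi (S.g.f n) := fun n => (hn n).epi_g
  let b : ∀ n, S.X₂.X n ⟶ I.X n := fun n => Injective.factorThru (γ.f n) (S.f.f n)
  have hb : ∀ n, S.f.f n ≫ b n = γ.f n := fun n => Injective.comp_factorThru _ _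
  have hz : ∀ p q : ℤ, p + 1 = q →
      S.f.f p ≫ (b p ≫ I.d p q - S.X₂.d p q ≫ b q) = 0 := fun p q _ => by
    rw [Preadditive.comp_sub, reassoc_of% (hb p), S.f.comm_assoc, hb q, γ.comm, sub_self]
  let z : Cochain S.X₃ I 1 := Cochain.mk fun p q hpq =>
    (hn p).gIsCokernel.desc (CokernelCofork.ofπ _ (hz p q hpq))
  have hzv : ∀ p q (hpq : p + 1 = q), S.g.f p ≫ z.v p q hpq = b p ≫ I.d p q - S.X₂.d p q ≫ b q :=
    fun p q hpq => (hn p).gIsCokernel.fac _ WalkingParallelPair.one
  have hgz : (Cochain.ofHom S.g).comp z (zero_add 1) = δ 0 1 (Cochain.ofHoms b) := by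
    ext p q hpq
    rw [Cochain.zero_cochain_comp_v, Cochain.ofHom_v, hzv, δ_zero_cochain_v, Cochain.ofHoms_v,
      Cochain.ofHoms_v]
  have hcz : δ 1 2 z = 0 := by
    have h : δ 1 2 ((Cochain.ofHom S.g).comp z (zero_add 1)) = 0 := by rw [hgz, δ_δ]
    rw [δ_ofHom_comp] at h
    ext p q hpq
    have := Cochain.congr_v h p q hpq
    rw [Cochain.zero_cochain_comp_v, Cochain.zero_v, Cochain.ofHom_v] at this
    rw [Cochain.zero_v, ← cancel_epi (S.g.f p), comp_zero]
    exact this
  obtain ⟨h, hh⟩ := CochainComplex.IsKInjective.eq_δ_of_cocycle (Cocycle.mk z 2 (by omega) hcz)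
    (hS.acyclic_X₃ inferInstance) 0 (zero_add 1)
  have hh' : δ 0 1 (Cochain.ofHoms b - (Cochain.ofHom S.g).comp h (zero_add 0)) = 0 := by
    rw [δ_sub, δ_ofHom_comp, hh, Cocycle.mk_coe, hgz, sub_self]
  refine ⟨Cocycle.homOf (Cocycle.mk (Cochain.ofHoms b - (Cochain.ofHom S.g).comp h (zero_add 0)) 1
    (zero_add 1) hh'), HomologicalComplex.hom_ext _ _ fun n => ?_⟩
  have hfg : S.f.f n ≫ S.g.f n = 0 := by
    rw [← HomologicalComplex.comp_f, S.zero, HomologicalComplex.zero_f]
  simp [hb, reassoc_of% hfg]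


/-- Let A be an abelian category, α : K ⟶ L a quasi-isomorphism of cochain complexes which is injective
in every degree, I a bounded below complex of injective objects and γ : K ⟶ I a morphism. Then there
is a morphism β : L ⟶ I with α ≫ β = γ. -/
theorem result {A : Type u} [Category.{v} A] [Abelian A]
    (K L I : CochainComplex A ℤ) (α : K ⟶ L) [QuasiIso α] (hα : ∀ n : ℤ, Mono (α.f n))
    (a : ℤ) [I.IsStrictlyGE a] (hI : ∀ n : ℤ, Injective (I.X n)) (γ : K ⟶ I) :
    ∃ β : L ⟶ I, α ≫ β = γ := by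
  have := CochainComplex.isKInjective_of_injective I a
  have : Mono α := HomologicalComplex.mono_of_mono_f _ hα
  have hS : (ShortComplex.mk α (cokernel.π α) (cokernel.condition α)).ShortExact :=
    { exact := ShortComplex.exact_cokernel α }
  exact extend_aux _ hS I γ


end Groth.Agent.S6611
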