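import Groth.Statements.S6612

set_option autoImplicit false
universe v u
open CategoryTheory CategoryTheory.Limits
open CohDer

namespace Groth.Agent.S6612

/-- Core of the argument. -/
theorem core {V : Type u} [Category.{v} V] [Preadditive V] {B₁ X₁ X₂ X₃ B₃ : CochainComplex V ℤ}
    (f : X₁ ⟶ X₂) (g : X₂ ⟶ X₃) (r : ∀ i, X₂.X i ⟶ X₁.X i) (s : ∀ i, X₃.X i ⟶ X₂.X i)
    (sg : ∀ i, s i ≫ g.f i = 𝟙 _) (fr : ∀ i, f.f i ≫ r i = 𝟙 _)
    (tot : ∀ i, r i ≫ f.f i + g.f i ≫ s i = 𝟙 _)
    (b : B₁ ⟶ X₂) (b' : X₂ ⟶ B₃) (h : Homotopy (b ≫ g) 0) (h' : Homotopy (f ≫ b') 0) :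
    Nonempty (Homotopy (b ≫ b') 0) := by
  let k : ∀ i j : ℤ, (ComplexShape.up ℤ).Rel j i → (B₁.X i ⟶ X₂.X j) := fun i j _ => h.hom i j ≫ s j
  let c := Homotopy.nullHomotopicMap' k
  have hc : Homotopy c 0 := Homotopy.nullHomotopy' k
  have hcg : c ≫ g = b ≫ g := by
    ext i
    have hi : (ComplexShape.up ℤ).Rel (i - 1) i := by simp
    have hi' : (ComplexShape.up ℤ).Rel i (i + 1) := by simp
    rw [HomologicalComplex.comp_f, Homotopy.nullHomotopicMap'_f hi hi', h.comm i,
      dNext_eq h.hom hi', prevD_eq h.hom hi, HomologicalComplex.zero_f, add_zero, Preadditive.add_comp]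
    simp only [k, Category.assoc, sg, Category.comp_id]
    rw [← g.comm (i - 1) i, reassoc_of% (sg (i - 1))]
  let b'' := b - c
  have hb'' : ∀ i, b''.f i ≫ g.f i = 0 := fun i => by
    rw [HomologicalComplex.sub_f_apply, Preadditive.sub_comp, ← HomologicalComplex.comp_f, ← HomologicalComplex.comp_f,
      hcg, sub_self]
  have hfac : ∀ i, (b''.f i ≫ r i) ≫ f.f i = b''.f i := fun i => by
    rw [Category.assoc, eq_sub_of_add_eq (tot i), Preadditive.comp_sub, ← Category.assoc, hb'' i, zero_comp, sub_zero,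
      Category.comp_id]
  let a : B₁ ⟶ X₁ :=
    { f := fun i => b''.f i ≫ r i
      comm' := fun i j hij => by
        haveI : Mono (f.f j) := mono_of_mono_fac (fr j)
        rw [← cancel_mono (f.f j), Category.assoc, ← f.comm i j, ← Category.assoc, hfac i, Category.assoc, hfac j,
          b''.comm i j] }
  have e : b = a ≫ f + c := by
    rw [show a ≫ f = b'' from HomologicalComplex.hom_ext _ _ fun i => hfac i, sub_add_cancel]
  exact ⟨(Homotopy.ofEq (by rw [e, Preadditive.add_comp, Category.assoc])).trans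
    (((h'.compLeft a).add (hc.compRight b')).trans (Homotopy.ofEq (by simp)))⟩



/-- Let A be an additive category and 0 → A₂ → B₂ → C₂ → 0 a termwise split exact sequence of complexes.
Given a chain map b from a complex B₁ into B₂ and a chain map b' from B₂ into a complex B₃, suppose
that both composites b ≫ (B₂ → C₂) and (A₂ → B₂) ≫ b' are null-homotopic. Then b ≫ b' is homotopic
to zero. (The published statement has three termwise split sequences Aᵢ → Bᵢ → Cᵢ and asks both
squares of each diagram to commute up to homotopy; this row keeps only the middle sequence and the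
two conditions at B₂ that the argument uses, so it is more general.) -/
theorem result {V : Type u} [Category.{v} V] [Preadditive V] [HasBinaryBiproducts V]
    (S : ShortComplex (CochainComplex V ℤ))
    (σ : ∀ n : ℤ, (S.map (HomologicalComplex.eval V (ComplexShape.up ℤ) n)).Splitting)
    {B₁ B₃ : CochainComplex V ℤ} (b : B₁ ⟶ S.X₂) (b' : S.X₂ ⟶ B₃)
    (hb : Nonempty (Homotopy (b ≫ S.g) 0)) (hb' : Nonempty (Homotopy (S.f ≫ b') 0)) :
    Nonempty (Homotopy (b ≫ b') 0) := by
  obtain ⟨h⟩ := hb
  obtain ⟨h'⟩ := hb'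
  exact core S.f S.g (fun i => (σ i).r) (fun i => (σ i).s) (fun i => (σ i).s_g) (fun i => (σ i).f_r) (fun i => (σ i).id)
    b b' h h'


end Groth.Agent.S6612
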