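import Groth.Statements.S6613
import Mathlib.CategoryTheory.Localization.CalculusOfFractions
import Mathlib.CategoryTheory.Localization.Equivalence

set_option autoImplicit false
universe v u v' u'
open CategoryTheory CategoryTheory.Limits
open CohDer

namespace Groth.Agent.S6613

open CategoryTheory CategoryTheory.Limits

theorem aux {D : Type u} [Category.{v} D] (P : ObjectProperty D) (S : MorphismProperty D)
    [S.HasRightCalculusOfFractions]
    {E : Type u'} [Category.{v'} E] (Q : D ⥤ E) [Q.IsLocalization S]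
    (hP : ∀ X : D, ∃ (X' : D) (s : X' ⟶ X), P X' ∧ S s) :
    (P.ι ⋙ Q).IsLocalization (S.inverseImage P.ι) := by
  let W := S.inverseImage P.ι
  haveI : W.IsMultiplicative :=
    { id_mem := fun X => by
        show S (P.ι.map (𝟙 X)); rw [P.ι.map_id]; exact S.id_mem _
      comp_mem := fun f g hf hg => by
        show S (P.ι.map (f ≫ g)); rw [P.ι.map_comp]; exact S.comp_mem _ _ hf hg }
  haveI : W.HasRightCalculusOfFractions :=
    { exists_rightFraction := fun {X Y} φ => by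
        obtain ⟨ψ, hψ⟩ := (MorphismProperty.LeftFraction.mk (W := S) (P.ι.map φ.f) (P.ι.map φ.s) φ.hs).exists_rightFraction
        obtain ⟨X', s', hX', hs'⟩ := hP ψ.X'
        refine ⟨MorphismProperty.RightFraction.mk (X' := ⟨X', hX'⟩) (ObjectProperty.homMk (s' ≫ ψ.s))
          (show S (s' ≫ ψ.s) from S.comp_mem _ _ hs' ψ.hs) (ObjectProperty.homMk (s' ≫ ψ.f)), ?_⟩
        apply P.ι.map_injective
        show (s' ≫ ψ.s) ≫ P.ι.map φ.f = (s' ≫ ψ.f) ≫ P.ι.map φ.s
        rw [Category.assoc, Category.assoc]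
        exact congrArg (s' ≫ ·) hψ
      ext := fun {X Y Y'} f₁ f₂ s hs h => by
        obtain ⟨Z, t, ht, fac⟩ := MorphismProperty.HasRightCalculusOfFractions.ext (W := S)
          (P.ι.map f₁) (P.ι.map f₂) (P.ι.map s) hs (by rw [← P.ι.map_comp, ← P.ι.map_comp, h])
        obtain ⟨Z', s', hZ', hs'⟩ := hP Z
        refine ⟨⟨Z', hZ'⟩, ObjectProperty.homMk (s' ≫ t), S.comp_mem _ _ hs' ht, ?_⟩
        apply P.ι.map_injective
        show (s' ≫ t) ≫ P.ι.map f₁ = (s' ≫ t) ≫ P.ι.map f₂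
        rw [Category.assoc, Category.assoc, fac] }
  have hW : W.IsInvertedBy (P.ι ⋙ Q) := fun A B f hf => Localization.inverts Q S _ hf
  let Φ : W.Localization ⥤ E := Localization.lift (P.ι ⋙ Q) hW W.Q
  let fac : W.Q ⋙ Φ ≅ P.ι ⋙ Q := Localization.fac (P.ι ⋙ Q) hW W.Q
  haveI : Φ.EssSurj := ⟨fun e => by
    haveI := Localization.essSurj Q S
    obtain ⟨X', s, hX', hs⟩ := hP (Q.objPreimage e)
    exact ⟨W.Q.obj ⟨X', hX'⟩, ⟨fac.app _ ≪≫ Localization.isoOfHom Q S s hs ≪≫ Q.objObjPreimageIso e⟩⟩⟩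
  haveI := Localization.essSurj W.Q W
  have hfull : ∀ (A B : P.FullSubcategory) (g : Φ.obj (W.Q.obj A) ⟶ Φ.obj (W.Q.obj B)),
      ∃ h : W.Q.obj A ⟶ W.Q.obj B, Φ.map h = g := by
    intro A B g
    obtain ⟨φ, hφ⟩ := Localization.exists_rightFraction Q S (fac.inv.app A ≫ g ≫ fac.hom.app B)
    obtain ⟨X', s', hX', hs'⟩ := hP φ.X'
    let s₀ : (⟨X', hX'⟩ : P.FullSubcategory) ⟶ A := ObjectProperty.homMk (s' ≫ φ.s)
    let f₀ : (⟨X', hX'⟩ : P.FullSubcategory) ⟶ B := ObjectProperty.homMk (s' ≫ φ.f)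
    have hs₀ : W s₀ := S.comp_mem _ _ hs' φ.hs
    haveI := Localization.inverts W.Q W s₀ hs₀
    refine ⟨inv (W.Q.map s₀) ≫ W.Q.map f₀, ?_⟩
    rw [Φ.map_comp, Φ.map_inv, IsIso.inv_comp_eq]
    rw [← cancel_mono (fac.hom.app B)]
    erw [fac.hom.naturality f₀]
    refine Eq.trans ?_ (Category.assoc _ _ _).symm
    have e : Φ.map (W.Q.map s₀) = fac.hom.app _ ≫ Q.map (s' ≫ φ.s) ≫ fac.inv.app A := by
      rw [← Category.assoc]
      exact ((Iso.comp_inv_eq (fac.app A)).mpr (fac.hom.naturality s₀).symm).symm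
    rw [e]
    erw [Category.assoc, Category.assoc, hφ]
    show _ ≫ Q.map (s' ≫ φ.f) = _
    rw [Q.map_comp, Q.map_comp, Category.assoc]
    congr 2
    exact (φ.map_s_comp_map Q (Localization.inverts Q S)).symm
  have hfaith : ∀ (A B : P.FullSubcategory) (h₁ h₂ : W.Q.obj A ⟶ W.Q.obj B),
      Φ.map h₁ = Φ.map h₂ → h₁ = h₂ := by
    intro A B h₁ h₂ e
    obtain ⟨φ₁, rfl⟩ := Localization.exists_rightFraction W.Q W h₁
    obtain ⟨φ₂, rfl⟩ := Localization.exists_rightFraction W.Q W h₂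
    obtain ⟨ψ, hψ⟩ := (MorphismProperty.LeftFraction.mk (W := W) φ₁.s φ₂.s φ₂.hs).exists_rightFraction
    change ψ.s ≫ φ₁.s = ψ.f ≫ φ₂.s at hψ
    have hu : W (ψ.s ≫ φ₁.s) := W.comp_mem _ _ ψ.hs φ₁.hs
    haveI := Localization.inverts W.Q W _ hu
    rw [← cancel_epi (W.Q.map (ψ.s ≫ φ₁.s))]
    have l₁ : W.Q.map (ψ.s ≫ φ₁.s) ≫ φ₁.map W.Q (Localization.inverts W.Q W) = W.Q.map (ψ.s ≫ φ₁.f) := by
      rw [W.Q.map_comp, W.Q.map_comp, Category.assoc, MorphismProperty.RightFraction.map_s_comp_map]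
    have l₂ : W.Q.map (ψ.s ≫ φ₁.s) ≫ φ₂.map W.Q (Localization.inverts W.Q W) = W.Q.map (ψ.f ≫ φ₂.f) := by
      rw [hψ, W.Q.map_comp, W.Q.map_comp, Category.assoc, MorphismProperty.RightFraction.map_s_comp_map]
    rw [l₁, l₂]
    have e' : Φ.map (W.Q.map (ψ.s ≫ φ₁.f)) = Φ.map (W.Q.map (ψ.f ≫ φ₂.f)) := by
      rw [← l₁, ← l₂, Φ.map_comp, Φ.map_comp, e]
    have e'' : Q.map (P.ι.map (ψ.s ≫ φ₁.f)) = Q.map (P.ι.map (ψ.f ≫ φ₂.f)) := by
      rw [← cancel_epi (fac.hom.app ψ.X')]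
      exact (fac.hom.naturality _).symm.trans ((congrArg (· ≫ fac.hom.app B) e').trans (fac.hom.naturality _))
    obtain ⟨Z, t, ht, et⟩ := (MorphismProperty.map_eq_iff_precomp Q S _ _).mp e''
    obtain ⟨Z', s', hZ', hs'⟩ := hP Z
    let t₀ : (⟨Z', hZ'⟩ : P.FullSubcategory) ⟶ ψ.X' := ObjectProperty.homMk (s' ≫ t)
    have ht₀ : W t₀ := S.comp_mem _ _ hs' ht
    haveI := Localization.inverts W.Q W t₀ ht₀
    rw [← cancel_epi (W.Q.map t₀), ← W.Q.map_comp, ← W.Q.map_comp]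
    congr 1
    apply P.ι.map_injective
    show (s' ≫ t) ≫ P.ι.map (ψ.s ≫ φ₁.f) = (s' ≫ t) ≫ P.ι.map (ψ.f ≫ φ₂.f)
    rw [Category.assoc, Category.assoc, et]
  haveI : Φ.Full := ⟨fun {X Y} g => by
    let eX := W.Q.objObjPreimageIso X
    let eY := W.Q.objObjPreimageIso Y
    obtain ⟨h, hh⟩ := hfull _ _ ((Φ.mapIso eX).hom ≫ g ≫ (Φ.mapIso eY).inv)
    exact ⟨eX.inv ≫ h ≫ eY.hom, by simp [hh, ← Φ.map_comp_assoc, ← Φ.map_comp]⟩⟩
  haveI : Φ.Faithful := ⟨fun {X Y} g₁ g₂ e => by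
    let eX := W.Q.objObjPreimageIso X
    let eY := W.Q.objObjPreimageIso Y
    rw [← cancel_epi eX.hom, ← cancel_mono eY.inv]
    exact hfaith _ _ _ _ (by simp only [Φ.map_comp, e])⟩
  haveI : Φ.IsEquivalence := {}
  exact Functor.IsLocalization.of_equivalence_target W.Q W (P.ι ⋙ Q) Φ.asEquivalence fac


/-- Let D be a pretriangulated category, D' ⊂ D a full pretriangulated subcategory, S a saturated
multiplicative system of D compatible with the triangulated structure and Q : D → S⁻¹D the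
localization. Assume every X in D admits some s : X' ⟶ X in S with X' in D'. Then, with S' = S ∩
Arrows(D'), the functor (S')⁻¹D' → S⁻¹D is an equivalence; equivalently the composite D' → D → S⁻¹D
is a localization of D' at S'. (The published result additionally claims that the intersection S' =
S ∩ Arrows(D') forms a multiplicative system on D' which is saturated and respects the triangulated
structure of D'; this row asserts only the localization property.) -/
theorem result {D : Type u} [Category.{v} D] [Preadditive D] [HasZeroObject D] [HasShift D ℤ]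
    [∀ n : ℤ, (shiftFunctor D n).Additive] [Pretriangulated D]
    (P : ObjectProperty D) [P.IsTriangulated]
    (S : MorphismProperty D) [S.HasLeftCalculusOfFractions] [S.HasRightCalculusOfFractions] [S.IsCompatibleWithTriangulation]
    {E : Type u'} [Category.{v'} E] (Q : D ⥤ E) [Q.IsLocalization S]
    (hsat : ∀ {X Y : D} (f : X ⟶ Y), IsIso (Q.map f) → S f)
    (hP : ∀ X : D, ∃ (X' : D) (s : X' ⟶ X), P X' ∧ S s) :
    (P.ι ⋙ Q).IsLocalization (S.inverseImage P.ι) := by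
  exact aux P S Q hP


end Groth.Agent.S6613
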