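import Groth.Statements.S6614
import Groth.Agent.Lib.ProTri8.Basic

set_option autoImplicit false
universe v u
open CategoryTheory CategoryTheory.Limits Opposite
open CohDer

namespace Groth.Agent.S6614

open CategoryTheory.Pretriangulated in
/-- A split monomorphism in a pretriangulated category has a complement. -/
theorem exists_complement {D : Type u} [Category.{v} D] [Preadditive D] [HasZeroObject D] [HasShift D ℤ]
    [∀ n : ℤ, (shiftFunctor D n).Additive] [Pretriangulated D] {A X : D} (c : A ⟶ X) (r : X ⟶ A) (h : c ≫ r = 𝟙 A) :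
    ∃ (Z : D) (p : X ⟶ Z) (q : Z ⟶ X), q ≫ p = 𝟙 Z ∧ r ≫ c + p ≫ q = 𝟙 X ∧ c ≫ p = 0 ∧ q ≫ r = 0 := by
  obtain ⟨Z, q, δ, hT⟩ := Pretriangulated.distinguished_cocone_triangle₁ r
  haveI : Epi r := epi_of_epi_fac h
  have hδ : δ = 0 := (cancel_epi r).1 ((comp_distTriang_mor_zero₂₃ _ hT).trans comp_zero.symm)
  obtain ⟨(e : X ≅ Z ⊞ A), he₁, he₂⟩ := exists_iso_binaryBiproduct_of_distTriang (Triangle.mk q r δ) hT hδ
  have hqr : q ≫ r = 0 := comp_distTriang_mor_zero₁₂ _ hT
  have h1 : q ≫ e.hom = biprod.inl := he₁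
  have h2 : r = e.hom ≫ biprod.snd := he₂
  refine ⟨Z, (𝟙 X - r ≫ c) ≫ e.hom ≫ biprod.fst, q, ?_, ?_, ?_, hqr⟩
  · rw [Preadditive.sub_comp, Category.id_comp, Preadditive.comp_sub, Category.assoc, ← Category.assoc q r, hqr,
      zero_comp, sub_zero, reassoc_of% h1, biprod.inl_fst]
  · have h3 : (e.hom ≫ biprod.fst) ≫ q = 𝟙 X - r ≫ biprod.inr ≫ e.inv := by
      rw [← cancel_mono e.hom, Category.assoc, h1, Preadditive.sub_comp, Category.id_comp, Category.assoc,
        Category.assoc, Category.assoc, e.inv_hom_id, Category.comp_id, h2, Category.assoc, eq_sub_iff_add_eq,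
        ← Preadditive.comp_add, biprod.total, Category.comp_id]
    rw [Category.assoc, h3, Preadditive.comp_sub, Category.comp_id, ← Category.assoc, Preadditive.sub_comp,
      Category.id_comp, Category.assoc, h, Category.comp_id, sub_self, zero_comp, sub_zero, add_sub_cancel]
  · rw [← Category.assoc, Preadditive.comp_sub, Category.comp_id, ← Category.assoc c r, h, Category.id_comp,
      sub_self, zero_comp]



/-- Let D be a triangulated category and (A_n) an ℕ-indexed inverse system of D which is essentially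
constant with value A relative to the cone c. Then there are an index i and direct sum
decompositions A_{i+j} ≅ A ⊞ Z_j (j ≥ 0) such that (a) c_{i+j} is the inclusion of the summand A and
the transition maps A_{i+k} → A_{i+j} are 𝟙_A ⊕ (Z_k → Z_j), and (b) for every j there is k ≥ j with
Z_k → Z_j zero. (The published statement is an equivalence whose converse is given without proof;
this row states only the forward implication.) -/
theorem result {D : Type u} [Category.{v} D] [Preadditive D] [HasZeroObject D] [HasShift D ℤ]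
    [∀ n : ℤ, (shiftFunctor D n).Additive] [Pretriangulated D] [IsTriangulated D]
    (X : ARSys.PS D) (A : D) (c : (Functor.const ℕᵒᵖ).obj A ⟶ X) (hX : DerCA.IsEssConstant X A c) :
    ∃ (i : ℕ) (Z : ℕ → D) (e : ∀ j : ℕ, X.obj (op (i + j)) ≅ A ⊞ Z j) (z : ∀ j k : ℕ, j ≤ k → (Z k ⟶ Z j)),
      (∀ j : ℕ, c.app (op (i + j)) ≫ (e j).hom = biprod.inl) ∧
      (∀ (j k : ℕ) (hjk : j ≤ k), (e k).inv ≫ ARSys.tr X (Nat.add_le_add_left hjk i) = biprod.map (𝟙 A) (z j k hjk) ≫ (e j).inv) ∧
      (∀ j : ℕ, ∃ (k : ℕ) (hjk : j ≤ k), z j k hjk = 0) := by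
  obtain ⟨i, s, hs, hj⟩ := hX
  have hr : ∀ j : ℕ, c.app (op (i + j)) ≫ ARSys.tr X (Nat.le_add_right i j) ≫ s = 𝟙 A := fun j => by
    rw [← Category.assoc, ProTri8.cone_tr, hs]
  choose Z p q hqp htot hcp hqr using fun j => exists_complement _ _ (hr j)
  let e : ∀ j : ℕ, X.obj (op (i + j)) ≅ A ⊞ Z j := fun j =>
    { hom := biprod.lift (ARSys.tr X (Nat.le_add_right i j) ≫ s) (p j)
      inv := biprod.desc (c.app (op (i + j))) (q j)
      hom_inv_id := by rw [biprod.lift_desc]; exact htot j
      inv_hom_id := by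
        apply biprod.hom_ext' <;> apply biprod.hom_ext <;> simp only [Category.assoc, biprod.inl_desc_assoc,
          biprod.inr_desc_assoc, biprod.lift_fst, biprod.lift_snd, Category.comp_id, biprod.inl_fst, biprod.inl_snd,
          biprod.inr_fst, biprod.inr_snd]
        · exact hr j
        · exact hcp j
        · exact hqr j
        · exact hqp j }
  refine ⟨i, Z, e, fun j k h => q k ≫ ARSys.tr X (Nat.add_le_add_left h i) ≫ p j, fun j => ?_, fun j k h => ?_,
    fun j => ?_⟩
  · show c.app (op (i + j)) ≫ biprod.lift _ (p j) = _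
    apply biprod.hom_ext <;> simp only [Category.assoc, biprod.lift_fst, biprod.lift_snd, biprod.inl_fst, biprod.inl_snd]
    · exact (hr j).trans biprod.inl_fst.symm
    · exact (hcp j).trans biprod.inl_snd.symm
  · haveI : IsIso (e j).hom := (e j).isIso_hom
    rw [← cancel_mono (e j).hom, Category.assoc, Category.assoc, Iso.inv_hom_id, Category.comp_id]
    show biprod.desc _ (q k) ≫ ARSys.tr X _ ≫ biprod.lift _ (p j) = _
    apply biprod.hom_ext' <;> apply biprod.hom_ext <;> simp only [Category.assoc, biprod.inl_desc_assoc,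
      biprod.inr_desc_assoc, biprod.lift_fst, biprod.lift_snd, biprod.map_fst, biprod.map_snd, Category.comp_id,
      biprod.inl_fst, biprod.inl_snd, biprod.inr_fst, biprod.inr_snd, biprod.inl_fst_assoc, biprod.inl_snd_assoc,
      biprod.inr_fst_assoc, biprod.inr_snd_assoc, zero_comp, comp_zero]
    · rw [← Category.assoc, ProTri8.cone_tr]
      exact hr j
    · rw [← Category.assoc, ProTri8.cone_tr]
      exact hcp j
    · rw [← Category.assoc (ARSys.tr X _), ProTri8.tr_tr]
      exact hqr k
  · obtain ⟨k, hi, hk, h'⟩ := hj (i + j)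
    obtain ⟨l, rfl⟩ : ∃ l, k = i + l := ⟨k - i, by omega⟩
    refine ⟨l, by omega, ?_⟩
    show q l ≫ ARSys.tr X hk ≫ p j = 0
    rw [h']
    simp only [Category.assoc, hcp, comp_zero]


end Groth.Agent.S6614
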