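import Groth.Statements.S6617
import Groth.Agent.S6598

set_option autoImplicit false
universe v u
open CategoryTheory CategoryTheory.Limits
open CohDer

namespace Groth.Agent.S6617


/-- Let A be an additive category and A₀ → A₁ → A₂ → … a sequence of composable morphisms of complexes.
There are complexes Bᵢ, homotopy equivalences Bᵢ ⟶ Aᵢ and termwise split injections Bᵢ ⟶ Bᵢ₊₁
forming a commutative ladder over the given sequence. Moreover if all Aᵢ are bounded below, resp.
bounded above, then the Bᵢ may be chosen bounded below, resp. bounded above. (The published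
statement is for finite sequences A₁ → … → A_n; this row takes a sequence indexed by ℕ, built by the
same step-by-step construction.) -/
theorem result {V : Type u} [Category.{v} V] [Preadditive V] [HasBinaryBiproducts V] [HasZeroObject V]
    (X : ℕ → CochainComplex V ℤ) (a : ∀ i, X i ⟶ X (i + 1)) :
    ∃ (B : ℕ → CochainComplex V ℤ) (b : ∀ i, B i ⟶ B (i + 1)) (e : ∀ i, HomotopyEquiv (B i) (X i)),
      (∀ i, b i ≫ (e (i + 1)).hom = (e i).hom ≫ a i) ∧
      (∀ (i : ℕ) (n : ℤ), ∃ (C : V) (ε : (B (i + 1)).X n ≅ (B i).X n ⊞ C), (b i).f n ≫ ε.hom = biprod.inl) ∧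
      ((∀ i, ∃ m : ℤ, (X i).IsStrictlyGE m) → ∀ i, ∃ m : ℤ, (B i).IsStrictlyGE m) ∧
      ((∀ i, ∃ m : ℤ, (X i).IsStrictlyLE m) → ∀ i, ∃ m : ℤ, (B i).IsStrictlyLE m) := by
  classical
  choose F α' π s h1 h2 h3 h4 h5 h6 using fun (p : (L : CochainComplex V ℤ) × (K : CochainComplex V ℤ) × (K ⟶ L)) =>
    Groth.Agent.S6598.result p.2.1 p.1 p.2.2
  let st : ∀ i, (B : CochainComplex V ℤ) × HomotopyEquiv B (X i) := fun i =>
    Nat.rec (motive := fun i => (B : CochainComplex V ℤ) × HomotopyEquiv B (X i)) ⟨X 0, HomotopyEquiv.refl _⟩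
      (fun i r => ⟨F ⟨X (i + 1), r.1, r.2.hom ≫ a i⟩,
        { hom := π ⟨X (i + 1), r.1, r.2.hom ≫ a i⟩
          inv := s ⟨X (i + 1), r.1, r.2.hom ≫ a i⟩
          homotopyHomInvId := (h3 ⟨X (i + 1), r.1, r.2.hom ≫ a i⟩).some
          homotopyInvHomId := Homotopy.ofEq (h2 ⟨X (i + 1), r.1, r.2.hom ≫ a i⟩) }⟩) i
  refine ⟨fun i => (st i).1, fun i => α' ⟨X (i + 1), (st i).1, (st i).2.hom ≫ a i⟩, fun i => (st i).2,
    fun i => h1 ⟨X (i + 1), (st i).1, (st i).2.hom ≫ a i⟩, fun i n => h4 ⟨X (i + 1), (st i).1, (st i).2.hom ≫ a i⟩ n,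
    fun h i => ?_, fun h i => ?_⟩
  · induction i with
    | zero => exact h 0
    | succ i ih =>
      obtain ⟨m, hm⟩ := ih
      obtain ⟨m', hm'⟩ := h (i + 1)
      exact h5 ⟨X (i + 1), (st i).1, (st i).2.hom ≫ a i⟩ (min m m')
        ((st i).1.isStrictlyGE_of_ge _ m (min_le_left _ _)) ((X (i + 1)).isStrictlyGE_of_ge _ m' (min_le_right _ _))
  · induction i with
    | zero => exact h 0
    | succ i ih =>
      obtain ⟨m, hm⟩ := ih
      obtain ⟨m', hm'⟩ := h (i + 1)
      exact h6 ⟨X (i + 1), (st i).1, (st i).2.hom ≫ a i⟩ (max m m')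
        ((st i).1.isStrictlyLE_of_le m _ (le_max_left _ _)) ((X (i + 1)).isStrictlyLE_of_le m' _ (le_max_right _ _))


end Groth.Agent.S6617
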