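import Groth.Statements.S6622

set_option autoImplicit false
universe v u
open CategoryTheory CategoryTheory.Limits
open CohDer

namespace Groth.Agent.S6622
open CategoryTheory CategoryTheory.Limits
open scoped ZeroObject



/-- Let A be an additive category. The full subcategories K⁻(A) (complexes K with Kⁿ = 0 for n ≫ 0) and
Kᵇ(A) (Kⁿ = 0 for |n| ≫ 0) of the homotopy category K(A) are full triangulated subcategories. -/
theorem result {V : Type u} [Category.{v} V] [Preadditive V] [HasZeroObject V] [HasBinaryBiproducts V] :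
    (ObjectProperty.IsTriangulated (fun K : HomotopyCategory V (ComplexShape.up ℤ) => ∃ n : ℤ, CochainComplex.IsStrictlyLE K.as n)) ∧
    (ObjectProperty.IsTriangulated (fun K : HomotopyCategory V (ComplexShape.up ℤ) =>
      ∃ a b : ℤ, CochainComplex.IsStrictlyGE K.as a ∧ CochainComplex.IsStrictlyLE K.as b)) := by
  have hcone : ∀ {K L : CochainComplex V ℤ} (φ : K ⟶ L),
      (∀ n, K.IsStrictlyLE n → L.IsStrictlyLE n → (CochainComplex.mappingCone φ).IsStrictlyLE n) ∧
      (∀ n, K.IsStrictlyGE n → L.IsStrictlyGE n → (CochainComplex.mappingCone φ).IsStrictlyGE (n - 1)) := by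
    intro K L φ
    refine ⟨fun n h1 h2 => ?_, fun n h1 h2 => ?_⟩
    · rw [CochainComplex.isStrictlyLE_iff]
      intro i hi
      rw [IsZero.iff_id_eq_zero, CochainComplex.mappingCone.ext_to_iff φ i (i + 1) rfl]
      exact ⟨(K.isZero_of_isStrictlyLE n _ (by omega)).eq_of_tgt _ _,
        (L.isZero_of_isStrictlyLE n _ (by omega)).eq_of_tgt _ _⟩
    · rw [CochainComplex.isStrictlyGE_iff]
      intro i hi
      rw [IsZero.iff_id_eq_zero, CochainComplex.mappingCone.ext_to_iff φ i (i + 1) rfl]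
      exact ⟨(K.isZero_of_isStrictlyGE n _ (by omega)).eq_of_tgt _ _,
        (L.isZero_of_isStrictlyGE n _ (by omega)).eq_of_tgt _ _⟩
  have hsh : ∀ (K : HomotopyCategory V (ComplexShape.up ℤ)) (a : ℤ), (K⟦a⟧).as = K.as⟦a⟧ := fun K a =>
    congrArg CategoryTheory.Quotient.as (CategoryTheory.Quotient.functor_obj_shift (r := homotopic V (ComplexShape.up ℤ)) (X := K.as) (n := a))
  have mk : ∀ (P : CochainComplex V ℤ → Prop), (∃ K, IsZero K ∧ P K) → (∀ K (a : ℤ), P K → P (K⟦a⟧)) →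
      (∀ {K L : CochainComplex V ℤ} (φ : K ⟶ L), P K → P L → P (CochainComplex.mappingCone φ)) →
      ObjectProperty.IsTriangulated (fun K : HomotopyCategory V (ComplexShape.up ℤ) => P K.as) := by
    intro P h0 hs hc
    haveI : ObjectProperty.ContainsZero (fun K : HomotopyCategory V (ComplexShape.up ℤ) => P K.as) := by
      obtain ⟨K, hK, hP⟩ := h0
      exact ⟨⟨(HomotopyCategory.quotient V (ComplexShape.up ℤ)).obj K, Functor.map_isZero _ hK, hP⟩⟩
    haveI : ObjectProperty.IsStableUnderShift (fun K : HomotopyCategory V (ComplexShape.up ℤ) => P K.as) ℤ :=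
      ⟨fun a => ⟨fun K hK => show P (K⟦a⟧).as from (hsh K a).symm ▸ hs K.as a hK⟩⟩
    haveI : ObjectProperty.IsTriangulatedClosed₂ (fun K : HomotopyCategory V (ComplexShape.up ℤ) => P K.as) := by
      refine ⟨fun T hT h1 h3 => ?_⟩
      have hT' := Pretriangulated.inv_rot_of_distTriang _ hT
      have h3' : P ((T.obj₃⟦(-1 : ℤ)⟧).as) := (hsh T.obj₃ (-1)).symm ▸ hs T.obj₃.as (-1) h3
      obtain ⟨φ, hφ⟩ := (HomotopyCategory.quotient V (ComplexShape.up ℤ)).map_surjective
        (X := (T.obj₃⟦(-1 : ℤ)⟧).as) (Y := T.obj₁.as) T.invRotate.mor₁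
      exact ⟨(HomotopyCategory.quotient V (ComplexShape.up ℤ)).obj (CochainComplex.mappingCone φ),
        hc φ h3' h1, ⟨Pretriangulated.Triangle.π₃.mapIso (Pretriangulated.isoTriangleOfIso₁₂ _ _ hT'
          (HomotopyCategory.mappingCone_triangleh_distinguished φ) (Iso.refl _) (Iso.refl _)
          (by
            show T.invRotate.mor₁ ≫ 𝟙 _ = 𝟙 _ ≫ (HomotopyCategory.quotient V (ComplexShape.up ℤ)).map φ
            exact (Category.comp_id _).trans (hφ.symm.trans (Category.id_comp _).symm)))⟩⟩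
    exact {}
  have hz : ∀ n : ℤ, (0 : CochainComplex V ℤ).IsStrictlyLE n ∧ (0 : CochainComplex V ℤ).IsStrictlyGE n := fun n =>
    ⟨(CochainComplex.isStrictlyLE_iff _ _).2 fun i _ => Functor.map_isZero (HomologicalComplex.eval _ _ i) (isZero_zero _),
      (CochainComplex.isStrictlyGE_iff _ _).2 fun i _ => Functor.map_isZero (HomologicalComplex.eval _ _ i) (isZero_zero _)⟩
  refine ⟨mk (fun K => ∃ n : ℤ, K.IsStrictlyLE n) ⟨(0 : CochainComplex V ℤ), isZero_zero _, 0, (hz 0).1⟩ ?_ ?_,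
    mk (fun K => ∃ a b : ℤ, K.IsStrictlyGE a ∧ K.IsStrictlyLE b) ⟨(0 : CochainComplex V ℤ), isZero_zero _, 0, 0, (hz 0).2, (hz 0).1⟩ ?_ ?_⟩
  · rintro K a ⟨n, hn⟩
    exact ⟨n - a, K.isStrictlyLE_shift n a _ (by omega)⟩
  · rintro K L φ ⟨n, hn⟩ ⟨m, hm⟩
    exact ⟨max n m, (hcone φ).1 _ (K.isStrictlyLE_of_le n _ (le_max_left _ _)) (L.isStrictlyLE_of_le m _ (le_max_right _ _))⟩
  · rintro K s ⟨a, b, ha, hb⟩
    exact ⟨a - s, b - s, K.isStrictlyGE_shift a s _ (by omega), K.isStrictlyLE_shift b s _ (by omega)⟩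
  · rintro K L φ ⟨a, b, ha, hb⟩ ⟨c, d, hc, hd⟩
    exact ⟨min a c - 1, max b d,
      (hcone φ).2 _ (K.isStrictlyGE_of_ge _ a (min_le_left _ _)) (L.isStrictlyGE_of_ge _ c (min_le_right _ _)),
      (hcone φ).1 _ (K.isStrictlyLE_of_le b _ (le_max_left _ _)) (L.isStrictlyLE_of_le d _ (le_max_right _ _))⟩


end Groth.Agent.S6622
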