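import Groth.Statements.S6625
import Groth.Agent.Lib.RFPlus.Adapted
import Groth.Agent.Lib.ClassRes.Basic
import Groth.Agent.S6611

set_option autoImplicit false
universe w w' v v' u u'
open CategoryTheory CategoryTheory.Limits
open CohDer

namespace Groth.Agent.S6625

open Groth.Agent.RFPlus in
theorem aux {A : Type u} [Category.{v} A] [Abelian A] [HasDerivedCategory.{w} A] [EnoughInjectives A]
    {B : Type u'} [Category.{v'} B] [Abelian B] [HasDerivedCategory.{w'} B]
    (F : A ⥤ B) [F.Additive] (I : ObjectProperty A)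
    (h1 : ∀ X : A, ∃ (Y : A) (ι : X ⟶ Y), I Y ∧ Mono ι)
    (h2 : ∀ S : ShortComplex A, S.ShortExact → I S.X₁ → I S.X₂ → I S.X₃ ∧ (S.map F).ShortExact)
    (X : A) (hX : I X) :
    IsIso (F.rightDerivedFunctorPlusUnit.app ((HomotopyCategory.Plus.quotient A).obj (sing X))) := by
  have h0 : ∀ Z : A, IsZero Z → I Z := fun Z hZ =>
    (h2 (ShortComplex.mk (𝟙 X) (0 : X ⟶ Z) comp_zero)
      { exact := (ShortComplex.exact_iff_epi _ rfl).2 inferInstance
        epi_g := ⟨fun _ _ _ => hZ.eq_of_src _ _⟩ } hX hX).1
  let R := injectiveResolution X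
  obtain ⟨L, u, hL, hLI, hu, hqu⟩ := Groth.Agent.ClassRes.exists_resolution_mono
    (I := fun Y => I Y) ⟨_, isZero_zero A, h0 _ (isZero_zero A)⟩ h1 R.cochainComplex 0
  obtain ⟨r, hr⟩ := Groth.Agent.S6611.result R.cochainComplex L R.cochainComplex u hu 0
    (fun n => inferInstance) (𝟙 _)
  let j : (HomologicalComplex.single A (ComplexShape.up ℤ) 0).obj X ⟶ L := R.ι' ≫ u
  have hqj : QuasiIso j := inferInstanceAs (QuasiIso (R.ι' ≫ u))
  let m : X ⟶ L.X 0 :=
    (HomologicalComplex.singleObjXSelf (ComplexShape.up ℤ) 0 X).inv ≫ j.f 0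
  have hm : Mono m := by
    have := hu 0
    have hι : Mono (R.ι'.f 0) := by
      rw [R.ι'_f_zero]
      exact @mono_comp _ _ _ _ _ _ inferInstance _ (@mono_comp _ _ _ _ _ _ (inferInstance : Mono (R.ι.f 0)) _ inferInstance)
    have hj : Mono (j.f 0) := @mono_comp _ _ _ _ _ (R.ι'.f 0) hι (u.f 0) (hu 0)
    exact @mono_comp _ _ _ _ _ _ inferInstance (j.f 0) hj
  have hd : ((HomologicalComplex.single A (ComplexShape.up ℤ) 0).obj X).d 0 1 = 0 :=
    HomologicalComplex.single_obj_d _ _ _ _ _
  have w : m ≫ L.d 0 (0 + 1) = 0 := by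
    rw [Category.assoc, j.comm]
    erw [hd]
    rw [zero_comp, comp_zero]
  have hsing : ∀ k : ℤ, k ≠ 0 → IsZero (((HomologicalComplex.single A (ComplexShape.up ℤ) 0).obj X).X k) :=
    fun k hk => HomologicalComplex.isZero_single_obj_X _ _ _ _ hk
  have hd0 : L.d (-1) 0 = 0 := (L.isZero_of_isStrictlyGE 0 (-1) (by omega)).eq_of_src _ _
  have hex0 : (ShortComplex.mk m (L.d 0 (0 + 1)) w).Exact := by
    rw [ShortComplex.exact_iff_exact_up_to_refinements]
    intro W y hy
    have hi : IsIso (HomologicalComplex.homologyMap j 0) := inferInstance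
    have he : Epi (HomologicalComplex.homologyMap j 0) := inferInstance
    rw [HomologicalComplex.epi_homologyMap_iff_up_to_refinements j (-1) 0 (0 + 1) (by simp) (by simp)] at he
    obtain ⟨W', p, hp, x, -, y₁, h⟩ := he y hy
    refine ⟨W', p, hp, x ≫ (HomologicalComplex.singleObjXSelf (ComplexShape.up ℤ) 0 X).hom, ?_⟩
    rw [h, hd0, comp_zero, add_zero]
    change x ≫ j.f 0 = (x ≫ _) ≫ _ ≫ j.f 0
    erw [Category.assoc, Iso.hom_inv_id_assoc]
  have hex : ∀ k : ℤ, 0 < k → L.ExactAt k := fun k hk => by
    rw [← quasiIsoAt_iff_exactAt j k (ShortComplex.exact_of_isZero_X₂ _ (hsing k (by omega)))]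
    infer_instance
  obtain ⟨hFm, ⟨wF, hFex⟩, hFL⟩ := classExact_map F (fun Y => I Y) h2 L 0 m w hex0 hX
    (fun k _ => hLI k) hex
  let G := F.mapHomologicalComplex (ComplexShape.up ℤ)
  have hFsing : ∀ k : ℤ, k ≠ 0 → ((G.obj ((HomologicalComplex.single A (ComplexShape.up ℤ) 0).obj X))).ExactAt k :=
    fun k hk => ShortComplex.exact_of_isZero_X₂ _ (F.map_isZero (hsing k hk))
  have hFj : QuasiIso (G.map j) := by
    rw [quasiIso_iff]
    intro k
    rcases lt_trichotomy k 0 with hk | rfl | hk
    · rw [quasiIsoAt_iff_exactAt _ _ (hFsing k (by omega))]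
      exact ShortComplex.exact_of_isZero_X₂ _ (F.map_isZero (L.isZero_of_isStrictlyGE 0 k hk))
    · rw [quasiIsoAt_iff_isIso_homologyMap]
      have hdF : (G.obj L).d (-1) 0 = 0 := (congrArg F.map hd0).trans (F.map_zero _ _)
      have hmn : F.map ((HomologicalComplex.singleObjXSelf (ComplexShape.up ℤ) 0 X).hom) ≫ F.map m =
          (G.map j).f 0 := by
        rw [← F.map_comp]
        simp only [m, G, Functor.mapHomologicalComplex_map_f]
        erw [Iso.hom_inv_id_assoc]
      have hmono : Mono (HomologicalComplex.homologyMap (G.map j) 0) := by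
        rw [HomologicalComplex.mono_homologyMap_iff_up_to_refinements _ (-1) 0 (0 + 1) (by simp) (by simp)]
        intro W x hx y hy
        rw [hdF, comp_zero, ← hmn] at hy
        have hx0 : x = 0 := by
          have := zero_of_comp_mono (F.map m) ((Category.assoc _ _ _).trans hy)
          exact (cancel_mono (F.map (HomologicalComplex.singleObjXSelf (ComplexShape.up ℤ) 0 X).hom)).1
            (this.trans zero_comp.symm)
        exact ⟨W, 𝟙 W, inferInstance, 0, by rw [hx0]; simp⟩
      have hepi : Epi (HomologicalComplex.homologyMap (G.map j) 0) := by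
        rw [HomologicalComplex.epi_homologyMap_iff_up_to_refinements _ (-1) 0 (0 + 1) (by simp) (by simp)]
        intro W y hy
        obtain ⟨W', p, hp, x, hx⟩ := hFex.exact_up_to_refinements y hy
        refine ⟨W', p, hp, x ≫ F.map ((HomologicalComplex.singleObjXSelf (ComplexShape.up ℤ) 0 X).inv),
          ?_, 0, ?_⟩
        · rw [Category.assoc]
          change x ≫ _ ≫ F.map (((HomologicalComplex.single A (ComplexShape.up ℤ) 0).obj X).d 0 1) = 0
          erw [hd]
          rw [F.map_zero, comp_zero, comp_zero]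
        · rw [hdF, comp_zero, add_zero, ← hmn]
          refine hx.trans ?_
          erw [Category.assoc, ← F.map_comp_assoc, Iso.inv_hom_id, F.map_id, Category.id_comp]
          rfl
      exact isIso_of_mono_of_epi _
    · rw [quasiIsoAt_iff_exactAt _ _ (hFsing k (by omega))]
      exact hFL k hk
  rw [isIso_unit_iff F (resAug R), quasiIso_iff]
  intro k
  change QuasiIsoAt (G.map R.ι') k
  rw [quasiIsoAt_iff_isIso_homologyMap]
  have e1 : IsIso (HomologicalComplex.homologyMap (G.map R.ι') k ≫
      HomologicalComplex.homologyMap (G.map u) k) := by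
    rw [← HomologicalComplex.homologyMap_comp, ← G.map_comp]
    exact (inferInstance : IsIso (HomologicalComplex.homologyMap (G.map j) k))
  have e2 : HomologicalComplex.homologyMap (G.map u) k ≫ HomologicalComplex.homologyMap (G.map r) k =
      𝟙 _ := by
    rw [← HomologicalComplex.homologyMap_comp, ← G.map_comp, hr, G.map_id,
      HomologicalComplex.homologyMap_id]
  have e3 : HomologicalComplex.homologyMap (G.map r) k ≫ HomologicalComplex.homologyMap (G.map u) k =
      𝟙 _ := by
    rw [← cancel_epi (HomologicalComplex.homologyMap (G.map R.ι') k ≫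
      HomologicalComplex.homologyMap (G.map u) k), Category.assoc, reassoc_of% e2, Category.comp_id]
  have : IsIso (HomologicalComplex.homologyMap (G.map u) k) := ⟨_, e2, e3⟩
  exact IsIso.of_isIso_comp_right _ (HomologicalComplex.homologyMap (G.map u) k)


/-- In the case where A has enough injectives: let F : A ⥤ B be an additive functor between abelian
categories, A with enough injectives, and I a class of objects of A such that (1) each object of A
embeds by a monomorphism into some object of I, and (2) whenever 0 → P → Q → R → 0 is a short exact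
sequence whose terms P and Q lie in I, the third term R also lies in I, and applying F to the
sequence yields a short exact sequence in B. Under these assumptions, each X belonging to I is right
acyclic for F, meaning the map F(X)[0] ⟶ RF(X[0]) is an isomorphism. -/
theorem result {A : Type u} [Category.{v} A] [Abelian A] [HasDerivedCategory.{w} A] [EnoughInjectives A]
    {B : Type u'} [Category.{v'} B] [Abelian B] [HasDerivedCategory.{w'} B]
    (F : A ⥤ B) [F.Additive] (I : ObjectProperty A)
    (h1 : ∀ X : A, ∃ (Y : A) (ι : X ⟶ Y), I Y ∧ Mono ι)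
    (h2 : ∀ S : ShortComplex A, S.ShortExact → I S.X₁ → I S.X₂ → I S.X₃ ∧ (S.map F).ShortExact)
    (X : A) (hX : I X) :
    IsIso (F.rightDerivedFunctorPlusUnit.app ((HomotopyCategory.Plus.singleFunctor A 0).obj X)) := by
  exact aux F I h1 h2 X hX


end Groth.Agent.S6625
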