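import Groth.Statements.S6629
import Groth.Agent.Lib.Prop24.Sheaves

set_option autoImplicit false
open CategoryTheory CategoryTheory.Limits AlgebraicGeometry Opposite
universe u
open EtDesc

namespace Groth.Agent.S6629

/-- Let f : X ⟶ Y be a morphism of schemes satisfying condition (B) (for every etale V ⟶ Y and every
etale covering of X ×_Y V there is an etale covering of V by schemes V_j such that each X ×_Y V_j is
a disjoint union of open subschemes each mapping into X ×_Y V through a member of the given
covering). Then the direct image of sheaves of sets on the small etale sites along f sends
epimorphisms to epimorphisms. -/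
theorem result {X Y : Scheme.{u}} (f : X ⟶ Y) (hB : BigSite.PropB f) :
    (EtDesc.pushSh f).PreservesEpimorphisms := by
  exact Groth.Agent.Prop24.pushSh_preservesEpimorphisms_of_propB f hB

end Groth.Agent.S6629
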