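import Groth.Statements.S6637
import Groth.Agent.Lib.BigSite16.Res

set_option autoImplicit false
open CategoryTheory CategoryTheory.Limits AlgebraicGeometry Opposite
universe u
open BigSite

namespace Groth.Agent.S6637
set_option linter.style.haveILetI false
set_option backward.isDefEq.respectTransparency false
set_option backward.isDefEq.respectTransparency.types false
open CategoryTheory CategoryTheory.Limits Opposite in
theorem aux_counit {C D : Type*} [Category C] [Category D] {F : C ⥤ D} {G : D ⥤ C} (adj : F ⊣ G)
    [F.Full] [F.Faithful] {E : Type*} [Category E] (P : Cᵒᵖ ⥤ E) :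
    IsIso ((adj.op.whiskerLeft E).counit.app P) := by
  haveI : ∀ X, IsIso (((adj.op.whiskerLeft E).counit.app P).app X) := fun X => by
    dsimp [Adjunction.whiskerLeft]
    infer_instance
  exact NatIso.isIso_of_isIso_app _


/-- For the Zariski, etale, smooth and fppf topologies: for a monomorphism of schemes f : X ⟶ Y the
counit f_big⁻¹ f_big,* F ⟶ F is an isomorphism for every sheaf of sets F on the big site of X, and
for every abelian sheaf. (The published statement also covers the syntomic topology; this row treats
the Zariski, etale, smooth and fppf topologies only.) -/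
theorem result {X Y : Scheme.{u}} (f : X ⟶ Y) [Mono f]
    (K : Precoverage Scheme.{u}) (hK : K = Scheme.zariskiPrecoverage ∨ K = Scheme.etalePrecoverage ∨
      K = Scheme.precoverage @Smooth ∨ K = Scheme.fppfPrecoverage) :
    (∀ F : QuotSh.Sh K X, IsIso ((BigSite.bigAdj K f (Type (u + 1))).counit.app F)) ∧
      (∀ F : BigSite.Ab K X, IsIso ((BigSite.bigAdj K f AddCommGrpCat.{u + 1}).counit.app F)) := by
  haveI : (Over.map f).Faithful :=
    ⟨fun {A B} g g' h => Over.OverMorphism.ext (congrArg CommaMorphism.left h :)⟩
  haveI : (Over.map f).Full :=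
    ⟨fun {A B} g => ⟨Over.homMk g.left ((cancel_mono f).1 (by
      have h := Over.w g
      simp only [Over.map_obj_hom, Category.assoc] at h ⊢
      exact h)), by ext; rfl⟩⟩
  constructor
  · intro F
    haveI : IsIso ((sheafToPresheaf _ (Type (u + 1))).map ((BigSite.bigAdj K f (Type (u + 1))).counit.app F)) :=
      aux_counit (Over.mapPullbackAdj f) F.obj
    exact isIso_of_fully_faithful (sheafToPresheaf _ (Type (u + 1))) _
  · intro F
    haveI : IsIso ((sheafToPresheaf _ AddCommGrpCat.{u + 1}).map
        ((BigSite.bigAdj K f AddCommGrpCat.{u + 1}).counit.app F)) :=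
      aux_counit (Over.mapPullbackAdj f) F.obj
    exact isIso_of_fully_faithful (sheafToPresheaf _ AddCommGrpCat.{u + 1}) _

end Groth.Agent.S6637
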