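import Groth.Statements.S6640
import Groth.Agent.Lib.LocConst24.Const
import Groth.Agent.Lib.EtStalk.Agree

set_option autoImplicit false
open CategoryTheory CategoryTheory.Limits AlgebraicGeometry Opposite
universe u
open EtCore

namespace Groth.Agent.S6640
open Groth.Agent.EtStalk Groth.Agent.LocConst24

/-- Let X be an irreducible scheme, ξ a geometric point over its generic point, A' an additive subgroup
of an abelian group A, and G an abelian sheaf on the small etale site of X with monomorphisms a :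
const A' ⟶ G and b : G ⟶ const A whose composite is the map of constant sheaves induced by the
inclusion. If the stalk of a at ξ is an isomorphism, then a is an isomorphism. -/
theorem result {X : Scheme.{u}} [IrreducibleSpace ↥X]
    {Ω : Type u} [Field Ω] [IsSepClosed Ω] (ξ : Spec (CommRingCat.of Ω) ⟶ X)
    (hξ : ξ.base default = genericPoint ↥X)
    (A : Type) [AddCommGroup A] (A' : AddSubgroup A) (G : EtCoh.Ab X)
    (a : EtCoh.const X ↥A' ⟶ G) (b : G ⟶ EtCoh.const X A) [Mono a] [Mono b]
    (hab : a ≫ b = (constantSheaf X.smallEtaleTopology AddCommGrpCat.{u + 1}).map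
      (AddCommGrpCat.ofHom (AddEquiv.ulift.symm.toAddMonoidHom.comp (A'.subtype.comp AddEquiv.ulift.toAddMonoidHom))))
    (hst : IsIso ((EtCoh.stalk ξ).map a)) : IsIso a := by
  have key : ∀ (U : X.Etale) (c : ↥A'), b.hom.app (op U) (a.hom.app (op U) (constSec X ↥A' U c)) =
      constSec X A U (c : A) := by
    intro U c
    have h := ConcreteCategory.congr_hom (congrArg (fun t : EtCoh.const X ↥A' ⟶ EtCoh.const X A =>
      t.hom.app (op U)) hab) (constSec X ↥A' U c)
    refine h.trans ?_
    exact (ConcreteCategory.congr_hom (NatTrans.congr_app (toSheafify_naturality X.smallEtaleTopology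
      ((Functor.const X.Etaleᵒᵖ).map (AddCommGrpCat.ofHom.{u + 1} ((AddEquiv.ulift.{0, u + 1} (α := A)).symm.toAddMonoidHom.comp
        (A'.subtype.comp (AddEquiv.ulift.{0, u + 1} (α := ↥A')).toAddMonoidHom))))) (op U)) (ULift.up.{u + 1} c)).symm
  have hepi : Epi a := by
    rw [epi_iff_stalk]
    intro Ω' _ _ ζ q
    obtain ⟨U, φ, s, rfl⟩ := germ_surjective ζ G q
    obtain ⟨c, hc⟩ := (bijAt_constSec X A U Ω' ζ φ).2 (germ ζ _ φ (b.hom.app (op U) s))
    obtain ⟨V, g, y, hy, he⟩ := (germ_eq_iff ζ (EtCoh.const X A) φ (constSec X A U c)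
      (b.hom.app (op U) s)).1 hc
    haveI : AlgebraicGeometry.Etale V.hom := V.prop
    have hopen : IsOpen (Set.range V.hom) := V.hom.isOpenMap.isOpen_range
    have hgen : genericPoint X ∈ Set.range V.hom :=
      ((genericPoint_spec X).mem_open_set_iff hopen).2 ⟨V.hom (fibPt y), trivial, ⟨_, rfl⟩⟩
    obtain ⟨ψ, -⟩ := Scheme.pointSmallEtaleFiberObjToPreimage_surjective ξ hξ V ⟨hgen.choose, hgen.choose_spec⟩
    obtain ⟨r, hr⟩ := (ConcreteCategory.bijective_of_isIso ((EtCoh.stalk ξ).map a)).2
      (germ ξ G ψ (G.obj.map g.op s))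
    obtain ⟨c', rfl⟩ := (bijAt_constSec X ↥A' V Ω ξ ψ).2 r
    rw [germ_nat] at hr
    have hcc : c = (c' : A) := by
      refine (bijAt_constSec X A V Ω ξ ψ).1 ?_
      have h1 := congrArg ((EtCoh.stalk ξ).map b) hr
      rw [germ_nat, germ_nat, key] at h1
      refine Eq.trans ?_ h1.symm
      rw [NatTrans.naturality_apply b.hom g.op s, ← he, constSec_res]
    refine ⟨germ ζ _ φ (constSec X ↥A' U c'), ?_⟩
    apply (mono_iff_stalk b).1 inferInstance Ω' ζ
    rw [germ_nat, germ_nat, germ_nat, key, ← hcc]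
    exact hc
  exact isIso_of_mono_of_epi a

end Groth.Agent.S6640
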