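import Groth.Statements.S6641
import Groth.Agent.Lib.FieldBr3.CurveSupp
-- import your own Groth.Agent.* helpers here

set_option autoImplicit false
open CategoryTheory CategoryTheory.Limits AlgebraicGeometry Opposite
universe u
open Curves

namespace Groth.Agent.S6641

/-- Let X be a smooth curve over an algebraically closed field k (here: X integral of dimension one,
smooth, separated and of finite type over k), and for a closed point x let i_x : Spec κ(x) ⟶ X be
its inclusion. Then H^q of the direct sum, over all closed points x, of the sheaves (i_x)_* Z (given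
here as any colimit cofan of that family) vanishes for every q ≥ 1. -/
theorem result (k : Type u) [Field k] [IsAlgClosed k] (X : Scheme.{u})
    (f : X ⟶ Spec (CommRingCat.of k)) [Smooth f] [IsSeparated f] [LocallyOfFiniteType f] [QuasiCompact f] [IsIntegral X]
    (hdim : topologicalKrullDim ↥X = 1)
    (c : Cofan fun x : {x : ↥X // IsClosed ({x} : Set ↥X)} =>
      (EtCoh.push (X.fromSpecResidueField x.1)).obj (EtCoh.const (Spec (X.residueField x.1)) ℤ))
    (hc : IsColimit c) (q : ℕ) (hq : 1 ≤ q) :
    Subsingleton (EtCoh.H X c.pt q) := by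
  haveI : IsSepClosed k := inferInstance
  refine Groth.Agent.FieldBr3.subsingleton_H_suppClosed f c.pt (fun Ω _ _ ξ hξ => ?_) hq
  have hz : ∀ x : {x : ↥X // IsClosed ({x} : Set ↥X)}, IsZero ((EtCoh.stalk ξ).obj
      ((EtCoh.push (X.fromSpecResidueField x.1)).obj (EtCoh.const (Spec (X.residueField x.1)) ℤ))) := fun x => by
    haveI : IsClosedImmersion (X.fromSpecResidueField x.1) := isClosed_singleton_iff_isClosedImmersion.1 x.2
    refine Groth.Agent.EtStalk.stalk_push_isZero (X.fromSpecResidueField x.1) _ ξ fun hm => hξ ?_
    rw [Scheme.range_fromSpecResidueField, Set.mem_singleton_iff] at hm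
    rw [hm]
    exact x.2
  refine AddCommGrpCat.subsingleton_of_isZero ((IsZero.iff_id_eq_zero _).2 ?_)
  exact (isColimitOfPreserves (EtCoh.stalk ξ) hc).hom_ext fun j => (hz j.as).eq_of_src _ _

end Groth.Agent.S6641
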