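import Groth.Statements.S6643
import Groth.Agent.Lib.EtModEps19.TensorLC
-- import your own Groth.Agent.* helpers here

set_option autoImplicit false
open CategoryTheory CategoryTheory.Limits AlgebraicGeometry Opposite
universe u
open EtModW

namespace Groth.Agent.S6643

set_option linter.style.haveILetI false
set_option backward.isDefEq.respectTransparency.types false


/-- On the small etale site of a scheme X, the tensor product over Λ of two finite type locally constant
sheaves of Λ-modules is finite type locally constant. (The published statement covers all locally
constant sheaves of Λ-modules; this row treats the finite type ones.) -/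
theorem result (Λ : Type (u + 1)) [CommRing Λ] {X : Scheme.{u}} (F G : EtModW.Mod Λ X)
    (hF : EtModW.IsFTLocConst Λ F) (hG : EtModW.IsFTLocConst Λ G) :
    EtModW.IsFTLocConst Λ (((EtModD.tensorBi Λ X).obj F).obj G) := by
  classical
  exact Groth.Agent.EtModEps19.isFTLocConst_tensor hF hG

end Groth.Agent.S6643
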