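import Groth.Statements.S6647
import Groth.Agent.Lib.LocConstGen24.HomLin

set_option autoImplicit false
open CategoryTheory CategoryTheory.Limits AlgebraicGeometry Opposite
universe u
open EtCore

namespace Groth.Agent.S6647

/-- Let φ : F ⟶ G be a map of locally constant abelian sheaves on the small etale site of a scheme X,
with F finite locally constant. Then on the members of some etale covering of X the restriction of φ
is, up to isomorphisms with constant sheaves on both sides, the map of constant sheaves induced by a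
homomorphism of abelian groups. -/
theorem result {X : Scheme.{u}} (F G : EtCoh.Ab X) (φ : F ⟶ G)
    (hF : EtCoh.IsFiniteLocallyConstant F) (hG : EtRest.IsLocallyConstant G) :
    ∃ (ι : Type u) (U : ι → X.Etale), EtCoh.Covers U ∧ ∀ i, ∃ (M N : Type (u + 1)) (_ : AddCommGroup M) (_ : AddCommGroup N)
      (h : M →+ N)
      (α : EtCoh.restr F (U i) ≅ (constantSheaf (X.smallEtaleTopology.over (U i)) AddCommGrpCat.{u + 1}).obj (AddCommGrpCat.of M))
      (β : EtCoh.restr G (U i) ≅ (constantSheaf (X.smallEtaleTopology.over (U i)) AddCommGrpCat.{u + 1}).obj (AddCommGrpCat.of N)),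
      (X.smallEtaleTopology.overPullback AddCommGrpCat.{u + 1} (U i)).map φ ≫ β.hom = α.hom ≫ (constantSheaf (X.smallEtaleTopology.over (U i)) AddCommGrpCat.{u + 1}).map (AddCommGrpCat.ofHom h) := by
  obtain ⟨ι, U, hU, hF⟩ := hF
  obtain ⟨κ, V, hV, hG⟩ := hG
  have key : ∀ x : X, ∃ (W' : X.Etale) (w : W'.left) (_ : W'.hom w = x),
      ∃ (M N : Type (u + 1)) (_ : AddCommGroup M) (_ : AddCommGroup N) (h : M →+ N)
      (α : EtCoh.restr F W' ≅ (constantSheaf (X.smallEtaleTopology.over W') AddCommGrpCat.{u + 1}).obj (AddCommGrpCat.of M))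
      (β : EtCoh.restr G W' ≅ (constantSheaf (X.smallEtaleTopology.over W') AddCommGrpCat.{u + 1}).obj (AddCommGrpCat.of N)),
      (X.smallEtaleTopology.overPullback AddCommGrpCat.{u + 1} W').map φ ≫ β.hom = α.hom ≫ (constantSheaf (X.smallEtaleTopology.over W') AddCommGrpCat.{u + 1}).map (AddCommGrpCat.ofHom h) := by
    intro x
    obtain ⟨i, hi⟩ := hU x
    obtain ⟨j, hj⟩ := hV x
    obtain ⟨W0, a, b, z, hz⟩ := Groth.Agent.LocConstGen24.exists_common (U i) (V j) hi hj
    obtain ⟨M, hM, hfin, hF'⟩ := hF i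
    obtain ⟨N, hN, hG'⟩ := hG j
    obtain ⟨eF⟩ := Groth.Agent.LocConstGen24.res_triv_of_hom AddCommGrpCat.{u + 1} a F _ hF'
    obtain ⟨eG⟩ := Groth.Agent.LocConstGen24.res_triv_of_hom AddCommGrpCat.{u + 1} b G _ hG'
    haveI : Finite (AddCommGrpCat.of (ULift.{u + 1} M)) := inferInstanceAs (Finite (ULift.{u + 1} M))
    obtain ⟨W, w, hw, h, α, β, he⟩ := Groth.Agent.LocConstGen24.exists_ab W0 z φ eF eG
    refine ⟨_, w, ?_, _, _, _, _, h.hom, α, β, he⟩
    show W0.hom (W.hom w) = x
    rw [hw, hz]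
  choose W w hw h using key
  exact ⟨X, W, fun x => ⟨x, w x, hw x⟩, h⟩

end Groth.Agent.S6647
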