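import Groth.Statements.S6648
import Groth.Agent.Lib.EtStalk.Topological
import Groth.Agent.Lib.EtStalk.Basic

set_option autoImplicit false
open CategoryTheory CategoryTheory.Limits AlgebraicGeometry Opposite
universe u
open EtCore

namespace Groth.Agent.S6648

/-- For a sheaf of (commutative) rings O on the small etale site of a scheme S, the set of points s of S
over which some geometric stalk of O is a nonzero ring is closed in S. (Rings are taken in the
universe of the schemes, as for the structure presheaf of the prelude.) -/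
theorem result {S : Scheme.{u}} (O : Sheaf S.smallEtaleTopology CommRingCat.{u}) :
    IsClosed {s : ↥S | ∃ (Ω : Type u) (_ : Field Ω) (_ : IsSepClosed Ω) (ξ : Spec (CommRingCat.of Ω) ⟶ S),
      ξ.base default = s ∧ Nontrivial ↑((Scheme.pointSmallEtale ξ).presheafFiber.obj O.obj)} := by
  constructor
  rw [isOpen_iff_forall_mem_open]
  intro s hs
  obtain ⟨⟨Ω, iΩ, hΩ, ξ, hξ⟩⟩ : Nonempty (Σ' (Ω : Type u) (_ : Field Ω) (_ : IsSepClosed Ω)
      (ξ : Spec (CommRingCat.of Ω) ⟶ S), ξ (default : Spec (CommRingCat.of Ω)) = s) :=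
    ⟨⟨_, inferInstance, inferInstance, _, Groth.Agent.EtStalk.geomPt_default s⟩⟩
  letI := iΩ
  haveI := hΩ
  have htriv : ¬ Nontrivial ↑((Scheme.pointSmallEtale ξ).presheafFiber.obj O.obj) :=
    fun h => hs ⟨Ω, iΩ, hΩ, ξ, hξ, h⟩
  let top' : Groth.Agent.EtStalk.fib ξ (EtCoh.top S) := Over.homMk ξ (Category.comp_id _)
  have he : (Scheme.pointSmallEtale ξ).toPresheafFiber (EtCoh.top S) top' O.obj 1 =
      (Scheme.pointSmallEtale ξ).toPresheafFiber (EtCoh.top S) top' O.obj 0 :=
    haveI := not_nontrivial_iff_subsingleton.1 htriv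
    Subsingleton.elim _ _
  obtain ⟨V, g, y, -, h01⟩ := (GrothendieckTopology.Point.toPresheafFiber_eq_iff'
    (Scheme.pointSmallEtale ξ) (P := O.obj) _ top' 1 0).1 he
  rw [map_one, map_zero] at h01
  haveI : AlgebraicGeometry.Etale V.hom := V.prop
  refine ⟨Set.range V.hom, ?_, V.hom.isOpenMap.isOpen_range, ?_⟩
  · rintro s' ⟨v, hv⟩ ⟨Ω', iΩ', hΩ', ξ', hξ', hnt⟩
    obtain ⟨φ, -⟩ := Scheme.pointSmallEtaleFiberObjToPreimage_surjective ξ' hξ' V ⟨v, hv⟩
    have h := congrArg ((Scheme.pointSmallEtale ξ').toPresheafFiber V φ O.obj) h01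
    rw [map_one, map_zero] at h
    exact one_ne_zero h
  · refine ⟨y.left (default : Spec (CommRingCat.of Ω)), ?_⟩
    exact ((Scheme.Hom.comp_apply _ _ _).symm.trans (congrArg (fun m : Spec (CommRingCat.of Ω) ⟶ S => m default) (Over.w y))).trans hξ

end Groth.Agent.S6648
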