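import Groth.Statements.S6649
import Groth.Agent.Lib.TsenLang.FnField
import Groth.Agent.Lib.CSAlg.Index

set_option autoImplicit false
open CategoryTheory CategoryTheory.Limits AlgebraicGeometry Opposite
universe u
open Curves

namespace Groth.Agent.S6649

/-- For a curve C over an algebraically closed field k (C integral of dimension one, separated and of
finite type over k) the Brauer group of the function field of C is zero: every finite-dimensional
central division algebra over the function field has dimension one. -/
theorem result (k : Type u) [Field k] [IsAlgClosed k] (C : Scheme.{u})
    (f : C ⟶ Spec (CommRingCat.of k)) [IsSeparated f] [LocallyOfFiniteType f] [QuasiCompact f] [IsIntegral C]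
    (hdim : topologicalKrullDim ↥C = 1)
    (D : Type u) [DivisionRing D] [Algebra ↑C.functionField D] [Algebra.IsCentral ↑C.functionField D]
    [FiniteDimensional ↑C.functionField D] : Module.finrank ↑C.functionField D = 1 := by
  exact Groth.Agent.CSAlg.finrank_eq_one_of_isCr_one (Groth.Agent.TsenLang.isCr_one_of_isCi_one
    (Groth.Agent.TsenLang.isCi_one_functionField C f hdim.le)) D

end Groth.Agent.S6649
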