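import Groth.Statements.S6652
import Groth.Agent.Lib.ProEll24.Main
import Groth.Agent.S0101
import Mathlib.CategoryTheory.Limits.Constructions.Over.Connected
import Mathlib.FieldTheory.IsAlgClosed.AlgebraicClosure

set_option autoImplicit false
open CategoryTheory CategoryTheory.Limits AlgebraicGeometry Opposite
universe u
open EtCore

namespace Groth.Agent.S6652

/-- Let ℓ be a prime, n > 0, S a quasi-compact quasi-separated scheme and X the limit (in schemes over
S) of a nonempty directed inverse system of S-schemes X_i, each finite etale over S with all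
geometric fibres of one cardinality d_i prime to ℓ; let g : X ⟶ S be the structure morphism. Call an
abelian sheaf ℓ-power torsion when every section is, etale locally around every point, killed by a
power of ℓ (the predicate T below, pinned by hT). Then for an ℓ-power torsion G on S_etale with
H^n(S, G) nonzero, g⁻¹G is ℓ-power torsion with H^n(X, g⁻¹G) nonzero; and for an ℓ-power torsion F
on X_etale with H^n(X, F) nonzero, g_*F is ℓ-power torsion with H^n(S, g_*F) nonzero. (The published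
statement is the equivalence of the two nonvanishing conditions; this row states it through the
explicit sheaves g⁻¹G and g_*F.) -/
theorem result (ℓ : ℕ) [Fact ℓ.Prime] (n : ℕ) (hn : 0 < n)
    (T : ∀ (Y : Scheme.{u}), EtCoh.Ab Y → Prop)
    (hT : ∀ (Y : Scheme.{u}) (G : EtCoh.Ab Y), T Y G ↔
      ∀ (U : Y.Etale) (s : EtCoh.sect G U) (y : ↥U.left), ∃ (V : Y.Etale) (φ : V ⟶ U),
        (∃ v : ↥V.left, φ.left.base v = y) ∧ ∃ m : ℕ, (ℓ ^ m) • G.obj.map φ.op s = 0)
    (S : Scheme.{u}) [CompactSpace ↥S] [QuasiSeparatedSpace ↥S]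
    {ι : Type u} [Preorder ι] [IsDirected ι (· ≤ ·)] [Nonempty ι] (Xs : ιᵒᵖ ⥤ Over S)
    (hfin : ∀ i, IsFinite (Xs.obj i).hom) (het : ∀ i, AlgebraicGeometry.Etale (Xs.obj i).hom)
    (d : ιᵒᵖ → ℕ) (hd : ∀ i, ℓ.Coprime (d i))
    (hdeg : ∀ (i : ιᵒᵖ) (Ω : Type u) [Field Ω] [IsAlgClosed Ω] (η : Spec (CommRingCat.of Ω) ⟶ S),
      Nat.card {t : Spec (CommRingCat.of Ω) ⟶ (Xs.obj i).left // t ≫ (Xs.obj i).hom = η} = d i)
    (c : Cone Xs) (hc : IsLimit c) :
    (∀ G : EtCoh.Ab S, T S G → Nontrivial (EtCoh.H S G n) →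
      T c.pt.left ((EtCoh.pull c.pt.hom).obj G) ∧ Nontrivial (EtCoh.H c.pt.left ((EtCoh.pull c.pt.hom).obj G) n)) ∧
    (∀ F : EtCoh.Ab c.pt.left, T c.pt.left F → Nontrivial (EtCoh.H c.pt.left F n) →
      T S ((EtCoh.push c.pt.hom).obj F) ∧ Nontrivial (EtCoh.H S ((EtCoh.push c.pt.hom).obj F) n)) := by
  haveI hP : ∀ {A B : Scheme.{u}} (f : A ⟶ B), PreservesFiniteLimits (EtCoh.pull f) := fun f => Groth.Agent.S0101.result f
  have hT' : ∀ (Y : Scheme.{u}) (G : EtCoh.Ab Y), T Y G ↔ ProEll24.LTor ℓ G := hT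
  let Ds : ιᵒᵖ ⥤ Scheme.{u} := Xs ⋙ Over.forget S
  haveI : IsConnected ιᵒᵖ := IsCofiltered.isConnected _
  have hcl : IsLimit ((Over.forget S).mapCone c) := isLimitOfPreserves (Over.forget S) hc
  let cc := (Over.forget S).mapCone c
  let b : ∀ a : ιᵒᵖ, Ds.obj a ⟶ S := fun a => (Xs.obj a).hom
  haveI : ∀ a, IsFinite (b a) := hfin
  haveI : ∀ a, AlgebraicGeometry.Etale (b a) := het
  have hw : ∀ {a a' : ιᵒᵖ} (h : a ⟶ a'), Ds.map h ≫ b a' = b a := fun h => Over.w (Xs.map h)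
  haveI haff' : ∀ {a a' : ιᵒᵖ} (h : a ⟶ a'), IsAffineHom (Ds.map h) := fun {a a'} h => by
    haveI : IsAffineHom (Ds.map h ≫ b a') := by rw [hw]; infer_instance
    exact IsAffineHom.of_comp (Ds.map h) (b a')
  have hπ : ∀ a, cc.π.app a ≫ b a = c.pt.hom := fun a => Over.w (c.π.app a)
  haveI : IsIntegralHom c.pt.hom := ProEll24.isIntegralHom_of_isLimit hcl b c.pt.hom hw hπ
  haveI : ∀ i : ι, CompactSpace ↥(Ds.obj (op i)) := fun i => QuasiCompact.compactSpace_of_compactSpace (b (op i))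
  haveI : ∀ i : ι, QuasiSeparatedSpace ↥(Ds.obj (op i)) := fun i => quasiSeparatedSpace_of_quasiSeparated (b (op i))
  refine ⟨fun G hG hne => ⟨(hT' _ _).2 (ProEll24.ltor_pull ℓ _ ((hT' _ _).1 hG)), ?_⟩,
    fun F hF hne => ⟨(hT' _ _).2 (ProEll24.ltor_push ℓ _ ((hT' _ _).1 hF)),
      (FieldH25.bijective_HofPush_integral c.pt.hom F n).2.nontrivial⟩⟩
  obtain ⟨x, hx⟩ := exists_ne (0 : EtCoh.H S G n)
  refine nontrivial_of_ne (EtCore.Hpull c.pt.hom G n x) 0 fun h0 => hx ?_
  let i : ι := Classical.arbitrary ι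
  obtain ⟨-, h₂⟩ := EtLim24.limit_base (Xs := Ds) (c := cc) (fun i => b (op i))
    (fun i j hij => hw (homOfLE hij).op) c.pt.hom (fun i => hπ (op i)) G (fun a a' h => haff' h) hcl n
  obtain ⟨j, hij, hj⟩ := h₂ i (EtCore.Hpull (b (op i)) G n x) ((ProEll24.HpullVia_Hpull _ _ _ _ G n x).trans h0)
  have hj := (ProEll24.HpullVia_Hpull _ _ _ _ G n x).symm.trans hj
  have hfr : ∀ y : S, (b (op j)).finrank y = d (op j) := fun y => by
    let K := S.residueField y
    let ξ : Spec (CommRingCat.of (AlgebraicClosure K)) ⟶ S :=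
      Spec.map (CommRingCat.ofHom (algebraMap K (AlgebraicClosure K))) ≫ S.fromSpecResidueField y
    have hy : Weight.pt ξ = y := S.fromSpecResidueField_apply y _
    rw [← hy, ← ExtShriek24.card_lifts_eq_finrank (b (op j)) ξ]
    exact hdeg (op j) _ ξ
  exact ProEll24.eq_zero_of_nsmul ℓ ((hT' _ _).1 hG) (hd (op j)) n x
    (FieldH25.nsmul_eq_zero_of_Hpull_eq_zero (b (op j)) (d (op j)) hfr G n x hj)

end Groth.Agent.S6652
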