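import Groth.Statements.S6654
import Groth.Agent.Lib.EtSite.Sheaf
import Groth.Agent.Lib.EtStalk.Basic
import Mathlib.CategoryTheory.Sites.EpiMono
import Mathlib.CategoryTheory.Sites.LocallyBijective

set_option autoImplicit false
open CategoryTheory CategoryTheory.Limits AlgebraicGeometry Opposite
universe u
open EtModW

namespace Groth.Agent.S6654
open CategoryTheory.Abelian

/-- Let X be an irreducible scheme, ξ a geometric point over its generic point, Λ a commutative ring, M'
a submodule of a Λ-module M, and G a sheaf of Λ-modules on the small etale site of X with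
monomorphisms a : const M' ⟶ G and b : G ⟶ const M whose composite is the map of constant sheaves
induced by the inclusion. If the stalk of a at ξ is an isomorphism, then a is an isomorphism. -/
theorem result (Λ : Type (u + 1)) [CommRing Λ] {X : Scheme.{u}} [IrreducibleSpace ↥X]
    {Ω : Type u} [Field Ω] [IsSepClosed Ω] (ξ : Spec (CommRingCat.of Ω) ⟶ X)
    (hξ : ξ.base default = genericPoint ↥X)
    (M : Type (u + 1)) [AddCommGroup M] [Module Λ M] (M' : Submodule Λ M) (G : EtModW.Mod Λ X)
    (a : EtModW.constMod Λ X ↥M' ⟶ G) (b : G ⟶ EtModW.constMod Λ X M) [Mono a] [Mono b]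
    (hab : a ≫ b = (constantSheaf X.smallEtaleTopology (ModuleCat.{u + 1} Λ)).map (ModuleCat.ofHom M'.subtype))
    (hst : IsIso ((EtModW.stalk Λ ξ).map a)) : IsIso a := by
  haveI : PreservesFilteredColimitsOfSize.{u, u} (forget (ModuleCat.{u + 1} Λ)) :=
    preservesFilteredColimitsOfSize_shrink.{u, u + 1, u, u + 1} _
  let J := X.smallEtaleTopology
  let P := Scheme.pointSmallEtale ξ
  let η := fun (N : ModuleCat.{u + 1} Λ) => toSheafify J ((Functor.const (X.Etale)ᵒᵖ).obj N)
  let A := ModuleCat.of Λ ↥M'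
  let B := ModuleCat.of Λ M
  let ι := ModuleCat.ofHom M'.subtype
  have hnat : ∀ (V : X.Etaleᵒᵖ) (m : A),
      b.hom.app V (a.hom.app V ((η A).app V m)) = (η B).app V (m : M) := by
    intro V m
    have h1 := ConcreteCategory.congr_hom (congrArg (fun t => t.hom.app V) hab) ((η A).app V m)
    refine h1.trans ?_
    have h2 := congrArg (fun t => t.app V) (toSheafify_naturality J ((Functor.const (X.Etale)ᵒᵖ).map ι))
    exact (ConcreteCategory.congr_hom h2 m).symm
  have hinjη : ∀ (N : ModuleCat.{u + 1} Λ) (V : X.Etale) (m m' : N), Nonempty V.left →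
      (η N).app (op V) m = (η N).app (op V) m' → m = m' := by
    rintro N V m m' ⟨v⟩ he
    have hs := Presheaf.equalizerSieve_mem J (η N) _ _ he
    rw [Groth.Agent.EtSite.mem_et_iff] at hs
    obtain ⟨W, g, w, hg, -⟩ := hs v
    simpa using hg
  have hbinj : ∀ V : X.Etale, Function.Injective (b.hom.app (op V)) := fun V => by
    haveI : Mono b.hom := (Sheaf.Hom.mono_iff_presheaf_mono J (ModuleCat.{u + 1} Λ) b).1 inferInstance
    exact (ModuleCat.mono_iff_injective _).1 ((NatTrans.mono_iff_mono_app b.hom).1 inferInstance (op V))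
  haveI : Sheaf.IsLocallyInjective a := by
    haveI : Mono a.hom := (Sheaf.Hom.mono_iff_presheaf_mono J (ModuleCat.{u + 1} Λ) a).1 inferInstance
    exact ⟨fun {U} x y h => by
      have : x = y := (ModuleCat.mono_iff_injective _).1 ((NatTrans.mono_iff_mono_app a.hom).1 inferInstance U) h
      subst this
      simp⟩
  haveI : Sheaf.IsLocallySurjective a := by
    refine ⟨fun {V} s => ?_⟩
    rw [Groth.Agent.EtSite.mem_et_iff]
    intro v
    have hi := Presheaf.imageSieve_mem J (η B) (U := op V) (b.hom.app (op V) s)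
    rw [Groth.Agent.EtSite.mem_et_iff] at hi
    obtain ⟨W, g, w, ⟨m, hm⟩, hw⟩ := hi v
    have hm' : (η B).app (op W) m = b.hom.app (op W) (G.obj.map g.op s) :=
      hm.trans (NatTrans.naturality_apply b.hom g.op s).symm
    obtain ⟨w', hw'⟩ : ∃ w' : W.left, W.hom w' = genericPoint ↥X := by
      let p : W.left ⟶ X := W.hom
      haveI : AlgebraicGeometry.Etale p := W.prop
      exact ((genericPoint_spec ↥X).mem_open_set_iff p.isOpenMap.isOpen_range).2
        ⟨p w, Set.mem_univ _, w, rfl⟩
    obtain ⟨φ, -⟩ := Scheme.pointSmallEtaleFiberObjToPreimage_surjective ξ hξ W ⟨w', hw'⟩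
    obtain ⟨q, hq⟩ := (ConcreteCategory.bijective_of_isIso ((EtModW.stalk Λ ξ).map a)).2
      (P.toPresheafFiber W φ G.obj (G.obj.map g.op s))
    obtain ⟨V₁, y, t, rfl⟩ := P.toPresheafFiber_jointly_surjective q
    have hi₁ := Presheaf.imageSieve_mem J (η A) (U := op V₁) t
    obtain ⟨V₂, g₂, ⟨m', hm₂⟩, y₂, hy₂⟩ := P.jointly_surjective _ hi₁ y
    have hgerm : P.toPresheafFiber V₂ y₂ G.obj (a.hom.app (op V₂) ((η A).app (op V₂) m')) =
        P.toPresheafFiber W φ G.obj (G.obj.map g.op s) := by
      refine Eq.trans ?_ hq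
      refine Eq.trans ?_ (P.toPresheafFiber_naturality_apply a.hom V₁ y t).symm
      rw [show (η A).app (op V₂) m' = (EtModW.constMod Λ X ↥M').obj.map g₂.op t from hm₂,
        NatTrans.naturality_apply, ← hy₂]
      exact P.toPresheafFiber_w_apply g₂ y₂ G.obj (a.hom.app (op V₁) t)
    let mM : M := (show ↥M' from m').val
    have hgerm' : P.toPresheafFiber V₂ y₂ (EtModW.constMod Λ X M).obj ((η B).app (op V₂) mM) =
        P.toPresheafFiber W φ (EtModW.constMod Λ X M).obj ((η B).app (op W) m) := by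
      have h := congrArg (P.presheafFiber.map b.hom) hgerm
      erw [P.toPresheafFiber_naturality_apply, P.toPresheafFiber_naturality_apply] at h
      erw [hnat, ← hm'] at h
      exact h
    obtain ⟨V₃, z, u₁, u₂, hu₁, hu₂⟩ : ∃ (V₃ : X.Etale) (z : P.fiber.obj V₃) (u₁ : V₃ ⟶ V₂) (u₂ : V₃ ⟶ W),
        P.fiber.map u₁ z = y₂ ∧ P.fiber.map u₂ z = φ := by
      let E₁ : P.fiber.Elements := ⟨V₂, y₂⟩
      let E₂ : P.fiber.Elements := ⟨W, φ⟩
      obtain ⟨E, f₁, f₂, -⟩ := IsCofilteredOrEmpty.cone_objs E₁ E₂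
      exact ⟨E.1, E.2, f₁.1, f₂.1, f₁.2, f₂.2⟩
    have he : P.toPresheafFiber V₃ z (EtModW.constMod Λ X M).obj ((η B).app (op V₃) mM) =
        P.toPresheafFiber V₃ z (EtModW.constMod Λ X M).obj ((η B).app (op V₃) m) := by
      have e₁ : (η B).app (op V₃) mM = (EtModW.constMod Λ X M).obj.map u₁.op ((η B).app (op V₂) mM) :=
        NatTrans.naturality_apply (η B) u₁.op mM
      have e₂ : (η B).app (op V₃) m = (EtModW.constMod Λ X M).obj.map u₂.op ((η B).app (op W) m) :=
        NatTrans.naturality_apply (η B) u₂.op m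
      rw [e₁, e₂]
      refine (P.toPresheafFiber_w_apply u₁ z _ _).trans (Eq.trans ?_ (P.toPresheafFiber_w_apply u₂ z _ _).symm)
      rw [hu₁, hu₂]
      exact hgerm'
    obtain ⟨V₄, u, z', -, heq⟩ := (P.toPresheafFiber_eq_iff' V₃ z _ _).1 he
    have hmm : mM = m := by
      refine hinjη B V₄ _ _ ⟨z'.left (default : Spec (CommRingCat.of Ω))⟩ ?_
      exact (NatTrans.naturality_apply (η B) u.op mM).trans
        (heq.trans (NatTrans.naturality_apply (η B) u.op m).symm)
    refine ⟨W, g, w, ⟨(η A).app (op W) m', hbinj W ?_⟩, hw⟩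
    rw [hnat]
    show (η B).app (op W) mM = _
    rw [hmm, hm']
  exact (Sheaf.isLocallyBijective_iff_isIso a).mp ⟨inferInstance, inferInstance⟩

end Groth.Agent.S6654
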