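import Groth.Statements.S6655
import Groth.Agent.Lib.LocConstGen24.HomLin

set_option autoImplicit false
open CategoryTheory CategoryTheory.Limits AlgebraicGeometry Opposite
universe u
open EtModW

namespace Groth.Agent.S6655

/-- Part (3): with both sheaves of finite type: let Λ be a commutative ring and φ : F ⟶ G a map of
finite type locally constant sheaves of Λ-modules on the small etale site of a scheme X. Then on the
members of some etale covering of X the restriction of φ is, up to isomorphisms with constant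
sheaves on both sides, the map of constant sheaves induced by a Λ-linear map. (The published
statement allows G to be any locally constant sheaf of Λ-modules; this row assumes G of finite type
as well.) -/
theorem result (Λ : Type (u + 1)) [CommRing Λ] {X : Scheme.{u}} (F G : EtModW.Mod Λ X)
    (φ : F ⟶ G) (hF : EtModW.IsFTLocConst Λ F) (hG : EtModW.IsFTLocConst Λ G) :
    ∃ (ι : Type u) (U : ι → X.Etale), EtCoh.Covers U ∧ ∀ i, ∃ (M N : Type (u + 1)) (_ : AddCommGroup M) (_ : AddCommGroup N)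
      (_ : Module Λ M) (_ : Module Λ N) (h : M →ₗ[Λ] N)
      (α : EtModW.restr Λ F (U i) ≅ (constantSheaf (X.smallEtaleTopology.over (U i)) (ModuleCat.{u + 1} Λ)).obj (ModuleCat.of Λ M))
      (β : EtModW.restr Λ G (U i) ≅ (constantSheaf (X.smallEtaleTopology.over (U i)) (ModuleCat.{u + 1} Λ)).obj (ModuleCat.of Λ N)),
      (X.smallEtaleTopology.overPullback (ModuleCat.{u + 1} Λ) (U i)).map φ ≫ β.hom =
        α.hom ≫ (constantSheaf (X.smallEtaleTopology.over (U i)) (ModuleCat.{u + 1} Λ)).map (ModuleCat.ofHom h) := by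
  obtain ⟨ι, U, hU, hF⟩ := hF
  obtain ⟨κ, V, hV, hG⟩ := hG
  have key : ∀ x : X, ∃ (W' : X.Etale) (w : W'.left) (_ : W'.hom w = x),
      ∃ (M N : Type (u + 1)) (_ : AddCommGroup M) (_ : AddCommGroup N)
      (_ : Module Λ M) (_ : Module Λ N) (h : M →ₗ[Λ] N)
      (α : EtModW.restr Λ F W' ≅ (constantSheaf (X.smallEtaleTopology.over W') (ModuleCat.{u + 1} Λ)).obj (ModuleCat.of Λ M))
      (β : EtModW.restr Λ G W' ≅ (constantSheaf (X.smallEtaleTopology.over W') (ModuleCat.{u + 1} Λ)).obj (ModuleCat.of Λ N)),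
      (X.smallEtaleTopology.overPullback (ModuleCat.{u + 1} Λ) W').map φ ≫ β.hom =
        α.hom ≫ (constantSheaf (X.smallEtaleTopology.over W') (ModuleCat.{u + 1} Λ)).map (ModuleCat.ofHom h) := by
    intro x
    obtain ⟨i, hi⟩ := hU x
    obtain ⟨j, hj⟩ := hV x
    obtain ⟨W0, a, b, z, hz⟩ := Groth.Agent.LocConstGen24.exists_common (U i) (V j) hi hj
    obtain ⟨M, hM, hM', hfin, hF'⟩ := hF i
    obtain ⟨N, hN, hN', -, hG'⟩ := hG j
    obtain ⟨eF⟩ := Groth.Agent.LocConstGen24.res_triv_of_hom (ModuleCat.{u + 1} Λ) a F _ hF'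
    obtain ⟨eG⟩ := Groth.Agent.LocConstGen24.res_triv_of_hom (ModuleCat.{u + 1} Λ) b G _ hG'
    haveI : Module.Finite Λ (ModuleCat.of Λ M) := hfin
    obtain ⟨W, w, hw, h, α, β, he⟩ := Groth.Agent.LocConstGen24.exists_mod Λ W0 z φ eF eG
    refine ⟨_, w, ?_, _, _, _, _, _, _, h.hom, α, β, he⟩
    show W0.hom (W.hom w) = x
    rw [hw, hz]
  choose W w hw h using key
  exact ⟨X, W, fun x => ⟨x, w x, hw x⟩, h⟩

end Groth.Agent.S6655
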