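import Groth.Statements.S6670
import Groth.Agent.Lib.PointLim24.Crit6670

set_option autoImplicit false
universe u
open CategoryTheory CategoryTheory.Limits AlgebraicGeometry Opposite
open EtBC

set_option backward.isDefEq.respectTransparency false
set_option backward.isDefEq.respectTransparency.types false

namespace Groth.Agent.S6670

open Groth.Agent.EtStalk Groth.Agent.StrictLim24 Groth.Agent.PointLim24

/-- Let f : X → S be a morphism of schemes, x a point of X, R_X a strict henselization of the local ring
of X at x and R_S one of the local ring of S at f(x), ψ : R_S → R_X a local homomorphism compatible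
with f, K a separably closed field with a ring map κ : R_S → K, F an abelian sheaf on the small
etale site of Spec K and q ≥ 0. Form P_S = Spec R_S ×_S Spec K and P_X = Spec R_X ×_S Spec K (Spec K
mapping to S through κ and Spec R_S) with the morphism m : P_X → P_S induced by ψ. Then the pullback
map H^q(P_S, F|P_S) → H^q(P_X, F|P_X) along m is bijective if and only if, for every ring map κ' :
R_S → K that agrees with κ on the local ring of S at f(x) and Q' = Spec R_X ×_{Spec R_S} Spec K
formed with κ' and ψ, the pullback map H^q(Spec K, F) → H^q(Q', F|Q') along the projection Q' → Spec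
K is bijective. (The published statement asks the second condition only for the given map κ. The
points of P_S are all the ring maps R_S → K agreeing with κ on the local ring of S, and the first
condition does not depend on κ among them; when the local ring of S at f(x) has two branches, for
instance at the node of a nodal cubic with X its normalization, q = 0 and F constant, the second
condition holds for κ through one branch while the first fails. So the second condition is asked
here for every such map.) -/
theorem result {X S : Scheme.{u}} (f : X ⟶ S) (x : X)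
    (RS : Type u) [CommRing RS] [IsLocalRing RS] [Algebra (S.presheaf.stalk (f.base x)) RS]
      [IsLocalHom (algebraMap (S.presheaf.stalk (f.base x)) RS)] [Hensel.IsStrictHenselization (S.presheaf.stalk (f.base x)) RS]
    (RX : Type u) [CommRing RX] [IsLocalRing RX] [Algebra (X.presheaf.stalk x) RX]
      [IsLocalHom (algebraMap (X.presheaf.stalk x) RX)] [Hensel.IsStrictHenselization (X.presheaf.stalk x) RX]
    (ψ : RS →+* RX) [IsLocalHom ψ]
    (hψ : ψ.comp (algebraMap (S.presheaf.stalk (f.base x)) RS) = (algebraMap (X.presheaf.stalk x) RX).comp (f.stalkMap x).hom)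
    (K : Type u) [Field K] [IsSepClosed K] (κ : RS →+* K) (F : EtCoh.Ab (Spec (CommRingCat.of K))) (q : ℕ)
    (PS PX : Scheme.{u}) (aS : PS ⟶ Spec (CommRingCat.of K)) (bS : PS ⟶ Spec (CommRingCat.of RS))
    (cS : IsPullback aS bS (Spec.map (CommRingCat.ofHom κ) ≫ Hens2.specOf S (f.base x) RS) (Hens2.specOf S (f.base x) RS))
    (aX : PX ⟶ Spec (CommRingCat.of K)) (bX : PX ⟶ Spec (CommRingCat.of RX))
    (cX : IsPullback aX bX (Spec.map (CommRingCat.ofHom κ) ≫ Hens2.specOf S (f.base x) RS) (Hens2.specOf X x RX ≫ f))
    (m : PX ⟶ PS) (w : m ≫ aS = aX) (hm : m ≫ bS = bX ≫ Spec.map (CommRingCat.ofHom ψ))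
    [PreservesFiniteLimits (EtCoh.pull m)] :
    Function.Bijective (EtCore.HpullVia m aS aX w F q) ↔
      ∀ (κ' : RS →+* K), κ'.comp (algebraMap (S.presheaf.stalk (f.base x)) RS) =
          κ.comp (algebraMap (S.presheaf.stalk (f.base x)) RS) →
        ∀ (Q' : Scheme.{u}) (aQ' : Q' ⟶ Spec (CommRingCat.of K)) (bQ' : Q' ⟶ Spec (CommRingCat.of RX)),
          IsPullback aQ' bQ' (Spec.map (CommRingCat.ofHom κ')) (Spec.map (CommRingCat.ofHom ψ)) →
          ∀ [PreservesFiniteLimits (EtCoh.pull aQ')], Function.Bijective (EtCore.Hpull aQ' F q) := by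
  let τ := Spec.map (CommRingCat.ofHom κ) ≫ Hens2.specOf S (f.base x) RS
  haveI : Nonempty PS := ⟨cS.lift (𝟙 _) (Spec.map (CommRingCat.ofHom κ)) (Category.id_comp _)
    (default : Spec (CommRingCat.of K))⟩
  obtain ⟨B, _, _, i, hB, hi⟩ := exists_split_presentation τ (f.base x) RS aS bS cS
  have h1 : IsPullback m bX bS (Spec.map (CommRingCat.ofHom ψ)) := by
    refine IsPullback.of_right ?_ hm cS
    rw [w, (LocAcyc24.specOf_compat f ψ).1 hψ]
    exact cX
  haveI : IsAffineHom m := MorphismProperty.of_isPullback h1.flip inferInstance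
  rw [bijective_HpullVia_iff_fibres hB i aS aX m w hi F q]
  constructor
  · intro h κ' hκ' Q aQ bQ hQ _
    have hτ : Spec.map (CommRingCat.ofHom κ') ≫ Hens2.specOf S (f.base x) RS = τ := by
      simp only [τ, LocAcyc24.specOf_map, hκ']
    rw [bijective_Hpull_iff_ptBij]
    let p := cS.lift (𝟙 _) (Spec.map (CommRingCat.ofHom κ')) ((Category.id_comp _).trans hτ.symm) ≫ i.hom
    have hpK : p ≫ Spec.map (CommRingCat.ofHom (algebraMap K B)) = 𝟙 _ := by
      rw [Category.assoc, hi, cS.lift_fst]
    let χ : B →ₐ[K] K :=
      { (Spec.preimage p).hom with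
        commutes' := fun a => by
          have e : CommRingCat.ofHom (algebraMap K B) ≫ Spec.preimage p = 𝟙 _ := by
            apply Spec.map_injective
            rw [Spec.map_comp, Spec.map_preimage, hpK, Spec.map_id]
          exact congrArg (fun r : CommRingCat.of K ⟶ CommRingCat.of K => r a) e }
    have hχp : Spec.map (CommRingCat.ofHom χ.toRingHom) = p := Spec.map_preimage p
    obtain ⟨κ'', ⟨-, hκ''⟩, hsq⟩ := exists_fibre_square f x ψ hψ cS cX w hm i hi χ
    have e : κ'' = κ' := by
      refine congrArg CommRingCat.Hom.hom (Spec.map_injective (hκ''.trans ?_) :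
        CommRingCat.ofHom κ'' = CommRingCat.ofHom κ')
      rw [hχp, Category.assoc, i.hom_inv_id_assoc, cS.lift_snd]
    subst e
    let j := hQ.isoIsPullback _ _ hsq
    exact (ptBij_iso j.hom _ aQ (IsPullback.isoIsPullback_hom_fst _ _ hQ hsq) F q).1 (h χ)
  · intro h χ
    obtain ⟨κ', ⟨hτ, -⟩, hsq⟩ := exists_fibre_square f x ψ hψ cS cX w hm i hi χ
    refine (bijective_Hpull_iff_ptBij _ F q).1 (h κ' ?_ _ _ _ hsq)
    simp only [τ, LocAcyc24.specOf_map] at hτ
    exact LocAcyc24.ringHom_ext_specOf hτ

end Groth.Agent.S6670
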