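import Groth.Statements.S6674
import Groth.Agent.Lib.HPi5.Pi
import Groth.Agent.S0744

set_option backward.isDefEq.respectTransparency false
set_option backward.isDefEq.respectTransparency.types false

set_option autoImplicit false
universe u
open CategoryTheory CategoryTheory.Limits AlgebraicGeometry Opposite
open HTop

namespace Groth.Agent.S6674

/-- For an abelian sheaf: let f : X → Y be a proper morphism of schemes and F an abelian sheaf on the
small etale site of X. Then a_Y⁻¹ (f_* F) and f_{big,ph,*} (a_X⁻¹ F) are isomorphic abelian sheaves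
on the big ph site of Y, where a⁻¹ denotes pullback from the small etale site to the big ph site.
(Existence of an isomorphism only; the published statement asserts that the canonical base change
map is an isomorphism. Continuity of the comparison functors is carried as instance hypotheses.) -/
theorem result {X Y : Scheme.{u}} (f : X ⟶ Y) [IsProper f] [HTop.APhCont X]
    [HTop.APhCont Y] [HTop.PullPhCont f] (F : EtCoh.Ab X) :
    Nonempty ((HTop.aPhPull Y).obj ((EtCoh.push f).obj F) ≅
      (HTop.pushBigPh f).obj ((HTop.aPhPull X).obj F)) := by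
  haveI : ∀ Z : Scheme.{u}, IsIso (Groth.Agent.SmallBigBC16.piAdj AddCommGrpCat.{u + 1} Z).unit :=
    Groth.Agent.EtFpqc16.isIso_unit
  obtain ⟨e⟩ := Groth.Agent.SmallBigBC16.nonempty_iso AddCommGrpCat.{u + 1} f fun V g G =>
    Groth.Agent.S0157.result f _ _ g (IsPullback.of_hasPullback f g) G
  exact ⟨(Groth.Agent.HPi5.isoPh Y).app _ ≪≫
    (Groth.Agent.HPi5.toEtPhFullyFaithful Y).preimageIso
      (X := (Groth.Agent.HPi5.piPh Y).obj ((EtCoh.push f).obj F))
      (Y := (HTop.pushBigPh f).obj ((Groth.Agent.HPi5.piPh X).obj F)) (e.app F) ≪≫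
    (HTop.pushBigPh f).mapIso ((Groth.Agent.HPi5.isoPh X).app F).symm⟩

end Groth.Agent.S6674
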