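import Groth.Statements.S6675
import Groth.Agent.Lib.PhCmp5.Descent
import Groth.Agent.Lib.BigPBC5.Final

set_option backward.isDefEq.respectTransparency false
set_option backward.isDefEq.respectTransparency.types false

set_option autoImplicit false
universe u
open CategoryTheory CategoryTheory.Limits AlgebraicGeometry Opposite
open HTop

namespace Groth.Agent.S6675

/-- Let X be a scheme and F a torsion abelian sheaf on the small etale site of X. Write a_X⁻¹ F for its
pullback to the big ph site of X, ε_X,_* for restriction from the big ph site to the big etale site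
of X (the identity on underlying presheaves) and π_X⁻¹ F for the pullback of F to the big etale
site. Then ε_X,_* (a_X⁻¹ F) is isomorphic to π_X⁻¹ F (existence of an isomorphism) and R^i ε_X,_*
(a_X⁻¹ F) = 0 for every i > 0. (Continuity of the comparison functors is carried as instance
hypotheses.) -/
theorem result (X : Scheme.{u}) [HTop.APhCont X] [HTop.EpsPhCont X] (F : EtCoh.Ab X)
    (hF : EtCoh.IsTorsion F) :
    Nonempty ((HTop.epsPhPush X).obj ((HTop.aPhPull X).obj F) ≅
      ((Scheme.Etale.forget X).sheafPullback AddCommGrpCat.{u + 1} X.smallEtaleTopology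
        (Scheme.etaleTopology.over X)).obj F) ∧
    ∀ i : ℕ, 0 < i → IsZero ((HTop.RepsPhPush X i).obj ((HTop.aPhPull X).obj F)) := by
  refine ⟨⟨(HTop.epsPhPush X).mapIso ((Groth.Agent.HPi5.isoPh X).app F) ≪≫
    (Groth.Agent.PhCmp5.alphaIso Groth.Agent.HPi5.etale_le_ph Groth.Agent.PhCmp5.hsh_ph X).app F⟩, fun i hi => ?_⟩
  exact Groth.Agent.PhCmp5.van_ph Groth.Agent.BigPBC5.properBC i X ((HTop.aPhPull X).obj F)
    (Groth.Agent.PhCmp5.fromEt_aPull F hF) i hi le_rfl

end Groth.Agent.S6675
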