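import Groth.Statements.S6677
import Groth.Agent.Lib.PhCmp5.Descent
import Groth.Agent.Lib.BigPBC5.Final

set_option backward.isDefEq.respectTransparency false
set_option backward.isDefEq.respectTransparency.types false

set_option autoImplicit false
universe u
open CategoryTheory CategoryTheory.Limits AlgebraicGeometry Opposite
open HTop

namespace Groth.Agent.S6677

/-- For a torsion abelian sheaf, i.e. a complex in degree 0: let X be a scheme and F a torsion abelian
sheaf on the small etale site of X, and let a_X compare the big ph site of X with the small etale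
site. Then the unit F → a_X,_* a_X⁻¹ F is an isomorphism and R^q a_X,_* (a_X⁻¹ F) = 0 for every q >
0. (Continuity of the comparison functor carried as an instance hypothesis.) -/
theorem result (X : Scheme.{u}) [HTop.APhCont X] (F : EtCoh.Ab X)
    (hF : EtCoh.IsTorsion F) :
    IsIso ((HTop.aPhAdj X).unit.app F) ∧
      ∀ q : ℕ, 0 < q → IsZero ((HTop.RaPhPush X q).obj ((HTop.aPhPull X).obj F)) := by
  haveI := Groth.Agent.PhCmp5.isIso_unit_aAdj (X := X)
  exact ⟨inferInstance, Groth.Agent.PhCmp5.isZero_RaPush Groth.Agent.BigPBC5.properBC F hF⟩

end Groth.Agent.S6677
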