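import Groth.Statements.S6682
import Groth.Agent.Lib.PhCmp5.DescentH
import Groth.Agent.Lib.BigPBC5.Final

set_option backward.isDefEq.respectTransparency false
set_option backward.isDefEq.respectTransparency.types false

set_option autoImplicit false
universe u
open CategoryTheory CategoryTheory.Limits AlgebraicGeometry Opposite
open HTop

namespace Groth.Agent.S6682

/-- Let f : X → Y be a proper morphism of schemes, F a torsion abelian sheaf on the small etale site of
X and i ≥ 0. Then a_Y⁻¹ (R^i f_* F) and R^i f_{big,h,*} (a_X⁻¹ F) are isomorphic abelian sheaves on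
the big h site of Y (existence of an isomorphism; continuity of the comparison functors carried as
instance hypotheses). -/
theorem result {X Y : Scheme.{u}} (f : X ⟶ Y) [IsProper f]
    [HTop.AHCont X] [HTop.AHCont Y] [HTop.PullHCont f] (F : EtCoh.Ab X) (hF : EtCoh.IsTorsion F) (i : ℕ) :
    Nonempty ((HTop.aHPull Y).obj ((EtCoh.Rpush f i).obj F) ≅
      (HTop.RpushBigH f i).obj ((HTop.aHPull X).obj F)) := by
  obtain ⟨e⟩ := Groth.Agent.PhCmp5.nonempty_piJ_Rpush Groth.Agent.HPi5.etale_le_h Groth.Agent.PhCmp5.hsh_h f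
    Groth.Agent.BigPBC5.properBC (Groth.Agent.PhCmp5.van_h Groth.Agent.BigPBC5.properBC) i F hF
  exact ⟨(Groth.Agent.HPi5.isoH Y).app _ ≪≫ e ≪≫
    (HTop.RpushBigH f i).mapIso ((Groth.Agent.HPi5.isoH X).app F).symm⟩


end Groth.Agent.S6682
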