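import Groth.Statements.S6689
import Groth.Agent.Lib.EtModEps19.ModStrata

set_option autoImplicit false
universe u
open CategoryTheory CategoryTheory.Limits AlgebraicGeometry Opposite
attribute [local instance] HasDerivedCategory.standard
open EtModD

namespace Groth.Agent.S6689

attribute [local instance] HasDerivedCategory.standard

/-- An exact functor commutes with cohomology of derived objects (as in `Groth.Agent.EtLocCoh19`). -/
theorem nonempty_homology_mapExact {A : Type*} [Category A] [Abelian A] [HasDerivedCategory A]
    {B : Type*} [Category B] [Abelian B] [HasDerivedCategory B]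
    (F : A ⥤ B) [F.Additive] [PreservesFiniteLimits F] [PreservesFiniteColimits F] (K : DerivedCategory A) (n : ℤ) :
    Nonempty ((DerivedCategory.homologyFunctor B n).obj (F.mapDerivedCategory.obj K) ≅
      F.obj ((DerivedCategory.homologyFunctor A n).obj K)) := by
  let W := DerivedCategory.Q.objPreimage K
  let e : DerivedCategory.Q.obj W ≅ K := DerivedCategory.Q.objObjPreimageIso K
  let e₁ : ((DerivedCategory.homologyFunctor B n).obj (DerivedCategory.Q.obj
      ((F.mapHomologicalComplex (ComplexShape.up ℤ)).obj W))) ≅ ((W.sc n).map F).homology :=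
    (DerivedCategory.homologyFunctorFactors B n).app ((F.mapHomologicalComplex (ComplexShape.up ℤ)).obj W)
  exact ⟨(DerivedCategory.homologyFunctor B n).mapIso
      (F.mapDerivedCategory.mapIso e.symm ≪≫ F.mapDerivedCategoryFactors.app W) ≪≫ e₁ ≪≫
    (W.sc n).mapHomologyIso F ≪≫ F.mapIso (((DerivedCategory.homologyFunctorFactors A n).app W).symm ≪≫
      (DerivedCategory.homologyFunctor A n).mapIso e)⟩

/-- Let Λ be a Noetherian ring, f : X → Y a morphism of schemes and K an object of D(Y_et, Λ) whose
cohomology sheaves are all constructible sheaves of Λ-modules. Then all cohomology sheaves of f⁻¹ K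
are constructible, where f⁻¹ on derived categories is induced by the exact inverse image functor on
sheaves of Λ-modules (its left exactness is carried as an instance hypothesis). -/
theorem result (Λ : Type (u + 1)) [CommRing Λ] [IsNoetherianRing Λ] {X Y : Scheme.{u}}
    (f : X ⟶ Y) [PreservesFiniteLimits (EtModW.pull Λ f)] (K : EtModD.D Λ Y)
    (hK : ∀ i : ℤ, EtModW.IsConstructible Λ (EtModD.HD K i)) (i : ℤ) :
    EtModW.IsConstructible Λ (EtModD.HD ((EtModW.pull Λ f).mapDerivedCategory.obj K) i) := by
  obtain ⟨e⟩ := nonempty_homology_mapExact (EtModW.pull Λ f) K i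
  exact Groth.Agent.EtModEps19.isConstructible_of_iso e.symm
    (Groth.Agent.EtModEps19.Strata.isConstructible_pull f (hK i))

end Groth.Agent.S6689
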