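import Groth.Statements.S6692
import Groth.Agent.Lib.InjModAcyc24.Main
import Groth.Agent.Lib.InjModAcyc24.Affine

set_option autoImplicit false
universe u
open CategoryTheory CategoryTheory.Limits AlgebraicGeometry Opposite
open EtPBC

namespace Groth.Agent.S6692

set_option backward.isDefEq.respectTransparency.types false

open Groth.Agent.InjModAcyc24 in
theorem core {X Z : Scheme.{u}} (n : ℕ)
    (hΔ : ∀ U V : X.Opens, IsAffineOpen U → IsAffineOpen V → IsAffineOpen (U ⊓ V))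
    (W : Fin (n + 1) → X.Opens) (hW : ∀ k, IsAffineOpen (W k)) (hcov : ⨆ k, W k = ⊤)
    (i : Z ⟶ X) [IsClosedImmersion i] (F : EtCoh.Ab X) (hF : EtCoh.IsTorsion F) (hA : EtFlasque24.Acyc F)
    (q : ℕ) (hq : n < q) : Subsingleton (EtCoh.H Z ((EtCoh.pull i).obj F) q) := by
  let P : (EtCoh.top Z).left.Opens → Prop := fun O => ∃ V : X.Opens, IsAffineOpen V ∧ O = i ⁻¹ᵁ V
  have hP : ∀ O, P O → ∀ p, Van ((EtCoh.pull i).obj F) O (p + 1) := by
    rintro O ⟨V, hV, rfl⟩ p
    haveI : IsAffine (V : Scheme.{u}) := hV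
    have h := subsingleton_H_closed hF hA V.ι (i ∣_ V) ((obj (U₀ := EtCoh.top Z) (i ⁻¹ᵁ V)).hom ≫ i)
      ((morphismRestrict_ι i V).trans (congrArg (· ≫ i) (Category.comp_id _).symm)) (p + 1) p.succ_pos
    exact @Equiv.subsingleton _ _ (EtStalk.extCohEquiv (obj (U₀ := EtCoh.top Z) (i ⁻¹ᵁ V)).hom _ (p + 1)).toEquiv
      ((subsingleton_H_pull_pull _ i _ rfl F (p + 1)).2 h)
  have h := van_iSup (U₀ := EtCoh.top Z) (G := (EtCoh.pull i).obj F) P
    (by
      rintro _ _ ⟨U, hU, rfl⟩ ⟨V, hV, rfl⟩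
      exact ⟨U ⊓ V, hΔ U V hU hV, (Scheme.Hom.preimage_inf i).symm⟩)
    hP n (fun k => i ⁻¹ᵁ W k) (fun k => ⟨W k, hW k, rfl⟩) q hq
  rw [show (⨆ k, (i ⁻¹ᵁ W k : (EtCoh.top Z).left.Opens)) = (⊤ : (EtCoh.top Z).left.Opens) from
      (Scheme.Hom.preimage_iSup i W).symm.trans ((congrArg (fun V : X.Opens => i ⁻¹ᵁ V) hcov).trans
        (Scheme.Hom.preimage_top i))] at h
  let f := (obj (U₀ := EtCoh.top Z) (⊤ : (EtCoh.top Z).left.Opens)).hom
  haveI : IsIso (⊤ : Z.Opens).ι := (Scheme.topIso Z).isIso_hom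
  haveI : IsIso f := inferInstanceAs (IsIso ((⊤ : Z.Opens).ι ≫ 𝟙 Z))
  have h' : Subsingleton (EtCoh.H _ ((EtCoh.pull f).obj ((EtCoh.pull i).obj F)) q) :=
    @Equiv.subsingleton _ _ (EtStalk.extCohEquiv f _ q).symm.toEquiv h
  have h'' := (subsingleton_H_pull_pull (inv f) f (𝟙 Z) (IsIso.inv_hom_id f) ((EtCoh.pull i).obj F) q).1
    (subsingleton_H_pull_of_isIso (inv f) _ q h')
  exact subsingleton_H_of_iso ((EtDesc24.pullId Z).app _) q h''

/-- Let X be a scheme with affine diagonal (the intersection of any two affine opens is affine) covered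
by n + 1 affine opens, i : Z → X a closed immersion, A a torsion sheaf of rings on the small etale
site of X (every local section is, etale locally around each point, of finite additive order) and I
an injective object of the category of sheaves of A-modules. Then the etale cohomology H^q(Z, i⁻¹ I)
of the underlying abelian sheaf of I restricted to Z vanishes for every q > n. -/
theorem result (X : Scheme.{u}) (n : ℕ)
    (hΔ : ∀ U V : X.Opens, IsAffineOpen U → IsAffineOpen V → IsAffineOpen (U ⊓ V))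
    (W : Fin (n + 1) → X.Opens) (hW : ∀ k, IsAffineOpen (W k)) (hcov : ⨆ k, W k = ⊤)
    {Z : Scheme.{u}} (i : Z ⟶ X) [IsClosedImmersion i]
    (A : Sheaf X.smallEtaleTopology RingCat.{u + 1})
    (hA : ∀ (U : X.Etale) (s : A.val.obj (op U)) (x : U.left), ∃ (V : X.Etale) (g : V ⟶ U),
      (∃ v : V.left, g.left.base v = x) ∧ IsOfFinAddOrder (A.val.map g.op s))
    (I : SheafOfModules.{u + 1} A) [Injective I] (q : ℕ) (hq : n < q) :
    Subsingleton (EtCoh.H Z ((EtCoh.pull i).obj ((SheafOfModules.toSheaf A).obj I)) q) := by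
  refine core n hΔ W hW hcov i ((SheafOfModules.toSheaf A).obj I) ?_ (InjModAcyc24.acyc A I) q hq
  intro U s x
  obtain ⟨V, g, hx, hg⟩ := hA U 1 x
  refine ⟨V, g, hx, ?_⟩
  rw [show (A.val.map g.op) 1 = 1 from map_one _] at hg
  obtain ⟨m, hm, hm'⟩ := isOfFinAddOrder_iff_nsmul_eq_zero.1 hg
  refine isOfFinAddOrder_iff_nsmul_eq_zero.2 ⟨m, hm, ?_⟩
  let t : I.val.obj (op V) := I.val.map g.op s
  show m • t = 0
  rw [← one_smul (A.val.obj (op V)) t, ← smul_assoc, hm', zero_smul]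

end Groth.Agent.S6692
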