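import Groth.Statements.S6696
import Groth.Agent.Lib.BigSite16.BaseChange

set_option autoImplicit false
universe u
open CategoryTheory CategoryTheory.Limits AlgebraicGeometry Opposite
open BigSite

namespace Groth.Agent.S6696
set_option linter.style.haveILetI false
set_option backward.isDefEq.respectTransparency false
set_option backward.isDefEq.respectTransparency.types false
open CategoryTheory CategoryTheory.Limits in
theorem aux {A B A' E : Type*} [Category A] [Category B] [Category A'] [Category E] [Abelian A] [Abelian B] [Abelian A']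
    [Abelian E] [EnoughInjectives A] [EnoughInjectives A'] (P : A ⥤ B) (P' : A' ⥤ E) (Φ : B ⥤ E) (Ψ : A ⥤ A')
    [P.Additive] [P'.Additive] [Φ.Additive] [Ψ.Additive] [PreservesFiniteLimits Φ] [PreservesFiniteColimits Φ]
    [PreservesFiniteLimits Ψ] [PreservesFiniteColimits Ψ] (hΨ : ∀ I : A, Injective I → Injective (Ψ.obj I))
    (e : P ⋙ Φ ≅ Ψ ⋙ P') (X : A) (n : ℕ) :
    Nonempty (Φ.obj ((P.rightDerived n).obj X) ≅ (P'.rightDerived n).obj (Ψ.obj X)) := by
  obtain ⟨a⟩ := Groth.Agent.BigSite16.nonempty_rightDerived_comp P Φ X n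
  obtain ⟨b⟩ := Groth.Agent.BigSite16.nonempty_rightDerived_precomp Ψ P' hΨ X n
  let R := InjectiveResolution.of X
  exact ⟨a ≪≫ R.isoRightDerivedObj (P ⋙ Φ) n ≪≫ (HomologicalComplex.homologyFunctor _ _ n).mapIso
    ((NatIso.mapHomologicalComplex e _).app R.cocomplex) ≪≫ (R.isoRightDerivedObj (Ψ ⋙ P') n).symm ≪≫ b.symm⟩


/-- Part (5): for an abelian sheaf and degree by degree: let f : T → S be a morphism of schemes, g : S'
→ S a scheme over S and T' = S' ×_S T with projections g' : T' → T and f' : T' → S'. For an abelian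
sheaf F on the big etale site of T and every q ≥ 0, the restriction g_big⁻¹ (R^q f_{big,*} F) of the
big-site higher direct image to the big etale site of S' is isomorphic to R^q f'_{big,*} (g'_big⁻¹
F). (Existence of an isomorphism only.) -/
theorem result {T S T' S' : Scheme.{u}} (f : T ⟶ S) (g : S' ⟶ S)
    (g' : T' ⟶ T) (f' : T' ⟶ S') (c : IsPullback g' f' f g) (F : BigSite.Ab Scheme.etalePrecoverage T) (q : ℕ) :
    Nonempty ((BigSite.pullBig Scheme.etalePrecoverage g AddCommGrpCat.{u + 1}).obj
        ((BigSite.RpushBig Scheme.etalePrecoverage f q).obj F) ≅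
      (BigSite.RpushBig Scheme.etalePrecoverage f' q).obj
        ((BigSite.pullBig Scheme.etalePrecoverage g' AddCommGrpCat.{u + 1}).obj F)) := by
  exact aux (BigSite.pushBig Scheme.etalePrecoverage f AddCommGrpCat.{u + 1})
    (BigSite.pushBig Scheme.etalePrecoverage f' AddCommGrpCat.{u + 1})
    (BigSite.pullBig Scheme.etalePrecoverage g AddCommGrpCat.{u + 1})
    (BigSite.pullBig Scheme.etalePrecoverage g' AddCommGrpCat.{u + 1})
    (fun I hI => haveI := hI; Groth.Agent.BigSite16.injective_pullBig g' Scheme.etalePrecoverage I)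
    (Groth.Agent.BigSite16.pullPushIso c Scheme.etalePrecoverage AddCommGrpCat.{u + 1}) F q

end Groth.Agent.S6696
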