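import Groth.Statements.S6697
import Groth.Agent.Lib.BigSite16.Res
import Mathlib.Algebra.Homology.HomotopyCategory.KInjective

set_option autoImplicit false
universe u
open CategoryTheory CategoryTheory.Limits AlgebraicGeometry Opposite
open BigSite

namespace Groth.Agent.S6697
set_option linter.style.haveILetI false
set_option backward.isDefEq.respectTransparency false
set_option backward.isDefEq.respectTransparency.types false
open CategoryTheory CategoryTheory.Limits in
theorem isKInjective_of_adj {A B : Type*} [Category A] [Category B] [Abelian A] [Abelian B] {L : B ⥤ A} {R : A ⥤ B}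
    (adj : L ⊣ R) [PreservesFiniteLimits L] [PreservesFiniteColimits L] [L.Additive] [R.Additive]
    (I : CochainComplex A ℤ) [I.IsKInjective] :
    CochainComplex.IsKInjective ((R.mapHomologicalComplex (ComplexShape.up ℤ)).obj I) := by
  refine ⟨fun {K} f hK => ?_⟩
  let f' : (L.mapHomologicalComplex _).obj K ⟶ I :=
    { f := fun n => (adj.homEquiv _ _).symm (f.f n)
      comm' := fun i j _ => by
        show (adj.homEquiv _ _).symm (f.f i) ≫ I.d i j = L.map (K.d i j) ≫ (adj.homEquiv _ _).symm (f.f j)
        rw [← adj.homEquiv_naturality_right_symm, ← adj.homEquiv_naturality_left_symm]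
        exact congrArg _ (f.comm i j) }
  have hac : ((L.mapHomologicalComplex _).obj K).Acyclic := fun n => (hK n).map L
  let u : K ⟶ (R.mapHomologicalComplex _).obj ((L.mapHomologicalComplex _).obj K) :=
    { f := fun n => adj.unit.app _
      comm' := fun i j _ => (adj.unit.naturality (K.d i j)).symm }
  have hu : f = u ≫ (R.mapHomologicalComplex _).map f' := by
    ext n
    show f.f n = adj.unit.app _ ≫ R.map ((adj.homEquiv _ _).symm (f.f n))
    exact ((adj.homEquiv_unit _ _ _).symm.trans ((adj.homEquiv _ _).apply_symm_apply _)).symm
  refine ⟨?_⟩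
  rw [hu]
  exact ((R.mapHomotopy (CochainComplex.IsKInjective.homotopyZero f' hac)).compLeft u).trans
    (Homotopy.ofEq (by simp))

open CategoryTheory CategoryTheory.Limits in
theorem leftAdj {A B : Type*} [Category A] [Category B] [Abelian A] [Abelian B] {L : B ⥤ A} {R : A ⥤ B}
    (adj : L ⊣ R) [R.Additive] : PreservesFiniteColimits L ∧ L.Additive :=
  haveI : PreservesColimitsOfSize.{0, 0} L := adj.leftAdjoint_preservesColimits
  ⟨PreservesColimitsOfSize.preservesFiniteColimits _, adj.left_adjoint_additive⟩


/-- Let S be a scheme, I a K-injective complex of abelian sheaves on the big etale site of S (every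
morphism from an acyclic complex to I is null-homotopic) and f : T → S a scheme over S. Then (b) the
termwise restriction I|_{S_et} to the small etale site of S is K-injective, and (a) the termwise
restriction i_f⁻¹ I to the small etale site of T is K-injective. -/
theorem result (S : Scheme.{u})
    (I : CochainComplex (BigSite.Ab Scheme.etalePrecoverage S) ℤ) [I.IsKInjective] {T : Scheme.{u}} (f : T ⟶ S) :
    CochainComplex.IsKInjective (((BigSite.resEt Scheme.etalePrecoverage S).mapHomologicalComplex (ComplexShape.up ℤ)).obj I) ∧
      CochainComplex.IsKInjective (((BigSite.resEtAlong Scheme.etalePrecoverage f).mapHomologicalComplex (ComplexShape.up ℤ)).obj I) := by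
  obtain ⟨h1, h2⟩ := leftAdj (BigSite.piEtAdj Scheme.etalePrecoverage S)
  obtain ⟨h3, h4⟩ := leftAdj (BigSite.shriekAbAdj Scheme.etalePrecoverage f)
  obtain ⟨h5, h6⟩ := leftAdj (BigSite.piEtAdj Scheme.etalePrecoverage T)
  refine ⟨isKInjective_of_adj (BigSite.piEtAdj Scheme.etalePrecoverage S) I, ?_⟩
  haveI := isKInjective_of_adj (BigSite.shriekAbAdj Scheme.etalePrecoverage f) I
  exact isKInjective_of_adj (BigSite.piEtAdj Scheme.etalePrecoverage T)
    (((BigSite.pullBig Scheme.etalePrecoverage f AddCommGrpCat.{u + 1}).mapHomologicalComplex (ComplexShape.up ℤ)).obj I)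

end Groth.Agent.S6697
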