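import Groth.Statements.S6698
import Groth.Agent.Lib.BcMapQ6.CxGeneral

set_option maxHeartbeats 1600000
set_option backward.isDefEq.respectTransparency false
set_option backward.isDefEq.respectTransparency.types false

set_option autoImplicit false
universe u
open CategoryTheory CategoryTheory.Limits AlgebraicGeometry Opposite
attribute [local instance] HasDerivedCategory.standard
open EtBC
open Groth.Agent.BcMapQ6

namespace Groth.Agent.S6698

/-- Let Y = X ×_S T be a cartesian square of schemes with f : X → S, g : T → S, h : Y → X, e : Y → T,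
and K an object of D(T_et). Let (U_i → X) be a jointly surjective family of etale X-schemes such
that every U_i → S factors as a_i : U_i → V_i followed by an etale V_i → S, and let T_i = V_i ×_S T
(projections g_i, t_i) and Y_i = U_i ×_{V_i} T_i (projections h_i, e_i). If for every i the base
change morphism a_i⁻¹ Rg_i,_* (t_i⁻¹ K) → Rh_i,_* e_i⁻¹ (t_i⁻¹ K) is an isomorphism, then the base
change morphism f⁻¹ Rg_* K → Rh_* e⁻¹ K is an isomorphism. (Unbounded derived direct images exist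
under the stated binders; each base change morphism is the transpose under an adjunction between
inverse image and derived direct image on derived categories, supplied as data; left exactness of
the inverse images is carried as instance hypotheses.) -/
theorem result {X S Y T : Scheme.{u}} (f : X ⟶ S) (g : T ⟶ S) (h : Y ⟶ X) (e : Y ⟶ T)
    (c : IsPullback e h g f) [PreservesFiniteLimits (EtCoh.pull e)] [PreservesFiniteLimits (EtCoh.pull f)]
    [DCoh.HasRpushEt T g] [DCoh.HasRpushEt Y h] [DCoh.HasRpushEt X f] (adj : EtBC.pullD f ⊣ DCoh.RpushEt X f)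
    (K : DCoh.DEt T)
    {ι : Type u} (U : ι → X.Etale) (hU : EtCoh.Covers U) (V : ι → S.Etale)
    (a : ∀ i, (U i).left ⟶ (V i).left) (ha : ∀ i, a i ≫ (V i).hom = (U i).hom ≫ f)
    (Ti Yi : ι → Scheme.{u}) (gi : ∀ i, Ti i ⟶ (V i).left) (ti : ∀ i, Ti i ⟶ T)
    (cT : ∀ i, IsPullback (ti i) (gi i) g (V i).hom)
    (hi : ∀ i, Yi i ⟶ (U i).left) (ei : ∀ i, Yi i ⟶ Ti i) (cY : ∀ i, IsPullback (ei i) (hi i) (gi i) (a i))
    [∀ i, PreservesFiniteLimits (EtCoh.pull (ei i))] [∀ i, PreservesFiniteLimits (EtCoh.pull (a i))]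
    [∀ i, PreservesFiniteLimits (EtCoh.pull (ti i))]
    [∀ i, DCoh.HasRpushEt (Ti i) (gi i)] [∀ i, DCoh.HasRpushEt (Yi i) (hi i)] [∀ i, DCoh.HasRpushEt (U i).left (a i)]
    (adji : ∀ i, EtBC.pullD (a i) ⊣ DCoh.RpushEt (U i).left (a i))
    (hloc : ∀ i, IsIso (EtBC.bcMap (gi i) (a i) (hi i) (ei i) (cY i).w (adji i) ((EtBC.pullD (ti i)).obj K))) :
    IsIso (EtBC.bcMap g f h e c.w adj K) := by
  obtain ⟨I, hI, ⟨ε⟩⟩ := KInjLib.exists_iso_kInjective K
  haveI := hI
  obtain ⟨J, χ, hJ, hχ⟩ := KInjLib.enoughKInj_of_grothendieck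
    (((EtCoh.pull e).mapHomologicalComplex (ComplexShape.up ℤ)).obj I)
  haveI := hJ
  haveI := hχ
  refine (isIso_bcMap_iff_cx f g e h c.w adj I χ ε.symm).2 (quasiIso_of_covers _ U hU fun r => ?_)
  haveI : AlgebraicGeometry.Etale (U r).hom := (U r).prop
  haveI : AlgebraicGeometry.Etale (V r).hom := (V r).prop
  haveI : AlgebraicGeometry.Etale (ti r) := MorphismProperty.of_isPullback (cT r).flip ‹_›
  have co : IsPullback (ei r ≫ ti r) (hi r) g (a r ≫ (V r).hom) := (cY r).paste_horiz (cT r)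
  let k : Yi r ⟶ Y := c.lift (ei r ≫ ti r) (hi r ≫ (U r).hom) (by rw [co.w, ha, Category.assoc])
  have hk₁ : k ≫ e = ei r ≫ ti r := c.lift_fst _ _ _
  have hk₂ : k ≫ h = hi r ≫ (U r).hom := c.lift_snd _ _ _
  have co' : IsPullback (k ≫ e) (hi r) g ((U r).hom ≫ f) := by rw [hk₁, ← ha]; exact co
  have ck : IsPullback k (hi r) h (U r).hom := IsPullback.of_right co' hk₂ c
  haveI : AlgebraicGeometry.Etale k := MorphismProperty.of_isPullback ck.flip ‹_›
  let Ie := ((EtCoh.pull (ti r)).mapHomologicalComplex (ComplexShape.up ℤ)).obj I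
  haveI : CochainComplex.IsKInjective Ie := isKInjective_pull_etale (ti r) I
  obtain ⟨J', χ', hJ', hχ'⟩ := KInjLib.enoughKInj_of_grothendieck
    (((EtCoh.pull (ei r)).mapHomologicalComplex (ComplexShape.up ℤ)).obj Ie)
  haveI := hJ'
  haveI := hχ'
  let ε₁ : DerivedCategory.Q.obj Ie ≅ (EtBC.pullD (ti r)).obj K :=
    ((EtCoh.pull (ti r)).mapDerivedCategoryFactors.app I).symm ≪≫ (EtBC.pullD (ti r)).mapIso ε.symm
  have h2 := (isIso_bcMap_iff_cx (a r) (gi r) (ei r) (hi r) (cY r).w (adji r) Ie χ' ε₁).1 (hloc r)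
  haveI := quasiIso_χcomp (ti r) (ei r) I (𝟙 Ie) χ'
  have h1 := quasiIso_ΦG_comp (V r).hom g (gi r) (ti r) (cT r).w (a r) (hi r) (ei r) (cY r).w co.w I (𝟙 Ie) χ'
    (quasiIso_ΦG_etale g (V r).hom (gi r) (ti r) (cT r) I) h2
  obtain ⟨χ₂, hχ₂, h1'⟩ := exists_quasiIso_ΦG_congr g (hi r) (ha r) hk₁.symm co.w co'.w I _ h1
  haveI := hχ₂
  let Jk := ((EtCoh.pull k).mapHomologicalComplex (ComplexShape.up ℤ)).obj J
  haveI : CochainComplex.IsKInjective Jk := isKInjective_pull_etale k J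
  haveI := quasiIso_χcomp e k I χ (𝟙 Jk)
  exact quasiIso_pull_ΦG f g h e c.w (U r).hom (hi r) k hk₂ co'.w I χ (𝟙 Jk)
    (quasiIso_ΦG_indep ((U r).hom ≫ f) g (k ≫ e) (hi r) co'.w I χ₂ (χcomp e k I χ (𝟙 Jk)) h1')
    (quasiIso_ΦG_etale h (U r).hom (hi r) k ck J)

end Groth.Agent.S6698
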