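import Groth.Statements.S6699
import Groth.Agent.Lib.ModGen6.Gen

set_option autoImplicit false
universe u
open CategoryTheory CategoryTheory.Limits AlgebraicGeometry Opposite
attribute [local instance] HasDerivedCategory.standard
open EtModD

namespace Groth.Agent.S6699

/-- Let X be a quasi-compact and quasi-separated scheme, Λ a Noetherian ring, K an object of D(X_et, Λ)
and b an integer such that the b-th cohomology sheaf of K is a constructible sheaf of Λ-modules.
Then there exist finitely many affine schemes U_k with etale morphisms j_k : U_k → X and a morphism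
φ : F[-b] → K in D(X_et, Λ), where F is the direct sum of the sheaves j_{k!} Λ (extension by zero of
the constant sheaf Λ on U_k) placed in degree b, such that the map induced by φ on b-th cohomology
sheaves is an epimorphism F → H^b(K). (Continuity of the functors V ↦ (V → U_k → X) between small
etale sites, true for every etale morphism, appears as an instance binder in front of the
extension-by-zero terms.) -/
theorem result (Λ : Type (u + 1)) [CommRing Λ] [IsNoetherianRing Λ] (X : Scheme.{u})
    [CompactSpace X] [QuasiSeparatedSpace X] (K : EtModD.D Λ X) (b : ℤ)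
    (hK : EtModW.IsConstructible Λ (EtModD.HD K b)) :
    ∃ (m : ℕ) (U : Fin m → Scheme.{u}) (j : ∀ k, U k ⟶ X) (_ : ∀ k, Etale (j k)) (_ : ∀ k, IsAffine (U k)),
      ∀ [∀ k, EtShriek.JCont (j k)],
        ∃ φ : (DerivedCategory.singleFunctor (EtModW.Mod Λ X) b).obj
              (∐ fun k => (EtSix.extZeroMod Λ (j k)).obj (EtSix.constΛ Λ (U k))) ⟶ K,
          Epi ((DerivedCategory.homologyFunctor (EtModW.Mod Λ X) b).map φ) := by
  let L := DerivedCategory.Q.objPreimage K
  let e : DerivedCategory.Q.obj L ≅ K := DerivedCategory.Q.objObjPreimageIso K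
  let h : L.homology b ≅ EtModD.HD K b :=
    ((DerivedCategory.homologyFunctorFactors (EtModW.Mod Λ X) b).app L).symm ≪≫
      (DerivedCategory.homologyFunctor (EtModW.Mod Λ X) b).mapIso e
  obtain ⟨m, U, j, hj, hU, hφ⟩ := Groth.Agent.ModGen6.exists_sum_comp_epi (L.homologyπ b ≫ h.hom) hK
  refine ⟨m, U, j, hj, hU, fun {_} => ?_⟩
  obtain ⟨φ, hφ⟩ := @hφ inferInstance
  let P := ∐ fun k => (EtSix.extZeroMod Λ (j k)).obj (EtSix.constΛ Λ (U k))
  let S := (HomologicalComplex.single (EtModW.Mod Λ X) (ComplexShape.up ℤ) b).obj P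
  let ψ : S ⟶ L := HomologicalComplex.mkHomFromSingle (φ ≫ L.iCycles b)
    (fun i _ => by rw [Category.assoc, L.iCycles_d, comp_zero])
  have hc : (HomologicalComplex.singleObjCyclesSelfIso (ComplexShape.up ℤ) b P).inv ≫
      HomologicalComplex.cyclesMap ψ b = φ := by
    apply (cancel_mono (L.iCycles b)).1
    rw [Category.assoc, HomologicalComplex.cyclesMap_i,
      HomologicalComplex.singleObjCyclesSelfIso_inv_iCycles_assoc, HomologicalComplex.mkHomFromSingle_f,
      Iso.inv_hom_id_assoc]
  haveI : Epi (HomologicalComplex.homologyMap ψ b ≫ h.hom) := by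
    have e1 : (HomologicalComplex.singleObjCyclesSelfIso (ComplexShape.up ℤ) b P).inv ≫ S.homologyπ b ≫
        HomologicalComplex.homologyMap ψ b ≫ h.hom = φ ≫ L.homologyπ b ≫ h.hom := by
      rw [HomologicalComplex.homologyπ_naturality_assoc, reassoc_of% hc]
    haveI : Epi (((HomologicalComplex.singleObjCyclesSelfIso (ComplexShape.up ℤ) b P).inv ≫ S.homologyπ b) ≫
        (HomologicalComplex.homologyMap ψ b ≫ h.hom)) := by
      rw [Category.assoc, e1]; exact hφ
    exact epi_of_epi ((HomologicalComplex.singleObjCyclesSelfIso (ComplexShape.up ℤ) b P).inv ≫ S.homologyπ b) _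
  let iS := (DerivedCategory.singleFunctorIsoCompQ (EtModW.Mod Λ X) b).app P
  refine ⟨iS.hom ≫ DerivedCategory.Q.map ψ ≫ e.hom, ?_⟩
  let F := DerivedCategory.homologyFunctor (EtModW.Mod Λ X) b
  let η := DerivedCategory.homologyFunctorFactors (EtModW.Mod Λ X) b
  have hh : h.hom = η.inv.app L ≫ F.map e.hom := rfl
  have nat : F.map (DerivedCategory.Q.map ψ) =
      η.hom.app S ≫ HomologicalComplex.homologyMap ψ b ≫ η.inv.app L :=
    (NatIso.naturality_2 η ψ).symm
  have e2 : F.map (iS.hom ≫ DerivedCategory.Q.map ψ ≫ e.hom) = (F.map iS.hom ≫ η.hom.app S) ≫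
      (HomologicalComplex.homologyMap ψ b ≫ h.hom) := by
    refine (F.map_comp _ _).trans ((congrArg (F.map iS.hom ≫ ·) (F.map_comp _ _)).trans ?_)
    rw [hh]
    refine (congrArg (fun t => F.map iS.hom ≫ t ≫ F.map e.hom) nat).trans ?_
    exact (congrArg (F.map iS.hom ≫ ·) ((Category.assoc _ _ _).trans (congrArg (η.hom.app S ≫ ·) (Category.assoc _ _ _)))).trans
      (Category.assoc _ _ _).symm
  show Epi (F.map (iS.hom ≫ DerivedCategory.Q.map ψ ≫ e.hom))
  rw [e2]
  exact epi_comp' (epi_comp' inferInstance (@IsIso.epi_of_iso _ _ _ _ _ (η.app S).isIso_hom)) this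

end Groth.Agent.S6699
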