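import Groth.Statements.S6701
import Groth.Agent.Lib.StalkLim24.Main

set_option autoImplicit false
universe u
open CategoryTheory CategoryTheory.Limits AlgebraicGeometry Opposite
open EtBC

namespace Groth.Agent.S6701

/-- Let ι be a nonempty directed preordered set and consider an inverse system, indexed by ι, of
cartesian squares of schemes Y_i = X_i ×_{S_i} T_i (maps f_i : X_i → S_i, g_i : T_i → S_i
quasi-compact and quasi-separated, h_i : Y_i → X_i, e_i : Y_i → T_i) whose transition morphisms are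
affine. Let X, S, T, Y be limits of the four systems, with the induced morphisms f : X → S, g : T →
S, h : Y → X, e : Y → T forming a cartesian square compatible with the projections. Let (F_i) be
abelian sheaves on the small etale sites of the T_i with maps φ_ij : u_ij⁻¹ F_i → F_j for i ≤ j
satisfying the cocycle condition, and let F be the colimit on T of the sheaves p_i⁻¹ F_i along the
maps induced by the φ_ij (presented as the colimit of any diagram G identified with (p_i⁻¹ F_i)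
compatibly). If for every i the degree-q base change map f_i⁻¹ R^q g_i,_* F_i → R^q h_i,_* e_i⁻¹ F_i
is an isomorphism, then the degree-q base change map f⁻¹ R^q g_* F → R^q h_* e⁻¹ F is an
isomorphism. (Left exactness of the inverse image functors is carried as instance hypotheses.) -/
theorem result {ι : Type u} [Preorder ι] [Nonempty ι] [IsDirected ι (· ≤ ·)]
    (Xs Ss Ts Ys : ιᵒᵖ ⥤ Scheme.{u}) (fN : Xs ⟶ Ss) (gN : Ts ⟶ Ss) (hN : Ys ⟶ Xs) (eN : Ys ⟶ Ts)
    (sq : ∀ a : ιᵒᵖ, IsPullback (eN.app a) (hN.app a) (gN.app a) (fN.app a))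
    [∀ a : ιᵒᵖ, QuasiCompact (gN.app a)] [∀ a : ιᵒᵖ, QuasiSeparated (gN.app a)]
    (haff : ∀ ⦃a b : ιᵒᵖ⦄ (m : a ⟶ b),
      IsAffineHom (Xs.map m) ∧ IsAffineHom (Ss.map m) ∧ IsAffineHom (Ts.map m) ∧ IsAffineHom (Ys.map m))
    (cX : Cone Xs) (hcX : IsLimit cX) (cS : Cone Ss) (hcS : IsLimit cS)
    (cT : Cone Ts) (hcT : IsLimit cT) (cY : Cone Ys) (hcY : IsLimit cY)
    (f : cX.pt ⟶ cS.pt) (g : cT.pt ⟶ cS.pt) (h : cY.pt ⟶ cX.pt) (e : cY.pt ⟶ cT.pt)
    (hf : ∀ a, f ≫ cS.π.app a = cX.π.app a ≫ fN.app a) (hg : ∀ a, g ≫ cS.π.app a = cT.π.app a ≫ gN.app a)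
    (hh : ∀ a, h ≫ cX.π.app a = cY.π.app a ≫ hN.app a) (he : ∀ a, e ≫ cT.π.app a = cY.π.app a ≫ eN.app a)
    (c : IsPullback e h g f)
    [∀ a, PreservesFiniteLimits (EtCoh.pull (eN.app a))] [PreservesFiniteLimits (EtCoh.pull e)]
    (F : ∀ i : ι, EtCoh.Ab (Ts.obj (op i)))
    (φ : ∀ ⦃i j : ι⦄ (hij : i ≤ j), (EtCoh.pull (Ts.map (homOfLE hij).op)).obj (F i) ⟶ F j)
    (hφ : ∀ ⦃i j k : ι⦄ (hij : i ≤ j) (hjk : j ≤ k),
      φ (hij.trans hjk) = (EtLim.pullTrans Ts hij hjk).hom.app (F i) ≫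
        (EtCoh.pull (Ts.map (homOfLE hjk).op)).map (φ hij) ≫ φ hjk)
    (G : ι ⥤ EtCoh.Ab cT.pt) (ψ : ∀ i : ι, (EtCoh.pull (cT.π.app (op i))).obj (F i) ≅ G.obj i)
    (hψ : ∀ ⦃i j : ι⦄ (hij : i ≤ j), (ψ i).hom ≫ G.map (homOfLE hij) =
      (EtLim.pullTransCone Ts cT hij).hom.app (F i) ≫ (EtCoh.pull (cT.π.app (op j))).map (φ hij) ≫ (ψ j).hom)
    (q : ℕ)
    (hstage : ∀ i : ι, IsIso (EtBC.bcQ (gN.app (op i)) (fN.app (op i)) (hN.app (op i)) (eN.app (op i))
      (sq (op i)).w q (F i))) :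
    IsIso (EtBC.bcQ g f h e c.w q (colimit G)) := by
  exact Groth.Agent.StalkLim24.isIso_bcQ_limit Xs Ss Ts Ys fN gN hN eN sq (fun _ _ m => (haff m).1)
    (fun _ _ m => (haff m).2.1) (fun _ _ m => (haff m).2.2.1) (fun _ _ m => (haff m).2.2.2) cX hcX cS hcS cT hcT cY hcY
    f g h e hf hg hh he c.w F φ hφ G ψ hψ q hstage

end Groth.Agent.S6701
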