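import Groth.Statements.S6705
import Groth.Agent.Lib.Sib9.Ext
import Groth.Agent.Lib.Sib9.Devissage

set_option autoImplicit false
set_option linter.style.haveILetI false
set_option backward.isDefEq.respectTransparency false
universe w v u v' u'
open CategoryTheory
open DEquiv

namespace Groth.Agent.S6705

open CategoryTheory.Limits CategoryTheory.Pretriangulated in
/-- Let A be an abelian category, D a triangulated category, and F, F' : D^b(A) ⥤ D exact functors of
triangulated categories which are siblings: their restrictions to A (objects in degree 0) are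
isomorphic functors and F K ≅ F' K for every K. If F is fully faithful, then F' is fully faithful.
(That essential surjectivity likewise passes from F to F' is immediate from the second sibling
condition and is not stated.) -/
theorem result
    {A : Type u} [Category.{v} A] [Abelian A] [HasDerivedCategory.{w} A]
    {D : Type u'} [Category.{v'} D] [Preadditive D] [HasZeroObject D] [HasShift D ℤ]
    [∀ n : ℤ, (shiftFunctor D n).Additive] [Pretriangulated D] [IsTriangulated D]
    (F F' : DerivedCategory.Bounded A ⥤ D) [F.CommShift ℤ] [F.IsTriangulated]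
    [F'.CommShift ℤ] [F'.IsTriangulated]
    (h1 : Nonempty (DEquiv.singleB A ⋙ F ≅ DEquiv.singleB A ⋙ F'))
    (h2 : ∀ K : DerivedCategory.Bounded A, Nonempty (F.obj K ≅ F'.obj K))
    [F.Full] [F.Faithful] : F'.Full ∧ F'.Faithful := by
  obtain ⟨σ⟩ := h1
  have hv : Groth.Agent.Sib9.Vanishing (A := A) F := Groth.Agent.Sib9.vanishing_of_full
  let T := DerivedCategory.Bounded A
  have r : ∀ L : T, ∀ (a : ℤ) (X : A),
      Groth.Agent.Sib9.Bij F' ((Groth.Agent.Sib9.sF A a).obj X) L := by
    intro L
    obtain ⟨a₀, b₀, hab, ha₀, hb₀⟩ := Groth.Agent.Sib9.exists_window L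
    have key := Groth.Agent.Sib9.bounded_induction
      (fun _ L => ∀ (a : ℤ) (X : A), Groth.Agent.Sib9.Bij F' ((Groth.Agent.Sib9.sF A a).obj X) L)
      (fun i h a X => (h a X).of_iso (Iso.refl _) i)
      (fun c Y a X => Groth.Agent.Sib9.bij_single σ hv X Y)
      (fun c Y R K f p h hT _ ih a X => by
        have hs : ∀ (L : T), (∀ (a : ℤ), Groth.Agent.Sib9.Bij F' ((Groth.Agent.Sib9.sF A a).obj X) L) →
            ∀ (a n : ℤ), Groth.Agent.Sib9.Bij F' ((Groth.Agent.Sib9.sF A a).obj X) (L⟦n⟧) :=
          fun L hL a n => ((hL (a + n)).shift n).of_iso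
            (Groth.Agent.Sib9.kap (a + n) a n rfl X) (Iso.refl _)
        exact Groth.Agent.Sib9.bij_ext_right F' _ hT
          (hs _ (fun a => Groth.Agent.Sib9.bij_single σ hv X Y) a _) (ih a X)
          (Groth.Agent.Sib9.bij_single σ hv X Y) (hs _ (fun a => ih a X) a _))
      L hab ha₀ hb₀
    exact key
  have l : ∀ K L : T, Groth.Agent.Sib9.Bij F' K L := by
    intro K
    obtain ⟨a₀, b₀, hab, ha₀, hb₀⟩ := Groth.Agent.Sib9.exists_window K
    exact Groth.Agent.Sib9.bounded_induction
      (fun _ K => ∀ L : T, Groth.Agent.Sib9.Bij F' K L)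
      (fun i h L => (h L).of_iso i (Iso.refl _))
      (fun c Y L => r L c Y)
      (fun c Y R K f p h hT _ ih L => by
        have hs : ∀ (K : T), (∀ L : T, Groth.Agent.Sib9.Bij F' K L) →
            ∀ (n : ℤ) (L : T), Groth.Agent.Sib9.Bij F' (K⟦n⟧) L :=
          fun K hK n L => ((hK (L⟦-n⟧)).shift n).of_iso (Iso.refl _)
            ((shiftFunctorCompIsoId T (-n) n (by omega)).app L)
        exact Groth.Agent.Sib9.bij_ext_left F' _ hT
          (hs _ (fun L => r L c Y) _ L) (ih L) (r L c Y) (hs _ ih _ L))
      K hab ha₀ hb₀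
  exact ⟨⟨fun {K L} f => (l K L).2 f⟩, ⟨fun {K L} f g h => (l K L).1 h⟩⟩

end Groth.Agent.S6705
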