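import Groth.Statements.S6707
import Groth.Agent.Lib.DerAlg.Efface
-- import your own Groth.Agent.* helpers here

set_option autoImplicit false
universe w v u
open CategoryTheory
open DEquiv

namespace Groth.Agent.S6707

open CategoryTheory CategoryTheory.Limits

variable {A : Type u} [Category.{v} A] [Abelian A] [HasDerivedCategory.{w} A]

/-- A morphism from a single object in degree `b` to an object `≤ b - 1` is effaced by an epi. -/
theorem exists_epi_comp_eq_zero_deg (b : ℤ) {B : A} {Y : DerivedCategory A} [Y.IsLE (b - 1)]
    (f : (DerivedCategory.singleFunctor A b).obj B ⟶ Y) :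
    ∃ (B' : A) (p : B' ⟶ B), Epi p ∧ (DerivedCategory.singleFunctor A b).map p ≫ f = 0 := by
  let e := (DerivedCategory.singleFunctors A).shiftIso b 0 b (add_zero b)
  have : DerivedCategory.IsLE ((shiftFunctor (DerivedCategory A) b).obj Y) (-1) :=
    DerivedCategory.TStructure.t.isLE_shift Y (b - 1) b (-1)
  obtain ⟨B', p, hp, h⟩ := Groth.Agent.DerAlg.exists_epi_comp_eq_zero
    (e.inv.app B ≫ (shiftFunctor (DerivedCategory A) b).map f)
  refine ⟨B', p, hp, (shiftFunctor (DerivedCategory A) b).map_injective ?_⟩
  rw [Functor.map_comp, Functor.map_zero, ← cancel_epi (e.inv.app B'), comp_zero]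
  exact ((Category.assoc _ _ _).symm.trans ((congrArg (· ≫ _) (e.inv.naturality p).symm).trans
    ((Category.assoc _ _ _).trans h)))

/-- The top degree term of a complex maps onto the top cohomology. -/
theorem exists_single_map_epi_homology (b : ℤ) (X : DerivedCategory A) [X.IsLE b] :
    ∃ (P : A) (g : (DerivedCategory.singleFunctor A b).obj P ⟶ X),
      Epi ((DerivedCategory.homologyFunctor A b).map g) := by
  obtain ⟨K, hK, ⟨e⟩⟩ := X.exists_iso_Q_obj_of_isLE b
  have hd : K.d b ((ComplexShape.up ℤ).next b) = 0 :=
    (K.isZero_of_isStrictlyLE b _ (by simp)).eq_of_tgt _ _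
  let i : (HomologicalComplex.single A (ComplexShape.up ℤ) b).obj (K.X b) ⟶ K :=
    HomologicalComplex.mkHomFromSingle (𝟙 _)
      (fun k hk => (K.isZero_of_isStrictlyLE b k (by simp at hk; omega)).eq_of_tgt _ _)
  have h1 : IsIso (K.iCycles b) := HomologicalComplex.isIso_iCycles _ b _ rfl hd
  have h2 : IsIso (((HomologicalComplex.single A (ComplexShape.up ℤ) b).obj (K.X b)).iCycles b) :=
    HomologicalComplex.isIso_iCycles _ b _ rfl rfl
  have h3 : IsIso (HomologicalComplex.cyclesMap i b) := by
    have : IsIso (HomologicalComplex.cyclesMap i b ≫ K.iCycles b) := by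
      rw [HomologicalComplex.cyclesMap_i]
      simp only [i, HomologicalComplex.mkHomFromSingle_f]
      infer_instance
    exact IsIso.of_isIso_comp_right _ (K.iCycles b)
  have h4 : Epi (HomologicalComplex.homologyMap i b) :=
    epi_of_epi_fac (HomologicalComplex.homologyπ_naturality i b)
  refine ⟨K.X b, DerivedCategory.Q.map i ≫ e.inv, ?_⟩
  rw [Functor.map_comp]
  have h5 : Epi ((DerivedCategory.homologyFunctor A b).map (DerivedCategory.Q.map i)) := by
    let α := (DerivedCategory.homologyFunctorFactors A b).app
      ((HomologicalComplex.single A (ComplexShape.up ℤ) b).obj (K.X b))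
    let β := (DerivedCategory.homologyFunctorFactors A b).app K
    have h6 : (DerivedCategory.homologyFunctor A b).map (DerivedCategory.Q.map i) ≫ β.hom =
        α.hom ≫ HomologicalComplex.homologyMap i b :=
      (DerivedCategory.homologyFunctorFactors A b).hom.naturality i
    have h7 : (DerivedCategory.homologyFunctor A b).map (DerivedCategory.Q.map i) =
        (α.hom ≫ HomologicalComplex.homologyMap i b) ≫ β.inv :=
      β.eq_comp_inv.2 h6
    exact h7.symm ▸ epi_comp' (epi_comp' (IsIso.epi_of_iso α.hom) h4) (IsIso.epi_of_iso β.inv)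
  exact epi_comp' h5 (IsIso.epi_of_iso _)

theorem epi_homology_single_map (b : ℤ) {P Q : A} (p : P ⟶ Q) [Epi p] :
    Epi ((DerivedCategory.homologyFunctor A b).map
      ((DerivedCategory.singleFunctor A b).map p)) := by
  have := (DerivedCategory.singleFunctorCompHomologyFunctorIso A b).hom.naturality p
  dsimp at this
  have h : (DerivedCategory.homologyFunctor A b).map ((DerivedCategory.singleFunctor A b).map p) =
      (DerivedCategory.singleFunctorCompHomologyFunctorIso A b).hom.app P ≫ p ≫
        (DerivedCategory.singleFunctorCompHomologyFunctorIso A b).inv.app Q := by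
    rw [← Category.assoc, ← this, Category.assoc, Iso.hom_inv_id_app]
    simp
  rw [h]
  exact epi_comp' (IsIso.epi_of_iso _) (epi_comp' inferInstance (IsIso.epi_of_iso _))


open CategoryTheory.Limits in
/-- Let A be an abelian category in which every object X is the target of an epimorphism N ⟶ X with
Hom(X, N) = 0. Let f : X ⟶ X' be a morphism between bounded objects of D(A) and b an integer with
H^i(X) = 0 for i > b and H^i(X') = 0 for i ≥ b. Then there exist an object N of A and a morphism
N⟦-b⟧ ⟶ X (N placed in degree b) inducing an epimorphism N ⟶ H^b(X), with Hom(H^b(X), N) = 0, and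
whose composite with f is zero. -/
theorem result
    {A : Type u} [Category.{v} A] [Abelian A] [HasDerivedCategory.{w} A]
    (hneg : ∀ X : A, ∃ (N : A) (p : N ⟶ X), Epi p ∧ ∀ f : X ⟶ N, f = 0)
    (X X' : DerivedCategory A) (f : X ⟶ X') (a b a' : ℤ) [X.IsGE a] [X.IsLE b] [X'.IsGE a']
    [X'.IsLE (b - 1)] :
    ∃ (N : A) (g : (DerivedCategory.singleFunctor A b).obj N ⟶ X),
      Epi ((DerivedCategory.homologyFunctor A b).map g) ∧
        (∀ φ : (DerivedCategory.homologyFunctor A b).obj X ⟶ N, φ = 0) ∧ g ≫ f = 0 := by
  obtain ⟨P, g, hg⟩ := exists_single_map_epi_homology b X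
  obtain ⟨P', p, hp, h0⟩ := exists_epi_comp_eq_zero_deg b (g ≫ f)
  obtain ⟨N, q, hq, hN⟩ := hneg P'
  have hpg : Epi ((DerivedCategory.homologyFunctor A b).map
      ((DerivedCategory.singleFunctor A b).map p ≫ g)) := by
    rw [Functor.map_comp]
    exact epi_comp' (epi_homology_single_map b p) hg
  refine ⟨N, (DerivedCategory.singleFunctor A b).map q ≫
    (DerivedCategory.singleFunctor A b).map p ≫ g, ?_, fun φ => ?_, ?_⟩
  · rw [Functor.map_comp]
    exact epi_comp' (epi_homology_single_map b q) hpg
  · have h1 := hN ((DerivedCategory.singleFunctorCompHomologyFunctorIso A b).inv.app P' ≫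
      (DerivedCategory.homologyFunctor A b).map
        ((DerivedCategory.singleFunctor A b).map p ≫ g) ≫ φ)
    rw [← cancel_epi ((DerivedCategory.singleFunctorCompHomologyFunctorIso A b).inv.app P' ≫
      (DerivedCategory.homologyFunctor A b).map
        ((DerivedCategory.singleFunctor A b).map p ≫ g))]
    rw [Category.assoc, h1, comp_zero]
  · rw [Category.assoc, Category.assoc, h0, comp_zero]

end Groth.Agent.S6707
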