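import Groth.Statements.S6708
-- import your own Groth.Agent.* helpers here

set_option autoImplicit false
universe v u
open CategoryTheory
open DEquiv

namespace Groth.Agent.S6708

open CategoryTheory.Limits CategoryTheory.Pretriangulated in
/-- Let D be a pretriangulated category, D' ⊆ D a full triangulated subcategory (given as a property of
objects that is triangulated in Mathlib's sense) and X an object of D. Then the category of arrows E
⟶ X with E in D' is filtered. -/
theorem result
    {D : Type u} [Category.{v} D] [Preadditive D] [HasZeroObject D] [HasShift D ℤ]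
    [∀ n : ℤ, (shiftFunctor D n).Additive] [Pretriangulated D]
    (P : ObjectProperty D) [P.IsTriangulated] (X : D) :
    IsFiltered (CostructuredArrow P.ι X) := by
  classical
  have : Nonempty (CostructuredArrow P.ι X) := by
    obtain ⟨Z, hZ, hPZ⟩ := P.exists_prop_of_containsZero
    exact ⟨CostructuredArrow.mk (0 : P.ι.obj ⟨Z, hPZ⟩ ⟶ X)⟩
  have : IsFilteredOrEmpty (CostructuredArrow P.ι X) := by
    constructor
    · intro a b
      have hP := P.ext_of_isTriangulatedClosed₂' _
        (binaryBiproductTriangle_distinguished a.left.obj b.left.obj) a.left.property b.left.property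
      obtain ⟨Y, hY, ⟨e⟩⟩ := hP
      refine ⟨CostructuredArrow.mk (Y := ⟨Y, hY⟩) (S := P.ι) (e.inv ≫ biprod.desc a.hom b.hom), ?_, ?_, trivial⟩
      · exact CostructuredArrow.homMk (ObjectProperty.homMk (biprod.inl ≫ e.hom)) (by simp [ObjectProperty.ι])
      · exact CostructuredArrow.homMk (ObjectProperty.homMk (biprod.inr ≫ e.hom)) (by simp [ObjectProperty.ι])
    · intro a b f g
      obtain ⟨Z, i, δ, hT⟩ := distinguished_cocone_triangle (f.left.hom - g.left.hom)
      obtain ⟨Z', hZ', ⟨e⟩⟩ := P.ext_of_isTriangulatedClosed₃' _ hT a.left.property b.left.property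
      have hf := CostructuredArrow.w f
      have hg := CostructuredArrow.w g
      simp only [ObjectProperty.ι_obj, ObjectProperty.ι_map] at hf hg
      obtain ⟨x, hx⟩ := Triangle.yoneda_exact₂ _ hT b.hom (by
        show (f.left.hom - g.left.hom) ≫ b.hom = 0
        rw [Preadditive.sub_comp, hf, hg, sub_self])
      have hi : (f.left.hom - g.left.hom) ≫ i = 0 := comp_distTriang_mor_zero₁₂ _ hT
      let c : CostructuredArrow P.ι X :=
        CostructuredArrow.mk (Y := (⟨Z', hZ'⟩ : P.FullSubcategory)) (S := P.ι) (show Z' ⟶ X from e.inv ≫ x)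
      refine ⟨c,
        CostructuredArrow.homMk (ObjectProperty.homMk (show b.left.obj ⟶ Z' from i ≫ e.hom)) ?_, ?_⟩
      · simp only [ObjectProperty.ι_map, CostructuredArrow.mk_hom_eq_self]
        erw [Category.assoc, e.hom_inv_id_assoc]
        exact hx.symm
      · apply CostructuredArrow.hom_ext
        apply ObjectProperty.hom_ext
        simp only [CostructuredArrow.comp_left, CostructuredArrow.homMk_left, ObjectProperty.FullSubcategory.comp_hom, ObjectProperty.homMk_hom]
        rw [Preadditive.sub_comp, sub_eq_zero] at hi
        rw [reassoc_of% hi]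
  exact { }

end Groth.Agent.S6708
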