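import Groth.Statements.S6709
import Groth.Agent.Lib.CoRep9.Functor
import Groth.Agent.Lib.CoRep9.Stages
import Groth.Agent.S0984
import Groth.Agent.S1076

set_option autoImplicit false
set_option linter.style.haveILetI false
set_option backward.isDefEq.respectTransparency false
universe w v u
open CategoryTheory
open DEquiv

namespace Groth.Agent.S6709

section
open CategoryTheory.Limits CategoryTheory.Pretriangulated Opposite ZeroObject

open Groth.Agent.CoRep9

variable {D : Type u} [Category.{v} D] [Preadditive D] [HasZeroObject D] [HasShift D ℤ]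
  [∀ n : ℤ, (shiftFunctor D n).Additive] [Pretriangulated D] [IsTriangulated D] [HasCoproducts.{v} D]

/-- A small family of compact objects containing every compact object up to isomorphism. -/
theorem exists_small_compacts (hD : CohDer.IsCompactlyGenerated D) :
    ∃ (J : Type v) (S : J → D), (∀ a, CohDer.IsCompactObject (S a)) ∧
      ∀ X : D, CohDer.IsCompactObject X → ∃ a, Nonempty (X ≅ S a) := by
  haveI : HasColimitsOfShape (Discrete ℕ) D :=
    hasColimitsOfShape_of_equivalence (Discrete.equivalence (Equiv.ulift.{v} : ULift.{v} ℕ ≃ ℕ))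
  obtain ⟨ι₀, E₀, hc₀, hg₀⟩ := hD
  haveI : Inhabited D := ⟨0⟩
  let E : Option ι₀ → D := fun o => o.elim 0 E₀
  have hc : ∀ i, CohDer.IsCompactObject (E i) := by
    rintro (_ | i)
    · haveI := Groth.Agent.DerLimC.isTriangulated (D := D)
      haveI : ObjectProperty.IsClosedUnderIsomorphisms (fun K : D => CohDer.IsCompactObject K) :=
        ⟨fun e h => Groth.Agent.DerLimC.of_retract e.symm.retract h⟩
      exact ObjectProperty.prop_of_isZero (fun K : D => CohDer.IsCompactObject K) (isZero_zero D)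
    · exact hc₀ i
  have hg : CohDer.Generates E := fun K hK => hg₀ K fun i n f => hK (some i) n f
  refine ⟨{a : Idx E // CohDer.IsCompactObject (Obj E a)}, fun a => Obj E a.1, fun a => a.2, fun X hX => ?_⟩
  obtain ⟨K, f, i, hL, h0, hstep⟩ := S0984.result E hc hg X
  obtain ⟨N, g, hgX⟩ := S0984.exists_factor K f hL hX (𝟙 X)
  obtain ⟨s, E', g', h', hE', hfac⟩ := S1076.result E hc K f h0 hstep X hX N g
  have hP : P E X := (P E).prop_of_retract ⟨g', h' ≫ i N, by rw [← Category.assoc, hfac]; exact hgX.symm⟩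
    (envelope_le E (fun Y hY => by obtain ⟨j, _, hj⟩ := hY; exact ⟨j, hj⟩) E' hE')
  obtain ⟨a, ⟨e⟩⟩ := hP
  haveI : ObjectProperty.IsClosedUnderIsomorphisms (fun K : D => CohDer.IsCompactObject K) :=
    ⟨fun e h => Groth.Agent.DerLimC.of_retract e.symm.retract h⟩
  exact ⟨⟨a, ObjectProperty.prop_of_iso (fun K : D => CohDer.IsCompactObject K) e hX⟩, ⟨e⟩⟩

end

open CategoryTheory.Limits CategoryTheory.Pretriangulated Opposite in
/-- Let k be a field and D a k-linear triangulated category with arbitrary direct sums which is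
compactly generated; write D_c for the full subcategory of compact objects. Let H be a contravariant
k-linear functor from D_c to k-vector spaces which is cohomological (for every distinguished
triangle X ⟶ Y ⟶ Z of D with X, Y, Z compact, H(Z) ⟶ H(Y) ⟶ H(X) is exact) and such that every H(X)
is finite-dimensional. One can then find an object Y of D for which H becomes isomorphic to X ↦
Hom(X, Y), the functor represented by Y on compact objects (existence of such Y and of an
isomorphism of functors). -/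
theorem result
    {k : Type w} [Field k]
    {D : Type u} [Category.{v} D] [Preadditive D] [Linear k D] [HasZeroObject D] [HasShift D ℤ]
    [∀ n : ℤ, (shiftFunctor D n).Additive] [∀ n : ℤ, (shiftFunctor D n).Linear k]
    [Pretriangulated D] [IsTriangulated D] [HasCoproducts.{v} D]
    (hD : CohDer.IsCompactlyGenerated D)
    (H : (ObjectProperty.FullSubcategory (fun K : D => CohDer.IsCompactObject K))ᵒᵖ ⥤ ModuleCat.{v} k)
    [H.Additive]
    (hlin : ∀ (X Y : ObjectProperty.FullSubcategory (fun K : D => CohDer.IsCompactObject K))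
      (r : k) (f : X ⟶ Y), H.map (r • f).op = r • H.map f.op)
    (hcoh : ∀ T ∈ distTriang D, ∀ (h₁ : CohDer.IsCompactObject T.obj₁)
      (h₂ : CohDer.IsCompactObject T.obj₂) (h₃ : CohDer.IsCompactObject T.obj₃)
      (y : H.obj (op ⟨T.obj₂, h₂⟩)),
      H.map (ObjectProperty.homMk T.mor₁ : (⟨T.obj₁, h₁⟩ : ObjectProperty.FullSubcategory
          (fun K : D => CohDer.IsCompactObject K)) ⟶ ⟨T.obj₂, h₂⟩).op y = 0 →
        ∃ z : H.obj (op ⟨T.obj₃, h₃⟩),
          H.map (ObjectProperty.homMk T.mor₂ : (⟨T.obj₂, h₂⟩ : ObjectProperty.FullSubcategory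
            (fun K : D => CohDer.IsCompactObject K)) ⟶ ⟨T.obj₃, h₃⟩).op z = y)
    (hfin : ∀ X, Module.Finite k (H.obj X)) :
    ∃ Y : D, Nonempty (H ≅ (ObjectProperty.ι _).op ⋙ (linearYoneda k D).obj Y) := by
  classical
  haveI := Groth.Agent.DerLimC.isTriangulated (D := D)
  haveI : ObjectProperty.IsClosedUnderIsomorphisms (fun K : D => CohDer.IsCompactObject K) :=
    ⟨fun e h => Groth.Agent.DerLimC.of_retract e.symm.retract h⟩
  let P : ObjectProperty D := fun K => CohDer.IsCompactObject K
  obtain ⟨J, S, hS, hJ⟩ := exists_small_compacts hD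
  let mm : ∀ {A B : P.FullSubcategory}, (A.obj ⟶ B.obj) → (H.obj (op B) →ₗ[k] H.obj (op A)) :=
    fun f => (H.map (ObjectProperty.homMk f).op).hom
  have m_comp : ∀ {A B C : P.FullSubcategory} (f : A.obj ⟶ B.obj) (g : B.obj ⟶ C.obj) z,
      mm (f ≫ g) z = mm f (mm g z) := fun {A B C} f g z => by
    show H.map (ObjectProperty.homMk (f ≫ g) : A ⟶ C).op z = _
    rw [show (ObjectProperty.homMk (f ≫ g) : A ⟶ C) = ObjectProperty.homMk f ≫ (ObjectProperty.homMk g : B ⟶ C) from rfl,
      op_comp, H.map_comp]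
    rfl
  have m_id : ∀ (A : P.FullSubcategory) z, mm (A := A) (B := A) (𝟙 A.obj) z = z := fun A z => by
    show H.map (𝟙 (op A)) z = z
    rw [H.map_id]; rfl
  have m_add : ∀ {A B : P.FullSubcategory} (f g : A.obj ⟶ B.obj) z, mm (f + g) z = mm f z + mm g z :=
    fun {A B} f g z => by
      show H.map (ObjectProperty.homMk (f + g) : A ⟶ B).op z = _
      rw [show (ObjectProperty.homMk (f + g) : A ⟶ B) = ObjectProperty.homMk f + ObjectProperty.homMk g from rfl,
        op_add, H.map_add]
      rfl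
  let σ : Groth.Agent.CoRep9.Sys k D :=
    { J := J
      S := S
      h := fun a => H.obj (op ⟨S a, hS a⟩)
      m := fun f => mm f
      m_id := fun a z => m_id _ z
      m_comp := fun {a b c} f g z => m_comp (A := ⟨S a, hS a⟩) (B := ⟨S b, hS b⟩) (C := ⟨S c, hS c⟩) f g z
      m_add := fun {a b} f g z => m_add (A := ⟨S a, hS a⟩) (B := ⟨S b, hS b⟩) f g z
      exact := fun {a b} g y hy => by
        obtain ⟨C₀, d, dd, hT⟩ := distinguished_cocone_triangle₁ g
        have hC₀ : CohDer.IsCompactObject C₀ := P.ext_of_isTriangulatedClosed₁ _ hT (hS a) (hS b)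
        obtain ⟨c, ⟨e⟩⟩ := hJ C₀ hC₀
        refine hcoh _ hT hC₀ (hS a) (hS b) y ?_
        have h := hy c (e.inv ≫ d) (by rw [Category.assoc, show d ≫ g = 0 from comp_distTriang_mor_zero₁₂ _ hT, comp_zero])
        have := congrArg (mm (A := ⟨C₀, hC₀⟩) (B := ⟨S c, hS c⟩) e.hom) h
        rw [← m_comp, map_zero, e.hom_inv_id_assoc] at this
        exact this
      biprod := fun a b => by
        obtain ⟨c, ⟨e⟩⟩ := hJ (S a ⊞ S b) (P.ext_of_isTriangulatedClosed₂ _
          (binaryBiproductTriangle_distinguished (S a) (S b)) (hS a) (hS b))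
        exact ⟨c, biprod.inl ≫ e.hom, biprod.inr ≫ e.hom, e.inv ≫ biprod.fst, e.inv ≫ biprod.snd,
          by simp, by simp, by simp, by simp⟩
      fin := fun a => hfin _ }
  haveI := σ.isHomological
  haveI : ∀ κ : Type v, PreservesLimitsOfShape (Discrete κ) σ.G := σ.preservesProducts hS
  obtain ⟨Y, ⟨R⟩⟩ := (Brown.isRepresentable_of_compactlyGenerated hD σ.G).has_representation
  let η : σ.Nat' Y := R.homEquiv (𝟙 Y)
  have hR : ∀ (A : D) (f : A ⟶ Y), R.homEquiv f = σ.pull f η := fun A f => R.homEquiv_eq f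
  have hJ' := hJ
  choose idx hidx using hJ'
  let ee : ∀ A : P.FullSubcategory, A.obj ≅ S (idx A.obj A.property) := fun A => (hidx A.obj A.property).some
  let θ : ∀ A : P.FullSubcategory, (A.obj ⟶ Y) → H.obj (op A) := fun A f =>
    mm (A := A) (B := ⟨S (idx A.obj A.property), hS _⟩) (ee A).hom (η.1 _ ((ee A).inv ≫ f))
  have θnat : ∀ {A B : P.FullSubcategory} (g : A.obj ⟶ B.obj) (f : B.obj ⟶ Y), θ A (g ≫ f) = mm g (θ B f) := by
    intro A B g f
    show mm _ (η.1 _ _) = _
    rw [show (ee A).inv ≫ g ≫ f = ((ee A).inv ≫ g ≫ (ee B).hom) ≫ (ee B).inv ≫ f by simp, η.2]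
    refine (m_comp (A := A) (B := ⟨S (idx A.obj A.property), hS _⟩)
      (C := ⟨S (idx B.obj B.property), hS _⟩) (ee A).hom _ _).symm.trans ?_
    rw [Iso.hom_inv_id_assoc]
    exact m_comp (A := A) (B := B) (C := ⟨S (idx B.obj B.property), hS _⟩) g (ee B).hom _
  have θadd : ∀ A (f g : A.obj ⟶ Y), θ A (f + g) = θ A f + θ A g := fun A f g => by
    simp only [θ, Preadditive.comp_add, map_add]
  have θsmul : ∀ A (r : k) (f : A.obj ⟶ Y), θ A (r • f) = r • θ A f := fun A r f => by
    rw [show r • f = (r • 𝟙 A.obj) ≫ f by simp, θnat]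
    show H.map (r • (𝟙 A : A ⟶ A)).op _ = _
    rw [hlin]
    exact congrArg (r • ·) (m_id A _)
  have θbij : ∀ A, Function.Bijective (θ A) := by
    intro A
    let a : σ.J := idx A.obj A.property
    let Ψ : (A.obj ⟶ Y) → σ.h a := fun f => η.1 a ((ee A).inv ≫ f)
    have hΨ : Function.Bijective Ψ := by
      constructor
      · intro f f' h
        rw [← cancel_epi (ee A).inv]
        refine R.homEquiv.injective ?_
        rw [hR, hR]
        refine Groth.Agent.CoRep9.Sys.Nat'.ext' σ fun b t => ?_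
        show η.1 b (t ≫ (ee A).inv ≫ f) = η.1 b (t ≫ (ee A).inv ≫ f')
        rw [η.2 b a t, η.2 b a t]
        exact congrArg _ h
      · intro z
        let ζ : σ.Nat' (S a) := ⟨fun b => AddMonoidHom.mk' (fun t => σ.m t z) fun t t' => σ.m_add t t' z,
          fun b c g t => σ.m_comp g t z⟩
        obtain ⟨f, hf⟩ := R.homEquiv.surjective ζ
        refine ⟨(ee A).hom ≫ f, ?_⟩
        show η.1 a ((ee A).inv ≫ (ee A).hom ≫ f) = z
        rw [hR] at hf
        have := congrArg (fun x : σ.Nat' (S a) => x.1 a (𝟙 (S a))) hf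
        rw [Iso.inv_hom_id_assoc]
        exact ((congrArg (η.1 a) (Category.id_comp f)).symm.trans this).trans (σ.m_id a z)
    let u := mm (A := A) (B := ⟨S a, hS a⟩) (ee A).hom
    let v' := mm (A := (⟨S a, hS a⟩ : P.FullSubcategory)) (B := A) (ee A).inv
    have hu : Function.Bijective u := Function.bijective_iff_has_inverse.2 ⟨v', fun z => by
      refine (m_comp (A := ⟨S a, hS a⟩) (B := A) (C := ⟨S a, hS a⟩) (ee A).inv (ee A).hom z).symm.trans ?_
      rw [Iso.inv_hom_id]; exact m_id _ z, fun z => by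
      refine (m_comp (A := A) (B := ⟨S a, hS a⟩) (C := A) (ee A).hom (ee A).inv z).symm.trans ?_
      rw [Iso.hom_inv_id]; exact m_id _ z⟩
    exact hu.comp hΨ
  refine ⟨Y, ⟨(NatIso.ofComponents (fun A => (LinearEquiv.ofBijective
    (⟨⟨θ A.unop, θadd A.unop⟩, θsmul A.unop⟩ : (A.unop.obj ⟶ Y) →ₗ[k] H.obj A) (θbij A.unop)).toModuleIso)
    fun {A B} g => ?_).symm⟩⟩
  refine ModuleCat.hom_ext (LinearMap.ext fun f => ?_)
  exact θnat (A := B.unop) (B := A.unop) g.unop.hom f

end Groth.Agent.S6709
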