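import Groth.Statements.S6710
import Mathlib

set_option autoImplicit false
universe u v
open CategoryTheory
open FunMor

namespace Groth.Agent.S6710


/-- The statement for an affine scheme written in terms of modules: let A be a commutative ring, M a
finitely presented A-module and N a nonzero A-module with Supp(N) ⊆ Supp(M). Then Hom_A(M, N) is
nonzero. -/
theorem result
    (A : Type u) [CommRing A] (M : Type v) [AddCommGroup M] [Module A M]
    [Module.FinitePresentation A M] (N : Type v) [AddCommGroup N] [Module A N] [Nontrivial N]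
    (h : Module.support A N ⊆ Module.support A M) : Nontrivial (M →ₗ[A] N) := by
  classical
  obtain ⟨x, hx⟩ := exists_ne (0 : N)
  let J : Ideal A := (Submodule.span A {x}).annihilator
  have hJ : ∀ r, r ∈ J ↔ r • x = 0 := fun r => Submodule.mem_annihilator_span_singleton x r
  obtain ⟨⟨p, hp⟩⟩ := Ideal.nonempty_minimalPrimes (I := J) fun h => hx (by
    have := (hJ 1).1 (h ▸ Submodule.mem_top); rwa [one_smul] at this)
  haveI hpp : p.IsPrime := hp.1.1
  let P : PrimeSpectrum A := ⟨p, hpp⟩
  have hPN : P ∈ Module.support A N := Module.mem_support_iff_exists_annihilator.2 ⟨x, hp.1.2⟩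
  haveI hκ : Nontrivial (TensorProduct A p.ResidueField M) :=
    (Module.mem_support_iff_nontrivial_residueField_tensorProduct P).1 (h hPN)
  have hnil : ∀ a ∈ p, ∃ (n : ℕ) (s : A), s ∉ p ∧ (a ^ n * s) • x = 0 := by
    intro a ha
    by_contra hc
    push Not at hc
    let T : Submonoid A := Submonoid.powers a ⊔ p.primeCompl
    have hT : Disjoint (J : Set A) T := Set.disjoint_left.2 fun r hr hrT => by
      obtain ⟨_, ⟨n, rfl⟩, s, hs, rfl⟩ := Submonoid.mem_sup.1 hrT
      exact hc n s hs ((hJ _).1 hr)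
    obtain ⟨q, hq, hJq, hqT⟩ := Ideal.exists_le_prime_disjoint J T hT
    have hqp : q ≤ p := fun r hr => by
      by_contra hrp
      exact Set.disjoint_left.1 hqT hr (Submonoid.mem_sup_right hrp)
    exact Set.disjoint_left.1 hqT (hp.2 ⟨hq, hJq⟩ hqp ha) (Submonoid.mem_sup_left ⟨1, pow_one a⟩)
  let N' := LocalizedModule p.primeCompl N
  let ℓ : N →ₗ[A] N' := LocalizedModule.mkLinearMap p.primeCompl N
  have hunit : ∀ s ∉ p, ∀ y : N', s • y = 0 → y = 0 := fun s hs y hy => by
    have := (Module.End.isUnit_iff _).1 (IsLocalizedModule.map_units ℓ (⟨s, hs⟩ : p.primeCompl))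
    exact this.1 (hy.trans (map_zero _).symm)
  have hx' : ℓ x ≠ 0 := fun e => by
    obtain ⟨⟨s, hs⟩, hs'⟩ := (IsLocalizedModule.eq_zero_iff p.primeCompl ℓ).1 e
    exact hs (hp.1.2 ((hJ s).2 hs'))
  have hkill : ∀ l : Finset A, (∀ a ∈ l, a ∈ p) → ∃ c : A, c • ℓ x ≠ 0 ∧ ∀ a ∈ l, a • c • ℓ x = 0 := by
    intro l
    induction l using Finset.induction_on with
    | empty => exact fun _ => ⟨1, by simpa using hx', by simp⟩
    | insert a l _ ih =>
      intro hl
      obtain ⟨c, hc, hcl⟩ := ih fun b hb => hl b (Finset.mem_insert_of_mem hb)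
      obtain ⟨n, s, hs, hns⟩ := hnil a (hl a (Finset.mem_insert_self a l))
      have H : ∃ m, a ^ m • c • ℓ x = 0 := ⟨n, hunit s hs _ (by
        rw [smul_smul, smul_smul, show s * a ^ n * c = c * (a ^ n * s) by ring, ← smul_smul, ← map_smul, hns,
          map_zero, smul_zero])⟩
      have hm : Nat.find H ≠ 0 := fun e => hc (by simpa [e] using Nat.find_spec H)
      refine ⟨a ^ (Nat.find H - 1) * c, ?_, fun b hb => ?_⟩
      · rw [← smul_smul]; exact Nat.find_min H (Nat.sub_one_lt hm)
      · rcases Finset.mem_insert.1 hb with rfl | hb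
        · rw [← smul_smul, smul_smul b, ← pow_succ', Nat.sub_add_cancel (Nat.one_le_iff_ne_zero.2 hm)]
          exact Nat.find_spec H
        · rw [← smul_smul, smul_comm b, hcl b hb, smul_zero]
  obtain ⟨n, f, hf, hfker⟩ : ∃ (n : ℕ) (f : (Fin n → A) →ₗ[A] M), Function.Surjective f ∧ (LinearMap.ker f).FG := by
    obtain ⟨n, f, hf⟩ := Module.Finite.exists_fin' A M
    exact ⟨n, f, hf, Module.FinitePresentation.fg_ker f hf⟩
  obtain ⟨G, hG⟩ := hfker
  obtain ⟨ψ, hψ⟩ : ∃ ψ : M →ₗ[A] p.ResidueField, ψ ≠ 0 := by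
    obtain ⟨w, hw⟩ := exists_ne (0 : TensorProduct A p.ResidueField M)
    have hne : ∃ φ : TensorProduct A p.ResidueField M →ₗ[p.ResidueField] p.ResidueField, φ w ≠ 0 := by
      obtain ⟨φ, hφ⟩ := Module.Projective.exists_dual_eq_one p.ResidueField hw
      exact ⟨φ, by rw [hφ]; exact one_ne_zero⟩
    obtain ⟨φ, hφ⟩ := hne
    refine ⟨(φ.restrictScalars A).comp (TensorProduct.mk A p.ResidueField M 1), fun e => hφ ?_⟩
    have : φ = 0 := by
      refine TensorProduct.AlgebraTensorModule.ext fun r m => ?_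
      rw [show r ⊗ₜ[A] m = r • (1 : p.ResidueField) ⊗ₜ[A] m by simp [TensorProduct.smul_tmul'], map_smul]
      have := LinearMap.congr_fun e m
      simp only [LinearMap.comp_apply, LinearMap.restrictScalars_apply, TensorProduct.mk_apply,
        LinearMap.zero_apply] at this
      simp [this]
    simp [this]
  obtain ⟨b, hb⟩ := IsLocalization.exist_integer_multiples_of_finite (nonZeroDivisors (A ⧸ p))
    (fun i : Fin n => ψ (f (Pi.single i 1)))
  choose c hc using fun i => hb i
  choose c' hc' using fun i => Ideal.Quotient.mk_surjective (c i)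
  obtain ⟨b', hb'⟩ := Ideal.Quotient.mk_surjective (b : A ⧸ p)
  have hκ0 : ∀ a : A, algebraMap A p.ResidueField a = 0 ↔ a ∈ p := fun a => Ideal.algebraMap_residueField_eq_zero
  have hcψ : ∀ i, algebraMap A p.ResidueField (c' i) = b' • ψ (f (Pi.single i 1)) := fun i => by
    rw [IsScalarTower.algebraMap_apply A (A ⧸ p) p.ResidueField, Ideal.Quotient.algebraMap_eq, hc', hc,
      Algebra.smul_def, Algebra.smul_def, IsScalarTower.algebraMap_apply A (A ⧸ p) p.ResidueField,
      Ideal.Quotient.algebraMap_eq, hb']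
  let φ : (Fin n → A) →ₗ[A] A := Fintype.linearCombination A c'
  have hφψ : ∀ v, algebraMap A p.ResidueField (φ v) = b' • ψ (f v) := fun v => by
    have : (Algebra.linearMap A p.ResidueField).comp φ = b' • ψ.comp f := by
      refine LinearMap.pi_ext' fun i => LinearMap.ext_ring ?_
      simpa [φ] using hcψ i
    exact LinearMap.congr_fun this v
  have hrel : ∀ r ∈ G, φ r ∈ p := fun r hr => by
    rw [← hκ0, hφψ, show f r = 0 from LinearMap.mem_ker.1 (hG ▸ Submodule.subset_span hr), map_zero, smul_zero]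
  obtain ⟨e, he, hekill⟩ := hkill (G.image φ) fun a ha => by
    obtain ⟨r, hr, rfl⟩ := Finset.mem_image.1 ha
    exact hrel r hr
  let g₀ : (Fin n → A) →ₗ[A] N' := (LinearMap.toSpanSingleton A N' (e • ℓ x)).comp φ
  have hle : LinearMap.ker f ≤ LinearMap.ker g₀ := by
    rw [← hG, Submodule.span_le]
    intro r hr
    exact hekill (φ r) (Finset.mem_image_of_mem _ hr)
  let g : M →ₗ[A] N' := ((LinearMap.ker f).liftQ g₀ hle).comp (f.quotKerEquivOfSurjective hf).symm.toLinearMap
  have hg : ∀ v, g (f v) = φ v • e • ℓ x := fun v => by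
    have : (f.quotKerEquivOfSurjective hf).symm (f v) = Submodule.Quotient.mk v :=
      (LinearEquiv.symm_apply_eq _).2 rfl
    simp [g, g₀, this]
  obtain ⟨i, hi⟩ : ∃ i, c' i ∉ p := by
    by_contra hall
    push Not at hall
    refine hψ (LinearMap.ext fun m => ?_)
    obtain ⟨v, rfl⟩ := hf m
    have h0 : b' • ψ (f v) = 0 := by
      rw [← hφψ, hκ0]
      simp only [φ, Fintype.linearCombination_apply, smul_eq_mul]
      exact Ideal.sum_mem _ fun i _ => Ideal.mul_mem_left _ _ (hall i)
    rcases smul_eq_zero.1 (show algebraMap A p.ResidueField b' • ψ (f v) = 0 by rwa [algebraMap_smul]) with h1 | h1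
    · exfalso
      rw [hκ0, ← Ideal.Quotient.eq_zero_iff_mem, hb'] at h1
      exact nonZeroDivisors.ne_zero b.2 h1
    · exact h1
  obtain ⟨h', s, hs⟩ := Module.FinitePresentation.exists_lift_of_isLocalizedModule p.primeCompl ℓ g
  refine nontrivial_of_ne h' 0 fun e0 => he (hunit (c' i) hi _ (hunit s s.2 _ ?_))
  have h2 := LinearMap.congr_fun hs (f (Pi.single i 1))
  rw [e0, LinearMap.comp_zero, LinearMap.zero_apply, LinearMap.smul_apply, hg] at h2
  have h3 : φ (Pi.single i 1) = c' i := by simp [φ]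
  rw [h3] at h2
  exact h2.symm


end Groth.Agent.S6710
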