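import Groth.Statements.S6712
-- import your own Groth.Agent.* helpers here
import Groth.Agent.Lib.FibIso5.Basic

set_option autoImplicit false
universe u
open CategoryTheory AlgebraicGeometry
open DEquiv

open CategoryTheory CategoryTheory.Limits AlgebraicGeometry

namespace Groth.Agent.S6712

open CategoryTheory.Limits in
/-- Let S be a Noetherian scheme, s ∈ S, and p : X ⟶ Y a morphism over S where X ⟶ S and Y ⟶ S are
proper and X ⟶ S is flat. If the fibre X_s ⟶ Y_s of p is an isomorphism, then there is an open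
neighbourhood U of s such that the base change X_U ⟶ Y_U of p is an isomorphism. -/
theorem result
    {S X Y : Scheme.{u}} [IsNoetherian S] (s : S) (g : X ⟶ S) (h : Y ⟶ S) (p : X ⟶ Y)
    (w : p ≫ h = g) [IsProper g] [IsProper h] [Flat g]
    (hs : IsIso (pullback.map g (S.fromSpecResidueField s) h (S.fromSpecResidueField s) p (𝟙 _)
      (𝟙 _) ((Category.comp_id g).trans w.symm)
      ((Category.comp_id _).trans (Category.id_comp _).symm))) :
    ∃ U : S.Opens, s ∈ U ∧
      IsIso (pullback.map g U.ι h U.ι p (𝟙 _) (𝟙 _) ((Category.comp_id g).trans w.symm)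
        ((Category.comp_id _).trans (Category.id_comp _).symm)) := by
  subst w
  obtain ⟨U, hsU, hU⟩ := Groth.Agent.FibIso5.exists_nhd p h s hs
  refine ⟨U, hsU, ?_⟩
  let m := pullback.map (p ≫ h) U.ι h U.ι p (𝟙 _) (𝟙 _) ((Category.comp_id _).trans rfl)
    ((Category.comp_id _).trans (Category.id_comp _).symm)
  show IsIso m
  have hsq : IsPullback (pullback.fst (p ≫ h) U.ι) m p (pullback.fst h U.ι) :=
    IsPullback.of_bot
      (show IsPullback (pullback.fst (p ≫ h) U.ι) (m ≫ pullback.snd h U.ι) (p ≫ h) U.ι by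
        rw [show m ≫ pullback.snd h U.ι = pullback.snd (p ≫ h) U.ι from (pullback.lift_snd _ _ _).trans (Category.comp_id _)]
        exact IsPullback.of_hasPullback _ _)
      (pullback.lift_fst _ _ _).symm (IsPullback.of_hasPullback h U.ι)
  let e := pullbackRestrictIsoRestrict h U
  have hsq' : IsPullback (pullback.fst (p ≫ h) U.ι) (m ≫ e.hom) p (h ⁻¹ᵁ U).ι :=
    hsq.of_iso (Iso.refl _) (Iso.refl _) e (Iso.refl _) (by simp) (by simp) (by simp) (by simp [e])
  haveI : IsIso (m ≫ e.hom) := by
    rw [← hsq'.isoIsPullback_hom_snd _ _ (isPullback_morphismRestrict p (h ⁻¹ᵁ U)).flip]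
    haveI := hU
    infer_instance
  exact IsIso.of_isIso_comp_right m e.hom

end Groth.Agent.S6712
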