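import Groth.Statements.S6713
import Mathlib.Algebra.Homology.DerivedCategory.TStructure
import Mathlib.Data.Countable.Basic
import Mathlib.Data.Int.Interval
-- import your own Groth.Agent.* helpers here

set_option autoImplicit false
universe w v u
open CategoryTheory
open DEquiv

namespace Groth.Agent.S6713

open CategoryTheory CategoryTheory.Limits

variable {A : Type u} [Category.{v} A] [Abelian A]

open ZeroObject in
/-- Objects of the model complex given by a code. -/
noncomputable def obj (e : ℕ → A) (a b : ℤ) (n : Finset.Icc a b → ℕ) (i : ℤ) : A :=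
  if h : i ∈ Finset.Icc a b then e (n ⟨i, h⟩) else 0

/-- Differentials of the model complex given by a code. -/
noncomputable def diff (e : ℕ → A) (a b : ℤ) (n : Finset.Icc a b → ℕ)
    (c : ∀ i : Finset.Icc a b, obj e a b n i.1 ⟶ obj e a b n (i.1 + 1)) (i : ℤ) :
    obj e a b n i ⟶ obj e a b n (i + 1) :=
  if h : i ∈ Finset.Icc a b then c ⟨i, h⟩ else 0

/-- Codes of complexes concentrated in `[a, b]`. -/
def Code (e : ℕ → A) (a b : ℤ) : Type v :=
  Σ n : (Finset.Icc a b → ℕ),
    { c : ∀ i : Finset.Icc a b, obj e a b n i.1 ⟶ obj e a b n (i.1 + 1) //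
      ∀ i, diff e a b n c i ≫ diff e a b n c (i + 1) = 0 }

theorem countable_code (hhom : ∀ X Y : A, Countable (X ⟶ Y)) (e : ℕ → A) (a b : ℤ) :
    Countable (Code e a b) := by
  unfold Code
  infer_instance

/-- The complex given by a code. -/
noncomputable def Code.cx {e : ℕ → A} {a b : ℤ} (c : Code e a b) : CochainComplex A ℤ :=
  CochainComplex.of (obj e a b c.1) (diff e a b c.1 c.2.1) c.2.2

theorem exists_code (e : ℕ → A) (he : ∀ X : A, ∃ n : ℕ, Nonempty (X ≅ e n)) (a b : ℤ)
    (K : CochainComplex A ℤ) [K.IsStrictlyGE a] [K.IsStrictlyLE b] :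
    ∃ c : Code e a b, Nonempty (K ≅ c.cx) := by
  choose n hn using he
  let N : Finset.Icc a b → ℕ := fun i => n (K.X i.1)
  have hout : ∀ i, i ∉ Finset.Icc a b → IsZero (K.X i) := by
    intro i hi
    rw [Finset.mem_Icc] at hi
    by_cases h : i < a
    · exact K.isZero_of_isStrictlyGE a i h
    · exact K.isZero_of_isStrictlyLE b i (by omega)
  have hobj : ∀ i, Nonempty (K.X i ≅ obj e a b N i) := by
    intro i
    unfold obj
    split_ifs with h
    · exact hn (K.X i)
    · exact ⟨(hout i h).iso (isZero_zero _)⟩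
  let f := fun i => (hobj i).some
  let d : ∀ i, obj e a b N i ⟶ obj e a b N (i + 1) :=
    fun i => (f i).inv ≫ K.d i (i + 1) ≫ (f (i + 1)).hom
  have hd : diff e a b N (fun i => d i.1) = d := by
    funext i
    unfold diff
    split_ifs with h
    · rfl
    · exact ((IsZero.of_iso (hout i h) (f i).symm).eq_of_src _ _)
  refine ⟨⟨N, fun i => d i.1, fun i => by rw [hd]; simp [d]⟩,
    ⟨HomologicalComplex.Hom.isoOfComponents f ?_⟩⟩
  rintro i j rfl
  dsimp [Code.cx]
  rw [CochainComplex.of_d, hd]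
  simp [d]

theorem countable_hom_complex (hhom : ∀ X Y : A, Countable (X ⟶ Y)) (a b : ℤ)
    (K L : CochainComplex A ℤ) [L.IsStrictlyGE a] [L.IsStrictlyLE b] : Countable (K ⟶ L) := by
  refine Function.Injective.countable
    (f := fun (φ : K ⟶ L) (i : Finset.Icc a b) => φ.f i.1) fun φ ψ h => ?_
  ext i
  by_cases hi : i ∈ Finset.Icc a b
  · exact congrFun h ⟨i, hi⟩
  · rw [Finset.mem_Icc] at hi
    by_cases h' : i < a
    · exact (L.isZero_of_isStrictlyGE a i h').eq_of_tgt _ _
    · exact (L.isZero_of_isStrictlyLE b i (by omega)).eq_of_tgt _ _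

variable [HasDerivedCategory.{w} A]

open DerivedCategory in
theorem countable_hom_Q (hhom : ∀ X Y : A, Countable (X ⟶ Y))
    (e : ℕ → A) (he : ∀ X : A, ∃ n : ℕ, Nonempty (X ≅ e n)) (a b : ℤ)
    (K L : CochainComplex A ℤ) [K.IsStrictlyGE a] [K.IsStrictlyLE b]
    [L.IsStrictlyGE a] [L.IsStrictlyLE b] : Countable (Q.obj K ⟶ Q.obj L) := by
  have := countable_code hhom e a b
  have hK := fun c : Code e a b => countable_hom_complex hhom a b c.cx K
  have hL := fun c : Code e a b => countable_hom_complex hhom a b c.cx L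
  refine Function.Surjective.countable
    (f := fun p : Σ c : Code e a b, { s : c.cx ⟶ K // IsIso (Q.map s) } × (c.cx ⟶ L) =>
      (@asIso _ _ _ _ (Q.map p.2.1.1) p.2.1.2).inv ≫ Q.map p.2.2) fun φ => ?_
  obtain ⟨X', _, _, s, _, g, rfl⟩ := right_fac_of_isStrictlyLE_of_isStrictlyGE a b φ
  obtain ⟨c, ⟨i⟩⟩ := exists_code e he a b X'
  refine ⟨⟨c, ⟨i.inv ≫ s, by rw [Functor.map_comp]; infer_instance⟩, i.inv ≫ g⟩, ?_⟩
  simp


/-- Let A be an abelian category which is countable: Hom(X, Y) is countable for all objects X, Y and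
there are countably many isomorphism classes of objects. Then the bounded derived category D^b(A) is
countable in the same sense. -/
theorem result
    {A : Type u} [Category.{v} A] [Abelian A] [HasDerivedCategory.{w} A]
    (hhom : ∀ X Y : A, Countable (X ⟶ Y))
    (hiso : ∃ e : ℕ → A, ∀ X : A, ∃ n : ℕ, Nonempty (X ≅ e n)) :
    (∀ K L : DerivedCategory.Bounded A, Countable (K ⟶ L)) ∧
      ∃ e : ℕ → DerivedCategory.Bounded A, ∀ K : DerivedCategory.Bounded A,
        ∃ n : ℕ, Nonempty (K ≅ e n) := by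
  obtain ⟨e, he⟩ := hiso
  have hrep : ∀ K : DerivedCategory.Bounded A, ∃ a b : ℤ, ∃ L : CochainComplex A ℤ,
      L.IsStrictlyGE a ∧ L.IsStrictlyLE b ∧ Nonempty (K.obj ≅ DerivedCategory.Q.obj L) := by
    intro K
    obtain ⟨⟨a, ha⟩, b, hb⟩ := K.property
    have : K.obj.IsGE a := ha
    have : K.obj.IsLE b := hb
    obtain ⟨L, h₁, h₂, i⟩ := DerivedCategory.exists_iso_Q_obj_of_isGE_of_isLE K.obj a b
    exact ⟨a, b, L, h₁, h₂, i⟩
  refine ⟨fun K L => ?_, ?_⟩
  · obtain ⟨a, b, K', _, _, ⟨i⟩⟩ := hrep K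
    obtain ⟨a', b', L', _, _, ⟨j⟩⟩ := hrep L
    have := K'.isStrictlyGE_of_ge (min a a') a (min_le_left _ _)
    have := K'.isStrictlyLE_of_le b (max b b') (le_max_left _ _)
    have := L'.isStrictlyGE_of_ge (min a a') a' (min_le_right _ _)
    have := L'.isStrictlyLE_of_le b' (max b b') (le_max_right _ _)
    have := countable_hom_Q hhom e he (min a a') (max b b') K' L'
    refine Function.Injective.countable (f := fun φ : K ⟶ L => i.inv ≫ φ.hom ≫ j.hom)
      fun φ ψ h => ?_
    ext1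
    simpa [cancel_mono, cancel_epi] using h
  · let T := { p : Σ q : ℤ × ℤ, Code e q.1 q.2 //
      ∃ K : DerivedCategory.Bounded A, Nonempty (K.obj ≅ DerivedCategory.Q.obj p.2.cx) }
    have := fun q : ℤ × ℤ => countable_code hhom e q.1 q.2
    have hmem : ∀ K : DerivedCategory.Bounded A, ∃ p : T,
        Nonempty (K.obj ≅ DerivedCategory.Q.obj p.1.2.cx) := by
      intro K
      obtain ⟨a, b, L, _, _, ⟨i⟩⟩ := hrep K
      obtain ⟨c, ⟨j⟩⟩ := exists_code e he a b L
      exact ⟨⟨⟨(a, b), c⟩, K, ⟨i ≪≫ DerivedCategory.Q.mapIso j⟩⟩,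
        ⟨i ≪≫ DerivedCategory.Q.mapIso j⟩⟩
    let Z : DerivedCategory.Bounded A := ⟨(DerivedCategory.singleFunctor A 0).obj (e 0),
      ⟨⟨0, (inferInstance : ((DerivedCategory.singleFunctor A 0).obj (e 0)).IsGE 0)⟩,
        0, (inferInstance : ((DerivedCategory.singleFunctor A 0).obj (e 0)).IsLE 0)⟩⟩
    have : Nonempty T := ⟨(hmem Z).choose⟩
    obtain ⟨en, hen⟩ := exists_surjective_nat T
    refine ⟨fun n => (en n).2.choose, fun K => ?_⟩
    obtain ⟨p, ⟨i⟩⟩ := hmem K
    obtain ⟨n, rfl⟩ := hen p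
    exact ⟨n, ⟨ObjectProperty.isoMk _ (i ≪≫ (en n).2.choose_spec.some.symm)⟩⟩

end Groth.Agent.S6713
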