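import Groth.Statements.S6718
import Groth.Agent.Lib.Serre.Basic
-- import your own Groth.Agent.* helpers here

set_option autoImplicit false
universe w v u
open CategoryTheory
open DEquiv

namespace Groth.Agent.S6718

open CategoryTheory.Limits CategoryTheory.Pretriangulated in
/-- Let k be a field and T a k-linear (pre)triangulated category with dim_k Hom(X, Y) < ∞ for all X, Y.
The following are equivalent: (1) there are a k-linear equivalence S : T ⥤ T and k-linear
isomorphisms c_{X,Y} : Hom(X, Y) ≅ Hom(Y, S X)^∨ natural in X and in Y; (2) for every object X the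
functor Y ↦ Hom(X, Y)^∨ is representable and the functor Y ↦ Hom(Y, X)^∨ is corepresentable, by
k-linear isomorphisms natural in Y. (Here V^∨ is the k-linear dual.) -/
theorem result
    {k : Type w} [Field k]
    {T : Type u} [Category.{v} T] [Preadditive T] [Linear k T] [HasZeroObject T] [HasShift T ℤ]
    [∀ n : ℤ, (shiftFunctor T n).Additive] [∀ n : ℤ, (shiftFunctor T n).Linear k] [Pretriangulated T]
    [∀ X Y : T, Module.Finite k (X ⟶ Y)] :
    (∃ (S : T ≌ T) (_ : S.functor.Additive) (_ : S.functor.Linear k)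
        (c : ∀ X Y : T, (X ⟶ Y) ≃ₗ[k] Module.Dual k (Y ⟶ S.functor.obj X)),
        (∀ (X Y Y' : T) (f : X ⟶ Y) (g : Y ⟶ Y'),
          c X Y' (f ≫ g) = (c X Y f) ∘ₗ Linear.leftComp k (S.functor.obj X) g) ∧
        (∀ (X' X Y : T) (a : X' ⟶ X) (f : X ⟶ Y),
          c X' Y (a ≫ f) = (c X Y f) ∘ₗ Linear.rightComp k Y (S.functor.map a))) ↔
    ((∀ X : T, ∃ (SX : T) (e : ∀ Y : T, (Y ⟶ SX) ≃ₗ[k] Module.Dual k (X ⟶ Y)),
        ∀ (Y Y' : T) (g : Y' ⟶ Y) (f : Y ⟶ SX),
          e Y' (g ≫ f) = (e Y f) ∘ₗ Linear.rightComp k X g) ∧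
      (∀ X : T, ∃ (RX : T) (e : ∀ Y : T, (RX ⟶ Y) ≃ₗ[k] Module.Dual k (Y ⟶ X)),
        ∀ (Y Y' : T) (g : Y ⟶ Y') (f : RX ⟶ Y),
          e Y' (f ≫ g) = (e Y f) ∘ₗ Linear.leftComp k X g)) := by
  constructor
  · rintro ⟨S, hA, hL, c, hc₁, hc₂⟩
    have r := Serre.isRep_tr S.functor c hc₁
    refine ⟨fun X => ⟨S.functor.obj X, fun Y => LinearEquiv.ofBijective _ (r X Y),
      fun Y Y' g f => by ext h; simp⟩, fun X => ?_⟩
    refine ⟨S.inverse.obj X, fun Y => (c (S.inverse.obj X) Y).trans
      (Linear.homCongr k (Iso.refl Y) (S.counitIso.app X)).symm.dualMap, fun Y Y' g f => ?_⟩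
    ext h
    simp [Linear.homCongr_apply, Linear.homCongr_symm_apply, hc₁]
  · rintro ⟨h1, h2⟩
    choose SX e he using h1
    choose RX e' he' using h2
    let τ : ∀ X, (X ⟶ SX X) →ₗ[k] k := fun X => e X (SX X) (𝟙 _)
    have hτ : ∀ (X Y : T) (g : Y ⟶ SX X) (f : X ⟶ Y), e X Y g f = τ X (f ≫ g) := by
      intro X Y g f
      have := DFunLike.congr_fun (he X (SX X) Y g (𝟙 _)) f
      rw [Category.comp_id] at this
      exact this
    have r : ∀ X, Serre.IsRep (τ X) := fun X Y => by
      have : ⇑(Serre.pairing (τ X) Y) = ⇑(e X Y) := by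
        funext g; ext f; exact (hτ X Y g f).symm
      rw [this]; exact LinearEquiv.bijective _
    let F : T ⥤ T :=
      { obj := SX
        map := fun {X X'} a => (r X').lift (τ X ∘ₗ Linear.leftComp k (SX X) a)
        map_id := fun X => (r X).hom_ext fun f => by simp [(r X).lift_spec]
        map_comp := fun {X X' X''} a b => (r X'').hom_ext fun f => by
          rw [(r X'').lift_spec, ← Category.assoc f, (r X'').lift_spec]
          simp only [LinearMap.comp_apply, Linear.leftComp, LinearMap.coe_mk, AddHom.coe_mk]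
          rw [← Category.assoc b f, (r X').lift_spec]
          exact congrArg (τ X) (Category.assoc _ _ _) }
    have hF : ∀ {X X' : T} (a : X ⟶ X') (f : X' ⟶ SX X), τ X' (f ≫ F.map a) = τ X (a ≫ f) :=
      fun {X X'} a f => (r X').lift_spec _ f
    have hadd : F.Additive := ⟨fun {X X'} {a b} => (r X').hom_ext fun f => by
      simp only [Preadditive.comp_add, map_add, hF, Preadditive.add_comp]⟩
    have hlin : F.Linear k := ⟨fun {X X'} a s => (r X').hom_ext fun f => by
      simp only [Linear.comp_smul, map_smul, hF, Linear.smul_comp]⟩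
    have : F.Faithful := ⟨fun {X X'} {a b} hab => by
      apply (Serre.transpose (r X) X').injective
      ext f
      simp only [Serre.transpose_apply]
      rw [← hF, hab, hF]⟩
    have : F.Full := ⟨fun {X X'} q => by
      obtain ⟨a, ha⟩ := (Serre.transpose (r X) X').surjective
        ((τ X') ∘ₗ Linear.rightComp k X' q)
      refine ⟨a, (r X').hom_ext fun f => ?_⟩
      rw [hF]
      simpa [Serre.transpose_apply] using DFunLike.congr_fun ha f⟩
    have : F.EssSurj := ⟨fun Y => by
      have rY : Serre.IsRep (((LinearMap.applyₗ (𝟙 Y)).comp (e' Y Y).toLinearMap :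
          (RX Y ⟶ Y) →ₗ[k] k)) := by
        refine Serre.isRep_of_transpose _ (e' Y) fun Z f g => ?_
        have := DFunLike.congr_fun (he' Y Z Y g f) (𝟙 _)
        refine Eq.trans ?_ this.symm
        exact congrArg _ (Category.comp_id g).symm
      exact ⟨RX Y, ⟨(r (RX Y)).iso rY⟩⟩⟩
    have : F.IsEquivalence := { }
    refine ⟨F.asEquivalence, hadd, hlin, fun X Y => Serre.transpose (r X) Y,
      fun X Y Y' f g => ?_, fun X' X Y a f => ?_⟩
    · ext h
      simp only [Serre.transpose_apply, LinearMap.comp_apply]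
      exact congrArg (τ X) (Category.assoc _ _ _)
    · ext h
      simp only [Serre.transpose_apply, LinearMap.comp_apply]
      refine ((congrArg (τ X') (Category.assoc a f h)).trans (hF a (f ≫ h)).symm).trans ?_
      exact congrArg (τ X) (Category.assoc f h _)

end Groth.Agent.S6718
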