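import Groth.Statements.S6719
import Groth.Agent.Lib.PtSky9.Apps
import Groth.Agent.Lib.BC8.Shriek660


set_option autoImplicit false
universe u
open CategoryTheory AlgebraicGeometry
attribute [local instance] HasDerivedCategory.standard

set_option backward.isDefEq.respectTransparency false
set_option backward.isDefEq.respectTransparency.types false
set_option maxHeartbeats 800000
open DEquiv

namespace Groth.Agent.S6719

/-- Let X be a Noetherian scheme, x ∈ X a closed point and O_x the skyscraper sheaf at x with value κ(x)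
(the direct image of the structure sheaf of Spec κ(x)). Let K be a bounded object of D(O_X) with
coherent cohomology sheaves and b ∈ ℤ. Then H^i(K)_x = 0 for all i > b if and only if Hom(K,
O_x⟦-i⟧) = 0 for all i > b. -/
theorem result
    (X : Scheme.{u}) [IsNoetherian X] (x : X) (hx : IsClosed ({x} : Set X))
    (K : DCoh.D X) (hK : DCoh.IsCohD K) (a c : ℤ) [DerivedCategory.IsGE K a]
    [DerivedCategory.IsLE K c] (b : ℤ) :
    (∀ i : ℤ, b < i → x ∉ CohB1.support (DCoh.HD K i)) ↔
      ∀ i : ℤ, b < i → ∀ φ : K ⟶ (shiftFunctor (DCoh.D X) (-i)).obj (DCoh.inD X ((Coh.push (X.fromSpecResidueField x)).obj (Coh.structureModule _))),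
        φ = 0 := by
  have hq : DCoh.IsQCohD K := fun i => (hK i).1
  constructor
  · intro h i hi
    classical
    let S : Finset ℤ := Finset.Icc (b + 1) c
    let V : X.Opens := ⟨⋂ l ∈ S, (CohB1.support (DCoh.HD K l))ᶜ, isOpen_biInter_finset fun l _ => by
      rw [← M1.support_annSheaf (hK l).1 (hK l).2]
      exact (M1.annSheaf (hK l).1 (hK l).2).support.isClosed.isOpen_compl⟩
    have hxV : x ∈ V := Set.mem_iInter₂.2 fun l hl => h l (by simp only [S, Finset.mem_Icc] at hl; omega)
    haveI : ((DMon9.lP V.ι).obj K).IsLE b := (DerivedCategory.isLE_iff _ b).2 fun l hl => by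
      refine ((DerivedCategory.homologyFunctor _ l).mapIso ((DMon9.lPRes V.ι).app K)).isZero_iff.2 ?_
      refine (DPerf.hdResIso V.ι K l).isZero_iff.2 ?_
      by_cases hc : c < l
      · exact (Scheme.Modules.restrictFunctor V.ι).map_isZero (DerivedCategory.isZero_of_isLE K c l hc)
      · refine DPerf.isZero_of_stalks fun v => ?_
        have hv : V.ι v ∉ CohB1.support (DCoh.HD K l) :=
          Set.mem_iInter₂.1 v.2 l (by simp only [S, Finset.mem_Icc]; omega)
        haveI : Subsingleton ((M1.stalkAb (V.ι v)).obj (DCoh.HD K l)) := not_not.1 hv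
        exact AddCommGrpCat.subsingleton_of_isZero ((RHom.stalkZero_restrict_iff V.ι v _).2
          (AddCommGrpCat.isZero_of_subsingleton ((M1.stalkAb (V.ι v)).obj (DCoh.HD K l))))
    obtain ⟨W, k, hk, hw⟩ : ∃ (W : Scheme.{u}) (k : W ⟶ (V : Scheme.{u})) (_ : True),
        ∃ e : W = Spec (X.residueField x), k ≫ V.ι = eqToHom e ≫ X.fromSpecResidueField x :=
      ⟨_, IsOpenImmersion.lift V.ι (X.fromSpecResidueField x) (by
        rw [Scheme.range_fromSpecResidueField, Scheme.Opens.range_ι, Set.singleton_subset_iff]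
        exact hxV), trivial, rfl, by simp⟩
    obtain ⟨rfl, hw⟩ := hw
    rw [eqToHom_refl, Category.id_comp] at hw
    haveI : ((DMon9.lP k).obj ((DMon9.lP V.ι).obj K)).IsLE b := BC8.isLE_lP k _ b
    refine (PtSky9.hom_sky_right hx K hq (-i)).2 ?_
    rw [neg_neg]
    exact (DerivedCategory.isZero_of_isLE ((DMon9.lP k).obj ((DMon9.lP V.ι).obj K)) b i hi).of_iso
      ((DerivedCategory.homologyFunctor _ i).mapIso ((DMon9.lPComp k V.ι hw).app K).symm)
  · intro h i hi
    refine PtSky9.not_mem_support (DPerf.approx_of_isPseudoCoherentD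
      (DPerf.isPseudoCoherentD_of_coherent (m := i - 1) (fun l _ => hK l) c)) (i - 1) i subset_rfl (by omega) x ?_
    have := (PtSky9.hom_sky_right hx K hq (-i)).1 (h i hi)
    rwa [neg_neg] at this

end Groth.Agent.S6719
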