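import Groth.Statements.S6721
import Groth.Agent.Lib.QCN9.RegExt
-- import your own Groth.Agent.* helpers here

set_option autoImplicit false
set_option linter.style.haveILetI false
set_option backward.isDefEq.respectTransparency false
set_option maxHeartbeats 1600000
universe u
open CategoryTheory AlgebraicGeometry
attribute [local instance] HasDerivedCategory.standard
open DEquiv

namespace Groth.Agent.S6721

/-- Let X be a Noetherian scheme all of whose local rings are regular and whose underlying space has
Krull dimension d. Let K be a bounded object of D(O_X) with coherent cohomology sheaves and a ∈ ℤ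
with H^i(K) = 0 for a < i < a + d. Then the connecting morphism τ_{≥ a+d} K ⟶ (τ_{< a+d} K)⟦1⟧ of
the truncation triangle vanishes (note τ_{< a+d} K = τ_{≤ a} K here), so K decomposes as τ_{≤ a} K ⊕
τ_{≥ a+d} K. -/
theorem result
    (X : Scheme.{u}) [IsNoetherian X] (hreg : Models.IsRegularScheme X) (d : ℕ)
    (hd : topologicalKrullDim X = d) (K : DCoh.D X) (hK : DCoh.IsCohD K) (lo hi : ℤ)
    [DerivedCategory.IsGE K lo] [DerivedCategory.IsLE K hi] (a : ℤ)
    (hgap : ∀ i : ℤ, a < i → i < a + d → Limits.IsZero (DCoh.HD K i)) :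
    (DerivedCategory.TStructure.t.truncGEδLT (a + d)).app K = 0 := by
  let t := DerivedCategory.TStructure.t (C := X.Modules)
  let T := (t.truncLT (a + d)).obj K
  let L : DCoh.D X := T⟦(1 : ℤ)⟧
  haveI hT1 : t.IsLE T (a + d - 1) := t.isLE_truncLT_obj K (a + d) (a + d - 1) (by omega)
  have hTa : T.IsLE a := (DerivedCategory.isLE_iff T a).2 fun i hi => by
    by_cases h : i < a + d
    · haveI := Groth.Agent.DerTrunc.isIso_homology_truncLTι K (a + d) i h
      exact (hgap i hi h).of_iso (asIso ((DerivedCategory.homologyFunctor X.Modules i).map ((t.truncLTι (a + d)).app K)))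
    · haveI : DerivedCategory.IsLE T (a + d - 1) := hT1
      exact DerivedCategory.isZero_of_isLE T (a + d - 1) i (by omega)
  haveI : t.IsLE T a := hTa
  haveI : t.IsGE K lo := ‹DerivedCategory.IsGE K lo›
  haveI hTg : t.IsGE T lo := inferInstance
  haveI : t.IsLE L (a - 1) := t.isLE_shift T a 1 (a - 1) (by omega)
  haveI : t.IsGE L (lo - 1) := t.isGE_shift T lo 1 (lo - 1) (by omega)
  haveI : L.IsLE (a - 1) := ‹t.IsLE L (a - 1)›
  haveI : L.IsGE (a - ((a - (lo - 1)).toNat : ℤ)) := t.isGE_of_ge L (a - ((a - (lo - 1)).toNat : ℤ)) (lo - 1) (by omega)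
  haveI : ((t.truncGE (a + d)).obj K).IsGE (a + d) := (inferInstance : t.IsGE ((t.truncGE (a + d)).obj K) (a + d))
  have hq : DCoh.IsQCohD T := fun i => by
    by_cases h : i < a + d
    · haveI := Groth.Agent.DerTrunc.isIso_homology_truncLTι K (a + d) i h
      exact M1.isQCoh_of_isIso (asIso ((DerivedCategory.homologyFunctor X.Modules i).map ((t.truncLTι (a + d)).app K))).symm (hK i).1
    · haveI : DerivedCategory.IsLE T (a + d - 1) := hT1
      exact DPush.isQCoh_of_isZero (DerivedCategory.isZero_of_isLE T (a + d - 1) i (by omega))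
  exact QCN9.hom_eq_zero_of_gap hreg d hd.le _ a (a - (lo - 1)).toNat L (DMV.isQCohD_shift T hq 1) inferInstance inferInstance _

end Groth.Agent.S6721
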