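import Groth.Statements.S6725
import Groth.Agent.Lib.FPExt8.Main

set_option autoImplicit false
universe u v' u'
open CategoryTheory CategoryTheory.Limits
open FunMor

namespace Groth.Agent.S6725

open Groth.Agent.FPExt8



/-- Essential surjectivity of the functor F ↦ (F(A), induced A-action): let A be a commutative ring and
B an additive category with cokernels. For every object K of B and ring map κ : A → End(K) there
exist a right exact functor F from the category of finitely presented A-modules to B and an
isomorphism F(A) ≅ K carrying F(multiplication by a) to κ(a) for every a ∈ A. -/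
theorem result
    (A : Type u) [CommRing A] {B : Type u'} [Category.{v'} B] [Preadditive B] [HasFiniteBiproducts B]
    [HasCokernels B] (K : B) (κ : A →+* End K) :
    ∃ (F : (ObjectProperty.FullSubcategory (fun M : ModuleCat.{u} A => Module.FinitePresentation A M)) ⥤ B) (_ : PreservesFiniteColimits F)
      (e : F.obj (⟨ModuleCat.of A A, inferInstance⟩ : (ObjectProperty.FullSubcategory (fun M : ModuleCat.{u} A => Module.FinitePresentation A M))) ≅ K),
      ∀ a : A, F.map (ObjectProperty.homMk (ModuleCat.ofHom (LinearMap.lsmul A A a)) : (⟨ModuleCat.of A A, inferInstance⟩ : (ObjectProperty.FullSubcategory (fun M : ModuleCat.{u} A => Module.FinitePresentation A M))) ⟶ (⟨ModuleCat.of A A, inferInstance⟩ : (ObjectProperty.FullSubcategory (fun M : ModuleCat.{u} A => Module.FinitePresentation A M)))) ≫ e.hom = e.hom ≫ κ a := by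
  haveI := preservesFiniteColimits_ext (A := A) κ
  let R := rep κ (⟨ModuleCat.of A A, inferInstance⟩ : (fp A).FullSubcategory)
  let idK : HomK κ K := (𝟙 K : K ⟶ K)
  let g : A →ₗ[A] HomK κ K := LinearMap.toSpanSingleton A (HomK κ K) idK
  let inv : K ⟶ R.pt := R.u (1 : A)
  have h1 : inv ≫ R.desc g = 𝟙 K :=
    (LinearMap.congr_fun (R.fac g) (1 : A)).trans (one_smul A idK)
  have h2 : R.desc g ≫ inv = 𝟙 R.pt := by
    refine R.hom_ext' fun a => ?_
    refine Eq.trans ?_ (LinearMap.congr_fun (post_id κ) (R.u a)).symm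
    refine (LinearMap.congr_fun (post_comp κ (R.desc g) inv) (R.u a)).trans ?_
    refine (congrArg (post κ inv) (LinearMap.congr_fun (R.fac g) a)).trans ?_
    refine (map_smul (post κ inv) a idK).trans ?_
    refine (congrArg (fun z : HomK κ R.pt => a • z) (Category.id_comp inv : (𝟙 K : K ⟶ K) ≫ inv = inv)).trans ?_
    exact ((map_smul R.u a (1 : A)).symm.trans (congrArg R.u (mul_one a)))
  refine ⟨ext κ, inferInstance, ⟨R.desc g, inv, h2, h1⟩, fun a => ?_⟩
  refine R.hom_ext' fun b => ?_
  show post κ (R.map R (LinearMap.lsmul A A a) ≫ R.desc g) (R.u b) = post κ (R.desc g ≫ κ a) (R.u b)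
  refine (LinearMap.congr_fun (post_comp κ (R.map R (LinearMap.lsmul A A a)) (R.desc g)) (R.u b)).trans ?_
  refine (congrArg (post κ (R.desc g)) (LinearMap.congr_fun (R.map_fac R (LinearMap.lsmul A A a)) b)).trans ?_
  refine (LinearMap.congr_fun (R.fac g) (a * b)).trans ?_
  refine Eq.trans ?_ (LinearMap.congr_fun (post_comp κ (R.desc g) (κ a)) (R.u b)).symm
  refine Eq.trans ?_ (congrArg (post κ (κ a : K ⟶ K)) (LinearMap.congr_fun (R.fac g) b)).symm
  show (κ (a * b) : K ⟶ K) ≫ 𝟙 K = ((κ b : K ⟶ K) ≫ 𝟙 K) ≫ κ a
  rw [Category.comp_id, Category.comp_id, map_mul, End.mul_def]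


end Groth.Agent.S6725
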