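import Groth.Statements.S6726
import Groth.Agent.Lib.FPExt8.Main

set_option autoImplicit false
universe u v' u'
open CategoryTheory CategoryTheory.Limits
open FunMor

namespace Groth.Agent.S6726

set_option backward.isDefEq.respectTransparency false
open Groth.Agent.FPExt8

variable {A : Type u} [CommRing A]

abbrev fr (n : ℕ) : (fp A).FullSubcategory := ⟨ModuleCat.of A (Fin n → A), inferInstance⟩
abbrev rg : (fp A).FullSubcategory := ⟨ModuleCat.of A A, inferInstance⟩
abbrev spf {M : (fp A).FullSubcategory} (m : M.obj) : (rg : (fp A).FullSubcategory) ⟶ M :=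
  ObjectProperty.homMk (ModuleCat.ofHom (LinearMap.toSpanSingleton A M.obj m))
abbrev prj {n : ℕ} (i : Fin n) : fr n ⟶ (rg : (fp A).FullSubcategory) :=
  ObjectProperty.homMk (ModuleCat.ofHom (LinearMap.proj i))
abbrev comb {n : ℕ} {M : (fp A).FullSubcategory} (x : Fin n → M.obj) : fr n ⟶ M :=
  ObjectProperty.homMk (ModuleCat.ofHom (Fintype.linearCombination A x))

theorem spf_comp {M N : (fp A).FullSubcategory} (m : M.obj) (f : M ⟶ N) : spf m ≫ f = spf (f.hom.hom m) :=
  ObjectProperty.hom_ext _ (ModuleCat.hom_ext (LinearMap.ext_ring (by simp [spf])))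

theorem spf_smul {M : (fp A).FullSubcategory} (a : A) (m : M.obj) :
    spf (a • m) = spf (M := rg) a ≫ spf m := by
  rw [spf_comp]
  exact congrArg spf (by simp [spf])

theorem comb_eq {n : ℕ} {M : (fp A).FullSubcategory} (x : Fin n → M.obj) :
    comb x = ∑ i, prj i ≫ spf (x i) := by
  apply ObjectProperty.hom_ext
  let Φ : (fr n ⟶ M) →+ (ModuleCat.of A (Fin n → A) ⟶ M.obj) :=
    AddMonoidHom.mk' (fun f => f.hom) (fun _ _ => rfl)
  show Φ (comb x) = Φ (∑ i, prj i ≫ spf (x i))
  rw [map_sum]
  apply ModuleCat.hom_ext
  rw [ModuleCat.hom_sum]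
  apply LinearMap.ext
  intro v
  simp [Φ, comb, prj, spf, Fintype.linearCombination_apply]

variable {B : Type u'} [Category.{v'} B] [Preadditive B] [HasFiniteBiproducts B] [HasCokernels B]

theorem additive_of_rightExact (F : (fp A).FullSubcategory ⥤ B) [PreservesFiniteColimits F] : F.Additive := by
  haveI : HasFiniteBiproducts (fp A).FullSubcategory := HasFiniteBiproducts.of_hasFiniteProducts
  haveI : HasZeroObject (fp A).FullSubcategory := hasZeroObject_of_hasFiniteBiproducts _
  haveI : F.PreservesZeroMorphisms := by
    haveI := hasZeroObject_of_hasFiniteBiproducts B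
    exact Functor.preservesZeroMorphisms_of_map_zero_object
      (((IsInitial.isInitialObj F _ HasZeroObject.zeroIsInitial).uniqueUpToIso HasZeroObject.zeroIsInitial))
  haveI : HasBinaryBiproducts (fp A).FullSubcategory := hasBinaryBiproducts_of_finite_biproducts _
  haveI : HasBinaryBiproducts B := hasBinaryBiproducts_of_finite_biproducts _
  haveI := preservesBinaryBiproducts_of_preservesBinaryCoproducts F
  exact Functor.additive_of_preservesBinaryBiproducts F

theorem exists_pres (M : (fp A).FullSubcategory) : ∃ (n p : ℕ) (x : Fin n → M.obj) (r : Fin p → (Fin n → A))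
    (w : comb (M := fr n) r ≫ comb x = 0), Function.Surjective (comb x).hom.hom ∧ Nonempty (IsColimit (CokernelCofork.ofπ (comb x) w)) := by
  haveI : Module.FinitePresentation A M.obj := M.property
  obtain ⟨n, x, hx⟩ := Module.Finite.exists_fin (R := A) (M := M.obj)
  let f : (Fin n → A) →ₗ[A] M.obj := Fintype.linearCombination A x
  have hf : Function.Surjective f := by
    rw [← LinearMap.range_eq_top, Fintype.range_linearCombination, hx]
  obtain ⟨p, r, hr⟩ := Submodule.fg_iff_exists_fin_generating_family.1 (Module.FinitePresentation.fg_ker f hf)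
  have hrange : LinearMap.range (Fintype.linearCombination A r) = LinearMap.ker f := by
    rw [Fintype.range_linearCombination, hr]
  have w : comb (M := fr n) r ≫ comb x = 0 := ObjectProperty.hom_ext _ (ModuleCat.hom_ext (LinearMap.ext fun v =>
    LinearMap.mem_ker.1 (hrange.le (LinearMap.mem_range_self (Fintype.linearCombination A r) v) : Fintype.linearCombination A r v ∈ LinearMap.ker f)))
  let e : (cokObj (comb (M := fr n) r)).obj ≅ M.obj :=
    ((Submodule.quotEquivOfEq _ _ hrange).trans (f.quotKerEquivOfSurjective hf)).toModuleIso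
  exact ⟨n, p, x, r, w, hf, ⟨(cokIsColimit (comb (M := fr n) r)).ofIsoColimit
    (Cofork.ext (ObjectProperty.isoMk _ e) (ObjectProperty.hom_ext _ (ModuleCat.hom_ext (LinearMap.ext fun v => rfl))))⟩⟩

theorem ext_spf (F : (fp A).FullSubcategory ⥤ B) [PreservesFiniteColimits F] {M : (fp A).FullSubcategory} {b : B}
    {h h' : F.obj M ⟶ b} (e : ∀ m, F.map (spf m) ≫ h = F.map (spf m) ≫ h') : h = h' := by
  obtain ⟨n, p, x, r, w, hsur, ⟨hc⟩⟩ := exists_pres M
  haveI := additive_of_rightExact F
  have hep : Epi (comb x) := Cofork.IsColimit.epi hc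
  haveI : Epi (F.map (comb x)) := inferInstance
  rw [← cancel_epi (F.map (comb x)), comb_eq, F.map_sum, Preadditive.sum_comp, Preadditive.sum_comp]
  refine Finset.sum_congr rfl fun i _ => ?_
  rw [F.map_comp, Category.assoc, Category.assoc, e]



/-- Full faithfulness of the functor F ↦ (F(A), induced A-action): let A be a commutative ring, B an
additive category with cokernels, and F, F' right exact functors from the category of finitely
presented A-modules to B. Then two natural transformations F ⟶ F' with the same component at A are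
equal, and a morphism φ : F(A) ⟶ F'(A) is the component at A of a natural transformation as soon as
it commutes with F and F' applied to multiplication by every a ∈ A. -/
theorem result
    (A : Type u) [CommRing A] {B : Type u'} [Category.{v'} B] [Preadditive B] [HasFiniteBiproducts B]
    [HasCokernels B] (F F' : (ObjectProperty.FullSubcategory (fun M : ModuleCat.{u} A => Module.FinitePresentation A M)) ⥤ B)
    [PreservesFiniteColimits F] [PreservesFiniteColimits F'] :
    (∀ t t' : F ⟶ F', t.app (⟨ModuleCat.of A A, inferInstance⟩ : (ObjectProperty.FullSubcategory (fun M : ModuleCat.{u} A => Module.FinitePresentation A M))) = t'.app (⟨ModuleCat.of A A, inferInstance⟩ : (ObjectProperty.FullSubcategory (fun M : ModuleCat.{u} A => Module.FinitePresentation A M))) → t = t') ∧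
    ∀ φ : F.obj (⟨ModuleCat.of A A, inferInstance⟩ : (ObjectProperty.FullSubcategory (fun M : ModuleCat.{u} A => Module.FinitePresentation A M))) ⟶ F'.obj (⟨ModuleCat.of A A, inferInstance⟩ : (ObjectProperty.FullSubcategory (fun M : ModuleCat.{u} A => Module.FinitePresentation A M))),
      (∀ a : A, F.map (ObjectProperty.homMk (ModuleCat.ofHom (LinearMap.lsmul A A a)) : (⟨ModuleCat.of A A, inferInstance⟩ : (ObjectProperty.FullSubcategory (fun M : ModuleCat.{u} A => Module.FinitePresentation A M))) ⟶ (⟨ModuleCat.of A A, inferInstance⟩ : (ObjectProperty.FullSubcategory (fun M : ModuleCat.{u} A => Module.FinitePresentation A M)))) ≫ φ = φ ≫ F'.map (ObjectProperty.homMk (ModuleCat.ofHom (LinearMap.lsmul A A a)) : (⟨ModuleCat.of A A, inferInstance⟩ : (ObjectProperty.FullSubcategory (fun M : ModuleCat.{u} A => Module.FinitePresentation A M))) ⟶ (⟨ModuleCat.of A A, inferInstance⟩ : (ObjectProperty.FullSubcategory (fun M : ModuleCat.{u} A => Module.FinitePresentation A M))))) →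
      ∃ t : F ⟶ F', t.app (⟨ModuleCat.of A A, inferInstance⟩ : (ObjectProperty.FullSubcategory (fun M : ModuleCat.{u} A => Module.FinitePresentation A M))) = φ := by
  have hl : ∀ a : A, spf (M := rg) a = ObjectProperty.homMk (ModuleCat.ofHom (LinearMap.lsmul A A a)) := fun a =>
    ObjectProperty.hom_ext _ (ModuleCat.hom_ext (LinearMap.ext_ring (by simp [spf])))
  haveI := additive_of_rightExact F
  haveI := additive_of_rightExact F'
  refine ⟨fun t t' h => ?_, fun φ hφ => ?_⟩
  · ext M : 2
    refine ext_spf F fun m => ?_
    rw [t.naturality, t'.naturality]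
    exact congrArg (· ≫ F'.map (spf m)) h
  · have hφ' : ∀ a : A, F.map (spf (M := rg) a) ≫ φ = φ ≫ F'.map (spf (M := rg) a) := fun a => by
      rw [hl]; exact hφ a
    have key : ∀ M : (fp A).FullSubcategory, ∃ t : F.obj M ⟶ F'.obj M, ∀ m, F.map (spf m) ≫ t = φ ≫ F'.map (spf m) := by
      intro M
      obtain ⟨n, p, x, r, w, hsur, ⟨hc⟩⟩ := exists_pres M
      let t₀ : F.obj (fr n) ⟶ F'.obj M := ∑ i, F.map (prj i) ≫ φ ≫ F'.map (spf (x i))
      have e0 : ∀ v : Fin n → A, F.map (spf (M := fr n) v) ≫ t₀ = φ ≫ F'.map (spf (M := fr n) v ≫ comb x) := by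
        intro v
        rw [comb_eq, Preadditive.comp_sum, Preadditive.comp_sum, F'.map_sum, Preadditive.comp_sum]
        refine Finset.sum_congr rfl fun i _ => ?_
        rw [← Category.assoc, ← F.map_comp, spf_comp, ← Category.assoc, hφ', Category.assoc, ← F'.map_comp]
        congr 2
      have h0 : F.map (comb (M := fr n) r) ≫ t₀ = 0 := by
        rw [comb_eq (M := fr n), F.map_sum, Preadditive.sum_comp]
        refine Finset.sum_eq_zero fun j _ => ?_
        rw [F.map_comp, Category.assoc, e0]
        have : spf (M := fr n) (r j) ≫ comb x = 0 := by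
          have e := congrArg (spf (M := fr p) (Pi.single j 1) ≫ ·) w
          simp only [← Category.assoc, comp_zero] at e
          rw [spf_comp] at e
          have hj : (comb (M := fr n) r).hom.hom (Pi.single j 1) = r j := by simp [comb]
          rwa [hj] at e
        rw [this, F'.map_zero, comp_zero, comp_zero]
      let hFc := isColimitCoforkMapOfIsColimit F _ hc
      obtain ⟨t, ht⟩ := Cofork.IsColimit.desc' hFc t₀ (by rw [h0, F.map_zero, zero_comp])
      refine ⟨t, fun m => ?_⟩
      obtain ⟨v, rfl⟩ := hsur m
      rw [← spf_comp, F.map_comp, Category.assoc]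
      exact (congrArg (F.map (spf (M := fr n) v) ≫ ·) ht).trans (e0 v)
    choose t ht using key
    refine ⟨{ app := t, naturality := fun M N f => ext_spf F fun m => ?_ }, ?_⟩
    · rw [← F.map_comp_assoc, spf_comp, ht, ← spf_comp, F'.map_comp, reassoc_of% (ht M m)]
    · refine (Category.id_comp _).symm.trans (Eq.trans ?_ (Category.comp_id _))
      have h1 : spf (M := rg) (1 : A) = 𝟙 _ :=
        ObjectProperty.hom_ext _ (ModuleCat.hom_ext (LinearMap.ext_ring (by simp [spf])))
      have := ht rg (1 : A)
      rw [h1, F.map_id, F'.map_id] at this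
      exact this


end Groth.Agent.S6726
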