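import Groth.Statements.S6728
import Groth.Agent.Lib.BoxRes9.Bound
-- import your own Groth.Agent.* helpers here

set_option autoImplicit false
universe u v' u'
open CategoryTheory AlgebraicGeometry
attribute [local instance] HasDerivedCategory.standard
open DEquiv

namespace Groth.Agent.S6728

open CategoryTheory.Limits CategoryTheory.Pretriangulated in
/-- Let X be a smooth proper scheme over a field k, let A be an abelian category and H : D_perf(O_X) ⥤ A
a homological functor such that for every perfect K the objects H(K⟦i⟧) are nonzero for only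
finitely many i. Then there is an integer m ≥ 1 such that H(F⟦i⟧) = 0 for every coherent O_X-module
F (placed in degree 0; such F is perfect as X is regular) and every i ∉ [-m, m]. Here D_perf(O_X) is
the full subcategory of perfect objects of D(O_X) with its induced triangulated structure (the
instance hypothesis records that perfect objects form a triangulated subcategory). The cohomological
variant is not restated. -/
theorem result
    (k : Type u) [Field k] (X : Scheme.{u}) [X.Over (Spec (.of k))] [Smooth (X ↘ Spec (.of k))]
    [IsProper (X ↘ Spec (.of k))] [ObjectProperty.IsTriangulated (fun K : DCoh.D X => DCoh.IsPerfect K)]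
    {A : Type u'} [Category.{v'} A] [Abelian A]
    (H : (ObjectProperty.FullSubcategory (fun K : DCoh.D X => DCoh.IsPerfect K)) ⥤ A) [H.IsHomological]
    (hfin : ∀ K : (ObjectProperty.FullSubcategory (fun K : DCoh.D X => DCoh.IsPerfect K)),
      Set.Finite {i : ℤ | ¬ IsZero (H.obj ((shiftFunctor (ObjectProperty.FullSubcategory (fun K : DCoh.D X => DCoh.IsPerfect K)) i).obj K))}) :
    ∃ m : ℕ, 1 ≤ m ∧ ∀ (F : X.Modules), Coh.IsCoh F → ∀ (hF : DCoh.IsPerfect (DCoh.inD X F)) (i : ℤ),
      (i < -(m : ℤ) ∨ (m : ℤ) < i) →
        IsZero (H.obj ((shiftFunctor (ObjectProperty.FullSubcategory (fun K : DCoh.D X => DCoh.IsPerfect K)) i).obj ⟨DCoh.inD X F, hF⟩)) := by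
  obtain ⟨m, hm⟩ := Groth.Agent.BoxRes9.exists_uniform_bound (k := k) (H := H) hfin
  exact ⟨m + 1, Nat.le_add_left 1 m, fun F hF hF' i hi => (hm F hF hF').2 i (by omega)⟩

end Groth.Agent.S6728
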