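import Groth.Statements.S6732
import Groth.Agent.Lib.Serre.Basic
-- import your own Groth.Agent.* helpers here

set_option autoImplicit false
universe w v u
open CategoryTheory
open DEquiv

namespace Groth.Agent.S6732

open CategoryTheory.Limits CategoryTheory.Pretriangulated in
/-- Let k be a field and T a k-linear triangulated category with dim_k Hom(X, Y) < ∞ for all X, Y, and
let (S, c) be a Serre functor: a k-linear equivalence T ⥤ T with k-linear isomorphisms c_{X,Y} :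
Hom(X, Y) ≅ Hom(Y, S X)^∨ natural in X and Y. Then S is an exact functor of triangulated categories:
there is an isomorphism of functors S ∘ ⟦1⟧ ≅ ⟦1⟧ ∘ S such that for every distinguished triangle (A,
B, C, f, g, h) the triangle (S A, S B, S C, S f, S g, S h followed by that isomorphism at A) is
distinguished. -/
theorem result
    {k : Type w} [Field k]
    {T : Type u} [Category.{v} T] [Preadditive T] [Linear k T] [HasZeroObject T] [HasShift T ℤ]
    [∀ n : ℤ, (shiftFunctor T n).Additive] [∀ n : ℤ, (shiftFunctor T n).Linear k] [Pretriangulated T]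
    [IsTriangulated T] [∀ X Y : T, Module.Finite k (X ⟶ Y)]
    (S : T ≌ T) [S.functor.Additive] [S.functor.Linear k]
    (c : ∀ X Y : T, (X ⟶ Y) ≃ₗ[k] Module.Dual k (Y ⟶ S.functor.obj X))
    (hc₁ : ∀ (X Y Y' : T) (f : X ⟶ Y) (g : Y ⟶ Y'),
      c X Y' (f ≫ g) = (c X Y f) ∘ₗ Linear.leftComp k (S.functor.obj X) g)
    (hc₂ : ∀ (X' X Y : T) (a : X' ⟶ X) (f : X ⟶ Y),
      c X' Y (a ≫ f) = (c X Y f) ∘ₗ Linear.rightComp k Y (S.functor.map a)) :
    ∃ e : shiftFunctor T (1 : ℤ) ⋙ S.functor ≅ S.functor ⋙ shiftFunctor T (1 : ℤ),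
      ∀ T' ∈ distTriang T,
        Triangle.mk (S.functor.map T'.mor₁) (S.functor.map T'.mor₂)
          (S.functor.map T'.mor₃ ≫ e.hom.app T'.obj₁) ∈ distTriang T := by
  have r := Serre.isRep_tr S.functor c hc₁
  let tr := Serre.tr S.functor c
  have tc : ∀ {X X' : T} (a : X' ⟶ X) (g : X ⟶ S.functor.obj X'),
      tr X' (a ≫ g) = tr X (g ≫ S.functor.map a) :=
    fun a g => Serre.tr_comm S.functor c hc₁ hc₂ a g
  let sE : ∀ X Y : T, (X ⟶ Y) ≃ₗ[k]
      ((shiftFunctor T (1 : ℤ)).obj X ⟶ (shiftFunctor T (1 : ℤ)).obj Y) := fun X Y =>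
    LinearEquiv.ofBijective ((shiftFunctor T (1 : ℤ)).mapLinearMap k)
      ⟨fun _ _ h => (shiftFunctor T (1 : ℤ)).map_injective h,
        fun y => (shiftFunctor T (1 : ℤ)).map_surjective y⟩
  let τ₁ : ∀ X : T, ((shiftFunctor T (1 : ℤ)).obj X ⟶
      (shiftFunctor T (1 : ℤ)).obj (S.functor.obj X)) →ₗ[k] k :=
    fun X => -((tr X) ∘ₗ (sE X (S.functor.obj X)).symm.toLinearMap)
  have hτ₁ : ∀ (X : T) (q : X ⟶ S.functor.obj X),
      τ₁ X ((shiftFunctor T (1 : ℤ)).map q) = -tr X q := by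
    intro X q
    have : (sE X (S.functor.obj X)).symm ((shiftFunctor T (1 : ℤ)).map q) = q :=
      (LinearEquiv.symm_apply_eq _).2 rfl
    simp [τ₁, this]
  have r₁ : ∀ X, Serre.IsRep (τ₁ X) := by
    intro X Y
    let i := (shiftFunctorCompIsoId T (-1 : ℤ) 1 (by omega)).app Y
    refine ⟨(injective_iff_map_eq_zero _).2 fun g hg => ?_, fun φ => ?_⟩
    · obtain ⟨g', hg'⟩ := (shiftFunctor T (1 : ℤ)).map_surjective (i.hom ≫ g)
      have : g' = 0 := (r X).eq_zero fun f => by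
        have h := DFunLike.congr_fun hg ((shiftFunctor T (1 : ℤ)).map f ≫ i.hom)
        rw [Serre.pairing_apply, Category.assoc, ← hg', ← Functor.map_comp, hτ₁] at h
        simpa [tr] using h
      rw [this, Functor.map_zero] at hg'
      rw [← cancel_epi i.hom, ← hg']
      exact comp_zero.symm
    · refine ⟨i.inv ≫ (shiftFunctor T (1 : ℤ)).map
        ((r X).lift (-(φ ∘ₗ Linear.rightComp k _ i.hom ∘ₗ (sE X _).toLinearMap))), ?_⟩
      ext f
      obtain ⟨f', hf'⟩ := (shiftFunctor T (1 : ℤ)).map_surjective (f ≫ i.inv)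
      rw [Serre.pairing_apply, ← Category.assoc, ← hf', ← Functor.map_comp, hτ₁]
      have h := (r X).lift_spec
        (-(φ ∘ₗ Linear.rightComp k _ i.hom ∘ₗ (sE X _).toLinearMap)) f'
      refine (congrArg Neg.neg h).trans ?_
      rw [LinearMap.neg_apply, neg_neg]
      change φ ((shiftFunctor T (1 : ℤ)).map f' ≫ i.hom) = φ f
      rw [hf', Category.assoc, Iso.inv_hom_id, Category.comp_id]
  let e : shiftFunctor T (1 : ℤ) ⋙ S.functor ≅ S.functor ⋙ shiftFunctor T (1 : ℤ) :=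
    NatIso.ofComponents (fun X => (r _).iso (r₁ X)) fun {X X'} a => by
      refine (r₁ X').hom_ext fun q => ?_
      dsimp
      rw [← Category.assoc, (r _).iso_hom_spec]
      obtain ⟨p, hp⟩ := (shiftFunctor T (1 : ℤ)).map_surjective (q ≫ ((r _).iso (r₁ X)).hom)
      rw [← Category.assoc, ← hp, ← Functor.map_comp, hτ₁]
      refine (tc _ q).symm.trans ?_
      rw [← (r _).iso_hom_spec (r₁ X), Category.assoc, ← hp, ← Functor.map_comp, hτ₁]
      exact congrArg Neg.neg (tc a p)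
  have he : ∀ (X : T) (q : (shiftFunctor T (1 : ℤ)).obj X ⟶ _),
      τ₁ X (q ≫ e.hom.app X) = tr _ q := fun X q => (r _).iso_hom_spec (r₁ X) q
  refine ⟨e, ?_⟩
  intro T' hT
  obtain ⟨A, B, C, f, g, h, rfl⟩ : ∃ (A B C : T) (f : A ⟶ B) (g : B ⟶ C)
      (h : C ⟶ (shiftFunctor T (1 : ℤ)).obj A), T' = Triangle.mk f g h :=
    ⟨_, _, _, _, _, _, rfl⟩
  obtain ⟨C₀, g₀, d₀, hT₀⟩ := distinguished_cocone_triangle (S.functor.map f)
  have zfg : f ≫ g = 0 := comp_distTriang_mor_zero₁₂ _ hT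
  have zgh : g ≫ h = 0 := comp_distTriang_mor_zero₂₃ _ hT
  have zhf : h ≫ (shiftFunctor T (1 : ℤ)).map f = 0 := comp_distTriang_mor_zero₃₁ _ hT
  have z₀fg : S.functor.map f ≫ g₀ = 0 := comp_distTriang_mor_zero₁₂ _ hT₀
  have z₀df : d₀ ≫ (shiftFunctor T (1 : ℤ)).map (S.functor.map f) = 0 :=
    comp_distTriang_mor_zero₃₁ _ hT₀
  have compat : ∀ (v : C ⟶ S.functor.obj B) (u : (shiftFunctor T (1 : ℤ)).obj A ⟶ C₀),
      v ≫ g₀ + h ≫ u = 0 → tr B (g ≫ v) + τ₁ A (u ≫ d₀) = 0 := by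
    intro v u hvu
    have h1 : (g ≫ v) ≫ g₀ = 0 := by
      rw [Category.assoc, eq_neg_of_add_eq_zero_left hvu, Preadditive.comp_neg,
        ← Category.assoc, zgh, zero_comp, neg_zero]
    obtain ⟨s, hs⟩ : ∃ s : B ⟶ S.functor.obj A, g ≫ v = s ≫ S.functor.map f :=
      Triangle.coyoneda_exact₂ _ hT₀ _ h1
    obtain ⟨u', hu', hu''⟩ : ∃ u' : (shiftFunctor T (1 : ℤ)).obj A ⟶ C₀, h ≫ u' = v ≫ g₀ ∧
        (-(shiftFunctor T (1 : ℤ)).map f) ≫ (shiftFunctor T (1 : ℤ)).map s = u' ≫ d₀ :=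
      complete_distinguished_triangle_morphism _ _ (rot_of_distTriang _ hT) hT₀ s v hs
    have h2 : h ≫ (u + u') = 0 := by
      rw [Preadditive.comp_add, hu', add_comm]; exact hvu
    obtain ⟨x, hx⟩ : ∃ x : (shiftFunctor T (1 : ℤ)).obj B ⟶ C₀,
        u + u' = (-(shiftFunctor T (1 : ℤ)).map f) ≫ x :=
      Triangle.yoneda_exact₃ _ (rot_of_distTriang _ hT) _ h2
    obtain ⟨y, hy⟩ := (shiftFunctor T (1 : ℤ)).map_surjective (x ≫ d₀)
    have hy0 : y ≫ S.functor.map f = 0 := by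
      apply (shiftFunctor T (1 : ℤ)).map_injective
      rw [Functor.map_comp, hy, Category.assoc, z₀df, comp_zero, Functor.map_zero]
    have h3 : τ₁ A ((u + u') ≫ d₀) = 0 := by
      rw [hx, Category.assoc, ← hy, Preadditive.neg_comp, ← Functor.map_comp, map_neg, hτ₁,
        neg_neg, tc f y, hy0, map_zero]
    have h4 : τ₁ A (u' ≫ d₀) = tr B (g ≫ v) := by
      rw [← hu'', Preadditive.neg_comp, ← Functor.map_comp, map_neg, hτ₁, neg_neg, hs, tc f s]
    rw [Preadditive.add_comp, map_add, h4, add_comm] at h3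
    exact h3
  obtain ⟨φ, hφ⟩ := Serre.exists_factor
    ((Linear.rightComp k C g₀).coprod (Linear.leftComp k C₀ h))
    ((tr B ∘ₗ Linear.leftComp k _ g).coprod (τ₁ A ∘ₗ Linear.rightComp k _ d₀))
    (fun p hp => compat p.1 p.2 hp)
  let ξ : C₀ ⟶ S.functor.obj C := (r C).lift φ
  have hξ₂ : g₀ ≫ ξ = S.functor.map g := (r C).hom_ext fun v => by
    rw [← Category.assoc, (r C).lift_spec]
    have := hφ (v, 0)
    simp at this
    rw [this]
    exact tc g v
  have hξ₃ : ξ ≫ S.functor.map h ≫ e.hom.app A = d₀ := (r₁ A).hom_ext fun q => by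
    have := hφ (0, q)
    simp at this
    rw [← this, ← (r C).lift_spec φ]
    refine Eq.trans ?_ (tc h (q ≫ ξ)).symm |>.trans ?_
    · rw [← he, Category.assoc, Category.assoc]
    · rw [Category.assoc]
  have hinj : ∀ {D : T} (z : D ⟶ C₀), z ≫ ξ = 0 → z = 0 := by
    intro D z hz
    have h1 : z ≫ d₀ = 0 := by
      rw [← hξ₃, ← Category.assoc z ξ, hz, zero_comp]
    obtain ⟨y, hy⟩ : ∃ y : D ⟶ S.functor.obj B, z = y ≫ g₀ :=
      Triangle.coyoneda_exact₃ _ hT₀ z h1
    have hy0 : y ≫ S.functor.map g = 0 := by rw [← hξ₂, ← Category.assoc, ← hy, hz]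
    obtain ⟨ψ, hψ⟩ := Serre.exists_factor (Linear.leftComp k D f) (Serre.pairing (tr B) D y)
      fun p hp => by
        obtain ⟨m, hm⟩ : ∃ m : C ⟶ D, p = g ≫ m := Triangle.yoneda_exact₂ _ hT p hp
        rw [Serre.pairing_apply, hm, Category.assoc, tc g (m ≫ y), Category.assoc, hy0,
          comp_zero, map_zero]
    have hyq : y = (r A).lift ψ ≫ S.functor.map f := (r B).hom_ext fun p => by
      refine (hψ p).symm.trans ?_
      rw [← (r A).lift_spec ψ, ← Category.assoc p ((r A).lift ψ)]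
      refine Eq.trans ?_ (tc f (p ≫ (r A).lift ψ))
      exact congrArg _ (Category.assoc _ _ _)
    rw [hy, hyq, Category.assoc, z₀fg, comp_zero]
  have hsurj : ∀ {D : T} (x : D ⟶ S.functor.obj C), ∃ z, z ≫ ξ = x := by
    intro D x
    have h1 : (x ≫ S.functor.map h ≫ e.hom.app A) ≫
        (shiftFunctor T (1 : ℤ)).map (S.functor.map f) = 0 := by
      have := e.hom.naturality f
      dsimp at this
      rw [Category.assoc, Category.assoc, ← this, ← Category.assoc (S.functor.map h),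
        ← Functor.map_comp, zhf, Functor.map_zero, zero_comp, comp_zero]
    obtain ⟨z₀, hz₀⟩ : ∃ z₀ : D ⟶ C₀, x ≫ S.functor.map h ≫ e.hom.app A = z₀ ≫ d₀ :=
      Triangle.coyoneda_exact₁ _ hT₀ _ h1
    have h2 : (x - z₀ ≫ ξ) ≫ S.functor.map h = 0 := by
      rw [← cancel_mono (e.hom.app A), zero_comp, Category.assoc, Preadditive.sub_comp,
        Category.assoc, hξ₃, hz₀, sub_self]
    obtain ⟨ψ, hψ⟩ := Serre.exists_factor (Linear.leftComp k D g)
      (Serre.pairing (tr C) D (x - z₀ ≫ ξ)) fun m hm => by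
        obtain ⟨l, hl⟩ : ∃ l : (shiftFunctor T (1 : ℤ)).obj A ⟶ D, m = h ≫ l :=
          Triangle.yoneda_exact₃ _ hT m hm
        rw [Serre.pairing_apply, hl, Category.assoc, tc h, Category.assoc, h2,
          comp_zero, map_zero]
    have hy : x - z₀ ≫ ξ = (r B).lift ψ ≫ S.functor.map g := (r C).hom_ext fun m => by
      refine (hψ m).symm.trans ?_
      rw [← (r B).lift_spec ψ, ← Category.assoc m ((r B).lift ψ)]
      refine Eq.trans ?_ (tc g (m ≫ (r B).lift ψ))
      exact congrArg _ (Category.assoc _ _ _)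
    refine ⟨z₀ + (r B).lift ψ ≫ g₀, ?_⟩
    rw [Preadditive.add_comp, Category.assoc, hξ₂, ← hy, add_sub_cancel]
  obtain ⟨η, hη⟩ := hsurj (𝟙 _)
  have hη' : ξ ≫ η = 𝟙 C₀ := by
    rw [← sub_eq_zero]
    apply hinj
    rw [Preadditive.sub_comp, Category.assoc, hη, Category.comp_id, Category.id_comp, sub_self]
  let I : C₀ ≅ S.functor.obj C := ⟨ξ, η, hη', hη⟩
  refine isomorphic_distinguished _ hT₀ _
    (Triangle.isoMk _ _ (Iso.refl _) (Iso.refl _) I.symm ?_ ?_ ?_)
  · exact (Category.comp_id _).trans (Category.id_comp _).symm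
  · change S.functor.map g ≫ η = 𝟙 _ ≫ g₀
    rw [← hξ₂, Category.assoc, hη', Category.comp_id, Category.id_comp]
  · change (S.functor.map h ≫ e.hom.app A) ≫ (shiftFunctor T (1 : ℤ)).map (𝟙 _) = η ≫ d₀
    rw [CategoryTheory.Functor.map_id]
    erw [Category.comp_id]
    rw [← hξ₃, ← Category.assoc η ξ, hη, Category.id_comp]

end Groth.Agent.S6732
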