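import Groth.Statements.S6733
import Groth.Agent.Lib.PtSky9.Apps


set_option autoImplicit false
universe u
open CategoryTheory AlgebraicGeometry
attribute [local instance] HasDerivedCategory.standard

set_option backward.isDefEq.respectTransparency false
set_option backward.isDefEq.respectTransparency.types false
set_option maxHeartbeats 800000
open DEquiv

namespace Groth.Agent.S6733

/-- Let X be a scheme of finite type over a field k which is regular, x ∈ X a closed point, O_x the
skyscraper sheaf at x with value κ(x), d = dim O_{X,x}, and K a perfect object of D(O_X); the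
derived functors - ⊗^L O_x and RΓ(X, -) are assumed to exist (instance binders). (5) If H^i(X, K ⊗^L
O_x) = 0 then H^i(K) vanishes on an open neighbourhood of x. (6) If H^i(X, K ⊗^L O_x) = 0 for all i
then every cohomology sheaf of K vanishes on an open neighbourhood of x. (1) If Hom(O_x, K⟦i⟧) = 0
then H^{i-d}(K) vanishes on an open neighbourhood of x. (Vanishing on U: no point of U lies in the
support.) -/
theorem result
    (k : Type u) [Field k] (X : Scheme.{u}) [X.Over (Spec (.of k))]
    [LocallyOfFiniteType (X ↘ Spec (.of k))] [CompactSpace X]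
    (hreg : Models.IsRegularScheme X) (x : X) (hx : IsClosed ({x} : Set X))
    (d : ℕ) (hd : ringKrullDim (X.presheaf.stalk x) = d)
    (K : DCoh.D X) (hK : DCoh.IsPerfect K)
    [DCoh.HasLTensorMod ((Coh.push (X.fromSpecResidueField x)).obj (Coh.structureModule _))] [DCoh.HasRΓ X] :
    (∀ i : ℤ, Limits.IsZero ((DerivedCategory.homologyFunctor AddCommGrpCat.{u} i).obj
          ((DCoh.RΓ X).obj ((DCoh.LTensorMod ((Coh.push (X.fromSpecResidueField x)).obj (Coh.structureModule _))).obj K))) →
      ∃ U : X.Opens, x ∈ U ∧ ∀ y : X, y ∈ U → y ∉ CohB1.support (DCoh.HD K i)) ∧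
    ((∀ i : ℤ, Limits.IsZero ((DerivedCategory.homologyFunctor AddCommGrpCat.{u} i).obj
          ((DCoh.RΓ X).obj ((DCoh.LTensorMod ((Coh.push (X.fromSpecResidueField x)).obj (Coh.structureModule _))).obj K)))) →
      ∃ U : X.Opens, x ∈ U ∧ ∀ (i : ℤ) (y : X), y ∈ U → y ∉ CohB1.support (DCoh.HD K i)) ∧
    (∀ i : ℤ, (∀ φ : DCoh.inD X ((Coh.push (X.fromSpecResidueField x)).obj (Coh.structureModule _)) ⟶ (shiftFunctor (DCoh.D X) i).obj K, φ = 0) →
      ∃ U : X.Opens, x ∈ U ∧ ∀ y : X, y ∈ U → y ∉ CohB1.support (DCoh.HD K (i - d))) := by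
  haveI : IsLocallyNoetherian X := LocallyOfFiniteType.isLocallyNoetherian (X ↘ Spec (.of k))
  haveI : AlgebraicGeometry.IsNoetherian X := {}
  have hK' := DGen9.isQCohD_of_isPerfect hK
  exact ⟨fun i h => PtSky9.exists_nhd_perfect hK x i (PtSky9.isZero_fibre_of_rGamma hx K hK' i h),
    fun h => PtSky9.exists_nhd_perfect_all hK x fun i => PtSky9.isZero_fibre_of_rGamma hx K hK' i (h i),
    fun i h => PtSky9.exists_nhd_perfect hK x (i - d) (PtSky9.hom_sky_left hreg hx d hd K hK i h)⟩

end Groth.Agent.S6733
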