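import Groth.Statements.S6736
import Groth.Agent.Lib.FunMor5.Basic

set_option autoImplicit false
universe u
open CategoryTheory CategoryTheory.Limits AlgebraicGeometry
open FunMor

namespace Groth.Agent.S6736

/-- Let R be a ring and X, Y schemes over R with X quasi-compact with affine diagonal. Let K be a
quasi-coherent module on X ×_R Y which is flat over X and such that R^q pr_{2,*}(pr_1^* F ⊗ K) = 0
for all quasi-coherent O_X-modules F and all q > 0. Then for every scheme T over R and every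
quasi-coherent module F on T ×_R X, R^q pr_{13,*}(pr_{12}^* F ⊗ pr_{23}^* K) = 0 for all q > 0. Here
T ×_R X ×_R Y is realised as (T ×_R X) ×_X (X ×_R Y), with pr_{12}, pr_{23} its two projections and
pr_{13} the morphism to T ×_R Y determined by its two components. (Higher direct images as right
derived functors; the injective-resolution instances hold for module categories of schemes but are
carried as binders.) -/
theorem result
    (R : Type u) [CommRing R] (X Y : Scheme.{u}) [X.Over (Spec (.of R))] [Y.Over (Spec (.of R))]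
    [CompactSpace X] [IsAffineHom (pullback.diagonal (X ↘ Spec (.of R)))]
    [HasInjectiveResolutions (pullback (X ↘ Spec (.of R)) (Y ↘ Spec (.of R))).Modules]
    (K : (pullback (X ↘ Spec (.of R)) (Y ↘ Spec (.of R))).Modules) (hKq : Coh.IsQCoh K)
    (hKfl : FlatMod.IsFlatOver (pullback.fst (X ↘ Spec (.of R)) (Y ↘ Spec (.of R))) K)
    (hKac : ∀ (F : X.Modules), Coh.IsQCoh F → ∀ q : ℕ, 0 < q →
      IsZero ((Coh.Rpush (pullback.snd (X ↘ Spec (.of R)) (Y ↘ Spec (.of R))) q).obj
        (CohB1.tensorMod ((Scheme.Modules.pullback (pullback.fst (X ↘ Spec (.of R)) (Y ↘ Spec (.of R)))).obj F) K)))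
    (T : Scheme.{u}) [T.Over (Spec (.of R))]
    [HasInjectiveResolutions (pullback (pullback.snd (T ↘ Spec (.of R)) (X ↘ Spec (.of R))) (pullback.fst (X ↘ Spec (.of R)) (Y ↘ Spec (.of R)))).Modules]
    (pr₁₃ : (pullback (pullback.snd (T ↘ Spec (.of R)) (X ↘ Spec (.of R))) (pullback.fst (X ↘ Spec (.of R)) (Y ↘ Spec (.of R)))) ⟶ (pullback (T ↘ Spec (.of R)) (Y ↘ Spec (.of R))))
    (h₁ : pr₁₃ ≫ pullback.fst (T ↘ Spec (.of R)) (Y ↘ Spec (.of R)) =
      pullback.fst _ _ ≫ pullback.fst (T ↘ Spec (.of R)) (X ↘ Spec (.of R)))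
    (h₂ : pr₁₃ ≫ pullback.snd (T ↘ Spec (.of R)) (Y ↘ Spec (.of R)) =
      pullback.snd _ _ ≫ pullback.snd (X ↘ Spec (.of R)) (Y ↘ Spec (.of R)))
    (F : (pullback (T ↘ Spec (.of R)) (X ↘ Spec (.of R))).Modules) (hF : Coh.IsQCoh F) (q : ℕ) (hq : 0 < q) :
    IsZero ((Coh.Rpush pr₁₃ q).obj
      (CohB1.tensorMod
        ((Scheme.Modules.pullback
          (pullback.fst (pullback.snd (T ↘ Spec (.of R)) (X ↘ Spec (.of R))) (pullback.fst (X ↘ Spec (.of R)) (Y ↘ Spec (.of R))))).obj F)
        ((Scheme.Modules.pullback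
          (pullback.snd (pullback.snd (T ↘ Spec (.of R)) (X ↘ Spec (.of R))) (pullback.fst (X ↘ Spec (.of R)) (Y ↘ Spec (.of R))))).obj K))) := by
  haveI : QuasiSeparated (X ↘ Spec (.of R)) :=
    ⟨inferInstanceAs (QuasiCompact (pullback.diagonal (X ↘ Spec (.of R))))⟩
  haveI : QuasiCompact (X ↘ Spec (.of R)) :=
    (quasiCompact_iff_compactSpace (X ↘ Spec (.of R))).2 inferInstance
  exact FunMor5.main (T ↘ Spec (.of R)) _ _ K hKq hKac pr₁₃ h₁ h₂ F hF q hq

end Groth.Agent.S6736
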