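import Groth.Statements.S6739
import Groth.Agent.Lib.PtBd9.Vanish
import Groth.Agent.Lib.KFlat.TorTriangle
import Groth.Agent.Lib.DPush.Adapted

set_option autoImplicit false
universe u
open CategoryTheory CategoryTheory.Limits AlgebraicGeometry
attribute [local instance] HasDerivedCategory.standard
open DEquiv CategoryTheory.Pretriangulated

set_option backward.isDefEq.respectTransparency false
set_option backward.isDefEq.respectTransparency.types false
set_option maxHeartbeats 800000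

namespace Groth.Agent.S6739

open DerivedCategory in
theorem isZero_obj₃ {A : Type*} [Category* A] [Abelian A] [HasDerivedCategory A] {T : Triangle (DerivedCategory A)}
    (hT : T ∈ distTriang _) (j : ℤ)
    (he : Epi ((homologyFunctor A j).map T.mor₁)) (hm : Mono ((homologyFunctor A (j + 1)).map T.mor₁)) :
    IsZero ((homologyFunctor A j).obj T.obj₃) :=
  (HomologySequence.exact₃ T hT j (j + 1) rfl).isZero_of_both_zeros
    ((HomologySequence.epi_homologyMap_mor₁_iff T hT j).1 he)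
    ((HomologySequence.mono_homologyMap_mor₁_iff T hT j (j + 1) rfl).1 hm)

open DerivedCategory in
theorem isIso_mor₁ {A : Type*} [Category* A] [Abelian A] [HasDerivedCategory A] {T : Triangle (DerivedCategory A)}
    (hT : T ∈ distTriang _) (j : ℤ)
    (h₀ : IsZero ((homologyFunctor A (j - 1)).obj T.obj₃)) (h₁ : IsZero ((homologyFunctor A j).obj T.obj₃)) :
    IsIso ((homologyFunctor A j).map T.mor₁) := by
  haveI := (HomologySequence.epi_homologyMap_mor₁_iff T hT j).2 (h₁.eq_of_tgt _ _)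
  haveI := (HomologySequence.mono_homologyMap_mor₁_iff T hT (j - 1) j (by omega)).2 (h₀.eq_of_src _ _)
  exact isIso_of_mono_of_epi _

/-- Let k be a field and X, Y schemes of finite type over k. Let K_0 ⟶ K_1 ⟶ K_2 ⟶ ⋯ be a system of
perfect objects of D(O_{X ×_k Y}) and m ≥ 0 an integer such that (1) H^q(K_n) = 0 for q > m and all
n, and (2) for every coherent O_X-module F whose support is a finite set of closed points, each
object R pr_{2,*}(pr_1^* F ⊗^L K_n) has zero cohomology sheaves except possibly in degrees lying in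
[-m, m] ∪ [-m-n, m-n], and whenever n > 2m, the maps induced by the system are isomorphisms on the
i-th cohomology sheaves of these objects for all i with -m ≤ i ≤ m. Then the cohomology sheaves of
each K_n are zero in every degree not in [-m, m] ∪ [-m-n, m-n], and once n > 2m, each map K_n ⟶
K_{n+1} of the system induces an isomorphism on the i-th cohomology sheaf for all i with -m ≤ i ≤ m.
(The derived functors - ⊗^L pr_1^* F and R pr_{2,*} are assumed to exist, as instance binders; pr_1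
is flat, so pr_1^* F is the derived pullback. A further splitting of K_n when X and Y are smooth is
not part of this statement.) -/
theorem result
    (k : Type u) [Field k] (X Y : Scheme.{u}) [X.Over (Spec (.of k))] [Y.Over (Spec (.of k))]
    [LocallyOfFiniteType (X ↘ Spec (.of k))] [CompactSpace X] [LocallyOfFiniteType (Y ↘ Spec (.of k))] [CompactSpace Y]
    [∀ F : X.Modules, DCoh.HasLTensorMod ((Scheme.Modules.pullback (pullback.fst (X ↘ Spec (.of k)) (Y ↘ Spec (.of k)))).obj F)]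
    [DCoh.HasRpush (pullback.snd (X ↘ Spec (.of k)) (Y ↘ Spec (.of k)))]
    (K : ℕ → DCoh.D (pullback (X ↘ Spec (.of k)) (Y ↘ Spec (.of k)))) (t : ∀ n : ℕ, K n ⟶ K (n + 1)) (hK : ∀ n, DCoh.IsPerfect (K n))
    (m : ℕ) (h1 : ∀ (n : ℕ) (q : ℤ), (m : ℤ) < q → IsZero (DCoh.HD (K n) q))
    (h2 : ∀ (F : X.Modules), Coh.IsCoh F → (CohB1.support F).Finite →
      (∀ x ∈ CohB1.support F, IsClosed ({x} : Set X)) →
      (∀ (n : ℕ) (i : ℤ), ¬ (-(m : ℤ) ≤ i ∧ i ≤ m) → ¬ (-(m : ℤ) - n ≤ i ∧ i ≤ (m : ℤ) - n) →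
          IsZero (DCoh.HD ((DCoh.Rpush (pullback.snd (X ↘ Spec (.of k)) (Y ↘ Spec (.of k)))).obj ((DCoh.LTensorMod ((Scheme.Modules.pullback (pullback.fst (X ↘ Spec (.of k)) (Y ↘ Spec (.of k)))).obj F)).obj (K n))) i)) ∧
      (∀ (n : ℕ) (i : ℤ), 2 * m < n → -(m : ℤ) ≤ i → i ≤ m →
          IsIso ((DerivedCategory.homologyFunctor _ i).map ((DCoh.Rpush (pullback.snd (X ↘ Spec (.of k)) (Y ↘ Spec (.of k)))).map ((DCoh.LTensorMod ((Scheme.Modules.pullback (pullback.fst (X ↘ Spec (.of k)) (Y ↘ Spec (.of k)))).obj F)).map (t n)))))) :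
    (∀ (n : ℕ) (i : ℤ), ¬ (-(m : ℤ) ≤ i ∧ i ≤ m) → ¬ (-(m : ℤ) - n ≤ i ∧ i ≤ (m : ℤ) - n) →
        IsZero (DCoh.HD (K n) i)) ∧
    ∀ (n : ℕ) (i : ℤ), 2 * m < n → -(m : ℤ) ≤ i → i ≤ m →
        IsIso ((DerivedCategory.homologyFunctor _ i).map (t n)) := by
  let p := pullback.fst (X ↘ Spec (.of k)) (Y ↘ Spec (.of k))
  let q := pullback.snd (X ↘ Spec (.of k)) (Y ↘ Spec (.of k))
  have hvan : ∀ (C : DCoh.D (pullback (X ↘ Spec (.of k)) (Y ↘ Spec (.of k)))), DCoh.IsPerfect C → ∀ i : ℤ,
      (∀ F : X.Modules, Coh.IsCoh F → (CohB1.support F).Finite →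
        (∀ x ∈ CohB1.support F, IsClosed ({x} : Set X)) →
        IsZero (DCoh.HD ((DCoh.Rpush q).obj ((DCoh.LTensorMod ((Scheme.Modules.pullback p).obj F)).obj C)) i)) →
      IsZero (DCoh.HD C i) := fun C hC i h =>
    PtBd9.isZero_HD_of_slices (X ↘ Spec (.of k)) p q (Y ↘ Spec (.of k)) (IsPullback.of_hasPullback _ _) C hC i h
  refine ⟨fun n i hi hi' => hvan (K n) (hK n) i fun F hc hf hp => (h2 F hc hf hp).1 n i hi hi', ?_⟩
  intro n i hn hi hi'
  obtain ⟨C, g, h, hT⟩ := distinguished_cocone_triangle (t n)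
  let T := Triangle.mk (t n) g h
  have hC : DCoh.IsPerfect C := DGen9.isPerfect_obj₃ T hT (hK n) (hK (n + 1))
  have hz : ∀ j : ℤ, -(m : ℤ) - 1 ≤ j → j ≤ m → IsZero (DCoh.HD C j) := fun j hj hj' => hvan C hC j fun F hc hf hp => by
    obtain ⟨hA, hB⟩ := h2 F hc hf hp
    let L := DCoh.LTensorMod ((Scheme.Modules.pullback p).obj F)
    obtain ⟨T', hT', e₁, e₂, e₃, hcomm⟩ := KFlat.Sch.exists_triangle_lTensorMod ((Scheme.Modules.pullback p).obj F) T hT
    obtain ⟨_, _⟩ := DPush.exists_commShift_isTriangulated q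
    let R := DCoh.Rpush q
    have hT'' := R.map_distinguished T' hT'
    let Hf (l : ℤ) := DerivedCategory.homologyFunctor Y.Modules l
    have hmor : ∀ l : ℤ, (Hf l).map (R.map T'.mor₁) =
        ((Hf l).mapIso (R.mapIso e₁)).hom ≫ (Hf l).map (R.map (L.map (t n))) ≫
          ((Hf l).mapIso (R.mapIso e₂)).inv := fun l => by
      have h0 : T'.mor₁ = e₁.hom ≫ L.map (t n) ≫ e₂.inv := by
        rw [← Category.assoc, Iso.eq_comp_inv]
        exact hcomm
      simp only [h0, Functor.map_comp, Functor.mapIso_hom, Functor.mapIso_inv]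
    have hiso : ∀ l : ℤ, -(m : ℤ) ≤ l → l ≤ m → IsIso ((Hf l).map (R.map T'.mor₁)) := fun l hl hl' => by
      haveI : IsIso ((Hf l).map (R.map (L.map (t n)))) := hB n l hn hl hl'
      rw [hmor l]
      infer_instance
    refine (isZero_obj₃ hT'' j ?_ ?_).of_iso ((Hf j).mapIso (R.mapIso e₃.symm))
    · by_cases hl : -(m : ℤ) ≤ j
      · haveI := hiso j hl hj'
        exact inferInstanceAs (Epi ((Hf j).map (R.map T'.mor₁)))
      · have hBz : IsZero ((Hf j).obj (R.obj T'.obj₂)) :=
          (hA (n + 1) j (by omega) (by omega)).of_iso ((Hf j).mapIso (R.mapIso e₂))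
        exact ⟨fun _ _ _ => hBz.eq_of_src _ _⟩
    · by_cases hl : j + 1 ≤ (m : ℤ)
      · haveI := hiso (j + 1) (by omega) hl
        exact inferInstanceAs (Mono ((Hf (j + 1)).map (R.map T'.mor₁)))
      · have hAz : IsZero ((Hf (j + 1)).obj (R.obj T'.obj₁)) :=
          (hA n (j + 1) (by omega) (by omega)).of_iso ((Hf (j + 1)).mapIso (R.mapIso e₁))
        exact ⟨fun _ _ _ => hAz.eq_of_tgt _ _⟩
  exact isIso_mor₁ hT i (hz (i - 1) (by omega) (by omega)) (hz i (by omega) hi')

end Groth.Agent.S6739
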