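import Groth.Statements.S6741
import Groth.Agent.Lib.PtSky9.Apps


set_option autoImplicit false
universe u
open CategoryTheory AlgebraicGeometry
attribute [local instance] HasDerivedCategory.standard

set_option backward.isDefEq.respectTransparency false
set_option backward.isDefEq.respectTransparency.types false
set_option maxHeartbeats 800000
open DEquiv

namespace Groth.Agent.S6741

/-- Let X be a scheme of finite type over a field k which is regular, x ∈ X a closed point, O_x the
skyscraper sheaf at x with value κ(x), and K a perfect object of D(O_X), given by a complex E of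
O_X-modules; the derived functors - ⊗^L E and its right adjoint RHom(E, -) are assumed to exist
(instance binders), and K^∨ = RHom(E, O_X). If Hom(K, O_x⟦i⟧) = 0 then H^i(K^∨) vanishes on an open
neighbourhood of x (no point of it lies in the support). -/
theorem result
    (k : Type u) [Field k] (X : Scheme.{u}) [X.Over (Spec (.of k))]
    [LocallyOfFiniteType (X ↘ Spec (.of k))] [CompactSpace X]
    (hreg : Models.IsRegularScheme X) (x : X) (hx : IsClosed ({x} : Set X))
    (E : CochainComplex X.Modules ℤ) (hK : DCoh.IsPerfect (DCoh.toD X E))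
    [DCoh.HasLTensorCx E] [DCoh.HasRSheafHom E] (i : ℤ)
    (h : ∀ φ : DCoh.toD X E ⟶ (shiftFunctor (DCoh.D X) i).obj (DCoh.inD X ((Coh.push (X.fromSpecResidueField x)).obj (Coh.structureModule _))), φ = 0) :
    ∃ U : X.Opens, x ∈ U ∧ ∀ y : X, y ∈ U →
      y ∉ CohB1.support (DCoh.HD ((DCoh.RSheafHom E).obj (DCoh.inD X (Coh.structureModule X))) i) := by
  haveI : IsLocallyNoetherian X := LocallyOfFiniteType.isLocallyNoetherian (X ↘ Spec (.of k))
  haveI : AlgebraicGeometry.IsNoetherian X := {}
  obtain ⟨D, hD, ⟨e⟩, hz⟩ := PtSky9.isZero_fibre_dual hx E hK i h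
  obtain ⟨U, hxU, hU⟩ := PtSky9.exists_nhd_perfect hD x i hz
  refine ⟨U, hxU, fun y hy => ?_⟩
  rw [DPush9.support_iso ((DerivedCategory.homologyFunctor X.Modules i).mapIso e)]
  exact hU y hy

end Groth.Agent.S6741
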