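import Groth.Statements.S6748
import Groth.Agent.Lib.BvdB9.Adjoints

set_option autoImplicit false
universe u
open CategoryTheory AlgebraicGeometry
attribute [local instance] HasDerivedCategory.standard
open DEquiv

namespace Groth.Agent.S6748

/-- Let X and Y be schemes proper over a field k with X regular (all local rings regular), and let F :
D_perf(O_X) ⥤ D_perf(O_Y) be a k-linear exact functor between the full subcategories of perfect
objects of D(O_X) and D(O_Y) (the instance hypotheses record that these are triangulated
subcategories). Then F has a right adjoint and a left adjoint. (Both adjoints are then exact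
functors of triangulated categories; that general fact is not restated.) -/
theorem result
    (k : Type u) [Field k] (X Y : Scheme.{u}) [X.Over (Spec (.of k))] [Y.Over (Spec (.of k))]
    [IsProper (X ↘ Spec (.of k))] [IsProper (Y ↘ Spec (.of k))] (hreg : Models.IsRegularScheme X)
    [(SGA6.perfP X).IsTriangulated] [(SGA6.perfP Y).IsTriangulated]
    (F : (SGA6.perfP X).FullSubcategory ⥤ (SGA6.perfP Y).FullSubcategory) [F.Additive] [F.Linear k]
    [F.CommShift ℤ] [F.IsTriangulated] :
    F.IsLeftAdjoint ∧ F.IsRightAdjoint := by
  exact BvdB9.adjoints k hreg F

end Groth.Agent.S6748
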