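import Groth.Statements.S6751
import Groth.Agent.Lib.PtFF9.EssImage
import Groth.Agent.Lib.PtFF9.Main

set_option autoImplicit false
universe u
open CategoryTheory AlgebraicGeometry
attribute [local instance] HasDerivedCategory.standard
open DEquiv

namespace Groth.Agent.S6751

/-- Let X and Y be schemes proper over a field k with X regular (all local rings regular), and let F, G
: D_perf(O_X) ⥤ D_perf(O_Y) be k-linear exact functors between the full subcategories of perfect
objects (the instance hypotheses record that these are triangulated subcategories). Assume that F(M)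
≅ G(M) for every coherent O_X-module M whose support has dimension 0 (a nonempty finite set of
closed points; M viewed in degree 0, a perfect object since X is regular, the statement quantifying
over a proof of this), and suppose moreover that the functor F is both full and faithful. Under
these conditions, for each perfect object M on X the object G(M) is isomorphic to F applied to some
perfect object, i.e. everything G hits lies in F's essential image. -/
theorem result
    (k : Type u) [Field k] (X Y : Scheme.{u}) [X.Over (Spec (.of k))] [Y.Over (Spec (.of k))]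
    [IsProper (X ↘ Spec (.of k))] [IsProper (Y ↘ Spec (.of k))] (hreg : Models.IsRegularScheme X)
    [(SGA6.perfP X).IsTriangulated] [(SGA6.perfP Y).IsTriangulated]
    (F : (SGA6.perfP X).FullSubcategory ⥤ (SGA6.perfP Y).FullSubcategory) [F.Additive] [F.Linear k]
    [F.CommShift ℤ] [F.IsTriangulated]
    (G : (SGA6.perfP X).FullSubcategory ⥤ (SGA6.perfP Y).FullSubcategory) [G.Additive] [G.Linear k]
    [G.CommShift ℤ] [G.IsTriangulated]
    (h1 : ∀ (M : X.Modules), Coh.IsCoh M → (CohB1.support M).Finite → (CohB1.support M).Nonempty →
        (∀ x ∈ CohB1.support M, IsClosed ({x} : Set X)) →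
        ∀ (hM : DCoh.IsPerfect (DCoh.inD X M)),
          Nonempty (F.obj ⟨DCoh.inD X M, hM⟩ ≅ G.obj ⟨DCoh.inD X M, hM⟩))
    [F.Full] [F.Faithful] (M : (SGA6.perfP X).FullSubcategory) :
    F.essImage (G.obj M) := by
  refine PtFF9.mem_essImage k hreg F G (fun E hE => ?_) M
  obtain ⟨x, hp, hx, rfl⟩ := hE
  haveI : IsLocallyNoetherian X := LocallyOfFiniteType.isLocallyNoetherian (X ↘ Spec (.of k))
  obtain ⟨hmem, hsub⟩ := KerId9.mem_support_skyO hx
  exact h1 _ (KerId9.isCoh_skyO hx) ((Set.finite_singleton x).subset hsub) ⟨x, hmem⟩
    (fun y hy => (show y = x from hsub hy) ▸ hx) hp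

end Groth.Agent.S6751
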