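import Groth.Statements.S6762
import Groth.Agent.Lib.FMAffine2.Nat
import Groth.Agent.Lib.ModM1.Pull

set_option autoImplicit false
set_option maxHeartbeats 1000000
set_option backward.isDefEq.respectTransparency false
set_option linter.style.haveILetI false
universe u
open CategoryTheory AlgebraicGeometry
attribute [local instance] HasDerivedCategory.standard
open FunMor

namespace Groth.Agent.S6762

/-- Let R be a ring, X and Y schemes over R with X affine, K a quasi-coherent O_{X ×_R Y}-module and F_K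
the functor M ↦ pr_{2,*}(pr_1^* M ⊗ K). Let f : X' ⟶ X be an affine morphism, view X' over R through
f, and let g : X' ×_R Y ⟶ X ×_R Y be the morphism f × id_Y (characterised by its two components).
Then F_K ∘ f_* is isomorphic, as a functor on quasi-coherent O_{X'}-modules, to the functor M' ↦
pr'_{2,*}(pr'^*_1 M' ⊗ g^* K) attached to the quasi-coherent module g^* K on X' ×_R Y. -/
theorem result
    (R : Type u) [CommRing R] (X Y : Scheme.{u}) [X.Over (Spec (.of R))] [Y.Over (Spec (.of R))] [IsAffine X]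
    (K : (Limits.pullback (X ↘ Spec (.of R)) (Y ↘ Spec (.of R))).Modules) (hK : Coh.IsQCoh K)
    {X' : Scheme.{u}} (f : X' ⟶ X) [IsAffineHom f]
    (g : (Limits.pullback (f ≫ (X ↘ Spec (.of R))) (Y ↘ Spec (.of R))) ⟶ (Limits.pullback (X ↘ Spec (.of R)) (Y ↘ Spec (.of R))))
    (hg₁ : g ≫ (Limits.pullback.fst (X ↘ Spec (.of R)) (Y ↘ Spec (.of R))) = (Limits.pullback.fst (f ≫ (X ↘ Spec (.of R))) (Y ↘ Spec (.of R))) ≫ f) (hg₂ : g ≫ (Limits.pullback.snd (X ↘ Spec (.of R)) (Y ↘ Spec (.of R))) = (Limits.pullback.snd (f ≫ (X ↘ Spec (.of R))) (Y ↘ Spec (.of R)))) :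
    Nonempty (ObjectProperty.ι (QCohCat.isQCoh X') ⋙ Coh.push f ⋙ (Scheme.Modules.pullback (Limits.pullback.fst (X ↘ Spec (.of R)) (Y ↘ Spec (.of R))) ⋙ DCoh.tensorRightMod K ⋙ Coh.push (Limits.pullback.snd (X ↘ Spec (.of R)) (Y ↘ Spec (.of R)))) ≅
      ObjectProperty.ι (QCohCat.isQCoh X') ⋙ (Scheme.Modules.pullback (Limits.pullback.fst (f ≫ (X ↘ Spec (.of R))) (Y ↘ Spec (.of R))) ⋙ DCoh.tensorRightMod ((Scheme.Modules.pullback g).obj K) ⋙ Coh.push (Limits.pullback.snd (f ≫ (X ↘ Spec (.of R))) (Y ↘ Spec (.of R))))) := by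
  let x := X ↘ Spec (.of R)
  let y := Y ↘ Spec (.of R)
  let p := Limits.pullback.fst x y
  let q := Limits.pullback.snd x y
  let p' := Limits.pullback.fst (f ≫ x) y
  let q' := Limits.pullback.snd (f ≫ x) y
  haveI : IsAffineHom x := inferInstance
  have hgq : g ≫ q = q' := hg₂
  have h0 : IsPullback g p' p f := IsPullback.of_right
    (by rw [hg₂]; exact (IsPullback.of_hasPullback (f ≫ x) y).flip) hg₁ (IsPullback.of_hasPullback x y).flip
  have h : IsPullback p' g f p := h0.flip
  haveI : IsAffineHom g := MorphismProperty.of_isPullback h inferInstance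
  let τ : ∀ M : QCohCat.QCoh X', (DCoh.tensorRightMod K).obj ((Scheme.Modules.pullback p).obj
      ((Scheme.Modules.pushforward f).obj M.obj)) ⟶ (Scheme.Modules.pushforward g).obj
        ((DCoh.tensorRightMod ((Scheme.Modules.pullback g).obj K)).obj ((Scheme.Modules.pullback p').obj M.obj)) :=
    fun M => (DCoh.tensorRightMod K).map (Groth.Agent.FMAffine2.theta h M.obj) ≫
      Groth.Agent.FMAffine2.rho g K ((Scheme.Modules.pullback p').obj M.obj)
  have hτ : ∀ M, IsIso (τ M) := fun M => by
    haveI : IsIso (Groth.Agent.FMAffine2.theta h M.obj) := Groth.Agent.PullBC11.isIso_bcMap h M.obj M.property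
    haveI : IsIso (Groth.Agent.FMAffine2.rho g K ((Scheme.Modules.pullback p').obj M.obj)) :=
      Groth.Agent.FMAffine2.isIso_rho g K hK _ (Groth.Agent.M1.isQCoh_pullback p' M.property)
    infer_instance
  let e : ObjectProperty.ι (QCohCat.isQCoh X') ⋙ Coh.push f ⋙ Scheme.Modules.pullback p ⋙ DCoh.tensorRightMod K ≅
      ObjectProperty.ι (QCohCat.isQCoh X') ⋙ (Scheme.Modules.pullback p' ⋙ DCoh.tensorRightMod ((Scheme.Modules.pullback g).obj K)) ⋙
        Scheme.Modules.pushforward g :=
    NatIso.ofComponents (fun M => haveI := hτ M; asIso (τ M)) fun {M N} φ => by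
      change (DCoh.tensorRightMod K).map ((Scheme.Modules.pullback p).map ((Scheme.Modules.pushforward f).map φ.hom)) ≫ τ N =
        τ M ≫ (Scheme.Modules.pushforward g).map ((DCoh.tensorRightMod ((Scheme.Modules.pullback g).obj K)).map
          ((Scheme.Modules.pullback p').map φ.hom))
      simp only [τ, Category.assoc]
      rw [← Functor.map_comp_assoc, Groth.Agent.FMAffine2.theta_natural, Functor.map_comp_assoc,
        Groth.Agent.FMAffine2.tensorRightMod_map, Groth.Agent.FMAffine2.tensorRightMod_map K,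
        Groth.Agent.FMAffine2.tensorRightMod_map, Groth.Agent.FMAffine2.rho_natural]
  let c : Scheme.Modules.pushforward g ⋙ Scheme.Modules.pushforward q ≅ Scheme.Modules.pushforward q' :=
    Scheme.Modules.pushforwardComp g q ≪≫ Scheme.Modules.pushforwardCongr hgq
  exact ⟨Functor.isoWhiskerRight e (Coh.push q) ≪≫
    Functor.isoWhiskerLeft (ObjectProperty.ι (QCohCat.isQCoh X') ⋙ Scheme.Modules.pullback p' ⋙ DCoh.tensorRightMod ((Scheme.Modules.pullback g).obj K)) c⟩

end Groth.Agent.S6762
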