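import Groth.Statements.S6763
import Groth.Agent.Lib.FMAffine2.Nat
import Groth.Agent.Lib.ModM1.Pull
import Groth.Agent.Lib.TensorMod.QCohTensor

set_option autoImplicit false
set_option maxHeartbeats 1000000
set_option backward.isDefEq.respectTransparency false
set_option linter.style.haveILetI false
universe u
open CategoryTheory AlgebraicGeometry
attribute [local instance] HasDerivedCategory.standard
open FunMor

namespace Groth.Agent.S6763

/-- Let R be a ring, X and Y schemes over R with X affine, K a quasi-coherent O_{X ×_R Y}-module and F_K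
the functor M ↦ pr_{2,*}(pr_1^* M ⊗ K). Let g : Y' ⟶ Y be a flat morphism, view Y' over R through g,
and let h : X ×_R Y' ⟶ X ×_R Y be the morphism id_X × g (characterised by its two components). Then
g^* ∘ F_K is isomorphic, as a functor on quasi-coherent O_X-modules, to the functor M ↦
pr'_{2,*}(pr'^*_1 M ⊗ h^* K) attached to the quasi-coherent module h^* K on X ×_R Y'. (The case of
an open immersion g is a special case.) -/
theorem result
    (R : Type u) [CommRing R] (X Y : Scheme.{u}) [X.Over (Spec (.of R))] [Y.Over (Spec (.of R))] [IsAffine X]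
    (K : (Limits.pullback (X ↘ Spec (.of R)) (Y ↘ Spec (.of R))).Modules) (hK : Coh.IsQCoh K)
    {Y' : Scheme.{u}} (g : Y' ⟶ Y) [Flat g]
    (h : (Limits.pullback (X ↘ Spec (.of R)) (g ≫ (Y ↘ Spec (.of R)))) ⟶ (Limits.pullback (X ↘ Spec (.of R)) (Y ↘ Spec (.of R))))
    (hh₁ : h ≫ (Limits.pullback.fst (X ↘ Spec (.of R)) (Y ↘ Spec (.of R))) = (Limits.pullback.fst (X ↘ Spec (.of R)) (g ≫ (Y ↘ Spec (.of R))))) (hh₂ : h ≫ (Limits.pullback.snd (X ↘ Spec (.of R)) (Y ↘ Spec (.of R))) = (Limits.pullback.snd (X ↘ Spec (.of R)) (g ≫ (Y ↘ Spec (.of R)))) ≫ g) :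
    Nonempty ((ObjectProperty.ι (QCohCat.isQCoh X) ⋙ Scheme.Modules.pullback (Limits.pullback.fst (X ↘ Spec (.of R)) (Y ↘ Spec (.of R))) ⋙ DCoh.tensorRightMod K ⋙ Coh.push (Limits.pullback.snd (X ↘ Spec (.of R)) (Y ↘ Spec (.of R)))) ⋙ Scheme.Modules.pullback g ≅
      ObjectProperty.ι (QCohCat.isQCoh X) ⋙ (Scheme.Modules.pullback (Limits.pullback.fst (X ↘ Spec (.of R)) (g ≫ (Y ↘ Spec (.of R)))) ⋙ DCoh.tensorRightMod ((Scheme.Modules.pullback h).obj K) ⋙ Coh.push (Limits.pullback.snd (X ↘ Spec (.of R)) (g ≫ (Y ↘ Spec (.of R)))))) := by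
  let x := X ↘ Spec (.of R)
  let y := Y ↘ Spec (.of R)
  let p := Limits.pullback.fst x y
  let q := Limits.pullback.snd x y
  let p' := Limits.pullback.fst x (g ≫ y)
  let q' := Limits.pullback.snd x (g ≫ y)
  haveI : IsAffineHom x := inferInstance
  haveI : IsAffineHom q := MorphismProperty.pullback_snd _ _ inferInstance
  have sq : IsPullback h q' q g := IsPullback.of_right
    (by rw [hh₁]; exact IsPullback.of_hasPullback x (g ≫ y)) hh₂ (IsPullback.of_hasPullback x y)
  let ψ : Scheme.Modules.pullback p ⋙ Scheme.Modules.pullback h ≅ Scheme.Modules.pullback p' :=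
    Scheme.Modules.pullbackComp h p ≪≫ Scheme.Modules.pullbackCongr hh₁
  let K' := (Scheme.Modules.pullback h).obj K
  let τ : ∀ M : QCohCat.QCoh X, (Scheme.Modules.pullback g).obj ((Scheme.Modules.pushforward q).obj
      (CohB1.tensorMod ((Scheme.Modules.pullback p).obj M.obj) K)) ⟶
        (Scheme.Modules.pushforward q').obj (CohB1.tensorMod ((Scheme.Modules.pullback p').obj M.obj) K') :=
    fun M => Groth.Agent.FMAffine2.theta sq (CohB1.tensorMod ((Scheme.Modules.pullback p).obj M.obj) K) ≫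
      (Scheme.Modules.pushforward q').map (Groth.Agent.M2.pullCmp h ((Scheme.Modules.pullback p).obj M.obj) K ≫
        Groth.Agent.M2.tensorMap (ψ.hom.app M.obj) (𝟙 K'))
  have hτ : ∀ M, IsIso (τ M) := fun M => by
    haveI : IsIso (Groth.Agent.FMAffine2.theta sq (CohB1.tensorMod ((Scheme.Modules.pullback p).obj M.obj) K)) :=
      Groth.Agent.PullBC11.isIso_bcMap sq _
        (Groth.Agent.M2.isQCoh_tensor (Groth.Agent.M1.isQCoh_pullback p M.property) hK)
    haveI : IsIso (Groth.Agent.M2.tensorMap (ψ.hom.app M.obj) (𝟙 K')) :=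
      ⟨(Groth.Agent.M2.tensorIso (ψ.app M.obj) (Iso.refl K')).inv,
        (Groth.Agent.M2.tensorIso (ψ.app M.obj) (Iso.refl K')).hom_inv_id,
        (Groth.Agent.M2.tensorIso (ψ.app M.obj) (Iso.refl K')).inv_hom_id⟩
    infer_instance
  refine ⟨NatIso.ofComponents (fun M => haveI := hτ M; asIso (τ M)) fun {M N} φ => ?_⟩
  change (Scheme.Modules.pullback g).map ((Scheme.Modules.pushforward q).map
      ((DCoh.tensorRightMod K).map ((Scheme.Modules.pullback p).map φ.hom))) ≫ τ N =
    τ M ≫ (Scheme.Modules.pushforward q').map ((DCoh.tensorRightMod K').map ((Scheme.Modules.pullback p').map φ.hom))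
  simp only [τ, Category.assoc]
  rw [Groth.Agent.FMAffine2.tensorRightMod_map, Groth.Agent.FMAffine2.tensorRightMod_map]
  rw [← Category.assoc]
  refine (congrArg (· ≫ _) (Groth.Agent.FMAffine2.theta_natural sq (Groth.Agent.M2.tensorMap ((Scheme.Modules.pullback p).map φ.hom) (𝟙 K)))).trans ?_
  rw [Category.assoc, ← Functor.map_comp, ← Functor.map_comp]
  congr 2
  rw [← Category.assoc, Groth.Agent.KFlat.Sch.pullCmp_natural, CategoryTheory.Functor.map_id, Category.assoc, Category.assoc,
    ← Groth.Agent.M2.tensorMap_comp, ← Groth.Agent.M2.tensorMap_comp]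
  congr 2
  exact ψ.hom.naturality φ.hom

end Groth.Agent.S6763
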