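import Groth.Statements.S6769
import Groth.Agent.Lib.EW8.Basic

set_option autoImplicit false
universe u
open CategoryTheory CategoryTheory.Limits TensorProduct
open scoped ModuleCat.Algebra
open FunMor

namespace Groth.Agent.S6769

set_option backward.isDefEq.respectTransparency false
open Groth.Agent.EW8



/-- Let R be a commutative ring and A, B commutative R-algebras; Mod_A and Mod_B are R-linear
categories. Suppose F, F' : Mod_A ⥤ Mod_B are R-linear functors, each of which preserves finite
colimits (so is right exact) and also preserves direct sums indexed by any set. Then: (i) there is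
an A ⊗_R B-module K — a module over A and over B with commuting actions on which the two R-actions
agree — and B-linear isomorphisms K ⊗_A M ≅ F(M) natural in the A-module M; (ii) a natural
transformation F ⟶ F' is determined by its component at A, and a B-linear map φ : F(A) ⟶ F'(A) is
the component at A of some natural transformation F ⟶ F' if and only if it commutes with the
A-actions, i.e. F(a · id_A) ≫ φ = φ ≫ F'(a · id_A) for all a ∈ A. (Together: K ↦ (- ⊗_A K) is an
equivalence from Mod_{A ⊗_R B} onto the category of such functors.) -/
theorem result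
    (R : Type u) [CommRing R] (A B : Type u) [CommRing A] [CommRing B] [Algebra R A] [Algebra R B]
    (F F' : ModuleCat.{u} A ⥤ ModuleCat.{u} B) [F.Additive] [F.Linear R] [F'.Additive] [F'.Linear R]
    [PreservesFiniteColimits F] [∀ J : Type u, PreservesColimitsOfShape (Discrete J) F]
    [PreservesFiniteColimits F'] [∀ J : Type u, PreservesColimitsOfShape (Discrete J) F'] :
    (∃ (K : Type u) (_ : AddCommGroup K) (_ : Module A K) (_ : Module B K) (_ : SMulCommClass A B K),
      (∀ (r : R) (x : K), algebraMap R A r • x = algebraMap R B r • x) ∧
      ∃ η : ∀ M : ModuleCat.{u} A, (K ⊗[A] M) ≃ₗ[B] F.obj M,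
        ∀ (M N : ModuleCat.{u} A) (f : M ⟶ N) (x : K ⊗[A] M),
          η N (LinearMap.lTensor K f.hom x) = F.map f (η M x)) ∧
    (∀ t t' : F ⟶ F', t.app (ModuleCat.of A A) = t'.app (ModuleCat.of A A) → t = t') ∧
    (∀ φ : F.obj (ModuleCat.of A A) ⟶ F'.obj (ModuleCat.of A A),
      (∃ t : F ⟶ F', t.app (ModuleCat.of A A) = φ) ↔
        ∀ a : A, F.map (a • 𝟙 (ModuleCat.of A A)) ≫ φ = φ ≫ F'.map (a • 𝟙 (ModuleCat.of A A))) := by
  have hspid : ∀ a : A, sp (M := ModuleCat.of A A) a = a • 𝟙 (ModuleCat.of A A) := fun a => by
    ext; simp [sp]
  refine ⟨⟨K F, inferInstance, inferInstance, inferInstance, inferInstance, fun r x => ?_, equiv F,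
    fun M N f x => eta_naturality F f x⟩, fun t t' h => ?_, fun φ => ⟨?_, fun h => ?_⟩⟩
  · show toK F ((F.map (sp (M := ModuleCat.of A A) (algebraMap R A r))).hom x) = _
    have e := F.map_smul r (𝟙 (ModuleCat.of A A))
    rw [F.map_id] at e
    refine (congrArg (fun f => toK F (ModuleCat.Hom.hom f x)) ((congrArg F.map ?_).trans e)).trans rfl
    apply ModuleCat.hom_ext
    apply LinearMap.ext
    intro a
    exact mul_comm (a : A) (algebraMap R A r)
  · ext M : 2
    apply ModuleCat.hom_ext
    apply LinearMap.ext
    intro y
    obtain ⟨x, rfl⟩ := (eta_bijective F M).2 y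
    induction x using TensorProduct.induction_on with
    | zero => simp
    | tmul k m =>
      have e1 := ConcreteCategory.congr_hom (t.naturality (sp m)) k
      have e2 := ConcreteCategory.congr_hom (t'.naturality (sp m)) k
      rw [h] at e1
      exact e1.trans e2.symm
    | add x y hx hy => simp only [map_add, hx, hy]
  · rintro ⟨t, rfl⟩ a
    exact t.naturality _
  · let φA : K F →ₗ[A] K F' :=
      { toFun := fun k => toK F' (φ.hom k)
        map_add' := fun k k' => map_add φ.hom k k'
        map_smul' := fun a k => by
          show toK F' (φ.hom ((F.map (sp (M := ModuleCat.of A A) a)).hom k)) =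
            toK F' ((F'.map (sp (M := ModuleCat.of A A) a)).hom (φ.hom k))
          rw [hspid]
          exact congrArg (toK F') (ConcreteCategory.congr_hom (h a) k) }
    let T (M : ModuleCat.{u} A) : F.obj M → F'.obj M := fun y =>
      eta F' M (LinearMap.rTensor M φA ((equiv F M).symm y))
    have hT : ∀ (M : ModuleCat.{u} A) (m : M) (k : K F), T M (ev F m k) = ev F' m (φA k) := fun M m k => by
      show eta F' M (LinearMap.rTensor M φA ((equiv F M).symm (ev F m k))) = _
      rw [show (equiv F M).symm (ev F m k) = k ⊗ₜ[A] m from (equiv F M).injective (by simp; rfl),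
        LinearMap.rTensor_tmul, eta_tmul]
    let tM (M : ModuleCat.{u} A) : F.obj M ⟶ F'.obj M := ModuleCat.ofHom
      { toFun := T M
        map_add' := fun y y' => by simp [T]
        map_smul' := fun b y => by
          have hl : ∀ z : K F ⊗[A] M, LinearMap.rTensor M φA (b • z) = b • LinearMap.rTensor M φA z := by
            intro z
            induction z using TensorProduct.induction_on with
            | zero => simp
            | tmul k m =>
              rw [TensorProduct.smul_tmul', LinearMap.rTensor_tmul, LinearMap.rTensor_tmul, TensorProduct.smul_tmul']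
              exact congrArg (· ⊗ₜ[A] m) (map_smul φ.hom b k)
            | add z z' hz hz' => simp only [smul_add, map_add, hz, hz']
          show eta F' M (LinearMap.rTensor M φA ((equiv F M).symm (b • y))) = b • T M y
          rw [map_smul (equiv F M).symm, hl, map_smul] }
    refine ⟨{ app := tM, naturality := fun M N f => ?_ }, ?_⟩
    · apply ModuleCat.hom_ext
      apply LinearMap.ext
      intro y
      obtain ⟨x, rfl⟩ := (eta_bijective F M).2 y
      induction x using TensorProduct.induction_on with
      | zero => simp
      | tmul k m =>
        show T N (F.map f (ev F m k)) = F'.map f (T M (ev F m k))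
        rw [map_ev, hT, hT, map_ev]
      | add x y hx hy => simp only [map_add, hx, hy]
    · apply ModuleCat.hom_ext
      apply LinearMap.ext
      intro y
      have := hT (ModuleCat.of A A) (1 : A) y
      rw [ev_one, ev_one] at this
      exact this


end Groth.Agent.S6769
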