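import Groth.Statements.S6770
import Groth.Agent.Lib.BeilCpt9.Test
import Groth.Agent.Lib.BeilCpt9.Beil

set_option autoImplicit false
universe u
open CategoryTheory
attribute [local instance] HasDerivedCategory.standard
open DEquiv

namespace Groth.Agent.S6770

open scoped ModuleCat.Algebra
open CategoryTheory.Limits BeilCpt9

theorem finite_iff {k : Type u} [Field k] {R : Type u} [Ring R] [Algebra k R] (M : ModuleCat.{u} R) :
    Module.Finite k (RestrictScalars k R M) ↔ Module.Finite k M := Iff.rfl

theorem finite_of_iso {k : Type u} [Field k] {R : Type u} [Ring R] [Algebra k R] {M N : ModuleCat.{u} R}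
    (e : M ≅ N) (h : Module.Finite k M) : Module.Finite k N :=
  Module.Finite.equiv (e.toLinearEquiv.restrictScalars k)

/-- Finitely dimensional modules. -/
def FinDim (k : Type u) [Field k] (R : Type u) [Ring R] [Algebra k R] : ObjectProperty (ModuleCat.{u} R) :=
  fun M => Module.Finite k M

instance (k : Type u) [Field k] (R : Type u) [Ring R] [Algebra k R] : (FinDim k R).IsClosedUnderIsomorphisms :=
  ⟨fun e h => finite_of_iso e h⟩

theorem main {k : Type u} [Field k] {R : Type u} [Ring R] [Algebra k R] [Module.Finite k R]
    (hR : ∀ (M : ModuleCat.{u} R), Module.Finite k M → ∀ d : ℤ,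
      FinSupp.{u} ((DerivedCategory.singleFunctor (ModuleCat.{u} R) d).obj M))
    (K : DerivedCategory (ModuleCat.{u} R)) :
    (∀ J : Type u, PreservesColimitsOfShape (Discrete J) (preadditiveCoyoneda.obj (Opposite.op K))) ↔
      ((∀ i : ℤ, Module.Finite k (RestrictScalars k R ((DerivedCategory.homologyFunctor (ModuleCat.{u} R) i).obj K))) ∧
        Set.Finite {i : ℤ | Nontrivial ((DerivedCategory.homologyFunctor (ModuleCat.{u} R) i).obj K)}) := by
  constructor
  · intro h
    have hK := finSupp_of_preserves h
    let L := DerivedCategory.Q.objPreimage K
    let e : DerivedCategory.Q.obj L ≅ K := DerivedCategory.Q.objObjPreimageIso K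
    have hL := finSupp_of_iso e hK
    let f : ∀ i : ℤ, (DerivedCategory.homologyFunctor (ModuleCat.{u} R) i).obj K ≅ L.homology i := fun i =>
      ((DerivedCategory.homologyFunctor (ModuleCat.{u} R) i).mapIso e).symm ≪≫
        (DerivedCategory.homologyFunctorFactors (ModuleCat.{u} R) i).app L
    refine ⟨fun i => (finite_iff _).2 (finite_of_iso (f i).symm (finite_homology L hL i)), ?_⟩
    refine (finite_nontrivial_homology L hL k).subset fun i (hi : Nontrivial _) => ?_
    exact (f i).toLinearEquiv.toEquiv.nontrivial_congr.1 hi
  · rintro ⟨h1, h2⟩ J
    obtain ⟨a, ha⟩ := h2.bddBelow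
    obtain ⟨b, hb⟩ := h2.bddAbove
    have hz : ∀ i, i < a ∨ b < i → IsZero ((DerivedCategory.homologyFunctor (ModuleCat.{u} R) i).obj K) := fun i hi => by
      haveI : Subsingleton ((DerivedCategory.homologyFunctor (ModuleCat.{u} R) i).obj K) :=
        not_nontrivial_iff_subsingleton.1 fun hn => by
          rcases hi with hi | hi
          · exact absurd (ha hn) (by omega)
          · exact absurd (hb hn) (by omega)
      exact ModuleCat.isZero_of_subsingleton _
    haveI : K.IsGE a := (K.isGE_iff a).2 fun i hi => hz i (Or.inl hi)
    haveI : K.IsLE b := (K.isLE_iff b).2 fun i hi => hz i (Or.inr hi)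
    exact preserves_of_finSupp
      (finSupp_single_of_forall (P := FinDim k R) hR K a b fun i => (finite_iff _).1 (h1 i)) J


open CategoryTheory.Limits Opposite in
/-- Let k be a field, n ≥ 0, and R the Beilinson algebra of P^n_k: the k-algebra of upper triangular
(n+1) × (n+1) matrices whose (i, j) entry is a homogeneous polynomial of degree j - i in k[X_0, …,
X_n]. For an object K of the derived category D(R) of R-modules the following are equivalent: K is a
compact object (the functor Hom(K, -) with values in abelian groups commutes with arbitrary direct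
sums indexed by small types), and the cohomology modules H^i(K) are finite-dimensional k-vector
spaces for all i ∈ ℤ, nonzero for only finitely many i. (Left R-modules are used; the published
statement is for right modules, i.e. left modules over the opposite algebra, which is isomorphic to
R by reversing the order of the indices and transposing, and the printed proof applies verbatim to
either side.) -/
theorem result
    (k : Type u) [Field k] (n : ℕ)
    (K : DerivedCategory (ModuleCat.{u} (DEquiv.beilinsonAlg k n))) :
    (∀ J : Type u, PreservesColimitsOfShape (Discrete J) (preadditiveCoyoneda.obj (op K))) ↔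
      ((∀ i : ℤ, Module.Finite k (RestrictScalars k (DEquiv.beilinsonAlg k n) ((DerivedCategory.homologyFunctor (ModuleCat.{u} (DEquiv.beilinsonAlg k n)) i).obj K))) ∧
        Set.Finite {i : ℤ | Nontrivial ((DerivedCategory.homologyFunctor (ModuleCat.{u} (DEquiv.beilinsonAlg k n)) i).obj K)}) := by
  exact main (fun M h d => finSupp_single M h d) K

end Groth.Agent.S6770
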