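import Groth.Statements.S6771
import Groth.Agent.Lib.FlatKer2.Basic
import Groth.Agent.Lib.CohMop.HomCoh
import Groth.Agent.Lib.KFlat.LTor
import Groth.Agent.Lib.QCoh8.Main
import Groth.Agent.Lib.FiltPush9.Main
import Groth.Agent.Lib.RFPlus.Acyclic
import Groth.Agent.Lib.EtShriek24.Coprod

set_option autoImplicit false
set_option maxHeartbeats 1000000
set_option backward.isDefEq.respectTransparency false
set_option linter.style.haveILetI false
universe u
open CategoryTheory AlgebraicGeometry
attribute [local instance] HasDerivedCategory.standard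
open FunMor

namespace Groth.Agent.S6771

/-- The direction from kernels to functors: let R be a ring and X, Y schemes over R with X quasi-compact
with affine diagonal, and let K be a quasi-coherent O_{X ×_R Y}-module which is flat over X and such
that R^q pr_{2,*}(pr_1^* M ⊗ K) = 0 for every quasi-coherent O_X-module M and every q > 0 (right
derived functors of pr_{2,*}; injective resolutions carried as a binder). Then the functor F_K : M ↦
pr_{2,*}(pr_1^* M ⊗ K), from quasi-coherent O_X-modules to O_Y-modules, is exact (preserves finite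
limits and finite colimits) and commutes with arbitrary direct sums. -/
theorem result
    (R : Type u) [CommRing R] (X Y : Scheme.{u}) [X.Over (Spec (.of R))] [Y.Over (Spec (.of R))] [CompactSpace X] [IsAffineHom (Limits.pullback.diagonal (X ↘ Spec (.of R)))]
    [HasInjectiveResolutions (Limits.pullback (X ↘ Spec (.of R)) (Y ↘ Spec (.of R))).Modules]
    (K : (Limits.pullback (X ↘ Spec (.of R)) (Y ↘ Spec (.of R))).Modules) (hK : Coh.IsQCoh K) (hKf : FlatMod.IsFlatOver (Limits.pullback.fst (X ↘ Spec (.of R)) (Y ↘ Spec (.of R))) K)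
    (hKa : ∀ (M : X.Modules), Coh.IsQCoh M → ∀ q : ℕ, 0 < q →
      Limits.IsZero ((Coh.Rpush (Limits.pullback.snd (X ↘ Spec (.of R)) (Y ↘ Spec (.of R))) q).obj ((DCoh.tensorRightMod K).obj ((Scheme.Modules.pullback (Limits.pullback.fst (X ↘ Spec (.of R)) (Y ↘ Spec (.of R)))).obj M)))) :
    Limits.PreservesFiniteLimits (ObjectProperty.ι (QCohCat.isQCoh X) ⋙ Scheme.Modules.pullback (Limits.pullback.fst (X ↘ Spec (.of R)) (Y ↘ Spec (.of R))) ⋙ DCoh.tensorRightMod K ⋙ Coh.push (Limits.pullback.snd (X ↘ Spec (.of R)) (Y ↘ Spec (.of R)))) ∧ Limits.PreservesFiniteColimits (ObjectProperty.ι (QCohCat.isQCoh X) ⋙ Scheme.Modules.pullback (Limits.pullback.fst (X ↘ Spec (.of R)) (Y ↘ Spec (.of R))) ⋙ DCoh.tensorRightMod K ⋙ Coh.push (Limits.pullback.snd (X ↘ Spec (.of R)) (Y ↘ Spec (.of R)))) ∧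
      ∀ J : Type u, Limits.PreservesColimitsOfShape (Discrete J) (ObjectProperty.ι (QCohCat.isQCoh X) ⋙ Scheme.Modules.pullback (Limits.pullback.fst (X ↘ Spec (.of R)) (Y ↘ Spec (.of R))) ⋙ DCoh.tensorRightMod K ⋙ Coh.push (Limits.pullback.snd (X ↘ Spec (.of R)) (Y ↘ Spec (.of R)))) := by
  let p := Limits.pullback.fst (X ↘ Spec (.of R)) (Y ↘ Spec (.of R))
  let q := Limits.pullback.snd (X ↘ Spec (.of R)) (Y ↘ Spec (.of R))
  haveI : QuasiCompact (X ↘ Spec (.of R)) := (quasiCompact_iff_compactSpace _).2 inferInstance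
  haveI : QuasiSeparated (X ↘ Spec (.of R)) := ⟨inferInstance⟩
  haveI : QuasiCompact q := MorphismProperty.pullback_snd _ _ inferInstance
  haveI : QuasiSeparated q := MorphismProperty.pullback_snd _ _ inferInstance
  haveI := Groth.Agent.QCoh8.isLeftAdjoint_ι X
  haveI : (Scheme.Modules.pullback p).IsLeftAdjoint :=
    (Scheme.Modules.pullbackPushforwardAdjunction p).isLeftAdjoint
  haveI : (DCoh.tensorRightMod K).IsLeftAdjoint := by
    haveI := Groth.Agent.CohMop.isLeftAdjoint_tenR K
    exact Functor.isLeftAdjoint_of_iso (Groth.Agent.KFlat.Sch.tensorRightModIso K)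
  let G := ObjectProperty.ι (QCohCat.isQCoh X) ⋙ Scheme.Modules.pullback p ⋙ DCoh.tensorRightMod K
  haveI : G.Additive := Functor.additive_of_preserves_binary_products _
  haveI : Limits.PreservesFiniteLimits (Coh.push q) :=
    haveI : Limits.PreservesLimitsOfSize.{0, 0} (Coh.push q) :=
      (Scheme.Modules.pullbackPushforwardAdjunction q).rightAdjoint_preservesLimits
    Limits.PreservesLimitsOfSize.preservesFiniteLimits _
  haveI : EnoughInjectives (Limits.pullback (X ↘ Spec (.of R)) (Y ↘ Spec (.of R))).Modules := inferInstance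
  have key : ∀ (T : ShortComplex (QCohCat.QCoh X)), T.ShortExact → (T.map (G ⋙ Coh.push q)).ShortExact := by
    intro T hT
    obtain ⟨he, hepi⟩ := (Functor.preservesFiniteColimits_iff_forall_exact_map_and_epi G).1 inferInstance T hT
    have hm : Mono (T.map (ObjectProperty.ι (QCohCat.isQCoh X))).f := (hT.map_of_exact _).mono_f
    have hmono : Mono (T.map G).f := @Groth.Agent.FlatKer2.mono_G_map _ _ p K hKf _ _ _ hm
    have hS : (T.map G).ShortExact := ShortComplex.ShortExact.mk' he hmono hepi
    exact Groth.Agent.RFPlus.shortExact_map_of_isZero (Coh.push q) (T.map G) hS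
      (hKa T.X₁.obj T.X₁.property 1 one_pos)
  have hl : Limits.PreservesFiniteLimits (G ⋙ Coh.push q) :=
    (Functor.preservesFiniteLimits_iff_forall_exact_map_and_mono _).2 fun T hT => ⟨(key T hT).exact, (key T hT).mono_f⟩
  haveI hr : Limits.PreservesFiniteColimits (G ⋙ Coh.push q) :=
    (Functor.preservesFiniteColimits_iff_forall_exact_map_and_epi _).2 fun T hT => ⟨(key T hT).exact, (key T hT).epi_g⟩
  refine ⟨hl, hr, fun J => ?_⟩
  haveI : Limits.PreservesFilteredColimitsOfSize.{u, u} (G ⋙ Coh.push q) := ⟨fun I _ _ => by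
    haveI := Groth.Agent.FiltPush9.preservesColimitsOfShape_pushforward q (J := I)
    infer_instance⟩
  exact Groth.Agent.EtShriek24.preservesCoproducts_of_finite_and_filtered (G ⋙ Coh.push q) J

end Groth.Agent.S6771
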