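import Groth.Statements.S6772
import Groth.Agent.Lib.CohMop.HomCoh
import Groth.Agent.Lib.KFlat.LTor
import Groth.Agent.Lib.StQC14.FinPushGen
import Groth.Agent.Lib.QCoh8.Main
import Groth.Agent.Lib.FiltPush9.Main
import Groth.Agent.Lib.TensorMod.QCohTensor
import Groth.Agent.Lib.EtShriek24.Coprod
import Groth.Agent.Lib.ModM1.Pull

set_option autoImplicit false
set_option linter.style.haveILetI false
set_option maxHeartbeats 1000000
set_option backward.isDefEq.respectTransparency false
universe u
open CategoryTheory AlgebraicGeometry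
attribute [local instance] HasDerivedCategory.standard
open FunMor

namespace Groth.Agent.S6772

/-- The direction from kernels to functors: let R be a ring and X, Y schemes over R with X affine, and
let K be a quasi-coherent O_{X ×_R Y}-module. Then the functor F_K : M ↦ pr_{2,*}(pr_1^* M ⊗ K),
from quasi-coherent O_X-modules to O_Y-modules, is right exact (preserves finite colimits) and
commutes with arbitrary direct sums. (pr_2 is affine, so pr_{2,*} is exact on quasi-coherent
modules.) -/
theorem result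
    (R : Type u) [CommRing R] (X Y : Scheme.{u}) [X.Over (Spec (.of R))] [Y.Over (Spec (.of R))] [IsAffine X]
    (K : (Limits.pullback (X ↘ Spec (.of R)) (Y ↘ Spec (.of R))).Modules) (hK : Coh.IsQCoh K) :
    Limits.PreservesFiniteColimits (ObjectProperty.ι (QCohCat.isQCoh X) ⋙ Scheme.Modules.pullback (Limits.pullback.fst (X ↘ Spec (.of R)) (Y ↘ Spec (.of R))) ⋙ DCoh.tensorRightMod K ⋙ Coh.push (Limits.pullback.snd (X ↘ Spec (.of R)) (Y ↘ Spec (.of R)))) ∧
      ∀ J : Type u, Limits.PreservesColimitsOfShape (Discrete J) (ObjectProperty.ι (QCohCat.isQCoh X) ⋙ Scheme.Modules.pullback (Limits.pullback.fst (X ↘ Spec (.of R)) (Y ↘ Spec (.of R))) ⋙ DCoh.tensorRightMod K ⋙ Coh.push (Limits.pullback.snd (X ↘ Spec (.of R)) (Y ↘ Spec (.of R)))) := by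
  let p := Limits.pullback.fst (X ↘ Spec (.of R)) (Y ↘ Spec (.of R))
  let q := Limits.pullback.snd (X ↘ Spec (.of R)) (Y ↘ Spec (.of R))
  haveI : IsAffineHom (X ↘ Spec (.of R)) := inferInstance
  haveI : IsAffineHom q := MorphismProperty.pullback_snd _ _ inferInstance
  haveI := Groth.Agent.QCoh8.isLeftAdjoint_ι X
  haveI : (Scheme.Modules.pullback p).IsLeftAdjoint :=
    (Scheme.Modules.pullbackPushforwardAdjunction p).isLeftAdjoint
  haveI : (DCoh.tensorRightMod K).IsLeftAdjoint := by
    haveI := Groth.Agent.CohMop.isLeftAdjoint_tenR K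
    exact Functor.isLeftAdjoint_of_iso (Groth.Agent.KFlat.Sch.tensorRightModIso K)
  let G := ObjectProperty.ι (QCohCat.isQCoh X) ⋙ Scheme.Modules.pullback p ⋙ DCoh.tensorRightMod K
  haveI : G.Additive := Functor.additive_of_preserves_binary_products _
  have hG : ∀ M, Coh.IsQCoh (G.obj M) := fun M =>
    Groth.Agent.M2.isQCoh_tensor (Groth.Agent.M1.isQCoh_pullback p M.property) hK
  haveI hF : Limits.PreservesFiniteColimits (G ⋙ Coh.push q) := by
    refine (Functor.preservesFiniteColimits_iff_forall_exact_map_and_epi _).2 fun T hT => ?_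
    obtain ⟨he, hepi⟩ := (Functor.preservesFiniteColimits_iff_forall_exact_map_and_epi G).1 inferInstance T hT
    have : Epi (T.map G).g := hepi
    refine ⟨?_, Groth.Agent.StQC14.epi_pushforward_map q (hG _) (hG _) (T.map G).g⟩
    let S := T.map G
    let S' := ShortComplex.mk (Limits.kernel.ι S.g) S.g (Limits.kernel.condition _)
    let φ : S ⟶ S' := ShortComplex.homMk (Limits.kernel.lift S.g S.f S.zero) (𝟙 _) (𝟙 _)
      ((Limits.kernel.lift_ι _ _ _).trans (Category.comp_id _).symm) ((Category.id_comp _).trans (Category.comp_id _).symm)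
    let ψ := (Coh.push q).mapShortComplex.map φ
    haveI : Epi φ.τ₁ := S.exact_iff_epi_kernel_lift.1 he
    haveI : Epi ψ.τ₁ := Groth.Agent.StQC14.epi_pushforward_map q (hG _)
      (Groth.Agent.M1.isQCoh_kernel (hG _) (hG _) S.g) φ.τ₁
    haveI : IsIso ψ.τ₂ := (Coh.push q).map_isIso (𝟙 S.X₂)
    haveI : Mono ψ.τ₃ := (inferInstance : Mono ((Coh.push q).map (𝟙 S.X₃)))
    refine (ShortComplex.exact_iff_of_epi_of_isIso_of_mono ψ).2 ?_
    exact ShortComplex.exact_of_f_is_kernel _
      (Limits.isLimitForkMapOfIsLimit' (Coh.push q) (Limits.kernel.condition S.g) (Limits.kernelIsKernel S.g))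
  refine ⟨hF, fun J => ?_⟩
  haveI : Limits.PreservesFilteredColimitsOfSize.{u, u} (G ⋙ Coh.push q) := ⟨fun I _ _ => by
    haveI := Groth.Agent.FiltPush9.preservesColimitsOfShape_pushforward q (J := I)
    infer_instance⟩
  exact Groth.Agent.EtShriek24.preservesCoproducts_of_finite_and_filtered (G ⋙ Coh.push q) J

end Groth.Agent.S6772
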