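import Groth.Statements.S6774

set_option autoImplicit false
open CategoryTheory
universe v u v' u'
open DeltaF

namespace Groth.Agent.S6774


/-- Two universal cohomological delta-functors (indexed by `ℕ`) with isomorphic degree-`0` functors are
isomorphic as delta-functors, by a unique isomorphism extending the given one in degree `0`. -/
theorem result {A : Type u} [Category.{v} A] [Abelian A] {B : Type u'} [Category.{v'} B] [Abelian B] (T T' : DeltaF.CohDeltaFunctor A B ℕ) (hT : T.IsUniversal) (hT' : T'.IsUniversal) (e : T.F 0 ≅ T'.F 0) : ∃! φ : T ≅ T', φ.hom.app 0 = e.hom := by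
  obtain ⟨τ, hτ, -⟩ := hT T' e.hom
  obtain ⟨σ, hσ, -⟩ := hT' T e.inv
  obtain ⟨i, -, hi⟩ := hT T (𝟙 _)
  obtain ⟨i', -, hi'⟩ := hT' T' (𝟙 _)
  have h1 : τ ≫ σ = 𝟙 T := (hi _ (by show (τ ≫ σ).app 0 = 𝟙 _; simp [hτ, hσ])).trans (hi _ (by simp)).symm
  have h2 : σ ≫ τ = 𝟙 T' := (hi' _ (by show (σ ≫ τ).app 0 = 𝟙 _; simp [hτ, hσ])).trans (hi' _ (by simp)).symm
  refine ⟨⟨τ, σ, h1, h2⟩, hτ, fun φ hφ => ?_⟩
  obtain ⟨j, -, hj⟩ := hT T' e.hom
  exact Iso.ext ((hj _ hφ).trans (hj _ hτ).symm)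


end Groth.Agent.S6774
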