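import Groth.Statements.S6775
import Mathlib.CategoryTheory.Abelian.CommSq

set_option autoImplicit false
open CategoryTheory CategoryTheory.Limits
universe v u
open CategoryTheory CategoryTheory.Abelian

namespace Groth.Agent.S6775


/-- In an abelian category a cartesian square whose bottom arrow `k` is an epimorphism is also
cocartesian, and the arrow `f` opposite to `k` is an epimorphism. -/
theorem result {A : Type u} [Category.{v} A] [Abelian A] {w x y z : A} (f : w ⟶ y) (g : w ⟶ x) (h : y ⟶ z) (k : x ⟶ z) (sq : IsPullback f g h k) [Epi k] : IsPushout f g h k ∧ Epi f := by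
  have : Epi f := by
    have e : f = sq.isoPullback.hom ≫ pullback.fst h k := (sq.isoPullback_hom_fst).symm
    rw [e]; infer_instance
  refine ⟨?_, ‹_›⟩
  let φ : y ⊞ x ⟶ y ⊞ x := biprod.map (𝟙 y) (-𝟙 x)
  have hφ : φ ≫ φ = 𝟙 _ := by ext <;> simp [φ]
  have hex : sq.toCommSq.shortComplex.Exact :=
    ShortComplex.exact_of_iso
      (ShortComplex.isoMk (S₁ := sq.toCommSq.shortComplex') (S₂ := sq.toCommSq.shortComplex) (Iso.refl _) ⟨φ, φ, hφ, hφ⟩ (Iso.refl _) (show 𝟙 _ ≫ biprod.lift f (-g) = biprod.lift f g ≫ φ by ext <;> simp [φ]) (show φ ≫ biprod.desc h k = biprod.desc h (-k) ≫ 𝟙 _ by ext <;> simp [φ]))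
      sq.exact_shortComplex'
  have : Epi sq.toCommSq.shortComplex.g :=
    (epi_of_epi_fac (biprod.inr_desc h k) : Epi (biprod.desc h k))
  exact ⟨sq.toCommSq, ⟨sq.toCommSq.isColimitEquivIsColimitCokernelCofork.symm hex.gIsCokernel⟩⟩


end Groth.Agent.S6775
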