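import Groth.Statements.S6778
import Mathlib.CategoryTheory.Abelian.Refinements

set_option autoImplicit false
open CategoryTheory CategoryTheory.Limits
universe v u
open CategoryTheory CategoryTheory.Abelian

namespace Groth.Agent.S6778


/-- For a commutative diagram with rows `x ⟶ y ⟶ z` and `u ⟶ v ⟶ w` in an abelian category, if the
second row is exact and the second map `g` of the first row is an epimorphism, then the induced
sequence of cokernels of the vertical maps is exact. -/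
theorem result {A : Type u} [Category.{v} A] [Abelian A] {x y z u' v' w : A} (f : x ⟶ y) (g : y ⟶ z) (k : u' ⟶ v') (l : v' ⟶ w) (α : x ⟶ u') (β : y ⟶ v') (γ : z ⟶ w) (h₁ : α ≫ k = f ≫ β) (h₂ : β ≫ l = g ≫ γ) (hkl : k ≫ l = 0) (hex : (ShortComplex.mk k l hkl).Exact) [Epi g] : ∃ hc : cokernel.map α β f k h₁ ≫ cokernel.map β γ g l h₂ = 0, (ShortComplex.mk _ _ hc).Exact := by
  have hc : cokernel.map α β f k h₁ ≫ cokernel.map β γ g l h₂ = 0 := by
    rw [← cancel_epi (cokernel.π α)]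
    simp [reassoc_of% hkl]
  refine ⟨hc, (ShortComplex.exact_iff_exact_up_to_refinements _).2 fun T t ht => ?_⟩
  obtain ⟨T₁, π₁, hπ₁, v₁, hv₁⟩ := surjective_up_to_refinements_of_epi (cokernel.π β) t
  have hl : (v₁ ≫ l) ≫ cokernel.π γ = 0 := by
    have := π₁ ≫= ht
    simp only [comp_zero] at this
    rw [reassoc_of% hv₁] at this
    simpa using this
  obtain ⟨T₂, π₂, hπ₂, z₂, hz₂⟩ := (ShortComplex.exact_of_g_is_cokernel
    (ShortComplex.mk _ _ (cokernel.condition γ)) (cokernelIsCokernel γ)).exact_up_to_refinements (v₁ ≫ l) hl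
  dsimp at hz₂
  obtain ⟨T₃, π₃, hπ₃, y₃, hy₃⟩ := surjective_up_to_refinements_of_epi g z₂
  have h0 : (π₃ ≫ π₂ ≫ v₁ - y₃ ≫ β) ≫ l = 0 := by
    rw [Preadditive.sub_comp, Category.assoc, Category.assoc, Category.assoc, h₂, ← Category.assoc y₃,
      ← hy₃, Category.assoc, ← hz₂, sub_self]
  obtain ⟨T₄, π₄, hπ₄, u₄, hu₄⟩ := hex.exact_up_to_refinements _ h0
  dsimp at hu₄
  refine ⟨T₄, π₄ ≫ π₃ ≫ π₂ ≫ π₁, inferInstance, u₄ ≫ cokernel.π α, ?_⟩
  have e := hu₄ =≫ cokernel.π β
  simp [Preadditive.sub_comp, Preadditive.comp_sub] at e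
  simp [hv₁, e]


end Groth.Agent.S6778
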