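import Groth.Statements.S6779
import Groth.Agent.Lib.SimpGrpH7.Moore

set_option autoImplicit false
open CategoryTheory
universe u
open SSet

namespace Groth.Agent.S6779

/-- The underlying simplicial set of a simplicial group is a Kan complex. -/
theorem result (X : SimplicialObject GrpCat.{u}) : SSet.KanComplex (X ⋙ forget GrpCat.{u}) := by
  letI gi : ∀ n : ℕ, Group ((X ⋙ forget GrpCat.{u} : SSet.{u}).obj (Opposite.op (SimplexCategory.mk n))) :=
    fun n => (X.obj (Opposite.op (SimplexCategory.mk n))).str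
  rw [SSet.KanComplex.iff]
  intro n i f hf
  obtain ⟨y, -, hy⟩ := Groth.Agent.SimpGrpH7.exists_filler (X ⋙ forget GrpCat.{u})
    (fun n j x y => map_mul (SimplicialObject.δ X j).hom x y)
    (fun n j x y => map_mul (SimplicialObject.σ X j).hom x y)
    (fun _ => ⊤) (fun _ _ _ _ => trivial) (fun _ _ _ _ => trivial) n i f hf (fun _ _ => trivial)
  refine ⟨SSet.yonedaEquiv.symm y, fun j hj => SSet.yonedaEquiv.injective ?_⟩
  rw [← Groth.Agent.SimpGrpH7.δ_yonedaEquiv, Equiv.apply_symm_apply]
  exact hy j hj

end Groth.Agent.S6779
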