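import Groth.Statements.S6782
import Groth.Agent.Lib.SSetH7.Cosk

set_option autoImplicit false
open CategoryTheory Opposite
universe u
open SSet

namespace Groth.Agent.S6782

/-- A map of `n`-coskeletal simplicial sets which is bijective on simplices of dimension `< n` and
surjective on `n`-simplices is a trivial Kan fibration. -/
theorem result {U V : SSet.{u}} (f : V ⟶ U) (n : ℕ) (h1 : ∀ i : ℕ, i < n → Function.Bijective (f.app (op (SimplexCategory.mk i)))) (h2 : Function.Surjective (f.app (op (SimplexCategory.mk n)))) [SimplicialObject.IsCoskeletal U n] [SimplicialObject.IsCoskeletal V n] : SSet.modelCategoryQuillen.I.rlp f := by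
  exact Groth.Agent.SSetH7.rlp_I f n h1 h2

end Groth.Agent.S6782
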