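import Groth.Statements.S6783
import Mathlib.AlgebraicTopology.SimplicialSet.Boundary
import Mathlib.CategoryTheory.Limits.Shapes.ConcreteCategory

set_option autoImplicit false
open CategoryTheory
universe u
open SSet

namespace Groth.Agent.S6783

/-- For a surjective map of sets `f : A → B`, the augmentation from the Čech nerve of `f` (with
`n`-simplices the `(n+1)`-fold fibre product of `A` over `B`) to the constant simplicial set `B` is
a trivial Kan fibration. -/
theorem result {A B : Type u} (f : A ⟶ B) (hf : Function.Surjective f) : SSet.modelCategoryQuillen.I.rlp (Arrow.mk f).augmentedCechNerve.hom := by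
  classical
  open Simplicial Opposite Limits in
  intro X Y i hi
  obtain ⟨n⟩ := hi
  refine ⟨fun {top bot} sq => ?_⟩
  let b : B := bot.app (op ⦋n⦌) (SSet.stdSimplex.objEquiv.symm (𝟙 _))
  have hb : ∀ (m : SimplexCategoryᵒᵖ) (y : (Δ[n] : SSet.{u}).obj m), bot.app m y = b := by
    intro m y
    have := NatTrans.naturality_apply bot (SSet.stdSimplex.objEquiv y).op (SSet.stdSimplex.objEquiv.symm (𝟙 ⦋n⦌))
    rw [SSet.stdSimplex.map_objEquiv_symm] at this
    simpa [b] using this
  let π0 : ∀ {m : SimplexCategoryᵒᵖ}, (Arrow.mk f).cechNerve.obj m → Fin (m.unop.len + 1) → A := fun z j =>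
    WidePullback.π (fun _ => (Arrow.mk f).hom) j z
  have hmap : ∀ {m m' : SimplexCategoryᵒᵖ} (g : m ⟶ m') (w : (Arrow.mk f).cechNerve.obj m) (k : Fin (m'.unop.len + 1)),
      π0 ((Arrow.mk f).cechNerve.map g w) k = π0 w (g.unop.toOrderHom k) := fun {m m'} g w k => by
    show ((Arrow.mk f).cechNerve.map g ≫ WidePullback.π (fun _ : Fin (m'.unop.len + 1) => (Arrow.mk f).hom) k) w = _
    rw [Arrow.cechNerve_map, WidePullback.lift_π]
  have hmapb : ∀ {m m' : SimplexCategoryᵒᵖ} (g : m ⟶ m') (w : (Arrow.mk f).cechNerve.obj m),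
      WidePullback.base (fun _ : Fin (m'.unop.len + 1) => (Arrow.mk f).hom) ((Arrow.mk f).cechNerve.map g w) =
        WidePullback.base (fun _ : Fin (m.unop.len + 1) => (Arrow.mk f).hom) w := fun {m m'} g w => by
    show ((Arrow.mk f).cechNerve.map g ≫ WidePullback.base (fun _ : Fin (m'.unop.len + 1) => (Arrow.mk f).hom)) w = _
    rw [Arrow.cechNerve_map, WidePullback.lift_base]
  have hbase : ∀ (m : SimplexCategoryᵒᵖ) (x : (∂Δ[n] : SSet.{u}).obj m),
      WidePullback.base (fun _ : Fin (m.unop.len + 1) => (Arrow.mk f).hom) (top.app m x) = b := by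
    intro m x
    have := ConcreteCategory.congr_hom (NatTrans.congr_app sq.w m) x
    exact this.trans (hb m _)
  obtain ⟨a, ha, hav⟩ : ∃ a : Fin (n + 1) → A, (∀ j, f (a j) = b) ∧
      ∀ (m : SimplexCategoryᵒᵖ) (x : (∂Δ[n] : SSet.{u}).obj m) (j : Fin (m.unop.len + 1)),
        π0 (top.app m x) j = a (SSet.stdSimplex.asOrderHom x.1 j) := by
    rcases Nat.eq_zero_or_pos n with rfl | hpos
    · obtain ⟨a, ha⟩ := hf b
      exact ⟨fun _ => a, fun _ => ha, fun m x => absurd x.2 (by simp [SSet.boundary_zero])⟩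
    · let v : Fin (n + 1) → (∂Δ[n] : SSet.{u}).obj (op ⦋0⦌) := fun j =>
        ⟨SSet.stdSimplex.obj₀Equiv.symm j, by rw [SSet.boundary_obj_eq_univ 0 n hpos]; exact Set.mem_univ _⟩
      refine ⟨fun j => π0 (top.app _ (v j)) 0, fun j => ?_, fun m x j => ?_⟩
      · rw [← hbase _ (v j)]
        exact ConcreteCategory.congr_hom (WidePullback.π_arrow (fun _ : Fin (0 + 1) => (Arrow.mk f).hom) 0) _
      · let g : ⦋0⦌ ⟶ m.unop := SimplexCategory.const _ m.unop j
        have hx : (∂Δ[n] : SSet.{u}).map g.op x = v (SSet.stdSimplex.asOrderHom x.1 j) := by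
          apply Subtype.ext
          apply SSet.stdSimplex.ext
          intro k
          fin_cases k
          rfl
        have h1 := NatTrans.naturality_apply top g.op x
        rw [hx] at h1
        show π0 (top.app m x) j = π0 (top.app _ (v (SSet.stdSimplex.asOrderHom x.1 j))) 0
        rw [h1]
        exact (hmap g.op (top.app m x) (0 : Fin (0 + 1))).symm
  let z : (Arrow.mk f).cechNerve.obj (op ⦋n⦌) :=
    WidePullback.lift (objs := fun _ : Fin (n + 1) => A) (X := (PUnit.{u + 1} : Type u))
      (TypeCat.ofHom fun _ => b) (fun j => TypeCat.ofHom fun _ => a j) (fun j => by ext; exact ha j) PUnit.unit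
  have hz : ∀ j, π0 z j = a j := fun j =>
    ConcreteCategory.congr_hom (WidePullback.lift_π (fun _ : Fin (n + 1) => (Arrow.mk f).hom) _ _ _ j) PUnit.unit
  have hzb : WidePullback.base (fun _ : Fin (n + 1) => (Arrow.mk f).hom) z = b :=
    ConcreteCategory.congr_hom (WidePullback.lift_base (fun _ : Fin (n + 1) => (Arrow.mk f).hom) _ _ _) PUnit.unit
  refine CommSq.HasLift.mk' ⟨SSet.yonedaEquiv.symm z, ?_, ?_⟩
  · ext m x
    apply Concrete.widePullback_ext (fun _ : Fin (m.unop.len + 1) => (Arrow.mk f).hom)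
    · refine Eq.trans ?_ (hbase m x).symm
      exact (hmapb (SSet.stdSimplex.objEquiv x.1).op z).trans hzb
    · intro j
      refine Eq.trans ?_ (hav m x j).symm
      exact (hmap (SSet.stdSimplex.objEquiv x.1).op z j).trans (hz _)
  · ext m y
    refine Eq.trans ?_ (hb m y).symm
    exact (hmapb (SSet.stdSimplex.objEquiv y).op z).trans hzb

end Groth.Agent.S6783
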