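import Groth.Statements.S6784
import Groth.Agent.Lib.SSetH7.Cosk

set_option autoImplicit false
open CategoryTheory
universe u
open SSet

namespace Groth.Agent.S6784

/-- The standard simplex `Δ[n]` is `1`-coskeletal, i.e. it is the right Kan extension of its
`1`-truncation. -/
theorem result (n : ℕ) : SimplicialObject.IsCoskeletal (SSet.stdSimplex.{u}.obj (SimplexCategory.mk n)) 1 := by
  open Simplicial Opposite in
    let ιn := (SimplexCategory.Truncated.inclusion 1).op
    let X : SSet.{u} := SSet.stdSimplex.obj (SimplexCategory.mk n)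
    refine ⟨⟨⟨CategoryTheory.Limits.IsTerminal.ofUniqueHom (fun E => ?_) (fun E φ => ?_)⟩⟩⟩
    · let τ : ιn ⋙ E.left ⟶ ιn ⋙ X := E.hom
      let t₀ : E.left _⦋0⦌ → Δ[n] _⦋0⦌ := fun v => τ.app (op ⟨⦋0⦌, by decide⟩) v
      let t₁ : E.left _⦋1⦌ → Δ[n] _⦋1⦌ := fun v => τ.app (op ⟨⦋1⦌, by decide⟩) v
      have ht : ∀ (e : E.left _⦋1⦌) (k : Fin 2),
          t₀ (E.left.map (SimplexCategory.const ⦋0⦌ ⦋1⦌ k).op e) 0 = t₁ e k := fun e k => by
        have h := NatTrans.naturality_apply τ
          (show (⟨⦋0⦌, by decide⟩ : SimplexCategory.Truncated 1) ⟶ ⟨⦋1⦌, by decide⟩ from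
            ObjectProperty.homMk (SimplexCategory.const ⦋0⦌ ⦋1⦌ k)).op e
        exact congrArg (fun s : Δ[n] _⦋0⦌ => s 0) h
      let vert : ∀ (m : ℕ), E.left _⦋m⦌ → Fin (m + 1) → Fin (n + 1) := fun m z k =>
        t₀ (E.left.map (SimplexCategory.const ⦋0⦌ ⦋m⦌ k).op z) 0
      have hmono : ∀ m z, Monotone (vert m z) := fun m z a b hab => by
        let β : ⦋1⦌ ⟶ ⦋m⦌ := SimplexCategory.mkHom ⟨![a, b], Fin.monotone_iff_le_succ.mpr fun i => by
          fin_cases i; exact hab⟩
        have hv : ∀ k : Fin 2, vert m z (β.toOrderHom k) = t₁ (E.left.map β.op z) k := fun k => by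
          rw [← ht]
          exact congrArg (fun w => t₀ w 0) (Functor.map_comp_apply E.left β.op (SimplexCategory.const ⦋0⦌ ⦋1⦌ k).op z)
        have h0 := hv 0
        have h1 := hv 1
        change vert m z a = _ at h0
        change vert m z b = _ at h1
        rw [h0, h1]
        exact SSet.stdSimplex.monotone_apply (t₁ (E.left.map β.op z)) (Fin.zero_le 1)
      let g : E.left ⟶ X :=
        { app := fun d => ↾fun z => SSet.stdSimplex.objMk ⟨vert d.unop.len z, hmono d.unop.len z⟩
          naturality := fun d e φ => by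
            ext z
            refine SSet.stdSimplex.ext _ _ fun k => ?_
            show vert e.unop.len (E.left.map φ z) k = vert d.unop.len z (φ.unop.toOrderHom k)
            simp only [vert, ← Functor.map_comp_apply]
            congr 3 }
      refine CostructuredArrow.homMk g (NatTrans.ext (funext fun d => ?_))
      obtain ⟨⟨⟨i⟩, hi⟩⟩ := d
      ext z
      refine SSet.stdSimplex.ext _ _ fun k => ?_
      show vert i z k = _
      have h := NatTrans.naturality_apply τ
        (show (⟨⦋0⦌, by decide⟩ : SimplexCategory.Truncated 1) ⟶ ⟨⦋i⦌, hi⟩ from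
          ObjectProperty.homMk (SimplexCategory.const ⦋0⦌ ⦋i⦌ k)).op z
      exact congrArg (fun s : Δ[n] _⦋0⦌ => s 0) h
    · refine CostructuredArrow.hom_ext _ _ ?_
      ext ⟨⟨m⟩⟩ z
      refine SSet.stdSimplex.ext _ _ fun k => ?_
      have hw := ConcreteCategory.congr_hom (NatTrans.congr_app (CostructuredArrow.w φ) (op ⟨⦋0⦌, by decide⟩))
        (E.left.map (SimplexCategory.const ⦋0⦌ ⦋m⦌ k).op z)
      refine Eq.trans ?_ (congrArg (fun s : Δ[n] _⦋0⦌ => s 0) hw)
      exact (congrArg (fun s : Δ[n] _⦋0⦌ => s 0) (NatTrans.naturality_apply φ.left (SimplexCategory.const ⦋0⦌ ⦋m⦌ k).op z)).symm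

end Groth.Agent.S6784
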