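import Groth.Statements.S6785
import Mathlib.AlgebraicTopology.SimplicialSet.Homotopy
import Mathlib.AlgebraicTopology.SimplicialSet.CategoryWithFibrations

set_option autoImplicit false
open CategoryTheory
universe u
open SSet

namespace Groth.Agent.S6785

/-- A trivial Kan fibration `f : X ⟶ Y` of simplicial sets is a homotopy equivalence; more precisely it
has a section `g`, and `g ∘ f` is homotopic to the identity of `X` by a single homotopy in each
direction. (The published statement only asserts a homotopy equivalence; the section and the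
one-step homotopies are what its proof constructs.) -/
theorem result {X Y : SSet.{u}} (f : X ⟶ Y) (hf : SSet.modelCategoryQuillen.I.rlp f) : ∃ g : Y ⟶ X, g ≫ f = 𝟙 Y ∧ Nonempty (SSet.Homotopy (𝟙 X) (f ≫ g)) ∧ Nonempty (SSet.Homotopy (f ≫ g) (𝟙 X)) := by
  classical
  have hmono : ∀ {A B : SSet.{u}} (j : A ⟶ B) [Mono j], HasLiftingProperty j f := by
    intro A B j _
    have := hf
    rw [← SSet.rlp_monomorphisms] at this
    exact this _ (MorphismProperty.monomorphisms.infer_property _)
  obtain ⟨g, hg⟩ : ∃ g : Y ⟶ X, g ≫ f = 𝟙 Y := by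
    let e := SSet.Subcomplex.isInitialBot (X := Y)
    haveI := hmono (⊥ : Y.Subcomplex).ι
    have sq : CommSq (e.to X) (⊥ : Y.Subcomplex).ι f (𝟙 Y) := ⟨e.hom_ext _ _⟩
    exact ⟨sq.lift, sq.fac_right⟩
  have main : ∀ a b : X ⟶ X, a ≫ f = b ≫ f → Nonempty (SSet.Homotopy a b) := by
    intro a b hab

    let c : Fin 2 → ((X ⟶ (SSet.stdSimplex.obj (SimplexCategory.mk 1) : SSet.{u}))) := fun k =>
      SSet.const (SSet.stdSimplex.obj₀Equiv.{u}.symm k)
    let Δ1 : SSet.{u} := SSet.stdSimplex.obj (SimplexCategory.mk 1)
    let P : SSet.{u} := MonoidalCategoryStruct.tensorObj X Δ1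
    let Z : P.Subcomplex :=
      { obj := fun n => {p | p.2 = (c 0).app n p.1 ∨ p.2 = (c 1).app n p.1}
        map := fun {n m} φ p hp => by
          rcases hp with hp | hp
          · refine Or.inl ?_
            show Δ1.map φ p.2 = (c 0).app m (X.map φ p.1)
            rw [hp, NatTrans.naturality_apply]
          · refine Or.inr ?_
            show Δ1.map φ p.2 = (c 1).app m (X.map φ p.1)
            rw [hp, NatTrans.naturality_apply] }
    have hne : ∀ (n : SimplexCategoryᵒᵖ) (x : X.obj n), (c 0).app n x ≠ (c 1).app n x := by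
      intro n x h
      induction n using Opposite.rec with | _ n
      induction n using SimplexCategory.rec with | _ n
      have := congrArg (fun s : Δ1.obj (Opposite.op (SimplexCategory.mk n)) => (SSet.stdSimplex.objEquiv s).toOrderHom 0) h
      exact Fin.zero_ne_one (show (0 : Fin 2) = 1 from this)
    let φ : (Z : SSet.{u}) ⟶ X :=
      { app := fun n => TypeCat.ofHom fun p => if p.1.2 = (c 0).app n p.1.1 then a.app n p.1.1 else b.app n p.1.1
        naturality := fun {n m} ψ => by
          ext ⟨p, hp⟩
          show (if Δ1.map ψ p.2 = (c 0).app m (X.map ψ p.1) then a.app m (X.map ψ p.1)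
            else b.app m (X.map ψ p.1)) = X.map ψ (if p.2 = (c 0).app n p.1 then a.app n p.1 else b.app n p.1)
          rcases hp with hp | hp
          · rw [if_pos hp, if_pos (by rw [hp, NatTrans.naturality_apply]), NatTrans.naturality_apply]
          · have h1 : ¬ p.2 = (c 0).app n p.1 := fun h => hne n p.1 (h.symm.trans hp)
            have h2 : ¬ Δ1.map ψ p.2 = (c 0).app m (X.map ψ p.1) := fun h => by
              refine hne m (X.map ψ p.1) (h.symm.trans ?_)
              rw [hp, NatTrans.naturality_apply]
            rw [if_neg h1, if_neg h2, NatTrans.naturality_apply] }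
    haveI := hmono Z.ι
    have sq : CommSq φ Z.ι f (CartesianMonoidalCategory.fst X Δ1 ≫ a ≫ f) := ⟨by
      ext n ⟨p, hp⟩
      show f.app n (if p.2 = (c 0).app n p.1 then a.app n p.1 else b.app n p.1) = f.app n (a.app n p.1)
      split_ifs
      · rfl
      · exact (ConcreteCategory.congr_hom (NatTrans.congr_app hab n) p.1).symm⟩
    have h0 : SSet.ι₀ ≫ sq.lift = a := by
      ext n x
      have := ConcreteCategory.congr_hom (NatTrans.congr_app sq.fac_left n) ⟨SSet.ι₀.app n x, Or.inl rfl⟩
      exact this.trans (if_pos rfl)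
    have h1 : SSet.ι₁ ≫ sq.lift = b := by
      ext n x
      have := ConcreteCategory.congr_hom (NatTrans.congr_app sq.fac_left n) ⟨SSet.ι₁.app n x, Or.inr rfl⟩
      exact this.trans (if_neg (fun h => hne n x h.symm))
    exact ⟨{ h := sq.lift, h₀ := h0, h₁ := h1, rel := by ext n ⟨⟨p, hp⟩, s⟩; exact hp.elim }⟩
  refine ⟨g, hg, main _ _ ?_, main _ _ ?_⟩
  · rw [Category.assoc, hg, Category.comp_id, Category.id_comp]
  · rw [Category.assoc, hg, Category.comp_id, Category.id_comp]

end Groth.Agent.S6785
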