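import Groth.Statements.S6786
import Groth.Agent.Lib.MLLim8.Basic

set_option autoImplicit false
open CategoryTheory CategoryTheory.Limits
universe u
open HomAlg3

namespace Groth.Agent.S6786
open Opposite in


/-- For a sequence `(A_i) ⟶ (B_i) ⟶ (C_i) ⟶ (D_i)` of inverse systems of abelian groups over `ℕ` that is
exact levelwise at the two middle places, if `(A_i)` is Mittag-Leffler then `lim B_i ⟶ lim C_i ⟶ lim
D_i` is exact. -/
theorem result {A B C D : ℕᵒᵖ ⥤ AddCommGrpCat.{u}} (a : A ⟶ B) (b : B ⟶ C) (c : C ⟶ D) (hB : ∀ i, (b.app i).hom.ker = (a.app i).hom.range) (hC : ∀ i, (c.app i).hom.ker = (b.app i).hom.range) (hA : (A ⋙ forget AddCommGrpCat).IsMittagLeffler) : (limMap c).hom.ker = (limMap b).hom.range := by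
  have hK : Groth.Agent.MLLim8.IsML B fun i => (b.app (op i)).hom.ker := by
    have h := Groth.Agent.MLLim8.IsML.image a ((Groth.Agent.MLLim8.isML_top A).2 hA)
    simp only [← AddMonoidHom.range_eq_map] at h
    simp only [hB]
    exact h
  apply le_antisymm
  · intro x hx
    obtain ⟨t, ht, hc⟩ := Groth.Agent.MLLim8.exists_lift B Groth.Agent.InvSys.hcof_nat b hK
      (fun i => limit.π C (op i) x) (fun i j h => Groth.Agent.MLLim8.lim_res C x h) (fun i => by
        show _ ∈ (b.app (op i)).hom.range
        rw [← hC]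
        refine ((ConcreteCategory.congr_hom (limMap_π c (op i)) x).symm).trans ?_
        exact (congrArg (limit.π D (op i)) hx).trans (map_zero _))
    obtain ⟨y, hy⟩ := Groth.Agent.MLLim8.exists_lim B t hc
    refine ⟨y, Groth.Agent.MLLim8.lim_ext C fun i => ?_⟩
    exact (ConcreteCategory.congr_hom (limMap_π b (op i)) y).trans ((congrArg (b.app (op i)) (hy i)).trans (ht i))
  · rintro _ ⟨y, rfl⟩
    refine Groth.Agent.MLLim8.lim_ext D fun i => ?_
    refine (ConcreteCategory.congr_hom (limMap_π c (op i)) (limMap b y)).trans ?_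
    refine (congrArg (c.app (op i)) (ConcreteCategory.congr_hom (limMap_π b (op i)) y)).trans ?_
    have h : (b.app (op i)) (limit.π B (op i) y) ∈ (c.app (op i)).hom.ker := by rw [hC]; exact ⟨_, rfl⟩
    exact h.trans (map_zero _).symm


end Groth.Agent.S6786
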