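import Groth.Statements.S6787
import Groth.Agent.Lib.MLLim8.EssConst

set_option autoImplicit false
open CategoryTheory CategoryTheory.Limits
universe u
open HomAlg3

namespace Groth.Agent.S6787
open CategoryTheory CategoryTheory.Limits Opposite



/-- Take inverse systems `(A_i)`, `(B_i)`, `(C_i)` of abelian groups over `ℕ`, with morphisms of systems
`(A_i) ⟶ (B_i) ⟶ (C_i)` that give a short exact sequence at every index, and suppose `(C_i)` is
essentially constant. Then `(A_i)` is Mittag-Leffler if and only if `(B_i)` is. -/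
theorem result {A B C : ℕᵒᵖ ⥤ AddCommGrpCat.{u}} (a : A ⟶ B) (b : B ⟶ C) (ha : ∀ i, Function.Injective (a.app i).hom) (hb : ∀ i, Function.Surjective (b.app i).hom) (hex : ∀ i, (b.app i).hom.ker = (a.app i).hom.range) (hC : ∃ (C₀ : AddCommGrpCat.{u}) (c : (Functor.const ℕᵒᵖ).obj C₀ ⟶ C), DerCA.IsEssConstant C C₀ c) : (A ⋙ forget AddCommGrpCat).IsMittagLeffler ↔ (B ⋙ forget AddCommGrpCat).IsMittagLeffler := by
  obtain ⟨C₀, c, hc⟩ := hC
  obtain ⟨i₀, hinj⟩ := Groth.Agent.MLLim8.exists_injective_c hc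
  have hker : ∀ i, ∀ x : A.obj (op i), b.app (op i) (a.app (op i) x) = 0 := fun i x => by
    have h : a.app (op i) x ∈ (b.app (op i)).hom.ker := by rw [hex]; exact ⟨x, rfl⟩
    exact h
  have hlift : ∀ i, ∀ y : B.obj (op i), b.app (op i) y = 0 → ∃ x, a.app (op i) x = y := fun i y hy => by
    have h : y ∈ (a.app (op i)).hom.range := by rw [← hex]; exact hy
    exact h
  rw [← Groth.Agent.MLLim8.isML_top, ← Groth.Agent.MLLim8.isML_top,
    Groth.Agent.MLLim8.isML_iff, Groth.Agent.MLLim8.isML_iff]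
  constructor
  · intro hA j
    obtain ⟨i₁, hi₁, HA⟩ := hA j
    obtain ⟨i, hi, HC⟩ := Groth.Agent.MLLim8.exists_eq_c hc i₁
    refine ⟨i, hi₁.trans hi, fun k hk y _ => ?_⟩
    obtain ⟨γ, hγ⟩ := HC (b.app (op i) y)
    obtain ⟨y', hy'⟩ := hb (op k) (c.app (op k) γ)
    obtain ⟨α, hα⟩ := hlift i₁ (Groth.Agent.MLLim8.res B hi y - Groth.Agent.MLLim8.res B (hi.trans hk) y') (by
      rw [map_sub, ← Groth.Agent.MLLim8.res_natural B b, ← Groth.Agent.MLLim8.res_natural B b, ← hγ, hy',
        Groth.Agent.MLLim8.res_const, sub_self])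
    obtain ⟨β, -, hβ⟩ := HA k (hi.trans hk) α trivial
    refine ⟨y' + a.app (op k) β, trivial, ?_⟩
    rw [map_add, Groth.Agent.MLLim8.res_natural A a, hβ, ← Groth.Agent.MLLim8.res_natural A a, hα, map_sub,
      Groth.Agent.MLLim8.res_res, Groth.Agent.MLLim8.res_res]
    abel
  · intro hB j
    let j' := max j i₀
    obtain ⟨i, hi, HB⟩ := hB j'
    refine ⟨i, (le_max_left j i₀).trans hi, fun k hk α _ => ?_⟩
    obtain ⟨n', hn', HC⟩ := Groth.Agent.MLLim8.exists_eq_c hc k
    obtain ⟨y, -, hy⟩ := HB n' (hk.trans hn') (a.app (op i) α) trivial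
    obtain ⟨γ, hγ⟩ := HC (b.app (op n') y)
    have h0 : c.app (op j') γ = 0 := by
      rw [← Groth.Agent.MLLim8.res_const c (hi.trans hk) γ, hγ, Groth.Agent.MLLim8.res_res,
        Groth.Agent.MLLim8.res_natural B b, hy, ← Groth.Agent.MLLim8.res_natural B b, hker, map_zero]
    obtain rfl : γ = 0 := hinj j' (le_max_right j i₀) (h0.trans (map_zero _).symm)
    obtain ⟨β, hβ⟩ := hlift k (Groth.Agent.MLLim8.res B hn' y) (by
      rw [← Groth.Agent.MLLim8.res_natural B b, ← hγ, map_zero])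
    refine ⟨β, trivial, ?_⟩
    have h : Groth.Agent.MLLim8.res A (hi.trans hk) β = Groth.Agent.MLLim8.res A hi α := by
      refine ha (op j') ?_
      show a.app (op j') _ = a.app (op j') _
      rw [← Groth.Agent.MLLim8.res_natural A a, ← Groth.Agent.MLLim8.res_natural A a, hβ,
        Groth.Agent.MLLim8.res_res, ← hy]
    have h' := congrArg (Groth.Agent.MLLim8.res A (le_max_left j i₀)) h
    rwa [Groth.Agent.MLLim8.res_res, Groth.Agent.MLLim8.res_res] at h'


end Groth.Agent.S6787
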