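import Groth.Statements.S6789
import Mathlib

set_option autoImplicit false
open CategoryTheory CategoryTheory.Limits
universe v u
open CategoryTheory CategoryTheory.SimplicialObject

namespace Groth.Agent.S6789

open Simplicial SimplexCategory Opposite

section
variable {C : Type u} [Category.{v} C] {Y X : C} (f : Y ⟶ X)
  [∀ n : ℕ, HasWidePullback (Arrow.mk f).right (fun _ : Fin (n + 1) => (Arrow.mk f).left) (fun _ => (Arrow.mk f).hom)]
  (a b : Y ⟶ Y) (ha : a ≫ f = f) (hb : b ≫ f = f)

open scoped Classical in
/-- The map of vertices. -/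
noncomputable def sel (P : Prop) : Y ⟶ Y := if P then b else a

include ha hb in
theorem sel_f (P : Prop) : sel a b P ≫ f = f := by
  unfold sel; split_ifs <;> assumption


/-- The prism maps. -/
noncomputable def prism {p q : SimplexCategory} (s : q ⟶ p) (P : Fin (q.len + 1) → Prop) :
    (Arrow.mk f).cechNerve.obj (op p) ⟶ (Arrow.mk f).cechNerve.obj (op q) :=
  WidePullback.lift (WidePullback.base _)
    (fun l => WidePullback.π _ (s.toOrderHom l) ≫ sel a b (P l))
    (fun l => (Category.assoc _ _ _).trans ((congrArg (_ ≫ ·) (sel_f f a b ha hb (P l))).trans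
      (WidePullback.π_arrow (fun _ : Fin (p.len + 1) => (Arrow.mk f).hom) _)))

theorem prism_π {p q : SimplexCategory} (s : q ⟶ p) (P : Fin (q.len + 1) → Prop) (l : Fin (q.len + 1)) :
    prism f a b ha hb s P ≫ WidePullback.π (fun _ : Fin (q.len + 1) => (Arrow.mk f).hom) l =
      WidePullback.π (fun _ : Fin (p.len + 1) => (Arrow.mk f).hom) (s.toOrderHom l) ≫ sel a b (P l) :=
  WidePullback.lift_π _ _ _ _ _

theorem prism_base {p q : SimplexCategory} (s : q ⟶ p) (P : Fin (q.len + 1) → Prop) :
    prism f a b ha hb s P ≫ WidePullback.base (fun _ : Fin (q.len + 1) => (Arrow.mk f).hom) =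
      WidePullback.base (fun _ : Fin (p.len + 1) => (Arrow.mk f).hom) :=
  WidePullback.lift_base _ _ _ _

omit a b ha hb in
theorem map_π {q q' : SimplexCategory} (β : q' ⟶ q) (l : Fin (q'.len + 1)) :
    (Arrow.mk f).cechNerve.map β.op ≫ WidePullback.π (fun _ : Fin (q'.len + 1) => (Arrow.mk f).hom) l =
      WidePullback.π (fun _ : Fin (q.len + 1) => (Arrow.mk f).hom) (β.toOrderHom l) :=
  WidePullback.lift_π _ _ _ _ _

omit a b ha hb in
theorem map_base {q q' : SimplexCategory} (β : q' ⟶ q) :
    (Arrow.mk f).cechNerve.map β.op ≫ WidePullback.base (fun _ : Fin (q'.len + 1) => (Arrow.mk f).hom) =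
      WidePullback.base (fun _ : Fin (q.len + 1) => (Arrow.mk f).hom) :=
  WidePullback.lift_base _ _ _ _

theorem prism_comp {p q q' : SimplexCategory} (s : q ⟶ p) (P : Fin (q.len + 1) → Prop) (β : q' ⟶ q) :
    prism f a b ha hb s P ≫ (Arrow.mk f).cechNerve.map β.op =
      prism f a b ha hb (β ≫ s) (fun l => P (β.toOrderHom l)) := by
  refine WidePullback.hom_ext _ _ _ (fun j => ?_) ?_
  · exact ((Category.assoc _ _ _).trans ((congrArg (_ ≫ ·) (map_π f β j)).trans
      (prism_π f a b ha hb s P _))).trans (prism_π f a b ha hb (β ≫ s) (fun l => P (β.toOrderHom l)) j).symm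
  · exact ((Category.assoc _ _ _).trans ((congrArg (_ ≫ ·) (map_base f β)).trans
      (prism_base f a b ha hb s P))).trans (prism_base f a b ha hb (β ≫ s) (fun l => P (β.toOrderHom l))).symm

theorem comp_prism {p p' q : SimplexCategory} (t : p ⟶ p') (s : q ⟶ p) (P : Fin (q.len + 1) → Prop) :
    (Arrow.mk f).cechNerve.map t.op ≫ prism f a b ha hb s P = prism f a b ha hb (s ≫ t) P := by
  refine WidePullback.hom_ext _ _ _ (fun j => ?_) ?_
  · exact ((Category.assoc _ _ _).trans ((congrArg (_ ≫ ·) (prism_π f a b ha hb s P j)).trans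
      ((Category.assoc _ _ _).symm.trans (congrArg (· ≫ _) (map_π f t _))))).trans (prism_π f a b ha hb (s ≫ t) P j).symm
  · exact ((Category.assoc _ _ _).trans ((congrArg (_ ≫ ·) (prism_base f a b ha hb s P)).trans
      (map_base f t))).trans (prism_base f a b ha hb (s ≫ t) P).symm

theorem prism_congr {p q : SimplexCategory} {s s' : q ⟶ p} (hs : s = s')
    {P P' : Fin (q.len + 1) → Prop} (hP : ∀ l, P l ↔ P' l) :
    prism f a b ha hb s P = prism f a b ha hb s' P' := by
  rw [hs, show P = P' from funext fun l => propext (hP l)]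

include ha hb in
theorem homotopy_of_prism {F G : (Arrow.mk f).cechNerve ⟶ (Arrow.mk f).cechNerve}
    (hF : ∀ (p : SimplexCategory) l, F.app (op p) ≫ WidePullback.π _ l = WidePullback.π _ l ≫ a)
    (hF' : ∀ (p : SimplexCategory), F.app (op p) ≫ WidePullback.base _ = WidePullback.base _)
    (hG : ∀ (p : SimplexCategory) l, G.app (op p) ≫ WidePullback.π _ l = WidePullback.π _ l ≫ b)
    (hG' : ∀ (p : SimplexCategory), G.app (op p) ≫ WidePullback.base _ = WidePullback.base _) :
    Nonempty (SimplicialObject.Homotopy F G) := by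
  classical
  have eF : ∀ p : SimplexCategory, F.app (op p) = prism f a b ha hb (𝟙 p) (fun _ => False) := fun p =>
    WidePullback.hom_ext _ _ _ (fun j => (hF p j).trans ((congrArg (_ ≫ ·) (show a = sel a b False from (if_neg not_false).symm)).trans (prism_π f a b ha hb (𝟙 p) (fun _ => False) j).symm)) ((hF' p).trans (prism_base f a b ha hb (𝟙 p) (fun _ => False)).symm)
  have eG : ∀ p : SimplexCategory, G.app (op p) = prism f a b ha hb (𝟙 p) (fun _ => True) := fun p =>
    WidePullback.hom_ext _ _ _ (fun j => (hG p j).trans ((congrArg (_ ≫ ·) (show b = sel a b True from (if_pos trivial).symm)).trans (prism_π f a b ha hb (𝟙 p) (fun _ => True) j).symm)) ((hG' p).trans (prism_base f a b ha hb (𝟙 p) (fun _ => True)).symm)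
  refine ⟨{
    h := fun {m} i => prism f a b ha hb (SimplexCategory.σ i) (fun l => i.val < l.val)
    h_zero_comp_δ_zero := fun m => ?_
    h_last_comp_δ_last := fun m => ?_
    h_succ_comp_δ_castSucc_of_lt := fun {m} i j hij => ?_
    h_succ_comp_δ_castSucc_succ := fun {m} j => ?_
    h_castSucc_comp_δ_succ_of_lt := fun {m} i j hij => ?_
    h_comp_σ_castSucc_of_le := fun {m} i j hij => ?_
    h_comp_σ_succ_of_lt := fun {m} i j hij => ?_ }⟩
  · rw [eG, SimplicialObject.δ, prism_comp]
    refine prism_congr f a b ha hb SimplexCategory.δ_comp_σ_self fun l => ?_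
    change 0 < ((0 : Fin (m + 2)).succAbove l).val ↔ True
    simp
  · rw [eF, SimplicialObject.δ, prism_comp]
    refine prism_congr f a b ha hb
      (by simpa using SimplexCategory.δ_comp_σ_succ (i := Fin.last m)) fun l => ?_
    change m < ((Fin.last (m + 1)).succAbove l).val ↔ False
    simp only [Fin.succAbove_last, Fin.val_castSucc]
    simp only [iff_false, not_lt]
    exact Nat.le_of_lt_succ l.isLt
  · rw [SimplicialObject.δ, SimplicialObject.δ, prism_comp, comp_prism]
    refine prism_congr f a b ha hb (SimplexCategory.δ_comp_σ_of_le hij) fun l => ?_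
    change j.succ.val < (i.castSucc.succAbove l).val ↔ j.val < l.val
    simp only [Fin.succAbove, Fin.lt_def, Fin.val_castSucc, Fin.le_def] at *
    split_ifs <;> simp <;> omega
  · rw [SimplicialObject.δ, prism_comp, prism_comp]
    refine prism_congr f a b ha hb ?_ fun l => ?_
    · rw [← Fin.castSucc_succ]
      rw [SimplexCategory.δ_comp_σ_self]
      rw [Fin.castSucc_succ, SimplexCategory.δ_comp_σ_succ]
    · change j.succ.val < (j.castSucc.succ.succAbove l).val ↔
        j.castSucc.val < (j.castSucc.succ.succAbove l).val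
      simp only [Fin.succAbove, Fin.lt_def, Fin.val_castSucc, Fin.val_succ] at *
      split_ifs <;> simp <;> omega
  · rw [SimplicialObject.δ, SimplicialObject.δ, prism_comp, comp_prism]
    refine prism_congr f a b ha hb (SimplexCategory.δ_comp_σ_of_gt hij) fun l => ?_
    change j.castSucc.val < (i.succ.succAbove l).val ↔ j.val < l.val
    simp only [Fin.succAbove, Fin.lt_def, Fin.val_castSucc, Fin.val_succ] at *
    split_ifs <;> simp <;> omega
  · rw [SimplicialObject.σ, SimplicialObject.σ, prism_comp, comp_prism]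
    refine prism_congr f a b ha hb (SimplexCategory.σ_comp_σ hij) fun l => ?_
    change j.val < (i.castSucc.predAbove l).val ↔ j.succ.val < l.val
    simp only [Fin.predAbove, Fin.lt_def, Fin.val_castSucc, Fin.le_def] at *
    split_ifs <;> simp <;> omega
  · rw [SimplicialObject.σ, SimplicialObject.σ, prism_comp, comp_prism]
    refine prism_congr f a b ha hb (SimplexCategory.σ_comp_σ hij).symm fun l => ?_
    change j.val < (i.succ.predAbove l).val ↔ j.castSucc.val < l.val
    simp only [Fin.predAbove, Fin.lt_def, Fin.val_castSucc, Fin.le_def, Fin.val_succ] at *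
    split_ifs <;> simp <;> omega

end


/-- For a morphism `f : Y ⟶ X` with a section `s`, the endomorphism of the Čech nerve of `f` (the
simplicial object of iterated fibre products of `Y` over `X`) that applies `s ∘ f` factorwise admits
simplicial homotopies to and from the identity: the published formula gives one direction and its
mirror image (exchange the roles of the identity and `s ∘ f`) gives the other. -/
theorem result {C : Type u} [Category.{v} C] {Y X : C} (f : Y ⟶ X) (s : X ⟶ Y) (hs : s ≫ f = 𝟙 X) [∀ n : ℕ, HasWidePullback (Arrow.mk f).right (fun _ : Fin (n + 1) => (Arrow.mk f).left) (fun _ => (Arrow.mk f).hom)] (φ : Arrow.mk f ⟶ Arrow.mk f) (hφl : φ.left = f ≫ s) (hφr : φ.right = 𝟙 X) : Nonempty (SimplicialObject.Homotopy (𝟙 (Arrow.mk f).cechNerve) (Arrow.mapCechNerve φ)) ∧ Nonempty (SimplicialObject.Homotopy (Arrow.mapCechNerve φ) (𝟙 (Arrow.mk f).cechNerve)) := by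
  have hc : (f ≫ s) ≫ f = f := by rw [Category.assoc, hs, Category.comp_id]
  have h1 : ∀ (p : SimplexCategory) l, (Arrow.mapCechNerve φ).app (Opposite.op p) ≫ WidePullback.π _ l =
      WidePullback.π _ l ≫ (f ≫ s) := fun p l => (WidePullback.lift_π _ _ _ _ _).trans (congrArg (_ ≫ ·) hφl)
  have h1' : ∀ (p : SimplexCategory), (Arrow.mapCechNerve φ).app (Opposite.op p) ≫ WidePullback.base _ =
      WidePullback.base _ := fun p => (WidePullback.lift_base _ _ _ _).trans ((congrArg (_ ≫ ·) hφr).trans (Category.comp_id _))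
  exact ⟨homotopy_of_prism f (𝟙 Y) (f ≫ s) (Category.id_comp f) hc (fun p l => (Category.id_comp _).trans (Category.comp_id _).symm) (fun p => Category.id_comp _) h1 h1',
    homotopy_of_prism f (f ≫ s) (𝟙 Y) hc (Category.id_comp f) h1 h1' (fun p l => (Category.id_comp _).trans (Category.comp_id _).symm) (fun p => Category.id_comp _)⟩


end Groth.Agent.S6789
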