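import Groth.Statements.S6790
import Mathlib.CategoryTheory.Monoidal.Rigid.Basic
import Mathlib.CategoryTheory.Idempotents.Basic
import Mathlib.Tactic.CategoryTheory.Monoidal.Basic

set_option autoImplicit false
open CategoryTheory CategoryTheory.Limits MonoidalCategory
universe v u
open CategoryTheory CategoryTheory.Monoidal

namespace Groth.Agent.S6790

open MonoidalCategory

variable {A : Type u} [Category.{v} A] [MonoidalCategory A]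

open ExactPairing in
theorem zigzag_left {X X₁ Y Y₁ : A} [ExactPairing X Y] (i : X₁ ⟶ X) (p : X ⟶ X₁) (a : Y₁ ⟶ Y) (b : Y ⟶ Y₁)
    (φ : Y ⟶ Y) (hη : η_ X Y ≫ X ◁ φ = η_ X Y ≫ (p ≫ i) ▷ Y) (hab : a ≫ φ ≫ b = 𝟙 _) :
    Y₁ ◁ (η_ X Y ≫ (p ⊗ₘ b)) ≫ (α_ _ _ _).inv ≫ ((a ⊗ₘ i) ≫ ε_ X Y) ▷ Y₁ =
      (ρ_ Y₁).hom ≫ (λ_ Y₁).inv := by
  calc _ = (a ⊗ₘ (η_ X Y ≫ (p ≫ i) ▷ Y)) ≫ (α_ _ _ _).inv ≫ ε_ X Y ▷ Y ≫ 𝟙_ A ◁ b := by
        rw [comp_whiskerRight (a ⊗ₘ i), ← tensorHom_id (a ⊗ₘ i), ← associator_inv_naturality_assoc,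
          ← whisker_exchange (ε_ X Y) b, ← associator_inv_naturality_right_assoc]
        simp only [← id_tensorHom, ← tensorHom_id, Category.assoc, tensorHom_comp_tensorHom,
          tensorHom_comp_tensorHom_assoc, Category.id_comp, Category.comp_id]
    _ = a ▷ 𝟙_ A ≫ Y ◁ (η_ X Y ≫ (p ≫ i) ▷ Y) ≫ (α_ _ _ _).inv ≫ ε_ X Y ▷ Y ≫ 𝟙_ A ◁ b := by
        rw [tensorHom_def, Category.assoc]
    _ = a ▷ 𝟙_ A ≫ Y ◁ (η_ X Y ≫ X ◁ φ) ≫ (α_ _ _ _).inv ≫ ε_ X Y ▷ Y ≫ 𝟙_ A ◁ b := by rw [hη]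
    _ = a ▷ 𝟙_ A ≫ (Y ◁ η_ X Y ≫ (α_ _ _ _).inv ≫ ε_ X Y ▷ Y) ≫ 𝟙_ A ◁ φ ≫ 𝟙_ A ◁ b := by
        simp only [Category.assoc, MonoidalCategory.whiskerLeft_comp]
        rw [← whisker_exchange_assoc (ε_ X Y) φ, associator_inv_naturality_right_assoc]
    _ = _ := by
        rw [coevaluation_evaluation]
        simp only [Category.assoc, MonoidalCategory.id_whiskerLeft, MonoidalCategory.whiskerRight_id,
          Iso.inv_hom_id_assoc]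
        rw [reassoc_of% hab]

open ExactPairing in
theorem zigzag_right {X X₁ Y Y₁ : A} [ExactPairing X Y] (i : X₁ ⟶ X) (p : X ⟶ X₁) (a : Y₁ ⟶ Y) (b : Y ⟶ Y₁)
    (hη : η_ X Y ≫ X ◁ (b ≫ a) = η_ X Y ≫ (p ≫ i) ▷ Y) (hip : i ≫ p = 𝟙 _) :
    (η_ X Y ≫ (p ⊗ₘ b)) ▷ X₁ ≫ (α_ _ _ _).hom ≫ X₁ ◁ ((a ⊗ₘ i) ≫ ε_ X Y) =
      (λ_ X₁).hom ≫ (ρ_ X₁).inv := by
  calc _ = ((η_ X Y ≫ X ◁ (b ≫ a)) ⊗ₘ i) ≫ (α_ _ _ _).hom ≫ X ◁ ε_ X Y ≫ p ▷ 𝟙_ A := by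
        rw [whisker_exchange, MonoidalCategory.whiskerLeft_comp X₁ (a ⊗ₘ i), ← id_tensorHom X₁ (a ⊗ₘ i),
          ← associator_naturality_assoc, ← associator_naturality_left_assoc]
        simp only [← id_tensorHom, ← tensorHom_id, Category.assoc, tensorHom_comp_tensorHom,
          tensorHom_comp_tensorHom_assoc, Category.id_comp, Category.comp_id]
    _ = 𝟙_ A ◁ i ≫ (η_ X Y ≫ X ◁ (b ≫ a)) ▷ X ≫ (α_ _ _ _).hom ≫ X ◁ ε_ X Y ≫ p ▷ 𝟙_ A := by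
        rw [tensorHom_def', Category.assoc]
    _ = 𝟙_ A ◁ i ≫ (η_ X Y ≫ (p ≫ i) ▷ Y) ▷ X ≫ (α_ _ _ _).hom ≫ X ◁ ε_ X Y ≫ p ▷ 𝟙_ A := by rw [hη]
    _ = 𝟙_ A ◁ i ≫ (η_ X Y ▷ X ≫ (α_ _ _ _).hom ≫ X ◁ ε_ X Y) ≫ (p ≫ i) ▷ 𝟙_ A ≫ p ▷ 𝟙_ A := by
        simp only [Category.assoc, comp_whiskerRight]
        rw [associator_naturality_left_assoc, associator_naturality_left_assoc,
          ← whisker_exchange_assoc, ← whisker_exchange_assoc]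
    _ = _ := by
        rw [evaluation_coevaluation]
        simp only [Category.assoc, MonoidalCategory.id_whiskerLeft, MonoidalCategory.whiskerRight_id,
          Iso.inv_hom_id_assoc]
        rw [reassoc_of% hip, reassoc_of% hip]



/-- In an idempotent-complete additive monoidal category, a direct summand of an object admitting a dual
(with coevaluation `𝟙_ A ⟶ X ⊗ Y` and evaluation `Y ⊗ X ⟶ 𝟙_ A`) again admits such a dual. -/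
theorem result {A : Type u} [Category.{v} A] [Preadditive A] [HasFiniteBiproducts A] [MonoidalCategory A] [MonoidalPreadditive A] [IsIdempotentComplete A] {X X₁ : A} (i : X₁ ⟶ X) (p : X ⟶ X₁) (hip : i ≫ p = 𝟙 X₁) [HasRightDual X] : Nonempty (HasRightDual X₁) := by
  have he : (p ≫ i) ≫ (p ≫ i) = p ≫ i := by rw [Category.assoc, reassoc_of% hip]
  let φ := rightAdjointMate (p ≫ i)
  have hφ : φ ≫ φ = φ := by rw [← comp_rightAdjointMate, he]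
  obtain ⟨Y₁, a, b, hab, hba⟩ := IsIdempotentComplete.idempotents_split (Xᘁ) φ hφ
  have hη : η_ X (Xᘁ) ≫ X ◁ φ = η_ X (Xᘁ) ≫ (p ≫ i) ▷ Xᘁ := coevaluation_comp_rightAdjointMate _
  exact ⟨@HasRightDual.mk _ _ _ X₁ Y₁
    { coevaluation' := η_ X (Xᘁ) ≫ (p ⊗ₘ b)
      evaluation' := (a ⊗ₘ i) ≫ ε_ X (Xᘁ)
      coevaluation_evaluation' := zigzag_left i p a b φ hη (by
        rw [← hba, Category.assoc, hab, Category.comp_id, hab])
      evaluation_coevaluation' := zigzag_right i p a b (by rw [hba]; exact hη) hip }⟩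


end Groth.Agent.S6790
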