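import Groth.Statements.S6791
import Mathlib.CategoryTheory.Abelian.SerreClass.Localization
import Mathlib.CategoryTheory.Localization.CalculusOfFractions.Preadditive

set_option autoImplicit false
open CategoryTheory CategoryTheory.Limits
universe v u v' u' v'' u''
open CategoryTheory CategoryTheory.SerreClass

namespace Groth.Agent.S6791


/-- For an exact functor `F : A ⥤ B` of abelian categories and a Serre class `P` of `A` killed by `F`,
with `L : A ⥤ Q` a model of the quotient `A/P` and `Fbar : Q ⥤ B` the induced functor, `P` is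
exactly the kernel of `F` if and only if `Fbar` is faithful. -/
theorem result {A : Type u} [Category.{v} A] [Abelian A] {B : Type u'} [Category.{v'} B] [Abelian B] (F : A ⥤ B) [F.Additive] [PreservesFiniteLimits F] [PreservesFiniteColimits F] (P : ObjectProperty A) [P.IsSerreClass] (hP : ∀ X : A, P X → IsZero (F.obj X)) {Q : Type u''} [Category.{v''} Q] [Abelian Q] (L : A ⥤ Q) [L.IsLocalization P.isoModSerre] [L.Additive] [PreservesFiniteLimits L] [PreservesFiniteColimits L] (Fbar : Q ⥤ B) (e : L ⋙ Fbar ≅ F) : (∀ X : A, IsZero (F.obj X) → P X) ↔ Fbar.Faithful := by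
  haveI : (L ⋙ Fbar).Additive := Functor.additive_of_iso e.symm
  haveI : Fbar.Additive := (Localization.functor_additive_iff L P.isoModSerre Fbar).2 inferInstance
  constructor
  · intro hker
    refine ⟨fun {U V} g₁ g₂ hg => ?_⟩
    rw [← sub_eq_zero]
    have hg0 : Fbar.map (g₁ - g₂) = 0 := by rw [Functor.map_sub, hg, sub_self]
    generalize g₁ - g₂ = g at hg0
    haveI := Localization.essSurj L P.isoModSerre
    obtain ⟨g', rfl⟩ : ∃ g' : L.obj (L.objPreimage U) ⟶ L.obj (L.objPreimage V),
        g = (L.objObjPreimageIso U).inv ≫ g' ≫ (L.objObjPreimageIso V).hom :=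
      ⟨(L.objObjPreimageIso U).hom ≫ g ≫ (L.objObjPreimageIso V).inv, by simp⟩
    simp only [Functor.map_comp, Preadditive.IsIso.comp_left_eq_zero, Preadditive.IsIso.comp_right_eq_zero] at hg0
    suffices g' = 0 by rw [this, zero_comp, comp_zero]
    obtain ⟨φ, rfl⟩ := Localization.exists_leftFraction L P.isoModSerre g'
    have h1 : Fbar.map (L.map φ.f) = 0 := by
      rw [← φ.map_comp_map_s L (Localization.inverts _ _), Functor.map_comp, hg0, zero_comp]
    have h2 : F.map φ.f = 0 := by
      have := e.hom.naturality φ.f
      rw [Functor.comp_map, h1, zero_comp] at this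
      exact (cancel_epi (e.hom.app _)).1 (this.symm.trans comp_zero.symm)
    have h3 : P (Abelian.image φ.f) := hker _ (by
      rw [IsZero.iff_id_eq_zero, ← F.map_id, ← cancel_epi (F.map (Abelian.factorThruImage φ.f)),
        ← cancel_mono (F.map (Abelian.image.ι φ.f)), Category.assoc, ← Functor.map_comp, ← Functor.map_comp,
        Category.id_comp, Abelian.image.fac, h2, comp_zero, zero_comp])
    have h4 : L.map φ.f = 0 := (ObjectProperty.SerreClassLocalization.map_eq_zero_iff L P φ.f).2 h3
    haveI := Localization.inverts L P.isoModSerre φ.s φ.hs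
    rw [← cancel_mono (L.map φ.s), φ.map_comp_map_s, h4, zero_comp]
  · intro hF X hX
    refine (ObjectProperty.SerreClassLocalization.isZero_obj_iff L P X).1 ?_
    rw [IsZero.iff_id_eq_zero]
    exact Fbar.map_injective ((IsZero.of_iso hX (e.app X)).eq_of_src _ _)


end Groth.Agent.S6791
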