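import Groth.Statements.S6796

set_option autoImplicit false
open CategoryTheory CategoryTheory.Limits
universe v u
open CategoryTheory CategoryTheory.Preadditive

namespace Groth.Agent.S6796


/-- A preadditive category with countable coproducts in which split monomorphisms have cokernels is
idempotent complete (Karoubian). -/
theorem result {D : Type u} [Category.{v} D] [Preadditive D] [HasCountableCoproducts D] (hk : ∀ ⦃X Y : D⦄ (f : X ⟶ Y), IsSplitMono f → HasCokernel f) : IsIdempotentComplete D := by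
  constructor
  intro X p hp
  haveI : HasCoproduct (fun _ : ℕ => X) := inferInstance
  let ι := fun n => Sigma.ι (fun _ : ℕ => X) n
  let f : (∐ fun _ : ℕ => X) ⟶ ∐ fun _ : ℕ => X := Sigma.desc fun n => ι n - p ≫ ι (n + 1)
  have hι : ∀ n, ι n ≫ f = ι n - p ≫ ι (n + 1) := fun n => Sigma.ι_desc _ _
  let g : (∐ fun _ : ℕ => X) ⟶ ∐ fun _ : ℕ => X :=
    Sigma.desc fun n => (𝟙 X - p) ≫ ι n - ∑ k ∈ Finset.range n, p ≫ ι k
  have hg : ∀ n, ι n ≫ g = (𝟙 X - p) ≫ ι n - ∑ k ∈ Finset.range n, p ≫ ι k := fun n => Sigma.ι_desc _ _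
  have hfg : f ≫ g = 𝟙 _ := by
    refine Sigma.hom_ext _ _ fun n => ?_
    show ι n ≫ f ≫ g = ι n ≫ 𝟙 _
    have h0 : p ≫ (𝟙 X - p) = 0 := by rw [Preadditive.comp_sub, Category.comp_id, hp, sub_self]
    rw [Category.comp_id, reassoc_of% (hι n), Preadditive.sub_comp, Category.assoc, hg, hg, Preadditive.comp_sub,
      reassoc_of% h0, zero_comp, Preadditive.comp_sum, Finset.sum_range_succ]
    simp only [reassoc_of% hp, Preadditive.sub_comp, Category.id_comp, zero_sub, sub_neg_eq_add]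
    abel
  haveI : HasCokernel f := hk f ⟨⟨⟨g, hfg⟩⟩⟩
  let i : cokernel f ⟶ X := cokernel.desc f (Sigma.desc fun _ => p) (Sigma.hom_ext _ _ fun n => by
    show ι n ≫ f ≫ _ = ι n ≫ 0
    rw [reassoc_of% (hι n), comp_zero, Preadditive.sub_comp, Category.assoc, Sigma.ι_desc, Sigma.ι_desc, hp, sub_self])
  refine ⟨cokernel f, i, p ≫ ι 0 ≫ cokernel.π f, ?_, ?_⟩
  · refine coequalizer.hom_ext (Sigma.hom_ext _ _ fun n => ?_)
    show ι n ≫ cokernel.π f ≫ i ≫ p ≫ ι 0 ≫ cokernel.π f = ι n ≫ cokernel.π f ≫ 𝟙 _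
    rw [Category.comp_id, cokernel.π_desc_assoc, Sigma.ι_desc_assoc, reassoc_of% hp]
    have hn : ∀ m, ι m ≫ cokernel.π f = p ≫ ι (m + 1) ≫ cokernel.π f := fun m => by
      rw [← sub_eq_zero, ← Category.assoc p, ← Preadditive.sub_comp, ← hι, Category.assoc, cokernel.condition, comp_zero]
    have hm : ∀ m, p ≫ ι 0 ≫ cokernel.π f = p ≫ ι m ≫ cokernel.π f := by
      intro m
      induction m with
      | zero => rfl
      | succ m ih => rw [ih, hn m, reassoc_of% hp]
    rw [hn n]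
    exact hm _
  · rw [Category.assoc, Category.assoc, cokernel.π_desc, Sigma.ι_desc, hp]


end Groth.Agent.S6796
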