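import Groth.Statements.S6795
import Groth.Agent.S6796
import Mathlib.CategoryTheory.Limits.Shapes.Opposites.Products
import Mathlib.CategoryTheory.Preadditive.Opposite

set_option autoImplicit false
open CategoryTheory CategoryTheory.Limits
universe v u
open CategoryTheory CategoryTheory.Preadditive

namespace Groth.Agent.S6795


/-- A preadditive category with countable products in which split epimorphisms have kernels is
idempotent complete (Karoubian). -/
theorem result {D : Type u} [Category.{v} D] [Preadditive D] [HasCountableProducts D] (hk : ∀ ⦃X Y : D⦄ (f : X ⟶ Y), IsSplitEpi f → HasKernel f) : IsIdempotentComplete D := by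
  have hk' : ∀ ⦃X Y : Dᵒᵖ⦄ (f : X ⟶ Y), IsSplitMono f → HasCokernel f := by
    intro X Y f hf
    haveI : IsSplitEpi f.unop := ⟨⟨⟨(retraction f).unop, by rw [← unop_comp, IsSplitMono.id, unop_id]⟩⟩⟩
    haveI := hk f.unop inferInstance
    exact HasColimit.mk ⟨_, CokernelCofork.IsColimit.ofπ ((kernel.ι f.unop).op) (Quiver.Hom.unop_inj (kernel.condition f.unop))
      (fun g hg => (kernel.lift f.unop g.unop (by rw [← unop_comp, hg]; rfl)).op)
      (fun g hg => Quiver.Hom.unop_inj (kernel.lift_ι _ _ _))
      (fun g hg m hm => Quiver.Hom.unop_inj (by rw [← cancel_mono (kernel.ι f.unop)]; simp [← hm]))⟩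
  haveI : HasCountableCoproducts Dᵒᵖ := ⟨fun J _ => by infer_instance⟩
  rw [← Idempotents.isIdempotentComplete_iff_opposite]
  exact Groth.Agent.S6796.result hk'


end Groth.Agent.S6795
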