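import Groth.Statements.S6797

set_option autoImplicit false
open CategoryTheory CategoryTheory.Limits
universe v u
open CategoryTheory CategoryTheory.Preadditive

namespace Groth.Agent.S6797


/-- For an idempotent `f` with a kernel, the factorisation `p : x ⟶ Ker f` of `𝟙 - f` through the kernel
inclusion is a retraction of it and is a cokernel of `f`. -/
theorem result {A : Type u} [Category.{v} A] [Preadditive A] {x : A} (f : x ⟶ x) (hf : f ≫ f = f) [HasKernel f] (p : x ⟶ kernel f) (hp : p ≫ kernel.ι f = 𝟙 x - f) : kernel.ι f ≫ p = 𝟙 (kernel f) ∧ ∃ hc : f ≫ p = 0, Nonempty (IsColimit (CokernelCofork.ofπ p hc)) := by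
  have hkf : kernel.ι f ≫ f = 0 := kernel.condition f
  refine ⟨?_, ?_⟩
  · rw [← cancel_mono (kernel.ι f), Category.assoc, hp, Preadditive.comp_sub, hkf]
    simp
  · have hc : f ≫ p = 0 := by
      rw [← cancel_mono (kernel.ι f), Category.assoc, hp, Preadditive.comp_sub, hf]
      simp
    refine ⟨hc, ⟨CokernelCofork.IsColimit.ofπ _ hc (fun {Z} g hg => kernel.ι f ≫ g) ?_ ?_⟩⟩
    · intro Z g hg
      rw [← Category.assoc, hp, Preadditive.sub_comp, hg, Category.id_comp, sub_zero]
    · intro Z g hg m hm
      have hk : kernel.ι f ≫ p = 𝟙 _ := by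
        rw [← cancel_mono (kernel.ι f), Category.assoc, hp, Preadditive.comp_sub, hkf]
        simp
      rw [← hm, ← Category.assoc, hk, Category.id_comp]


end Groth.Agent.S6797
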