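import Groth.Statements.S6800
import Mathlib.Data.Finite.Sigma

set_option autoImplicit false
open CategoryTheory CategoryTheory.Limits
universe v u
open CategoryTheory CategoryTheory.SimplicialObject CategoryTheory.SimplicialObject.Truncated

namespace Groth.Agent.S6800
open CategoryTheory CategoryTheory.Limits



/-- In a category with finite limits every truncated simplicial object has a pointwise right Kan
extension along the inclusion of the truncated simplex category, i.e. the coskeleton functors exist
and are given by the limit formula. -/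
theorem result {C : Type u} [Category.{v} C] [HasFiniteLimits C] (m : ℕ) (U : (SimplexCategory.Truncated m)ᵒᵖ ⥤ C) : (SimplexCategory.Truncated.inclusion m).op.HasPointwiseRightKanExtension U := by
  intro Y
  haveI : Finite (SimplexCategory.Truncated m)ᵒᵖ := Finite.of_injective
    (fun X : (SimplexCategory.Truncated m)ᵒᵖ => (⟨X.unop.obj.len, Nat.lt_succ_of_le X.unop.property⟩ : Fin (m + 1)))
    (fun X Z h => Opposite.unop_injective (ObjectProperty.FullSubcategory.ext (SimplexCategory.ext (congrArg Fin.val h))))
  haveI : ∀ X Z : (SimplexCategory.Truncated m)ᵒᵖ, Finite (X ⟶ Z) := fun X Z => Finite.of_injective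
    (fun f => f.unop.hom) (fun f g h => Quiver.Hom.unop_inj (ObjectProperty.hom_ext _ h))
  haveI : ∀ X : (SimplexCategory.Truncated m)ᵒᵖ,
      Finite (Y ⟶ (SimplexCategory.Truncated.inclusion m).op.obj X) := fun X =>
    Finite.of_injective (fun f => f.unop) (fun f g h => Quiver.Hom.unop_inj h)
  haveI : Finite (StructuredArrow Y (SimplexCategory.Truncated.inclusion m).op) := Finite.of_injective
    (fun A => (⟨A.right, A.hom⟩ : Σ X : (SimplexCategory.Truncated m)ᵒᵖ,
      Y ⟶ (SimplexCategory.Truncated.inclusion m).op.obj X))
    (fun A B h => by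
      obtain ⟨⟨⟨⟩⟩, a, f⟩ := A
      obtain ⟨⟨⟨⟩⟩, b, g⟩ := B
      obtain ⟨rfl, h⟩ := Sigma.mk.inj_iff.1 h
      obtain rfl := eq_of_heq h
      rfl)
  haveI : ∀ A B : StructuredArrow Y (SimplexCategory.Truncated.inclusion m).op, Finite (A ⟶ B) :=
    fun A B => Finite.of_injective (fun f => f.right) fun f g h => StructuredArrow.hom_ext _ _ h
  letI := Fintype.ofFinite (StructuredArrow Y (SimplexCategory.Truncated.inclusion m).op)
  letI : ∀ A B : StructuredArrow Y (SimplexCategory.Truncated.inclusion m).op, Fintype (A ⟶ B) :=
    fun A B => Fintype.ofFinite _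
  letI : FinCategory (StructuredArrow Y (SimplexCategory.Truncated.inclusion m).op) := {}
  exact inferInstanceAs (HasLimit (StructuredArrow.proj Y (SimplexCategory.Truncated.inclusion m).op ⋙ U))


end Groth.Agent.S6800
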