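import Groth.Statements.S6805
import Mathlib.AlgebraicTopology.SimplicialSet.Dimension
import Mathlib.AlgebraicTopology.SimplicialSet.Degenerate

set_option autoImplicit false
open CategoryTheory
universe u
open SSet

namespace Groth.Agent.S6805

/-- The simplicial set freely generated by an `m`-truncated simplicial set (its image under the left
adjoint of `m`-truncation) has only degenerate simplices above dimension `m`. -/
theorem result (m : ℕ) (U : SSet.Truncated.{u} m) : ((SSet.Truncated.sk m).obj U).HasDimensionLT (m + 1) := by
  let X := (SSet.Truncated.sk m).obj U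
  let S : X.Subcomplex :=
    { obj := fun n => {x | ∃ (k : ℕ) (_ : k ≤ m) (φ : n.unop ⟶ SimplexCategory.mk k)
          (y : X.obj (Opposite.op (SimplexCategory.mk k))), X.map φ.op y = x}
      map := fun {n n'} ψ x hx => by
        obtain ⟨k, hk, φ, y, rfl⟩ := hx
        exact ⟨k, hk, ψ.unop ≫ φ, y, by rw [op_comp, Functor.map_comp_apply]; rfl⟩ }
  let η := (SSet.skAdj m).unit.app U
  let β : U ⟶ (SSet.truncation m).obj (S : SSet.{u}) :=
    { app := fun n => TypeCat.ofHom fun y => ⟨η.app n y,
        n.unop.obj.len, n.unop.property, 𝟙 _, η.app n y,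
        by rw [op_id]; exact CategoryTheory.Functor.map_id_apply X _ _⟩
      naturality := fun {n n'} ψ => by
        ext y
        apply Subtype.ext
        exact ConcreteCategory.congr_hom (η.naturality ψ) y }
  have key : ((SSet.skAdj m).homEquiv U (S : SSet.{u})).symm β ≫ S.ι = 𝟙 X := by
    apply ((SSet.skAdj m).homEquiv U X).injective
    rw [Adjunction.homEquiv_naturality_right, Equiv.apply_symm_apply, Adjunction.homEquiv_unit]
    erw [CategoryTheory.Functor.map_id, Category.comp_id]
    ext n y
    rfl
  refine ⟨fun n hn => Set.eq_univ_of_forall fun x => ?_⟩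
  have hx := ConcreteCategory.congr_hom (NatTrans.congr_app key (Opposite.op (SimplexCategory.mk n))) x
  have hmem : x ∈ S.obj _ := by
    rw [show x = _ from hx.symm]
    exact ((((SSet.skAdj m).homEquiv U (S : SSet.{u})).symm β).app _ x).2
  obtain ⟨k, hk, φ, y, hy⟩ := hmem
  exact ⟨k, by omega, φ, y, hy⟩

end Groth.Agent.S6805
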