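import Groth.Statements.S6807
import Groth.Agent.Lib.MLLim8.Homology
import Groth.Agent.Lib.MLLim8.EssConst

set_option autoImplicit false
open CategoryTheory CategoryTheory.Limits
universe u
open HomAlg3

namespace Groth.Agent.S6807
open CategoryTheory CategoryTheory.Limits Opposite



/-- For an inverse system of cochain complexes of abelian groups over `ℕ` whose terms in degrees `n-2`
and `n-1` form Mittag-Leffler systems and whose degree-`(n-1)` cohomologies form an essentially
constant system, the canonical map from the degree-`n` cohomology of the limit complex to the limit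
of the degree-`n` cohomologies is an isomorphism. (The published statement is for four-term
complexes in degrees `-2, …, 1`; only those four degrees of a longer complex enter.) -/
theorem result (K : ℕᵒᵖ ⥤ HomologicalComplex AddCommGrpCat.{u} (ComplexShape.up ℤ)) (n : ℤ) (h2 : ((K ⋙ HomologicalComplex.eval _ _ (n - 2)) ⋙ forget AddCommGrpCat).IsMittagLeffler) (h1 : ((K ⋙ HomologicalComplex.eval _ _ (n - 1)) ⋙ forget AddCommGrpCat).IsMittagLeffler) (hH : ∃ (C₀ : AddCommGrpCat.{u}) (c : (Functor.const ℕᵒᵖ).obj C₀ ⟶ K ⋙ HomologicalComplex.homologyFunctor _ _ (n - 1)), DerCA.IsEssConstant (K ⋙ HomologicalComplex.homologyFunctor _ _ (n - 1)) C₀ c) : IsIso (limit.post K (HomologicalComplex.homologyFunctor _ _ n)) := by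
  obtain ⟨C₀, c, hc⟩ := hH
  have hC := Groth.Agent.MLLim8.isMittagLeffler_of_isEssConstant hc
  have hm : (ComplexShape.up ℤ).prev n = n - 1 := by simp
  have hl : (ComplexShape.up ℤ).prev (n - 1) = n - 2 := by simp; ring
  have hn : (ComplexShape.up ℤ).next (n - 1) = n := by simp
  rw [ConcreteCategory.isIso_iff_bijective]
  exact ⟨Groth.Agent.MLLim8.injective_post K n Groth.Agent.InvSys.hcof_nat hm
    (Groth.Agent.MLLim8.isML_cyc K hl hn h2 hC),
    Groth.Agent.MLLim8.surjective_post K n Groth.Agent.InvSys.hcof_nat hm h1⟩


end Groth.Agent.S6807
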