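import Groth.Statements.S6808
import Mathlib.AlgebraicTopology.SimplicialSet.Degenerate

set_option autoImplicit false
open CategoryTheory Opposite
universe u
open SSet

namespace Groth.Agent.S6808

/-- A map of simplicial sets preserving non-degeneracy of simplices and injective on non-degenerate
simplices is injective in every dimension. -/
theorem result {U V : SSet.{u}} (f : U ⟶ V) (ha : ∀ (n : ℕ) (x : U.obj (op (SimplexCategory.mk n))), x ∈ U.nonDegenerate n → f.app (op (SimplexCategory.mk n)) x ∈ V.nonDegenerate n) (hb : ∀ n : ℕ, Set.InjOn (f.app (op (SimplexCategory.mk n))) (U.nonDegenerate n)) (n : ℕ) : Function.Injective (f.app (op (SimplexCategory.mk n))) := by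
  intro x x' hxx
  obtain ⟨m, p, hp, y, rfl⟩ := U.exists_nonDegenerate x
  obtain ⟨m', p', hp', y', rfl⟩ := U.exists_nonDegenerate x'
  rw [NatTrans.naturality_apply, NatTrans.naturality_apply] at hxx
  set z : V.nonDegenerate m := ⟨f.app (op (SimplexCategory.mk m)) y.1, ha m y.1 y.2⟩ with hz
  set z' : V.nonDegenerate m' := ⟨f.app (op (SimplexCategory.mk m')) y'.1, ha m' y'.1 y'.2⟩ with hz'
  obtain rfl := V.unique_nonDegenerate_dim _ p z rfl p' z' hxx
  have h1 : z = z' := V.unique_nonDegenerate_simplex _ p z rfl p' z' hxx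
  have h2 : p = p' := V.unique_nonDegenerate_map _ p z rfl p' z' hxx
  have h3 : y.1 = y'.1 := hb m y.2 y'.2 (congrArg Subtype.val h1)
  rw [h2, h3]

end Groth.Agent.S6808
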