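import Groth.Statements.S6810
import Mathlib.Data.Finite.Sigma

set_option autoImplicit false
open CategoryTheory CategoryTheory.Limits
universe v u
open CategoryTheory CategoryTheory.SimplicialObject CategoryTheory.SimplicialObject.Truncated

namespace Groth.Agent.S6810
open CategoryTheory CategoryTheory.Limits



/-- In a category with finite colimits every truncated simplicial object has a pointwise left Kan
extension along the inclusion of the truncated simplex category, i.e. the left adjoints `i_{m!}` of
truncation exist and are given by the colimit formula. -/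
theorem result {C : Type u} [Category.{v} C] [HasFiniteColimits C] (m : ℕ) (U : (SimplexCategory.Truncated m)ᵒᵖ ⥤ C) : (SimplexCategory.Truncated.inclusion m).op.HasPointwiseLeftKanExtension U := by
  intro Y
  haveI : Finite (SimplexCategory.Truncated m)ᵒᵖ := Finite.of_injective
    (fun X : (SimplexCategory.Truncated m)ᵒᵖ => (⟨X.unop.obj.len, Nat.lt_succ_of_le X.unop.property⟩ : Fin (m + 1)))
    (fun X Z h => Opposite.unop_injective (ObjectProperty.FullSubcategory.ext (SimplexCategory.ext (congrArg Fin.val h))))
  haveI : ∀ X Z : (SimplexCategory.Truncated m)ᵒᵖ, Finite (X ⟶ Z) := fun X Z => Finite.of_injective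
    (fun f => f.unop.hom) (fun f g h => Quiver.Hom.unop_inj (ObjectProperty.hom_ext _ h))
  haveI : ∀ X : (SimplexCategory.Truncated m)ᵒᵖ,
      Finite ((SimplexCategory.Truncated.inclusion m).op.obj X ⟶ Y) := fun X =>
    Finite.of_injective (fun f => f.unop) (fun f g h => Quiver.Hom.unop_inj h)
  haveI : Finite (CostructuredArrow (SimplexCategory.Truncated.inclusion m).op Y) := Finite.of_injective
    (fun A => (⟨A.left, A.hom⟩ : Σ X : (SimplexCategory.Truncated m)ᵒᵖ,
      (SimplexCategory.Truncated.inclusion m).op.obj X ⟶ Y))
    (fun A B h => by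
      obtain ⟨a, ⟨⟨⟩⟩, f⟩ := A
      obtain ⟨b, ⟨⟨⟩⟩, g⟩ := B
      obtain ⟨rfl, h⟩ := Sigma.mk.inj_iff.1 h
      obtain rfl := eq_of_heq h
      rfl)
  haveI : ∀ A B : CostructuredArrow (SimplexCategory.Truncated.inclusion m).op Y, Finite (A ⟶ B) :=
    fun A B => Finite.of_injective (fun f => f.left) fun f g h => CostructuredArrow.hom_ext _ _ h
  letI := Fintype.ofFinite (CostructuredArrow (SimplexCategory.Truncated.inclusion m).op Y)
  letI : ∀ A B : CostructuredArrow (SimplexCategory.Truncated.inclusion m).op Y, Fintype (A ⟶ B) :=
    fun A B => Fintype.ofFinite _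
  letI : FinCategory (CostructuredArrow (SimplexCategory.Truncated.inclusion m).op Y) := {}
  exact inferInstanceAs (HasColimit (CostructuredArrow.proj (SimplexCategory.Truncated.inclusion m).op Y ⋙ U))


end Groth.Agent.S6810
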