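import Groth.Statements.S6811
import Mathlib

set_option autoImplicit false
open CategoryTheory CategoryTheory.Limits
universe v u
open CategoryTheory CategoryTheory.SimplicialObject

namespace Groth.Agent.S6811

open Simplicial SimplexCategory Opposite

section
variable {E : Type u} [Category.{v} E] [HasFiniteLimits E] (n : ℕ)

instance finiteObj (q : SimplexCategory) :
    Finite (StructuredArrow (op q) (SimplexCategory.Truncated.inclusion n).op) := by
  refine Finite.of_surjective (α := Σ m : Fin (n + 1), (⦋m.val⦌ ⟶ q))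
    (fun p => StructuredArrow.mk (Y := op (⟨⦋p.1.val⦌, Nat.lt_succ_iff.1 p.1.isLt⟩ :
      SimplexCategory.Truncated n)) p.2.op) ?_
  rintro ⟨⟨⟨⟩⟩, ⟨⟨⟨m⟩, hm⟩⟩, θ⟩
  exact ⟨⟨⟨m, Nat.lt_succ_of_le hm⟩, θ.unop⟩, rfl⟩

noncomputable instance finCat (q : SimplexCategory) :
    FinCategory (StructuredArrow (op q) (SimplexCategory.Truncated.inclusion n).op) := by
  haveI : ∀ j j' : StructuredArrow (op q) (SimplexCategory.Truncated.inclusion n).op,
      Finite (j ⟶ j') := fun j j' =>
    Finite.of_injective (fun φ => (φ.right.unop.hom : j'.right.unop.obj ⟶ j.right.unop.obj))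
      (fun φ ψ h => StructuredArrow.hom_ext _ _ (Quiver.Hom.unop_inj (ObjectProperty.hom_ext _ h)))
  exact @FinCategory.mk _ _ (Fintype.ofFinite _) fun j j' => Fintype.ofFinite _

instance hasPtwise (F : (SimplexCategory.Truncated n)ᵒᵖ ⥤ E) :
    (SimplexCategory.Truncated.inclusion n).op.HasPointwiseRightKanExtension F := fun q => by
  obtain ⟨q⟩ := q
  infer_instance

end



/-- In a category with finite limits, an `n`-coskeletal simplicial object is `m`-coskeletal for every `m
≥ n`. -/
theorem result {C : Type u} [Category.{v} C] [HasFiniteLimits C] (U : SimplicialObject C) {n m : ℕ} (h : n ≤ m) [U.IsCoskeletal n] : U.IsCoskeletal m := by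
  let i' := (SimplexCategory.Truncated.inclusion n).op
  let j' := (SimplexCategory.Truncated.inclusion m).op
  have hext : ∀ {T : C} {q : SimplexCategory} {h h' : T ⟶ U.obj (op q)},
      (∀ (k : SimplexCategory), k.len ≤ n → ∀ θ : k ⟶ q, h ≫ U.map θ.op = h' ≫ U.map θ.op) → h = h' := by
    intro T q h h' e
    refine ((Functor.isPointwiseRightKanExtensionOfIsRightKanExtension U (𝟙 (i' ⋙ U))) (op q)).hom_ext fun w => ?_
    change h ≫ U.map w.hom ≫ 𝟙 _ = h' ≫ U.map w.hom ≫ 𝟙 _
    rw [Category.comp_id]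
    exact e w.right.unop.obj w.right.unop.property w.hom.unop
  let res : ∀ (D : SimplicialObject C), (j' ⋙ D ⟶ j' ⋙ U) → (i' ⋙ D ⟶ i' ⋙ U) := fun D β =>
    { app := fun d => β.app (op ⟨d.unop.obj, d.unop.property.trans h⟩)
      naturality := fun d d' g => β.naturality (Quiver.Hom.op (ObjectProperty.homMk g.unop.hom :
        (⟨d'.unop.obj, d'.unop.property.trans h⟩ : SimplexCategory.Truncated m) ⟶ ⟨d.unop.obj, d.unop.property.trans h⟩)) }
  refine ⟨⟨⟨IsTerminal.ofUniqueHom
    (fun G => CostructuredArrow.homMk (U.liftOfIsRightKanExtension (𝟙 _) G.left (res G.left G.hom)) ?_)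
    (fun G m₁ => ?_)⟩⟩⟩
  · ext d : 2
    refine (Category.comp_id _).trans ?_
    refine hext fun k hk θ => ?_
    let d' : (SimplexCategory.Truncated m)ᵒᵖ := op ⟨k, hk.trans h⟩
    have hn := G.hom.naturality (X := d) (Y := d') (Quiver.Hom.op (ObjectProperty.homMk θ :
      (⟨k, hk.trans h⟩ : SimplexCategory.Truncated m) ⟶ d.unop))
    have hf := congrArg (fun t => t.app (op ⟨k, hk⟩))
      (U.liftOfIsRightKanExtension_fac (𝟙 (i' ⋙ U)) G.left (res G.left G.hom))
    change _ ≫ 𝟙 _ = G.hom.app d' at hf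
    rw [Category.comp_id] at hf
    refine Eq.trans ?_ hn
    exact ((U.liftOfIsRightKanExtension (𝟙 _) G.left (res G.left G.hom)).naturality θ.op).symm.trans
      (congrArg (_ ≫ ·) hf)
  · refine CostructuredArrow.hom_ext _ _ ?_
    refine U.hom_ext_of_isRightKanExtension (𝟙 (i' ⋙ U)) _ _ ?_
    change _ = Functor.whiskerLeft _ (U.liftOfIsRightKanExtension (𝟙 _) G.left (res G.left G.hom)) ≫ _
    rw [U.liftOfIsRightKanExtension_fac]
    ext d : 2
    exact congrArg (fun t => t.app (op ⟨d.unop.obj, d.unop.property.trans h⟩)) (CostructuredArrow.w m₁)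


end Groth.Agent.S6811
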