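import Groth.Statements.S6812
import Mathlib.AlgebraicTopology.SimplicialSet.Skeleton
import Mathlib.CategoryTheory.Functor.KanExtension.Pointwise
import Mathlib.CategoryTheory.Limits.Types.Colimits

set_option autoImplicit false
open CategoryTheory
universe u
open SSet

namespace Groth.Agent.S6812
open CategoryTheory Limits Opposite Simplicial SimplexCategory

/-- For a simplicial set `U`, the counit `i_{n!} sk_n U ⟶ U` of the skeleton adjunction is a
monomorphism whose image is the subcomplex of `U` generated by its simplices of dimension `≤ n`. -/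
theorem result (U : SSet.{u}) (n : ℕ) : Mono ((SSet.skAdj n).counit.app U) ∧ SSet.Subcomplex.range ((SSet.skAdj n).counit.app U) = U.skeleton (n + 1) := by
  let T := (SSet.truncation n).obj U
  let S := (SSet.Truncated.sk n).obj T
  let η := (SSet.skAdj n).unit.app T
  let ε := (SSet.skAdj n).counit.app U
  let ob (j : ℕ) (hj : j ≤ n) : (SimplexCategory.Truncated n)ᵒᵖ := op ⟨SimplexCategory.mk j, hj⟩
  let emb (j : ℕ) (hj : j ≤ n) (y : U.obj (op ⦋j⦌)) : S.obj (op ⦋j⦌) := η.app (ob j hj) y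
  have hεη : ∀ j hj y, ε.app (op ⦋j⦌) (emb j hj y) = y := fun j hj y =>
    ConcreteCategory.congr_hom (congrArg (fun a => NatTrans.app a (ob j hj)) ((SSet.skAdj n).right_triangle_components U)) y
  have hnat : ∀ {i j : ℕ} (hi : i ≤ n) (hj : j ≤ n) (g : (⦋i⦌ : SimplexCategory) ⟶ ⦋j⦌) (y : U.obj (op ⦋j⦌)),
      emb i hi (U.map g.op y) = S.map g.op (emb j hj y) := fun {i j} hi hj g y =>
    ConcreteCategory.congr_hom (η.naturality (X := ob j hj) (Y := ob i hi) (ObjectProperty.homMk g).op) y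
  have hS : ∀ {a b c : ℕ} (e : (⦋a⦌ : SimplexCategory) ⟶ ⦋b⦌) (g : (⦋b⦌ : SimplexCategory) ⟶ ⦋c⦌) (s : S.obj (op ⦋c⦌)),
      S.map (e ≫ g).op s = S.map e.op (S.map g.op s) := fun e g s => by rw [op_comp, Functor.map_comp_apply]
  have hE : ∀ {a b : ℕ} (g : (⦋a⦌ : SimplexCategory) ⟶ ⦋b⦌) (s : S.obj (op ⦋b⦌)),
      ε.app (op ⦋a⦌) (S.map g.op s) = U.map g.op (ε.app (op ⦋b⦌) s) := fun g s => NatTrans.naturality_apply ε g.op s
  have rep : ∀ (m : ℕ) (s : S.obj (op ⦋m⦌)), ∃ (j : ℕ) (hj : j ≤ n) (f : (⦋m⦌ : SimplexCategory) ⟶ ⦋j⦌) (_ : Epi f)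
      (z : U.nonDegenerate j), s = S.map f.op (emb j hj z.1) := by
    intro m s
    haveI : S.IsLeftKanExtension η := inferInstanceAs (((SimplicialObject.sk n).obj U).IsLeftKanExtension
      ((SimplicialObject.skAdj n).unit.app _))
    obtain ⟨g, x, rfl⟩ := Types.jointly_surjective_of_isColimit
      (Functor.isPointwiseLeftKanExtensionOfIsLeftKanExtension S η (op ⦋m⦌)) s
    obtain ⟨⟨⟨⟨k⟩, hk⟩⟩, _, θ⟩ := g
    obtain ⟨θ, rfl⟩ : ∃ θ' : (⦋m⦌ : SimplexCategory) ⟶ ⦋k⦌, θ'.op = θ := ⟨θ.unop, rfl⟩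
    show ∃ _ _ _ _ _, S.map θ.op (emb k hk x) = _
    obtain ⟨i, e, δ, he, hδ, rfl⟩ : ∃ (i : ℕ) (e : (⦋m⦌ : SimplexCategory) ⟶ ⦋i⦌) (δ : (⦋i⦌ : SimplexCategory) ⟶ ⦋k⦌),
        Epi e ∧ Mono δ ∧ θ = e ≫ δ :=
      ⟨_, factorThruImage θ, image.ι θ, inferInstance, inferInstance, (image.fac θ).symm⟩
    have hi : i ≤ n := (SimplexCategory.len_le_of_mono δ).trans hk
    obtain ⟨j, π, hπ, z, hz⟩ := U.exists_nonDegenerate (U.map δ.op x)
    refine ⟨j, (SimplexCategory.len_le_of_epi π).trans hi, e ≫ π, inferInstance, z, ?_⟩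
    exact (hS e δ _).trans ((congrArg (S.map e.op) ((hnat hi hk δ x).symm.trans ((congrArg (emb i hi) hz).trans
      (hnat hi _ π z.1)))).trans (hS e π _).symm)
  constructor
  · haveI : ∀ o, Mono (ε.app o) := by
      rintro ⟨⟨m⟩⟩
      refine (mono_iff_injective _).2 fun s s' h => ?_
      obtain ⟨j, hj, f, hf, z, rfl⟩ := rep m s
      obtain ⟨j', hj', f', hf', z', rfl⟩ := rep m s'
      rw [hE, hE, hεη, hεη] at h
      obtain rfl := U.unique_nonDegenerate_dim _ f z rfl f' z' h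
      obtain rfl := U.unique_nonDegenerate_simplex _ f z rfl f' z' h
      obtain rfl := U.unique_nonDegenerate_map _ f z rfl f' z h
      rfl
    exact NatTrans.mono_of_mono_app ε
  · refine le_antisymm ?_ ?_
    · rintro ⟨⟨m⟩⟩ _ ⟨s, rfl⟩
      obtain ⟨j, hj, f, hf, z, rfl⟩ := rep m s
      show ε.app _ _ ∈ _
      rw [hE, hεη]
      exact (U.skeleton (n + 1)).map _ (U.mem_skeleton _ (Nat.lt_succ_of_le hj))
    · refine iSup_le fun i => iSup_le fun z => ?_
      rw [Subfunctor.ofSection_le_iff]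
      exact ⟨emb i (Nat.le_of_lt_succ i.2) z.1, hεη _ _ _⟩

end Groth.Agent.S6812
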