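import Groth.Statements.S6813
import Mathlib

set_option autoImplicit false
open CategoryTheory CategoryTheory.Limits
universe v u
open CategoryTheory CategoryTheory.SimplicialObject

namespace Groth.Agent.S6813

open Simplicial SimplexCategory Opposite

section
variable {E : Type u} [Category.{v} E] [HasFiniteLimits E] (n : ℕ)

instance finiteObj (q : SimplexCategory) :
    Finite (StructuredArrow (op q) (SimplexCategory.Truncated.inclusion n).op) := by
  refine Finite.of_surjective (α := Σ m : Fin (n + 1), (⦋m.val⦌ ⟶ q))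
    (fun p => StructuredArrow.mk (Y := op (⟨⦋p.1.val⦌, Nat.lt_succ_iff.1 p.1.isLt⟩ :
      SimplexCategory.Truncated n)) p.2.op) ?_
  rintro ⟨⟨⟨⟩⟩, ⟨⟨⟨m⟩, hm⟩⟩, θ⟩
  exact ⟨⟨⟨m, Nat.lt_succ_of_le hm⟩, θ.unop⟩, rfl⟩

noncomputable instance finCat (q : SimplexCategory) :
    FinCategory (StructuredArrow (op q) (SimplexCategory.Truncated.inclusion n).op) := by
  haveI : ∀ j j' : StructuredArrow (op q) (SimplexCategory.Truncated.inclusion n).op,
      Finite (j ⟶ j') := fun j j' =>
    Finite.of_injective (fun φ => (φ.right.unop.hom : j'.right.unop.obj ⟶ j.right.unop.obj))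
      (fun φ ψ h => StructuredArrow.hom_ext _ _ (Quiver.Hom.unop_inj (ObjectProperty.hom_ext _ h)))
  exact @FinCategory.mk _ _ (Fintype.ofFinite _) fun j j' => Fintype.ofFinite _

instance hasPtwise (F : (SimplexCategory.Truncated n)ᵒᵖ ⥤ E) :
    (SimplexCategory.Truncated.inclusion n).op.HasPointwiseRightKanExtension F := fun q => by
  obtain ⟨q⟩ := q
  infer_instance

end



/-- For `k ≥ 1` the forgetful functor from the over category `C/X` to `C` (with `C` having finite
limits) commutes with `cosk_k`; stated as: a `k`-coskeletal simplicial object of `C/X` has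
`k`-coskeletal underlying simplicial object in `C`. -/
theorem result {C : Type u} [Category.{v} C] [HasFiniteLimits C] (X : C) (k : ℕ) (hk : 1 ≤ k) (V : SimplicialObject (Over X)) [V.IsCoskeletal k] : SimplicialObject.IsCoskeletal (V ⋙ Over.forget X) k := by
  haveI : ∀ F : (SimplexCategory.Truncated k)ᵒᵖ ⥤ Over X,
      (SimplexCategory.Truncated.inclusion k).op.HasPointwiseRightKanExtension F := fun F => hasPtwise k F
  let i' := (SimplexCategory.Truncated.inclusion k).op
  have hl := fun q => (Functor.isPointwiseRightKanExtensionOfIsRightKanExtension V (𝟙 (i' ⋙ V))) q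
  refine ⟨Functor.RightExtension.IsPointwiseRightKanExtension.isRightKanExtension
    (E := Functor.RightExtension.mk (V ⋙ Over.forget X) (𝟙 _)) fun q => ?_⟩
  obtain ⟨q⟩ := q
  let J := StructuredArrow (op q) i'
  let ob : ∀ {j : SimplexCategory}, j.len ≤ k → (j ⟶ q) → J := fun {j} hj θ =>
    StructuredArrow.mk (Y := op (⟨j, hj⟩ : SimplexCategory.Truncated k)) θ.op
  haveI : Nonempty J := ⟨ob (j := ⦋0⦌) (Nat.zero_le _) (SimplexCategory.const _ _ 0)⟩
  let v : Fin (q.len + 1) → J := fun a => ob (j := ⦋0⦌) (Nat.zero_le _) (SimplexCategory.const _ _ a)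
  have arr : ∀ {j j' : SimplexCategory} (hj : j.len ≤ k) (hj' : j'.len ≤ k) (φ : j' ⟶ j) (θ : j ⟶ q) (θ' : j' ⟶ q),
      φ ≫ θ = θ' → Zigzag (ob hj θ) (ob hj' θ') := fun {j j'} hj hj' φ θ θ' e =>
    Zigzag.of_hom (StructuredArrow.homMk (Quiver.Hom.op (ObjectProperty.homMk φ :
      (⟨j', hj'⟩ : SimplexCategory.Truncated k) ⟶ ⟨j, hj⟩)) (Quiver.Hom.unop_inj e))
  have hobj : ∀ w : J, ∃ a, Zigzag w (v a) := fun w => ⟨w.hom.unop.toOrderHom 0,
    arr w.right.unop.property (Nat.zero_le _) (SimplexCategory.const ⦋0⦌ _ 0) w.hom.unop _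
      (SimplexCategory.const_comp _ _ _)⟩
  have hle : ∀ a b, a ≤ b → Zigzag (v a) (v b) := fun a b hab => by
    let e := SimplexCategory.mkOfLe a b hab
    exact (arr (j := ⦋1⦌) (j' := ⦋0⦌) hk (Nat.zero_le _) (SimplexCategory.const _ _ 0) e _
        (SimplexCategory.const_comp _ _ _)).symm.trans
      (arr (j := ⦋1⦌) (j' := ⦋0⦌) hk (Nat.zero_le _) (SimplexCategory.const _ _ 1) e _
        (SimplexCategory.const_comp _ _ _))
  haveI : IsConnected J := zigzag_isConnected fun w w' => by
    obtain ⟨a, ha⟩ := hobj w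
    obtain ⟨b, hb⟩ := hobj w'
    rcases le_total a b with hab | hab
    · exact ha.trans ((hle a b hab).trans hb.symm)
    · exact ha.trans ((hle b a hab).symm.trans hb.symm)
  exact (isLimitOfPreserves (Over.forget X) (hl (op q))).ofIsoLimit (Cone.ext (Iso.refl _) fun w => by
    change (V.map w.hom ≫ 𝟙 _).left = 𝟙 _ ≫ (V.map w.hom).left ≫ 𝟙 _
    simp)


end Groth.Agent.S6813
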