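import Groth.Statements.S6814


set_option autoImplicit false
set_option maxHeartbeats 1000000
set_option backward.isDefEq.respectTransparency false
open CategoryTheory CategoryTheory.Limits Opposite
universe v u
open CategoryTheory CategoryTheory.SimplicialObject CategoryTheory.SimplicialObject.Truncated

namespace Groth.Agent.S6814

/-- Let `U` be an `(n+1)`-truncated simplicial object of a category `C` (so the truncation level is at
least `1`), and let `T` be an object with morphisms `π_0, …, π_{n+2} : T ⟶ U_{n+1}` satisfying the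
face relations `d_j π_i = d_i π_{j+1}` for `i ≤ j` and universal among such families (that is, `T`
represents the functor of `(n+3)`-tuples of morphisms to `U_{n+1}` satisfying the face relations).
Then `U` extends to an `(n+2)`-truncated simplicial object right adjoint to restriction: the
pointwise right Kan extension of `U` along the inclusion of `(n+1)`-truncated into `(n+2)`-truncated
simplex categories exists, and for any right Kan extension `V` of `U` the morphism `V_{n+2} ⟶ T`
matching the faces of `V` with the `π_k` is an isomorphism (the new top term is the representing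
object). -/
theorem result {C : Type u} [Category.{v} C] (n : ℕ) (U : (SimplexCategory.Truncated (n + 1))ᵒᵖ ⥤ C) (T : C) (π : Fin (n + 3) → (T ⟶ U.obj (op ⟨SimplexCategory.mk (n + 1), (SimplexCategory.len_mk (n + 1)).le⟩))) (hπ : ∀ i j : Fin (n + 2), i ≤ j → π (Fin.castSucc i) ≫ U.map (SimplexCategory.Truncated.δ (n + 1) j ((SimplexCategory.len_mk n).trans_le (Nat.le_succ n)) (SimplexCategory.len_mk (n + 1)).le).op = π j.succ ≫ U.map (SimplexCategory.Truncated.δ (n + 1) i ((SimplexCategory.len_mk n).trans_le (Nat.le_succ n)) (SimplexCategory.len_mk (n + 1)).le).op) (huniv : ∀ (S : C) (g : Fin (n + 3) → (S ⟶ U.obj (op ⟨SimplexCategory.mk (n + 1), (SimplexCategory.len_mk (n + 1)).le⟩))), (∀ i j : Fin (n + 2), i ≤ j → g (Fin.castSucc i) ≫ U.map (SimplexCategory.Truncated.δ (n + 1) j ((SimplexCategory.len_mk n).trans_le (Nat.le_succ n)) (SimplexCategory.len_mk (n + 1)).le).op = g j.succ ≫ U.map (SimplexCategory.Truncated.δ (n + 1) i ((SimplexCategory.len_mk n).trans_le (Nat.le_succ n)) (SimplexCategory.len_mk (n + 1)).le).op) → ∃! t :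 S ⟶ T, ∀ k : Fin (n + 3), t ≫ π k = g k) : (SimplexCategory.Truncated.incl (n + 1) (n + 2) (Nat.le_succ _)).op.HasPointwiseRightKanExtension U ∧ ∀ (V : (SimplexCategory.Truncated (n + 2))ᵒᵖ ⥤ C) (α : (SimplexCategory.Truncated.incl (n + 1) (n + 2) (Nat.le_succ _)).op ⋙ V ⟶ U) [V.IsRightKanExtension α] (t : V.obj (op ⟨SimplexCategory.mk (n + 2), (SimplexCategory.len_mk (n + 2)).le⟩) ⟶ T), (∀ k : Fin (n + 3), t ≫ π k = V.map (SimplexCategory.Truncated.δ (n + 2) k ((SimplexCategory.len_mk (n + 1)).trans_le (Nat.le_succ (n + 1))) (SimplexCategory.len_mk (n + 2)).le).op ≫ α.app (op ⟨SimplexCategory.mk (n + 1), (SimplexCategory.len_mk (n + 1)).le⟩)) → IsIso t := by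
  classical
  let L := (SimplexCategory.Truncated.incl (n + 1) (n + 2) (Nat.le_succ _)).op
  let Y : (SimplexCategory.Truncated (n + 2))ᵒᵖ := op ⟨SimplexCategory.mk (n + 2), (SimplexCategory.len_mk (n + 2)).le⟩
  let X₁ : SimplexCategory.Truncated (n + 1) := ⟨SimplexCategory.mk (n + 1), (SimplexCategory.len_mk (n + 1)).le⟩
  let X₀ : SimplexCategory.Truncated (n + 1) := ⟨SimplexCategory.mk n, (SimplexCategory.len_mk n).trans_le (Nat.le_succ n)⟩
  -- the value attached to a factorization through a face
  let v : ∀ (X : SimplexCategory.Truncated (n + 1)) (k : Fin (n + 3)) (b : X ⟶ X₁), T ⟶ U.obj (op X) :=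
    fun X k b => π k ≫ U.map b.op
  have hind' : ∀ (X : SimplexCategory.Truncated (n + 1)) (k l : Fin (n + 3)) (b b' : X ⟶ X₁), k < l →
      b.hom ≫ SimplexCategory.δ k = b'.hom ≫ SimplexCategory.δ l → v X k b = v X l b' := by
    intro X k l b b' hkl he
    obtain ⟨i, rfl⟩ : ∃ i : Fin (n + 2), i.castSucc = k :=
      ⟨k.castPred (Fin.ne_last_of_lt hkl), Fin.castSucc_castPred _ _⟩
    obtain ⟨j, rfl⟩ : ∃ j : Fin (n + 2), j.succ = l :=
      ⟨l.pred (Fin.ne_zero_of_lt hkl), Fin.succ_pred _ _⟩
    have hij : i ≤ j := Fin.castSucc_lt_succ_iff.1 hkl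
    have hmiss : ∀ x, b.hom.toOrderHom x ≠ j := by
      intro x hx
      have h1 := congrArg (fun f => SimplexCategory.Hom.toOrderHom f x) he
      change i.castSucc.succAbove (b.hom.toOrderHom x) = j.succ.succAbove (b'.hom.toOrderHom x) at h1
      rw [hx, Fin.succAbove_of_le_castSucc _ _ (Fin.castSucc_le_castSucc_iff.2 hij)] at h1
      exact Fin.succAbove_ne _ _ h1.symm
    obtain ⟨c, hc⟩ := SimplexCategory.eq_comp_δ_of_not_surjective' b.hom j hmiss
    have hb' : b'.hom = c ≫ SimplexCategory.δ i := by
      rw [← cancel_mono (SimplexCategory.δ j.succ), ← he, hc, Category.assoc, Category.assoc]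
      exact congrArg (fun t => c ≫ t) (SimplexCategory.δ_comp_δ hij).symm
    let c' : X ⟶ X₀ := ObjectProperty.homMk c
    have e1 : b = c' ≫ SimplexCategory.Truncated.δ (n + 1) j ((SimplexCategory.len_mk n).trans_le (Nat.le_succ n))
        (SimplexCategory.len_mk (n + 1)).le := ObjectProperty.hom_ext _ hc
    have e2 : b' = c' ≫ SimplexCategory.Truncated.δ (n + 1) i ((SimplexCategory.len_mk n).trans_le (Nat.le_succ n))
        (SimplexCategory.len_mk (n + 1)).le := ObjectProperty.hom_ext _ hb'
    simp only [v, e1, e2, op_comp, Functor.map_comp, reassoc_of% (hπ i j hij)]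
  have hind : ∀ (X : SimplexCategory.Truncated (n + 1)) (k l : Fin (n + 3)) (b b' : X ⟶ X₁),
      b.hom ≫ SimplexCategory.δ k = b'.hom ≫ SimplexCategory.δ l → v X k b = v X l b' := by
    intro X k l b b' he
    rcases lt_trichotomy k l with h | h | h
    · exact hind' X k l b b' h he
    · subst h
      rw [show b = b' from ObjectProperty.hom_ext _ ((cancel_mono (SimplexCategory.δ k)).1 he)]
    · exact (hind' X l k b' b h he.symm).symm
  have hfac : ∀ g : StructuredArrow Y L, ∃ (k : Fin (n + 3)) (b : g.right.unop ⟶ X₁),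
      g.hom.unop.hom = b.hom ≫ SimplexCategory.δ k := by
    intro g
    obtain ⟨k, b, hb⟩ := SimplexCategory.eq_comp_δ_of_not_surjective (n := n + 1) g.hom.unop.hom (fun hs => by
      have h := Fintype.card_le_of_surjective _ hs
      simp only [Fintype.card_fin] at h
      have h' : g.right.unop.obj.len ≤ n + 1 := g.right.unop.property
      have h2 : g.right.unop.obj.len = (L.obj g.right).unop.obj.len := rfl
      omega)
    exact ⟨k, ObjectProperty.homMk b, hb⟩
  choose kk bb hkb using hfac
  let c : Cone (StructuredArrow.proj Y L ⋙ U) :=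
    { pt := T
      π :=
        { app := fun g => v g.right.unop (kk g) (bb g)
          naturality := fun g₁ g₂ f => by
            have hw := congrArg (fun t : Y ⟶ L.obj g₂.right => t.unop.hom) (StructuredArrow.w f)
            change f.right.unop.hom ≫ g₁.hom.unop.hom = g₂.hom.unop.hom at hw
            change 𝟙 T ≫ v g₂.right.unop (kk g₂) (bb g₂) = v g₁.right.unop (kk g₁) (bb g₁) ≫ U.map f.right
            rw [Category.id_comp, show v g₁.right.unop (kk g₁) (bb g₁) ≫ U.map f.right =
              v g₂.right.unop (kk g₁) (f.right.unop ≫ bb g₁) by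
              simp only [v, op_comp, Quiver.Hom.op_unop, Functor.map_comp, Category.assoc]]
            apply hind
            change (bb g₂).hom ≫ _ = (f.right.unop.hom ≫ (bb g₁).hom) ≫ _
            rw [Category.assoc, ← hkb, ← hkb, hw] } }
  let face : Fin (n + 3) → StructuredArrow Y L := fun k => StructuredArrow.mk (Y := op X₁)
    (SimplexCategory.Truncated.δ (n + 2) k ((SimplexCategory.len_mk (n + 1)).trans_le (Nat.le_succ (n + 1))) (SimplexCategory.len_mk (n + 2)).le).op
  have hface : ∀ k, c.π.app (face k) = π k := fun k => by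
    have := hind X₁ (kk (face k)) k (bb (face k)) (𝟙 _) (by rw [← hkb]; exact (Category.id_comp _).symm)
    refine this.trans ?_
    simp only [v, op_id]
    rw [U.map_id]
    exact Category.comp_id _
  have hrel : ∀ (s : Cone (StructuredArrow.proj Y L ⋙ U)) (i j : Fin (n + 2)), i ≤ j →
      s.π.app (face i.castSucc) ≫ U.map (SimplexCategory.Truncated.δ (n + 1) j ((SimplexCategory.len_mk n).trans_le (Nat.le_succ n)) (SimplexCategory.len_mk (n + 1)).le).op =
        s.π.app (face j.succ) ≫ U.map (SimplexCategory.Truncated.δ (n + 1) i ((SimplexCategory.len_mk n).trans_le (Nat.le_succ n)) (SimplexCategory.len_mk (n + 1)).le).op := by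
    intro s i j hij
    let dj := (SimplexCategory.Truncated.δ (n + 1) j ((SimplexCategory.len_mk n).trans_le (Nat.le_succ n)) (SimplexCategory.len_mk (n + 1)).le).op
    let di := (SimplexCategory.Truncated.δ (n + 1) i ((SimplexCategory.len_mk n).trans_le (Nat.le_succ n)) (SimplexCategory.len_mk (n + 1)).le).op
    let g : StructuredArrow Y L := StructuredArrow.mk (Y := op X₀) ((face i.castSucc).hom ≫ L.map dj)
    have e : (face i.castSucc).hom ≫ L.map dj = (face j.succ).hom ≫ L.map di :=
      Quiver.Hom.unop_inj (ObjectProperty.hom_ext _ (SimplexCategory.δ_comp_δ hij).symm)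
    have h1 := s.w (StructuredArrow.homMk dj rfl : face i.castSucc ⟶ g)
    have h2 := s.w (StructuredArrow.homMk di e.symm : face j.succ ⟶ g)
    exact h1.trans h2.symm
  have hsfac : ∀ (s : Cone (StructuredArrow.proj Y L ⋙ U)) (g : StructuredArrow Y L),
      s.π.app g = s.π.app (face (kk g)) ≫ U.map (bb g).op := fun s g =>
    (s.w (StructuredArrow.homMk (bb g).op
      (Quiver.Hom.unop_inj (ObjectProperty.hom_ext _ (hkb g).symm)) : face (kk g) ⟶ g)).symm
  choose l hl hlu using fun s : Cone (StructuredArrow.proj Y L ⋙ U) =>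
    huniv s.pt (fun k => s.π.app (face k)) (hrel s)
  let hc : IsLimit c :=
    { lift := l
      fac := fun s g => by
        rw [hsfac s g]
        change l s ≫ π (kk g) ≫ U.map (bb g).op = _
        rw [reassoc_of% (hl s (kk g))]
      uniq := fun s m hm => hlu s m fun k => by rw [← hface k]; exact hm (face k) }
  have hpw : L.HasPointwiseRightKanExtension U := by
    rintro ⟨⟨m, hm⟩⟩
    by_cases h : m.len ≤ n + 1
    · let X : SimplexCategory.Truncated (n + 1) := ⟨m, h⟩
      exact ⟨_, limitOfDiagramInitial (StructuredArrow.mkIdInitial (T := L) (Y := op X)) _⟩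
    · obtain rfl : m = SimplexCategory.mk (n + 2) := SimplexCategory.ext (show m.len = n + 2 by omega)
      exact ⟨c, hc⟩
  refine ⟨hpw, fun V α _ t ht => ?_⟩
  have := hpw
  let h := Functor.isPointwiseRightKanExtensionOfIsRightKanExtension V α Y
  let E : L.RightExtension U := Functor.RightExtension.mk V α
  have e : t = (h.conePointUniqueUpToIso hc).hom := by
    refine (hlu (E.coneAt Y) t fun k => ht k).trans ?_
    rfl
  rw [e]
  infer_instance

end Groth.Agent.S6814
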