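import Groth.Statements.S6815

set_option autoImplicit false
open CategoryTheory CategoryTheory.Limits
universe w v u
open CategoryTheory CategoryTheory.SimplicialObject

namespace Groth.Agent.S6815
open CategoryTheory CategoryTheory.Limits Opposite Simplicial



/-- Homotopies between the factors of two product morphisms of simplicial objects assemble to a homotopy
between the products. -/
theorem result {C : Type u} [Category.{v} C] {T : Type w} [HasLimitsOfShape (Discrete T) C] {X Y : T → SimplicialObject C} (a b : ∀ t, X t ⟶ Y t) (h : ∀ t, Nonempty (SimplicialObject.Homotopy (a t) (b t))) : Nonempty (SimplicialObject.Homotopy (Limits.Pi.map a) (Limits.Pi.map b)) := by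
  have key : ∀ (n : ℕ), IsLimit (((evaluation SimplexCategoryᵒᵖ C).obj (op ⦋n⦌)).mapCone (limit.cone (Discrete.functor Y))) :=
    fun n => isLimitOfPreserves _ (limit.isLimit _)
  let H := fun t => (h t).some
  let p : ∀ t, (∏ᶜ Y) ⟶ Y t := fun t => Pi.π Y t
  let q : ∀ t, (∏ᶜ X) ⟶ X t := fun t => Pi.π X t
  let hh : ∀ {n : ℕ} (i : Fin (n + 1)), (∏ᶜ X).obj (op ⦋n⦌) ⟶ (∏ᶜ Y).obj (op ⦋n + 1⦌) := fun {n} i =>
    (key (n + 1)).lift ⟨_, Discrete.natTrans fun t => (q t.as).app (op ⦋n⦌) ≫ ((H t.as).h i : _)⟩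
  have hfac : ∀ {n : ℕ} (i : Fin (n + 1)) (t : T), hh i ≫ (p t).app (op ⦋n + 1⦌) = (q t).app (op ⦋n⦌) ≫ (H t).h i :=
    fun {n} i t => (key (n + 1)).fac _ ⟨t⟩
  have hext : ∀ {n : ℕ} {Z : C} (u w : Z ⟶ (∏ᶜ Y).obj (op ⦋n⦌)), (∀ t, u ≫ (p t).app _ = w ≫ (p t).app _) → u = w :=
    fun {n} {Z} u w e => (key n).hom_ext fun t => e t.as
  have hpY : ∀ {n m : ℕ} (α : op ⦋n⦌ ⟶ op ⦋m⦌) (t : T), (∏ᶜ Y).map α ≫ (p t).app _ = (p t).app _ ≫ (Y t).map α :=
    fun α t => (p t).naturality α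
  have hpX : ∀ {n m : ℕ} (α : op ⦋n⦌ ⟶ op ⦋m⦌) (t : T), (∏ᶜ X).map α ≫ (q t).app _ = (q t).app _ ≫ (X t).map α :=
    fun α t => (q t).naturality α
  have hmap : ∀ (c : ∀ t, X t ⟶ Y t) (n : ℕ) (t : T), (Limits.Pi.map c).app (op ⦋n⦌) ≫ (p t).app _ =
      (q t).app _ ≫ (c t).app _ := fun c n t => by
    rw [← NatTrans.comp_app, ← NatTrans.comp_app]
    exact congrArg (fun f => NatTrans.app f (op ⦋n⦌)) (Limits.Pi.map_π c t)
  have eY : ∀ {n : ℕ} (i : Fin (n + 2)) (t : T), (∏ᶜ Y).δ i ≫ (p t).app _ = (p t).app _ ≫ (Y t).δ i :=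
    fun i t => hpY _ t
  have eX : ∀ {n : ℕ} (i : Fin (n + 2)) (t : T), (∏ᶜ X).δ i ≫ (q t).app _ = (q t).app _ ≫ (X t).δ i :=
    fun i t => hpX _ t
  have eY' : ∀ {n : ℕ} (i : Fin (n + 1)) (t : T), (∏ᶜ Y).σ i ≫ (p t).app _ = (p t).app _ ≫ (Y t).σ i :=
    fun i t => hpY _ t
  have eX' : ∀ {n : ℕ} (i : Fin (n + 1)) (t : T), (∏ᶜ X).σ i ≫ (q t).app _ = (q t).app _ ≫ (X t).σ i :=
    fun i t => hpX _ t
  refine ⟨{ h := fun i => hh i
            h_zero_comp_δ_zero := fun n => hext _ _ fun t => ?_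
            h_last_comp_δ_last := fun n => hext _ _ fun t => ?_
            h_succ_comp_δ_castSucc_of_lt := fun i j hij => hext _ _ fun t => ?_
            h_succ_comp_δ_castSucc_succ := fun j => hext _ _ fun t => ?_
            h_castSucc_comp_δ_succ_of_lt := fun i j hji => hext _ _ fun t => ?_
            h_comp_σ_castSucc_of_le := fun i j hij => hext _ _ fun t => ?_
            h_comp_σ_succ_of_lt := fun i j hji => hext _ _ fun t => ?_ }⟩
  · rw [Category.assoc, eY, reassoc_of% (hfac 0 t), (H t).h_zero_comp_δ_zero, hmap]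
  · rw [Category.assoc, eY, reassoc_of% (hfac _ t), (H t).h_last_comp_δ_last, hmap]
  · rw [Category.assoc, eY, reassoc_of% (hfac _ t), (H t).h_succ_comp_δ_castSucc_of_lt i j hij, Category.assoc, hfac,
      reassoc_of% (eX i t)]
  · rw [Category.assoc, Category.assoc, eY, reassoc_of% (hfac _ t), reassoc_of% (hfac j.castSucc t),
      (H t).h_succ_comp_δ_castSucc_succ j]
  · rw [Category.assoc, eY, reassoc_of% (hfac _ t), (H t).h_castSucc_comp_δ_succ_of_lt i j hji, Category.assoc, hfac,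
      reassoc_of% (eX i t)]
  · rw [Category.assoc, eY', reassoc_of% (hfac _ t), (H t).h_comp_σ_castSucc_of_le i j hij, Category.assoc, hfac,
      reassoc_of% (eX' i t)]
  · rw [Category.assoc, eY', reassoc_of% (hfac _ t), (H t).h_comp_σ_succ_of_lt i j hji, Category.assoc, hfac,
      reassoc_of% (eX' i t)]


end Groth.Agent.S6815
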