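import Groth.Statements.S6816
import Mathlib.Algebra.Homology.HomotopyCategory.DegreewiseSplit

set_option autoImplicit false
open CategoryTheory CategoryTheory.Limits
universe v u
open CochainComplex

namespace Groth.Agent.S6816

/-- Core of the argument. -/
theorem core {C : Type u} [Category.{v} C] [Preadditive C] {A B D : CochainComplex C ℤ}
    (f : A ⟶ B) (g : B ⟶ D) (r r' : ∀ i, B.X i ⟶ A.X i) (s s' : ∀ i, D.X i ⟶ B.X i)
    (fg : ∀ i, f.f i ≫ g.f i = 0)
    (sg : ∀ i, s i ≫ g.f i = 𝟙 _) (sg' : ∀ i, s' i ≫ g.f i = 𝟙 _) (fr : ∀ i, f.f i ≫ r i = 𝟙 _)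
    (tot : ∀ i, r i ≫ f.f i + g.f i ≫ s i = 𝟙 _) (tot' : ∀ i, r' i ≫ f.f i + g.f i ≫ s' i = 𝟙 _)
    (φ φ' : D ⟶ A⟦(1 : ℤ)⟧) (hφ : ∀ i, φ.f i = s i ≫ B.d i (i + 1) ≫ r (i + 1))
    (hφ' : ∀ i, φ'.f i = s' i ≫ B.d i (i + 1) ≫ r' (i + 1)) : Nonempty (Homotopy φ φ') := by
  let u : ∀ i, D.X i ⟶ A.X i := fun i => s' i ≫ r i
  have hs : ∀ i, s' i = s i + u i ≫ f.f i := fun i => by
    simp only [u, Category.assoc, eq_sub_of_add_eq (tot i), Preadditive.comp_sub, reassoc_of% (sg' i), Category.comp_id]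
    abel
  have hr : ∀ i, r' i = r i - g.f i ≫ u i := fun i => by
    have h := congrArg (· ≫ r i) (eq_sub_of_add_eq (tot' i))
    simp only [Category.assoc, fr, Category.comp_id, Preadditive.sub_comp, Category.id_comp] at h
    exact h
  refine ⟨{ hom := fun i j => if hij : j + 1 = i then u i ≫ eqToHom (by rw [← hij]; rfl) else 0
            zero := fun i j hij => dif_neg hij
            comm := fun i => ?_ }⟩
  have hi : (ComplexShape.up ℤ).Rel (i - 1) i := by simp
  have hi' : (ComplexShape.up ℤ).Rel i (i + 1) := by simp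
  have key : s' i ≫ B.d i (i + 1) ≫ r' (i + 1) =
      s i ≫ B.d i (i + 1) ≫ r (i + 1) - D.d i (i + 1) ≫ u (i + 1) + u i ≫ A.d i (i + 1) := by
    rw [hs i, hr (i + 1)]
    simp only [Preadditive.comp_sub, Preadditive.add_comp, Category.assoc, f.comm_assoc, ← g.comm_assoc, fr,
      Category.comp_id, reassoc_of% (sg i), reassoc_of% (fg (i + 1)), reassoc_of% (fg i), zero_comp, comp_zero, sub_zero]
    abel
  rw [dNext_eq _ hi', prevD_eq _ hi, dif_pos (rfl : i + 1 = i + 1), dif_pos (by omega : i - 1 + 1 = i), hφ, hφ', key,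
    show (A⟦(1 : ℤ)⟧).d (i - 1) i = (1 : ℤ).negOnePow • A.d (i - 1 + 1) (i + 1) from rfl]
  obtain ⟨p, rfl⟩ : ∃ p, i = p + 1 := ⟨i - 1, by omega⟩
  have hp : p + 1 - 1 + 1 = p + 1 := by omega
  have : ∀ (q : ℤ) (hq : q = p + 1), (u (p + 1) ≫ eqToHom (congrArg A.X hq.symm)) ≫ ((1 : ℤ).negOnePow • A.d q (p + 1 + 1)) =
      -(u (p + 1) ≫ A.d (p + 1) (p + 1 + 1)) := by
    rintro q rfl
    simp [Int.negOnePow_one]
  erw [this _ hp]
  simp
  abel



/-- The boundary morphisms `C ⟶ A⟦1⟧` attached to two degreewise splittings of a degreewise split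
sequence `A ⟶ B ⟶ C` of cochain complexes are homotopic. -/
theorem result {C : Type u} [Category.{v} C] [Preadditive C] [HasBinaryBiproducts C] (S : ShortComplex (CochainComplex C ℤ)) (σ σ' : ∀ n : ℤ, (S.map (HomologicalComplex.eval C (ComplexShape.up ℤ) n)).Splitting) : Nonempty (Homotopy (CochainComplex.homOfDegreewiseSplit S σ) (CochainComplex.homOfDegreewiseSplit S σ')) := by
  exact core S.f S.g (fun i => (σ i).r) (fun i => (σ' i).r) (fun i => (σ i).s) (fun i => (σ' i).s)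
    (fun i => (S.map (HomologicalComplex.eval C (ComplexShape.up ℤ) i)).zero)
    (fun i => (σ i).s_g) (fun i => (σ' i).s_g) (fun i => (σ i).f_r) (fun i => (σ i).id) (fun i => (σ' i).id)
    _ _ (fun i => CochainComplex.homOfDegreewiseSplit_f S σ i) (fun i => CochainComplex.homOfDegreewiseSplit_f S σ' i)


end Groth.Agent.S6816
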