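import Groth.Statements.S6819
import Groth.Agent.Lib.SimpGen8.Basic

set_option autoImplicit false
open CategoryTheory CategoryTheory.Limits Opposite
universe v u
open CategoryTheory CategoryTheory.Abelian

namespace Groth.Agent.S6819


/-- For a simplicial object `U` of an abelian category, the counit `i_{n!} sk_n U ⟶ U` of the skeleton
adjunction is a monomorphism in each degree, with image the subobject generated by the images of the
maps `U_i ⟶ U_m` induced by `[m] ⟶ [i]`, `i ≤ n`. -/
theorem result {A : Type u} [Category.{v} A] [Abelian A] (U : SimplicialObject A) (n : ℕ) (U' : ∀ m : ℕ, Subobject (U.obj (op (SimplexCategory.mk m)))) (hU' : ∀ m : ℕ, IsLUB (Set.range (fun φ : Σ i : Fin (n + 1), (SimplexCategory.mk m ⟶ SimplexCategory.mk i) => imageSubobject (U.map φ.2.op))) (U' m)) [∀ F : (SimplexCategory.Truncated n)ᵒᵖ ⥤ A, (SimplexCategory.Truncated.inclusion n).op.HasLeftKanExtension F] (m : ℕ) : Mono (((SimplicialObject.skAdj n).counit.app U).app (op (SimplexCategory.mk m))) ∧ imageSubobject (((SimplicialObject.skAdj n).counit.app U).app (op (SimplexCategory.mk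 m))) = U' m := by
  exact ⟨Groth.Agent.SimpGen8.mono_counit_app U n m,
    (Groth.Agent.SimpGen8.image_counit_app U n m).trans ((Groth.Agent.SimpGen8.isLUB_gen U n m).unique (hU' m))⟩


end Groth.Agent.S6819
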