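import Groth.Statements.S6820
import Mathlib.Algebra.Module.LocalizedModule.Basic
import Mathlib.RingTheory.Noetherian.Basic

set_option autoImplicit false
universe u
open Smoothing

namespace Groth.Agent.S6820

/-- Let A be a Noetherian ring, M a finite A-module, S a multiplicative subset of A and π an element of
A such that on the localised module S⁻¹M the kernels of multiplication by π and by π² agree. Then
there is an element s of S such that for every n > 0 the kernels of multiplication by sⁿπ and by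
(sⁿπ)² on M agree. (Kernel equalities are written as implications, the reverse inclusions being
automatic.) -/
theorem result {A : Type u} [CommRing A] [IsNoetherianRing A]
    (M : Type u) [AddCommGroup M] [Module A M] [Module.Finite A M] (S : Submonoid A) (π : A)
    (h : ∀ m : LocalizedModule S M, π ^ 2 • m = 0 → π • m = 0) :
    ∃ s ∈ S, ∀ n : ℕ, 0 < n → ∀ m : M, (s ^ n * π) ^ 2 • m = 0 → (s ^ n * π) • m = 0 := by
  classical
  let N : Submodule A M := LinearMap.ker (LinearMap.lsmul A M (π ^ 2))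
  obtain ⟨T, hT⟩ := (inferInstance : IsNoetherian A M).noetherian N
  have hs : ∀ m ∈ N, ∃ s ∈ S, s • π • m = 0 := fun m hm => by
    have h1 : π • LocalizedModule.mkLinearMap S M m = 0 := h _ (by
      rw [← map_smul, show π ^ 2 • m = 0 from hm, map_zero])
    rw [← map_smul, LocalizedModule.mkLinearMap_apply, ← LocalizedModule.zero_mk (1 : S),
      LocalizedModule.mk_eq] at h1
    obtain ⟨u, hu⟩ := h1
    refine ⟨u, u.2, ?_⟩
    simpa [Submonoid.smul_def] using hu
  choose! s hsS hs0 using hs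
  have hTN : ∀ m ∈ T, m ∈ N := fun m hm => hT ▸ Submodule.subset_span hm
  let s₀ := ∏ m ∈ T, s m
  have hs₀S : s₀ ∈ S := Submonoid.prod_mem _ fun m hm => hsS m (hTN m hm)
  have hs₀ : ∀ m ∈ N, s₀ • π • m = 0 := by
    intro m hm
    rw [← hT] at hm
    induction hm using Submodule.span_induction with
    | mem x hx =>
      obtain ⟨c, hc⟩ : s x ∣ s₀ := Finset.dvd_prod_of_mem _ hx
      rw [hc, mul_comm, mul_smul, hs0 x (hTN x hx), smul_zero]
    | zero => simp
    | add x y _ _ hx hy => rw [smul_add, smul_add, hx, hy, add_zero]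
    | smul c x _ hx => rw [smul_comm π c, smul_comm s₀ c, hx, smul_zero]
  obtain ⟨k₀, hk₀⟩ := (monotone_stabilizes_iff_noetherian (R := A) (M := M)).2 (inferInstance : IsNoetherian A M)
    ⟨fun k => LinearMap.ker (LinearMap.lsmul A M (s₀ ^ k)), fun i j hij x hx => by
      obtain ⟨d, rfl⟩ := Nat.exists_eq_add_of_le hij
      show s₀ ^ (i + d) • x = 0
      rw [pow_add, mul_comm, mul_smul, show s₀ ^ i • x = 0 from hx, smul_zero]⟩
  refine ⟨s₀ ^ (k₀ + 1), pow_mem hs₀S _, fun n hn m hm => ?_⟩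
  have h1 : s₀ ^ (2 * ((k₀ + 1) * n)) • m ∈ N := by
    show π ^ 2 • (s₀ ^ (2 * ((k₀ + 1) * n)) • m) = 0
    rw [smul_smul, ← hm]
    congr 1
    ring
  have h2 := hs₀ _ h1
  have h3 : s₀ ^ (2 * ((k₀ + 1) * n) + 1) • π • m = 0 := by
    rw [pow_succ', mul_smul, smul_comm (s₀ ^ (2 * ((k₀ + 1) * n))) π m]
    exact h2
  have hle1 : k₀ ≤ (k₀ + 1) * n := (Nat.le_succ k₀).trans (Nat.le_mul_of_pos_right _ hn)
  have hle2 : k₀ ≤ 2 * ((k₀ + 1) * n) + 1 := by omega
  have e : LinearMap.ker (LinearMap.lsmul A M (s₀ ^ ((k₀ + 1) * n))) =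
      LinearMap.ker (LinearMap.lsmul A M (s₀ ^ (2 * ((k₀ + 1) * n) + 1))) :=
    (hk₀ _ hle1).symm.trans (hk₀ _ hle2)
  have h4 : π • m ∈ LinearMap.ker (LinearMap.lsmul A M (s₀ ^ (2 * ((k₀ + 1) * n) + 1))) := h3
  rw [← e] at h4
  rw [← pow_mul, mul_smul]
  exact h4

end Groth.Agent.S6820
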