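import Groth.Statements.S6836
import Groth.Agent.Lib.ModFlat16.BasisTop

set_option autoImplicit false
universe u
open CategoryTheory CategoryTheory.Limits TopologicalSpace
open ModSite

namespace Groth.Agent.S6836

/-- On a ringed space (X, O), let r ≥ 0 and let φ : F → G be a map of O-modules which are both finite
locally free of rank r (every point has an open neighbourhood U with F|_U ≅ O_U^r, the free
O_U-module on r generators, and likewise for G). Then φ is an isomorphism if and only if it is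
surjective. -/
theorem result {X : TopCat.{u}} (O : TopCat.Sheaf CommRingCat.{u} X) (r : ℕ)
    {F G : ModSite.Mod O}
    (hF : ∀ x : X, ∃ U : Opens X, x ∈ U ∧
      Nonempty ((ModSite.restr O U).obj F ≅ SheafOfModules.free (ULift.{u} (Fin r))))
    (hG : ∀ x : X, ∃ U : Opens X, x ∈ U ∧
      Nonempty ((ModSite.restr O U).obj G ≅ SheafOfModules.free (ULift.{u} (Fin r))))
    (φ : F ⟶ G) : IsIso φ ↔ Epi φ := by
  refine ⟨fun h => inferInstance, fun h => Groth.Agent.ModFlat16.isIso_of_epi_of_local_bases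
    (ι := ULift.{u} (Fin r)) φ fun x => ?_⟩
  obtain ⟨U, hxU, ⟨θ⟩⟩ := hF x
  obtain ⟨U', hxU', ⟨θ'⟩⟩ := hG x
  obtain ⟨e, he⟩ := Groth.Agent.ModFlat16.isBasis_of_iso θ
  obtain ⟨e', he'⟩ := Groth.Agent.ModFlat16.isBasis_of_iso θ'
  exact ⟨U ⊓ U', ⟨hxU, hxU'⟩, _, _, he.smap (homOfLE inf_le_left), he'.smap (homOfLE inf_le_right)⟩

end Groth.Agent.S6836
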