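import Groth.Statements.S6838
import Groth.Agent.Lib.ModFlat16.Basic
import Mathlib.CategoryTheory.Abelian.GrothendieckAxioms.Basic

set_option autoImplicit false
universe u
open CategoryTheory CategoryTheory.Limits TopologicalSpace
open ModSite

namespace Groth.Agent.S6838
set_option linter.style.haveILetI false
set_option backward.isDefEq.respectTransparency false
set_option backward.isDefEq.respectTransparency.types false
open CategoryTheory CategoryTheory.Limits in
theorem aux {C : Type u} [SmallCategory C] {J : GrothendieckTopology C}
    (O : Sheaf J CommRingCat.{u}) {ι : Type u} (F : ι → ModSite.Mod O)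
    (hF : ∀ i, ModSite.IsFlat (F i)) (c : Cofan F) (hc : IsColimit c) : ModSite.IsFlat c.pt := by
  haveI : AB5OfSize.{u, u} (ModSite.Mod O) := ⟨fun I _ _ => Groth.Agent.S9107.result O I⟩
  haveI : HasFiniteBiproducts (ModSite.Mod O) := HasFiniteBiproducts.of_hasFiniteProducts
  haveI : AB4OfSize.{u} (ModSite.Mod O) := AB4.of_AB5 _
  exact Groth.Agent.ModFlat16.isFlat_colimit hc fun i => hF i.as


/-- On a ringed space (X, O), the direct sum of any family of flat O-modules is flat. (Flat: − ⊗_O F is
exact.) -/
theorem result {X : TopCat.{u}} (O : TopCat.Sheaf CommRingCat.{u} X)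
    {ι : Type u} (F : ι → ModSite.Mod O) (hF : ∀ i, ModSite.IsFlat (F i)) : ModSite.IsFlat (∐ F) := by
  exact aux O F hF _ (coproductIsCoproduct F)

end Groth.Agent.S6838
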