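import Groth.Statements.S6842
import Groth.Agent.Lib.FinPres16.Coprod

set_option autoImplicit false
universe u
open CategoryTheory CategoryTheory.Limits TopologicalSpace
open ModSite

namespace Groth.Agent.S6842
theorem qcAt_of_isCompact {X : TopCat.{u}} {U : Opens X} (hU : IsCompact (U : Set X)) :
    Groth.Agent.FinPres16.QcAt (Opens.grothendieckTopology X) U := by
  intro S hS
  choose W g hg hxW using fun x : U => hS x.1 x.2
  obtain ⟨t, ht⟩ := hU.elim_finite_subcover (fun x => (W x : Set X)) (fun x => (W x).2)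
    fun x hx => Set.mem_iUnion.2 ⟨⟨x, hx⟩, hxW ⟨x, hx⟩⟩
  refine ⟨{x // x ∈ t}, inferInstance, fun x => W x.1, fun x => g x.1, fun x => hg x.1, fun y hy => ?_⟩
  obtain ⟨x, hx⟩ := Set.mem_iUnion.1 (ht hy)
  obtain ⟨hxt, hy'⟩ := Set.mem_iUnion.1 hx
  exact ⟨W x, g x, Sieve.ofArrows_mk (fun x : {x // x ∈ t} => W x.1) (fun x => g x.1) ⟨x, hxt⟩, hy'⟩


/-- Let (X, O) be a ringed space, (F_i)_{i ∈ I} a family of O-modules and U ⊆ X a quasi-compact open.
Then the canonical map ⊕_i F_i(U) → (⊕_i F_i)(U) is bijective: every section of the direct sum over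
U is a finite sum of images of sections of the F_i over U (surjectivity), and such a finite sum
vanishes only if each term's section is zero (injectivity). -/
theorem result {X : TopCat.{u}} (O : TopCat.Sheaf CommRingCat.{u} X)
    {I : Type u} (F : I → ModSite.Mod O) [HasCoproduct F] (U : Opens X) (hU : IsCompact (U : Set X)) :
    (∀ s : ModSite.sect (∐ F) U, ∃ (S : Finset I) (t : ∀ i, ModSite.sect (F i) U),
        s = ∑ i ∈ S, ((Sigma.ι F i).val.app (Opposite.op U)).hom (t i)) ∧
      ∀ (S : Finset I) (t : ∀ i, ModSite.sect (F i) U),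
        ∑ i ∈ S, ((Sigma.ι F i).val.app (Opposite.op U)).hom (t i) = 0 → ∀ i ∈ S, t i = 0 := by
  classical
  refine ⟨fun s => ?_, fun S t h i hi => ?_⟩
  · obtain ⟨S, -, hs⟩ := Groth.Agent.FinPres16.exists_finite_sum F (qcAt_of_isCompact hU) s
    exact ⟨S, _, hs⟩
  · have e := Groth.Agent.FinPres16.proj_comb F S t i
    rw [if_pos hi] at e
    exact e.symm.trans ((congrArg (fun w => (Groth.Agent.FinPres16.coprodProj F i).val.app (Opposite.op U) w) h).trans
      (map_zero _))

end Groth.Agent.S6842
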