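import Groth.Statements.S6853
import Groth.Agent.Lib.PullTen16.PullTensor
import Groth.Agent.S6165
import Groth.Agent.Lib.SiteTen16.Assoc
import Groth.Agent.Lib.ModFlat16.Proj
import Groth.Agent.Lib.ModFlat16.PullUnit

set_option autoImplicit false
universe u
open CategoryTheory CategoryTheory.Limits TopologicalSpace
open ModSite

namespace Groth.Agent.S6853
set_option linter.style.haveILetI false
set_option backward.isDefEq.respectTransparency false
set_option backward.isDefEq.respectTransparency.types false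
open CategoryTheory CategoryTheory.Limits Groth.Agent.KFlat Groth.Agent.KFlat.Site

/-- Let f : (X, O_X) → (Y, O_Y) be a morphism of ringed spaces and L an invertible O_Y-module, i.e. N ↦
L ⊗ N is an equivalence of Mod(O_Y). Then f^*L is an invertible O_X-module: M ↦ f^*L ⊗ M is an
equivalence of Mod(O_X). -/
theorem result {X Y : TopCat.{u}} (f : X ⟶ Y) (O_X : TopCat.Sheaf CommRingCat.{u} X)
    (O_Y : TopCat.Sheaf CommRingCat.{u} Y)
    (c : O_Y ⟶ ((TopologicalSpace.Opens.map f).sheafPushforwardContinuous CommRingCat.{u}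
      (Opens.grothendieckTopology Y) (Opens.grothendieckTopology X)).obj O_X)
    (L : ModSite.Mod O_Y) (hL : ((ModSite.tensorBi O_Y).obj L).IsEquivalence) :
    ((ModSite.tensorBi O_X).obj ((ModSite.RMor.ofFlat (TopologicalSpace.Opens.map f) c).pull.obj L)).IsEquivalence := by
  let F := ModSite.RMor.ofFlat (TopologicalSpace.Opens.map f) c
  haveI : ((TS O_Y).obj L).IsEquivalence := hL
  let L₀ := ((TS O_Y).obj L).asEquivalence.inverse.obj (ModSite.unit O_Y)
  let e : ((TS O_Y).obj L).obj L₀ ≅ ModSite.unit O_Y :=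
    ((TS O_Y).obj L).asEquivalence.counitIso.app (ModSite.unit O_Y)
  haveI := Groth.Agent.S6165.result O_X (F.pull.obj L₀)
  haveI := Groth.Agent.S6165.result O_Y L₀
  let i : ((TS O_X).obj (F.pull.obj L)).obj (F.pull.obj L₀) ≅ ModSite.unit O_X :=
    Groth.Agent.PullTen16.pullTensorIso F L L₀ ≪≫ F.pull.mapIso e ≪≫ Groth.Agent.ModFlat16.pullUnitIso F
  let j : ((TS O_X).obj (F.pull.obj L₀)).obj (F.pull.obj L) ≅ ModSite.unit O_X :=
    ((flipObjIso O_X (F.pull.obj L)).app (F.pull.obj L₀)).symm ≪≫ i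
  let a : ∀ A B : ModSite.Mod O_X, (TS O_X).obj (((TS O_X).obj A).obj B) ≅ (TS O_X).obj B ⋙ (TS O_X).obj A :=
    fun A B => ((SiteTen16.assocIso O_X).app A).app B
  let P := (TS O_X).obj (F.pull.obj L)
  let Q := (TS O_X).obj (F.pull.obj L₀)
  have e1 : Q ⋙ P ≅ 𝟭 _ := (a (F.pull.obj L) (F.pull.obj L₀)).symm ≪≫ (TS O_X).mapIso i ≪≫ ModFlat16.unitTensorIso O_X
  have e2 : P ⋙ Q ≅ 𝟭 _ := (a (F.pull.obj L₀) (F.pull.obj L)).symm ≪≫ (TS O_X).mapIso j ≪≫ ModFlat16.unitTensorIso O_X
  exact (CategoryTheory.Equivalence.mk P Q e2.symm e1).isEquivalence_functor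

end Groth.Agent.S6853
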