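import Groth.Statements.S6855
import Mathlib.Topology.Sheaves.Stalks
import Mathlib.Algebra.Category.Ring.FilteredColimits
import Mathlib.Algebra.Category.Ring.Colimits

set_option autoImplicit false
universe u
open CategoryTheory CategoryTheory.Limits TopologicalSpace
open ModSite

namespace Groth.Agent.S6855
set_option linter.style.haveILetI false
set_option backward.isDefEq.respectTransparency false
set_option backward.isDefEq.respectTransparency.types false


/-- Let X be a topological space and O a sheaf of rings on X. Then the support of O, the set of points x
with nonzero stalk O_x, is closed in X. -/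
theorem result {X : TopCat.{u}} (O : TopCat.Sheaf CommRingCat.{u} X) :
    IsClosed {x : X | Nontrivial (O.presheaf.stalk x)} := by
  rw [← isOpen_compl_iff, isOpen_iff_mem_nhds]
  intro x hx
  simp only [Set.mem_compl_iff, Set.mem_setOf_eq, not_nontrivial_iff_subsingleton] at hx
  let U : TopologicalSpace.Opens X := ⊤
  obtain ⟨W, hxW, i₁, i₂, e⟩ := O.presheaf.germ_eq x (show x ∈ U from trivial) (show x ∈ U from trivial)
    (1 : O.presheaf.obj (Opposite.op U)) 0 (Subsingleton.elim _ _)
  refine Filter.mem_of_superset (W.2.mem_nhds hxW) fun y hy => ?_
  simp only [Set.mem_compl_iff, Set.mem_setOf_eq, not_nontrivial_iff_subsingleton]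
  refine subsingleton_of_zero_eq_one ?_
  have e1 := congrArg (O.presheaf.germ W y hy) e
  simp only [map_one, map_zero] at e1
  exact e1.symm

end Groth.Agent.S6855
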