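import Groth.Statements.S6856
import Groth.Agent.Lib.SiteTen16.Assoc
import Groth.Agent.Lib.ModFlat16.Proj

set_option autoImplicit false
universe u
open CategoryTheory CategoryTheory.Limits TopologicalSpace
open ModSite

namespace Groth.Agent.S6856
set_option linter.style.haveILetI false
set_option backward.isDefEq.respectTransparency false
set_option backward.isDefEq.respectTransparency.types false
open CategoryTheory CategoryTheory.Limits Groth.Agent.KFlat Groth.Agent.KFlat.Site


/-- On a ringed space (X, O), (1) if L and N are invertible O-modules (tensoring with each is an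
equivalence of Mod(O)) then L ⊗_O N is invertible; (2) if L is invertible then Hom_O(L, O) is
invertible and the evaluation map Hom_O(L, O) ⊗_O L → O, the counit of the adjunction between − ⊗ L
and Hom_O(L, −) at O, is an isomorphism. -/
theorem result {X : TopCat.{u}} (O : TopCat.Sheaf CommRingCat.{u} X)
    (L N : ModSite.Mod O) (hL : ((ModSite.tensorBi O).obj L).IsEquivalence) [ModSite.HasSheafHom L] :
    (((ModSite.tensorBi O).obj N).IsEquivalence →
        ((ModSite.tensorBi O).obj (((ModSite.tensorBi O).obj L).obj N)).IsEquivalence) ∧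
      ((ModSite.tensorBi O).obj ((ModSite.sheafHom L).obj (ModSite.unit O))).IsEquivalence ∧
      IsIso ((ModSite.sheafHomAdj L).counit.app (ModSite.unit O)) := by
  let a : ∀ A B : ModSite.Mod O, (TS O).obj (((TS O).obj A).obj B) ≅ (TS O).obj B ⋙ (TS O).obj A :=
    fun A B => ((SiteTen16.assocIso O).app A).app B
  haveI : ((TS O).obj L).IsEquivalence := hL
  refine ⟨fun hN => ?_, ?_⟩
  · haveI : ((TS O).obj N).IsEquivalence := hN
    exact Functor.isEquivalence_of_iso (a L N).symm
  haveI : ((TS O).flip.obj L).IsEquivalence := Functor.isEquivalence_of_iso (flipObjIso O L)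
  let ad := ModSite.sheafHomAdj L
  haveI : ((TS O).flip.obj L).Full := inferInstance
  haveI : IsIso ad.counit := inferInstance
  haveI hc : IsIso (ad.counit.app (ModSite.unit O)) := inferInstance
  refine ⟨?_, hc⟩
  let D := (ModSite.sheafHom L).obj (ModSite.unit O)
  have e : (TS O).obj L ⋙ (TS O).obj D ≅ 𝟭 _ :=
    (a D L).symm ≪≫ (TS O).mapIso (asIso (ad.counit.app (ModSite.unit O))) ≪≫ ModFlat16.unitTensorIso O
  haveI : ((TS O).obj L ⋙ (TS O).obj D).IsEquivalence := Functor.isEquivalence_of_iso e.symm
  exact Functor.isEquivalence_of_comp_left ((TS O).obj L) ((TS O).obj D)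

end Groth.Agent.S6856
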