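import Groth.Statements.S6857
import Groth.Agent.Lib.CohFound16.ClosedEmb

set_option autoImplicit false
universe u
open CategoryTheory CategoryTheory.Limits TopologicalSpace
open CohTop

namespace Groth.Agent.S6857
set_option linter.style.haveILetI false
set_option backward.isDefEq.respectTransparency false
set_option backward.isDefEq.respectTransparency.types false
open CategoryTheory CategoryTheory.Limits Groth.Agent.CohFound16 in


/-- Let i : Z → X be the inclusion of a closed subset of a topological space (a closed embedding). Then
i_* : Ab(Z) → Ab(X) is exact (right exactness being the content, i_* is a right adjoint) and fully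
faithful, an abelian sheaf on X lies in its essential image exactly when its stalks at points
outside i(Z) are zero (support contained in Z), and i⁻¹ ∘ i_* is isomorphic to the identity functor
(existence of an isomorphism of functors is asserted). -/
theorem result {Z X : TopCat.{u}} (i : Z ⟶ X)
    (hi : Topology.IsClosedEmbedding i) :
    PreservesFiniteColimits (CohTop.push i) ∧ (CohTop.push i).Full ∧ (CohTop.push i).Faithful ∧
      (∀ F : CohTop.Ab X, (CohTop.push i).essImage F ↔ ∀ x : X, x ∉ Set.range i → IsZero (CohTop.stalk F x)) ∧
      Nonempty (CohTop.push i ⋙ CohTop.pull i ≅ 𝟭 (CohTop.Ab Z)) := by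
  let adj := TopCat.Sheaf.pullbackPushforwardAdjunction AddCommGrpCat.{u} i
  haveI : IsIso adj.counit := isIso_counit i hi.isInducing
  let ff := adj.fullyFaithfulROfIsIsoCounit
  haveI : (CohTop.push i).PreservesEpimorphisms := push_preservesEpimorphisms i hi
  haveI : PreservesFiniteLimits (CohTop.push i) :=
    haveI : (CohTop.push i).IsRightAdjoint := ⟨_, ⟨adj⟩⟩
    inferInstance
  haveI : (CohTop.push i).Additive := Functor.additive_of_preserves_binary_products _
  refine ⟨?_, ff.full, ff.faithful, fun F => ⟨?_, fun hF => ?_⟩, ⟨asIso adj.counit⟩⟩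
  · rw [Functor.preservesFiniteColimits_iff_forall_exact_map_and_epi]
    intro S hS
    haveI := hS.epi_g
    haveI := hS.mono_f
    exact ⟨hS.exact.map_of_mono_of_preservesKernel (CohTop.push i) hS.mono_f inferInstance, inferInstance⟩
  · rintro ⟨G, ⟨e⟩⟩ x hx
    exact (isZero_stalk_push i hi.isClosed_range G x hx).of_iso
      ((TopCat.Presheaf.stalkFunctor AddCommGrpCat.{u} x).mapIso ((sheafToPresheaf _ _).mapIso e)).symm
  · haveI := isIso_unit i hi F hF
    exact ⟨(CohTop.pull i).obj F, ⟨(asIso (adj.unit.app F)).symm⟩⟩

end Groth.Agent.S6857
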