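import Groth.Statements.S6859
import Groth.Agent.Lib.PullFlatMod16.Mono
import Groth.Agent.Lib.ModFlat16.Stalks

set_option autoImplicit false
universe u
open CategoryTheory CategoryTheory.Limits TopologicalSpace
open ModSite

namespace Groth.Agent.S6859
set_option linter.style.haveILetI false
set_option backward.isDefEq.respectTransparency false
set_option backward.isDefEq.respectTransparency.types false


/-- Let f : (X, O_X) → (Y, O_Y) be a morphism of ringed spaces and F an O_X-module flat over Y, i.e. for
every x ∈ X the stalk F_x is a flat O_{Y, f(x)}-module through the ring map O_{Y, f(x)} → O_{X, x}.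
Then the functor Mod(O_Y) → Mod(O_X), G ↦ f^*G ⊗_{O_X} F, is exact (preserves finite limits and
finite colimits). Here stalks are taken at the point of the site of opens of X given by x, and
flatness over O_{Y, f(x)} is written over the stalk at x of the pulled-back sheaf of rings f⁻¹O_Y,
which is O_{Y, f(x)}, through the stalk at x of the ring map f⁻¹O_Y → O_X adjoint to O_Y → f_*O_X,
which is the stalk map O_{Y, f(x)} → O_{X, x}. -/
theorem result {X Y : TopCat.{u}} (f : X ⟶ Y) (O_X : TopCat.Sheaf CommRingCat.{u} X)
    (O_Y : TopCat.Sheaf CommRingCat.{u} Y)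
    (c : O_Y ⟶ ((TopologicalSpace.Opens.map f).sheafPushforwardContinuous CommRingCat.{u}
      (Opens.grothendieckTopology Y) (Opens.grothendieckTopology X)).obj O_X)
    (F : ModSite.Mod O_X)
    (hF : ∀ x : X, @Module.Flat
      (ModSite.stalkRing (Opens.pointGrothendieckTopology x)
        (ModSite.RMor.ofFlat (TopologicalSpace.Opens.map f) c).invRing)
      (ModSite.stalkAb (Opens.pointGrothendieckTopology x) F) _ _
      (Module.compHom (ModSite.stalkAb (Opens.pointGrothendieckTopology x) F)
        (((Opens.pointGrothendieckTopology x).sheafFiber (A := CommRingCat.{u})).map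
          (ModSite.RMor.ofFlat (TopologicalSpace.Opens.map f) c).invSharp).hom)) :
    PreservesFiniteLimits ((ModSite.RMor.ofFlat (TopologicalSpace.Opens.map f) c).pull ⋙
        (ModSite.tensorBi O_X).flip.obj F) ∧
      PreservesFiniteColimits ((ModSite.RMor.ofFlat (TopologicalSpace.Opens.map f) c).pull ⋙
        (ModSite.tensorBi O_X).flip.obj F) := by
  let g := ModSite.RMor.ofFlat (TopologicalSpace.Opens.map f) c
  have hE : Groth.Agent.PullFlatMod16.EqFlatMod g F :=
    Groth.Agent.PullFlatMod16.eqFlatMod_of_relTriv (Groth.Agent.ModFlat16.relTriv_of_flat_stalks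
      (Opens.isConservativeFamilyOfPoints_pointsGrothendieckTopology X) (by
        rintro _ ⟨x⟩
        exact Groth.Agent.PullFlatMod16.flat_stalk_resMod _ (hF x)))
  let L := g.pull ⋙ (ModSite.tensorBi O_X).flip.obj F
  haveI : g.pull.IsLeftAdjoint := g.adj.isLeftAdjoint
  haveI : PreservesColimitsOfSize.{0, 0} g.pull := g.adj.leftAdjoint_preservesColimits
  haveI : PreservesColimitsOfSize.{0, 0} ((ModSite.tensorBi O_X).flip.obj F) :=
    Groth.Agent.KFlat.Site.preservesColimits_flip_obj F
  haveI : PreservesColimitsOfSize.{0, 0} L := comp_preservesColimits _ _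
  haveI : PreservesFiniteColimits L := PreservesColimitsOfSize.preservesFiniteColimits _
  haveI := preservesBinaryBiproducts_of_preservesBinaryCoproducts L
  haveI : L.Additive := Functor.additive_of_preservesBinaryBiproducts _
  refine ⟨(Functor.preservesFiniteLimits_iff_forall_exact_map_and_mono L).2 fun S hS => ?_, inferInstance⟩
  haveI := hS.mono_f
  exact ⟨((L.preservesFiniteColimits_iff_forall_exact_map_and_epi).1 inferInstance S hS).1,
    Groth.Agent.PullFlatMod16.mono_pull_tensor hE S.f⟩

end Groth.Agent.S6859
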