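import Groth.Statements.S6860
import Mathlib.RingTheory.Smooth.StandardSmooth
import Mathlib.RingTheory.Extension.Presentation.Submersive

set_option autoImplicit false
universe u
open Smoothing

namespace Groth.Agent.S6860

/-- Let R → A be standard smooth and E ⊆ A a finite subset. Then A admits a standard smooth presentation
A = R[x₁, …, x_N]/(f₁, …, f_c) (a submersive presentation: finitely many generators and relations,
an injection from the relations to the variables picking the distinguished variables, and the
Jacobian of the relations with respect to the distinguished variables invertible in A) in which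
every element of E is the class of a distinguished variable. (The published statement arranges E to
be exactly the classes of the first n = |E| variables, all of them distinguished, with c ≥ n; this
row states that E is contained in the set of classes of the distinguished variables, which is what
that arrangement gives.) -/
theorem result {R A : Type u} [CommRing R] [CommRing A] [Algebra R A]
    [Algebra.IsStandardSmooth R A] (E : Finset A) :
    ∃ (ι σ : Type) (_ : Finite ι) (_ : Finite σ) (P : Algebra.SubmersivePresentation R A ι σ),
      (↑E : Set A) ⊆ Set.range (P.val ∘ P.map) := by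
  classical
  obtain ⟨ι₀, σ₀, hι₀, hσ₀, ⟨P₀⟩⟩ := (‹Algebra.IsStandardSmooth R A›).out
  let v : Fin E.card → A := fun i => (E.equivFin.symm i : A)
  let G : Algebra.Generators A A (Fin E.card) :=
    Algebra.Generators.ofSurjective v (fun a => ⟨MvPolynomial.C a, MvPolynomial.aeval_C _ _⟩)
  let rel : Fin E.card → MvPolynomial (Fin E.card) A := fun i => MvPolynomial.X i - MvPolynomial.C (v i)
  have hrel : ∀ i, MvPolynomial.aeval v (rel i) = 0 := fun i => by simp [rel]
  have hker : Ideal.span (Set.range rel) = G.ker := by
    apply le_antisymm
    · rw [Ideal.span_le]
      rintro _ ⟨i, rfl⟩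
      exact RingHom.mem_ker.2 ((Algebra.Generators.algebraMap_apply G (rel i)).trans (hrel i))
    · intro p hp
      have h : ∀ q : MvPolynomial (Fin E.card) A,
          q - MvPolynomial.C (MvPolynomial.aeval v q) ∈ Ideal.span (Set.range rel) := by
        intro q
        induction q using MvPolynomial.induction_on with
        | C a => simp
        | add p q hp hq =>
          rw [map_add, map_add, add_sub_add_comm]
          exact Submodule.add_mem _ hp hq
        | mul_X p i hp =>
          rw [map_mul, MvPolynomial.aeval_X, map_mul,
            show p * MvPolynomial.X i - MvPolynomial.C (MvPolynomial.aeval v p) * MvPolynomial.C (v i) =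
              (p - MvPolynomial.C (MvPolynomial.aeval v p)) * MvPolynomial.X i +
                MvPolynomial.C (MvPolynomial.aeval v p) * (MvPolynomial.X i - MvPolynomial.C (v i)) by ring]
          exact Submodule.add_mem _ (Ideal.mul_mem_right _ _ hp)
            (Ideal.mul_mem_left _ _ (Ideal.subset_span ⟨i, rfl⟩))
      have hp0 : MvPolynomial.aeval v p = 0 :=
        (Algebra.Generators.algebraMap_apply G p).symm.trans (RingHom.mem_ker.1 hp)
      have h1 := h p
      rwa [hp0, map_zero, sub_zero] at h1
  let Q : Algebra.PreSubmersivePresentation A A (Fin E.card) (Fin E.card) :=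
    { toGenerators := G, relation := rel, span_range_relation_eq_ker := hker,
      map := id, map_inj := Function.injective_id }
  have hQ : IsUnit Q.jacobian := by
    rw [Q.jacobian_eq_jacobiMatrix_det,
      show Q.jacobiMatrix = 1 from Matrix.ext fun i j => by
        rw [Q.jacobiMatrix_apply]
        show MvPolynomial.pderiv i (MvPolynomial.X j - MvPolynomial.C (v j)) = _
        rw [map_sub, MvPolynomial.pderiv_C, sub_zero, MvPolynomial.pderiv_X, Matrix.one_apply, Pi.single_apply]
        simp [eq_comm],
      Matrix.det_one, map_one]
    exact isUnit_one
  haveI := hι₀
  haveI := hσ₀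
  let S := (Algebra.SubmersivePresentation.mk Q hQ).comp P₀
  refine ⟨_, _, inferInstance, inferInstance, S, fun x hx => ?_⟩
  refine ⟨Sum.inl (E.equivFin ⟨x, hx⟩), ?_⟩
  show v (E.equivFin ⟨x, hx⟩) = x
  simp [v]

end Groth.Agent.S6860
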