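import Groth.Statements.S6862
import Mathlib

set_option autoImplicit false
universe u
open CAlg

namespace Groth.Agent.S6862


namespace Aux6862

universe v

variable {R : Type v} [CommRing R] {X Y : Type v} [AddCommGroup X] [Module R X] [Module.Finite R X]
  [AddCommGroup Y] [Module R Y]

theorem prod [Module.IsStablyFree R X] [Module.IsStablyFree R Y] : Module.IsStablyFree R (X × Y) := by
  obtain ⟨N₁, _, _, _, _, _⟩ := Module.IsStablyFree.exist_free_prod R X
  obtain ⟨N₂, _, _, _, _, _⟩ := Module.IsStablyFree.exist_free_prod R Y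
  haveI : Module.Free R ((X × Y) × (N₁ × N₂)) :=
    Module.Free.of_equiv (LinearEquiv.prodProdProdComm R X N₁ Y N₂)
  exact Module.IsStablyFree.of_free_prod R (X × Y) (N₁ × N₂)

theorem cancel_left [Module.IsStablyFree R X] [Module.IsStablyFree R (X × Y)] : Module.IsStablyFree R Y := by
  obtain ⟨N₁, _, _, _, _, _⟩ := Module.IsStablyFree.exist_free_prod R X
  obtain ⟨N₂, _, _, _, _, _⟩ := Module.IsStablyFree.exist_free_prod R (X × Y)
  let e : (((X × Y) × N₂) × N₁) ≃ₗ[R] Y × ((X × N₁) × N₂) :=
    { toFun := fun z => (z.1.1.2, ((z.1.1.1, z.2), z.1.2))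
      invFun := fun z => (((z.2.1.1, z.1), z.2.2), z.2.1.2)
      map_add' := fun _ _ => rfl
      map_smul' := fun _ _ => rfl
      left_inv := fun _ => rfl
      right_inv := fun _ => rfl }
  haveI : Module.Free R (Y × ((X × N₁) × N₂)) := Module.Free.of_equiv e
  exact Module.IsStablyFree.of_free_prod R Y ((X × N₁) × N₂)

end Aux6862



/-- Let `R` be a commutative ring and `P'`, `P`, `P''` finitely generated projective `R`-modules in an
exact sequence `0 → P' → P → P'' → 0`. Whenever two of the three are stably free, the remaining one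
is stably free too (all three cases are stated). -/
theorem result {R : Type u} [CommRing R] {P' P P'' : Type u}
    [AddCommGroup P'] [Module R P'] [Module.Finite R P'] [Module.Projective R P']
    [AddCommGroup P] [Module R P] [Module.Finite R P] [Module.Projective R P]
    [AddCommGroup P''] [Module R P''] [Module.Finite R P''] [Module.Projective R P'']
    (f : P' →ₗ[R] P) (g : P →ₗ[R] P'') (hf : Function.Injective f) (hg : Function.Surjective g)
    (hfg : Function.Exact f g) :
    (Module.IsStablyFree R P' → Module.IsStablyFree R P → Module.IsStablyFree R P'') ∧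
    (Module.IsStablyFree R P' → Module.IsStablyFree R P'' → Module.IsStablyFree R P) ∧
    (Module.IsStablyFree R P → Module.IsStablyFree R P'' → Module.IsStablyFree R P') := by
  obtain ⟨l, hl⟩ := Module.projective_lifting_property g LinearMap.id hg
  obtain ⟨e, -, -⟩ := hfg.splitSurjectiveEquiv hf ⟨l, hl⟩
  refine ⟨fun h1 h2 => ?_, fun h1 h2 => ?_, fun h1 h2 => ?_⟩
  · haveI := h1
    haveI : Module.IsStablyFree R (P' × P'') := h2.equiv e
    exact Aux6862.cancel_left (X := P') (Y := P'')
  · haveI := h1; haveI := h2
    exact (Aux6862.prod (X := P') (Y := P'')).equiv e.symm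
  · haveI := h2
    haveI : Module.IsStablyFree R (P'' × P') := (h1.equiv e).equiv (LinearEquiv.prodComm R P' P'')
    exact Aux6862.cancel_left (X := P'') (Y := P')

end Groth.Agent.S6862
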