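import Groth.Statements.S6863
import Mathlib

set_option autoImplicit false
universe u
open TensorProduct
open CAlg

namespace Groth.Agent.S6863




/-- Let `I` be an ideal of a commutative ring `R` contained in the Jacobson radical (equivalently, `1 +
i` is a unit for each `i ∈ I`). Then each finitely generated stably free module `E` over `R/I`
lifts: there is a finite stably free `R`-module `M` with `M/IM ≅ E` (existence of an isomorphism
only; the published statement names no map). -/
theorem result {R : Type u} [CommRing R] (I : Ideal R)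
    (hI : I ≤ Ideal.jacobson (⊥ : Ideal R)) (E : Type u) [AddCommGroup E] [Module (R ⧸ I) E]
    [Module.Finite (R ⧸ I) E] [Module.IsStablyFree (R ⧸ I) E] :
    ∃ (M : Type u) (_ : AddCommGroup M) (_ : Module R M), Module.Finite R M ∧ Module.IsStablyFree R M ∧
      Nonempty ((R ⧸ I) ⊗[R] M ≃ₗ[R ⧸ I] E) := by
  classical
  let Rb := R ⧸ I
  obtain ⟨N, _, _, _, _, _⟩ := Module.IsStablyFree.exist_free_prod Rb E
  obtain ⟨p, ⟨eN⟩⟩ : ∃ p : ℕ, Nonempty (N ≃ₗ[Rb] (Fin p → Rb)) :=
    ⟨_, ⟨((Module.Free.chooseBasis Rb N).reindex (Fintype.equivFin _)).equivFun⟩⟩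
  obtain ⟨q, ⟨eF⟩⟩ : ∃ q : ℕ, Nonempty ((E × N) ≃ₗ[Rb] (Fin q → Rb)) :=
    ⟨_, ⟨((Module.Free.chooseBasis Rb (E × N)).reindex (Fintype.equivFin _)).equivFun⟩⟩
  let π : (Fin q → Rb) →ₗ[Rb] (Fin p → Rb) := eN.toLinearMap ∘ₗ LinearMap.snd Rb E N ∘ₗ eF.symm.toLinearMap
  have hπs : Function.Surjective π := eN.surjective.comp (Prod.snd_surjective.comp eF.symm.surjective)
  choose g hg using fun (x : Fin q) (y : Fin p) => Ideal.Quotient.mk_surjective (π (Pi.single x 1) y)
  let π' : (Fin q → R) →ₗ[R] (Fin p → R) := Fintype.linearCombination R g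
  have hcomp : ∀ v, π (fun x => Ideal.Quotient.mk I (v x)) = fun y => Ideal.Quotient.mk I (π' v y) := by
    intro v
    conv_lhs => rw [pi_eq_sum_univ' (fun x => Ideal.Quotient.mk I (v x)), map_sum]
    funext y
    simp [π', Fintype.linearCombination_apply, Finset.sum_apply, map_sum, ← hg]
  have hs' : Function.Surjective π' := by
    rw [← LinearMap.range_eq_top]
    refine eq_top_iff.2 (Submodule.le_of_le_smul_of_le_jacobson_bot Module.Finite.fg_top hI ?_)
    intro w _
    obtain ⟨v, hv⟩ := hπs fun y => Ideal.Quotient.mk I (w y)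
    choose v' hv' using fun x => Ideal.Quotient.mk_surjective (v x)
    obtain rfl : (fun x => Ideal.Quotient.mk I (v' x)) = v := funext hv'
    rw [hcomp] at hv
    refine Submodule.mem_sup.2 ⟨π' v', ⟨_, rfl⟩, w - π' v', ?_, by abel⟩
    rw [pi_eq_sum_univ (w - π' v')]
    refine Submodule.sum_mem _ fun y _ => Submodule.smul_mem_smul ?_ Submodule.mem_top
    rw [Pi.sub_apply, ← Ideal.Quotient.eq_zero_iff_mem, map_sub, congrFun hv y, sub_self]
  obtain ⟨σ, hσ⟩ := Module.projective_lifting_property π' LinearMap.id hs'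
  have hσ' : ∀ y, π' (σ y) = y := fun y => LinearMap.congr_fun hσ y
  let M := LinearMap.ker π'
  have hpr : ∀ v, v - σ (π' v) ∈ M := fun v => by simp [M, hσ']
  let split : (M × (Fin p → R)) ≃ₗ[R] (Fin q → R) :=
    { toLinearMap := M.subtype.coprod σ
      invFun := fun v => (⟨v - σ (π' v), hpr v⟩, π' v)
      left_inv := fun z => by
        obtain ⟨⟨m, hm⟩, y⟩ := z
        have : π' m = 0 := hm
        simp [this, hσ']
      right_inv := fun v => by simp }
  haveI : Module.Free R (M × (Fin p → R)) := Module.Free.of_equiv split.symm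
  haveI hMf : Module.Finite R M := by
    refine Module.Finite.of_surjective (LinearMap.codRestrict M (LinearMap.id - σ ∘ₗ π') hpr) fun m => ⟨m.1, Subtype.ext ?_⟩
    have : π' m.1 = 0 := m.2
    simp [this]
  refine ⟨M, inferInstance, inferInstance, hMf, Module.IsStablyFree.of_free_prod R M (Fin p → R), ?_⟩
  let fE : M →ₗ[R] (Fin q → Rb) := (LinearMap.pi fun x => (Algebra.linearMap R Rb) ∘ₗ LinearMap.proj x) ∘ₗ M.subtype
  letI : Module R E := Module.compHom E (algebraMap R Rb)
  haveI : IsScalarTower R Rb E := IsScalarTower.of_algebraMap_smul fun _ _ => rfl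
  let toE : M →ₗ[R] E := ((LinearMap.fst Rb E N ∘ₗ eF.symm.toLinearMap).restrictScalars R) ∘ₗ fE
  refine ⟨LinearEquiv.ofBijective (toE.liftBaseChange Rb) ⟨?_, ?_⟩⟩
  · rw [injective_iff_map_eq_zero]
    intro z hz
    obtain ⟨m, rfl⟩ : ∃ m, (1 : Rb) ⊗ₜ[R] m = z := by
      clear hz
      induction z with
      | zero => exact ⟨0, TensorProduct.tmul_zero _ _⟩
      | add a b ha hb =>
        obtain ⟨x, rfl⟩ := ha
        obtain ⟨y, rfl⟩ := hb
        exact ⟨x + y, TensorProduct.tmul_add _ _ _⟩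
      | tmul c v =>
        obtain ⟨r, rfl⟩ := Ideal.Quotient.mk_surjective c
        exact ⟨r • v, by rw [TensorProduct.tmul_smul, TensorProduct.smul_tmul', ← Algebra.algebraMap_eq_smul_one]; rfl⟩
    rw [LinearMap.liftBaseChange_tmul, one_smul] at hz
    have hm : π' m.1 = 0 := m.2
    have h2 : (eF.symm (fE m)).2 = 0 := eN.injective (by
      rw [map_zero]
      refine (hcomp m.1).trans (funext fun y => ?_)
      rw [hm]; simp)
    have h3 : fE m = 0 := eF.symm.injective (by rw [map_zero]; exact Prod.ext hz h2)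
    have hmem : ∀ x, m.1 x ∈ I := fun x => Ideal.Quotient.eq_zero_iff_mem.1 (congrFun h3 x)
    have e : m = ∑ x, m.1 x • (⟨Pi.single x 1 - σ (π' (Pi.single x 1)), hpr _⟩ : M) := by
      refine Subtype.ext ?_
      simp only [Submodule.coe_sum, Submodule.coe_smul, smul_sub, Finset.sum_sub_distrib, ← map_smul, ← map_sum]
      rw [show (∑ x, m.1 x • (Pi.single x 1 : Fin q → R)) = m.1 from (pi_eq_sum_univ' m.1).symm, hm, map_zero, sub_zero]
    rw [e, TensorProduct.tmul_sum]
    refine Finset.sum_eq_zero fun x _ => ?_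
    rw [TensorProduct.tmul_smul, TensorProduct.smul_tmul', ← Algebra.algebraMap_eq_smul_one,
      show algebraMap R Rb (m.1 x) = 0 from Ideal.Quotient.eq_zero_iff_mem.2 (hmem x), TensorProduct.zero_tmul]
  · intro e
    choose v hv using fun x => Ideal.Quotient.mk_surjective (eF (e, 0) x)
    obtain hv : (fun x => Ideal.Quotient.mk I (v x)) = eF (e, 0) := funext hv
    have h0 : (fun y => Ideal.Quotient.mk I (π' v y)) = 0 := by
      rw [← hcomp, hv]; simp [π]
    have hσI : ∀ x, Ideal.Quotient.mk I (σ (π' v) x) = 0 := by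
      intro x
      rw [pi_eq_sum_univ (π' v), map_sum, Finset.sum_apply, map_sum]
      refine Finset.sum_eq_zero fun y _ => ?_
      rw [map_smul, Pi.smul_apply, smul_eq_mul, map_mul, congrFun h0 y, Pi.zero_apply, zero_mul]
    refine ⟨(1 : Rb) ⊗ₜ (⟨v - σ (π' v), hpr v⟩ : M), ?_⟩
    rw [LinearMap.liftBaseChange_tmul, one_smul]
    have : fE ⟨v - σ (π' v), hpr v⟩ = eF (e, 0) := by
      rw [← hv]; funext x
      show Ideal.Quotient.mk I (v x - σ (π' v) x) = _
      rw [map_sub, hσI, sub_zero]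
    show (eF.symm (fE ⟨v - σ (π' v), hpr v⟩)).1 = e
    rw [this, eF.symm_apply_apply]

end Groth.Agent.S6863
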