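import Groth.Statements.S6865
import Groth.Agent.Lib.CAlgLow.JacobsonLift

set_option autoImplicit false
universe u
open TensorProduct
open CAlg

namespace Groth.Agent.S6865

/-- Let `I` be an ideal of a commutative ring `R` contained in the Jacobson radical and let `P, P'` be
finite projective `R`-modules. If `P/IP` and `P'/IP'` are isomorphic `R/I`-modules, then `P` and
`P'` are isomorphic. -/
theorem result {R : Type u} [CommRing R] (I : Ideal R)
    (hI : I ≤ Ideal.jacobson (⊥ : Ideal R)) (P P' : Type u)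
    [AddCommGroup P] [Module R P] [Module.Finite R P] [Module.Projective R P]
    [AddCommGroup P'] [Module R P'] [Module.Finite R P'] [Module.Projective R P']
    (e : (R ⧸ I) ⊗[R] P ≃ₗ[R ⧸ I] (R ⧸ I) ⊗[R] P') : Nonempty (P ≃ₗ[R] P') := by
  have hg : Function.Surjective (TensorProduct.mk R (R ⧸ I) P' 1) :=
    TensorProduct.mk_surjective R P' (R ⧸ I) Ideal.Quotient.mk_surjective
  obtain ⟨φ, hφ⟩ := Module.projective_lifting_property (TensorProduct.mk R (R ⧸ I) P' 1)
    ((e.toLinearMap.restrictScalars R).comp (TensorProduct.mk R (R ⧸ I) P 1)) hg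
  refine ⟨LinearEquiv.ofBijective φ (Groth.Agent.CAlgLow.bijective_of_baseChange I hI φ ?_)⟩
  rw [show φ.baseChange (R ⧸ I) = e.toLinearMap from LinearMap.ext fun z => ?_]
  · exact e.bijective
  induction z with
  | zero => simp
  | add a b ha hb => rw [map_add, map_add, ha, hb]
  | tmul r x =>
    have hx : (1 : R ⧸ I) ⊗ₜ[R] φ x = e ((1 : R ⧸ I) ⊗ₜ[R] x) := LinearMap.congr_fun hφ x
    rw [LinearMap.baseChange_tmul, show r ⊗ₜ[R] x = r • ((1 : R ⧸ I) ⊗ₜ[R] x) by
      rw [TensorProduct.smul_tmul', smul_eq_mul, mul_one], map_smul]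
    change _ = r • e _
    rw [← hx, TensorProduct.smul_tmul', smul_eq_mul, mul_one]

end Groth.Agent.S6865
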