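import Groth.Statements.S6867
import Mathlib.RingTheory.Localization.FractionRing
import Mathlib.Algebra.Module.LocalizedModule.Int
import Mathlib.LinearAlgebra.FiniteDimensional.Basic
import Mathlib.RingTheory.Localization.Finiteness
import Mathlib.Algebra.Module.Torsion.Free

set_option autoImplicit false
universe u
open CAlg

namespace Groth.Agent.S6867

/-- For a domain `R`, a finite `R`-module `M` is torsion free exactly when it admits an injective
`R`-linear map into `Rⁿ` for some `n`. -/
theorem result (R : Type u) [CommRing R] [IsDomain R] (M : Type u)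
    [AddCommGroup M] [Module R M] [Module.Finite R M] :
    Module.IsTorsionFree R M ↔ ∃ (n : ℕ) (f : M →ₗ[R] (Fin n → R)), Function.Injective f := by
  constructor
  · intro _
    let K := FractionRing R
    let V := LocalizedModule (nonZeroDivisors R) M
    let f : M →ₗ[R] V := LocalizedModule.mkLinearMap _ M
    letI : Module K V := inferInstanceAs (Module (Localization (nonZeroDivisors R)) V)
    haveI : IsScalarTower R K V := inferInstanceAs (IsScalarTower R (Localization (nonZeroDivisors R)) V)
    have hf : Function.Injective f := by
      rw [injective_iff_map_eq_zero]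
      intro x hx
      obtain ⟨c, hc⟩ := (IsLocalizedModule.eq_zero_iff (nonZeroDivisors R) f).1 hx
      exact (smul_eq_zero.1 hc).resolve_left (nonZeroDivisors.coe_ne_zero c)
    haveI : Module.Finite K V := Module.Finite.of_isLocalizedModule (nonZeroDivisors R) (Rₚ := K) f
    let b := Module.finBasis K V
    obtain ⟨s, hs⟩ := Module.Finite.fg_top (R := R) (M := M)
    classical
    obtain ⟨c, hc⟩ := IsLocalization.exist_integer_multiples_of_finset (nonZeroDivisors R)
      ((s ×ˢ Finset.univ).image fun mi : M × Fin (Module.finrank K V) => b.repr (f mi.1) mi.2)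
    let g : M →ₗ[R] (Fin (Module.finrank K V) → K) := (c : R) • ((b.equivFun.restrictScalars R).toLinearMap ∘ₗ f)
    have hg : Function.Injective g := fun x y h => by
      have h' : (c : R) • b.equivFun (f x) = (c : R) • b.equivFun (f y) := h
      exact hf (b.equivFun.injective (smul_right_injective _ (nonZeroDivisors.coe_ne_zero c) h'))
    let ι : (Fin (Module.finrank K V) → R) →ₗ[R] (Fin (Module.finrank K V) → K) :=
      (Algebra.linearMap R K).compLeft _
    have hι : Function.Injective ι := fun x y h => funext fun i => IsFractionRing.injective R K (congrFun h i)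
    have hle : LinearMap.range g ≤ LinearMap.range ι := by
      rw [LinearMap.range_eq_map, ← hs, Submodule.map_span, Submodule.span_le]
      rintro _ ⟨m, hm, rfl⟩
      have : ∀ i, IsLocalization.IsInteger R ((c : R) • b.repr (f m) i) := fun i =>
        hc _ (Finset.mem_image.2 ⟨(m, i), Finset.mem_product.2 ⟨hm, Finset.mem_univ i⟩, rfl⟩)
      choose r hr using this
      exact ⟨r, funext fun i => hr i⟩
    exact ⟨_, (LinearEquiv.ofInjective ι hι).symm.toLinearMap ∘ₗ g.codRestrict (LinearMap.range ι) fun x => hle ⟨x, rfl⟩,
      (LinearEquiv.ofInjective ι hι).symm.injective.comp fun x y h => hg (congrArg Subtype.val h)⟩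
  · rintro ⟨n, f, hf⟩
    exact hf.moduleIsTorsionFree f (fun r x => map_smul f r x)

end Groth.Agent.S6867
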