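import Groth.Statements.S6866
import Groth.Agent.S6867
import Mathlib.RingTheory.Flat.Basic
import Mathlib.LinearAlgebra.TensorProduct.Pi
import Mathlib.LinearAlgebra.TensorProduct.Finiteness
import Mathlib.Algebra.Module.Torsion.Free

set_option autoImplicit false
universe u
open TensorProduct
open CAlg

namespace Groth.Agent.S6866

/-- If `M` is a torsion free module over a domain `R` and `R → R'` is a flat ring map to another domain,
then `R' ⊗_R M` is torsion free over `R'`. -/
theorem result (R R' : Type u) [CommRing R] [IsDomain R] [CommRing R']
    [IsDomain R'] [Algebra R R'] [Module.Flat R R'] (M : Type u) [AddCommGroup M] [Module R M]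
    [Module.IsTorsionFree R M] : Module.IsTorsionFree R' (R' ⊗[R] M) := by
  rw [Module.isTorsionFree_iff_smul_eq_zero]
  intro a x hax
  refine or_iff_not_imp_left.2 fun ha => ?_
  obtain ⟨N, hN, hx⟩ := exists_finite_submodule_right_of_setFinite {x} (Set.finite_singleton x)
  obtain ⟨y, hy⟩ := hx (Set.mem_singleton x)
  have : Module.Finite R N := hN
  have : Module.IsTorsionFree R N := N.injective_subtype.moduleIsTorsionFree _ (fun r x => rfl)
  obtain ⟨n, f, hf⟩ := (Groth.Agent.S6867.result R N).1 ‹_›
  have hinj : Function.Injective (N.subtype.baseChange R') :=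
    Module.Flat.lTensor_preserves_injective_linearMap _ N.injective_subtype
  have hinj' : Function.Injective (f.baseChange R') :=
    Module.Flat.lTensor_preserves_injective_linearMap _ hf
  let e := TensorProduct.piScalarRight R R' R' (Fin n)
  suffices y = 0 by rw [← hy, this, map_zero]
  apply hinj'
  apply e.injective
  rw [map_zero, map_zero]
  have h0 : a • y = 0 := hinj (by rw [map_smul, map_zero]; exact hy.symm ▸ hax)
  have h1 : a • e (f.baseChange R' y) = 0 := by rw [← map_smul, ← map_smul, h0, map_zero, map_zero]
  exact funext fun i => (mul_eq_zero.1 (congrFun h1 i)).resolve_left ha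

end Groth.Agent.S6866
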