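import Groth.Statements.S6868
import Groth.Agent.Lib.Depth.More
import Mathlib

set_option autoImplicit false
universe u
open CAlg

namespace Groth.Agent.S6868




/-- (1) ⇔ (3) ⇔ (4): for a Noetherian domain `R` and a nonzero finite `R`-module `M`, torsion-freeness
of `M` is equivalent to `(0)` being the unique associated prime of `M`, and also to the conjunction:
`(0)` belongs to the support of `M` and `M` satisfies Serre's condition `(S_1)`. (The published
statement also lists embedding into a finite free module and the absence of embedded associated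
primes; this row states the other three conditions.) -/
theorem result (R : Type u) [CommRing R]
    [IsDomain R] [IsNoetherianRing R] (M : Type u) [AddCommGroup M] [Module R M] [Module.Finite R M] [Nontrivial M] :
    (Module.IsTorsionFree R M ↔ associatedPrimes R M = {⊥}) ∧
    (Module.IsTorsionFree R M ↔
      (⟨⊥, Ideal.isPrime_bot⟩ : PrimeSpectrum R) ∈ Module.support R M ∧ LocCoh.HasSk 1 R M) := by
  classical
  have hA : Module.IsTorsionFree R M ↔ associatedPrimes R M = {⊥} := by
    constructor
    · intro h
      refine Set.eq_singleton_iff_nonempty_unique_mem.2 ⟨associatedPrimes.nonempty R M, fun p hp => ?_⟩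
      obtain ⟨hpr, z, hz⟩ := isAssociatedPrime_iff.1 hp
      refine (Submodule.eq_bot_iff _).2 fun r hr => ?_
      rw [hz, Submodule.mem_colon_singleton, Submodule.mem_bot] at hr
      refine (smul_eq_zero.1 hr).resolve_right fun h0 => hpr.ne_top ?_
      rw [hz, h0]; ext; simp [Submodule.mem_colon_singleton]
    · intro h
      refine Module.isTorsionFree_iff_smul_eq_zero.2 fun r m hrm => ?_
      by_contra hc
      push Not at hc
      have hmem : r ∈ ⋃ p ∈ associatedPrimes R M, (p : Set R) := by
        rw [biUnion_associatedPrimes_eq_zero_divisors]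
        exact ⟨m, hc.2, hrm⟩
      rw [h] at hmem
      simp at hmem
      exact hc.1 hmem
  refine ⟨hA, ⟨fun h => ⟨?_, ?_⟩, fun ⟨h0, hS⟩ => ?_⟩⟩
  · obtain ⟨z, hz⟩ := exists_ne (0 : M)
    rw [Module.support_eq_zeroLocus, PrimeSpectrum.mem_zeroLocus]
    intro r hr
    exact (smul_eq_zero.1 (Module.mem_annihilator.1 hr z)).resolve_right hz
  · intro p _
    let Rp := Localization.AtPrime p
    let Mp := LocalizedModule p.primeCompl M
    rcases subsingleton_or_nontrivial Mp with hs | hs
    · rw [Module.supportDim_eq_bot_of_subsingleton]; simp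
    by_cases hp : p = ⊥
    · have : Module.supportDim Rp Mp ≤ 0 := by
        refine (Module.supportDim_le_ringKrullDim Rp Mp).trans ?_
        rw [IsLocalization.AtPrime.ringKrullDim_eq_height p Rp]
        subst hp
        simp [Ideal.height_bot]
      exact (min_le_right _ _).trans (this.trans (WithBot.coe_le_coe.2 zero_le))
    · obtain ⟨a, ha, ha0⟩ := Submodule.exists_mem_ne_zero_of_ne_bot hp
      haveI : Module.Finite Rp Mp := Module.Finite.of_isLocalizedModule p.primeCompl (LocalizedModule.mkLinearMap p.primeCompl M)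
      have hne : IsLocalRing.maximalIdeal Rp • (⊤ : Submodule Rp Mp) ≠ ⊤ := by
        intro he
        exact not_subsingleton Mp (Submodule.subsingleton_iff Rp |>.1 (subsingleton_of_bot_eq_top
          (Submodule.eq_bot_of_le_smul_of_le_jacobson_bot (IsLocalRing.maximalIdeal Rp) ⊤ Module.Finite.fg_top he.ge
            (IsLocalRing.maximalIdeal_le_jacobson _)).symm))
      have hreg : RingTheory.Sequence.IsWeaklyRegular Mp [algebraMap R Rp a] := by
        rw [RingTheory.Sequence.isWeaklyRegular_singleton_iff]
        refine (isSMulRegular_iff_right_eq_zero_of_smul).2 fun z hz => ?_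
        induction z using LocalizedModule.induction_on with
        | h m s =>
          rw [algebraMap_smul, LocalizedModule.smul'_mk, ← LocalizedModule.zero_mk s, LocalizedModule.mk_eq] at hz
          obtain ⟨u, hu⟩ := hz
          simp only [smul_zero, Submonoid.smul_def, smul_smul] at hu
          have hu0 : (u : R) * ((s : R) * a) ≠ 0 :=
            mul_ne_zero (fun h => u.2 (h ▸ p.zero_mem)) (mul_ne_zero (fun h => s.2 (h ▸ p.zero_mem)) ha0)
          rw [(smul_eq_zero.1 hu).resolve_left hu0, LocalizedModule.zero_mk]
      have hmem : algebraMap R Rp a ∈ IsLocalRing.maximalIdeal Rp :=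
        (IsLocalization.AtPrime.to_map_mem_maximal_iff Rp p a).2 ha
      have h1 := Groth.Agent.DepthLib.length_le_idealDepth (I := IsLocalRing.maximalIdeal Rp) hreg (by simpa using hmem)
      exact (min_le_left _ _).trans (WithBot.coe_le_coe.2 h1)
  · rw [hA]
    refine Set.eq_singleton_iff_nonempty_unique_mem.2 ⟨associatedPrimes.nonempty R M, fun p hp => ?_⟩
    by_contra hp0
    obtain ⟨hpr, z, hz⟩ := isAssociatedPrime_iff.1 hp
    haveI := hpr
    let Rp := Localization.AtPrime p
    let Mp := LocalizedModule p.primeCompl M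
    haveI : Module.Finite Rp Mp := Module.Finite.of_isLocalizedModule p.primeCompl (LocalizedModule.mkLinearMap p.primeCompl M)
    have hmem : ∀ r, r ∈ p ↔ r • z = 0 := fun r => by rw [hz, Submodule.mem_colon_singleton, Submodule.mem_bot]
    have hz1 : (LocalizedModule.mk z 1 : Mp) ≠ 0 := by
      rw [← LocalizedModule.zero_mk 1, Ne, LocalizedModule.mk_eq]
      rintro ⟨u, hu⟩
      exact u.2 ((hmem u).2 (by simpa [Submonoid.smul_def] using hu))
    haveI : Nontrivial Mp := ⟨⟨_, 0, hz1⟩⟩
    have hne : IsLocalRing.maximalIdeal Rp • (⊤ : Submodule Rp Mp) ≠ ⊤ := by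
      intro he
      exact not_subsingleton Mp (Submodule.subsingleton_iff Rp |>.1 (subsingleton_of_bot_eq_top
        (Submodule.eq_bot_of_le_smul_of_le_jacobson_bot (IsLocalRing.maximalIdeal Rp) ⊤ Module.Finite.fg_top he.ge
          (IsLocalRing.maximalIdeal_le_jacobson _)).symm))
    have hann : Module.annihilator R M = ⊥ := by
      rw [Module.support_eq_zeroLocus, PrimeSpectrum.mem_zeroLocus] at h0
      exact le_bot_iff.1 h0
    have hann' : Module.annihilator Rp Mp = ⊥ := by
      refine (Submodule.eq_bot_iff _).2 fun x hx => ?_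
      obtain ⟨⟨r, s⟩, hrs⟩ := IsLocalization.surj p.primeCompl x
      have hr : ∀ m : M, ∃ u : p.primeCompl, (u : R) • r • m = 0 := fun m => by
        have h1 : algebraMap R Rp r • (LocalizedModule.mk m 1 : Mp) = 0 := by
          rw [← hrs, mul_comm, mul_smul, Module.mem_annihilator.1 hx, smul_zero]
        rw [algebraMap_smul, LocalizedModule.smul'_mk, ← LocalizedModule.zero_mk 1, LocalizedModule.mk_eq] at h1
        obtain ⟨u, hu⟩ := h1
        exact ⟨u, by simpa [Submonoid.smul_def] using hu⟩
      choose u hu using hr
      obtain ⟨t, ht⟩ := (Module.finite_def.1 ‹Module.Finite R M› : (⊤ : Submodule R M).FG)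
      have hr0 : (∏ m ∈ t, (u m : R)) * r = 0 := by
        have : (∏ m ∈ t, (u m : R)) * r ∈ Module.annihilator R M := by
          rw [← Submodule.annihilator_top, ← ht, Submodule.mem_annihilator_span]
          rintro ⟨m, hm⟩
          rw [← Finset.prod_erase_mul t _ hm, mul_assoc, mul_smul, mul_smul, hu, smul_zero]
        simpa [hann] using this
      have : r = 0 := (mul_eq_zero.1 hr0).resolve_left
        (Finset.prod_ne_zero_iff.2 fun m _ h => (u m).2 (h ▸ p.zero_mem))
      rw [this, map_zero] at hrs
      exact (IsLocalization.map_units Rp s).mul_left_eq_zero.1 hrs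
    have hdim : (1 : WithBot ℕ∞) ≤ Module.supportDim Rp Mp := by
      rw [Module.supportDim_eq_ringKrullDim_quotient_annihilator, hann',
        ringKrullDim_eq_of_ringEquiv (RingEquiv.quotientBot Rp), IsLocalization.AtPrime.ringKrullDim_eq_height p Rp]
      rw [show (1 : WithBot ℕ∞) = ((1 : ℕ∞) : WithBot ℕ∞) from rfl, WithBot.coe_le_coe, ENat.one_le_iff_ne_zero]
      intro hh
      rw [Ideal.height_eq_zero_iff, IsDomain.minimalPrimes_eq_singleton_bot] at hh
      exact hp0 hh
    have h1 := (le_min le_rfl hdim).trans (hS p)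
    obtain ⟨x, hx, hxr⟩ := Groth.Agent.DepthLib.exists_isSMulRegular_of_one_le_idealDepth hne (WithBot.coe_le_coe.1 h1)
    obtain ⟨⟨r, s⟩, hrs⟩ := IsLocalization.surj p.primeCompl x
    have hr : r ∈ p := (IsLocalization.AtPrime.to_map_mem_maximal_iff Rp p r).1 (hrs ▸ Ideal.mul_mem_right _ _ hx)
    refine hz1 ((IsLocalization.map_units Rp s).smul_eq_zero.1 (hxr ?_))
    show x • _ = x • (0 : Mp)
    rw [smul_zero, smul_smul, hrs, algebraMap_smul, LocalizedModule.smul'_mk, (hmem r).1 hr, LocalizedModule.zero_mk]

end Groth.Agent.S6868
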