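import Groth.Statements.S6870
import Groth.Agent.Lib.RankDomH1.Basic

set_option autoImplicit false
universe u
open CAlg

namespace Groth.Agent.S6870




/-- Let `R` be a domain, `M` a finite `R`-module and `j : M → M**` the evaluation map into the double
dual. Then one nonzero `c ∈ R` kills the kernel of `j` and multiplies `M**` into the image of `j`.
(The published statement says only that the kernel and cokernel of `j` are torsion; this row gives
one such `c` for both.) -/
theorem result (R : Type u) [CommRing R] [IsDomain R] (M : Type u)
    [AddCommGroup M] [Module R M] [Module.Finite R M] :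
    ∃ c : R, c ≠ 0 ∧ (∀ x : M, Module.Dual.eval R M x = 0 → c • x = 0) ∧
      ∀ y : Module.Dual R (Module.Dual R M), c • y ∈ LinearMap.range (Module.Dual.eval R M) := by
  obtain ⟨c, g, h, hc, hg, hgh, hhg⟩ := Groth.Agent.RankDomH1.exists_structure R M
  have hgh' : ∀ x, g (h x) = c • x := fun x => LinearMap.congr_fun hgh x
  refine ⟨c, hc, fun x hx => ?_, fun y => ?_⟩
  · have h0 : h x = 0 := by
      funext i
      exact LinearMap.congr_fun hx (LinearMap.proj i ∘ₗ h)
    rw [← hgh', h0, map_zero]
  · obtain ⟨u, hu⟩ := (Module.evalEquiv R (Fin (Module.finrank R M) → R)).surjective (h.dualMap.dualMap y)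
    refine ⟨g u, LinearMap.ext fun φ => ?_⟩
    have := LinearMap.congr_fun hu (φ ∘ₗ g)
    simp only [Module.evalEquiv_apply, Module.Dual.eval_apply, LinearMap.comp_apply] at this
    rw [Module.Dual.eval_apply, this]
    show y (h.dualMap (φ ∘ₗ g)) = c • y φ
    rw [← map_smul]
    congr 1
    refine LinearMap.ext fun x => ?_
    show φ (g (h x)) = c • φ x
    rw [hgh', map_smul]

end Groth.Agent.S6870
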