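import Groth.Statements.S6871
import Mathlib

set_option autoImplicit false
universe u
open CAlg

namespace Groth.Agent.S6871


namespace Aux6871

universe v

variable {R : Type v} [CommRing R] [IsNoetherianRing R] {M : Type v} [AddCommGroup M] [Module R M] [Module.Finite R M]
variable (S : Submonoid R)

/-- Localization of the dual. -/
noncomputable def D1 : Module.Dual R M →ₗ[R] Module.Dual (Localization S) (LocalizedModule S M) :=
  IsLocalizedModule.mapExtendScalars S (LocalizedModule.mkLinearMap S M) (Algebra.linearMap R (Localization S)) (Localization S)

instance : Module.FinitePresentation R M := Module.finitePresentation_of_finite R M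

instance : IsLocalizedModule S (D1 S : Module.Dual R M →ₗ[R] _) := by
  unfold D1; infer_instance

instance : Module.FinitePresentation R (Module.Dual R M) := by
  haveI : IsNoetherian R (Module.Dual R M) := isNoetherian_linearMap R R M
  exact Module.finitePresentation_of_finite R _

/-- Localization of the double dual. -/
noncomputable def D2 : Module.Dual R (Module.Dual R M) →ₗ[R]
    Module.Dual (Localization S) (Module.Dual (Localization S) (LocalizedModule S M)) :=
  IsLocalizedModule.mapExtendScalars S (D1 S) (Algebra.linearMap R (Localization S)) (Localization S)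

instance : IsLocalizedModule S (D2 S : Module.Dual R (Module.Dual R M) →ₗ[R] _) := by
  unfold D2; infer_instance

theorem map_eval : IsLocalizedModule.map S (LocalizedModule.mkLinearMap S M) (D2 S) (Module.Dual.eval R M) =
    (Module.Dual.eval (Localization S) (LocalizedModule S M)).restrictScalars R := by
  apply IsLocalizedModule.ext S (LocalizedModule.mkLinearMap S M)
    (IsLocalizedModule.map_units (D2 S : Module.Dual R (Module.Dual R M) →ₗ[R] _))
  refine LinearMap.ext fun m => ?_
  rw [LinearMap.comp_apply, IsLocalizedModule.map_apply]
  apply LinearMap.restrictScalars_injective R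
  apply IsLocalizedModule.ext S (D1 S : Module.Dual R M →ₗ[R] _)
    (IsLocalizedModule.map_units (Algebra.linearMap R (Localization S)))
  refine LinearMap.ext fun φ => ?_
  show (IsLocalizedModule.map S (D1 S) (Algebra.linearMap R (Localization S)) (Module.Dual.eval R M m)) (D1 S φ) =
    (IsLocalizedModule.map S (LocalizedModule.mkLinearMap S M) (Algebra.linearMap R (Localization S)) φ)
      (LocalizedModule.mkLinearMap S M m)
  rw [IsLocalizedModule.map_apply, IsLocalizedModule.map_apply]
  rfl

theorem reflexive_localization [Module.IsReflexive R M] :
    Module.IsReflexive (Localization S) (LocalizedModule S M) := by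
  refine ⟨?_⟩
  have hb := Module.bijective_dual_eval R M
  have h := congrArg DFunLike.coe (map_eval (M := M) S)
  simp only [LinearMap.coe_restrictScalars] at h
  rw [← h]
  exact ⟨IsLocalizedModule.map_injective S _ _ _ hb.1, IsLocalizedModule.map_surjective S _ _ _ hb.2⟩

theorem reflexive_of_maximal (h : ∀ (m : Ideal R) (_ : m.IsMaximal),
    Module.IsReflexive (Localization.AtPrime m) (LocalizedModule m.primeCompl M)) : Module.IsReflexive R M := by
  refine ⟨bijective_of_isLocalized_maximal
    (fun P _ => LocalizedModule P.primeCompl M) (fun P _ => LocalizedModule.mkLinearMap P.primeCompl M)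
    (fun P _ => Module.Dual (Localization P.primeCompl) (Module.Dual (Localization P.primeCompl) (LocalizedModule P.primeCompl M)))
    (fun P _ => D2 P.primeCompl) (Module.Dual.eval R M) fun P hP => ?_⟩
  rw [map_eval]
  haveI := h P hP
  exact Module.bijective_dual_eval (Localization P.primeCompl) (LocalizedModule P.primeCompl M)

end Aux6871



/-- Let `R` be a Noetherian domain and `M` a finite `R`-module. Then `M` is reflexive if and only if
`M_𝔭` is a reflexive `R_𝔭`-module for every prime `𝔭`, if and only if `M_𝔪` is a reflexive
`R_𝔪`-module for every maximal ideal `𝔪`. -/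
theorem result (R : Type u) [CommRing R] [IsDomain R] [IsNoetherianRing R] (M : Type u)
    [AddCommGroup M] [Module R M] [Module.Finite R M] :
    (Module.IsReflexive R M ↔
      ∀ (p : Ideal R) [p.IsPrime], Module.IsReflexive (Localization.AtPrime p) (LocalizedModule p.primeCompl M)) ∧
    (Module.IsReflexive R M ↔
      ∀ (m : Ideal R) (_ : m.IsMaximal),
        Module.IsReflexive (Localization.AtPrime m) (LocalizedModule m.primeCompl M)) := by
  refine ⟨⟨fun h p _ => Aux6871.reflexive_localization p.primeCompl,
    fun h => Aux6871.reflexive_of_maximal fun m hm => h m⟩,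
    ⟨fun h m hm => Aux6871.reflexive_localization m.primeCompl, Aux6871.reflexive_of_maximal⟩⟩

end Groth.Agent.S6871
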