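import Groth.Statements.S6874
import Groth.Agent.Lib.Depth.HomDepth
import Groth.Agent.Lib.RefHull26.AlgKer

set_option autoImplicit false
universe u
open TensorProduct
open CAlg

namespace Groth.Agent.S6874

/-- For a flat ring map `R → R'` between Noetherian domains and a finite reflexive `R`-module `M`, the
base change `R' ⊗_R M` is a (finite) reflexive `R'`-module. -/
theorem result (R R' : Type u) [CommRing R] [IsDomain R]
    [IsNoetherianRing R] [CommRing R'] [IsDomain R'] [IsNoetherianRing R'] [Algebra R R'] [Module.Flat R R']
    (M : Type u) [AddCommGroup M] [Module R M] [Module.Finite R M] [Module.IsReflexive R M] :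
    Module.IsReflexive R' (R' ⊗[R] M) := by
  have : Module.Finite R (Module.Dual R M) := Groth.Agent.RH26.finite_dual
  obtain ⟨n, m, u, ⟨e⟩⟩ := Groth.Agent.DepthLib.exists_linearMap_ker_equiv (A := R)
    (M := Module.Dual R M) (N := R)
  let i : M →ₗ[R] (Fin n → R) :=
    (LinearMap.ker u).subtype ∘ₗ ((Module.evalEquiv R M).trans e).toLinearMap
  have hi : Function.Injective i :=
    (LinearMap.ker u).injective_subtype.comp ((Module.evalEquiv R M).trans e).injective
  have hex : Function.Exact i u := by
    intro y
    constructor
    · intro hy
      exact ⟨((Module.evalEquiv R M).trans e).symm ⟨y, hy⟩, by simp [i]⟩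
    · rintro ⟨x, rfl⟩
      exact (((Module.evalEquiv R M).trans e) x).2
  exact Groth.Agent.RH26.isReflexive_of_exact (LinearMap.baseChange R' i) (LinearMap.baseChange R' u)
    (Module.Flat.lTensor_preserves_injective_linearMap i hi) (Module.Flat.lTensor_exact R' hex)

end Groth.Agent.S6874
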