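import Groth.Statements.S6877
import Groth.Agent.Lib.Depth.HomDepth

set_option autoImplicit false
universe u
open CAlg

namespace Groth.Agent.S6877

/-- Let `R` be a Noetherian ring and `M, N` finite `R`-modules. If `N` has `(S_1)`, resp. `(S_2)`, then
so does `Hom_R(M, N)`. (The published statement has a third part, over a domain: `N` torsion free
with `(S_2)` implies the same for `Hom_R(M, N)`; this row states parts one and two.) -/
theorem result (R : Type u) [CommRing R] [IsNoetherianRing R]
    (M N : Type u) [AddCommGroup M] [Module R M] [Module.Finite R M] [AddCommGroup N] [Module R N] [Module.Finite R N] :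
    (LocCoh.HasSk 1 R N → LocCoh.HasSk 1 R (M →ₗ[R] N)) ∧
    (LocCoh.HasSk 2 R N → LocCoh.HasSk 2 R (M →ₗ[R] N)) := by
  exact ⟨Groth.Agent.DepthLib.hasSk_one_linearMap, Groth.Agent.DepthLib.hasSk_two_linearMap⟩

end Groth.Agent.S6877
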