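import Groth.Statements.S6878
import Mathlib.RingTheory.Ideal.AssociatedPrime.Basic
import Mathlib.RingTheory.Localization.AtPrime.Basic

set_option autoImplicit false
universe u
open CAlg

namespace Groth.Agent.S6878

/-- Let `R` be a Noetherian ring and `φ : M → N` a map of `R`-modules. Suppose that for every prime `𝔭`
of `R` either `M_𝔭 → N_𝔭` is injective or `𝔭` is not an associated prime of `M`. Then `φ` is
injective. -/
theorem result (R : Type u) [CommRing R]
    [IsNoetherianRing R] {M N : Type u} [AddCommGroup M] [Module R M] [AddCommGroup N] [Module R N] (φ : M →ₗ[R] N)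
    (h : ∀ (p : Ideal R) [p.IsPrime],
      Function.Injective (LocalizedModule.map p.primeCompl φ) ∨ p ∉ associatedPrimes R M) :
    Function.Injective φ := by
  rw [← LinearMap.ker_eq_bot]
  by_contra hne
  haveI : Nontrivial (LinearMap.ker φ) := Submodule.nontrivial_iff_ne_bot.2 hne
  obtain ⟨p, hp⟩ := associatedPrimes.nonempty R (LinearMap.ker φ)
  have hpM : p ∈ associatedPrimes R M := associatedPrimes.subset_of_injective (LinearMap.ker φ).injective_subtype hp
  haveI := hp.isPrime
  obtain ⟨-, x, hx⟩ := isAssociatedPrime_iff.1 hp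
  have hx' : ∀ r : R, r ∈ p ↔ r • (x : M) = 0 := fun r => by
    rw [hx, Submodule.mem_colon_singleton, Submodule.mem_bot]
    exact ⟨fun e => congrArg Subtype.val e, fun e => Subtype.ext e⟩
  refine (h p).elim (fun hi => ?_) (fun h' => h' hpM)
  have h0 : LocalizedModule.mkLinearMap p.primeCompl M x = 0 := hi (by
    rw [map_zero, LocalizedModule.mkLinearMap_apply, LocalizedModule.map_mk, LinearMap.mem_ker.1 x.2, LocalizedModule.zero_mk])
  obtain ⟨c, hc⟩ := (IsLocalizedModule.eq_zero_iff p.primeCompl _).1 h0
  exact c.2 ((hx' c).2 hc)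

end Groth.Agent.S6878
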