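import Groth.Statements.S6880
import Groth.Agent.Lib.Depth.ReflexiveCrit

set_option autoImplicit false
universe u
open CAlg

namespace Groth.Agent.S6880

/-- Let `R` be a Noetherian domain and `M` a finite reflexive `R`-module. For a prime `𝔭` with
`depth(R_𝔭) ≥ 2` one has `depth(M_𝔭) ≥ 2`; and if `R` has `(S_2)` then `M` has `(S_2)`. -/
theorem result (R : Type u) [CommRing R] [IsDomain R] [IsNoetherianRing R] (M : Type u)
    [AddCommGroup M] [Module R M] [Module.Finite R M] [Module.IsReflexive R M] :
    (∀ (p : Ideal R) [p.IsPrime], 2 ≤ LocCoh.depth (Localization.AtPrime p) (Localization.AtPrime p) →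
      2 ≤ LocCoh.depth (Localization.AtPrime p) (LocalizedModule p.primeCompl M)) ∧
    (LocCoh.HasSk 2 R R → LocCoh.HasSk 2 R M) := by
  have : Module.Finite R (Module.Dual R M) := Groth.Agent.RH26.finite_dual
  refine ⟨fun p _ hd => ?_, fun h => ?_⟩
  · obtain ⟨e⟩ := Groth.Agent.DepthLib.exists_localized_dual_equiv (Module.Dual R M) p
    let e₀ : LocalizedModule p.primeCompl M ≃ₗ[Localization.AtPrime p]
        LocalizedModule p.primeCompl (Module.Dual R M →ₗ[R] R) :=
      IsLocalizedModule.mapEquiv p.primeCompl (LocalizedModule.mkLinearMap p.primeCompl M)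
        (LocalizedModule.mkLinearMap p.primeCompl _) (Localization.AtPrime p) (Module.evalEquiv R M)
    have : Module.Finite (Localization.AtPrime p) (LocalizedModule p.primeCompl (Module.Dual R M)) :=
      Module.Finite.of_isLocalizedModule p.primeCompl (LocalizedModule.mkLinearMap p.primeCompl _)
    rw [LocCoh.depth, Groth.Agent.DepthLib.idealDepth_congr (e₀.trans e)]
    exact Groth.Agent.DepthLib.two_le_idealDepth_linearMap _ hd
  · exact Groth.Agent.DepthLib.hasSk_congr (Module.evalEquiv R M).symm
      (Groth.Agent.DepthLib.hasSk_two_linearMap (M := Module.Dual R M) h)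

end Groth.Agent.S6880
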