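import Groth.Statements.S6881
import Groth.Agent.Lib.Depth.ReflexiveLoc
import Groth.Agent.Lib.RefHull26.Algebra
import Groth.Agent.Lib.RefHull26.Closed
import Groth.Agent.Lib.CAlgLow.NormalInter

set_option autoImplicit false
universe u
open CAlg

namespace Groth.Agent.S6881


open Polynomial

theorem minpoly_smul_eq_scaleRoots {K L : Type u} [Field K] [Field L] [Algebra K L] [FiniteDimensional K L]
    {k : K} (hk : k ≠ 0) (y : L) :
    minpoly K (algebraMap K L k * y) = (minpoly K y).scaleRoots k := by
  refine (minpoly.unique K _ ((monic_scaleRoots_iff k).2 (minpoly.monic (Algebra.IsIntegral.isIntegral y)))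
    (scaleRoots_aeval_eq_zero (minpoly.aeval K y)) fun q hq hq0 => ?_).symm
  rw [degree_scaleRoots]
  calc (minpoly K y).degree ≤ (q.scaleRoots k⁻¹).degree := minpoly.min K y ((monic_scaleRoots_iff _).2 hq) (by
          have := scaleRoots_aeval_eq_zero (r := k⁻¹) hq0
          rwa [← mul_assoc, ← map_mul, inv_mul_cancel₀ hk, map_one, one_mul] at this)
    _ = q.degree := degree_scaleRoots q


/-- For `A` a Noetherian integrally closed domain with fraction field `K` and `L/K` a finite field
extension, if the integral closure of `A` in `L` is a finitely generated `A`-module then it is a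
reflexive `A`-module. -/
theorem result (A K L : Type u) [CommRing A] [IsDomain A] [IsNoetherianRing A]
    [IsIntegrallyClosed A] [Field K] [Algebra A K] [IsFractionRing A K] [Field L] [Algebra K L] [FiniteDimensional K L]
    [Algebra A L] [IsScalarTower A K L] [Module.Finite A ↥(integralClosure A L)] :
    Module.IsReflexive A ↥(integralClosure A L) := by
  have : Module.IsTorsionFree A (integralClosure A L) := by
    refine ⟨fun a ha => IsSMulRegular.of_right_eq_zero_of_smul fun x hx => Subtype.ext ?_⟩
    have h : algebraMap A L a * (x : L) = 0 := by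
      rw [← Algebra.smul_def]; exact congrArg Subtype.val hx
    refine (mul_eq_zero.1 h).resolve_left ?_
    rw [IsScalarTower.algebraMap_apply A K L, map_eq_zero, map_eq_zero_iff _ (IsFractionRing.injective A K)]
    exact ha.ne_zero
  haveI : NoZeroSMulDivisors A (integralClosure A L) := ⟨fun {c x} h => smul_eq_zero.1 h⟩
  set B := integralClosure A L
  have hinj : Function.Injective (Module.Dual.eval A B) := by
    rw [← LinearMap.ker_eq_bot, Submodule.eq_bot_iff]
    intro x hx
    obtain ⟨r, hr, h⟩ := Groth.Agent.RH26.exists_smul_eq_zero_of_forall_dual (q := x) fun φ =>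
      LinearMap.congr_fun (LinearMap.mem_ker.1 hx) φ
    exact (smul_eq_zero.1 h).resolve_left hr
  refine ⟨hinj, fun φ => ?_⟩
  obtain ⟨a, ha, b, hb⟩ := Groth.Agent.RH26.exists_smul_mem_range_eval φ
  have haL : algebraMap A L a ≠ 0 := by
    rw [IsScalarTower.algebraMap_apply A K L, ne_eq, map_eq_zero,
      map_eq_zero_iff _ (IsFractionRing.injective A K)]
    exact ha
  set y : L := (b : L) / algebraMap A L a with hy
  have hint : IsIntegral A y := by
    have hcoeff : ∀ i, (minpoly K y).coeff i ∈ Set.range (algebraMap A K) := fun i => by
      refine Groth.Agent.NormalInter.mem_range_of_forall_height_one _ fun q _ hq => ?_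
      haveI : IsDomain (Localization.AtPrime q) :=
        IsLocalization.isDomain_localization q.primeCompl_le_nonZeroDivisors
      haveI : IsIntegrallyClosed (Localization.AtPrime q) :=
        isIntegrallyClosed_of_isLocalization _ q.primeCompl q.primeCompl_le_nonZeroDivisors
      haveI := Groth.Agent.Curve17.isDiscreteValuationRing_of_dim_one (Localization.AtPrime q) (by
        rw [IsLocalization.AtPrime.ringKrullDim_eq_height q, hq]; rfl)
      haveI : Module.Finite (Localization.AtPrime q) (LocalizedModule q.primeCompl B) :=
        Module.Finite.of_isLocalizedModule q.primeCompl (LocalizedModule.mkLinearMap q.primeCompl B)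
      haveI : Module.IsTorsionFree (Localization.AtPrime q) (LocalizedModule q.primeCompl B) := by
        refine ⟨fun c hc => IsSMulRegular.of_right_eq_zero_of_smul fun x hx => ?_⟩
        obtain ⟨⟨c₀, t⟩, hct⟩ := IsLocalization.surj q.primeCompl c
        obtain ⟨⟨z, t'⟩, hzt⟩ := IsLocalizedModule.surj q.primeCompl
          (LocalizedModule.mkLinearMap q.primeCompl B) x
        have : LocalizedModule.mkLinearMap q.primeCompl B (c₀ • z) = 0 := by
          rw [map_smul, ← hzt, ← algebraMap_smul (Localization.AtPrime q) c₀, ← hct, Submonoid.smul_def,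
            smul_comm _ (t' : A) x, mul_comm, mul_smul, hx, smul_zero, smul_zero]
        obtain ⟨e, he⟩ := (IsLocalizedModule.eq_zero_iff q.primeCompl _).1 this
        rw [Submonoid.smul_def] at he
        rcases smul_eq_zero.1 he with he | he
        · exact absurd (show (e : A) ∈ q from by rw [he]; exact q.zero_mem) e.2
        rcases smul_eq_zero.1 he with hc₀ | hz
        · exfalso
          rw [hc₀, map_zero] at hct
          exact hc.ne_zero ((IsLocalization.map_units (Localization.AtPrime q) t).mul_left_eq_zero.1 hct)
        · rw [hz, map_zero] at hzt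
          exact (IsLocalizedModule.smul_inj (LocalizedModule.mkLinearMap q.primeCompl B) t' x 0).1
            (by rw [hzt, smul_zero])
      haveI : Module.Free (Localization.AtPrime q) (LocalizedModule q.primeCompl B) :=
        Module.free_of_finite_type_torsion_free'
      obtain ⟨s, hs, b', hb'⟩ := (Groth.Agent.DepthLib.eval_locally_bijective (G := B) q.primeCompl
        inferInstance).2 φ
      have hab : a • b' = s • b := hinj (by rw [map_smul, map_smul, hb', hb, smul_comm])
      have hsy : algebraMap K L (algebraMap A K s) * y = (b' : L) := by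
        rw [← IsScalarTower.algebraMap_apply, hy, ← mul_div_assoc, div_eq_iff haL, mul_comm (b' : L),
          ← Algebra.smul_def, ← Algebra.smul_def]
        exact (congrArg Subtype.val hab).symm
      have hs0 : algebraMap A K s ≠ 0 := fun h0 => hs (by
        rw [(map_eq_zero_iff _ (IsFractionRing.injective A K)).1 h0]; exact q.zero_mem)
      have h1 := congrArg (fun P => Polynomial.coeff P i) ((minpoly.isIntegrallyClosed_eq_field_fractions' K
        (show IsIntegral A (b' : L) from b'.2)).symm.trans
          (by rw [← hsy, minpoly_smul_eq_scaleRoots hs0 y]))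
      simp only [Polynomial.coeff_map, Polynomial.coeff_scaleRoots] at h1
      exact ⟨s ^ ((minpoly K y).natDegree - i), fun h => hs ((inferInstance : q.IsPrime).mem_of_pow_mem _ h),
        _, by rw [h1, map_pow, mul_comm]⟩
    choose c hc using hcoeff
    have hl : minpoly K y ∈ Polynomial.lifts (algebraMap A K) :=
      (Polynomial.lifts_iff_coeff_lifts _).2 fun i => ⟨c i, hc i⟩
    obtain ⟨P, hP, -, hPm⟩ := Polynomial.lifts_and_degree_eq_and_monic hl
      (minpoly.monic (Algebra.IsIntegral.isIntegral y))
    refine ⟨P, hPm, ?_⟩
    rw [← Polynomial.aeval_def, ← Polynomial.aeval_map_algebraMap K, hP, minpoly.aeval]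
  refine ⟨⟨y, hint⟩, ?_⟩
  have h : a • (⟨y, hint⟩ : B) = b := Subtype.ext (by
    show a • y = (b : L)
    rw [Algebra.smul_def, hy, mul_div_cancel₀ _ haL])
  refine (smul_right_injective _ ha) ?_
  show a • Module.Dual.eval A B _ = a • φ
  rw [← map_smul, h, hb]

end Groth.Agent.S6881
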