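import Groth.Statements.S6882
import Mathlib.LinearAlgebra.FreeModule.PID
import Mathlib.LinearAlgebra.Dual.Lemmas
import Mathlib.Algebra.Module.Torsion.Basic
import Mathlib.RingTheory.DiscreteValuationRing.Basic

set_option autoImplicit false
universe u
open CAlg

namespace Groth.Agent.S6882

/-- For a finite module `M` over a discrete valuation ring `R`, the evaluation map from `M` to its
double dual `M**` is surjective. -/
theorem result (R : Type u) [CommRing R] [IsDomain R]
    [IsDiscreteValuationRing R] (M : Type u) [AddCommGroup M] [Module R M] [Module.Finite R M] :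
    Function.Surjective (Module.Dual.eval R M) := by
  let T := Submodule.torsion R M
  have : Module.Free R (M ⧸ T) := Module.free_of_finite_type_torsion_free'
  intro F
  have hdual : Function.Surjective (T.mkQ.dualMap) := by
    intro f
    refine ⟨T.liftQ f ?_, LinearMap.ext fun x => rfl⟩
    intro x hx
    obtain ⟨⟨a, ha⟩, hax⟩ := (Submodule.mem_torsion_iff x).1 hx
    have h0 : a * f x = 0 := by
      rw [← smul_eq_mul, ← map_smul]
      exact (congrArg f hax).trans (map_zero f)
    exact (mul_eq_zero.1 h0).resolve_left (nonZeroDivisors.ne_zero ha)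
  obtain ⟨z, hz⟩ := (Module.bijective_dual_eval R (M ⧸ T)).2 (F.comp T.mkQ.dualMap)
  obtain ⟨m, rfl⟩ := T.mkQ_surjective z
  refine ⟨m, LinearMap.ext fun f => ?_⟩
  obtain ⟨g, rfl⟩ := hdual f
  exact LinearMap.congr_fun hz g

end Groth.Agent.S6882
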