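import Groth.Statements.S6885
import Mathlib
import Groth.Agent.Lib.CAlgLow.FerrandFlat

set_option autoImplicit false
universe u
open TensorProduct
open CAlg

namespace Groth.Agent.S6885

open TensorProduct

variable {R : Type u} [CommRing R] (S : Type u) [CommRing S] [Algebra R S]

/-- Flat with projective base change. -/
def Good (Q : Type u) [AddCommGroup Q] [Module R Q] : Prop :=
  Module.Flat R Q ∧ Module.Projective S (S ⊗[R] Q)

variable (R) in
/-- Vanishing of `Ext¹(Q, N)` for good `Q`. -/
def InC (N : Type u) [AddCommGroup N] [Module R N] : Prop :=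
  ∀ (F : Type u) [AddCommGroup F] [Module R F] [Module.Free R F] (K : Submodule R F),
    Good S (R := R) (F ⧸ K) → ∀ g : K →ₗ[R] N, ∃ h : F →ₗ[R] N, h ∘ₗ K.subtype = g

variable {S}

/-- A retraction of the base change of the inclusion of the kernel. -/
theorem exists_retraction {F : Type u} [AddCommGroup F] [Module R F] (K : Submodule R F) (hQ : Good S (R := R) (F ⧸ K)) :
    ∃ r : S ⊗[R] F →ₗ[S] S ⊗[R] K, r ∘ₗ K.subtype.baseChange S = LinearMap.id := by
  haveI := hQ.1
  haveI := hQ.2
  have hex : Function.Exact (K.subtype.baseChange S) (K.mkQ.baseChange S) :=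
    lTensor_exact S (LinearMap.exact_subtype_mkQ K) K.mkQ_surjective
  have hinj : Function.Injective (K.subtype.baseChange S) :=
    LinearMap.lTensor_injective_of_exact_of_flat K.mkQ K.mkQ_surjective K.subtype K.injective_subtype
      (LinearMap.exact_subtype_mkQ K) S
  have hs : Function.Surjective (K.mkQ.baseChange S) := LinearMap.lTensor_surjective S K.mkQ_surjective
  obtain ⟨s, hs'⟩ := Module.projective_lifting_property (K.mkQ.baseChange S) LinearMap.id hs
  exact ((Function.Exact.split_tfae hex hinj hs).out 0 1 :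
    (∃ l, K.mkQ.baseChange S ∘ₗ l = LinearMap.id) ↔ ∃ l, l ∘ₗ K.subtype.baseChange S = LinearMap.id).1 ⟨s, hs'⟩

theorem inC_of_module {N : Type u} [AddCommGroup N] [Module R N] [Module S N] [IsScalarTower R S N] : InC R S N := by
  intro F _ _ _ K hK g
  obtain ⟨r, hr⟩ := exists_retraction K hK
  refine ⟨(LinearMap.liftBaseChange S g ∘ₗ r).restrictScalars R ∘ₗ (TensorProduct.mk R S F 1), LinearMap.ext fun x => ?_⟩
  show LinearMap.liftBaseChange S g (r (K.subtype.baseChange S (1 ⊗ₜ x))) = g x
  rw [← LinearMap.comp_apply r, hr, LinearMap.id_apply, LinearMap.liftBaseChange_tmul, one_smul]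

variable [IsNoetherianRing R] [IsNoetherianRing S] [Module.Finite R S] (hinj : Function.Injective (algebraMap R S))

include hinj in
theorem good_ker {F : Type u} [AddCommGroup F] [Module R F] [Module.Free R F] (K : Submodule R F)
    (hQ : Good S (R := R) (F ⧸ K)) : Good S (R := R) K := by
  obtain ⟨r, hr⟩ := exists_retraction K hQ
  haveI : Module.Projective S (S ⊗[R] F) := inferInstance
  haveI := Module.Projective.of_split (K.subtype.baseChange S) r hr
  exact ⟨CAlgLow.Ferrand.flat_descent (S := S) hinj inferInstance, inferInstance⟩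

/-- Good modules lift along surjections with kernel in the class. -/
theorem exists_lift {Q N M : Type u} [AddCommGroup Q] [Module R Q] [AddCommGroup N] [Module R N] [AddCommGroup M]
    [Module R M] (hQ : Good S (R := R) Q) (q : N →ₗ[R] M) (hq : Function.Surjective q)
    (hC : InC R S (LinearMap.ker q)) (f : Q →ₗ[R] M) : ∃ f' : Q →ₗ[R] N, q ∘ₗ f' = f := by
  let p := Finsupp.linearCombination R (id : Q → Q)
  have hp : Function.Surjective p := Finsupp.linearCombination_id_surjective R Q
  let e := LinearMap.quotKerEquivOfSurjective p hp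
  have hg : Good S (R := R) ((Q →₀ R) ⧸ LinearMap.ker p) := by
    haveI := hQ.1
    haveI := hQ.2
    exact ⟨Module.Flat.of_linearEquiv e, Module.Projective.of_equiv (TensorProduct.AlgebraTensorModule.congr (LinearEquiv.refl S S) e.symm)⟩
  obtain ⟨l, hl⟩ := Module.projective_lifting_property q (f ∘ₗ p) hq
  have hmem : ∀ x : LinearMap.ker p, l x ∈ LinearMap.ker q := fun x => by
    rw [LinearMap.mem_ker, ← LinearMap.comp_apply, hl, LinearMap.comp_apply, show p x = 0 from x.2, map_zero]
  obtain ⟨h, hh⟩ := hC (Q →₀ R) (LinearMap.ker p) hg ((l ∘ₗ (LinearMap.ker p).subtype).codRestrict _ hmem)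
  let l' := l - (LinearMap.ker q).subtype ∘ₗ h
  have hl' : LinearMap.ker p ≤ LinearMap.ker l' := fun x hx => by
    have := congrArg Subtype.val (LinearMap.congr_fun hh ⟨x, hx⟩)
    show l x - (h x : N) = 0
    rw [sub_eq_zero]
    exact this.symm
  refine ⟨Submodule.liftQ _ l' hl' ∘ₗ e.symm.toLinearMap, LinearMap.ext fun y => ?_⟩
  obtain ⟨x, rfl⟩ := hp y
  have he : e.symm (p x) = Submodule.Quotient.mk x := LinearMap.quotKerEquivOfSurjective_symm_apply p hp x
  show q (Submodule.liftQ _ l' hl' (e.symm (p x))) = f (p x)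
  rw [he, Submodule.liftQ_apply]
  show q (l x - (h x : N)) = f (p x)
  rw [map_sub, show q (h x : N) = 0 from (h x).2, sub_zero, ← LinearMap.comp_apply, hl]
  rfl

theorem inC_extension {N M : Type u} [AddCommGroup N] [Module R N] [AddCommGroup M] [Module R M]
    (q : N →ₗ[R] M) (hq : Function.Surjective q) (h1 : InC R S (LinearMap.ker q)) (h2 : InC R S M) : InC R S N := by
  intro F _ _ _ K hK g
  obtain ⟨a, ha⟩ := h2 F K hK (q ∘ₗ g)
  obtain ⟨a', ha'⟩ := Module.projective_lifting_property q a hq
  have hmem : ∀ x : K, (g - a' ∘ₗ K.subtype) x ∈ LinearMap.ker q := fun x => by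
    rw [LinearMap.mem_ker, LinearMap.sub_apply, map_sub, sub_eq_zero, ← LinearMap.comp_apply, ← LinearMap.comp_apply,
      ← LinearMap.comp_assoc, ha', ha]
  obtain ⟨b, hb⟩ := h1 F K hK ((g - a' ∘ₗ K.subtype).codRestrict _ hmem)
  refine ⟨a' + (LinearMap.ker q).subtype ∘ₗ b, LinearMap.ext fun x => ?_⟩
  have h := congrArg Subtype.val (LinearMap.congr_fun hb x)
  show a' x + (b x : N) = g x
  rw [show (b x : N) = g x - a' x from h, add_sub_cancel]

include hinj in
/-- Multiplication by an element factoring through a class member. -/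
theorem inC_of_smul {N : Type u} [AddCommGroup N] [Module R N] (c : R)
    (hk : InC R S (LinearMap.ker (LinearMap.lsmul R N c)))
    (hc : InC R S (N ⧸ LinearMap.range (LinearMap.lsmul R N c)))
    {N' : Type u} [AddCommGroup N'] [Module R N'] (hN' : InC R S N') (ι : N →ₗ[R] N') (π : N' →ₗ[R] N)
    (hπι : π ∘ₗ ι = LinearMap.lsmul R N c) : InC R S N := by
  intro F _ _ _ K hK g
  set cN := LinearMap.range (LinearMap.lsmul R N c)
  obtain ⟨a, ha⟩ := hc F K hK (cN.mkQ ∘ₗ g)
  obtain ⟨a', ha'⟩ := Module.projective_lifting_property cN.mkQ a cN.mkQ_surjective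
  have hmem : ∀ x : K, (g - a' ∘ₗ K.subtype) x ∈ cN := fun x => by
    rw [← Submodule.ker_mkQ cN, LinearMap.mem_ker, LinearMap.sub_apply, map_sub, sub_eq_zero, ← LinearMap.comp_apply,
      ← LinearMap.comp_apply, ← LinearMap.comp_assoc, ha', ha]
  obtain ⟨g₂, hg₂⟩ := exists_lift (good_ker hinj K hK) (LinearMap.lsmul R N c).rangeRestrict
    (LinearMap.surjective_rangeRestrict _) (by rw [LinearMap.ker_rangeRestrict]; exact hk)
    ((g - a' ∘ₗ K.subtype).codRestrict _ hmem)
  obtain ⟨b, hb⟩ := hN' F K hK (ι ∘ₗ g₂)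
  refine ⟨a' + π ∘ₗ b, LinearMap.ext fun x => ?_⟩
  have h := congrArg Subtype.val (LinearMap.congr_fun hg₂ x)
  show a' x + π (b x) = g x
  rw [show b x = ι (g₂ x) from LinearMap.congr_fun hb x, ← LinearMap.comp_apply π, hπι]
  rw [show LinearMap.lsmul R N c (g₂ x) = g x - a' x from h, add_sub_cancel]

theorem exists_functional {D T : Type u} [CommRing D] [IsDomain D] [CommRing T] [IsDomain T] [Algebra D T]
    [Module.Finite D T] [FaithfulSMul D T] : ∃ φ : T →ₗ[D] D, φ 1 ≠ 0 := by
  classical
  let K := FractionRing D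
  let L := FractionRing T
  letI : Algebra K L := FractionRing.liftAlgebra D L
  obtain ⟨ψ, hψ⟩ := (Algebra.linearMap K L).exists_leftInverse_of_injective
    (LinearMap.ker_eq_bot.2 (algebraMap K L).injective)
  let ψT : T →ₗ[D] K := (ψ.restrictScalars D) ∘ₗ (IsScalarTower.toAlgHom D T L).toLinearMap
  obtain ⟨s, hs⟩ := Submodule.fg_iff_exists_fin_generating_family.1 (Module.Finite.fg_top (R := D) (M := T))
  obtain ⟨v, hv⟩ := hs
  obtain ⟨b, hb⟩ := IsLocalization.exist_integer_multiples (nonZeroDivisors D) Finset.univ fun i => ψT (v i)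
  have hall : ∀ t, (b : D) • ψT t ∈ LinearMap.range (Algebra.linearMap D K) := by
    have hle : Submodule.span D (Set.range v) ≤
        (LinearMap.range (Algebra.linearMap D K)).comap ((b : D) • ψT) :=
      Submodule.span_le.2 (by rintro _ ⟨i, rfl⟩; exact hb i (Finset.mem_univ i))
    exact fun t => hle (hv ▸ Submodule.mem_top)
  let e := LinearEquiv.ofInjective (Algebra.linearMap D K) (IsFractionRing.injective D K)
  refine ⟨e.symm.toLinearMap ∘ₗ ((b : D) • ψT).codRestrict _ hall, fun h => ?_⟩
  have h1 := congrArg (fun z => (e z : K)) h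
  simp only [LinearMap.comp_apply, LinearEquiv.coe_coe, LinearEquiv.apply_symm_apply, map_zero, ZeroMemClass.coe_zero,
    LinearMap.codRestrict_apply, LinearMap.smul_apply] at h1
  have h2 : ψT 1 = 1 := by
    show ψ ((algebraMap T L) 1) = 1
    rw [map_one]
    simpa using LinearMap.congr_fun hψ 1
  rw [h2, Algebra.smul_def, mul_one, IsFractionRing.to_map_eq_zero_iff] at h1
  exact nonZeroDivisors.coe_ne_zero b h1

include hinj in
theorem inC_all (I : Ideal R) : ∀ (N : Type u) [AddCommGroup N] [Module R N],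
    (∀ a ∈ I, ∀ n : N, a • n = 0) → InC R S N := by
  induction I using WellFoundedGT.induction with
  | _ I ih =>
    intro N _ _ hN
    by_cases htop : I = ⊤
    · intro F _ _ _ K _ g
      refine ⟨0, LinearMap.ext fun x => ?_⟩
      have h1 := hN 1 (htop ▸ Submodule.mem_top) (g x)
      rw [one_smul] at h1
      simp [h1]
    by_cases hp : I.IsPrime
    · haveI := hp
      haveI : Algebra.IsIntegral R S := Algebra.IsIntegral.of_finite R S
      obtain ⟨q, -, hq, hqI⟩ := Ideal.exists_ideal_over_prime_of_isIntegral I (⊥ : Ideal S)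
        (by rw [← RingHom.ker_eq_comap_bot, (RingHom.injective_iff_ker_eq_bot _).1 hinj]; exact bot_le)
      haveI := hq
      haveI : q.LiesOver I := ⟨hqI.symm⟩
      haveI : Module.Finite (R ⧸ I) (S ⧸ q) := Module.Finite.of_restrictScalars_finite R _ _
      haveI : FaithfulSMul (R ⧸ I) (S ⧸ q) := inferInstance
      obtain ⟨φ, hφ⟩ := exists_functional (D := R ⧸ I) (T := S ⧸ q)
      letI : Module (R ⧸ I) N := Module.IsTorsionBySet.module fun x a => hN a.1 a.2 x
      haveI : IsScalarTower R (R ⧸ I) N := ⟨fun r x n => by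
        obtain ⟨x, rfl⟩ := Ideal.Quotient.mk_surjective x
        show Ideal.Quotient.mk I (r * x) • n = r • Ideal.Quotient.mk I x • n
        exact mul_smul r x n⟩
      let φ' : S →ₗ[R] R ⧸ I := φ.restrictScalars R ∘ₗ (Ideal.Quotient.mkₐ R q).toLinearMap
      obtain ⟨c, hc⟩ := Ideal.Quotient.mk_surjective (φ 1)
      have hcI : c ∉ I := fun h => hφ (by rw [← hc, Ideal.Quotient.eq_zero_iff_mem.2 h])
      have hlt : I < I ⊔ Ideal.span {c} :=
        lt_of_le_of_ne le_sup_left fun h => hcI (h ▸ Ideal.mem_sup_right (Ideal.mem_span_singleton_self c))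
      have hkill : ∀ (P : Type u) [AddCommGroup P] [Module R P], (∀ a ∈ I, ∀ n : P, a • n = 0) →
          (∀ n : P, c • n = 0) → InC R S P := fun P _ _ h1 h2 => ih _ hlt P fun a ha n => by
        obtain ⟨i, hi, j, hj, rfl⟩ := Submodule.mem_sup.1 ha
        obtain ⟨r, rfl⟩ := Ideal.mem_span_singleton'.1 hj
        rw [add_smul, h1 i hi, mul_smul, h2, smul_zero, add_zero]
      refine inC_of_smul hinj c
        (hkill _ (fun a ha n => Subtype.ext (hN a ha n.1)) fun n => Subtype.ext n.2)
        (hkill _ (fun a ha n => ?_) fun n => ?_)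
        (inC_of_module (N := S ⊗[R] N))
        (TensorProduct.mk R S N 1)
        (TensorProduct.lift ((LinearMap.lsmul (R ⧸ I) N).restrictScalars₁₂ R R ∘ₗ φ')) ?_
      · induction n using Submodule.Quotient.induction_on with
        | _ n => rw [← Submodule.Quotient.mk_smul, hN a ha, Submodule.Quotient.mk_zero]
      · induction n using Submodule.Quotient.induction_on with
        | _ n => rw [← Submodule.Quotient.mk_smul, Submodule.Quotient.mk_eq_zero]; exact ⟨n, rfl⟩
      · refine LinearMap.ext fun n => ?_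
        show φ' 1 • n = c • n
        show φ (Ideal.Quotient.mk q 1) • n = _
        rw [map_one, ← hc]
        rfl
    · obtain ⟨a, ha, b, hb, hab⟩ := (Ideal.not_isPrime_iff.1 hp).resolve_left htop
      let aN := LinearMap.range (LinearMap.lsmul R N a)
      refine inC_extension aN.mkQ aN.mkQ_surjective ?_ ?_
      · refine ih (I ⊔ Ideal.span {b}) (lt_of_le_of_ne le_sup_left fun h => hb (h ▸ Ideal.mem_sup_right (Ideal.mem_span_singleton_self b))) _ fun r hr x => ?_
        obtain ⟨i, hi, j, hj, rfl⟩ := Submodule.mem_sup.1 hr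
        obtain ⟨t, rfl⟩ := Ideal.mem_span_singleton'.1 hj
        refine Subtype.ext ?_
        show (i + t * b) • (x : N) = 0
        obtain ⟨n, hn⟩ : (x : N) ∈ aN := (Submodule.Quotient.mk_eq_zero aN).1 x.2
        rw [← hn]
        show (i + t * b) • a • n = 0
        rw [← mul_smul]
        refine hN _ ?_ n
        rw [add_mul]
        exact add_mem (Ideal.mul_mem_right _ _ hi) (by rw [mul_assoc, mul_comm b]; exact Ideal.mul_mem_left _ _ hab)
      · refine ih (I ⊔ Ideal.span {a}) (lt_of_le_of_ne le_sup_left fun h => ha (h ▸ Ideal.mem_sup_right (Ideal.mem_span_singleton_self a))) _ fun r hr x => ?_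
        obtain ⟨i, hi, j, hj, rfl⟩ := Submodule.mem_sup.1 hr
        obtain ⟨t, rfl⟩ := Ideal.mem_span_singleton'.1 hj
        induction x using Submodule.Quotient.induction_on with
        | _ n =>
          rw [← Submodule.Quotient.mk_smul, add_smul, hN i hi, zero_add, mul_smul, Submodule.Quotient.mk_eq_zero]
          exact Submodule.smul_mem _ t ⟨n, rfl⟩



/-- For an injective ring map `R → S` between Noetherian rings making `S` a finite `R`-module, an
`R`-module `P` whose base change `S ⊗_R P` is projective over `S` is projective over `R`. -/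
theorem result (R S : Type u) [CommRing R]
    [IsNoetherianRing R] [CommRing S] [IsNoetherianRing S] [Algebra R S] [Module.Finite R S]
    (hinj : Function.Injective (algebraMap R S)) (P : Type u) [AddCommGroup P] [Module R P]
    [Module.Projective S (S ⊗[R] P)] : Module.Projective R P := by
  have hflat : Module.Flat R P := CAlgLow.Ferrand.flat_descent (S := S) hinj inferInstance
  let p := Finsupp.linearCombination R (id : P → P)
  have hp : Function.Surjective p := Finsupp.linearCombination_id_surjective R P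
  let e := LinearMap.quotKerEquivOfSurjective p hp
  have hg : Good S (R := R) ((P →₀ R) ⧸ LinearMap.ker p) :=
    ⟨Module.Flat.of_linearEquiv e, Module.Projective.of_equiv (TensorProduct.AlgebraTensorModule.congr (LinearEquiv.refl S S) e.symm)⟩
  obtain ⟨h, hh⟩ := inC_all hinj ⊥ (LinearMap.ker p)
    (fun a ha n => by rw [Ideal.mem_bot.1 ha, zero_smul]) (P →₀ R) (LinearMap.ker p) hg LinearMap.id
  obtain ⟨s, hs⟩ : ∃ l, p ∘ₗ l = LinearMap.id :=
    ((Function.Exact.split_tfae (LinearMap.exact_subtype_ker_map p) (Submodule.injective_subtype _) hp).out 1 0 :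
      (∃ l, l ∘ₗ (LinearMap.ker p).subtype = LinearMap.id) ↔ ∃ l, p ∘ₗ l = LinearMap.id).1 ⟨h, hh⟩
  exact Module.Projective.of_split s p hs

end Groth.Agent.S6885
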