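import Groth.Statements.S6886
import Mathlib

set_option autoImplicit false
universe u
open TensorProduct
open CAlg

namespace Groth.Agent.S6886


open Polynomial


/-- Let `R → S` be a finite ring map. One can find an extension `R ⊆ R'` of rings, with `R'` finite and
free as an `R`-module, for which the ring `S ⊗_R R'` arises as a quotient of `R'[T_1, …,
T_n]/(P_1(T_1), …, P_n(T_n))` with each `P_i(T) = ∏_j (T - α_{ij})` a product of linear factors over
`R'`. -/
theorem result (R S : Type u) [CommRing R] [CommRing S] [Algebra R S]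
    [Module.Finite R S] :
    ∃ (R' : Type u) (_ : CommRing R') (_ : Algebra R R'), Module.Finite R R' ∧ Module.Free R R' ∧
      Function.Injective (algebraMap R R') ∧
      ∃ (n : ℕ) (d : Fin n → ℕ) (α : (i : Fin n) → Fin (d i) → R')
        (φ : MvPolynomial (Fin n) R' →ₐ[R'] R' ⊗[R] S), Function.Surjective φ ∧
          ∀ i, φ (∏ j, (MvPolynomial.X i - MvPolynomial.C (α i j))) = 0 := by
  classical
  obtain ⟨n, g, hg⟩ := Module.Finite.exists_fin (R := R) (M := S)
  choose P hPm hP0 using fun i => (Algebra.IsIntegral.isIntegral (R := R) (g i) : IsIntegral R (g i))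
  obtain ⟨R', i1, i2, hfin, hfree, hinj, hspl⟩ : ∃ (R' : Type u) (_ : CommRing R') (_ : Algebra R R'),
      Module.Finite R R' ∧ Module.Free R R' ∧ Function.Injective (algebraMap R R') ∧
      ((∏ i, P i).map (algebraMap R R')).Splits := by
    rcases subsingleton_or_nontrivial R with hR | hR
    · exact ⟨R, inferInstance, inferInstance, inferInstance, inferInstance, fun x y _ => Subsingleton.elim x y,
        by rw [Subsingleton.elim ((∏ i, P i).map (algebraMap R R)) 0]; exact Splits.zero⟩
    · obtain ⟨R', i1, i2, h1, h2, h3, h4⟩ := (monic_prod_of_monic _ _ fun i _ => hPm i).exists_splits_map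
      exact ⟨R', i1, i2, h1, h2, FaithfulSMul.algebraMap_injective R R', h4⟩
  obtain ⟨m, hm⟩ := splits_iff_exists_multiset.1 hspl
  rw [((monic_prod_of_monic _ _ fun i _ => hPm i).map _).leadingCoeff, C_1, one_mul] at hm
  let l := m.toList
  let φ : MvPolynomial (Fin n) R' →ₐ[R'] R' ⊗[R] S := MvPolynomial.aeval fun i => 1 ⊗ₜ[R] g i
  refine ⟨R', i1, i2, hfin, hfree, hinj, n, fun _ => l.length, fun _ j => l[j], φ, ?_, fun i => ?_⟩
  · intro x
    induction x using TensorProduct.induction_on with
    | zero => exact ⟨0, map_zero φ⟩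
    | tmul a s =>
      obtain ⟨c, rfl⟩ := (Submodule.mem_span_range_iff_exists_fun R).1 (hg ▸ Submodule.mem_top : s ∈ Submodule.span R (Set.range g))
      refine ⟨∑ i, MvPolynomial.C (c i • a) * MvPolynomial.X i, ?_⟩
      rw [map_sum, TensorProduct.tmul_sum]
      refine Finset.sum_congr rfl fun i _ => ?_
      simp [φ, Algebra.TensorProduct.algebraMap_apply, TensorProduct.smul_tmul]
    | add a b ha hb =>
      obtain ⟨u, hu⟩ := ha
      obtain ⟨v, hv⟩ := hb
      exact ⟨u + v, by rw [map_add, hu, hv]⟩
  · have h0 : aeval (g i) (∏ i, P i) = 0 := by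
      rw [map_prod]
      exact Finset.prod_eq_zero (Finset.mem_univ i) (hP0 i)
    have h1 : aeval (1 ⊗ₜ[R] g i : R' ⊗[R] S) ((∏ i, P i).map (algebraMap R R')) = 0 := by
      rw [aeval_map_algebraMap,
        show (1 ⊗ₜ[R] g i : R' ⊗[R] S) = (Algebra.TensorProduct.includeRight : S →ₐ[R] R' ⊗[R] S) (g i) from rfl,
        aeval_algHom_apply, h0, map_zero]
    rw [hm, ← Multiset.coe_toList m, Multiset.map_coe, Multiset.prod_coe, map_list_prod, List.map_map] at h1
    rw [map_prod, ← List.prod_ofFn]
    refine Eq.trans (congrArg List.prod ?_) h1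
    refine List.ext_getElem (by simp [l]) fun j hj hj' => ?_
    simp [φ, l, Algebra.TensorProduct.algebraMap_apply]

end Groth.Agent.S6886
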