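import Groth.Statements.S6887
import Mathlib

set_option autoImplicit false
universe u
open Polynomial
open CAlg

namespace Groth.Agent.S6887

open Polynomial Matrix in
theorem det_trick {A B : Type u} [CommRing A] [CommRing B] [Algebra A B] (I : Ideal A) (d : ℕ)
    (b : B) (φ : (Fin (d + 1) → A) →ₗ[A] B) (hφ : Function.Surjective φ) (M₀ : Fin (d + 1) → A)
    (h : ∀ j, b * φ (Pi.single j 1) - M₀ j • φ (Pi.single j 1) ∈ (I • ⊤ : Submodule A B)) :
    ∃ f : A[X], f.Monic ∧ aeval b f = 0 ∧
      f.map (Ideal.Quotient.mk I) = ∏ j, (X - C (Ideal.Quotient.mk I (M₀ j))) := by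
  classical
  have hc : ∀ j, ∃ c : Fin (d + 1) → A, (∀ i, c i ∈ I) ∧ φ c = b * φ (Pi.single j 1) - M₀ j • φ (Pi.single j 1) := by
    intro j
    have hj := h j
    rw [← LinearMap.range_eq_top.2 hφ, LinearMap.range_eq_map, ← Submodule.map_smul''] at hj
    obtain ⟨c, hc, hcj⟩ := hj
    refine ⟨c, fun i => ?_, hcj⟩
    have := Submodule.mem_map_of_mem (f := (LinearMap.proj i : (Fin (d + 1) → A) →ₗ[A] A)) hc
    rw [Submodule.map_smul''] at this
    have h2 : I • Submodule.map (LinearMap.proj i : (Fin (d + 1) → A) →ₗ[A] A) ⊤ ≤ I := by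
      refine Submodule.smul_le.2 fun r hr x _ => ?_
      exact I.mul_mem_right _ hr
    exact h2 this
  choose c hcI hcφ using hc
  let M : Matrix (Fin (d + 1)) (Fin (d + 1)) A := Matrix.of fun i j => (if i = j then M₀ j else 0) + c j i
  let L := Matrix.toLinAlgEquiv' M
  have hint : φ ∘ₗ L = LinearMap.mulLeft A b ∘ₗ φ := by
    refine (Pi.basisFun A (Fin (d + 1))).ext fun j => ?_
    rw [Pi.basisFun_apply, LinearMap.comp_apply, LinearMap.comp_apply, LinearMap.mulLeft_apply]
    have hL : L (Pi.single j 1) = Pi.single j (M₀ j) + c j := by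
      show M *ᵥ Pi.single j 1 = _
      rw [Matrix.mulVec_single_one]
      funext i
      simp [M, Pi.single_apply]
    rw [hL, map_add, hcφ, show (Pi.single j (M₀ j) : Fin (d + 1) → A) = M₀ j • Pi.single j 1 by simp [← Pi.single_smul],
      map_smul, add_sub_cancel]
  refine ⟨M.charpoly, M.charpoly_monic, ?_, ?_⟩
  · have hp : ∀ (n : ℕ) x, φ ((L ^ n) x) = b ^ n * φ x := by
      intro n
      induction n with
      | zero => simp
      | succ n ih =>
        intro x
        rw [pow_succ, Module.End.mul_apply, ih, show φ (L x) = b * φ x from LinearMap.congr_fun hint x, ← mul_assoc, pow_succ]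
    have hq : ∀ (p : A[X]) x, φ (aeval L p x) = aeval b p * φ x := by
      intro p
      induction p using Polynomial.induction_on' with
      | add p q hp hq => intro x; rw [map_add, LinearMap.add_apply, map_add, hp, hq, map_add, add_mul]
      | monomial n a =>
        intro x
        rw [aeval_monomial, aeval_monomial, Module.End.mul_apply, Module.algebraMap_end_apply, map_smul, hp, Algebra.smul_def, mul_assoc]
    obtain ⟨x, hx⟩ := hφ 1
    have := hq M.charpoly x
    rw [hx, mul_one, show aeval L M.charpoly = 0 by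
      show aeval (Matrix.toLinAlgEquiv' M) M.charpoly = 0
      rw [aeval_algHom_apply, Matrix.aeval_self_charpoly, map_zero], LinearMap.zero_apply, map_zero] at this
    exact this.symm
  · rw [← Matrix.charpoly_map, show M.map (Ideal.Quotient.mk I) = Matrix.diagonal fun j => Ideal.Quotient.mk I (M₀ j) by
      ext i j
      by_cases hij : i = j
      · subst hij; simp [M, Ideal.Quotient.eq_zero_iff_mem.2 (hcI i i)]
      · simp [M, hij, Ideal.Quotient.eq_zero_iff_mem.2 (hcI j i)], Matrix.charpoly_diagonal]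


/-- Let `(A, I)` be a Zariski pair (`I` inside the Jacobson radical) and `A → B` a finite ring map.
Suppose `B/IB ≅ B₁ × B₂` as `A`-algebras with `A → B₁` surjective, and `b ∈ B` maps to `(1, 0)`.
Then there is a monic `f ∈ A[x]` with `f(b) = 0` whose reduction modulo `I` is `(x - 1) x^d` for
some `d ≥ 1`. -/
theorem result (A B : Type u) [CommRing A] [CommRing B]
    [Algebra A B] [Module.Finite A B] (I : Ideal A) (hI : I ≤ Ideal.jacobson (⊥ : Ideal A))
    (B₁ B₂ : Type u) [CommRing B₁] [CommRing B₂] [Algebra A B₁] [Algebra A B₂]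
    (e : (B ⧸ I.map (algebraMap A B)) ≃ₐ[A] B₁ × B₂) (h₁ : Function.Surjective (algebraMap A B₁)) (b : B)
    (hb : e (Ideal.Quotient.mk (I.map (algebraMap A B)) b) = (1, 0)) :
    ∃ (f : A[X]) (d : ℕ), f.Monic ∧ Polynomial.aeval b f = 0 ∧ 1 ≤ d ∧
      f.map (Ideal.Quotient.mk I) = (X - 1) * X ^ d := by
  classical
  let q : B →ₐ[A] B₁ × B₂ := e.toAlgHom.comp (Ideal.Quotient.mkₐ A (I.map (algebraMap A B)))
  have hq : Function.Surjective q := e.surjective.comp Ideal.Quotient.mk_surjective
  have hker : ∀ x, q x = 0 → x ∈ (I • ⊤ : Submodule A B) := fun x hx => by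
    rw [Ideal.smul_top_eq_map, Submodule.restrictScalars_mem, ← Ideal.Quotient.eq_zero_iff_mem]
    exact (map_eq_zero_iff e e.injective).1 hx
  haveI : Module.Finite A B₂ := Module.Finite.of_surjective ((AlgHom.snd A B₁ B₂).comp q).toLinearMap
    (Prod.snd_surjective.comp hq)
  obtain ⟨m, π, hπ⟩ := Module.Finite.exists_fin' A B₂
  -- pad so that there are at least one generator
  let w : Fin (m + 1) → B₂ := Fin.cons 0 fun i => π (Pi.single i 1)
  choose t ht using fun j => hq (0, w j)
  let φ : (Fin (m + 1 + 1) → A) →ₗ[A] B := Fintype.linearCombination A (Fin.cons b t : Fin (m + 1 + 1) → B)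
  have hbq : q b = (1, 0) := hb
  have hφs : ∀ j, φ (Pi.single j 1) = (Fin.cons b t : Fin (m + 1 + 1) → B) j := fun j => by
    simp [φ, Fintype.linearCombination_apply_single]
  have hφ : Function.Surjective φ := by
    rw [← LinearMap.range_eq_top]
    refine eq_top_iff.2 (Submodule.le_of_le_smul_of_le_jacobson_bot (Module.Finite.fg_top) hI fun x _ => ?_)
    obtain ⟨a, ha⟩ := h₁ (q x).1
    obtain ⟨y, hy⟩ := hπ (q x).2
    let z : Fin (m + 1 + 1) → A := Fin.cons a (Fin.cons 0 y)
    refine Submodule.mem_sup.2 ⟨φ z, LinearMap.mem_range_self _ _, x - φ z, hker _ ?_, add_sub_cancel _ _⟩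
    rw [map_sub, sub_eq_zero]
    have : q (φ z) = a • q b + ∑ i, y i • q (t i.succ) := by
      rw [Fintype.linearCombination_apply, map_sum, Fin.sum_univ_succ, Fin.sum_univ_succ]
      simp [z]
    rw [this, hbq]
    refine Prod.ext ?_ ?_
    · simp [Prod.fst_sum, ht, ← Algebra.algebraMap_eq_smul_one, ha]
    · rw [Prod.snd_add, Prod.smul_snd, smul_zero, zero_add, Prod.snd_sum, ← hy]
      conv_lhs => rw [pi_eq_sum_univ y, map_sum]
      refine Finset.sum_congr rfl fun i _ => ?_
      rw [map_smul, Prod.smul_snd, ht]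
      congr 1
      show π _ = π (Pi.single i 1)
      congr 1
      funext k
      simp [Pi.single_apply, eq_comm]
  obtain ⟨f, hf, hfb, hfI⟩ := det_trick I (m + 1) b φ hφ (Fin.cons 1 fun _ => 0) (fun j => hker _ (by
    rw [hφs, map_sub, map_mul, map_smul, sub_eq_zero, hbq]
    refine Fin.cases ?_ (fun i => ?_) j
    · simp [hbq]
    · simp [ht]))
  refine ⟨f, m + 1, hf, hfb, Nat.le_add_left 1 m, ?_⟩
  rw [hfI, Fin.prod_univ_succ]
  simp

end Groth.Agent.S6887
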