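import Groth.Statements.S6888
import Mathlib.RingTheory.Henselian
import Mathlib.RingTheory.Idempotents
import Mathlib.Algebra.Polynomial.Derivative
import Mathlib.RingTheory.Ideal.Quotient.Operations
import Mathlib.RingTheory.Jacobson.Ideal

set_option autoImplicit false
universe u
open Polynomial
open CAlg

namespace Groth.Agent.S6888

open Polynomial

lemma idem_eq_zero_of_mem_jacobson {A : Type*} [CommRing A] {x : A} (hx : IsIdempotentElem x)
    (h : x ∈ Ideal.jacobson (⊥ : Ideal A)) : x = 0 := by
  have hu : IsUnit (1 - x) := by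
    have := (Ideal.mem_jacobson_bot.1 h) (-1)
    simpa [sub_eq_neg_add] using this
  apply hu.mul_right_cancel
  rw [mul_sub, mul_one, hx.eq, sub_self, zero_mul]


/-- Let `A` be absolutely integrally closed (every monic polynomial over `A` is a product of linear
factors) and `I ⊆ A` an ideal contained in the Jacobson radical such that `A → A/I` is surjective
(hence bijective) on idempotents. Then `(A, I)` is a henselian pair. (The published statement also
records the converse, which holds for every henselian pair; this row states the sufficiency only.) -/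
theorem result (A : Type u) [CommRing A]
    (hA : ∀ f : A[X], f.Monic → ∃ s : Multiset A, f = (s.map fun a => X - C a).prod) (I : Ideal A)
    (hI : I ≤ Ideal.jacobson (⊥ : Ideal A))
    (hidem : ∀ e : A ⧸ I, IsIdempotentElem e → ∃ e' : A, IsIdempotentElem e' ∧ Ideal.Quotient.mk I e' = e) :
    HenselianRing A I := by
  refine ⟨hI, fun f hf a₀ ha₀ hu => ?_⟩
  classical
  obtain ⟨s, rfl⟩ := hA f hf
  let π := Ideal.Quotient.mk I
  let ι := Fin s.toList.length
  let r : ι → A := fun i => s.toList.get i
  have hs : (s.map fun a => X - C a).prod = ∏ i : ι, (X - C (r i)) := by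
    conv_lhs => rw [← Multiset.coe_toList s, Multiset.map_coe, Multiset.prod_coe]
    rw [← List.prod_ofFn]
    congr 1
    exact List.ext_getElem (by simp [ι]) (by simp [r])
  rw [hs] at ha₀ hu ⊢
  let x : ι → A ⧸ I := fun i => π (a₀ - r i)
  let y : ι → A ⧸ I := fun i => ∏ j ∈ Finset.univ.erase i, x j
  have hprod : ∏ i, x i = 0 := by
    have := Ideal.Quotient.eq_zero_iff_mem.2 ha₀
    simpa [eval_prod, x, π] using this
  have hsum : IsUnit (∑ i, y i) := by
    have e : π ((∏ i : ι, (X - C (r i))).derivative.eval a₀) = ∑ i, y i := by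
      simp [derivative_prod_finset, eval_finset_sum, eval_prod, y, x, π]
    rw [← e]; exact hu
  obtain ⟨w, hw⟩ := hsum.exists_right_inv
  let e : ι → A ⧸ I := fun i => y i * w
  have hxe : ∀ i, x i * e i = 0 := fun i => by
    simp only [e, y, ← mul_assoc]; rw [Finset.mul_prod_erase _ _ (Finset.mem_univ i), hprod, zero_mul]
  have hee : ∀ i j, i ≠ j → e i * e j = 0 := fun i j hij => by
    have : x j ∣ e i := Dvd.dvd.mul_right (Finset.dvd_prod_of_mem x (Finset.mem_erase.2 ⟨hij.symm, Finset.mem_univ j⟩)) w
    obtain ⟨c, hc⟩ := this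
    rw [hc, mul_assoc, mul_left_comm, hxe j, mul_zero]
  have hs1 : ∑ i, e i = 1 := by rw [← Finset.sum_mul, hw]
  have hid : ∀ i, IsIdempotentElem (e i) := fun i => by
    have h := congrArg (e i * ·) hs1
    simp only [Finset.mul_sum, mul_one] at h
    rw [Finset.sum_eq_single i (fun j _ hj => hee i j hj.symm) (by simp)] at h
    exact h
  choose e' he' hπe using fun i => hidem (e i) (hid i)
  have hoe : OrthogonalIdempotents e' := ⟨he', fun i j hij => idem_eq_zero_of_mem_jacobson
    ((he' i).mul (he' j)) (hI (Ideal.Quotient.eq_zero_iff_mem.1 (by rw [map_mul, hπe, hπe, hee i j hij])))⟩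
  have hsum1 : ∑ i, e' i = 1 := by
    have hI0 := idem_eq_zero_of_mem_jacobson (hoe.isIdempotentElem_sum (s := Finset.univ)).one_sub
      (hI (Ideal.Quotient.eq_zero_iff_mem.1 (by simp [map_sum, hπe, hs1])))
    exact (sub_eq_zero.1 hI0).symm
  refine ⟨∑ i, e' i * r i, ?_, ?_⟩
  · rw [IsRoot.def, eval_prod]
    have key : ∀ i, e' i * (∑ j, e' j * r j - r i) = 0 := fun i => by
      rw [mul_sub, Finset.mul_sum, Finset.sum_eq_single i (fun j _ hj => by
        rw [← mul_assoc, hoe.ortho hj.symm, zero_mul]) (by simp), ← mul_assoc, (he' i).eq, sub_self]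
    calc ∏ i, eval (∑ j, e' j * r j) (X - C (r i))
        = (∑ k, e' k) * ∏ i, eval (∑ j, e' j * r j) (X - C (r i)) := by rw [hsum1, one_mul]
      _ = 0 := by
          rw [Finset.sum_mul]
          refine Finset.sum_eq_zero fun k _ => ?_
          rw [← Finset.mul_prod_erase _ _ (Finset.mem_univ k), ← mul_assoc]
          simp [key k]
  · rw [← Ideal.Quotient.eq_zero_iff_mem]
    have h : ∀ i, π (e' i * (r i - a₀)) = 0 := fun i => by
      rw [map_mul, hπe, show π (r i - a₀) = -x i by simp [x, π], mul_comm, neg_mul, hxe, neg_zero]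
    have : ∑ i, e' i * r i - a₀ = ∑ i, e' i * (r i - a₀) := by
      simp only [mul_sub, Finset.sum_sub_distrib, ← Finset.sum_mul, hsum1, one_mul]
    rw [this, map_sum]
    exact Finset.sum_eq_zero fun i _ => h i

end Groth.Agent.S6888
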