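import Groth.Statements.S6891
import Groth.Agent.Lib.Fitting.More
-- import your own Groth.Agent.* helpers here

set_option autoImplicit false
universe u
open Fitt

namespace Groth.Agent.S6891

/-- Let `M` be a finite `R`-module. Then `Fit_0(M) ⊆ Ann_R(M)`, the closed set `V(Fit_0(M))` equals
`Supp(M)`, and for an ideal `I` one has `Fit_0(R/I) = I`. -/
theorem result {R : Type u} [CommRing R] (M : Type u) [AddCommGroup M]
    [Module R M] [Module.Finite R M] (I : Ideal R) :
    Fitt.ideal R M 0 ≤ Module.annihilator R M ∧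
    PrimeSpectrum.zeroLocus (Fitt.ideal R M 0 : Set R) = Module.support R M ∧
    Fitt.ideal R (R ⧸ I) 0 = I := by
  classical
  refine ⟨Groth.Agent.FittingLib.ideal_zero_le_annihilator, ?_, le_antisymm ?_ ?_⟩
  · rw [Groth.Agent.FittingLib.zeroLocus_ideal_zero, Module.support_eq_zeroLocus]
  · exact Groth.Agent.FittingLib.ideal_zero_le_annihilator.trans_eq Ideal.annihilator_quotient
  · intro c hc
    have h : Submodule.span R (Set.range fun _ : Fin 1 => (1 : R ⧸ I)) = ⊤ := by
      rw [eq_top_iff]
      intro y _
      obtain ⟨r, rfl⟩ := Ideal.Quotient.mk_surjective y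
      rw [show Ideal.Quotient.mk I r = r • (1 : R ⧸ I) by
        rw [Algebra.smul_def, mul_one, Ideal.Quotient.algebraMap_eq]]
      exact Submodule.smul_mem _ _ (Submodule.subset_span ⟨0, rfl⟩)
    have := Groth.Agent.FittingLib.pow_mem_ideal_zero _ h (c := c) (by rwa [Ideal.annihilator_quotient])
    rwa [pow_one] at this

end Groth.Agent.S6891
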