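import Groth.Statements.S6893
import Mathlib

set_option autoImplicit false
universe u
open TensorProduct
open CAlg

namespace Groth.Agent.S6893


namespace Aux6893

open TensorProduct

universe v

variable {R : Type v} [CommRing R] {M : Type v} [AddCommGroup M] [Module R M]

theorem rTensor_injective {I : Ideal R} [Module.Flat (R ⧸ I) ((R ⧸ I) ⊗[R] M)] {X Y : Type v} [AddCommGroup X]
    [Module R X] [AddCommGroup Y] [Module R Y] (hX : Module.IsTorsionBySet R X I)
    (hY : Module.IsTorsionBySet R Y I) (i : X →ₗ[R] Y) (hi : Function.Injective i) :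
    Function.Injective (i.rTensor M) := by
  let _ := hX.module
  let _ := hY.module
  have : IsScalarTower R (R ⧸ I) X := IsScalarTower.of_algebraMap_smul fun _ _ => rfl
  have : IsScalarTower R (R ⧸ I) Y := IsScalarTower.of_algebraMap_smul fun _ _ => rfl
  let i' : X →ₗ[R ⧸ I] Y := i.extendScalarsOfSurjective Ideal.Quotient.mk_surjective
  let c := AlgebraTensorModule.cancelBaseChange R (R ⧸ I) (R ⧸ I) X M
  let c' := AlgebraTensorModule.cancelBaseChange R (R ⧸ I) (R ⧸ I) Y M
  have e : ∀ z, i.rTensor M (c z) = c' (i'.rTensor ((R ⧸ I) ⊗[R] M) z) := by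
    intro z
    induction z with
    | zero => simp
    | add a b ha hb => simp only [map_add, ha, hb]
    | tmul r w =>
      induction w with
      | zero => simp
      | add a b ha hb => simp only [tmul_add, map_add, ha, hb]
      | tmul s m =>
        obtain ⟨s, rfl⟩ := Ideal.Quotient.mk_surjective s
        simp [c, c', i']
  intro a b hab
  obtain ⟨a, rfl⟩ := c.surjective a
  obtain ⟨b, rfl⟩ := c.surjective b
  rw [e, e] at hab
  rw [Module.Flat.rTensor_preserves_injective_linearMap i' hi (c'.injective hab)]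

theorem flat_of_inf (I₁ I₂ I : Ideal R) (hI : I = I₁ ⊓ I₂) [Module.Flat (R ⧸ I₁) ((R ⧸ I₁) ⊗[R] M)]
    [Module.Flat (R ⧸ I₂) ((R ⧸ I₂) ⊗[R] M)] : Module.Flat (R ⧸ I) ((R ⧸ I) ⊗[R] M) := by
  refine Module.Flat.iff_rTensor_injective'.2 fun J => ?_
  let Rb := R ⧸ I
  let q₁ : Rb →ₗ[R] R ⧸ I₁ := (Ideal.Quotient.factorₐ R (hI ▸ inf_le_left : I ≤ I₁)).toLinearMap
  let q₂ : Rb →ₗ[R] R ⧸ I₂ := (Ideal.Quotient.factorₐ R (hI ▸ inf_le_right : I ≤ I₂)).toLinearMap
  let Jr : Submodule R Rb := J.restrictScalars R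
  let α : Jr →ₗ[R] R ⧸ I₁ := q₁ ∘ₗ Jr.subtype
  let K : Submodule R Rb := Jr ⊓ LinearMap.ker q₁
  let ι : K →ₗ[R] Jr := Submodule.inclusion inf_le_left
  let β : K →ₗ[R] R ⧸ I₂ := q₂ ∘ₗ K.subtype
  have hβ : Function.Injective β := by
    rw [injective_iff_map_eq_zero]
    rintro ⟨x, hxJ, hx⟩ h
    obtain ⟨x, rfl⟩ := Ideal.Quotient.mk_surjective x
    refine Subtype.ext ?_
    refine Ideal.Quotient.eq_zero_iff_mem.2 (hI ▸ ⟨?_, ?_⟩)
    · exact Ideal.Quotient.eq_zero_iff_mem.1 (hx : _ = (0 : R ⧸ I₁))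
    · exact Ideal.Quotient.eq_zero_iff_mem.1 (h : _ = (0 : R ⧸ I₂))
  have hq : ∀ (P : Ideal R), Module.IsTorsionBySet R (R ⧸ P) P := fun P x a => by
    obtain ⟨y, rfl⟩ := Ideal.Quotient.mk_surjective x
    exact Ideal.Quotient.eq_zero_iff_mem.2 (P.mul_mem_right y a.2)
  have hK : Module.IsTorsionBySet R K I₂ := fun x a => hβ (by rw [map_smul, map_zero]; exact @hq I₂ (β x) a)
  have hQ : Module.IsTorsionBySet R (LinearMap.range α) I₁ := fun x a => Subtype.ext (@hq I₁ x.1 a)
  have hex : Function.Exact ι α.rangeRestrict := by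
    refine LinearMap.exact_iff.2 ?_
    rw [LinearMap.ker_rangeRestrict, Submodule.range_inclusion]
    ext x
    simp [α, K, x.2]
  have hinj : Function.Injective (Jr.subtype.rTensor M) := by
    rw [injective_iff_map_eq_zero]
    intro z hz
    have ha : Function.Injective ((LinearMap.range α).subtype.rTensor M) :=
      rTensor_injective (M := M) hQ (hq I₁) _ (LinearMap.range α).injective_subtype
    have h1 : α.rangeRestrict.rTensor M z = 0 := by
      apply ha
      rw [map_zero, ← LinearMap.rTensor_comp_apply, LinearMap.subtype_comp_codRestrict, LinearMap.rTensor_comp_apply, hz, map_zero]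
    obtain ⟨w, rfl⟩ := (_root_.rTensor_exact M hex α.surjective_rangeRestrict z).1 h1
    have hb : Function.Injective (β.rTensor M) := rTensor_injective (M := M) hK (hq I₂) β hβ
    have h2 : w = 0 := by
      apply hb
      rw [map_zero, show β = q₂ ∘ₗ Jr.subtype ∘ₗ ι from rfl, LinearMap.rTensor_comp_apply,
        LinearMap.rTensor_comp_apply, hz, map_zero]
    rw [h2, map_zero]
  let c := AlgebraTensorModule.cancelBaseChange R (R ⧸ I) (R ⧸ I) J M
  let c' := AlgebraTensorModule.cancelBaseChange R (R ⧸ I) (R ⧸ I) (R ⧸ I) M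
  have e : ∀ z, (J.subtype.restrictScalars R).rTensor M (c z) = c' (J.subtype.rTensor ((R ⧸ I) ⊗[R] M) z) := by
    intro z
    induction z with
    | zero => simp
    | add a b ha hb => simp only [map_add, ha, hb]
    | tmul r w =>
      induction w with
      | zero => simp
      | add a b ha hb => simp only [tmul_add, map_add, ha, hb]
      | tmul s m => simp [c, c']
  intro a b hab
  exact c.injective (hinj (show (J.subtype.restrictScalars R).rTensor M (c a) = _ by rw [e, hab, ← e]; rfl))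

end Aux6893



/-- Let `M` be a module over a ring `R` and `I₁, I₂ ⊆ R` ideals. Suppose flatness of `M/I₁M` as an
`R/I₁`-module holds, and likewise `M/I₂M` is a flat `R/I₂`-module; then the quotient `M/(I₁ ∩ I₂)M`
is also flat as a module over `R/(I₁ ∩ I₂)`. -/
theorem result {R : Type u} [CommRing R] (M : Type u) [AddCommGroup M] [Module R M]
    (I₁ I₂ : Ideal R) [Module.Flat (R ⧸ I₁) ((R ⧸ I₁) ⊗[R] M)] [Module.Flat (R ⧸ I₂) ((R ⧸ I₂) ⊗[R] M)] :
    Module.Flat (R ⧸ (I₁ ⊓ I₂)) ((R ⧸ (I₁ ⊓ I₂)) ⊗[R] M) := by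
  exact Aux6893.flat_of_inf I₁ I₂ _ rfl

end Groth.Agent.S6893
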