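import Groth.Statements.S6896
import Groth.Agent.Lib.Fitting.More
-- import your own Groth.Agent.* helpers here

set_option autoImplicit false
universe u
open Fitt

namespace Groth.Agent.S6896

/-- Let `R` be a local ring, `M` a finite `R`-module and `k ≥ 0` with `Fit_k(M) = (f)` principal. Then
the quotient `M'` of `M` by the submodule `{x ∈ M | f x = 0}` can be generated by `k` elements. -/
theorem result {R : Type u} [CommRing R] [IsLocalRing R]
    (M : Type u) [AddCommGroup M] [Module R M] [Module.Finite R M] (k : ℕ) (f : R)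
    (hf : Fitt.ideal R M k = Ideal.span {f}) :
    ∃ g : Fin k → M ⧸ LinearMap.ker (f • (LinearMap.id : M →ₗ[R] M)),
      Submodule.span R (Set.range g) = ⊤ := by
  classical
  by_cases hf0 : f = 0
  · refine ⟨fun _ => 0, ?_⟩
    rw [eq_top_iff]
    intro y _
    obtain ⟨m, rfl⟩ := Submodule.Quotient.mk_surjective _ y
    rw [(Submodule.Quotient.mk_eq_zero _).2 (by simp [hf0])]
    exact Submodule.zero_mem _
  obtain ⟨n, x, hx⟩ := Groth.Agent.FittingLib.exists_generators (R := R) (M := M)
  have hJ := (Groth.Agent.FittingLib.ideal_eq_J x hx k).symm.trans hf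
  obtain ⟨B, S, hS, h1, h2, hB⟩ : ∃ (B : Matrix (Fin n) (Fin n) R) (S : Finset (Fin n)), S.card ≤ k ∧
      (∀ i ∉ S, B i ∈ Groth.Agent.FittingLib.rel x) ∧ (∀ i ∈ S, ∃ j, B i = Pi.single j 1) ∧
      B.det ∉ IsLocalRing.maximalIdeal R * Ideal.span {f} := by
    by_contra! hall
    have hle : Ideal.span {f} ≤ IsLocalRing.maximalIdeal R * Ideal.span {f} := by
      refine hJ.ge.trans ?_
      exact Groth.Agent.FittingLib.J_le_of_forall _ Submodule.subset_span fun B S a b c => hall B S a b c
    obtain ⟨a, ha, he⟩ := Ideal.mem_mul_span_singleton.1 (hle (Ideal.mem_span_singleton_self f))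
    have hu : IsUnit (1 - a) := IsLocalRing.isUnit_one_sub_self_of_mem_nonunits a ha
    refine hf0 (hu.mul_right_eq_zero.1 ?_)
    rw [sub_mul, one_mul, he, sub_self]
  have hmem : ∀ (A : Matrix (Fin n) (Fin n) R), (∀ i ∉ S, A i ∈ Groth.Agent.FittingLib.rel x) →
      ∃ c, A.det = c * f := fun A hA =>
    Ideal.mem_span_singleton'.1 (hJ.le (Groth.Agent.FittingLib.det_mem_J hS hA)) |>.imp fun _ h => h.symm
  obtain ⟨u, hu⟩ := hmem B h1
  have hunit : IsUnit u := IsLocalRing.notMem_maximalIdeal.1 fun h =>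
    hB (Ideal.mem_mul_span_singleton.2 ⟨u, h, hu.symm⟩)
  choose g hg using h2
  let N := LinearMap.ker (f • (LinearMap.id : M →ₗ[R] M))
  let T : Finset (M ⧸ N) := S.attach.image fun i => Submodule.Quotient.mk (x (g i.1 i.2))
  have hT : Submodule.span R (T : Set (M ⧸ N)) = ⊤ := by
    have hrange : Submodule.span R (Set.range fun j => (Submodule.Quotient.mk (x j) : M ⧸ N)) = ⊤ := by
      rw [show (fun j => (Submodule.Quotient.mk (x j) : M ⧸ N)) = N.mkQ ∘ x from rfl,
        Set.range_comp, Submodule.span_image, hx, Submodule.map_top, Submodule.range_mkQ]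
    rw [eq_top_iff, ← hrange, Submodule.span_le]
    rintro _ ⟨j, rfl⟩
    have hadj : ∀ i ∈ S, ∃ c, B.adjugate j i = c * f := by
      intro i hi
      rw [Matrix.adjugate_apply]
      refine hmem _ fun l hl => ?_
      rw [Matrix.updateRow_ne (fun (h : l = i) => hl (h.symm ▸ hi))]
      exact h1 l hl
    choose c hc using hadj
    have key := Groth.Agent.FittingLib.det_mul_smul_eq_zero h1 j
    rw [hu] at key
    have hsum : ∀ i (hi : i ∈ S), ∑ l, B i l • x l = x (g i hi) := fun i hi => by
      simp [hg i hi, Pi.single_apply, ite_smul]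
    let z : M := ∑ i ∈ S.attach, c i.1 i.2 • x (g i.1 i.2)
    have hker : u • x j - z ∈ N := by
      rw [LinearMap.mem_ker, LinearMap.smul_apply, LinearMap.id_apply, smul_sub, smul_smul, mul_comm, key,
        sub_eq_zero, ← Finset.sum_attach S, Finset.smul_sum]
      exact Finset.sum_congr rfl fun i _ => by rw [hc i.1 i.2, hsum i.1 i.2, smul_smul, mul_comm]
    obtain ⟨w, rfl⟩ := hunit
    have : (Submodule.Quotient.mk (x j) : M ⧸ N) = (↑w⁻¹ : R) • Submodule.Quotient.mk z := by
      rw [← (Submodule.Quotient.eq N).2 hker, Submodule.Quotient.mk_smul, smul_smul, Units.inv_mul, one_smul]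
    change (Submodule.Quotient.mk (x j) : M ⧸ N) ∈ _
    rw [this, show (Submodule.Quotient.mk z : M ⧸ N) = N.mkQ z from rfl, map_sum]
    refine Submodule.smul_mem _ _ (sum_mem fun i _ => ?_)
    rw [map_smul]
    refine Submodule.smul_mem _ _ (Submodule.subset_span ?_)
    exact Finset.mem_image_of_mem (fun i : S => (Submodule.Quotient.mk (x (g i.1 i.2)) : M ⧸ N)) (Finset.mem_attach S i)
  have hcard : T.card ≤ k := Finset.card_image_le.trans (by simpa using hS)
  refine ⟨fun i => if h : (i : ℕ) < T.card then ((T.equivFin.symm ⟨i, h⟩ : T) : M ⧸ N) else 0, ?_⟩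
  rw [eq_top_iff, ← hT]
  refine Submodule.span_mono fun m hm => ?_
  refine ⟨⟨(T.equivFin ⟨m, hm⟩ : ℕ), (T.equivFin ⟨m, hm⟩).2.trans_le hcard⟩, ?_⟩
  simp

end Groth.Agent.S6896
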