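import Groth.Statements.S6897
import Groth.Agent.Lib.Fitting.Projective
import Groth.Agent.S12084
import Groth.Agent.S6895
import Mathlib.Algebra.Category.ModuleCat.Projective
import Mathlib.Algebra.Homology.ShortComplex.ModuleCat
-- import your own Groth.Agent.* helpers here

set_option autoImplicit false
universe u
open CategoryTheory
open Fitt

namespace Groth.Agent.S6897

/-- Let `M` be a finitely presented `R`-module and `k ≥ 0` such that `Fit_k(M) = (f)` for a
nonzerodivisor `f` and `Fit_{k-1}(M) = 0` (no condition when `k = 0`). Let `M' = Ker(f : M → M)`.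
Then: the projective dimension of `M` is at most `1`; `M'` coincides with the `f`-power torsion of
`M` and its projective dimension is at most `1`; every prime of `R` has a basic open neighbourhood
over which `M/M'` is free of rank `k`; and `M ≅ M/M' ⊕ M'` (existence of an isomorphism). -/
theorem result {R : Type u} [CommRing R] (M : Type u)
    [AddCommGroup M] [Module R M] [Module.FinitePresentation R M] (k : ℕ) (f : R) (hf0 : f ∈ nonZeroDivisors R)
    (hf : Fitt.ideal R M k = Ideal.span {f}) (hk : k = 0 ∨ Fitt.ideal R M (k - 1) = ⊥) :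
    HasProjectiveDimensionLT (ModuleCat.of R M) 2 ∧
    (∀ x : M, (∃ n : ℕ, f ^ n • x = 0) ↔ f • x = 0) ∧
    HasProjectiveDimensionLT (ModuleCat.of R ↥(LinearMap.ker (f • (LinearMap.id : M →ₗ[R] M)))) 2 ∧
    (∀ (p : Ideal R) [p.IsPrime], ∃ g : R, g ∉ p ∧
      Module.Free (Localization.Away g)
          (LocalizedModule (Submonoid.powers g) (M ⧸ LinearMap.ker (f • (LinearMap.id : M →ₗ[R] M)))) ∧
        Module.finrank (Localization.Away g)
          (LocalizedModule (Submonoid.powers g) (M ⧸ LinearMap.ker (f • (LinearMap.id : M →ₗ[R] M)))) = k) ∧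
    Nonempty (M ≃ₗ[R] (M ⧸ LinearMap.ker (f • (LinearMap.id : M →ₗ[R] M))) ×
      ↥(LinearMap.ker (f • (LinearMap.id : M →ₗ[R] M)))) := by
  classical
  let F : M →ₗ[R] M := f • LinearMap.id
  let P := LinearMap.ker F
  have hmemP : ∀ y, y ∈ P ↔ f • y = 0 := fun y => by simp [P, F]
  have hgen := fun (p : Ideal R) (hp : p ≠ ⊤) =>
    Groth.Agent.FittingLib.exists_generators_quotient_ker k f hf0 hf (P := P)
      (fun y hy => (hmemP y).2 hy) (fun y hy => ⟨1, by rw [pow_one]; exact (hmemP y).1 hy⟩) p hp
  obtain ⟨hQproj, hQfp⟩ := Groth.Agent.FittingLib.projective_of_forall_exists (R := R) (M := M ⧸ P) (fun m hm => by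
    obtain ⟨u, g, N, hu, hg, hrel⟩ := hgen m hm.ne_top
    exact ⟨u, k, _, N, hu, hg, hrel hk⟩)
  have hlocfree : ∀ (p : Ideal R) [p.IsPrime], ∃ g : R, g ∉ p ∧
      Module.Free (Localization.Away g) (LocalizedModule (Submonoid.powers g) (M ⧸ P)) ∧
        Module.finrank (Localization.Away g) (LocalizedModule (Submonoid.powers g) (M ⧸ P)) = k := by
    intro p hp
    obtain ⟨u, g, N, hu, hg, hrel⟩ := hgen p hp.ne_top
    refine ⟨u, hu, Groth.Agent.FittingLib.free_of_smul_mem_span u _ hg (fun c hc i => ⟨N, hrel hk c hc i⟩) ?_⟩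
    refine nontrivial_of_ne 1 0 fun e => hu ?_
    rw [← map_one (algebraMap R (Localization.Away u)), IsLocalization.map_eq_zero_iff (Submonoid.powers u)] at e
    obtain ⟨⟨_, n, rfl⟩, hn⟩ := e
    exact hp.mem_of_pow_mem n (by simp only [mul_one] at hn; rw [hn]; exact p.zero_mem)
  have htors : ∀ y : M, f • f • y = 0 → f • y = 0 := by
    intro y hy
    obtain ⟨s, hs⟩ := hQproj.out
    have h0 : ∀ z : M ⧸ P, f • z = 0 → z = 0 := fun z hz => by
      have h1 : f • s z = 0 := by rw [← map_smul, hz, map_zero]
      have h2 : s z = 0 := Finsupp.ext fun a => hf0.1 _ (by simpa using DFunLike.congr_fun h1 a)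
      rw [← hs z, h2, map_zero]
    have := h0 (Submodule.Quotient.mk y) (by rw [← Submodule.Quotient.mk_smul, Submodule.Quotient.mk_eq_zero, hmemP]; exact hy)
    exact (hmemP y).1 ((Submodule.Quotient.mk_eq_zero P).1 this)
  obtain ⟨sec, hsec⟩ := Module.projective_lifting_property P.mkQ LinearMap.id P.mkQ_surjective
  let π : M →ₗ[R] P := (LinearMap.id - sec ∘ₗ P.mkQ).codRestrict P fun y => by
    rw [← Submodule.Quotient.mk_eq_zero, ← Submodule.mkQ_apply, LinearMap.sub_apply, LinearMap.id_apply, map_sub,
      LinearMap.comp_apply, ← LinearMap.comp_apply P.mkQ sec, hsec, LinearMap.id_apply, sub_self]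
  have hπP : ∀ y : P, π y = y := fun y => Subtype.ext (by
    have : P.mkQ (y : M) = 0 := (Submodule.Quotient.mk_eq_zero P).2 y.2
    simp only [π, LinearMap.codRestrict_apply, LinearMap.sub_apply, LinearMap.id_apply,
      LinearMap.comp_apply, this, map_zero, sub_zero])
  let e : M ≃ₗ[R] (M ⧸ P) × P := LinearEquiv.ofLinear (P.mkQ.prod π) (sec.coprod P.subtype)
    (by
      ext q <;> simp only [LinearMap.comp_apply, LinearMap.inl_apply, LinearMap.inr_apply, LinearMap.coprod_apply,
        LinearMap.prod_apply, Function.prod, map_zero, add_zero, zero_add, LinearMap.id_apply]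
      · exact LinearMap.congr_fun hsec (Submodule.Quotient.mk q)
      · simp only [π, LinearMap.codRestrict_apply, LinearMap.sub_apply, LinearMap.id_apply, LinearMap.comp_apply]
        rw [← LinearMap.comp_apply P.mkQ sec, hsec, LinearMap.id_apply, sub_self]
        rfl
      · exact (Submodule.Quotient.mk_eq_zero P).2 q.2
      · exact congrArg Subtype.val (hπP q))
    (by ext y; simp [π])
  have hPfin : Module.Finite R P := Module.Finite.of_surjective π fun y => ⟨y, hπP y⟩
  obtain ⟨n, x, hx⟩ := Groth.Agent.FittingLib.exists_generators (R := R) (M := P)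
  have hfitP : Fitt.ideal R P 0 = Ideal.span {f} := by
    obtain ⟨hb, ht⟩ := (Groth.Agent.S6895.result (M ⧸ P) k).1 hlocfree
    rw [← hf, Groth.Agent.FittingLib.ideal_congr e k, Groth.Agent.S12084.result,
      Finset.sum_eq_single k]
    · rw [ht k le_rfl, Nat.sub_self, Ideal.top_mul]
    · intro j hj hjk
      rw [Finset.mem_range] at hj
      rw [hb j (by omega), Ideal.bot_mul]
      rfl
    · simp
  have hK := Groth.Agent.FittingLib.projective_rel x hx f hf0 hfitP
  let K := Groth.Agent.FittingLib.rel (R := R) x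
  let L := Fintype.linearCombination R x
  have hL : Function.Surjective L := by
    rw [← LinearMap.range_eq_top, Fintype.range_linearCombination, hx]
  have hex : Function.Exact K.subtype L := LinearMap.exact_iff.2 (Submodule.range_subtype _).symm
  have pd : ∀ (X Y : Type u) [AddCommGroup X] [Module R X] [AddCommGroup Y] [Module R Y] [Module.Projective R X]
      (i : K →ₗ[R] X) (q : X →ₗ[R] Y), Function.Injective i → Function.Surjective q → Function.Exact i q →
      HasProjectiveDimensionLT (ModuleCat.of R Y) 2 := by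
    intro X Y _ _ _ _ _ i q hi hq hiq
    have hS : (ShortComplex.mk (ModuleCat.ofHom i) (ModuleCat.ofHom q)
        (by ext z; exact hiq.apply_apply_eq_zero z)).ShortExact :=
      { exact := by
          rw [CategoryTheory.ShortComplex.moduleCat_exact_iff_range_eq_ker]
          exact (LinearMap.exact_iff.1 hiq).symm
        mono_f := (ModuleCat.mono_iff_injective _).2 hi
        epi_g := (ModuleCat.epi_iff_surjective _).2 hq }
    have h1 : Projective (ModuleCat.of R K) := (IsProjective.iff_projective K).1 hK
    have h2 : Projective (ModuleCat.of R X) := (IsProjective.iff_projective X).1 inferInstance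
    exact hS.hasProjectiveDimensionLT_X₃ 1 (inferInstance : HasProjectiveDimensionLT (ModuleCat.of R K) 1)
      (hasProjectiveDimensionLT_of_ge (ModuleCat.of R X) 1 2 (by omega))
  refine ⟨?_, fun y => ⟨?_, fun h => ⟨1, by rwa [pow_one]⟩⟩,
    pd (Fin n → R) P K.subtype L K.injective_subtype hL hex, hlocfree, ⟨e⟩⟩
  · refine pd ((Fin n → R) × (M ⧸ P)) M (LinearMap.inl R _ _ ∘ₗ K.subtype)
      (e.symm.toLinearMap ∘ₗ (LinearMap.snd R _ _).prod (L ∘ₗ LinearMap.fst R _ _)) ?_ ?_ ?_
    · exact LinearMap.inl_injective.comp K.injective_subtype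
    · intro z
      obtain ⟨v, hv⟩ := hL (e z).2
      refine ⟨(v, (e z).1), ?_⟩
      rw [LinearMap.comp_apply, LinearEquiv.coe_coe, LinearEquiv.symm_apply_eq]
      exact Prod.ext rfl hv
    · intro z
      rw [LinearMap.comp_apply, LinearEquiv.coe_coe, LinearEquiv.map_eq_zero_iff, Prod.ext_iff]
      constructor
      · rintro ⟨h1, h2⟩
        exact ⟨⟨z.1, h2⟩, Prod.ext rfl h1.symm⟩
      · rintro ⟨w, rfl⟩
        exact ⟨rfl, w.2⟩
  · rintro ⟨N, hN⟩
    induction N with
    | zero => rw [pow_zero, one_smul] at hN; rw [hN, smul_zero]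
    | succ N ih =>
      cases N with
      | zero => simpa using hN
      | succ N =>
        apply ih
        rw [pow_succ', mul_smul, pow_succ', mul_smul] at hN
        rw [pow_succ', mul_smul]
        exact htors _ hN

end Groth.Agent.S6897
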