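import Groth.Statements.S6898
import Mathlib

set_option autoImplicit false
universe u
open TensorProduct
open CAlg

namespace Groth.Agent.S6898


namespace Aux6898

open TensorProduct IsLocalRing

universe v

variable {A : Type v} [CommRing A] [IsLocalRing A] {M N : Type v} [AddCommGroup M] [Module A M] [AddCommGroup N] [Module A N]

theorem lTensor_injective (u : M →ₗ[A] N) (hu : Function.Injective (u.baseChange (ResidueField A)))
    (V : Type v) [AddCommGroup V] [Module A V] (hV : Module.IsTorsionBySet A V (maximalIdeal A)) :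
    Function.Injective (u.lTensor V) := by
  letI : Module (ResidueField A) V := hV.module
  haveI : IsScalarTower A (ResidueField A) V := IsScalarTower.of_algebraMap_smul fun _ _ => rfl
  let c := AlgebraTensorModule.cancelBaseChange A (ResidueField A) (ResidueField A) V M
  let c' := AlgebraTensorModule.cancelBaseChange A (ResidueField A) (ResidueField A) V N
  have e : ∀ z, u.lTensor V (c z) = c' ((u.baseChange (ResidueField A)).lTensor V z) := by
    intro z
    induction z with
    | zero => simp
    | add a b ha hb => simp only [map_add, ha, hb]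
    | tmul r w =>
      induction w with
      | zero => simp
      | add a b ha hb => simp only [tmul_add, map_add, ha, hb]
      | tmul s m => simp [c, c']
  intro a b hab
  obtain ⟨a, rfl⟩ := c.surjective a
  obtain ⟨b, rfl⟩ := c.surjective b
  rw [e, e] at hab
  rw [Module.Flat.lTensor_preserves_injective_linearMap (u.baseChange (ResidueField A)) hu (c'.injective hab)]

theorem exists_tensor (I : Ideal A) {x : M} (hx : x ∈ I • (⊤ : Submodule A M)) :
    ∃ w : I ⊗[A] M, TensorProduct.lid A M ((Submodule.subtype I).rTensor M w) = x := by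
  refine Submodule.smul_induction_on hx (fun a ha m _ => ⟨⟨a, ha⟩ ⊗ₜ m, by simp⟩) fun a b ha hb => ?_
  obtain ⟨u, rfl⟩ := ha
  obtain ⟨v, rfl⟩ := hb
  exact ⟨u + v, by simp⟩

theorem lid_mem (I : Ideal A) (w : I ⊗[A] M) : TensorProduct.lid A M ((Submodule.subtype I).rTensor M w) ∈ I • (⊤ : Submodule A M) := by
  induction w with
  | zero => simp
  | add a b ha hb => simp only [map_add]; exact add_mem ha hb
  | tmul a m => simpa using Submodule.smul_mem_smul a.2 (Submodule.mem_top (x := m))

theorem exists_fg_le (I : Ideal A) {x : M} (hx : x ∈ I • (⊤ : Submodule A M)) :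
    ∃ J : Ideal A, J.FG ∧ J ≤ I ∧ x ∈ J • (⊤ : Submodule A M) := by
  refine Submodule.smul_induction_on hx (fun a ha m _ => ⟨Ideal.span {a}, Submodule.fg_span_singleton a,
    (Ideal.span_singleton_le_iff_mem _).2 ha,
    Submodule.smul_mem_smul (Ideal.mem_span_singleton_self a) Submodule.mem_top⟩) fun a b ha hb => ?_
  obtain ⟨J₁, h1, h2, h3⟩ := ha
  obtain ⟨J₂, g1, g2, g3⟩ := hb
  exact ⟨J₁ ⊔ J₂, Submodule.FG.sup h1 g1, sup_le h2 g2, add_mem (Submodule.smul_mono_left le_sup_left h3)
    (Submodule.smul_mono_left le_sup_right g3)⟩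

theorem le_of_mem [Module.Flat A N] (u : M →ₗ[A] N) (hu : Function.Injective (u.baseChange (ResidueField A)))
    {x : M} {I : Ideal A} (hx : IsLeast {J : Ideal A | x ∈ J • (⊤ : Submodule A M)} I) {J : Ideal A}
    (hJ : u x ∈ J • (⊤ : Submodule A N)) : I ≤ J := by
  obtain ⟨I₀, hfg, hle, hxI₀⟩ := exists_fg_le I hx.1
  obtain rfl : I₀ = I := le_antisymm hle (hx.2 hxI₀)
  let L : Submodule A I₀ := Submodule.comap (Submodule.subtype I₀) (maximalIdeal A • I₀ ⊔ (J ⊓ I₀))
  let V := I₀ ⧸ L
  have hV : Module.IsTorsionBySet A V (maximalIdeal A) := fun v a => by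
    obtain ⟨v, rfl⟩ := Submodule.Quotient.mk_surjective _ v
    rw [← Submodule.Quotient.mk_smul, Submodule.Quotient.mk_eq_zero]
    exact Submodule.mem_sup_left (Submodule.smul_mem_smul a.2 v.2)
  obtain ⟨z, hz⟩ := exists_tensor I₀ hx.1
  let W := I₀ ⧸ Submodule.comap (Submodule.subtype I₀) J
  let j : W →ₗ[A] A ⧸ J := (Submodule.comap (Submodule.subtype I₀) J).mapQ J (Submodule.subtype I₀) le_rfl
  have hj : Function.Injective j := LinearMap.ker_eq_bot.1 (Submodule.ker_liftQ_eq_bot _ _ _ (by
    rw [LinearMap.ker_comp, Submodule.ker_mkQ]))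
  let p : W →ₗ[A] V := (Submodule.comap (Submodule.subtype I₀) J).mapQ L LinearMap.id (fun a ha => Submodule.mem_sup_right ⟨ha, a.2⟩)
  have h1 : (Submodule.comap (Submodule.subtype I₀) J).mkQ.rTensor N (u.lTensor I₀ z) = 0 := by
    apply Module.Flat.rTensor_preserves_injective_linearMap (M := N) j hj
    rw [map_zero]
    have ee : ∀ w : I₀ ⊗[A] N, j.rTensor N ((Submodule.comap (Submodule.subtype I₀) J).mkQ.rTensor N w) =
        (TensorProduct.quotTensorEquivQuotSMul N J).symm
          (Submodule.Quotient.mk (TensorProduct.lid A N ((Submodule.subtype I₀).rTensor N w))) := by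
      intro w
      induction w with
      | zero => simp
      | add a b ha hb => simp only [map_add, ha, hb, Submodule.Quotient.mk_add]
      | tmul a m =>
        rw [LinearEquiv.eq_symm_apply]
        simp [j]
        rfl
    rw [ee, show (Submodule.Quotient.mk _ : N ⧸ (J • ⊤ : Submodule A N)) = 0 from
      (Submodule.Quotient.mk_eq_zero _).2 ?_, map_zero]
    have : ∀ w : I₀ ⊗[A] M, TensorProduct.lid A N ((Submodule.subtype I₀).rTensor N (u.lTensor I₀ w)) =
        u (TensorProduct.lid A M ((Submodule.subtype I₀).rTensor M w)) := by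
      intro w
      induction w with
      | zero => simp
      | add a b ha hb => simp only [map_add, ha, hb]
      | tmul a m => simp
    rw [this, hz]; exact hJ
  have h2 : L.mkQ.rTensor M z = 0 := by
    apply lTensor_injective u hu V hV
    rw [map_zero, ← LinearMap.comp_apply, LinearMap.lTensor_comp_rTensor, ← LinearMap.rTensor_comp_lTensor,
      LinearMap.comp_apply, show L.mkQ = p ∘ₗ (Submodule.comap (Submodule.subtype I₀) J).mkQ from rfl, LinearMap.rTensor_comp_apply, h1,
      map_zero]
  obtain ⟨w, hw⟩ := (rTensor_exact M (LinearMap.exact_subtype_mkQ L) L.mkQ_surjective z).1 h2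
  have hxL : x ∈ (maximalIdeal A • I₀ ⊔ (J ⊓ I₀) : Ideal A) • (⊤ : Submodule A M) := by
    rw [← hz, ← hw]
    clear hw h2
    induction w with
    | zero => simp
    | add a b ha hb => simp only [map_add]; exact add_mem ha hb
    | tmul a m => simpa using Submodule.smul_mem_smul a.2 (Submodule.mem_top (x := m))
  have hI : I₀ ≤ (J ⊓ I₀) ⊔ maximalIdeal A • I₀ := (hx.2 hxL).trans (by rw [sup_comm])
  exact (Submodule.le_of_le_smul_of_le_jacobson_bot hfg (jacobson_eq_maximalIdeal ⊥ bot_ne_top).ge hI).trans inf_le_left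

end Aux6898



/-- Let `(A, 𝔪)` be a local ring and `u : M → N` a linear map between flat `A`-modules whose reduction
`M/𝔪M → N/𝔪N` is injective. If `I` is the content ideal of some `x ∈ M` (the least ideal `I` with `x
∈ IM`), then `I` is also the least ideal `J` with `u(x) ∈ J·N`. -/
theorem result {A : Type u} [CommRing A] [IsLocalRing A] {M N : Type u}
    [AddCommGroup M] [Module A M] [Module.Flat A M] [AddCommGroup N] [Module A N] [Module.Flat A N] (u : M →ₗ[A] N)
    (hu : Function.Injective (u.baseChange (IsLocalRing.ResidueField A))) (x : M) (I : Ideal A)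
    (hx : IsLeast {J : Ideal A | x ∈ J • (⊤ : Submodule A M)} I) :
    IsLeast {J : Ideal A | u x ∈ J • (⊤ : Submodule A N)} I := by
  refine ⟨?_, fun J hJ => Aux6898.le_of_mem u hu hx hJ⟩
  have := Submodule.mem_map_of_mem (f := u) (show x ∈ I • (⊤ : Submodule A M) from hx.1)
  rw [Submodule.map_smul''] at this
  exact Submodule.smul_mono le_rfl le_top this

end Groth.Agent.S6898
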