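import Groth.Statements.S6899
import Groth.Agent.Lib.MilnorSqH7.Glue

set_option autoImplicit false
universe u
open TensorProduct
open EtAlg

namespace Groth.Agent.S6899

/-- Let `B' = B ×_A A'` be a fibre square of rings with `A' → A` surjective, and let `(N₁, M₁', φ₁) →
(N₂, M₂', φ₂)` be a morphism of glueing data (a `B`-linear `u : N₁ → N₂` and an `A'`-linear `v : M₁'
→ M₂'` compatible with the `φ_i`) with `u` and `v` surjective. Then the induced map of glued modules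
`N₁ ×_{φ₁} M₁' → N₂ ×_{φ₂} M₂'` is surjective. -/
theorem result (B' B A' A : Type u) [CommRing B'] [CommRing B] [CommRing A'] [CommRing A]
    [Algebra B' B] [Algebra B' A'] [Algebra B A] [Algebra A' A] [Algebra B' A] [IsScalarTower B' B A] [IsScalarTower B' A' A]
    (hsq : EtMil.IsFibreSquare B' B A' A)
    {N₁ N₂ M₁' M₂' : Type u} [AddCommGroup N₁] [Module B N₁] [Module B' N₁] [IsScalarTower B' B N₁]
    [AddCommGroup N₂] [Module B N₂] [Module B' N₂] [IsScalarTower B' B N₂]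
    [AddCommGroup M₁'] [Module A' M₁'] [Module B' M₁'] [IsScalarTower B' A' M₁']
    [AddCommGroup M₂'] [Module A' M₂'] [Module B' M₂'] [IsScalarTower B' A' M₂']
    (φ₁ : A ⊗[B] N₁ ≃ₗ[A] A ⊗[A'] M₁') (φ₂ : A ⊗[B] N₂ ≃ₗ[A] A ⊗[A'] M₂') (u : N₁ →ₗ[B] N₂) (v : M₁' →ₗ[A'] M₂')
    (hc : (v.baseChange A).comp φ₁.toLinearMap = φ₂.toLinearMap.comp (u.baseChange A))
    (hu : Function.Surjective u) (hv : Function.Surjective v) :
    ∀ y : N₂ × M₂', y ∈ EtMil.glue B' φ₂ → ∃ x : N₁ × M₁', x ∈ EtMil.glue B' φ₁ ∧ u x.1 = y.1 ∧ v x.2 = y.2 := by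
  intro y hy
  obtain ⟨n, hn⟩ := hu y.1
  obtain ⟨x, hx⟩ := Groth.Agent.MilnorH7.fst_surjective (B' := B') φ₁ hsq.1 n
  have hx0 : φ₁ ((1 : A) ⊗ₜ[B] x.1.1) = (1 : A) ⊗ₜ[A'] x.1.2 := x.2
  have hxn : x.1.1 = n := hx
  rw [hxn] at hx0
  have hy0 : φ₂ ((1 : A) ⊗ₜ[B] y.1) = (1 : A) ⊗ₜ[A'] y.2 := hy
  have h2 := LinearMap.congr_fun hc ((1 : A) ⊗ₜ[B] n)
  simp only [LinearMap.comp_apply, LinearMap.baseChange_tmul, LinearEquiv.coe_coe, hx0, hn, hy0] at h2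
  have hd : y.2 - v x.1.2 ∈ RingHom.ker (algebraMap A' A) • (⊤ : Submodule A' M₂') :=
    Groth.Agent.MilnorH7.mem_smul_top_of_one_tmul_eq_zero M₂' hsq.1
      (by rw [TensorProduct.tmul_sub, h2, sub_self])
  rw [← LinearMap.range_eq_top.2 hv, ← Submodule.map_top, ← Submodule.map_smul''] at hd
  obtain ⟨m, hm, hmv⟩ := hd
  refine ⟨(n, x.1.2 + m), ?_, hn, ?_⟩
  · show φ₁ ((1 : A) ⊗ₜ[B] n) = (1 : A) ⊗ₜ[A'] (x.1.2 + m)
    rw [TensorProduct.tmul_add, Groth.Agent.MilnorH7.one_tmul_eq_zero_of_mem M₁' hm, add_zero, hx0]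
  · show v (x.1.2 + m) = y.2
    rw [map_add, hmv, add_sub_cancel]

end Groth.Agent.S6899
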