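import Groth.Statements.S6900
import Groth.Agent.Lib.MilnorSqH7.Alg

set_option autoImplicit false
universe u
open TensorProduct
open EtAlg

namespace Groth.Agent.S6900

/-- Let `B' = B ×_A A'` be a fibre square of rings with `A' → A` surjective. Let `D` be a `B`-algebra
and `C'` an `A'`-algebra with a common base change `C = D ⊗_B A = C' ⊗_{A'} A`, and let `D' = D ×_C
C'` be the fibre product ring with its `B'`-algebra structure. Then `B' → D'` is of finite type
(resp. flat, resp. flat and of finite presentation, resp. smooth, resp. étale) if and only if `B →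
D` and `A' → C'` both are. -/
theorem result (B' B A' A : Type u) [CommRing B'] [CommRing B] [CommRing A'] [CommRing A]
    [Algebra B' B] [Algebra B' A'] [Algebra B A] [Algebra A' A] [Algebra B' A] [IsScalarTower B' B A] [IsScalarTower B' A' A]
    (hsq : EtMil.IsFibreSquare B' B A' A)
    (D' D C' C : Type u) [CommRing D'] [CommRing D] [CommRing C'] [CommRing C]
    [Algebra D' D] [Algebra D' C'] [Algebra D C] [Algebra C' C] [Algebra D' C] [IsScalarTower D' D C] [IsScalarTower D' C' C]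
    (hsq' : EtMil.IsFibreSquare D' D C' C)
    [Algebra B' D'] [Algebra B D] [Algebra A' C'] [Algebra A C]
    [Algebra B' D] [IsScalarTower B' B D] [IsScalarTower B' D' D]
    [Algebra B' C'] [IsScalarTower B' A' C'] [IsScalarTower B' D' C']
    [Algebra B C] [IsScalarTower B A C] [IsScalarTower B D C]
    [Algebra A' C] [IsScalarTower A' A C] [IsScalarTower A' C' C]
    [Algebra.IsPushout B D A C] [Algebra.IsPushout A' C' A C] :
    (Algebra.FiniteType B' D' ↔ Algebra.FiniteType B D ∧ Algebra.FiniteType A' C') ∧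
    (Module.Flat B' D' ↔ Module.Flat B D ∧ Module.Flat A' C') ∧
    (Module.Flat B' D' ∧ Algebra.FinitePresentation B' D' ↔
      (Module.Flat B D ∧ Algebra.FinitePresentation B D) ∧ (Module.Flat A' C' ∧ Algebra.FinitePresentation A' C')) ∧
    (Algebra.Smooth B' D' ↔ Algebra.Smooth B D ∧ Algebra.Smooth A' C') ∧
    (Algebra.Etale B' D' ↔ Algebra.Etale B D ∧ Algebra.Etale A' C') := by
  letI := Algebra.TensorProduct.rightAlgebra (R := B') (A := B) (B := D')
  haveI : Algebra.IsPushout B A D C := Algebra.IsPushout.symm inferInstance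
  let e₁ := (Algebra.IsPushout.out (R := B) (S := A) (R' := D) (S' := C)).equiv
  haveI : Algebra.IsPushout A' A C' C := Algebra.IsPushout.symm inferInstance
  let e₂ := (Algebra.IsPushout.out (R := A') (S := A) (R' := C') (S' := C)).equiv
  let φ : A ⊗[B] D ≃ₗ[A] A ⊗[A'] C' := e₁ ≪≫ₗ e₂.symm
  have hφ : ∀ (d : D) (c : C'), φ ((1 : A) ⊗ₜ d) = (1 : A) ⊗ₜ c ↔ algebraMap D C d = algebraMap C' C c := fun d c => by
    simp only [φ, LinearEquiv.trans_apply, LinearEquiv.symm_apply_eq, e₁, e₂, IsBaseChange.equiv_tmul, one_smul]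
    rfl
  let G : D' →ₗ[B'] ↥(EtMil.glue B' φ) := LinearMap.codRestrict (EtMil.glue B' φ)
    ((IsScalarTower.toAlgHom B' D' D).toLinearMap.prod (IsScalarTower.toAlgHom B' D' C').toLinearMap) fun d =>
      (hφ _ _).2 (by simp [← IsScalarTower.algebraMap_apply])
  have hG : Function.Bijective G := by
    refine ⟨fun x y hxy => Groth.Agent.MilnorH7.pair_ext hsq' (congrArg (fun z => z.1.1) hxy)
      (congrArg (fun z => z.1.2) hxy), fun ⟨⟨d, c⟩, hdc⟩ => ?_⟩
    obtain ⟨x, ⟨h1, h2⟩, -⟩ := hsq'.2 d c ((hφ d c).1 hdc)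
    exact ⟨x, Subtype.ext (Prod.ext h1 h2)⟩
  let eG := LinearEquiv.ofBijective G hG
  haveI hB : Algebra.IsPushout B' B D' D := ⟨IsBaseChange.of_equiv
    ((eG.baseChange B' B D' _) ≪≫ₗ LinearEquiv.ofBijective _
      (Groth.Agent.MilnorH7.glue_baseChange_fst_bijective φ (Groth.Agent.MilnorH7.weak_of_isFibreSquare hsq)))
    fun x => by simp [eG, G, EtMil.glueFst]⟩
  haveI hA : Algebra.IsPushout B' A' D' C' := ⟨IsBaseChange.of_equiv
    ((eG.baseChange B' A' D' _) ≪≫ₗ LinearEquiv.ofBijective _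
      (Groth.Agent.MilnorH7.glue_baseChange_snd_bijective φ hsq))
    fun x => by simp [eG, G, EtMil.glueSnd]⟩
  let qB := Algebra.IsPushout.equiv B' B D' D
  let qA := Algebra.IsPushout.equiv B' A' D' C'
  refine ⟨⟨fun _ => ⟨.equiv inferInstance qB, .equiv inferInstance qA⟩, fun ⟨_, _⟩ => ?_⟩,
    ⟨fun _ => ⟨.of_linearEquiv qB.symm.toLinearEquiv, .of_linearEquiv qA.symm.toLinearEquiv⟩, fun ⟨_, _⟩ => ?_⟩,
    ⟨fun ⟨_, _⟩ => ⟨⟨.of_linearEquiv qB.symm.toLinearEquiv, .equiv qB⟩, .of_linearEquiv qA.symm.toLinearEquiv, .equiv qA⟩,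
      fun ⟨⟨_, _⟩, _, _⟩ => ?_⟩,
    ⟨fun _ => ⟨.of_equiv qB, .of_equiv qA⟩, fun ⟨_, _⟩ => ?_⟩,
    ⟨fun _ => ⟨.of_equiv qB, .of_equiv qA⟩, fun ⟨_, _⟩ => ?_⟩⟩
  · haveI : Algebra.FiniteType B (B ⊗[B'] D') := .equiv inferInstance qB.symm
    haveI : Algebra.FiniteType A' (A' ⊗[B'] D') := .equiv inferInstance qA.symm
    exact Groth.Agent.MilnorH7.finiteType_of_pair hsq
  · haveI : Module.Flat B (B ⊗[B'] D') := .of_linearEquiv qB.toLinearEquiv
    haveI : Module.Flat A' (A' ⊗[B'] D') := .of_linearEquiv qA.toLinearEquiv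
    exact Groth.Agent.MilnorH7.flat_of_pair hsq D'
  · haveI : Module.Flat B (B ⊗[B'] D') := .of_linearEquiv qB.toLinearEquiv
    haveI : Module.Flat A' (A' ⊗[B'] D') := .of_linearEquiv qA.toLinearEquiv
    haveI : Algebra.FinitePresentation B (B ⊗[B'] D') := .equiv qB.symm
    haveI : Algebra.FinitePresentation A' (A' ⊗[B'] D') := .equiv qA.symm
    exact Groth.Agent.MilnorH7.flat_finitePresentation_of_pair hsq
  · haveI : Algebra.Smooth B (B ⊗[B'] D') := .of_equiv qB.symm
    haveI : Algebra.Smooth A' (A' ⊗[B'] D') := .of_equiv qA.symm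
    exact Groth.Agent.MilnorH7.smooth_of_pair hsq
  · haveI : Algebra.Etale B (B ⊗[B'] D') := .of_equiv qB.symm
    haveI : Algebra.Etale A' (A' ⊗[B'] D') := .of_equiv qA.symm
    exact Groth.Agent.MilnorH7.etale_of_pair hsq

end Groth.Agent.S6900
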