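import Groth.Statements.S6901
import Groth.Agent.Lib.KFlat.Module
-- import your own Groth.Agent.* helpers here

set_option autoImplicit false
universe u
open CategoryTheory CategoryTheory.Limits MonoidalCategory
open DRing

namespace Groth.Agent.S6901

/-- A cochain complex `P•` of flat `R`-modules that vanishes in all large degrees is K-flat: `Tot(L• ⊗_R
P•)` is acyclic whenever `L•` is acyclic. -/
theorem result (R : Type u) [CommRing R] (P : DRing.Cx R) (b : ℤ)
    (hb : DRing.VanishesAbove P b) (hP : DRing.TermwiseFlat P) :
    (∀ L : DRing.Cx R, (∀ i : ℤ, IsZero (L.homology i)) → ∀ i : ℤ, IsZero ((L ⊗ P).homology i)) := by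
  have : CochainComplex.IsStrictlyLE P b := (CochainComplex.isStrictlyLE_iff P b).2 hb
  exact (Groth.Agent.KFlat.Module.isKFlat_iff P).1
    (Groth.Agent.KFlat.isKFlat_of_boundedAbove_flat P b
      fun n => (Groth.Agent.KFlat.Module.isFlat_iff (P.X n)).2 (hP n))

end Groth.Agent.S6901
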