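import Groth.Statements.S6903
import Groth.Agent.Lib.KFlat.Module
-- import your own Groth.Agent.* helpers here

set_option autoImplicit false
universe u
open CategoryTheory CategoryTheory.Limits MonoidalCategory
open DRing

namespace Groth.Agent.S6903

/-- A filtered colimit of K-flat complexes of `R`-modules is K-flat. -/
theorem result (R : Type u) [CommRing R] (J : Type u) [SmallCategory J] [IsFiltered J]
    (F : J ⥤ DRing.Cx R) (hF : ∀ j : J, (∀ L : DRing.Cx R, (∀ i : ℤ, IsZero (L.homology i)) → ∀ i : ℤ, IsZero ((L ⊗ F.obj j).homology i))) :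
    (∀ L : DRing.Cx R, (∀ i : ℤ, IsZero (L.homology i)) → ∀ i : ℤ, IsZero ((L ⊗ colimit F).homology i)) := by
  have : ∀ X : ModuleCat.{u} R, PreservesColimitsOfShape J
      ((Groth.Agent.KFlat.Module.TM R).obj X) := fun X =>
    (ihom.adjunction X).leftAdjoint_preservesColimits.preservesColimitsOfShape
  have : ∀ X : ModuleCat.{u} R, PreservesColimitsOfShape J
      ((Groth.Agent.KFlat.Module.TM R).flip.obj X) := fun X =>
    have : PreservesColimitsOfShape J (tensorLeft X) := this X
    preservesColimitsOfShape_of_natIso (BraidedCategory.tensorLeftIsoTensorRight X)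
  exact (Groth.Agent.KFlat.Module.isKFlat_iff _).1
    (Groth.Agent.KFlat.IsKFlat.colimit (colimit.isColimit F)
      fun j => (Groth.Agent.KFlat.Module.isKFlat_iff _).2 (hF j))

end Groth.Agent.S6903
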