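import Groth.Statements.S6904
import Groth.Agent.Lib.KFlat.AcyclicLeft
import Groth.Agent.Lib.KFlat.DTen
-- import your own Groth.Agent.* helpers here

set_option autoImplicit false
universe u
open CategoryTheory CategoryTheory.Limits MonoidalCategory
open DRing

namespace Groth.Agent.S6904

/-- Let `K•` be a complex of `R`-modules such that `K• ⊗_R M` is acyclic for every finitely presented
`R`-module `M`. Then `K•` is K-flat. -/
theorem result (R : Type u) [CommRing R] (K : DRing.Cx R)
    (hK : ∀ (M : Type u) [AddCommGroup M] [Module R M], Module.FinitePresentation R M →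
      (∀ i : ℤ, IsZero ((DRing.tensorCx K (ModuleCat.of R M)).homology i))) :
    (∀ L : DRing.Cx R, (∀ i : ℤ, IsZero (L.homology i)) → ∀ i : ℤ, IsZero ((L ⊗ K).homology i)) := by
  have hS : ∀ (m : ℤ) (M : Type u) [AddCommGroup M] [Module R M],
      Function.Exact ((K.d (m - 1) m).hom.rTensor M) ((K.d m (m + 1)).hom.rTensor M) := by
    intro m M _ _
    refine Groth.Agent.KFlat.LinearExact.exact_rTensor_of_fp _ _ ?_ (fun N _ _ hN => ?_) M
    · exact congrArg ModuleCat.Hom.hom (K.d_comp_d (m - 1) m (m + 1))
    · have h := ((tensorCx K (ModuleCat.of R N)).exactAt_iff' (m - 1) m (m + 1) (by simp) (by simp)).1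
        ((HomologicalComplex.exactAt_iff_isZero_homology _ _).2 (hK N hN m))
      rw [ShortComplex.ShortExact.moduleCat_exact_iff_function_exact] at h
      exact h
  intro L _ i
  refine IsZero.of_iso ((HomologicalComplex.exactAt_iff_isZero_homology _ _).1
    (Groth.Agent.KFlat.acyclic_tcx_of_singles (T := Groth.Agent.KFlat.Module.TM R) (K := K)
      (fun a X n => ?_) L i))
    ((HomologicalComplex.homologyFunctor _ _ i).mapIso (DTen.braidCx L K))
  refine (Groth.Agent.KFlat.exactAt_tcx_single_iff K a X n (n - a) (by omega)).2 ?_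
  rw [ShortComplex.ShortExact.moduleCat_exact_iff_function_exact]
  exact hS (n - a) X

end Groth.Agent.S6904
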