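import Groth.Statements.S6909
import Mathlib.RingTheory.Filtration

set_option autoImplicit false
universe u
open CAlg

namespace Groth.Agent.S6909

variable {A : Type u} [CommRing A]

lemma map_pow_smul {L M : Type u} [AddCommGroup L] [Module A L] [AddCommGroup M] [Module A M] (I : Ideal A)
    (d : L →ₗ[A] M) (r : ℕ) (h : ∀ x, d x ∈ I ^ r • (⊤ : Submodule A M)) {j : ℕ} {x : L}
    (hx : x ∈ I ^ j • (⊤ : Submodule A L)) : d x ∈ I ^ (j + r) • (⊤ : Submodule A M) := by
  have hm := Submodule.mem_map_of_mem (f := d) hx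
  rw [Submodule.map_smul''] at hm
  have := Submodule.smul_mono (le_refl (I ^ j)) (show Submodule.map d ⊤ ≤ I ^ r • (⊤ : Submodule A M) by
    rintro _ ⟨y, -, rfl⟩; exact h y) hm
  rwa [← Submodule.mul_smul, ← pow_add] at this


/-- Let `A` be a Noetherian ring, `I ⊆ A` an ideal inside the Jacobson radical, and `L → M → N` two
complexes `(f, g)` and `(f', g')` of finite `A`-modules with `f' ≡ f` modulo `I^{c+1}M` and `g' ≡ g`
modulo `I^{c+1}N`. If `c` works in the Artin–Rees lemma for `f` and for `g` (that is `f(L) ∩ IⁿM ⊆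
f(I^{n-c}L)` for `n ≥ c`, and likewise for `g`) and `(f, g)` is exact, then `c` works for `g'` and
`(f', g')` is exact. -/
theorem result {A : Type u} [CommRing A] [IsNoetherianRing A] (I : Ideal A)
    (hI : I ≤ Ideal.jacobson (⊥ : Ideal A)) {L M N : Type u} [AddCommGroup L] [Module A L] [Module.Finite A L]
    [AddCommGroup M] [Module A M] [Module.Finite A M] [AddCommGroup N] [Module A N] [Module.Finite A N]
    (f f' : L →ₗ[A] M) (g g' : M →ₗ[A] N) (c : ℕ) (hgf : g.comp f = 0) (hgf' : g'.comp f' = 0)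
    (hf : (∀ n : ℕ, c ≤ n → LinearMap.range f ⊓ (I ^ n • (⊤ : Submodule A M)) ≤ Submodule.map f (I ^ (n - c) • (⊤ : Submodule A L))))
    (hg : (∀ n : ℕ, c ≤ n → LinearMap.range g ⊓ (I ^ n • (⊤ : Submodule A N)) ≤ Submodule.map g (I ^ (n - c) • (⊤ : Submodule A M))))
    (hex : Function.Exact f g)
    (hff' : ∀ x : L, f x - f' x ∈ I ^ (c + 1) • (⊤ : Submodule A M))
    (hgg' : ∀ y : M, g y - g' y ∈ I ^ (c + 1) • (⊤ : Submodule A N)) :
    (∀ n : ℕ, c ≤ n → LinearMap.range g' ⊓ (I ^ n • (⊤ : Submodule A N)) ≤ Submodule.map g' (I ^ (n - c) • (⊤ : Submodule A M))) ∧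
    Function.Exact f' g' := by
  have key : ∀ (n : ℕ) (y : M), g' y ∈ I ^ n • (⊤ : Submodule A N) → ∀ k, k + c ≤ n →
      ∃ w ∈ I ^ k • (⊤ : Submodule A M), y - w ∈ LinearMap.range f' := by
    intro n y hy k
    induction k with
    | zero => exact fun _ => ⟨y, by simp, by simp⟩
    | succ k ih =>
      intro hk
      obtain ⟨w, hw, hyw⟩ := ih (by omega)
      have hg'w : g' w = g' y := by
        obtain ⟨x, hx⟩ := hyw
        have : g' (y - w) = 0 := by rw [← hx]; exact LinearMap.congr_fun hgf' x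
        rw [map_sub, sub_eq_zero] at this; exact this.symm
      have hgw : g w ∈ I ^ (c + 1 + k) • (⊤ : Submodule A N) := by
        have h1 := map_pow_smul I (g - g') (c + 1) hgg' hw
        rw [show g w = g' w + (g - g') w by simp, hg'w]
        exact Submodule.add_mem _ (Submodule.smul_mono_left (Ideal.pow_le_pow_right (by omega)) hy)
          (Submodule.smul_mono_left (Ideal.pow_le_pow_right (by omega)) h1)
      obtain ⟨z, hz, hzw⟩ := hg (c + 1 + k) (by omega) ⟨⟨w, rfl⟩, hgw⟩
      rw [show c + 1 + k - c = k + 1 by omega] at hz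
      obtain ⟨x, hx⟩ := (hex (w - z)).1 (by rw [map_sub, hzw, sub_self])
      have hfx : f x ∈ I ^ k • (⊤ : Submodule A M) := by
        rw [hx]
        exact Submodule.sub_mem _ hw (Submodule.smul_mono_left (Ideal.pow_le_pow_right (by omega)) hz)
      obtain ⟨x', hx'e, hx'⟩ : ∃ x', f x' = f x ∧ (f - f') x' ∈ I ^ (k + 1) • (⊤ : Submodule A M) := by
        rcases le_or_gt c k with hck | hck
        · obtain ⟨x', hx', e⟩ := hf k hck ⟨⟨x, rfl⟩, hfx⟩
          exact ⟨x', e, Submodule.smul_mono_left (Ideal.pow_le_pow_right (by omega)) (map_pow_smul I (f - f') (c + 1) hff' hx')⟩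
        · exact ⟨x, rfl, Submodule.smul_mono_left (Ideal.pow_le_pow_right (by omega)) (hff' x)⟩
      refine ⟨w - f' x', ?_, ?_⟩
      · rw [show w - f' x' = z + (f - f') x' by rw [LinearMap.sub_apply, hx'e, hx]; abel]
        exact Submodule.add_mem _ hz hx'
      · rw [show y - (w - f' x') = (y - w) + f' x' by abel]
        exact Submodule.add_mem _ hyw ⟨x', rfl⟩
  refine ⟨fun n hn => ?_, fun y => ⟨fun hy => ?_, ?_⟩⟩
  · rintro _ ⟨⟨y, rfl⟩, hy⟩
    obtain ⟨w, hw, x, hx⟩ := key n y hy (n - c) (by omega)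
    refine ⟨w, hw, ?_⟩
    have : g' (y - w) = 0 := by rw [← hx]; exact LinearMap.congr_fun hgf' x
    rw [map_sub, sub_eq_zero] at this; exact this.symm
  · have h0 : (LinearMap.range f').mkQ y = 0 := by
      rw [← Submodule.mem_bot (R := A), ← I.iInf_pow_smul_eq_bot_of_le_jacobson hI, Submodule.mem_iInf]
      intro k
      obtain ⟨w, hw, hyw⟩ := key (k + c) y (by simp [hy]) k le_rfl
      have e : (LinearMap.range f').mkQ y = (LinearMap.range f').mkQ w := (Submodule.Quotient.eq _).2 hyw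
      rw [e]
      have hm := Submodule.mem_map_of_mem (f := (LinearMap.range f').mkQ) hw
      rw [Submodule.map_smul''] at hm
      exact Submodule.smul_mono le_rfl le_top hm
    exact (Submodule.Quotient.mk_eq_zero _).1 h0
  · rintro ⟨x, rfl⟩; exact LinearMap.congr_fun hgf' x

end Groth.Agent.S6909
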