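import Groth.Statements.S6910
import Groth.Agent.S6909

set_option autoImplicit false
universe u
open CAlg

namespace Groth.Agent.S6910

lemma half {A : Type u} [CommRing A] (I : Ideal A) {M N : Type u} [AddCommGroup M] [Module A M]
    [AddCommGroup N] [Module A N] (g g' : M →ₗ[A] N) (c : ℕ)
    (hg : ∀ n : ℕ, c ≤ n → LinearMap.range g ⊓ (I ^ n • (⊤ : Submodule A N)) ≤ Submodule.map g (I ^ (n - c) • (⊤ : Submodule A M)))
    (hgg' : ∀ y : M, g y - g' y ∈ I ^ (c + 1) • (⊤ : Submodule A N)) (n : ℕ) :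
    I ^ (n + 1) • (⊤ : Submodule A N) ⊔ (LinearMap.range g ⊓ I ^ n • (⊤ : Submodule A N)) ≤
      I ^ (n + 1) • (⊤ : Submodule A N) ⊔ (LinearMap.range g' ⊓ I ^ n • (⊤ : Submodule A N)) := by
  refine sup_le le_sup_left ?_
  rintro x ⟨hx1, hx2⟩
  obtain ⟨w, hwx, hw⟩ : ∃ w, g w = x ∧ (g - g') w ∈ I ^ (n + 1) • (⊤ : Submodule A N) := by
    rcases le_or_gt c n with hcn | hcn
    · obtain ⟨w, hw, e⟩ := hg n hcn ⟨hx1, hx2⟩
      exact ⟨w, e, Submodule.smul_mono_left (Ideal.pow_le_pow_right (by omega))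
        (Groth.Agent.S6909.map_pow_smul I (g - g') (c + 1) hgg' hw)⟩
    · obtain ⟨w, rfl⟩ := hx1
      exact ⟨w, rfl, Submodule.smul_mono_left (Ideal.pow_le_pow_right (by omega)) (hgg' w)⟩
  refine Submodule.mem_sup.2 ⟨(g - g') w, hw, g' w, ⟨⟨w, rfl⟩, ?_⟩, ?_⟩
  · have e : g' w = x - (g - g') w := by simp [hwx]
    rw [e]
    exact Submodule.sub_mem _ hx2 (Submodule.smul_mono_left (Ideal.pow_le_pow_right n.le_succ) hw)
  · simp [hwx]


/-- Let `A` be a Noetherian ring, `I ⊆ A` an ideal inside the Jacobson radical, and `L → M → N` two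
complexes `(f, g)` and `(f', g')` of finite `A`-modules with `f' ≡ f` modulo `I^{c+1}M` and `g' ≡ g`
modulo `I^{c+1}N`, such that the Artin–Rees bound holds with constant `c` for both `f` and `g`, and
`(f, g)` is exact. Then for every `n` the submodules `I^{n+1}N + g(M) ∩ IⁿN` and `I^{n+1}N + g'(M) ∩
IⁿN` of `N` are equal; consequently the associated graded modules of `Coker g` and `Coker g'` with
respect to `I` coincide degreewise as subquotients of `N`. -/
theorem result {A : Type u} [CommRing A] [IsNoetherianRing A] (I : Ideal A)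
    (hI : I ≤ Ideal.jacobson (⊥ : Ideal A)) {L M N : Type u} [AddCommGroup L] [Module A L] [Module.Finite A L]
    [AddCommGroup M] [Module A M] [Module.Finite A M] [AddCommGroup N] [Module A N] [Module.Finite A N]
    (f f' : L →ₗ[A] M) (g g' : M →ₗ[A] N) (c : ℕ) (hgf : g.comp f = 0) (hgf' : g'.comp f' = 0)
    (hf : (∀ n : ℕ, c ≤ n → LinearMap.range f ⊓ (I ^ n • (⊤ : Submodule A M)) ≤ Submodule.map f (I ^ (n - c) • (⊤ : Submodule A L))))
    (hg : (∀ n : ℕ, c ≤ n → LinearMap.range g ⊓ (I ^ n • (⊤ : Submodule A N)) ≤ Submodule.map g (I ^ (n - c) • (⊤ : Submodule A M))))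
    (hex : Function.Exact f g)
    (hff' : ∀ x : L, f x - f' x ∈ I ^ (c + 1) • (⊤ : Submodule A M))
    (hgg' : ∀ y : M, g y - g' y ∈ I ^ (c + 1) • (⊤ : Submodule A N)) (n : ℕ) :
    I ^ (n + 1) • (⊤ : Submodule A N) ⊔ (LinearMap.range g ⊓ I ^ n • (⊤ : Submodule A N)) =
      I ^ (n + 1) • (⊤ : Submodule A N) ⊔ (LinearMap.range g' ⊓ I ^ n • (⊤ : Submodule A N)) := by
  have hg' := (Groth.Agent.S6909.result I hI f f' g g' c hgf hgf' hf hg hex hff' hgg').1
  exact le_antisymm (half I g g' c hg hgg' n)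
    (half I g' g c hg' (fun y => by rw [← neg_sub]; exact Submodule.neg_mem _ (hgg' y)) n)

end Groth.Agent.S6910
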