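import Groth.Statements.S6911
import Mathlib

set_option autoImplicit false
universe u
open TensorProduct
open CAlg

namespace Groth.Agent.S6911




/-- Let `A → B` be a flat map of Noetherian rings, `I ⊆ A` an ideal and `f : M → N` a map of finite
`A`-modules such that `c` works for `f` in the Artin–Rees lemma (`f(M) ∩ IⁿN ⊆ f(I^{n-c}M)` for `n ≥
c`). Then `c` works for `f ⊗ 1 : M ⊗_A B → N ⊗_A B` and the ideal `IB`. -/
theorem result {A B : Type u} [CommRing A] [IsNoetherianRing A] [CommRing B]
    [IsNoetherianRing B] [Algebra A B] [Module.Flat A B] (I : Ideal A) {M N : Type u} [AddCommGroup M] [Module A M]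
    [Module.Finite A M] [AddCommGroup N] [Module A N] [Module.Finite A N] (f : M →ₗ[A] N) (c : ℕ)
    (hf : (∀ n : ℕ, c ≤ n → LinearMap.range f ⊓ (I ^ n • (⊤ : Submodule A N)) ≤ Submodule.map f (I ^ (n - c) • (⊤ : Submodule A M)))) :
    ∀ n : ℕ, c ≤ n →
      LinearMap.range (f.baseChange B) ⊓ ((I.map (algebraMap A B)) ^ n • (⊤ : Submodule B (B ⊗[A] N))) ≤
        Submodule.map (f.baseChange B) ((I.map (algebraMap A B)) ^ (n - c) • (⊤ : Submodule B (B ⊗[A] M))) := by
  classical
  intro n hn
  let g : M →ₗ[A] N ⧸ (I ^ n • ⊤ : Submodule A N) := (I ^ n • ⊤ : Submodule A N).mkQ ∘ₗ f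
  have hex : Function.Exact ((LinearMap.ker g).subtype.baseChange B) (g.baseChange B) :=
    Module.Flat.lTensor_exact B (LinearMap.exact_subtype_ker_map g)
  rintro z ⟨⟨w, rfl⟩, hz⟩
  have hzero : (g.baseChange B) w = 0 := by
    rw [show g.baseChange B = ((I ^ n • ⊤ : Submodule A N).mkQ.baseChange B) ∘ₗ f.baseChange B from
      LinearMap.baseChange_comp _ _, LinearMap.comp_apply]
    have : (I.map (algebraMap A B)) ^ n • (⊤ : Submodule B (TensorProduct A B N)) ≤
        LinearMap.ker ((I ^ n • ⊤ : Submodule A N).mkQ.baseChange B) := by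
      rw [← Ideal.map_pow, Ideal.map, Submodule.span_smul_eq, Submodule.set_smul_le_iff]
      rintro _ x ⟨a, ha, rfl⟩ -
      rw [LinearMap.mem_ker, map_smul, algebraMap_smul]
      generalize ((I ^ n • ⊤ : Submodule A N).mkQ.baseChange B) x = y
      induction y with
      | zero => simp
      | add u v hu hv => rw [smul_add, hu, hv, add_zero]
      | tmul b v =>
        obtain ⟨v, rfl⟩ := Submodule.Quotient.mk_surjective _ v
        rw [← TensorProduct.tmul_smul, ← Submodule.Quotient.mk_smul,
          (Submodule.Quotient.mk_eq_zero _).2 (Submodule.smul_mem_smul ha Submodule.mem_top), TensorProduct.tmul_zero]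
    exact this hz
  obtain ⟨v, rfl⟩ := (hex w).1 hzero
  clear hz hzero
  let J := (I.map (algebraMap A B)) ^ (n - c) • (⊤ : Submodule B (TensorProduct A B M))
  suffices h : ∀ v, f.baseChange B ((LinearMap.ker g).subtype.baseChange B v) ∈ Submodule.map (f.baseChange B) J from h v
  intro v
  induction v with
  | zero => simp
  | add u v hu hv => simp only [map_add]; exact add_mem hu hv
  | tmul b k =>
    have hk : f k.1 ∈ LinearMap.range f ⊓ (I ^ n • (⊤ : Submodule A N)) :=
      ⟨⟨k.1, rfl⟩, (Submodule.Quotient.mk_eq_zero _).1 k.2⟩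
    obtain ⟨m, hm, hmk⟩ := hf n hn hk
    refine ⟨b ⊗ₜ m, ?_, by simp [hmk]⟩
    refine Submodule.smul_induction_on hm (fun a ha x _ => ?_) fun x y hx hy => ?_
    · have : b ⊗ₜ[A] (a • x) = algebraMap A B a • (b ⊗ₜ[A] x) := by rw [algebraMap_smul, TensorProduct.tmul_smul]
      rw [SetLike.mem_coe, this]
      exact Submodule.smul_mem_smul (Ideal.map_pow (algebraMap A B) I _ ▸ Ideal.mem_map_of_mem _ ha) Submodule.mem_top
    · rw [TensorProduct.tmul_add]; exact add_mem hx hy

end Groth.Agent.S6911
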