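import Groth.Statements.S6912
import Mathlib

set_option autoImplicit false
universe u
open TensorProduct
open CAlg

namespace Groth.Agent.S6912




/-- Let `R` be a domain and `M`, `N` two `R`-modules; rank means dimension over the fraction field after
base change. Then `rank (M ⊗_R N) = rank M · rank N`, and when `M` is finitely presented also `rank
Hom_R(M, N) = rank M · rank N`. -/
theorem result (R : Type u) [CommRing R] [IsDomain R] (M N : Type u)
    [AddCommGroup M] [Module R M] [AddCommGroup N] [Module R N] :
    Module.rank R (M ⊗[R] N) = Module.rank R M * Module.rank R N ∧
    (Module.FinitePresentation R M → Module.rank R (M →ₗ[R] N) = Module.rank R M * Module.rank R N) := by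
  let S := nonZeroDivisors R
  let K := FractionRing R
  have key : ∀ (X : Type u) [AddCommGroup X] [Module R X],
      Module.rank K (TensorProduct R K X) = Module.rank R X := fun X _ _ =>
    IsBaseChange.rank_eq (TensorProduct.isBaseChange R X K)
  have key' : ∀ (X : Type u) [AddCommGroup X] [Module R X],
      Module.rank (Localization S) (LocalizedModule S X) = Module.rank R X := fun X _ _ =>
    (IsLocalization.rank_eq (Localization S) S le_rfl).trans
      (IsLocalizedModule.rank_eq S le_rfl (LocalizedModule.mkLinearMap S X))
  refine ⟨?_, fun hM => ?_⟩
  · rw [← key (TensorProduct R M N), ← key M, ← key N,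
      (TensorProduct.AlgebraTensorModule.distribBaseChange R K M N).rank_eq, rank_tensorProduct']
  · haveI := hM
    letI : Field (Localization S) := inferInstanceAs (Field (FractionRing R))
    haveI : Module.Finite (Localization S) (LocalizedModule S M) :=
      Module.Finite.of_isLocalizedModule S (LocalizedModule.mkLinearMap S M)
    rw [← IsLocalizedModule.rank_eq S le_rfl (LocalizedModule.map S (M := M) (N := N)),
      ← IsLocalization.rank_eq (Localization S) S le_rfl, ← key' M, ← key' N, Module.rank_linearMap]
    simp

end Groth.Agent.S6912
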