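import Groth.Statements.S6913
import Groth.Agent.Lib.RankDomH1.Basic

set_option autoImplicit false
universe u
open CAlg

namespace Groth.Agent.S6913




/-- Let `R` be a domain and `M` a finite `R`-module, of (finite) rank `r`. Then: some linear map `M →
R^r` has torsion kernel and torsion cokernel; some nonzero `f ∈ R` makes `M_f` free of rank `r` over
`R_f`; and some injective linear map `R^r → M` has torsion cokernel. -/
theorem result (R : Type u) [CommRing R] [IsDomain R] (M : Type u) [AddCommGroup M]
    [Module R M] [Module.Finite R M] :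
    (∃ h : M →ₗ[R] (Fin (Module.finrank R M) → R),
      (∀ x : M, h x = 0 → ∃ c : R, c ≠ 0 ∧ c • x = 0) ∧
      (∀ y : Fin (Module.finrank R M) → R, ∃ c : R, c ≠ 0 ∧ c • y ∈ LinearMap.range h)) ∧
    (∃ f : R, f ≠ 0 ∧ Module.Free (Localization.Away f) (LocalizedModule (Submonoid.powers f) M) ∧
      Module.finrank (Localization.Away f) (LocalizedModule (Submonoid.powers f) M) = Module.finrank R M) ∧
    (∃ g : (Fin (Module.finrank R M) → R) →ₗ[R] M, Function.Injective g ∧
      ∀ x : M, ∃ c : R, c ≠ 0 ∧ c • x ∈ LinearMap.range g) := by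
  obtain ⟨c, g, h, hc, hg, hgh, hhg⟩ := Groth.Agent.RankDomH1.exists_structure R M
  have hgh' : ∀ x, g (h x) = c • x := fun x => LinearMap.congr_fun hgh x
  have hhg' : ∀ y, h (g y) = c • y := fun y => LinearMap.congr_fun hhg y
  refine ⟨⟨h, fun x hx => ⟨c, hc, by rw [← hgh', hx, map_zero]⟩, fun y => ⟨c, hc, g y, hhg' y⟩⟩, ?_,
    ⟨g, hg, fun x => ⟨c, hc, h x, hgh' x⟩⟩⟩
  let S := Submonoid.powers c
  let G := LocalizedModule.map S g
  have hunit : IsUnit (algebraMap R (Localization S) c) :=
    IsLocalization.map_units (Localization S) (⟨c, Submonoid.mem_powers c⟩ : S)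
  have hbij : Function.Bijective G := by
    refine ⟨LocalizedModule.map_injective S g hg, fun z => ?_⟩
    induction z using LocalizedModule.induction_on with
    | h x s =>
      obtain ⟨u, hu⟩ := hunit
      refine ⟨(↑u⁻¹ : Localization S) • LocalizedModule.mk (h x) s, ?_⟩
      rw [map_smul, LocalizedModule.map_mk, hgh', ← LocalizedModule.smul'_mk,
        algebra_compatible_smul (Localization S) c, smul_smul]
      rw [← hu, Units.inv_mul, one_smul]
  let e := LinearEquiv.ofBijective G hbij
  let F := LocalizedModule S (Fin (Module.finrank R M) → R)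
  haveI : Module.Free (Localization S) F := Module.free_of_isLocalizedModule S (LocalizedModule.mkLinearMap S _)
  refine ⟨c, hc, Module.Free.of_equiv e, ?_⟩
  haveI : Nontrivial (Localization S) :=
    (IsLocalization.isDomain_localization (M := S) (powers_le_nonZeroDivisors_of_noZeroDivisors hc)).toNontrivial
  rw [← e.finrank_eq]
  let eF := (IsLocalizedModule.iso S
    (LinearMap.pi fun i => Algebra.linearMap R (Localization S) ∘ₗ LinearMap.proj i :
      (Fin (Module.finrank R M) → R) →ₗ[R] (Fin (Module.finrank R M) → Localization S)))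
  let eF' : F ≃ₗ[Localization S] (Fin (Module.finrank R M) → Localization S) :=
    LinearEquiv.extendScalarsOfIsLocalization S _ eF
  rw [eF'.finrank_eq]
  simp

end Groth.Agent.S6913
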