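import Groth.Statements.S6914
import Groth.Agent.Lib.Fitting.Local
-- import your own Groth.Agent.* helpers here

set_option autoImplicit false
universe u
open TensorProduct
open Fitt

namespace Groth.Agent.S6914

/-- Let `M` be a finite `R`-module, `k ≥ 0`, `I = Fit_k(M)` and `a ∈ I`; let `R₁ ≅ R[I/a]` be (a copy
of) the affine blow-up algebra and `M' = (M ⊗_R R₁)/(a-power torsion)` the strict transform. Then
`Fit_k(M') = R₁`. -/
theorem result {R : Type u} [CommRing R] (M : Type u) [AddCommGroup M] [Module R M]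
    [Module.Finite R M] (k : ℕ) (a : R) (ha : a ∈ Fitt.ideal R M k)
    (R₁ : Type u) [CommRing R₁] [Algebra R R₁] (e : R₁ ≃ₐ[R] ↥(BlowUp.affineAlgebra R (Fitt.ideal R M k) a)) :
    Fitt.ideal R₁ ((R₁ ⊗[R] M) ⧸ FlatCA.powTorsion R₁ (algebraMap R R₁ a) (R₁ ⊗[R] M)) k = ⊤ := by
  classical
  let L := Localization.Away a
  let ι : R₁ →ₐ[R] L := (BlowUp.affineAlgebra R (Fitt.ideal R M k) a).val.comp e.toAlgHom
  have hι : Function.Injective ι := Subtype.val_injective.comp e.injective
  let a₁ := algebraMap R R₁ a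
  have hreg : ∀ r : R₁, a₁ * r = 0 → r = 0 := by
    intro r hr
    refine hι ?_
    have h1 := congrArg ι hr
    rw [map_mul, map_zero, AlgHom.commutes] at h1
    rw [map_zero]
    exact ((IsLocalization.map_units L (⟨a, Submonoid.mem_powers a⟩ : Submonoid.powers a)).mul_right_eq_zero).1 h1
  have hI : (Fitt.ideal R M k).map (algebraMap R R₁) = Ideal.span {a₁} := by
    refine le_antisymm (Ideal.map_le_iff_le_comap.2 fun x hx => ?_)
      ((Ideal.span_singleton_le_iff_mem _).2 (Ideal.mem_map_of_mem _ ha))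
    let q : ↥(BlowUp.affineAlgebra R (Fitt.ideal R M k) a) :=
      ⟨_, Algebra.subset_adjoin ⟨x, hx, rfl⟩⟩
    refine Ideal.mem_span_singleton'.2 ⟨e.symm q, hι ?_⟩
    rw [map_mul, AlgHom.commutes, AlgHom.commutes]
    show (e (e.symm q) : L) * algebraMap R L a = algebraMap R L x
    rw [AlgEquiv.apply_symm_apply]
    exact IsLocalization.mk'_spec L x ⟨a, Submonoid.mem_powers a⟩
  have hfitt : Fitt.ideal R₁ (R₁ ⊗[R] M) k = Ideal.span {a₁} := by
    rw [Groth.Agent.FittingLib.ideal_baseChange, hI]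
  let P := FlatCA.powTorsion R₁ a₁ (R₁ ⊗[R] M)
  have hP : ∀ y : R₁ ⊗[R] M, a₁ • y = 0 → y ∈ P := fun y hy =>
    Submodule.mem_iSup_of_mem 1 (by rw [pow_one]; exact (Submodule.mem_torsionBy_iff a₁ y).2 hy)
  obtain ⟨n, x, hx⟩ := Groth.Agent.FittingLib.exists_generators (R := R₁) (M := R₁ ⊗[R] M)
  have hxq : Submodule.span R₁ (Set.range (P.mkQ ∘ x)) = ⊤ := by
    rw [Set.range_comp, Submodule.span_image, hx, Submodule.map_top, Submodule.range_mkQ]
  have hloc : ∀ (p : Ideal R₁), p ≠ ⊤ → ∃ (u : R₁) (g : Fin k → R₁ ⊗[R] M), u ∉ p ∧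
      (∀ j, (a₁ * u) • x j ∈ Submodule.span R₁ (Set.range g)) ∧
      ∀ y : (R₁ ⊗[R] M) ⧸ P, u • y ∈ Submodule.span R₁ (Set.range (P.mkQ ∘ g)) := by
    intro p hp
    have hJ := (Groth.Agent.FittingLib.ideal_eq_J x hx k).symm.trans hfitt
    obtain ⟨B, S, hS, h1, h2, hB⟩ : ∃ (B : Matrix (Fin n) (Fin n) R₁) (S : Finset (Fin n)), S.card ≤ k ∧
        (∀ i ∉ S, B i ∈ Groth.Agent.FittingLib.rel x) ∧ (∀ i ∈ S, ∃ j, B i = Pi.single j 1) ∧
        B.det ∉ p * Ideal.span {a₁} := by
      by_contra! hall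
      obtain ⟨c, hc, he⟩ := Ideal.mem_mul_span_singleton.1 ((hJ.ge.trans
        (Groth.Agent.FittingLib.J_le_of_forall _ Submodule.subset_span fun B S a b c => hall B S a b c))
        (Ideal.mem_span_singleton_self a₁))
      have : 1 - c = 0 := hreg _ (by rw [mul_sub, mul_one, mul_comm, he, sub_self])
      rw [sub_eq_zero] at this
      exact hp ((Ideal.eq_top_iff_one _).2 (this ▸ hc))
    have hmem : ∀ (A : Matrix (Fin n) (Fin n) R₁), (∀ i ∉ S, A i ∈ Groth.Agent.FittingLib.rel x) →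
        ∃ c, A.det = c * a₁ := fun A hA =>
      Ideal.mem_span_singleton'.1 (hJ.le (Groth.Agent.FittingLib.det_mem_J hS hA)) |>.imp fun _ h => h.symm
    obtain ⟨u, hu⟩ := hmem B h1
    have hu' : u ∉ p := fun h => hB (Ideal.mem_mul_span_singleton.2 ⟨u, h, hu.symm⟩)
    choose g hg using h2
    let gg : Fin k → R₁ ⊗[R] M := fun i => if h : (i : ℕ) < S.card
      then ∑ l, B (S.equivFin.symm ⟨i, h⟩ : S) l • x l else 0
    have hgg : ∀ i ∈ S, ∑ l, B i l • x l ∈ Set.range gg := fun i hi =>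
      ⟨⟨(S.equivFin ⟨i, hi⟩ : ℕ), (S.equivFin ⟨i, hi⟩).2.trans_le hS⟩, by simp [gg]⟩
    refine ⟨u, gg, hu', fun j => ?_, fun y => ?_⟩
    · rw [mul_comm, ← hu, Groth.Agent.FittingLib.det_mul_smul_eq_zero h1 j]
      exact sum_mem fun i hi => Submodule.smul_mem _ _ (Submodule.subset_span (hgg i hi))
    · have hy : y ∈ Submodule.span R₁ (Set.range (P.mkQ ∘ x)) := hxq.ge trivial
      induction hy using Submodule.span_induction with
      | mem z hz =>
        obtain ⟨j, rfl⟩ := hz
        have hadj : ∀ i ∈ S, ∃ c, B.adjugate j i = c * a₁ := by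
          intro i hi
          rw [Matrix.adjugate_apply]
          refine hmem _ fun l hl => ?_
          rw [Matrix.updateRow_ne (fun h : l = i => hl (h.symm ▸ hi))]
          exact h1 l hl
        choose c hc using hadj
        let w : R₁ ⊗[R] M := ∑ i ∈ S.attach, c i.1 i.2 • ∑ l, B i.1 l • x l
        have hker : u • x j - w ∈ P := by
          refine hP _ ?_
          rw [smul_sub, smul_smul, mul_comm, ← hu, Groth.Agent.FittingLib.det_mul_smul_eq_zero h1 j,
            sub_eq_zero, ← Finset.sum_attach S, Finset.smul_sum]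
          exact Finset.sum_congr rfl fun i _ => by rw [hc i.1 i.2, smul_smul, mul_comm]
        have : u • P.mkQ (x j) = P.mkQ w := by
          rw [← map_smul]
          exact (Submodule.Quotient.eq P).2 hker
        rw [Function.comp_apply, this, Set.range_comp, Submodule.span_image]
        exact Submodule.mem_map_of_mem (sum_mem fun i _ =>
          Submodule.smul_mem _ _ (Submodule.subset_span (hgg i.1 i.2)))
      | zero => rw [smul_zero]; exact zero_mem _
      | add a b _ _ ha hb => rw [smul_add]; exact add_mem ha hb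
      | smul c a _ ha => rw [smul_comm]; exact Submodule.smul_mem _ _ ha
  by_contra hne
  obtain ⟨p, hp, hle⟩ := Ideal.exists_le_maximal _ hne
  obtain ⟨u, g, hu, -, hg⟩ := hloc p hp.ne_top
  exact hu (hp.isPrime.mem_of_pow_mem n (hle (Groth.Agent.FittingLib.pow_mem_ideal _ hxq hg)))

end Groth.Agent.S6914
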