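import Groth.Statements.S6915
import Groth.Agent.Lib.Fitting.Local
-- import your own Groth.Agent.* helpers here

set_option autoImplicit false
universe u
open TensorProduct
open Fitt

namespace Groth.Agent.S6915

/-- Let `M` be a finite `R`-module, `k ≥ 0` and `I = Fit_k(M)`, and assume `M_𝔭` is free of rank `k` for
every prime `𝔭` not containing `I`. Then for every `a ∈ I` and (a copy `R₁` of) the affine blow-up
algebra `R[I/a]`, the strict transform `M' = (M ⊗_R R₁)/(a-power torsion)` is finite locally free of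
rank `k`: every prime of `R₁` has a basic open neighbourhood over which `M'` is free of rank `k`. -/
theorem result {R : Type u} [CommRing R] (M : Type u) [AddCommGroup M]
    [Module R M] [Module.Finite R M] (k : ℕ)
    (hfree : ∀ (p : Ideal R) [p.IsPrime], ¬ Fitt.ideal R M k ≤ p →
      Module.Free (Localization.AtPrime p) (LocalizedModule p.primeCompl M) ∧
        Module.finrank (Localization.AtPrime p) (LocalizedModule p.primeCompl M) = k)
    (a : R) (ha : a ∈ Fitt.ideal R M k) (R₁ : Type u) [CommRing R₁] [Algebra R R₁] (e : R₁ ≃ₐ[R] ↥(BlowUp.affineAlgebra R (Fitt.ideal R M k) a)) :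
    ∀ (p' : Ideal R₁) [p'.IsPrime], ∃ g : R₁, g ∉ p' ∧
      Module.Free (Localization.Away g) (LocalizedModule (Submonoid.powers g) ((R₁ ⊗[R] M) ⧸ FlatCA.powTorsion R₁ (algebraMap R R₁ a) (R₁ ⊗[R] M))) ∧
      Module.finrank (Localization.Away g) (LocalizedModule (Submonoid.powers g) ((R₁ ⊗[R] M) ⧸ FlatCA.powTorsion R₁ (algebraMap R R₁ a) (R₁ ⊗[R] M))) = k := by
  classical
  let L := Localization.Away a
  let ι : R₁ →ₐ[R] L := (BlowUp.affineAlgebra R (Fitt.ideal R M k) a).val.comp e.toAlgHom
  have hι : Function.Injective ι := Subtype.val_injective.comp e.injective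
  let a₁ := algebraMap R R₁ a
  have hreg : ∀ r : R₁, a₁ * r = 0 → r = 0 := by
    intro r hr
    refine hι ?_
    have h1 := congrArg ι hr
    rw [map_mul, map_zero, AlgHom.commutes] at h1
    rw [map_zero]
    exact ((IsLocalization.map_units L (⟨a, Submonoid.mem_powers a⟩ : Submonoid.powers a)).mul_right_eq_zero).1 h1
  have hI : (Fitt.ideal R M k).map (algebraMap R R₁) = Ideal.span {a₁} := by
    refine le_antisymm (Ideal.map_le_iff_le_comap.2 fun x hx => ?_)
      ((Ideal.span_singleton_le_iff_mem _).2 (Ideal.mem_map_of_mem _ ha))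
    let q : ↥(BlowUp.affineAlgebra R (Fitt.ideal R M k) a) :=
      ⟨_, Algebra.subset_adjoin ⟨x, hx, rfl⟩⟩
    refine Ideal.mem_span_singleton'.2 ⟨e.symm q, hι ?_⟩
    rw [map_mul, AlgHom.commutes, AlgHom.commutes]
    show (e (e.symm q) : L) * algebraMap R L a = algebraMap R L x
    rw [AlgEquiv.apply_symm_apply]
    exact IsLocalization.mk'_spec L x ⟨a, Submonoid.mem_powers a⟩
  have hfitt : Fitt.ideal R₁ (R₁ ⊗[R] M) k = Ideal.span {a₁} := by
    rw [Groth.Agent.FittingLib.ideal_baseChange, hI]
  let P := FlatCA.powTorsion R₁ a₁ (R₁ ⊗[R] M)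
  have hP : ∀ y : R₁ ⊗[R] M, a₁ • y = 0 → y ∈ P := fun y hy =>
    Submodule.mem_iSup_of_mem 1 (by rw [pow_one]; exact (Submodule.mem_torsionBy_iff a₁ y).2 hy)
  obtain ⟨n, x, hx⟩ := Groth.Agent.FittingLib.exists_generators (R := R₁) (M := R₁ ⊗[R] M)
  have hxq : Submodule.span R₁ (Set.range (P.mkQ ∘ x)) = ⊤ := by
    rw [Set.range_comp, Submodule.span_image, hx, Submodule.map_top, Submodule.range_mkQ]
  have hloc : ∀ (p : Ideal R₁), p ≠ ⊤ → ∃ (u : R₁) (g : Fin k → R₁ ⊗[R] M), u ∉ p ∧
      (∀ j, (a₁ * u) • x j ∈ Submodule.span R₁ (Set.range g)) ∧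
      ∀ y : (R₁ ⊗[R] M) ⧸ P, u • y ∈ Submodule.span R₁ (Set.range (P.mkQ ∘ g)) := by
    intro p hp
    have hJ := (Groth.Agent.FittingLib.ideal_eq_J x hx k).symm.trans hfitt
    obtain ⟨B, S, hS, h1, h2, hB⟩ : ∃ (B : Matrix (Fin n) (Fin n) R₁) (S : Finset (Fin n)), S.card ≤ k ∧
        (∀ i ∉ S, B i ∈ Groth.Agent.FittingLib.rel x) ∧ (∀ i ∈ S, ∃ j, B i = Pi.single j 1) ∧
        B.det ∉ p * Ideal.span {a₁} := by
      by_contra! hall
      obtain ⟨c, hc, he⟩ := Ideal.mem_mul_span_singleton.1 ((hJ.ge.trans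
        (Groth.Agent.FittingLib.J_le_of_forall _ Submodule.subset_span fun B S a b c => hall B S a b c))
        (Ideal.mem_span_singleton_self a₁))
      have : 1 - c = 0 := hreg _ (by rw [mul_sub, mul_one, mul_comm, he, sub_self])
      rw [sub_eq_zero] at this
      exact hp ((Ideal.eq_top_iff_one _).2 (this ▸ hc))
    have hmem : ∀ (A : Matrix (Fin n) (Fin n) R₁), (∀ i ∉ S, A i ∈ Groth.Agent.FittingLib.rel x) →
        ∃ c, A.det = c * a₁ := fun A hA =>
      Ideal.mem_span_singleton'.1 (hJ.le (Groth.Agent.FittingLib.det_mem_J hS hA)) |>.imp fun _ h => h.symm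
    obtain ⟨u, hu⟩ := hmem B h1
    have hu' : u ∉ p := fun h => hB (Ideal.mem_mul_span_singleton.2 ⟨u, h, hu.symm⟩)
    choose g hg using h2
    let gg : Fin k → R₁ ⊗[R] M := fun i => if h : (i : ℕ) < S.card
      then ∑ l, B (S.equivFin.symm ⟨i, h⟩ : S) l • x l else 0
    have hgg : ∀ i ∈ S, ∑ l, B i l • x l ∈ Set.range gg := fun i hi =>
      ⟨⟨(S.equivFin ⟨i, hi⟩ : ℕ), (S.equivFin ⟨i, hi⟩).2.trans_le hS⟩, by simp [gg]⟩
    refine ⟨u, gg, hu', fun j => ?_, fun y => ?_⟩
    · rw [mul_comm, ← hu, Groth.Agent.FittingLib.det_mul_smul_eq_zero h1 j]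
      exact sum_mem fun i hi => Submodule.smul_mem _ _ (Submodule.subset_span (hgg i hi))
    · have hy : y ∈ Submodule.span R₁ (Set.range (P.mkQ ∘ x)) := hxq.ge trivial
      induction hy using Submodule.span_induction with
      | mem z hz =>
        obtain ⟨j, rfl⟩ := hz
        have hadj : ∀ i ∈ S, ∃ c, B.adjugate j i = c * a₁ := by
          intro i hi
          rw [Matrix.adjugate_apply]
          refine hmem _ fun l hl => ?_
          rw [Matrix.updateRow_ne (fun h : l = i => hl (h.symm ▸ hi))]
          exact h1 l hl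
        choose c hc using hadj
        let w : R₁ ⊗[R] M := ∑ i ∈ S.attach, c i.1 i.2 • ∑ l, B i.1 l • x l
        have hker : u • x j - w ∈ P := by
          refine hP _ ?_
          rw [smul_sub, smul_smul, mul_comm, ← hu, Groth.Agent.FittingLib.det_mul_smul_eq_zero h1 j,
            sub_eq_zero, ← Finset.sum_attach S, Finset.smul_sum]
          exact Finset.sum_congr rfl fun i _ => by rw [hc i.1 i.2, smul_smul, mul_comm]
        have : u • P.mkQ (x j) = P.mkQ w := by
          rw [← map_smul]
          exact (Submodule.Quotient.eq P).2 hker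
        rw [Function.comp_apply, this, Set.range_comp, Submodule.span_image]
        exact Submodule.mem_map_of_mem (sum_mem fun i _ =>
          Submodule.smul_mem _ _ (Submodule.subset_span (hgg i.1 i.2)))
      | zero => rw [smul_zero]; exact zero_mem _
      | add a b _ _ ha hb => rw [smul_add]; exact add_mem ha hb
      | smul c a _ ha => rw [smul_comm]; exact Submodule.smul_mem _ _ ha
  intro p' hp'
  obtain ⟨u, g, hu, hgx, hg⟩ := hloc p' hp'.ne_top
  refine ⟨u, hu, ?_⟩
  refine Groth.Agent.FittingLib.free_of_smul_mem_span u (P.mkQ ∘ g) hg (fun c hc i => ⟨n, ?_⟩) ?_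
  · have hmk : P.mkQ (∑ i, c i • g i) = 0 := by
      rw [map_sum]
      simpa using hc
    rw [Submodule.mkQ_apply, Submodule.Quotient.mk_eq_zero] at hmk
    obtain ⟨N, hN⟩ := (Submodule.mem_iSup_of_directed _ (Monotone.directed_le fun i j h y hy => by
      rw [Submodule.mem_torsionBy_iff] at hy ⊢
      rw [show a₁ ^ j = a₁ ^ (j - i) * a₁ ^ i by rw [← pow_add, Nat.sub_add_cancel h], mul_smul, hy, smul_zero])).1 hmk
    rw [Submodule.mem_torsionBy_iff] at hN
    have hrel : ∑ i, (a₁ ^ N * c i) • g i = 0 := by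
      rw [← hN, Finset.smul_sum]
      simp [mul_smul]
    have h0 : Fitt.ideal R₁ (R₁ ⊗[R] M) (k - 1) = ⊥ := by
      have hk : k - 1 < k := by have := i.2; omega
      have hz : ∀ z ∈ Fitt.ideal R M (k - 1), algebraMap R R₁ z = 0 := by
        intro z hz
        have hker : ∃ N, a ^ N * z = 0 := by
          have : a ∈ Ideal.radical (LinearMap.ker (LinearMap.toSpanSingleton R R z) : Ideal R) := by
            rw [Ideal.radical_eq_sInf, Ideal.mem_sInf]
            rintro p ⟨hle, hp⟩
            by_contra hap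
            obtain ⟨hfr, hrk⟩ := hfree p (fun h => hap (h ha))
            let e' := (IsLocalizedModule.isBaseChange p.primeCompl (Localization.AtPrime p)
              (LocalizedModule.mkLinearMap p.primeCompl M)).equiv
            have := Module.Free.of_equiv e'.symm
            have hbot : Fitt.ideal (Localization.AtPrime p) (Localization.AtPrime p ⊗[R] M) (k - 1) = ⊥ := by
              refine Groth.Agent.FittingLib.ideal_eq_bot_of_basis (Module.Free.chooseBasis _ _) ?_
              rwa [← Module.finrank_eq_card_basis (Module.Free.chooseBasis _ _), e'.finrank_eq, hrk]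
            rw [Groth.Agent.FittingLib.ideal_baseChange, Ideal.map_eq_bot_iff_le_ker] at hbot
            have h1 := hbot hz
            rw [RingHom.mem_ker, IsLocalization.map_eq_zero_iff p.primeCompl] at h1
            obtain ⟨⟨t, ht⟩, htz⟩ := h1
            exact ht (hle (by simpa using htz))
          obtain ⟨N, hN⟩ := this
          exact ⟨N, by simpa using hN⟩
        obtain ⟨N, hN⟩ := hker
        have : ∀ N : ℕ, ∀ r : R₁, a₁ ^ N * r = 0 → r = 0 := by
          intro N
          induction N with
          | zero => intro r hr; simpa using hr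
          | succ N ih => intro r hr; exact hreg r (ih _ (by rwa [← mul_assoc, ← pow_succ]))
        exact this N _ (by rw [← map_pow, ← map_mul, hN, map_zero])
      rw [Groth.Agent.FittingLib.ideal_baseChange, Ideal.map_eq_bot_iff_le_ker]
      exact fun z hz' => hz z hz'
    have hfin := Groth.Agent.FittingLib.coeff_mul_pow_eq_zero g hx h0 hgx hrel i
    have : ∀ N : ℕ, ∀ r : R₁, a₁ ^ N * r = 0 → r = 0 := by
      intro N
      induction N with
      | zero => intro r hr; simpa using hr
      | succ N ih => intro r hr; exact hreg r (ih _ (by rwa [← mul_assoc, ← pow_succ]))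
    refine this (N + n) _ ?_
    rw [← hfin, mul_pow, pow_add]
    ring
  · refine nontrivial_of_ne 1 0 fun e => hu ?_
    rw [← map_one (algebraMap R₁ (Localization.Away u)), IsLocalization.map_eq_zero_iff (Submonoid.powers u)] at e
    obtain ⟨⟨_, N, rfl⟩, hN⟩ := e
    exact hp'.mem_of_pow_mem N (by simp only [mul_one] at hN; rw [hN]; exact p'.zero_mem)

end Groth.Agent.S6915
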