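import Groth.Statements.S6917
import Mathlib.RingTheory.Spectrum.Prime.Topology
import Mathlib.Topology.Category.TopCat.Basic
import Mathlib.CategoryTheory.Limits.Shapes.Pullback.IsPullback.Defs

set_option autoImplicit false
universe u
open CategoryTheory
open EtAlg

namespace Groth.Agent.S6917

/-- Let `B' = B ×_A A'` be a fibre square of rings with `A' → A` surjective. Then `Spec(B') = Spec(B)
⨿_{Spec(A)} Spec(A')`: the square of prime spectra is a pushout of topological spaces. -/
theorem result (B' B A' A : Type u) [CommRing B'] [CommRing B] [CommRing A'] [CommRing A]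
    [Algebra B' B] [Algebra B' A'] [Algebra B A] [Algebra A' A] [Algebra B' A] [IsScalarTower B' B A] [IsScalarTower B' A' A]
    (hsq : EtMil.IsFibreSquare B' B A' A) :
    IsPushout (TopCat.ofHom (ContinuousMap.mk (PrimeSpectrum.comap (algebraMap B A)) (PrimeSpectrum.continuous_comap _))) (TopCat.ofHom (ContinuousMap.mk (PrimeSpectrum.comap (algebraMap A' A)) (PrimeSpectrum.continuous_comap _)))
      (TopCat.ofHom (ContinuousMap.mk (PrimeSpectrum.comap (algebraMap B' B)) (PrimeSpectrum.continuous_comap _)))
      (TopCat.ofHom (ContinuousMap.mk (PrimeSpectrum.comap (algebraMap B' A')) (PrimeSpectrum.continuous_comap _))) := by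
  classical
  obtain ⟨hs, hfib⟩ := hsq
  have hB : Function.Surjective (algebraMap B' B) := fun b => by
    obtain ⟨a', ha'⟩ := hs (algebraMap B A b)
    obtain ⟨b', hb', -⟩ := hfib b a' ha'.symm
    exact ⟨b', hb'.1⟩
  have hlift : ∀ z : A', algebraMap A' A z = 0 →
      ∃ k : B', algebraMap B' B k = 0 ∧ algebraMap B' A' k = z := fun z hz =>
    ((hfib 0 z (by rw [map_zero, hz])).exists)
  have hcomm : ∀ x : B', algebraMap B A (algebraMap B' B x) = algebraMap A' A (algebraMap B' A' x) :=
    fun x => by rw [← IsScalarTower.algebraMap_apply, ← IsScalarTower.algebraMap_apply]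
  let i : PrimeSpectrum B → PrimeSpectrum B' := PrimeSpectrum.comap (algebraMap B' B)
  let j : PrimeSpectrum A' → PrimeSpectrum B' := PrimeSpectrum.comap (algebraMap B' A')
  let I' : Ideal A' := RingHom.ker (algebraMap A' A)
  have hi : ∀ q x, x ∈ (i q).asIdeal ↔ algebraMap B' B x ∈ q.asIdeal := fun q x => Iff.rfl
  have hj : ∀ p x, x ∈ (j p).asIdeal ↔ algebraMap B' A' x ∈ p.asIdeal := fun p x => Iff.rfl
  have hiinj : Function.Injective i := PrimeSpectrum.comap_injective_of_surjective _ hB
  -- points of `Spec A'` over `Spec A`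
  have hovA : ∀ p : PrimeSpectrum A', I' ≤ p.asIdeal → ∃ r : PrimeSpectrum A,
      PrimeSpectrum.comap (algebraMap A' A) r = p := fun p hp => by
    have h1 : p ∈ PrimeSpectrum.zeroLocus (I' : Set A') := (PrimeSpectrum.mem_zeroLocus _ _).mpr hp
    rwa [← range_comap_of_surjective _ _ hs] at h1
  have hij : ∀ r : PrimeSpectrum A, i (PrimeSpectrum.comap (algebraMap B A) r) =
      j (PrimeSpectrum.comap (algebraMap A' A) r) := fun r => PrimeSpectrum.ext <| Ideal.ext fun x => by
    show algebraMap B A (algebraMap B' B x) ∈ r.asIdeal ↔ algebraMap A' A (algebraMap B' A' x) ∈ r.asIdeal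
    rw [hcomm]
  have hIle : ∀ q p, i q = j p → I' ≤ p.asIdeal := fun q p h z hz => by
    obtain ⟨k, hk0, rfl⟩ := hlift z hz
    rw [← hj, ← h, hi, hk0]
    exact zero_mem _
  have hjinj : ∀ p p₂, ¬ I' ≤ p₂.asIdeal → j p = j p₂ → p.asIdeal ≤ p₂.asIdeal := by
    intro p p₂ hp₂ h x hx
    obtain ⟨f, hf, hfp⟩ := SetLike.not_le_iff_exists.mp hp₂
    obtain ⟨k, -, hk⟩ := hlift (f * x) (Ideal.mul_mem_right _ _ hf)
    have : algebraMap B' A' k ∈ p₂.asIdeal := by
      rw [← hj, ← h, hj, hk]
      exact Ideal.mul_mem_left _ _ hx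
    rw [hk] at this
    exact (p₂.isPrime.mem_or_mem this).resolve_left hfp
  have hsurj : ∀ P : PrimeSpectrum B', (∃ q, i q = P) ∨ ∃ p, j p = P := by
    intro P
    by_cases hP : RingHom.ker (algebraMap B' B) ≤ P.asIdeal
    · left
      have h1 : P ∈ PrimeSpectrum.zeroLocus (RingHom.ker (algebraMap B' B) : Set B') :=
        (PrimeSpectrum.mem_zeroLocus _ _).mpr hP
      rwa [← range_comap_of_surjective _ _ hB] at h1
    · right
      obtain ⟨f, hf, hfP⟩ := SetLike.not_le_iff_exists.mp hP
      have hfI : algebraMap A' A (algebraMap B' A' f) = 0 := by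
        rw [← hcomm, show algebraMap B' B f = 0 from hf, map_zero]
      let p : Ideal A' :=
        { carrier := {x | ∀ k, algebraMap B' B k = 0 → algebraMap B' A' k = algebraMap B' A' f * x → k ∈ P.asIdeal}
          add_mem' := fun {x y} hx hy k hk0 hk => by
            obtain ⟨kx, hkx0, hkx⟩ := hlift (algebraMap B' A' f * x) (by rw [map_mul, hfI, zero_mul])
            obtain ⟨ky, hky0, hky⟩ := hlift (algebraMap B' A' f * y) (by rw [map_mul, hfI, zero_mul])
            have : k = kx + ky := (hfib 0 (algebraMap B' A' f * (x + y))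
              (by rw [map_zero, map_mul, hfI, zero_mul])).unique ⟨hk0, hk⟩
              ⟨by rw [map_add, hkx0, hky0, add_zero], by rw [map_add, hkx, hky, mul_add]⟩
            rw [this]
            exact add_mem (hx kx hkx0 hkx) (hy ky hky0 hky)
          zero_mem' := fun k hk0 hk => by
            rw [mul_zero] at hk
            have : k = 0 := (hfib 0 0 (by simp)).unique ⟨hk0, hk⟩ ⟨map_zero _, map_zero _⟩
            rw [this]
            exact zero_mem _
          smul_mem' := fun c x hx k hk0 hk => by
            obtain ⟨kc, hkc0, hkc⟩ := hlift (algebraMap B' A' f * c) (by rw [map_mul, hfI, zero_mul])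
            obtain ⟨kx, hkx0, hkx⟩ := hlift (algebraMap B' A' f * x) (by rw [map_mul, hfI, zero_mul])
            have hfk : f * k = kc * kx := (hfib 0 (algebraMap B' A' (f * k))
              (by rw [map_zero, ← hcomm, map_mul, hk0, mul_zero, map_zero])).unique
              ⟨by rw [map_mul, hk0, mul_zero], rfl⟩
              ⟨by rw [map_mul, hkc0, zero_mul], by rw [map_mul, map_mul, hkc, hkx, hk, smul_eq_mul]; ring⟩
            exact (P.isPrime.mem_or_mem (show f * k ∈ P.asIdeal from
              hfk ▸ Ideal.mul_mem_left _ _ (hx kx hkx0 hkx))).resolve_left hfP }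
      have hmemp : ∀ (x : A') (k : B'), algebraMap B' B k = 0 →
          algebraMap B' A' k = algebraMap B' A' f * x → k ∈ P.asIdeal → x ∈ p := by
        intro x k hk0 hk hkP k' hk0' hk'
        have : k' = k := (hfib 0 (algebraMap B' A' f * x)
          (by rw [map_zero, map_mul, hfI, zero_mul])).unique ⟨hk0', hk'⟩ ⟨hk0, hk⟩
        rw [this]
        exact hkP
      have hp : p.IsPrime := by
        refine ⟨fun h => hfP (((Ideal.eq_top_iff_one p).mp h) f hf (by rw [mul_one])), fun {x y} hxy => ?_⟩
        obtain ⟨kx, hkx0, hkx⟩ := hlift (algebraMap B' A' f * x) (by rw [map_mul, hfI, zero_mul])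
        obtain ⟨ky, hky0, hky⟩ := hlift (algebraMap B' A' f * y) (by rw [map_mul, hfI, zero_mul])
        obtain ⟨kxy, h0, h1⟩ := hlift (algebraMap B' A' f * (x * y)) (by rw [map_mul, hfI, zero_mul])
        have : kx * ky = f * kxy := (hfib 0 (algebraMap B' A' (kx * ky))
          (by rw [map_zero, ← hcomm, map_mul, hkx0, zero_mul, map_zero])).unique
          ⟨by rw [map_mul, hkx0, zero_mul], rfl⟩
          ⟨by rw [map_mul, h0, mul_zero], by rw [map_mul, map_mul, h1, hkx, hky]; ring⟩
        have hk : kx * ky ∈ P.asIdeal := this ▸ Ideal.mul_mem_left _ _ (hxy kxy h0 h1)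
        rcases P.isPrime.mem_or_mem hk with h | h
        · exact Or.inl (hmemp x kx hkx0 hkx h)
        · exact Or.inr (hmemp y ky hky0 hky h)
      refine ⟨⟨p, hp⟩, PrimeSpectrum.ext (Ideal.ext fun x => ?_)⟩
      rw [hj]
      constructor
      · intro hx
        exact (P.isPrime.mem_or_mem (hx (f * x) (by rw [map_mul, show algebraMap B' B f = 0 from hf,
          zero_mul]) (map_mul _ _ _))).resolve_left hfP
      · intro hx
        exact hmemp _ (f * x) (by rw [map_mul, show algebraMap B' B f = 0 from hf, zero_mul])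
          (map_mul _ _ _) (Ideal.mul_mem_left _ _ hx)
  -- closedness is detected on `Spec B` and `Spec A'`
  have hclosed : ∀ T : Set (PrimeSpectrum B'), IsClosed (i ⁻¹' T) → IsClosed (j ⁻¹' T) → IsClosed T := by
    intro T hTi hTj
    obtain ⟨b, hb⟩ := (PrimeSpectrum.isClosed_iff_zeroLocus_ideal _).mp hTi
    obtain ⟨a, ha⟩ := (PrimeSpectrum.isClosed_iff_zeroLocus_ideal _).mp hTj
    suffices hT : T = PrimeSpectrum.zeroLocus
        ((b.comap (algebraMap B' B) ⊓ a.comap (algebraMap B' A') : Ideal B') : Set B') by
      rw [hT]; exact PrimeSpectrum.isClosed_zeroLocus _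
    have hbq : ∀ q, i q ∈ T ↔ b ≤ q.asIdeal := fun q => by
      rw [← Set.mem_preimage, hb, PrimeSpectrum.mem_zeroLocus]; rfl
    have hap : ∀ p, j p ∈ T ↔ a ≤ p.asIdeal := fun p => by
      rw [← Set.mem_preimage, ha, PrimeSpectrum.mem_zeroLocus]; rfl
    ext P
    rw [PrimeSpectrum.mem_zeroLocus, SetLike.coe_subset_coe]
    constructor
    · intro hP
      rcases hsurj P with ⟨q, rfl⟩ | ⟨p, rfl⟩
      · exact fun x hx => (hbq q).mp hP (Submodule.mem_inf.mp hx).1
      · exact fun x hx => (hap p).mp hP (Submodule.mem_inf.mp hx).2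
    · intro hle
      rcases (P.isPrime.inf_le).mp hle with hle | hle
      · rcases hsurj P with ⟨q, rfl⟩ | ⟨p, rfl⟩
        · rw [hbq]
          intro x hx
          obtain ⟨x', rfl⟩ := hB x
          exact hle hx
        · by_cases hp : I' ≤ p.asIdeal
          · obtain ⟨r, rfl⟩ := hovA p hp
            rw [← hij, hbq]
            intro x hx
            obtain ⟨x', rfl⟩ := hB x
            have : x' ∈ (j (PrimeSpectrum.comap (algebraMap A' A) r)).asIdeal := hle hx
            rwa [← hij] at this
          · exfalso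
            obtain ⟨z, hz, hzp⟩ := SetLike.not_le_iff_exists.mp hp
            obtain ⟨k, hk0, rfl⟩ := hlift z hz
            exact hzp (hle (show algebraMap B' B k ∈ b by rw [hk0]; exact zero_mem _))
      · -- `Q` contains the contraction of `a`
        have main : ∀ q, a.comap (algebraMap B' A') ≤ (i q).asIdeal → b ≤ q.asIdeal := by
          intro q hle x hx
          obtain ⟨a', ha'⟩ := hs (algebraMap B A x)
          have hrad : a' ∈ (a ⊔ I').radical := by
            rw [Ideal.radical_eq_sInf]
            refine Ideal.mem_sInf.mpr fun p hp => ?_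
            obtain ⟨hple, hpp⟩ := hp
            obtain ⟨r, hr⟩ := hovA ⟨p, hpp⟩ (le_sup_right.trans hple)
            have h1 : j ⟨p, hpp⟩ ∈ T := (hap _).mpr (le_sup_left.trans hple)
            rw [← hr, ← hij, hbq] at h1
            have h2 : algebraMap B A x ∈ r.asIdeal := h1 hx
            rw [← ha'] at h2
            have := congrArg PrimeSpectrum.asIdeal hr
            exact (show Ideal.comap (algebraMap A' A) r.asIdeal = p from this) ▸ h2
          obtain ⟨N, hN⟩ := hrad
          obtain ⟨y, hy, z, hz, hyz⟩ := Submodule.mem_sup.mp hN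
          have hxy : algebraMap B A (x ^ N) = algebraMap A' A y := by
            rw [map_pow, ← ha', ← map_pow, ← hyz, map_add, show algebraMap A' A z = 0 from hz, add_zero]
          obtain ⟨b', ⟨hb1, hb2⟩, -⟩ := hfib (x ^ N) y hxy
          have h1 : b' ∈ a.comap (algebraMap B' A') := by rw [Ideal.mem_comap, hb2]; exact hy
          have h2 := hle h1
          rw [hi, hb1] at h2
          exact q.isPrime.mem_of_pow_mem N h2
        rcases hsurj P with ⟨q, rfl⟩ | ⟨p, rfl⟩
        · exact (hbq q).mpr (main q hle)
        · by_cases hp : I' ≤ p.asIdeal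
          · obtain ⟨r, rfl⟩ := hovA p hp
            rw [← hij] at hle ⊢
            exact (hbq _).mpr (main _ hle)
          · rw [hap]
            intro x hx
            obtain ⟨f, hf, hfp⟩ := SetLike.not_le_iff_exists.mp hp
            obtain ⟨k, -, hk⟩ := hlift (f * x) (Ideal.mul_mem_right _ _ hf)
            have : algebraMap B' A' k ∈ p.asIdeal := hle (show algebraMap B' A' k ∈ a by
              rw [hk]; exact Ideal.mul_mem_left _ _ hx)
            rw [hk] at this
            exact (p.isPrime.mem_or_mem this).resolve_left hfp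
  refine ⟨⟨?_⟩, ⟨CategoryTheory.Limits.PushoutCocone.IsColimit.mk _ (fun c => TopCat.ofHom ?_) ?_ ?_ ?_⟩⟩
  · ext r : 1
    exact hij r
  · refine ⟨fun P => if h : ∃ q, i q = P then c.inl h.choose else c.inr ((hsurj P).resolve_left h).choose, ?_⟩
    have hci : ∀ q, (if h : ∃ q', i q' = i q then c.inl h.choose
        else c.inr ((hsurj (i q)).resolve_left h).choose) = c.inl q := by
      intro q
      rw [dif_pos ⟨q, rfl⟩]
      exact congrArg c.inl (hiinj (⟨q, rfl⟩ : ∃ q', i q' = i q).choose_spec)
    have hcj : ∀ p, (if h : ∃ q', i q' = j p then c.inl h.choose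
        else c.inr ((hsurj (j p)).resolve_left h).choose) = c.inr p := by
      intro p
      by_cases h : ∃ q', i q' = j p
      · rw [dif_pos h]
        obtain ⟨r, hr⟩ := hovA p (hIle _ p h.choose_spec)
        have h1 : h.choose = PrimeSpectrum.comap (algebraMap B A) r :=
          hiinj (by rw [h.choose_spec, hij, hr])
        rw [h1, ← hr]
        exact congrArg (fun g => g r) c.condition
      · rw [dif_neg h]
        have hp : ¬ I' ≤ p.asIdeal := fun hp => by
          obtain ⟨r, rfl⟩ := hovA p hp
          exact h ⟨_, hij r⟩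
        have hspec := ((hsurj (j p)).resolve_left h).choose_spec
        have hp' : ¬ I' ≤ ((hsurj (j p)).resolve_left h).choose.asIdeal := fun h' => by
          obtain ⟨r, hr⟩ := hovA _ h'
          exact h ⟨PrimeSpectrum.comap (algebraMap B A) r, by rw [hij, hr, hspec]⟩
        exact congrArg c.inr (PrimeSpectrum.ext
          (le_antisymm (hjinj _ _ hp hspec) (hjinj _ _ hp' hspec.symm)))
    refine continuous_iff_isClosed.mpr fun C hC => hclosed _ ?_ ?_
    · convert hC.preimage (ContinuousMap.continuous c.inl.hom) using 1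
      ext q
      exact iff_of_eq (congrArg (· ∈ C) (hci q))
    · convert hC.preimage (ContinuousMap.continuous c.inr.hom) using 1
      ext p
      exact iff_of_eq (congrArg (· ∈ C) (hcj p))
  · intro c
    ext q : 1
    show (if h : ∃ q', i q' = i q then c.inl h.choose
        else c.inr ((hsurj (i q)).resolve_left h).choose) = c.inl q
    rw [dif_pos ⟨q, rfl⟩]
    exact congrArg c.inl (hiinj (⟨q, rfl⟩ : ∃ q', i q' = i q).choose_spec)
  · intro c
    ext p : 1
    show (if h : ∃ q', i q' = j p then c.inl h.choose
        else c.inr ((hsurj (j p)).resolve_left h).choose) = c.inr p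
    by_cases h : ∃ q', i q' = j p
    · rw [dif_pos h]
      obtain ⟨r, hr⟩ := hovA p (hIle _ p h.choose_spec)
      have h1 : h.choose = PrimeSpectrum.comap (algebraMap B A) r :=
        hiinj (by rw [h.choose_spec, hij, hr])
      rw [h1, ← hr]
      exact congrArg (fun g => g r) c.condition
    · rw [dif_neg h]
      have hp : ¬ I' ≤ p.asIdeal := fun hp => by
        obtain ⟨r, rfl⟩ := hovA p hp
        exact h ⟨_, hij r⟩
      have hspec := ((hsurj (j p)).resolve_left h).choose_spec
      have hp' : ¬ I' ≤ ((hsurj (j p)).resolve_left h).choose.asIdeal := fun h' => by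
        obtain ⟨r, hr⟩ := hovA _ h'
        exact h ⟨PrimeSpectrum.comap (algebraMap B A) r, by rw [hij, hr, hspec]⟩
      exact congrArg c.inr (PrimeSpectrum.ext
        (le_antisymm (hjinj _ _ hp hspec) (hjinj _ _ hp' hspec.symm)))
  · intro c m hm1 hm2
    ext P : 1
    show m P = if h : ∃ q, i q = P then c.inl h.choose else c.inr ((hsurj P).resolve_left h).choose
    by_cases h : ∃ q, i q = P
    · rw [dif_pos h]
      conv_lhs => rw [← h.choose_spec]
      exact congrArg (fun g => g h.choose) hm1
    · rw [dif_neg h]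
      conv_lhs => rw [← ((hsurj P).resolve_left h).choose_spec]
      exact congrArg (fun g => g ((hsurj P).resolve_left h).choose) hm2

end Groth.Agent.S6917
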