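import Groth.Statements.S6920
import Mathlib.Algebra.Category.Ring.Epi
-- import your own Groth.Agent.* helpers here

set_option autoImplicit false
set_option backward.isDefEq.respectTransparency false
universe u
open CategoryTheory CategoryTheory.Limits MonoidalCategory
open DRing

namespace Groth.Agent.S6920

open scoped TensorProduct in
theorem linear_of_epi {R S : Type u} [CommRing R] [CommRing S] (φ : R →+* S)
    [h : @Algebra.IsEpi R S _ _ φ.toAlgebra] {M N : ModuleCat.{u} S}
    (f : (ModuleCat.restrictScalars φ).obj M ⟶ (ModuleCat.restrictScalars φ).obj N) (s : S) (x : M) :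
    (f.hom (s • x : M) : N) = s • (f.hom x : N) := by
  letI := φ.toAlgebra
  haveI : Algebra.IsEpi R S := h
  letI : Module R M := Module.compHom M φ
  letI : Module R N := Module.compHom N φ
  haveI : IsScalarTower R S M := IsScalarTower.of_algebraMap_smul fun _ _ => rfl
  haveI : IsScalarTower R S N := IsScalarTower.of_algebraMap_smul fun _ _ => rfl
  let f' : M →ₗ[R] N :=
    { toFun := fun m => f.hom m
      map_add' := f.hom.map_add
      map_smul' := fun r m => f.hom.map_smul r m }
  let g : S ⊗[R] M →ₗ[R] N := TensorProduct.lift
    (LinearMap.mk₂ R (fun a m => a • f' m) (fun _ _ _ => add_smul _ _ _) (fun _ _ _ => smul_assoc _ _ _)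
      (fun _ _ _ => by rw [map_add, smul_add]) (fun _ _ _ => by rw [map_smul, smul_comm]))
  have e : (1 : S) ⊗ₜ[R] (s • x) = s ⊗ₜ[R] x := Algebra.injective_lift_lsmul R S M (by simp)
  have := congrArg g e
  simp only [g, TensorProduct.lift.tmul, LinearMap.mk₂_apply, one_smul] at this
  exact this

/-- For an epimorphism of rings `φ : R → S` and a complex `I•` of `S`-modules, if the underlying complex
of `R`-modules of `I•` is K-injective, then `I•` itself is K-injective over `S`. -/
theorem result (R S : Type u) [CommRing R] [CommRing S] (φ : R →+* S)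
    (hφ : Epi (CommRingCat.ofHom φ)) (I : DRing.Cx S)
    [CochainComplex.IsKInjective ((DRing.restrictCx φ).obj I)] : CochainComplex.IsKInjective I := by
  letI := φ.toAlgebra
  haveI : Algebra.IsEpi R S := CommRingCat.epi_iff_epi.mp hφ
  refine ⟨fun {K} f hK => ?_⟩
  have hK' : ((DRing.restrictCx φ).obj K).Acyclic := fun n => (hK n).map (ModuleCat.restrictScalars φ)
  obtain ⟨h⟩ := CochainComplex.IsKInjective.nonempty_homotopy_zero ((DRing.restrictCx φ).map f) hK'
  let g : ∀ i j, K.X i ⟶ I.X j := fun i j => ModuleCat.ofHom
    { toFun := fun x => (h.hom i j).hom x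
      map_add' := (h.hom i j).hom.map_add
      map_smul' := fun s x => Groth.Agent.S6920.linear_of_epi φ (h.hom i j) s x }
  exact ⟨{ hom := g
           zero := fun i j hij => ModuleCat.hom_ext (LinearMap.ext fun x =>
             LinearMap.congr_fun (congrArg ModuleCat.Hom.hom (h.zero i j hij)) x)
           comm := fun n => ModuleCat.hom_ext (LinearMap.ext fun x =>
             LinearMap.congr_fun (congrArg ModuleCat.Hom.hom (h.comm n)) x) }⟩

end Groth.Agent.S6920
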