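import Groth.Statements.S6921
import Groth.Agent.Lib.MilnorSqH7.Glue

set_option autoImplicit false
universe u
open TensorProduct
open EtAlg

namespace Groth.Agent.S6921

/-- Let `B' = B ×_A A'` be a fibre square of rings with `A' → A` surjective, `B' → D'` a ring map, and
`D = D' ⊗_{B'} B`, `C' = D' ⊗_{B'} A'`, `C = D' ⊗_{B'} A`. Let `N` be a finite `D`-module, `M'` a
finite `C'`-module and `φ : N ⊗_D C ≅ M' ⊗_{C'} C` a `C`-linear isomorphism. Then the glued module
`N ×_φ M'` is a finite `D'`-module. -/
theorem result (B' B A' A : Type u) [CommRing B'] [CommRing B] [CommRing A'] [CommRing A]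
    [Algebra B' B] [Algebra B' A'] [Algebra B A] [Algebra A' A] [Algebra B' A] [IsScalarTower B' B A] [IsScalarTower B' A' A]
    (hsq : EtMil.IsFibreSquare B' B A' A)
    (D' D C' C : Type u) [CommRing D'] [CommRing D] [CommRing C'] [CommRing C]
    [Algebra B' D'] [Algebra B D] [Algebra A' C'] [Algebra A C]
    [Algebra D' D] [Algebra B' D] [IsScalarTower B' B D] [IsScalarTower B' D' D] [Algebra.IsPushout B' B D' D]
    [Algebra D' C'] [Algebra B' C'] [IsScalarTower B' A' C'] [IsScalarTower B' D' C'] [Algebra.IsPushout B' A' D' C']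
    [Algebra D' C] [Algebra B' C] [IsScalarTower B' A C] [IsScalarTower B' D' C] [Algebra.IsPushout B' A D' C]
    [Algebra D C] [IsScalarTower D' D C] [Algebra B C] [IsScalarTower B A C] [IsScalarTower B D C]
    [Algebra C' C] [IsScalarTower D' C' C] [Algebra A' C] [IsScalarTower A' A C] [IsScalarTower A' C' C]
    {N M' : Type u} [AddCommGroup N] [Module D N] [Module D' N] [IsScalarTower D' D N]
    [AddCommGroup M'] [Module C' M'] [Module D' M'] [IsScalarTower D' C' M'] (φ : C ⊗[D] N ≃ₗ[C] C ⊗[C'] M')
    [Module.Finite D N] [Module.Finite C' M'] : Module.Finite D' ↥(EtMil.glue D' φ) := by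
  have hw := Groth.Agent.MilnorH7.weak_of_isFibreSquare hsq
  have hgen : Function.Surjective (algebraMap D' D) := by
    intro d
    refine (Algebra.IsPushout.out (R := B') (S := B) (R' := D') (S' := D)).inductionOn d _ ?_ ?_ ?_ ?_
    · exact ⟨0, map_zero _⟩
    · intro x; exact ⟨x, rfl⟩
    · intro b c ⟨x, hx⟩
      obtain ⟨r, rfl⟩ := hw.surjFst b
      exact ⟨r • x, by rw [IsScalarTower.algebraMap_smul B, ← hx, Algebra.smul_def, Algebra.smul_def, map_mul,
        ← IsScalarTower.algebraMap_apply]⟩
    · intro c₁ c₂ ⟨x, hx⟩ ⟨y, hy⟩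
      exact ⟨x + y, by rw [map_add, hx, hy]⟩
  let e' := (Algebra.IsPushout.out (R := B') (S := A') (R' := D') (S' := C')).equiv
  let e := (Algebra.IsPushout.out (R := B') (S := A) (R' := D') (S' := C)).equiv
  have he : ∀ x, e ((IsScalarTower.toAlgHom B' A' A).toLinearMap.rTensor D' x) = algebraMap C' C (e' x) := by
    intro x
    induction x using TensorProduct.induction_on with
    | zero => simp
    | tmul a d =>
      simp only [e, e', LinearMap.rTensor_tmul, IsBaseChange.equiv_tmul]
      simp [Algebra.smul_def, ← IsScalarTower.algebraMap_apply]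
    | add a b ha hb => simp only [map_add, ha, hb]
  have hC : Function.Surjective (algebraMap C' C) := by
    intro c
    obtain ⟨y, rfl⟩ := e.surjective c
    obtain ⟨x, rfl⟩ := LinearMap.rTensor_surjective D'
      (g := (IsScalarTower.toAlgHom B' A' A).toLinearMap) hsq.1 y
    exact ⟨e' x, (he x).symm⟩
  have hw' : Groth.Agent.MilnorH7.Weak D' D C' C := by
    refine ⟨hgen, hC, fun c hc => ?_⟩
    obtain ⟨x, rfl⟩ := e'.surjective c
    rw [← he, LinearEquiv.map_eq_zero_iff] at hc
    obtain ⟨l, hl, rfl⟩ := Groth.Agent.MilnorH7.exists_one_tmul_of_rTensor_eq_zero D' hw hc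
    refine ⟨l, ?_, by simp [e', IsBaseChange.equiv_tmul]⟩
    clear hc
    induction hl using Submodule.smul_induction_on' with
    | smul j hj d _ =>
      rw [Algebra.smul_def, map_mul, ← IsScalarTower.algebraMap_apply, IsScalarTower.algebraMap_apply B' B D,
        RingHom.mem_ker.1 hj, map_zero, zero_mul]
    | add a _ b _ ha hb => rw [map_add, ha, hb, add_zero]
  exact Groth.Agent.MilnorH7.glue_finite φ hw'

end Groth.Agent.S6921
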