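import Groth.Statements.S6922
import Groth.Agent.Lib.MilnorFP32.Main
-- import your own Groth.Agent.* helpers here

set_option autoImplicit false
universe u
open TensorProduct
open EtAlg

namespace Groth.Agent.S6922

/-- In the relative situation (`B' = B ×_A A'` with `A' → A` surjective, `B' → D'`, `D = D' ⊗_{B'} B`,
`C' = D' ⊗_{B'} A'`, `C = D' ⊗_{B'} A`), let `N` be a flat `B`-module that is finitely presented as
a `D`-module and `M'` a flat `A'`-module that is finitely presented as a `C'`-module, with a
`C`-isomorphism `φ : N ⊗_D C ≅ M' ⊗_{C'} C`, and suppose `B' → D'` is the composite of a flat ring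
map `B' → D''` and a ring map `D'' → D'` of finite presentation. Then `N ×_φ M'` is finitely
presented over `D'`. -/
theorem result (B' B A' A : Type u) [CommRing B'] [CommRing B] [CommRing A'] [CommRing A]
    [Algebra B' B] [Algebra B' A'] [Algebra B A] [Algebra A' A] [Algebra B' A] [IsScalarTower B' B A] [IsScalarTower B' A' A]
    (hsq : EtMil.IsFibreSquare B' B A' A)
    (D' D C' C : Type u) [CommRing D'] [CommRing D] [CommRing C'] [CommRing C]
    [Algebra B' D'] [Algebra B D] [Algebra A' C'] [Algebra A C]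
    [Algebra D' D] [Algebra B' D] [IsScalarTower B' B D] [IsScalarTower B' D' D] [Algebra.IsPushout B' B D' D]
    [Algebra D' C'] [Algebra B' C'] [IsScalarTower B' A' C'] [IsScalarTower B' D' C'] [Algebra.IsPushout B' A' D' C']
    [Algebra D' C] [Algebra B' C] [IsScalarTower B' A C] [IsScalarTower B' D' C] [Algebra.IsPushout B' A D' C]
    [Algebra D C] [IsScalarTower D' D C] [Algebra B C] [IsScalarTower B A C] [IsScalarTower B D C]
    [Algebra C' C] [IsScalarTower D' C' C] [Algebra A' C] [IsScalarTower A' A C] [IsScalarTower A' C' C]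
    {N M' : Type u} [AddCommGroup N] [Module D N] [Module D' N] [IsScalarTower D' D N]
    [AddCommGroup M'] [Module C' M'] [Module D' M'] [IsScalarTower D' C' M'] (φ : C ⊗[D] N ≃ₗ[C] C ⊗[C'] M')
    [Module B N] [IsScalarTower B D N] [Module A' M'] [IsScalarTower A' C' M']
    [Module.FinitePresentation D N] [Module.Flat B N] [Module.FinitePresentation C' M'] [Module.Flat A' M']
    (D'' : Type u) [CommRing D''] [Algebra B' D''] [Algebra D'' D'] [IsScalarTower B' D'' D'] [Module.Flat B' D'']
    [Algebra.FinitePresentation D'' D'] :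
    Module.FinitePresentation D' ↥(EtMil.glue D' φ) := by
  have hw := Groth.Agent.MilnorH7.weak_of_isFibreSquare hsq
  have hgen : Function.Surjective (algebraMap D' D) := by
    intro d
    refine (Algebra.IsPushout.out (R := B') (S := B) (R' := D') (S' := D)).inductionOn d _ ?_ ?_ ?_ ?_
    · exact ⟨0, map_zero _⟩
    · intro x; exact ⟨x, rfl⟩
    · intro b c ⟨x, hx⟩
      obtain ⟨r, rfl⟩ := hw.surjFst b
      exact ⟨r • x, by rw [IsScalarTower.algebraMap_smul B, ← hx, Algebra.smul_def, Algebra.smul_def, map_mul,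
        ← IsScalarTower.algebraMap_apply]⟩
    · intro c₁ c₂ ⟨x, hx⟩ ⟨y, hy⟩
      exact ⟨x + y, by rw [map_add, hx, hy]⟩
  let e' := (Algebra.IsPushout.out (R := B') (S := A') (R' := D') (S' := C')).equiv
  let e := (Algebra.IsPushout.out (R := B') (S := A) (R' := D') (S' := C)).equiv
  have he : ∀ x, e ((IsScalarTower.toAlgHom B' A' A).toLinearMap.rTensor D' x) = algebraMap C' C (e' x) := by
    intro x
    induction x using TensorProduct.induction_on with
    | zero => simp
    | tmul a d =>
      simp only [e, e', LinearMap.rTensor_tmul, IsBaseChange.equiv_tmul]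
      simp [Algebra.smul_def, ← IsScalarTower.algebraMap_apply]
    | add a b ha hb => simp only [map_add, ha, hb]
  have hC : Function.Surjective (algebraMap C' C) := by
    intro c
    obtain ⟨y, rfl⟩ := e.surjective c
    obtain ⟨x, rfl⟩ := LinearMap.rTensor_surjective D'
      (g := (IsScalarTower.toAlgHom B' A' A).toLinearMap) hsq.1 y
    exact ⟨e' x, (he x).symm⟩
  have hw' : Groth.Agent.MilnorH7.Weak D' D C' C := by
    refine ⟨hgen, hC, fun c hc => ?_⟩
    obtain ⟨x, rfl⟩ := e'.surjective c
    rw [← he, LinearEquiv.map_eq_zero_iff] at hc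
    obtain ⟨l, hl, rfl⟩ := Groth.Agent.MilnorH7.exists_one_tmul_of_rTensor_eq_zero D' hw hc
    refine ⟨l, ?_, by simp [e', IsBaseChange.equiv_tmul]⟩
    clear hc
    induction hl using Submodule.smul_induction_on' with
    | smul j hj d _ =>
      rw [Algebra.smul_def, map_mul, ← IsScalarTower.algebraMap_apply, IsScalarTower.algebraMap_apply B' B D,
        RingHom.mem_ker.1 hj, map_zero, zero_mul]
    | add a _ b _ ha hb => rw [map_add, ha, hb, add_zero]
  letI : Module B' ↥(EtMil.glue D' φ) := Module.compHom _ (algebraMap B' D')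
  haveI : IsScalarTower B' D' ↥(EtMil.glue D' φ) := IsScalarTower.of_algebraMap_smul fun _ _ => rfl
  haveI : Module.Finite D' ↥(EtMil.glue D' φ) := Groth.Agent.MilnorH7.glue_finite φ hw'
  let e₁ := LinearEquiv.ofBijective _ (Groth.Agent.MilnorH7.glue_baseChange_fst_bijective φ hw')
  let e₂ := LinearEquiv.ofBijective _ (Groth.Agent.MilnorH7.glue_baseChange_snd_bijective_of_weak φ hw')
  haveI : Module.FinitePresentation D (D ⊗[D'] ↥(EtMil.glue D' φ)) := Module.FinitePresentation.of_equiv e₁.symm
  haveI : Module.FinitePresentation C' (C' ⊗[D'] ↥(EtMil.glue D' φ)) := Module.FinitePresentation.of_equiv e₂.symm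
  haveI : Module.Flat B (B ⊗[B'] ↥(EtMil.glue D' φ)) := Module.Flat.of_linearEquiv
    ((Algebra.IsPushout.cancelBaseChange B' B D' D ↥(EtMil.glue D' φ)).symm ≪≫ₗ e₁.restrictScalars B)
  haveI : Module.Flat A' (A' ⊗[B'] ↥(EtMil.glue D' φ)) := Module.Flat.of_linearEquiv
    ((Algebra.IsPushout.cancelBaseChange B' A' D' C' ↥(EtMil.glue D' φ)).symm ≪≫ₗ e₂.restrictScalars A')
  exact Groth.Agent.MilnorH7.finitePresentation_of_pair_pushout hsq D' D C' ↥(EtMil.glue D' φ)

end Groth.Agent.S6922
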