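import Groth.Statements.S6924
import Groth.Agent.Lib.Fitting.Local
-- import your own Groth.Agent.* helpers here

set_option autoImplicit false
universe u
open TensorProduct
open Fitt

namespace Groth.Agent.S6924

/-- Let `M` be a finite `R`-module and `f ∈ R` such that every prime of `D(f)` has a basic open
neighbourhood `D(g) ⊆ D(f)` with `M_g` free of rank `r` (in other words `M_f` is, locally on `D(f)`,
free of rank `r`). Then there is a finitely generated ideal `I ⊆ R` with `V(I) = V(f)` such that for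
every `a ∈ I` and (a copy `R₁` of) the affine blow-up algebra `R[I/a]`, the strict transform `(M ⊗_R
R₁)/(a-power torsion)` is finite locally free of rank `r` over `R₁`. -/
theorem result {R : Type u} [CommRing R] (M : Type u) [AddCommGroup M]
    [Module R M] [Module.Finite R M] (f : R) (r : ℕ)
    (hf : ∀ (p : Ideal R) [p.IsPrime], f ∉ p → ∃ g : R, g ∉ p ∧ g ∈ (Ideal.span {f}).radical ∧
      Module.Free (Localization.Away g) (LocalizedModule (Submonoid.powers g) M) ∧
        Module.finrank (Localization.Away g) (LocalizedModule (Submonoid.powers g) M) = r) :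
    ∃ I : Ideal R, I.FG ∧ I.radical = (Ideal.span {f}).radical ∧ ∀ a ∈ I, ∀ (R₁ : Type u) [CommRing R₁] [Algebra R R₁] (e : R₁ ≃ₐ[R] ↥(BlowUp.affineAlgebra R I a)),
      ∀ (p' : Ideal R₁) [p'.IsPrime], ∃ g : R₁, g ∉ p' ∧
        Module.Free (Localization.Away g) (LocalizedModule (Submonoid.powers g) ((R₁ ⊗[R] M) ⧸ FlatCA.powTorsion R₁ (algebraMap R R₁ a) (R₁ ⊗[R] M))) ∧
        Module.finrank (Localization.Away g) (LocalizedModule (Submonoid.powers g) ((R₁ ⊗[R] M) ⧸ FlatCA.powTorsion R₁ (algebraMap R R₁ a) (R₁ ⊗[R] M))) = r := by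
  classical
  -- Fitting ideals of `M` over `D(f)`
  have key : ∀ (p : Ideal R) [p.IsPrime], f ∉ p → ∃ g : R, g ∉ p ∧
      (∀ k, k < r → (Fitt.ideal R M k).map (algebraMap R (Localization.Away g)) = ⊥) ∧
      (Fitt.ideal R M r).map (algebraMap R (Localization.Away g)) = ⊤ := by
    intro p hp hfp
    obtain ⟨g, hg, -, hfree, hrk⟩ := hf p hfp
    have : Nontrivial (Localization.Away g) := by
      refine nontrivial_of_ne 1 0 fun e => hg ?_
      rw [← map_one (algebraMap R (Localization.Away g)), IsLocalization.map_eq_zero_iff (Submonoid.powers g)] at e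
      obtain ⟨⟨_, N, rfl⟩, hN⟩ := e
      exact hp.mem_of_pow_mem N (by simp only [mul_one] at hN; rw [hN]; exact p.zero_mem)
    let e := (IsLocalizedModule.isBaseChange (Submonoid.powers g) (Localization.Away g)
      (LocalizedModule.mkLinearMap (Submonoid.powers g) M)).equiv
    have := Module.Free.of_equiv e.symm
    have hrk' : Module.finrank (Localization.Away g) (TensorProduct R (Localization.Away g) M) = r :=
      e.finrank_eq.trans hrk
    refine ⟨g, hg, fun k hk => ?_, ?_⟩
    · rw [← Groth.Agent.FittingLib.ideal_baseChange]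
      refine Groth.Agent.FittingLib.ideal_eq_bot_of_basis (Module.Free.chooseBasis _ _) ?_
      rwa [← Module.finrank_eq_card_basis (Module.Free.chooseBasis _ _), hrk']
    · rw [← Groth.Agent.FittingLib.ideal_baseChange, Groth.Agent.FittingLib.ideal_eq_top_iff_finrank, hrk']
  have hrad : f ∈ (Fitt.ideal R M r).radical := by
    rw [Ideal.radical_eq_sInf, Ideal.mem_sInf]
    rintro p ⟨hle, hp⟩
    by_contra hfp
    obtain ⟨g, hg, -, htop⟩ := key p hfp
    refine (IsLocalization.map_algebraMap_ne_top_iff_disjoint (Submonoid.powers g) (Localization.Away g) p).2 ?_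
      (top_le_iff.1 (htop.ge.trans (Ideal.map_mono hle)))
    rw [Set.disjoint_left]
    rintro _ ⟨N, rfl⟩ hN
    exact hg (hp.mem_of_pow_mem N hN)
  have hkill : ∀ k, k < r → ∀ z ∈ Fitt.ideal R M k, ∃ N : ℕ, f ^ N * z = 0 := by
    intro k hk z hz
    have : f ∈ Ideal.radical (LinearMap.ker (LinearMap.toSpanSingleton R R z) : Ideal R) := by
      rw [Ideal.radical_eq_sInf, Ideal.mem_sInf]
      rintro p ⟨hle, hp⟩
      by_contra hfp
      obtain ⟨g, hg, hbot, -⟩ := key p hfp
      have h1 := (Ideal.map_eq_bot_iff_le_ker _).1 (hbot k hk) hz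
      rw [RingHom.mem_ker, IsLocalization.map_eq_zero_iff (Submonoid.powers g)] at h1
      obtain ⟨⟨_, N, rfl⟩, hN⟩ := h1
      exact hg (hp.mem_of_pow_mem N (hle (by simpa using hN)))
    obtain ⟨N, hN⟩ := this
    exact ⟨N, by simpa using hN⟩
  obtain ⟨N, hfN⟩ := hrad
  obtain ⟨n, x, hx⟩ := Groth.Agent.FittingLib.exists_generators (R := R) (M := M)
  rw [Groth.Agent.FittingLib.ideal_eq_J x hx, Groth.Agent.FittingLib.J] at hfN
  obtain ⟨D, hDs, hfN⟩ := Submodule.mem_span_finite_of_mem_span hfN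
  choose A SA hSA hA hdet using fun d : D => hDs d.2
  let T : Finset (Fin n → R) := Finset.univ.biUnion fun d : D => (Finset.univ.filter fun i => i ∉ SA d).image fun i => A d i
  have hT : ∀ v ∈ T, v ∈ Groth.Agent.FittingLib.rel x := by
    intro v hv
    simp only [T, Finset.mem_biUnion, Finset.mem_image, Finset.mem_filter] at hv
    obtain ⟨d, -, i, ⟨-, hi⟩, rfl⟩ := hv
    exact hA d i hi
  let U : Set (Fin n → R) := Set.range fun j : Fin n => (Pi.single j 1 : Fin n → R)
  let G : Set R := {d | ∃ (B : Matrix (Fin n) (Fin n) R) (S : Finset (Fin n)), S.card ≤ r ∧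
    (∀ i ∉ S, B i ∈ T) ∧ (∀ i ∈ S, B i ∈ U) ∧ d = B.det}
  have hGfin : G.Finite := by
    let V : Finset (Fin n → R) := T ∪ Finset.univ.image fun j : Fin n => (Pi.single j 1 : Fin n → R)
    refine ((Fintype.piFinset fun _ : Fin n => V).finite_toSet.image
      fun B : Fin n → Fin n → R => Matrix.det (Matrix.of B)).subset ?_
    rintro d ⟨B, S, -, h1, h2, rfl⟩
    refine ⟨B, Finset.mem_coe.2 (Fintype.mem_piFinset.2 fun i => ?_), rfl⟩
    simp only [V, Finset.mem_union, Finset.mem_image]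
    by_cases hi : i ∈ S
    · obtain ⟨j, hj⟩ := h2 i hi
      exact Or.inr ⟨j, Finset.mem_univ j, hj⟩
    · exact Or.inl (h1 i hi)
  have hfG : f ^ N ∈ Ideal.span G := by
    refine Submodule.span_le.2 (fun d hd => ?_) hfN
    rw [show d = (A ⟨d, hd⟩).det from hdet ⟨d, hd⟩]
    refine Groth.Agent.FittingLib.det_mem_of_rows_mem_span
      (fun i => if i ∈ SA ⟨d, hd⟩ then U else (T : Set (Fin n → R))) _ (fun B hB => ?_) _ (fun i => ?_)
    · exact Ideal.subset_span ⟨B, SA ⟨d, hd⟩, hSA _, fun i hi => by simpa [hi] using hB i,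
        fun i hi => by simpa [hi] using hB i, rfl⟩
    · by_cases hi : i ∈ SA ⟨d, hd⟩
      · simp only [hi, if_true]
        rw [Groth.Agent.FittingLib.span_single_eq_top]
        exact trivial
      · simp only [hi, if_false]
        refine Submodule.subset_span ?_
        simp only [T, Finset.mem_coe, Finset.mem_biUnion, Finset.mem_image, Finset.mem_filter]
        exact ⟨⟨d, hd⟩, Finset.mem_univ _, i, ⟨Finset.mem_univ _, hi⟩, rfl⟩
  refine ⟨Ideal.span {f} * Ideal.span G, Submodule.FG.mul (Submodule.fg_span_singleton f) (Submodule.fg_span hGfin), ?_, ?_⟩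
  · refine le_antisymm (Ideal.radical_mono Ideal.mul_le_left) (Ideal.radical_le_radical_iff.2 ?_)
    rw [Ideal.span_singleton_le_iff_mem]
    exact ⟨N + 1, by rw [pow_succ']; exact Ideal.mul_mem_mul (Ideal.mem_span_singleton_self f) hfG⟩
  intro a ha R₁ _ _ e p' hp'
  let L := Localization.Away a
  let ι : R₁ →ₐ[R] L := (BlowUp.affineAlgebra R (Ideal.span {f} * Ideal.span G) a).val.comp e.toAlgHom
  have hι : Function.Injective ι := Subtype.val_injective.comp e.injective
  let a₁ := algebraMap R R₁ a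
  let f₁ := algebraMap R R₁ f
  have hareg : ∀ w : R₁, a₁ * w = 0 → w = 0 := by
    intro w hw
    refine hι ?_
    have h1 := congrArg ι hw
    rw [map_mul, map_zero, AlgHom.commutes] at h1
    rw [map_zero]
    exact ((IsLocalization.map_units L (⟨a, Submonoid.mem_powers a⟩ : Submonoid.powers a)).mul_right_eq_zero).1 h1
  obtain ⟨b, hb, hab⟩ := Ideal.mem_span_singleton_mul.1 ha
  have hfreg : ∀ w : R₁, f₁ * w = 0 → w = 0 := fun w hw => hareg w (by
    rw [show a₁ = f₁ * algebraMap R R₁ b by rw [← map_mul, hab], mul_right_comm, hw, zero_mul])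
  have hfpow : ∀ (m : ℕ) (w : R₁), f₁ ^ m * w = 0 → w = 0 := by
    intro m
    induction m with
    | zero => intro w hw; simpa using hw
    | succ m ih => intro w hw; exact hfreg w (ih _ (by rwa [← mul_assoc, ← pow_succ]))
  let b₁ := algebraMap R R₁ b
  have hbreg : ∀ w : R₁, b₁ * w = 0 → w = 0 := fun w hw => hareg w (by
    rw [show a₁ = f₁ * b₁ by rw [← map_mul, hab], mul_assoc, hw, mul_zero])
  have hGdiv : ∀ z ∈ Ideal.span G, ∃ q, algebraMap R R₁ z = q * b₁ := by
    intro z hz
    let q : ↥(BlowUp.affineAlgebra R (Ideal.span {f} * Ideal.span G) a) :=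
      ⟨_, Algebra.subset_adjoin ⟨f * z, Ideal.mul_mem_mul (Ideal.mem_span_singleton_self f) hz, rfl⟩⟩
    refine ⟨e.symm q, ?_⟩
    have h1 : e.symm q * a₁ = algebraMap R R₁ (f * z) := hι (by
      rw [map_mul, AlgHom.commutes, AlgHom.commutes]
      show (e (e.symm q) : L) * algebraMap R L a = algebraMap R L (f * z)
      rw [AlgEquiv.apply_symm_apply]
      exact IsLocalization.mk'_spec L (f * z) ⟨a, Submonoid.mem_powers a⟩)
    rw [show a₁ = f₁ * b₁ by rw [← map_mul, hab], map_mul] at h1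
    refine sub_eq_zero.1 (hfreg _ ?_)
    rw [mul_sub, sub_eq_zero]
    exact h1.symm.trans (by ring)
  let x₁ : Fin n → R₁ ⊗[R] M := fun i => (1 : R₁) ⊗ₜ[R] x i
  have hx₁ := Groth.Agent.FittingLib.span_baseChange_eq_top R₁ x hx
  let P := FlatCA.powTorsion R₁ a₁ (R₁ ⊗[R] M)
  -- choose a minor which is a unit multiple of `b₁` at `p'`
  obtain ⟨B, S, hS, hBT, hBU, u, hu, hup⟩ : ∃ (B : Matrix (Fin n) (Fin n) R) (S : Finset (Fin n)), S.card ≤ r ∧
      (∀ i ∉ S, B i ∈ T) ∧ (∀ i ∈ S, B i ∈ U) ∧ ∃ u, algebraMap R R₁ B.det = u * b₁ ∧ u ∉ p' := by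
    by_contra! hall
    have hmem : b₁ ∈ p' * Ideal.span {b₁} := by
      refine Submodule.span_induction (p := fun z _ => algebraMap R R₁ z ∈ p' * Ideal.span {b₁}) ?_
        (by rw [map_zero]; exact zero_mem _) (fun _ _ _ _ h h' => by rw [map_add]; exact add_mem h h')
        (fun c z _ h => by rw [smul_eq_mul, map_mul]; exact Ideal.mul_mem_left _ _ h) hb
      rintro _ ⟨B, S, h1, h2, h3, rfl⟩
      obtain ⟨q, hq⟩ := hGdiv _ (Ideal.subset_span ⟨B, S, h1, h2, h3, rfl⟩)
      rw [hq]
      exact Ideal.mem_mul_span_singleton.2 ⟨q, hall B S h1 h2 h3 q hq, rfl⟩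
    obtain ⟨c, hc, he⟩ := Ideal.mem_mul_span_singleton.1 hmem
    have : 1 - c = 0 := hbreg _ (by rw [mul_sub, mul_one, mul_comm, he, sub_self])
    rw [sub_eq_zero] at this
    exact hp'.ne_top ((Ideal.eq_top_iff_one _).2 (this ▸ hc))
  let B₁ : Matrix (Fin n) (Fin n) R₁ := (algebraMap R R₁).mapMatrix B
  have hB₁rel : ∀ i ∉ S, B₁ i ∈ Groth.Agent.FittingLib.rel x₁ := fun i hi => by
    rw [Groth.Agent.FittingLib.mem_rel]
    simp only [B₁, x₁, RingHom.mapMatrix_apply, Matrix.map_apply, algebraMap_smul, ← TensorProduct.tmul_smul,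
      ← TensorProduct.tmul_sum, Groth.Agent.FittingLib.mem_rel.1 (hT _ (hBT i hi)), TensorProduct.tmul_zero]
  have hdet₁ : B₁.det = u * b₁ := by rw [← hu, RingHom.map_det]
  have hadj : ∀ j, ∀ i ∈ S, ∃ c, B₁.adjugate j i = c * b₁ := by
    intro j i hi
    rw [← RingHom.map_adjugate, RingHom.mapMatrix_apply, Matrix.map_apply]
    refine hGdiv _ (Ideal.subset_span ⟨B.updateRow i (Pi.single j 1), S, hS, fun l hl => ?_, fun l hl => ?_,
      Matrix.adjugate_apply B j i⟩)
    · rw [Matrix.updateRow_ne (fun h : l = i => hl (h.symm ▸ hi))]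
      exact hBT l hl
    · by_cases hli : l = i
      · subst hli; rw [Matrix.updateRow_self]; exact ⟨j, rfl⟩
      · rw [Matrix.updateRow_ne hli]; exact hBU l hl
  choose c hc using hadj
  let g : Fin r → R₁ ⊗[R] M := fun i => if h : (i : ℕ) < S.card
    then ∑ l, B₁ (S.equivFin.symm ⟨i, h⟩ : S) l • x₁ l else 0
  have hgg : ∀ i ∈ S, ∑ l, B₁ i l • x₁ l ∈ Set.range g := fun i hi =>
    ⟨⟨(S.equivFin ⟨i, hi⟩ : ℕ), (S.equivFin ⟨i, hi⟩).2.trans_le hS⟩, by simp [g]⟩
  have hgx : ∀ j, (b₁ * u) • x₁ j ∈ Submodule.span R₁ (Set.range g) := fun j => by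
    rw [mul_comm, ← hdet₁, Groth.Agent.FittingLib.det_mul_smul_eq_zero hB₁rel j]
    exact sum_mem fun i hi => Submodule.smul_mem _ _ (Submodule.subset_span (hgg i hi))
  have hP : ∀ y : R₁ ⊗[R] M, b₁ • y = 0 → y ∈ P := fun y hy =>
    Submodule.mem_iSup_of_mem 1 (by
      rw [pow_one, Submodule.mem_torsionBy_iff, show a₁ = f₁ * b₁ by rw [← map_mul, hab], mul_smul, hy, smul_zero])
  refine ⟨u, hup, Groth.Agent.FittingLib.free_of_smul_mem_span u (P.mkQ ∘ g) (fun y => ?_) (fun d hd i => ⟨n, ?_⟩) ?_⟩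
  · obtain ⟨y, rfl⟩ := P.mkQ_surjective y
    have hy : y ∈ Submodule.span R₁ (Set.range x₁) := hx₁.ge trivial
    rw [Set.range_comp, Submodule.span_image, ← map_smul]
    induction hy using Submodule.span_induction with
    | mem z hz =>
      obtain ⟨j, rfl⟩ := hz
      let w : R₁ ⊗[R] M := ∑ i ∈ S.attach, c j i.1 i.2 • ∑ l, B₁ i.1 l • x₁ l
      have hker : u • x₁ j - w ∈ P := by
        refine hP _ ?_
        rw [smul_sub, smul_smul, mul_comm, ← hdet₁, Groth.Agent.FittingLib.det_mul_smul_eq_zero hB₁rel j,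
          sub_eq_zero, ← Finset.sum_attach S, Finset.smul_sum]
        exact Finset.sum_congr rfl fun i _ => by rw [hc j i.1 i.2, smul_smul, mul_comm]
      exact ⟨w, sum_mem fun i _ => Submodule.smul_mem _ _ (Submodule.subset_span (hgg i.1 i.2)),
        ((Submodule.Quotient.eq P).2 hker).symm⟩
    | zero => rw [smul_zero, map_zero]; exact zero_mem _
    | add s t _ _ hs ht => rw [smul_add, map_add]; exact add_mem hs ht
    | smul q s _ hs => rw [smul_comm, map_smul]; exact Submodule.smul_mem _ _ hs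
  · have hmk : P.mkQ (∑ i, d i • g i) = 0 := by
      rw [map_sum]
      simpa using hd
    rw [Submodule.mkQ_apply, Submodule.Quotient.mk_eq_zero] at hmk
    obtain ⟨M₀, hN⟩ := (Submodule.mem_iSup_of_directed _ (Monotone.directed_le fun s t h y hy => by
      rw [Submodule.mem_torsionBy_iff] at hy ⊢
      rw [show a₁ ^ t = a₁ ^ (t - s) * a₁ ^ s by rw [← pow_add, Nat.sub_add_cancel h], mul_smul, hy, smul_zero])).1 hmk
    rw [Submodule.mem_torsionBy_iff] at hN
    have hrel : ∑ i, (a₁ ^ M₀ * d i) • g i = 0 := by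
      rw [← hN, Finset.smul_sum]
      simp [mul_smul]
    have h0 : Fitt.ideal R₁ (R₁ ⊗[R] M) (r - 1) = ⊥ := by
      rw [Groth.Agent.FittingLib.ideal_baseChange, Ideal.map_eq_bot_iff_le_ker]
      intro z hz
      obtain ⟨m, hm⟩ := hkill (r - 1) (by have := i.2; omega) z hz
      exact hfpow m _ (by rw [← map_pow, ← map_mul, hm, map_zero])
    have hfin := Groth.Agent.FittingLib.coeff_mul_pow_eq_zero g hx₁ h0 hgx hrel i
    have hbpow : ∀ (m : ℕ) (w : R₁), b₁ ^ m * w = 0 → w = 0 := by
      intro m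
      induction m with
      | zero => intro w hw; simpa using hw
      | succ m ih => intro w hw; exact hbreg w (ih _ (by rwa [← mul_assoc, ← pow_succ]))
    have hapow : ∀ (m : ℕ) (w : R₁), a₁ ^ m * w = 0 → w = 0 := by
      intro m
      induction m with
      | zero => intro w hw; simpa using hw
      | succ m ih => intro w hw; exact hareg w (ih _ (by rwa [← mul_assoc, ← pow_succ]))
    refine hapow M₀ _ (hbpow n _ ?_)
    rw [← hfin, mul_pow]
    ring
  · refine nontrivial_of_ne 1 0 fun h => hup ?_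
    rw [← map_one (algebraMap R₁ (Localization.Away u)), IsLocalization.map_eq_zero_iff (Submonoid.powers u)] at h
    obtain ⟨⟨_, m, rfl⟩, hm⟩ := h
    exact hp'.mem_of_pow_mem m (by simp only [mul_one] at hm; rw [hm]; exact p'.zero_mem)

end Groth.Agent.S6924
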