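import Groth.Statements.S6925
import Groth.Agent.Lib.FlatH4.LocCrit
import Groth.Agent.Lib.HLV27.Chevalley
import Mathlib

set_option autoImplicit false
universe u
open TensorProduct
open FlatMor

namespace Groth.Agent.S6925

open IsLocalRing TensorProduct
section Aux
variable {R : Type u} [CommRing R] {V : Type u} [AddCommGroup V] [Module R V]

/-- flatness of truncations goes up -/
theorem flat_up (J : Ideal R) (h : Module.Flat (R ⧸ J) ((R ⧸ J) ⊗[R] V)) (A : Type u) [CommRing A] [Algebra R A]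
    (hA : ∀ x ∈ J, algebraMap R A x = 0) : Module.Flat A (A ⊗[R] V) := by
  letI : Algebra (R ⧸ J) A := (Ideal.Quotient.lift J (algebraMap R A) hA).toAlgebra
  haveI : IsScalarTower R (R ⧸ J) A := IsScalarTower.of_algebraMap_eq fun _ => rfl
  exact Module.Flat.of_linearEquiv (AlgebraTensorModule.cancelBaseChange R (R ⧸ J) A A V).symm

/-- two truncations give the truncation by the intersection -/
theorem flat_of_inf_eq_bot {A : Type u} [CommRing A] {W : Type u} [AddCommGroup W] [Module A W]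
    (K₁ K₂ : Ideal A) (hn : IsNilpotent K₁) (hK : K₁ ⊓ K₂ = ⊥)
    (h₁ : Module.Flat (A ⧸ K₁) ((A ⧸ K₁) ⊗[A] W)) (h₂ : Module.Flat (A ⧸ K₂) ((A ⧸ K₂) ⊗[A] W)) :
    Module.Flat A W := by
  refine FlatH4.flat_of_isNilpotent K₁ hn ?_ h₁
  have hN : Module.IsTorsionBySet A K₁ (K₂ : Set A) := fun x a => Subtype.ext (by
    have h : (a : A) * (x : A) ∈ K₁ ⊓ K₂ := ⟨K₁.mul_mem_left _ x.2, K₂.mul_mem_right _ a.2⟩
    rw [hK, Ideal.mem_bot] at h
    exact h)
  have hN' : Module.IsTorsionBySet A (A ⧸ K₂) (K₂ : Set A) := fun x a => by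
    obtain ⟨x, rfl⟩ := Ideal.Quotient.mk_surjective x
    show (a : A) • Ideal.Quotient.mk K₂ x = 0
    rw [Algebra.smul_def, Ideal.Quotient.algebraMap_eq, ← map_mul, Ideal.Quotient.eq_zero_iff_mem]
    exact K₂.mul_mem_right _ a.2
  let f : K₁ →ₗ[A] A ⧸ K₂ := (Submodule.mkQ K₂).comp K₁.subtype
  have hf : Function.Injective f := (injective_iff_map_eq_zero f).2 fun x hx => Subtype.ext (by
    have h : (x : A) ∈ K₁ ⊓ K₂ := ⟨x.2, (Submodule.Quotient.mk_eq_zero K₂).1 hx⟩
    rw [hK, Ideal.mem_bot] at h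
    exact h)
  have := FlatH4.lTensor_injective_of_flat_mod K₂ h₂ hN hN' f hf
  rw [LinearMap.lTensor_comp, LinearMap.coe_comp] at this
  exact this.of_comp

/-- the truncation by an intersection of two ideals containing a power of the maximal ideal -/
theorem flat_inf [IsLocalRing R] (J₁ J₂ : Ideal R) (n : ℕ) (hn : maximalIdeal R ^ n ≤ J₁ ⊓ J₂) (hne : J₁ ≤ maximalIdeal R)
    (h₁ : Module.Flat (R ⧸ J₁) ((R ⧸ J₁) ⊗[R] V)) (h₂ : Module.Flat (R ⧸ J₂) ((R ⧸ J₂) ⊗[R] V)) :
    Module.Flat (R ⧸ J₁ ⊓ J₂) ((R ⧸ J₁ ⊓ J₂) ⊗[R] V) := by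
  let A := R ⧸ J₁ ⊓ J₂
  let π := Ideal.Quotient.mk (J₁ ⊓ J₂)
  have hc : ∀ J, J₁ ⊓ J₂ ≤ J → Module.Flat (R ⧸ J) ((R ⧸ J) ⊗[R] V) →
      Module.Flat (A ⧸ J.map π) ((A ⧸ J.map π) ⊗[A] (A ⊗[R] V)) := fun J hJ h => by
    haveI := flat_up J h (A ⧸ J.map π) fun x hx => by
      rw [IsScalarTower.algebraMap_apply R A (A ⧸ J.map π)]
      exact Ideal.Quotient.eq_zero_iff_mem.2 (Ideal.mem_map_of_mem π hx)
    exact Module.Flat.of_linearEquiv (AlgebraTensorModule.cancelBaseChange R A (A ⧸ J.map π) (A ⧸ J.map π) V)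
  refine flat_of_inf_eq_bot (J₁.map π) (J₂.map π) ⟨n, le_bot_iff.1 ?_⟩ (le_bot_iff.1 ?_)
    (hc J₁ inf_le_left h₁) (hc J₂ inf_le_right h₂)
  · refine (Ideal.pow_right_mono (Ideal.map_mono hne) n).trans ?_
    rw [← Ideal.map_pow, Ideal.map_le_iff_le_comap, ← RingHom.ker_eq_comap_bot, Ideal.mk_ker]
    exact hn
  · intro x ⟨hx₁, hx₂⟩
    obtain ⟨x, rfl⟩ := Ideal.Quotient.mk_surjective x
    have hm : ∀ J, J₁ ⊓ J₂ ≤ J → π x ∈ J.map π → x ∈ J := fun J hJ h => by
      have : x ∈ (J.map π).comap π := h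
      rwa [Ideal.comap_map_of_surjective' _ Ideal.Quotient.mk_surjective, Ideal.mk_ker, sup_eq_left.2 hJ] at this
    exact Ideal.mem_bot.2 (Ideal.Quotient.eq_zero_iff_mem.2 ⟨hm _ inf_le_left hx₁, hm _ inf_le_right hx₂⟩)

/-- the limit step -/
theorem flat_limit [IsNoetherianRing R] {T : Type u} [CommRing T] [Algebra R T] [IsNoetherianRing T] [Module T V]
    [IsScalarTower R T V] [Module.Finite T V] (m I : Ideal R) (hm : ∀ x ∈ m, algebraMap R T x ∈ (⊥ : Ideal T).jacobson)
    (h : ∀ n, 0 < n → Module.Flat (R ⧸ I ⊔ m ^ n) ((R ⧸ I ⊔ m ^ n) ⊗[R] V)) :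
    Module.Flat (R ⧸ I) ((R ⧸ I) ⊗[R] V) := by
  let R' := R ⧸ I
  let T' := R' ⊗[R] T
  letI : Algebra T T' := Algebra.TensorProduct.rightAlgebra
  haveI : IsNoetherianRing T' := by
    refine isNoetherianRing_of_surjective T T' (algebraMap T T') fun z => ?_
    induction z using TensorProduct.induction_on with
    | zero => exact ⟨0, map_zero _⟩
    | tmul a t =>
      obtain ⟨a, rfl⟩ := Ideal.Quotient.mk_surjective a
      refine ⟨a • t, ?_⟩
      show (1 : R') ⊗ₜ[R] (a • t) = _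
      rw [← TensorProduct.smul_tmul, Algebra.smul_def, mul_one]
      rfl
    | add x y hx hy =>
      obtain ⟨a, ha⟩ := hx
      obtain ⟨b, hb⟩ := hy
      exact ⟨a + b, by rw [map_add, ha, hb]⟩
  have hsurj : Function.Surjective (algebraMap T T') := fun z => by
    induction z using TensorProduct.induction_on with
    | zero => exact ⟨0, map_zero _⟩
    | tmul a t =>
      obtain ⟨a, rfl⟩ := Ideal.Quotient.mk_surjective a
      refine ⟨a • t, ?_⟩
      show (1 : R') ⊗ₜ[R] (a • t) = _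
      rw [← TensorProduct.smul_tmul, Algebra.smul_def, mul_one]
      rfl
    | add x y hx hy =>
      obtain ⟨a, ha⟩ := hx
      obtain ⟨b, hb⟩ := hy
      exact ⟨a + b, by rw [map_add, ha, hb]⟩
  let N := T' ⊗[T] V
  let e : N ≃ₗ[R'] R' ⊗[R] V := Algebra.IsPushout.cancelBaseChange R R' T T' V
  haveI : IsScalarTower R' T' N := inferInstance
  suffices Module.Flat R' N from Module.Flat.of_linearEquiv e.symm
  refine FlatH4.flat_of_forall_flat_quotient_pow (S := T') (M := N) (m.map (Ideal.Quotient.mk I)) ?_ fun n hn => ?_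
  · rw [Ideal.map_map, Ideal.map_le_iff_le_comap]
    intro x hx
    rw [Ideal.mem_comap, RingHom.comp_apply,
      show algebraMap R' T' (Ideal.Quotient.mk I x) = algebraMap T T' (algebraMap R T x) from
        ((Algebra.TensorProduct.includeRight : T →ₐ[R] T').commutes x).symm, Ideal.mem_jacobson_bot]
    intro y
    obtain ⟨y, rfl⟩ := hsurj y
    rw [← map_mul, ← map_one (algebraMap T T'), ← map_add]
    exact (Ideal.mem_jacobson_bot.1 (hm x hx) y).map _
  · let A := R' ⧸ m.map (Ideal.Quotient.mk I) ^ n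
    haveI := flat_up (I ⊔ m ^ n) (h n hn) A fun x hx => by
      rw [IsScalarTower.algebraMap_apply R R' A]
      refine Ideal.Quotient.eq_zero_iff_mem.2 ?_
      obtain ⟨a, ha, b, hb, rfl⟩ := Submodule.mem_sup.1 hx
      rw [map_add, show algebraMap R R' a = 0 from Ideal.Quotient.eq_zero_iff_mem.2 ha, zero_add, ← Ideal.map_pow]
      exact Ideal.mem_map_of_mem _ hb
    exact Module.Flat.of_linearEquiv
      ((AlgebraTensorModule.congr (LinearEquiv.refl A A) e).trans (AlgebraTensorModule.cancelBaseChange R R' A A V))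

end Aux


/-- Let `(R, 𝔪)` be a complete Noetherian local ring, `R → S` a ring map with `S` Noetherian and `M` a
finite `S`-module. Then among ideals contained in `𝔪`, there is a smallest one `I` with the
following property: whenever `𝔮` is a prime of `S` lying over `𝔪`, the module `(M/IM)_𝔮` is
`R/I`-flat. Namely, `I ⊆ 𝔪` has this property, and every ideal `J` with the property contains `I`. -/
theorem result (R S : Type u) [CommRing R] [IsLocalRing R]
    [IsNoetherianRing R] [IsAdicComplete (IsLocalRing.maximalIdeal R) R] [CommRing S] [Algebra R S] [IsNoetherianRing S]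
    (M : Type u) [AddCommGroup M] [Module S M] [Module R M] [IsScalarTower R S M] [Module.Finite S M] :
    ∃ I : Ideal R, I ≤ IsLocalRing.maximalIdeal R ∧
      (∀ (q : Ideal S) [q.IsPrime], q.comap (algebraMap R S) = IsLocalRing.maximalIdeal R →
        Module.Flat (R ⧸ I) ((R ⧸ I) ⊗[R] LocalizedModule q.primeCompl M)) ∧
      ∀ J : Ideal R, (∀ (q : Ideal S) [q.IsPrime], q.comap (algebraMap R S) = IsLocalRing.maximalIdeal R →
        Module.Flat (R ⧸ J) ((R ⧸ J) ⊗[R] LocalizedModule q.primeCompl M)) → I ≤ J := by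
  classical
  let m := maximalIdeal R
  let Q : Ideal R → Prop := fun J => ∀ (q : Ideal S) [q.IsPrime], q.comap (algebraMap R S) = m →
    Module.Flat (R ⧸ J) ((R ⧸ J) ⊗[R] LocalizedModule q.primeCompl M)
  have hup : ∀ J J' : Ideal R, J ≤ J' → Q J → Q J' := fun J J' hle h q _ hq =>
    flat_up J (h q hq) (R ⧸ J') fun x hx => Ideal.Quotient.eq_zero_iff_mem.2 (hle hx)
  have hQm : Q m := fun q _ _ => by
    letI := Ideal.Quotient.field m
    infer_instance
  -- smallest one above a power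
  have hmin : ∀ n, ∃ J : Ideal R, m ^ (n + 1) ≤ J ∧ J ≤ m ∧ Q J ∧ ∀ J', m ^ (n + 1) ≤ J' → Q J' → J ≤ J' := by
    intro n
    haveI : IsArtinianRing (R ⧸ m ^ (n + 1)) := by
      haveI : Nontrivial (R ⧸ m ^ (n + 1)) := Ideal.Quotient.nontrivial_iff.2
        (ne_top_of_le_ne_top (maximalIdeal.isMaximal R).ne_top (Ideal.pow_le_self n.succ_ne_zero))
      haveI : IsLocalRing (R ⧸ m ^ (n + 1)) := .of_surjective' _ Ideal.Quotient.mk_surjective
      exact (isArtinianRing_iff_isNilpotent_maximalIdeal _).mpr ⟨n + 1, by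
        rw [← IsLocalRing.map_maximalIdeal_of_surjective _ (Ideal.Quotient.mk_surjective (I := m ^ (n + 1))),
          ← Ideal.map_pow]
        exact Ideal.map_quotient_self _⟩
    obtain ⟨_, ⟨J, ⟨h1, h2, h3⟩, rfl⟩, hmin⟩ := IsArtinian.set_has_minimal
      ((fun J : Ideal R => J.map (Ideal.Quotient.mk (m ^ (n + 1)))) ''
        {J | m ^ (n + 1) ≤ J ∧ J ≤ m ∧ Q J})
      ⟨_, m, ⟨Ideal.pow_le_self n.succ_ne_zero, le_rfl, hQm⟩, rfl⟩
    refine ⟨J, h1, h2, h3, fun J' hJ' hQ' => ?_⟩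
    have hmem : Q (J ⊓ J') := fun q _ hq => flat_inf J J' (n + 1) (le_inf h1 hJ') h2 (h3 q hq) (hQ' q hq)
    have hle : (J ⊓ J').map (Ideal.Quotient.mk (m ^ (n + 1))) ≤ J.map (Ideal.Quotient.mk _) := Ideal.map_mono inf_le_left
    have heq := eq_of_le_of_not_lt hle (hmin _ ⟨J ⊓ J', ⟨le_inf h1 hJ', inf_le_left.trans h2, hmem⟩, rfl⟩)
    have h4 := congrArg (Ideal.comap (Ideal.Quotient.mk (m ^ (n + 1)))) heq
    simp only [Ideal.comap_map_of_surjective' _ Ideal.Quotient.mk_surjective, Ideal.mk_ker,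
      sup_eq_left.2 h1, sup_eq_left.2 (le_inf h1 hJ')] at h4
    exact h4.ge.trans inf_le_right
  choose J hJ1 hJ2 hJ3 hJ4 using hmin
  have hanti : ∀ n, J (n + 1) ≤ J n := fun n => hJ4 (n + 1) (J n) ((Ideal.pow_le_pow_right (by omega)).trans (hJ1 n)) (hJ3 n)
  have hsum : ∀ n, J n ≤ J (n + 1) ⊔ m ^ (n + 1) := fun n => hJ4 n _ le_sup_right (hup _ _ le_sup_left (hJ3 (n + 1)))
  let I : Ideal R := ⨅ n, J n
  -- the intersection surjects onto each level
  have hIsum : ∀ n, J n ≤ I ⊔ m ^ (n + 1) := by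
    intro n x hx
    have hstep : ∀ i z, z ∈ J (n + i) → ∃ z', z' ∈ J (n + (i + 1)) ∧ z' - z ∈ m ^ (n + i + 1) := by
      intro i z hz
      obtain ⟨a, ha, b, hb, rfl⟩ := Submodule.mem_sup.1 (hsum _ hz)
      exact ⟨a, ha, by simpa using neg_mem hb⟩
    choose! nx hnx1 hnx2 using hstep
    let z : ℕ → R := fun i => Nat.rec x (fun i w => nx i w) i
    have hz : ∀ i, z i ∈ J (n + i) := fun i => by
      induction i with
      | zero => exact hx
      | succ i ih => exact hnx1 i _ ih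
    have hcau : ∀ {i j}, i ≤ j → z j - z i ∈ m ^ (n + i + 1) := by
      intro i j hij
      induction hij with
      | refl => simp
      | @step j hij ih =>
        rw [show z (j + 1) - z i = (z (j + 1) - z j) + (z j - z i) by ring]
        exact add_mem (Ideal.pow_le_pow_right (by have : i ≤ j := hij; omega) (hnx2 j _ (hz j))) ih
    obtain ⟨L, hL⟩ := IsPrecomplete.prec' (I := m) z fun {i j} h => by
      rw [SModEq.sub_mem, smul_eq_mul, Ideal.mul_top, ← neg_sub]
      exact neg_mem (Ideal.pow_le_pow_right (show i ≤ n + i + 1 by omega) (hcau h))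
    have hL' : ∀ i, L - z i ∈ m ^ (n + i + 1) := fun i => by
      have h := hL (n + i + 1)
      rw [SModEq.sub_mem, smul_eq_mul, Ideal.mul_top] at h
      rw [show L - z i = (z (n + i + 1) - z i) - (z (n + i + 1) - L) by ring]
      exact sub_mem (hcau (show i ≤ n + i + 1 by omega)) h
    have hmono : Antitone J := antitone_nat_of_succ_le hanti
    have hLI : L ∈ I := (Submodule.mem_iInf _).2 fun j => by
      rw [show L = z j + (L - z j) by ring]
      exact add_mem (hmono (by omega) (hz j)) (hmono (Nat.le_add_left j n) (hJ1 _ (hL' j)))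
    rw [show x = L + -(L - z 0) by simp [z]]
    exact add_mem (Ideal.mem_sup_left hLI) (Ideal.mem_sup_right (neg_mem (by simpa using hL' 0)))
  refine ⟨I, (iInf_le _ 0).trans (hJ2 0), fun q _ hq => ?_, fun J' hJ' => ?_⟩
  · haveI : IsScalarTower R (Localization q.primeCompl) (LocalizedModule q.primeCompl M) := inferInstance
    refine flat_limit (T := Localization q.primeCompl) m I (fun x hx => ?_) fun n hn => ?_
    · show algebraMap R (Localization.AtPrime q) x ∈ (⊥ : Ideal (Localization.AtPrime q)).jacobson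
      rw [IsLocalRing.jacobson_eq_maximalIdeal ⊥ bot_ne_top, IsScalarTower.algebraMap_apply R S (Localization.AtPrime q),
        IsLocalization.AtPrime.to_map_mem_maximal_iff (Localization.AtPrime q) q]
      exact hq.ge hx
    · obtain ⟨n, rfl⟩ := Nat.exists_eq_add_one_of_ne_zero hn.ne'
      exact hup _ _ (hIsum n) (hJ3 n) q hq
  · rw [← HLV27.iInf_sup_pow J']
    refine le_iInf fun j => ?_
    rcases j with _ | j
    · simp
    · exact (iInf_le _ j).trans (hJ4 j _ le_sup_right (hup _ _ le_sup_left hJ'))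

end Groth.Agent.S6925
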