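import Groth.Statements.S6926
import Groth.Agent.Lib.FlatFam5.Std
-- import your own Groth.Agent.* helpers here

set_option autoImplicit false
universe u
open TensorProduct
open FlatMor

set_option backward.isDefEq.respectTransparency false
set_option linter.style.haveILetI false

namespace Groth.Agent.S6926

/-- Let `(R, 𝔪)` be a complete Noetherian local ring, `R → S` with `S` Noetherian, `M` a finite
`S`-module, and `I ⊆ 𝔪` the least ideal with the property that, at each prime `𝔮` of `S` lying above
`𝔪`, the localization `(M/IM)_𝔮` is an `R/I`-flat module. Let `φ : R → R'` be a local homomorphism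
to a Noetherian local ring `(R', 𝔪')`, `S' = S ⊗_R R'`, `M' = M ⊗_R R'`. Then `M'_{𝔮'}` is flat over
`R'` for every prime `𝔮'` of `S'` lying over `𝔪'` if and only if `φ(I) = 0`. -/
theorem result {R S R' S' : Type u} [CommRing R] [IsLocalRing R]
    [IsNoetherianRing R] [IsAdicComplete (IsLocalRing.maximalIdeal R) R] [CommRing S] [IsNoetherianRing S]
    [CommRing R'] [IsLocalRing R'] [IsNoetherianRing R'] [CommRing S']
    [Algebra R S] [Algebra R R'] [IsLocalHom (algebraMap R R')] [Algebra S S'] [Algebra R' S'] [Algebra R S']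
    [IsScalarTower R S S'] [IsScalarTower R R' S'] [Algebra.IsPushout R S R' S']
    {M M' : Type u} [AddCommGroup M] [Module S M] [Module R M] [IsScalarTower R S M] [Module.Finite S M]
    [AddCommGroup M'] [Module S' M'] [Module R' M'] [IsScalarTower R' S' M'] [Module S M'] [IsScalarTower S S' M']
    (f : M →ₗ[S] M') (hf : IsBaseChange S' f) (I : Ideal R) (hIm : I ≤ IsLocalRing.maximalIdeal R)
    (hI : (∀ (q : Ideal S) [q.IsPrime], q.comap (algebraMap R S) = IsLocalRing.maximalIdeal R →
        Module.Flat (R ⧸ I) ((R ⧸ I) ⊗[R] LocalizedModule q.primeCompl M)))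
    (hmin : ∀ J : Ideal R, (∀ (q : Ideal S) [q.IsPrime], q.comap (algebraMap R S) = IsLocalRing.maximalIdeal R →
        Module.Flat (R ⧸ J) ((R ⧸ J) ⊗[R] LocalizedModule q.primeCompl M)) → I ≤ J) :
    (∀ (q' : Ideal S') [q'.IsPrime], q'.comap (algebraMap R' S') = IsLocalRing.maximalIdeal R' → FlatCA.FlatAt R' q' M') ↔
      I ≤ RingHom.ker (algebraMap R R') := by
  show (∀ (q' : Ideal S') [q'.IsPrime], q'.comap (algebraMap R' S') = IsLocalRing.maximalIdeal R' →
    Module.Flat R' (LocalizedModule q'.primeCompl M')) ↔ _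
  rw [FlatFam5.forall_flat_iff (R := R) f hf]
  constructor
  · intro h x hx
    rw [RingHom.mem_ker, ← Ideal.mem_bot, ← Ideal.iInf_pow_eq_bot_of_isLocalRing
      (IsLocalRing.maximalIdeal R') (IsLocalRing.maximalIdeal.isMaximal R').ne_top, Submodule.mem_iInf]
    intro n
    let K : Ideal R := (IsLocalRing.maximalIdeal R' ^ (n + 1)).comap (algebraMap R R')
    have hloc : (IsLocalRing.maximalIdeal R).map (algebraMap R R') ≤ IsLocalRing.maximalIdeal R' :=
      Ideal.map_le_iff_le_comap.2 (IsLocalRing.maximalIdeal_comap _).ge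
    have hKm : K ≤ IsLocalRing.maximalIdeal R :=
      (Ideal.comap_mono (Ideal.pow_le_self n.succ_ne_zero)).trans (IsLocalRing.maximalIdeal_comap _).le
    have hK1 : IsLocalRing.maximalIdeal R ^ (n + 1) ≤ K := by
      rw [← Ideal.map_le_iff_le_comap, Ideal.map_pow]
      exact Ideal.pow_right_mono hloc _
    have hIK : I ≤ K := hmin K fun q _ hq => FlatFam5.flat_mod_of_family (ι := PUnit.{u+1}) q hq
      (fun _ => R') K n hKm hK1 (fun _ => le_rfl) (fun c hc => hc PUnit.unit)
      (fun _ Q hQ' _ hQm => h Q hQm)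
    exact Ideal.pow_le_pow_right (Nat.le_succ n) (hIK hx)
  · intro hker Q _ hQm
    let q := Q.comap (Algebra.TensorProduct.includeRight : S →ₐ[R] R' ⊗[R] S).toRingHom
    have hq : q.comap (algebraMap R S) = IsLocalRing.maximalIdeal R := by
      rw [← IsLocalRing.maximalIdeal_comap (algebraMap R R'), ← hQm, Ideal.comap_comap, Ideal.comap_comap]
      congr 1
      refine RingHom.ext fun r => ?_
      exact ((Algebra.TensorProduct.includeRight : S →ₐ[R] R' ⊗[R] S).commutes r).trans
        (IsScalarTower.algebraMap_apply R R' (R' ⊗[R] S) r)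
    exact FlatFam5.flat_baseChange_of_flat_mod I q (fun x hx => hker hx) (hI q hq) Q rfl

end Groth.Agent.S6926
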