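import Groth.Statements.S6928
import Groth.Agent.Lib.Dev4.FlatLocusColim

set_option autoImplicit false
universe u
open FlatMor
set_option maxSynthPendingDepth 3
open TensorProduct
attribute [local instance] Algebra.TensorProduct.rightAlgebra

set_option backward.isDefEq.respectTransparency.types false

namespace Groth.Agent.S6928

/-- Let `R → S` be a ring map that is essentially of finite presentation, `J ⊆ S` an ideal and `M` a
finitely presented `S`-module. Let `(R_λ)` be a directed system of `R`-algebras with colimit `R'`,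
and `I_λ ⊆ R_λ` ideals with `I_λ R_μ ⊆ I_μ`, `I' = colim I_λ`, `S' = S ⊗_R R'`, `M' = M ⊗_R R'`. If
`M'_{𝔮'}` is flat over `R'` for every prime `𝔮' ⊇ I'S' + JS'`, then there is `λ` such that, with
`S_λ = S ⊗_R R_λ` and `M_λ = M ⊗_R R_λ`, `(M_λ)_𝔮` is flat over `R_λ` for every prime `𝔮 ⊇ I_λ S_λ +
J S_λ`. -/
theorem result {R S : Type u} [CommRing R] [CommRing S] [Algebra R S] (hS : FlatCA.EssFinitePresentation R S)
    {M : Type u} [AddCommGroup M] [Module S M] [Module R M] [IsScalarTower R S M] [Module.FinitePresentation S M]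
    {ι : Type u} [Preorder ι] (G : ι → Type u) [∀ i, CommRing (G i)] [∀ i, Algebra R (G i)]
    (g : ∀ i j, i ≤ j → G i →+* G j) (hgR : ∀ i j (h : i ≤ j), (g i j h).comp (algebraMap R (G i)) = algebraMap R (G j))
    (R' : Type u) [CommRing R'] [Algebra R R'] [∀ i, Algebra (G i) R'] [∀ i, IsScalarTower R (G i) R']
    (hcolim : FlatCA.IsDirectedColimitRing G g R')
    (Il : ∀ i, Ideal (G i)) (hIl : ∀ i j (h : i ≤ j), (Il i).map (g i j h) ≤ Il j)
    {S' : Type u} [CommRing S'] [Algebra S S'] [Algebra R' S'] [Algebra R S'] [IsScalarTower R S S']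
    [IsScalarTower R R' S'] [Algebra.IsPushout R S R' S']
    {M' : Type u} [AddCommGroup M'] [Module S' M'] [Module R' M'] [IsScalarTower R' S' M'] [Module S M']
    [IsScalarTower S S' M'] (f : M →ₗ[S] M') (hf : IsBaseChange S' f)
    (J : Ideal S)
    (h : ∀ (q' : Ideal S') [q'.IsPrime],
      (⨆ i, (Il i).map (algebraMap (G i) R')).map (algebraMap R' S') ⊔ J.map (algebraMap S S') ≤ q' →
        FlatCA.FlatAt R' q' M') :
    ∃ i : ι, ∀ (Si Mi : Type u) [CommRing Si] [Algebra S Si] [Algebra (G i) Si] [Algebra R Si] [IsScalarTower R S Si]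
      [IsScalarTower R (G i) Si] [Algebra.IsPushout R S (G i) Si] [AddCommGroup Mi] [Module Si Mi] [Module (G i) Mi]
      [IsScalarTower (G i) Si Mi] [Module S Mi] [IsScalarTower S Si Mi] (fi : M →ₗ[S] Mi), IsBaseChange Si fi →
      ∀ (q : Ideal Si) [q.IsPrime], (Il i).map (algebraMap (G i) Si) ⊔ J.map (algebraMap S Si) ≤ q → FlatCA.FlatAt (G i) q Mi := by
  classical
  obtain ⟨S₀, _, _, _, _, T, hS₀, hT⟩ := hS
  haveI := hT
  letI : Module S₀ M := Module.compHom M (algebraMap S₀ S)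
  haveI : IsScalarTower S₀ S M := IsScalarTower.of_algebraMap_smul fun _ _ => rfl
  obtain ⟨M₀, _, _, f₀, _, hf₀⟩ := Groth.Agent.Dev4.exists_fp_model (L := S) (N := M) T
  letI : Module R M₀ := Module.compHom M₀ (algebraMap R S₀)
  haveI : IsScalarTower R S₀ M₀ := IsScalarTower.of_algebraMap_smul fun _ _ => rfl
  let gA : ∀ i j, i ≤ j → G i →ₐ[R] G j := fun i j hij =>
    { g i j hij with commutes' := fun r => RingHom.congr_fun (hgR i j hij) r }
  have hcA : FlatCA.IsDirectedColimitRing G (fun i j hij => (gA i j hij).toRingHom) R' := hcolim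
  letI : ∀ i, Algebra (G i ⊗[R] S₀) (R' ⊗[R] S₀) := fun i =>
    (Algebra.TensorProduct.map (IsScalarTower.toAlgHom R (G i) R') (AlgHom.id R S₀)).toRingHom.toAlgebra
  obtain ⟨hdir, hne, hid, hcomp, hcompat, hsurj, hzero⟩ :=
    Groth.Agent.Dev4.isDirectedColimitRing_tensor hcA S₀ fun i x => rfl
  haveI : IsDirectedOrder ι := hdir
  haveI := hne
  -- the non-flat loci
  let K : ∀ k, Ideal (G k ⊗[R] S₀) := fun k =>
    PrimeSpectrum.vanishingIdeal {q | ¬ Groth.Agent.Dev4.FlatPt M₀ (G k) q}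
  have hKz : ∀ k (q : PrimeSpectrum (G k ⊗[R] S₀)), K k ≤ q.asIdeal → ¬ Groth.Agent.Dev4.FlatPt M₀ (G k) q := fun k q hq => by
    have hc : IsClosed {q : PrimeSpectrum (G k ⊗[R] S₀) | ¬ Groth.Agent.Dev4.FlatPt M₀ (G k) q} :=
      (Groth.Agent.Dev4.isOpen_flatPt M₀ (G k)).isClosed_compl
    have : q ∈ PrimeSpectrum.zeroLocus (K k : Set (G k ⊗[R] S₀)) := hq
    rwa [PrimeSpectrum.zeroLocus_vanishingIdeal_eq_closure, hc.closure_eq] at this
  let J₀ := J.comap (algebraMap S₀ S)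
  let E : ∀ k, Ideal (G k ⊗[R] S₀) := fun k =>
    (Il k).map (algebraMap (G k) (G k ⊗[R] S₀)) ⊔ J₀.map (Algebra.TensorProduct.includeRight : S₀ →ₐ[R] G k ⊗[R] S₀).toRingHom
      ⊔ K k
  have hmono : ∀ k l (hkl : k ≤ l), (E k).map (Algebra.TensorProduct.map (gA k l hkl) (AlgHom.id R S₀)).toRingHom ≤ E l := by
    intro k l hkl
    simp only [E]
    rw [Ideal.map_sup, Ideal.map_sup]
    refine sup_le_sup (sup_le_sup ?_ ?_) ?_
    · rw [Ideal.map_map]
      refine Ideal.map_le_iff_le_comap.2 fun a ha => ?_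
      refine (show (gA k l hkl a) ⊗ₜ[R] (1 : S₀) ∈ (Il l).map (algebraMap (G l) (G l ⊗[R] S₀)) from ?_)
      exact Ideal.mem_map_of_mem (algebraMap (G l) (G l ⊗[R] S₀)) (hIl k l hkl (Ideal.mem_map_of_mem _ ha))
    · rw [Ideal.map_map]
      refine Ideal.map_le_iff_le_comap.2 fun a ha => ?_
      refine (show Algebra.TensorProduct.map (gA k l hkl) (AlgHom.id R S₀) ((1 : G k) ⊗ₜ[R] a) ∈
        J₀.map (Algebra.TensorProduct.includeRight : S₀ →ₐ[R] G l ⊗[R] S₀).toRingHom from ?_)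
      rw [Algebra.TensorProduct.map_tmul, map_one, AlgHom.id_apply]
      exact Ideal.mem_map_of_mem (Algebra.TensorProduct.includeRight : S₀ →ₐ[R] G l ⊗[R] S₀).toRingHom ha
    · refine Ideal.map_le_iff_le_comap.2 fun a ha => ?_
      refine (PrimeSpectrum.mem_vanishingIdeal _ _).2 fun q hq => ?_
      letI : Algebra (G k) (G l) := (gA k l hkl).toRingHom.toAlgebra
      haveI : IsScalarTower R (G k) (G l) := IsScalarTower.of_algebraMap_eq fun r => ((gA k l hkl).commutes r).symm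
      have h1 := (PrimeSpectrum.mem_vanishingIdeal _ _).1 ha
        (PrimeSpectrum.comap (Groth.Agent.Dev4.bcMap R S₀ (G k) (G l)).toRingHom q)
        (fun hfl => hq (Groth.Agent.Dev4.flatPt_bc M₀ q hfl))
      have h2 : Groth.Agent.Dev4.bcMap R S₀ (G k) (G l) a = Algebra.TensorProduct.map (gA k l hkl) (AlgHom.id R S₀) a := by
        clear h1 ha
        induction a using TensorProduct.induction_on with
        | zero => simp
        | add u v hu hv => simp only [map_add, hu, hv]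
        | tmul x y => rfl
      show Algebra.TensorProduct.map (gA k l hkl) (AlgHom.id R S₀) a ∈ q.asIdeal
      rw [← h2]
      exact h1
  -- the ideal at the limit
  let E' : Ideal (R' ⊗[R] S₀) := Ideal.span {x | ∃ k, ∃ y ∈ E k, algebraMap (G k ⊗[R] S₀) (R' ⊗[R] S₀) y = x}
  have hmeet : ∃ t ∈ T, (1 : R') ⊗ₜ[R] t ∈ E' := by
    by_contra hc
    push Not at hc
    let T' : Submonoid (R' ⊗[R] S₀) := T.map (Algebra.TensorProduct.includeRight : S₀ →ₐ[R] R' ⊗[R] S₀).toRingHom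
    obtain ⟨q, hq, hEq, hdis⟩ := Ideal.exists_le_prime_disjoint E' T' (Set.disjoint_left.2 fun x hx hxT => by
      obtain ⟨t, ht, rfl⟩ := hxT
      exact hc t ht hx)
    obtain ⟨ψ, hψa, hψs, hψf, hψr⟩ := Groth.Agent.Dev4.flatAt_chart (R := R) (S := S) (A := R') M₀ T f₀ hf₀ (Si := S') (Mi := M') f hf
    obtain ⟨Q, hQ⟩ := hψr ⟨q, hq⟩ fun s hs hmem => Set.disjoint_left.1 hdis hmem ⟨s, hs, rfl⟩
    have hle : ∀ k, (E k).map (algebraMap (G k ⊗[R] S₀) (R' ⊗[R] S₀)) ≤ q := fun k =>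
      Ideal.map_le_iff_le_comap.2 fun y hy => hEq (Ideal.subset_span ⟨k, y, hy, rfl⟩)
    have hmem : ∀ z, z ∈ q → ψ z ∈ Q.asIdeal := fun z hz => by
      have : z ∈ (PrimeSpectrum.comap ψ Q).asIdeal := by rw [hQ]; exact hz
      exact this
    have hflat := h Q.asIdeal (sup_le ?_ ?_)
    · obtain ⟨j, hj⟩ := Groth.Agent.Dev4.exists_stage_flatPt M₀ hcA ⟨q, hq⟩ (hQ ▸ (hψf Q).1 hflat)
      refine hKz j _ (fun a ha => ?_) hj
      show Groth.Agent.Dev4.bcMap R S₀ (G j) R' a ∈ q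
      have h2 : Groth.Agent.Dev4.bcMap R S₀ (G j) R' a = algebraMap (G j ⊗[R] S₀) (R' ⊗[R] S₀) a := by
        clear ha
        induction a using TensorProduct.induction_on with
        | zero => simp
        | add u v hu hv => simp only [map_add, hu, hv]
        | tmul x y => rfl
      rw [h2]
      exact hle j (Ideal.mem_map_of_mem _ (Ideal.mem_sup_right ha))
    · refine Ideal.map_le_iff_le_comap.2 (iSup_le fun k => Ideal.map_le_iff_le_comap.2 fun a ha => ?_)
      show algebraMap R' S' (algebraMap (G k) R' a) ∈ Q.asIdeal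
      rw [← hψa]
      refine hmem _ (hle k ?_)
      exact Ideal.mem_map_of_mem (algebraMap (G k ⊗[R] S₀) (R' ⊗[R] S₀))
        (Ideal.mem_sup_left (Ideal.mem_sup_left (Ideal.mem_map_of_mem (algebraMap (G k) (G k ⊗[R] S₀)) ha)))
    · rw [← IsLocalization.map_comap T S J, Ideal.map_map]
      refine Ideal.map_le_iff_le_comap.2 fun a ha => ?_
      show algebraMap S S' (algebraMap S₀ S a) ∈ Q.asIdeal
      rw [← hψs]
      obtain ⟨k⟩ := hne
      refine hmem _ ?_
      have h1 := hle k (Ideal.mem_map_of_mem (algebraMap (G k ⊗[R] S₀) (R' ⊗[R] S₀))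
        (Ideal.mem_sup_left (Ideal.mem_sup_right
          (Ideal.mem_map_of_mem (Algebra.TensorProduct.includeRight : S₀ →ₐ[R] G k ⊗[R] S₀).toRingHom ha))))
      have h2 : algebraMap (G k ⊗[R] S₀) (R' ⊗[R] S₀) ((1 : G k) ⊗ₜ[R] a) = (1 : R') ⊗ₜ[R] a :=
        congrArg (· ⊗ₜ[R] a) (map_one (algebraMap (G k) R'))
      exact h2 ▸ h1
  obtain ⟨t, ht, htE⟩ := hmeet
  have hstage : ∀ x ∈ E', ∃ l, ∃ y ∈ E l, algebraMap (G l ⊗[R] S₀) (R' ⊗[R] S₀) y = x := fun x hx => by
    induction hx using Submodule.span_induction with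
    | mem x hx => exact hx
    | zero => exact ⟨hne.some, 0, zero_mem _, map_zero _⟩
    | add u v _ _ hu hv =>
      obtain ⟨k, y, hy, rfl⟩ := hu
      obtain ⟨k', y', hy', rfl⟩ := hv
      obtain ⟨l, hkl, hkl'⟩ := directed_of (· ≤ ·) k k'
      exact ⟨l, _, add_mem (hmono k l hkl (Ideal.mem_map_of_mem _ hy)) (hmono k' l hkl' (Ideal.mem_map_of_mem _ hy')), by
        rw [map_add]
        exact congrArg₂ (· + ·) (RingHom.congr_fun (hcompat k l hkl) y) (RingHom.congr_fun (hcompat k' l hkl') y')⟩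
    | smul c v _ hv =>
      obtain ⟨k, y, hy, rfl⟩ := hv
      obtain ⟨k', c', rfl⟩ := hsurj c
      obtain ⟨l, hkl, hkl'⟩ := directed_of (· ≤ ·) k k'
      exact ⟨l, _, Ideal.mul_mem_left (E l) ((Algebra.TensorProduct.map (gA k' l hkl') (AlgHom.id R S₀)).toRingHom c')
        (hmono k l hkl (Ideal.mem_map_of_mem _ hy)), by
        rw [map_mul, smul_eq_mul]
        exact congrArg₂ (· * ·) (RingHom.congr_fun (hcompat k' l hkl') c') (RingHom.congr_fun (hcompat k l hkl) y)⟩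
  obtain ⟨l, y, hy, hyt⟩ := hstage _ htE
  have h0 : algebraMap (G l ⊗[R] S₀) (R' ⊗[R] S₀) (y - (1 : G l) ⊗ₜ[R] t) = 0 := by
    rw [map_sub, hyt, sub_eq_zero]
    exact (congrArg (· ⊗ₜ[R] t) (map_one (algebraMap (G l) R'))).symm
  obtain ⟨i, hli, hi⟩ := hzero l _ h0
  have hti : (1 : G i) ⊗ₜ[R] t ∈ E i := by
    rw [map_sub, sub_eq_zero] at hi
    have h2 : Algebra.TensorProduct.map (gA l i hli) (AlgHom.id R S₀) ((1 : G l) ⊗ₜ[R] t) = (1 : G i) ⊗ₜ[R] t :=
      congrArg (· ⊗ₜ[R] t) (map_one (gA l i hli))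
    rw [← h2]
    exact hi ▸ hmono l i hli (Ideal.mem_map_of_mem _ hy)
  refine ⟨i, ?_⟩
  intro Si Mi _ _ _ _ _ _ _ _ _ _ _ _ _ fi hfi q _ hq
  obtain ⟨ψ, hψa, hψs, hψf, -⟩ := Groth.Agent.Dev4.flatAt_chart (R := R) (S := S) (A := G i) M₀ T f₀ hf₀ fi hfi
  rw [hψf ⟨q, inferInstance⟩]
  by_contra hc
  have hsub : E i ≤ (PrimeSpectrum.comap ψ ⟨q, inferInstance⟩).asIdeal := by
    refine sup_le (sup_le ?_ ?_) fun a ha => (PrimeSpectrum.mem_vanishingIdeal _ _).1 ha _ hc
    · refine Ideal.map_le_iff_le_comap.2 fun a ha => ?_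
      show ψ (a ⊗ₜ[R] (1 : S₀)) ∈ q
      rw [hψa]
      exact hq (Ideal.mem_sup_left (Ideal.mem_map_of_mem _ ha))
    · refine Ideal.map_le_iff_le_comap.2 fun a ha => ?_
      show ψ ((1 : G i) ⊗ₜ[R] a) ∈ q
      rw [hψs]
      exact hq (Ideal.mem_sup_right (Ideal.mem_map_of_mem _ ha))
  have h3 : ψ ((1 : G i) ⊗ₜ[R] t) ∈ q := hsub hti
  rw [hψs] at h3
  exact (inferInstance : q.IsPrime).ne_top (Ideal.eq_top_of_isUnit_mem q h3
    ((IsLocalization.map_units S (⟨t, ht⟩ : T)).map (algebraMap S Si)))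

end Groth.Agent.S6928
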