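import Groth.Statements.S6929


set_option autoImplicit false
universe u
open EtAlg

namespace Groth.Agent.S6929

/-- Let `R` be a Noetherian ring, `ι` a finite index type, and `φ_i : A_i → B_i`, `ψ_i : Q → B_i`
surjective `R`-algebra maps, where `Q` and all `A_i`, `B_i` are `R`-algebras of finite type. Then
the fibre product ring `P = Q ×_{∏ B_i} ∏ A_i` (pairs `(q, a)` with `ψ_i(q) = φ_i(a_i)` for all `i`)
is an `R`-algebra of finite type. -/
theorem result (R : Type u) [CommRing R] [IsNoetherianRing R] {ι : Type u} [Fintype ι]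
    (Q : Type u) [CommRing Q] [Algebra R Q] [Algebra.FiniteType R Q] (A B : ι → Type u) [∀ i, CommRing (A i)]
    [∀ i, CommRing (B i)] [∀ i, Algebra R (A i)] [∀ i, Algebra R (B i)] (hA : ∀ i, Algebra.FiniteType R (A i))
    (hB : ∀ i, Algebra.FiniteType R (B i)) (φ : ∀ i, A i →ₐ[R] B i) (ψ : ∀ i, Q →ₐ[R] B i)
    (hφ : ∀ i, Function.Surjective (φ i)) (hψ : ∀ i, Function.Surjective (ψ i)) :
    Algebra.FiniteType R ↥(AlgHom.equalizer ((AlgHom.pi ψ).comp (AlgHom.fst R Q (∀ i, A i)))
      ((AlgHom.pi fun i => (φ i).comp (Pi.evalAlgHom R A i)).comp (AlgHom.snd R Q (∀ i, A i)))) := by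
  classical
  set P := AlgHom.equalizer ((AlgHom.pi ψ).comp (AlgHom.fst R Q (∀ i, A i)))
      ((AlgHom.pi fun i => (φ i).comp (Pi.evalAlgHom R A i)).comp (AlgHom.snd R Q (∀ i, A i)))
  have mem : ∀ (q : Q) (a : ∀ i, A i), (∀ i, ψ i q = φ i (a i)) → (q, a) ∈ P := fun q a h => funext h
  have : Algebra.FiniteType R (∀ i, A i) := by
    choose t ht using fun i => (hA i).out
    refine ⟨⟨Finset.univ.biUnion fun i => (insert 1 (t i)).image (fun a => (Pi.single i a : ∀ i, A i)), ?_⟩⟩
    rw [eq_top_iff]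
    set S := Algebra.adjoin R (↑(Finset.univ.biUnion fun i => (insert 1 (t i)).image (fun a => (Pi.single i a : ∀ i, A i))) : Set (∀ i, A i))
    intro x _
    have hx : ∀ (i : ι) (a : A i), (Pi.single i a : ∀ i, A i) ∈ S := by
      intro i a
      have hgen : ∀ b ∈ insert 1 (t i), (Pi.single i b : ∀ i, A i) ∈ S := fun b hb =>
        Algebra.subset_adjoin (Finset.mem_coe.2 (Finset.mem_biUnion.2 ⟨i, Finset.mem_univ i, Finset.mem_image_of_mem _ hb⟩))
      have ha : a ∈ Algebra.adjoin R (t i : Set (A i)) := ht i ▸ Algebra.mem_top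
      induction ha using Algebra.adjoin_induction with
      | mem b hb => exact hgen b (Finset.mem_insert_of_mem hb)
      | algebraMap r =>
        rw [Algebra.algebraMap_eq_smul_one, Pi.single_smul]
        exact S.smul_mem (hgen 1 (Finset.mem_insert_self _ _)) r
      | add b c _ _ hb hc => rw [Pi.single_add]; exact S.add_mem hb hc
      | mul b c _ _ hb hc => rw [Pi.single_mul]; exact S.mul_mem hb hc
    rw [← Finset.univ_sum_single x]
    exact S.sum_mem fun i _ => hx i _
  choose σ hσ using hφ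
  choose τ hτ using hψ
  have hfin : Module.Finite ↥P (Q × (∀ i, A i)) := by
    refine Module.finite_def.2 ⟨insert ((1 : Q), (0 : ∀ i, A i)) (Finset.univ.image fun i => ((0 : Q), (Pi.single i 1 : ∀ i, A i))), ?_⟩
    rw [eq_top_iff]
    set N : Submodule ↥P (Q × (∀ i, A i)) := Submodule.span ↥P (↑(insert ((1 : Q), (0 : ∀ i, A i)) (Finset.univ.image fun i => ((0 : Q), (Pi.single i 1 : ∀ i, A i)))) : Set (Q × (∀ i, A i))) with hN
    rintro ⟨q, a⟩ -
    have h1 : (q, (0 : ∀ i, A i)) ∈ N := by
      have := N.smul_mem (⟨(q, fun i => σ i (ψ i q)), mem _ _ fun i => (hσ i _).symm⟩ : ↥P)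
        (Submodule.subset_span (Finset.mem_coe.2 (Finset.mem_insert_self _ _)))
      simpa [Subalgebra.smul_def] using this
    have h2 : ∀ i, ((0 : Q), (Pi.single i (a i) : ∀ i, A i)) ∈ N := by
      intro i
      have := N.smul_mem
        (⟨(τ i (φ i (a i)), Function.update (fun j => σ j (ψ j (τ i (φ i (a i))))) i (a i)), mem _ _ fun j => by
          rcases eq_or_ne j i with rfl | hj
          · rw [Function.update_self, hτ]
          · rw [Function.update_of_ne hj, hσ]⟩ : ↥P)
        (Submodule.subset_span (Finset.mem_coe.2 (Finset.mem_insert_of_mem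
          (Finset.mem_image_of_mem (fun i => ((0 : Q), (Pi.single i 1 : ∀ i, A i))) (Finset.mem_univ i)))))
      convert this using 1
      refine Prod.ext (by simp [Subalgebra.smul_def]) (funext fun j => ?_)
      rcases eq_or_ne j i with rfl | hj
      · simp [Subalgebra.smul_def]
      · simp [Subalgebra.smul_def, Pi.single_eq_of_ne hj]
    have h3 := N.add_mem h1 (N.sum_mem (t := Finset.univ) fun i _ => h2 i)
    convert h3 using 1
    rw [← prod_mk_sum, Finset.sum_const_zero, Finset.univ_sum_single, Prod.mk_add_mk, add_zero, zero_add]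
  exact ⟨fg_of_fg_of_fg R ↥P (Q × (∀ i, A i)) Algebra.FiniteType.out hfin.fg_top Subtype.coe_injective⟩

end Groth.Agent.S6929
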