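import Groth.Statements.S6932
import Groth.Agent.Lib.GlobalFP7.Basic
import Mathlib.RingTheory.MvPolynomial.Localization
import Mathlib.RingTheory.FinitePresentation
import Mathlib.RingTheory.Localization.Algebra

set_option autoImplicit false
universe u
open CAlg

namespace Groth.Agent.S6932

/-- Let `R → S` be a ring map of finite type with `S` flat over `R`, such that `R → ∏_j R_{𝔭_j}` is
injective for some finite set of primes `𝔭_j` and each localization `S_𝔭` (at a prime `𝔭` of `R`) is
a finitely presented `R_𝔭`-algebra. Then `S` is a finitely presented `R`-algebra. -/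
theorem result {R S : Type u} [CommRing R] [CommRing S]
    [Algebra R S] [Algebra.FiniteType R S] [Module.Flat R S] (s : Finset (PrimeSpectrum R))
    (hs : Function.Injective fun r : R => fun p : s => algebraMap R (Localization.AtPrime p.1.asIdeal) r)
    (hloc : ∀ (p : Ideal R) [p.IsPrime],
      Algebra.FinitePresentation (Localization.AtPrime p) (Localization (Algebra.algebraMapSubmonoid S p.primeCompl))) :
    Algebra.FinitePresentation R S := by
  obtain ⟨n, φ, hφ⟩ := Algebra.FiniteType.iff_quotient_mvPolynomial''.1 (inferInstance : Algebra.FiniteType R S)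
  have hfg : ∀ (p : Ideal R) [p.IsPrime],
      Groth.Agent.GlobalFP7.FGUpTo (Algebra.algebraMapSubmonoid (MvPolynomial (Fin n) R) p.primeCompl)
        (RingHom.ker φ : Ideal (MvPolynomial (Fin n) R)) := by
    intro p _
    haveI := hloc p
    letI := MvPolynomial.algebraMvPolynomial (σ := Fin n) (R := R) (S := Localization.AtPrime p)
    haveI : IsLocalization (Algebra.algebraMapSubmonoid (MvPolynomial (Fin n) R) p.primeCompl)
        (MvPolynomial (Fin n) (Localization.AtPrime p)) :=
      MvPolynomial.isLocalization p.primeCompl (Localization.AtPrime p)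
    have hT : (Algebra.algebraMapSubmonoid (MvPolynomial (Fin n) R) p.primeCompl).map (φ : MvPolynomial (Fin n) R →+* S) =
        Algebra.algebraMapSubmonoid S p.primeCompl :=
      Algebra.algebraMapSubmonoid_map_eq _ φ
    let Sp := Localization (Algebra.algebraMapSubmonoid S p.primeCompl)
    let ψ : MvPolynomial (Fin n) (Localization.AtPrime p) →ₐ[Localization.AtPrime p] Sp :=
      MvPolynomial.aeval fun i => algebraMap S Sp (φ (MvPolynomial.X i))
    have hψ : (ψ : MvPolynomial (Fin n) (Localization.AtPrime p) →+* Sp) =
        IsLocalization.map Sp (φ : MvPolynomial (Fin n) R →+* S) (hT.symm ▸ Submonoid.le_comap_map _) := by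
      refine IsLocalization.ringHom_ext (Algebra.algebraMapSubmonoid (MvPolynomial (Fin n) R) p.primeCompl) ?_
      rw [IsLocalization.map_comp]
      refine MvPolynomial.ringHom_ext (fun r => ?_) (fun i => ?_)
      · show (MvPolynomial.aeval fun i => algebraMap S Sp (φ (MvPolynomial.X i)))
            (MvPolynomial.map (algebraMap R (Localization.AtPrime p)) (MvPolynomial.C r)) = algebraMap S Sp (φ (algebraMap R _ r))
        rw [MvPolynomial.map_C, MvPolynomial.aeval_C, φ.commutes, ← IsScalarTower.algebraMap_apply,
          ← IsScalarTower.algebraMap_apply]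
      · show (MvPolynomial.aeval fun i => algebraMap S Sp (φ (MvPolynomial.X i)))
            (MvPolynomial.map (algebraMap R (Localization.AtPrime p)) (MvPolynomial.X i)) = algebraMap S Sp (φ (MvPolynomial.X i))
        rw [MvPolynomial.map_X, MvPolynomial.aeval_X]
    have hsurj : Function.Surjective ψ := by
      intro y
      obtain ⟨x, t, rfl⟩ := IsLocalization.exists_mk'_eq (Algebra.algebraMapSubmonoid S p.primeCompl) y
      obtain ⟨P, rfl⟩ := hφ x
      obtain ⟨r, hr, ht⟩ := t.2
      refine ⟨IsLocalization.mk' _ P (⟨algebraMap R _ r, r, hr, rfl⟩ :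
        Algebra.algebraMapSubmonoid (MvPolynomial (Fin n) R) p.primeCompl), ?_⟩
      show (ψ : MvPolynomial (Fin n) (Localization.AtPrime p) →+* Sp) _ = _
      rw [hψ, IsLocalization.map_mk']
      congr 1
      exact Subtype.ext ((φ.commutes r).trans ht)
    have hker := Algebra.FinitePresentation.ker_fG_of_surjective ψ hsurj
    rw [AlgHom.toRingHom_eq_coe, hψ, IsLocalization.ker_map _ _ hT] at hker
    refine Groth.Agent.GlobalFP7.fgUpTo_of_localized'
      (B' := MvPolynomial (Fin n) (Localization.AtPrime p)) (P' := MvPolynomial (Fin n) (Localization.AtPrime p)) _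
      (Algebra.linearMap (MvPolynomial (Fin n) R) (MvPolynomial (Fin n) (Localization.AtPrime p))) _ ?_
    rwa [Ideal.localized'_eq_map]
  have hflat : Module.Flat R (MvPolynomial (Fin n) R ⧸ (RingHom.ker φ : Ideal (MvPolynomial (Fin n) R))) :=
    Module.Flat.of_linearEquiv (Ideal.quotientKerAlgEquivOfSurjective hφ).toLinearEquiv
  exact Algebra.FinitePresentation.of_surjective hφ
    (Groth.Agent.GlobalFP7.fg_of_fgUpTo (R := R) (RingHom.ker φ : Ideal (MvPolynomial (Fin n) R))
      (fun j : s => j.1.asIdeal.primeCompl) hs (fun j => hfg _) (fun p _ => hfg p))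

end Groth.Agent.S6932
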