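import Groth.Statements.S6934
import Mathlib.RingTheory.Localization.Away.Basic
import Mathlib.Tactic.LinearCombination

set_option autoImplicit false
universe u
open EtAlg

namespace Groth.Agent.S6934

/-- Let `s : B → R`, `t : R' → R` be ring maps and `B' = B ×_R R'` the fibre product ring, i.e. a ring
`B'` with maps `p : B' → B`, `q : B' → R'`, `s ∘ p = t ∘ q`, such that `(p, q)` is injective with
image the pairs `(b, r')` with `s(b) = t(r')`. Let `h ∈ B'` with images `g = p(h)`, `f = q(h)`. Then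
the square of localizations `B'_h → B_g`, `B'_h → R'_f`, `B_g → R_{s(g)}`, `R'_f → R_{t(f)} =
R_{s(g)}` (the induced maps) is cartesian as well: `B'_h = B_g ×_{R_{s(g)}} R'_f`. -/
theorem result {B R R' B' : Type u} [CommRing B] [CommRing R] [CommRing R'] [CommRing B']
    (s : B →+* R) (t : R' →+* R) (p : B' →+* B) (q : B' →+* R') (hc : s.comp p = t.comp q)
    (hinj : ∀ x y : B', p x = p y → q x = q y → x = y) (hsurj : ∀ (b : B) (r' : R'), s b = t r' → ∃ x : B', p x = b ∧ q x = r')
    (h : B') (Bh Bg Rf Rsg : Type u) [CommRing Bh] [CommRing Bg] [CommRing Rf] [CommRing Rsg]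
    [Algebra B' Bh] [IsLocalization.Away h Bh] [Algebra B Bg] [IsLocalization.Away (p h) Bg]
    [Algebra R' Rf] [IsLocalization.Away (q h) Rf] [Algebra R Rsg] [IsLocalization.Away (s (p h)) Rsg]
    (pL : Bh →+* Bg) (qL : Bh →+* Rf) (sL : Bg →+* Rsg) (tL : Rf →+* Rsg)
    (hp : pL.comp (algebraMap B' Bh) = (algebraMap B Bg).comp p) (hq : qL.comp (algebraMap B' Bh) = (algebraMap R' Rf).comp q)
    (hs : sL.comp (algebraMap B Bg) = (algebraMap R Rsg).comp s) (ht : tL.comp (algebraMap R' Rf) = (algebraMap R Rsg).comp t) :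
    (∀ x y : Bh, pL x = pL y → qL x = qL y → x = y) ∧
    (∀ (b : Bg) (r : Rf), sL b = tL r → ∃ x : Bh, pL x = b ∧ qL x = r) := by
  have hst : s (p h) = t (q h) := RingHom.congr_fun hc h
  have hpm : ∀ a, pL (algebraMap B' Bh a) = algebraMap B Bg (p a) := fun a => RingHom.congr_fun hp a
  have hqm : ∀ a, qL (algebraMap B' Bh a) = algebraMap R' Rf (q a) := fun a => RingHom.congr_fun hq a
  have hsm : ∀ a, sL (algebraMap B Bg a) = algebraMap R Rsg (s a) := fun a => RingHom.congr_fun hs a
  have htm : ∀ a, tL (algebraMap R' Rf a) = algebraMap R Rsg (t a) := fun a => RingHom.congr_fun ht a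
  refine ⟨fun x y hx hy => ?_, fun b r hbr => ?_⟩
  · obtain ⟨⟨a, ⟨_, n, rfl⟩⟩, ha⟩ := IsLocalization.surj (Submonoid.powers h) x
    obtain ⟨⟨c, ⟨_, m, rfl⟩⟩, hc'⟩ := IsLocalization.surj (Submonoid.powers h) y
    dsimp only at ha hc'
    have hu : ∀ k, IsUnit (algebraMap B' Bh (h ^ k)) := fun k =>
      IsLocalization.map_units Bh (⟨h ^ k, k, rfl⟩ : Submonoid.powers h)
    have key : algebraMap B' Bh (a * h ^ m) = algebraMap B' Bh (c * h ^ n) := by
      have h1 : algebraMap B Bg (p (a * h ^ m)) = algebraMap B Bg (p (c * h ^ n)) := by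
        rw [← hpm, ← hpm, map_mul (algebraMap B' Bh), map_mul (algebraMap B' Bh), ← ha, ← hc']
        simp only [map_mul, hx]
        ring
      have h2 : algebraMap R' Rf (q (a * h ^ m)) = algebraMap R' Rf (q (c * h ^ n)) := by
        rw [← hqm, ← hqm, map_mul (algebraMap B' Bh), map_mul (algebraMap B' Bh), ← ha, ← hc']
        simp only [map_mul, hy]
        ring
      obtain ⟨⟨_, k, rfl⟩, hk⟩ := (IsLocalization.eq_iff_exists (Submonoid.powers (p h)) Bg).1 h1
      obtain ⟨⟨_, l, rfl⟩, hl⟩ := (IsLocalization.eq_iff_exists (Submonoid.powers (q h)) Rf).1 h2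
      dsimp only at hk hl
      refine (IsLocalization.eq_iff_exists (Submonoid.powers h) Bh).2 ⟨⟨h ^ (k + l), k + l, rfl⟩, hinj _ _ ?_ ?_⟩
      · calc p (h ^ (k + l) * (a * h ^ m)) = p h ^ l * (p h ^ k * p (a * h ^ m)) := by
              rw [map_mul, map_pow, pow_add]; ring
          _ = p h ^ l * (p h ^ k * p (c * h ^ n)) := by rw [hk]
          _ = p (h ^ (k + l) * (c * h ^ n)) := by rw [map_mul p (h ^ (k + l)), map_pow, pow_add]; ring
      · calc q (h ^ (k + l) * (a * h ^ m)) = q h ^ k * (q h ^ l * q (a * h ^ m)) := by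
              rw [map_mul, map_pow, pow_add]; ring
          _ = q h ^ k * (q h ^ l * q (c * h ^ n)) := by rw [hl]
          _ = q (h ^ (k + l) * (c * h ^ n)) := by rw [map_mul q (h ^ (k + l)), map_pow, pow_add]; ring
    rw [map_mul, map_mul, ← ha, ← hc'] at key
    apply (hu n).mul_right_cancel
    apply (hu m).mul_right_cancel
    rw [key]
    ring
  · obtain ⟨⟨β, ⟨_, n, rfl⟩⟩, hβ⟩ := IsLocalization.surj (Submonoid.powers (p h)) b
    obtain ⟨⟨ρ, ⟨_, m, rfl⟩⟩, hρ⟩ := IsLocalization.surj (Submonoid.powers (q h)) r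
    dsimp only at hβ hρ
    have key : algebraMap R Rsg (s (β * p h ^ m)) = algebraMap R Rsg (t (ρ * q h ^ n)) := by
      rw [← hsm, ← htm, map_mul (algebraMap B Bg), map_mul (algebraMap R' Rf), ← hβ, ← hρ]
      simp only [map_mul, map_pow, hsm, htm, hst, hbr]
      ring
    obtain ⟨⟨_, k, rfl⟩, hk⟩ := (IsLocalization.eq_iff_exists (Submonoid.powers (s (p h))) Rsg).1 key
    dsimp only at hk
    obtain ⟨x, hx1, hx2⟩ := hsurj (β * p h ^ (m + k)) (ρ * q h ^ (n + k)) (by
      simp only [map_mul, map_pow, ← hst, pow_add] at hk ⊢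
      linear_combination hk)
    refine ⟨IsLocalization.mk' Bh x (⟨h ^ (n + m + k), _, rfl⟩ : Submonoid.powers h), ?_, ?_⟩
    · have hu : IsUnit (algebraMap B Bg (p h ^ (n + m + k))) :=
        IsLocalization.map_units Bg (⟨_, n + m + k, rfl⟩ : Submonoid.powers (p h))
      apply hu.mul_right_cancel
      have e := congrArg pL (IsLocalization.mk'_spec Bh x (⟨h ^ (n + m + k), _, rfl⟩ : Submonoid.powers h))
      rw [map_mul, hpm, hpm, hx1, map_pow] at e
      rw [e, map_mul, ← hβ]
      simp only [map_mul, map_pow, pow_add]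
      ring
    · have hu : IsUnit (algebraMap R' Rf (q h ^ (n + m + k))) :=
        IsLocalization.map_units Rf (⟨_, n + m + k, rfl⟩ : Submonoid.powers (q h))
      apply hu.mul_right_cancel
      have e := congrArg qL (IsLocalization.mk'_spec Bh x (⟨h ^ (n + m + k), _, rfl⟩ : Submonoid.powers h))
      rw [map_mul, hqm, hqm, hx2, map_pow] at e
      rw [e, map_mul, ← hρ]
      simp only [map_mul, map_pow, pow_add]
      ring

end Groth.Agent.S6934
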