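import Groth.Statements.S6936
import Groth.Agent.Lib.DMod.PCHomology

set_option autoImplicit false
universe u
open CategoryTheory CategoryTheory.Limits
attribute [local instance] HasDerivedCategory.standard
open DRing

namespace Groth.Agent.S6936

/-- Let R be a commutative ring, m an integer and K an object of D(R). If H^i(K) = 0 for every i > m +
1, H^(m+1)(K) is a finitely presented R-module and H^m(K) is a finitely generated R-module, then K
is m-pseudo-coherent. -/
theorem result (R : Type u) [CommRing R]
    (m : ℤ) (K : Dual.D R) (hvan : ∀ i : ℤ, m + 1 < i → Subsingleton (Dual.HD R K i))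
    (hfp : Module.FinitePresentation R (Dual.HD R K (m + 1))) (hfin : Module.Finite R (Dual.HD R K m)) :
    DRing.IsPseudoCoherent R m K := by
  have := (Groth.Agent.DMod.isLE_iff K (m + 1)).2 hvan
  refine Groth.Agent.DMod.pc_of_homology (b := m + 1) fun i hi => ?_
  rcases eq_or_lt_of_le hi with rfl | hi'
  · rw [sub_self]; exact (Groth.Agent.DMod.pcModule_zero_iff _).2 hfin
  rcases eq_or_lt_of_le (show m + 1 ≤ i by omega) with rfl | hi''
  · rw [show m - (m + 1) = (-1 : ℤ) by omega]
    exact (Groth.Agent.DMod.pcModule_negOne_iff _).2 hfp
  · have := hvan i hi''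
    have := Module.Free.of_subsingleton R (Dual.HD R K i)
    exact Groth.Agent.DMod.pcModule_finiteFree _ _

end Groth.Agent.S6936
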