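import Groth.Statements.S6939
import Groth.Agent.Lib.DMod.PCHomology

set_option autoImplicit false
universe u
open CategoryTheory CategoryTheory.Limits
attribute [local instance] HasDerivedCategory.standard
open DRing

namespace Groth.Agent.S6939

/-- Let R be a commutative ring, m an integer and K an object of D(R) whose cohomology vanishes in large
degrees. If the module H^i(K) is (m - i)-pseudo-coherent for every i, then K is m-pseudo-coherent;
if every H^i(K) is a pseudo-coherent module, then K is pseudo-coherent. -/
theorem result (R : Type u) [CommRing R] (m : ℤ)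
    (K : Dual.D R) (hb : ∃ b : ℤ, ∀ i : ℤ, b < i → Subsingleton (Dual.HD R K i)) :
    ((∀ i : ℤ, DRing.IsPseudoCoherentModule R (m - i) (Dual.HD R K i)) → DRing.IsPseudoCoherent R m K) ∧
      ((∀ i : ℤ, DRing.IsPseudoCoherentModule' R (Dual.HD R K i)) → DRing.IsPseudoCoherent' R K) := by
  obtain ⟨b, hb⟩ := hb
  have := (Groth.Agent.DMod.isLE_iff K b).2 hb
  exact ⟨fun h => Groth.Agent.DMod.pc_of_homology (b := b) fun i _ => h i,
    fun h => (Groth.Agent.DMod.pc'_iff _).2 fun n => Groth.Agent.DMod.pc_of_homology (b := b)
      fun i _ => (Groth.Agent.DMod.pcModule'_iff _).1 (h i) _⟩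

end Groth.Agent.S6939
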