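import Groth.Statements.S6941
import Groth.Agent.Lib.DBaseChange.Descent
import Groth.Agent.Lib.DMod.Resolve

set_option autoImplicit false
universe u
open CategoryTheory CategoryTheory.Limits
attribute [local instance] HasDerivedCategory.standard
open DRing

namespace Groth.Agent.S6941

/-- Let R → R' be a faithfully flat homomorphism of commutative rings, K a cochain complex of R-modules
and m an integer. If the termwise base change K ⊗_R R' is m-pseudo-coherent in D(R'), then K is
m-pseudo-coherent in D(R); if K ⊗_R R' is pseudo-coherent, then K is pseudo-coherent. -/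
theorem result {R R' : Type u} [CommRing R] [CommRing R']
    [Algebra R R'] [Module.FaithfullyFlat R R'] (K : DRing.Cx R) (m : ℤ) :
    (DRing.IsPseudoCoherent R' m (DRing.toD (((ModuleCat.extendScalars (algebraMap R R')).mapHomologicalComplex
        (ComplexShape.up ℤ)).obj K)) → DRing.IsPseudoCoherent R m (DRing.toD K)) ∧
      (DRing.IsPseudoCoherent' R' (DRing.toD (((ModuleCat.extendScalars (algebraMap R R')).mapHomologicalComplex
        (ComplexShape.up ℤ)).obj K)) → DRing.IsPseudoCoherent' R (DRing.toD K)) := by
  have h := Groth.Agent.DBaseChange.jointlyFF_of_faithfullyFlat (algebraMap R R')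
    (RingHom.faithfullyFlat_algebraMap_iff.2 inferInstance)
  refine ⟨fun hK => Groth.Agent.DBaseChange.pc_descend h K m fun _ => hK, fun hK => ?_⟩
  rw [Groth.Agent.DMod.pc'_iff] at hK ⊢
  exact fun n => Groth.Agent.DBaseChange.pc_descend h K n fun _ => hK n

end Groth.Agent.S6941
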