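import Groth.Statements.S6942
import Groth.Agent.Lib.DMod.PCHomology

set_option autoImplicit false
universe u
open CategoryTheory CategoryTheory.Limits
attribute [local instance] HasDerivedCategory.standard
open DRing

namespace Groth.Agent.S6942

/-- Let R be a Noetherian commutative ring and m an integer. An object K of D(R) is m-pseudo-coherent
exactly when H^i(K) = 0 for all large i and H^i(K) is a finitely generated R-module for each i ≥ m.
Every finitely generated R-module M is pseudo-coherent, and conversely. -/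
theorem result (R : Type u) [CommRing R]
    [IsNoetherianRing R] (m : ℤ) (K : Dual.D R) (M : Type u) [AddCommGroup M] [Module R M] :
    (DRing.IsPseudoCoherent R m K ↔
      (∃ b : ℤ, ∀ i : ℤ, b < i → Subsingleton (Dual.HD R K i)) ∧ ∀ i : ℤ, m ≤ i → Module.Finite R (Dual.HD R K i)) ∧
      (DRing.IsPseudoCoherentModule' R M ↔ Module.Finite R M) := by
  have hR := Groth.Agent.DMod.coherent_of_noetherian (A := R)
  refine ⟨⟨fun h => ?_, fun h => ?_⟩, ⟨fun h => ?_, fun h => ?_⟩⟩
  · obtain ⟨b, hb⟩ := Groth.Agent.DMod.pc_bddAbove h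
    obtain ⟨h1, h2⟩ := Groth.Agent.DMod.homology_of_pc hR h
    refine ⟨⟨b, (Groth.Agent.DMod.isLE_iff K b).1 hb⟩, fun i hi => ?_⟩
    rcases eq_or_lt_of_le hi with rfl | hi
    · exact h1
    · have := h2 i hi; infer_instance
  · obtain ⟨⟨b, hb⟩, h⟩ := h
    have := (Groth.Agent.DMod.isLE_iff K b).2 hb
    exact Groth.Agent.DMod.pc_of_homology (b := b) fun i hi =>
      have := h i hi; Groth.Agent.DMod.pcModule_of_noetherian _ _
  · exact (Groth.Agent.DMod.pcModule_zero_iff M).1 ((Groth.Agent.DMod.pcModule'_iff M).1 h 0)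
  · exact (Groth.Agent.DMod.pcModule'_iff M).2 (Groth.Agent.DMod.pcModule_of_noetherian M)

end Groth.Agent.S6942
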