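import Groth.Statements.S6944
import Groth.Agent.Lib.DMod.Amplitude

set_option autoImplicit false
universe u
open CategoryTheory CategoryTheory.Limits
attribute [local instance] HasDerivedCategory.standard
open DRing

namespace Groth.Agent.S6944

/-- Let R be a commutative ring and K a bounded above cochain complex of flat R-modules such that K, as
an object of D(R), has tor amplitude in [a, c] (it is isomorphic in D(R) to a complex of flat
modules vanishing outside [a, c]). Then the cokernel of the differential K^(a-1) → K^a is a flat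
R-module. -/
theorem result (R : Type u) [CommRing R] (K : DRing.Cx R) (b : ℤ)
    (hb : DRing.VanishesAbove K b) (hflat : DRing.TermwiseFlat K) (a c : ℤ)
    (hamp : DRing.HasTorAmplitudeIn R a c (DRing.toD K)) :
    Module.Flat R ((K.X a) ⧸ LinearMap.range (K.d (a - 1) a).hom) := by
  obtain ⟨E, hE, hEf, ⟨e⟩⟩ := hamp
  have hE' := (Groth.Agent.DMod.vanishesOutside_iff E a c).1 hE
  have := hE'.1
  have := hE'.2
  have := (Groth.Agent.DMod.vanishesAbove_iff K b).1 hb
  let B := max b c
  have : K.IsStrictlyLE B := K.isStrictlyLE_of_le b B (le_max_left _ _)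
  have : E.IsStrictlyLE B := E.isStrictlyLE_of_le c B (le_max_right _ _)
  have : (DRing.toD K).IsLE B := inferInstanceAs ((DerivedCategory.Q.obj K).IsLE B)
  obtain ⟨P, hP, hPf, ⟨eP⟩⟩ := Groth.Agent.DMod.exists_free_resolution (DRing.toD K) B
  have hproj : ∀ i, Module.Projective R (P.X i) := fun i => have := hPf i; inferInstance
  have := Groth.Agent.DMod.isKProjective B hproj
  have hPflat : ∀ i, Module.Flat R (P.X i) := fun i => have := hproj i; inferInstance
  have hbot := Groth.Agent.DMod.truncFrom_bot_mem Groth.Agent.DMod.resClass_flat a B (eP ≪≫ e.symm)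
    (fun i _ => hPflat i) hEf
  obtain ⟨φ, hφ⟩ := Groth.Agent.DMod.exists_map_eq eP.hom
  have : (DRing.toD E).IsGE a := inferInstanceAs ((DerivedCategory.Q.obj E).IsGE a)
  have : (DRing.toD K).IsGE a := (Groth.Agent.DMod.tS R).isGE_of_iso e a
  have : (DRing.toD P).IsGE a := (Groth.Agent.DMod.tS R).isGE_of_iso eP.symm a
  have := Groth.Agent.DMod.isIso_Q_map_truncFromπ P a
  have := Groth.Agent.DMod.isIso_Q_map_truncFromπ K a
  have hK := (Groth.Agent.DMod.vanishesOutside_iff _ a B).1
    (Groth.Agent.DMod.vanishesOutside_truncFrom K a B)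
  have := hK.1
  have := hK.2
  have hP' := (Groth.Agent.DMod.vanishesOutside_iff _ a B).1
    (Groth.Agent.DMod.vanishesOutside_truncFrom P a B)
  have := hP'.1
  have := hP'.2
  obtain ⟨g, hg⟩ := Groth.Agent.DMod.exists_truncFrom_desc P
    (φ ≫ Groth.Agent.DMod.truncFromπ K a) a
  have : IsIso (DerivedCategory.Q.map g) := by
    have : IsIso (DerivedCategory.Q.map (Groth.Agent.DMod.truncFromπ P a) ≫ DerivedCategory.Q.map g) := by
      rw [← Functor.map_comp, hg, Functor.map_comp, hφ]; infer_instance
    exact IsIso.of_isIso_comp_left (DerivedCategory.Q.map (Groth.Agent.DMod.truncFromπ P a)) _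
  have h : Module.Flat R ((Groth.Agent.DMod.truncFrom K a).X a) :=
    Groth.Agent.DMod.bottom_target_mem Groth.Agent.DMod.resClass_flat g a B
      (Groth.Agent.DMod.truncFrom_mem Groth.Agent.DMod.modClass_flat P a (fun i _ => hPflat i) hbot)
      (fun i hi => Groth.Agent.DMod.modClass_flat.equiv (Groth.Agent.DMod.truncFromXEquiv K hi) (hflat i))
  exact Groth.Agent.DMod.modClass_flat.equiv (Groth.Agent.DMod.truncFromBotEquiv K a).symm h

end Groth.Agent.S6944
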