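import Groth.Statements.S6951
import Groth.Agent.Lib.DBaseChange.ResLocal

set_option autoImplicit false
set_option linter.style.haveILetI false
set_option backward.isDefEq.respectTransparency false
universe u
open CategoryTheory CategoryTheory.Limits
attribute [local instance] HasDerivedCategory.standard
open DRing

namespace Groth.Agent.S6951

/-- Let R → A → B be homomorphisms of commutative rings with A → B faithfully flat, such that the
derived base change D(A) → D(B) exists, and let K be an object of D(A). Then for all integers a, b,
the following are equivalent: the restriction of K to D(R) is of tor amplitude within [a, b]; the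
restriction of K ⊗^L_A B to D(R) is of tor amplitude within [a, b]. -/
theorem result {R A B : Type u}
    [CommRing R] [CommRing A] [CommRing B] [Algebra R A] [Algebra A B] [Algebra R B] [IsScalarTower R A B]
    [Module.FaithfullyFlat A B] [DRing.HasLBaseChange (algebraMap A B)] (K : Dual.D A) (a b : ℤ) :
    DRing.HasTorAmplitudeIn R a b ((DRing.restrictD (algebraMap R A)).obj K) ↔
      DRing.HasTorAmplitudeIn R a b ((DRing.restrictD (algebraMap R B)).obj ((DRing.LBaseChange (algebraMap A B)).obj K)) := by
  let X := DerivedCategory.Q.objPreimage K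
  let e : DerivedCategory.Q.obj X ≅ K := DerivedCategory.Q.objObjPreimageIso K
  obtain ⟨W, q, hW1, hW2, hW3, hq, -⟩ := Groth.Agent.KFlat.exists_resolution
    (T := Groth.Agent.KFlat.Module.TM A) Groth.Agent.KFlat.Module.cover
    Groth.Agent.KFlat.Module.isFlat_cover X
  haveI : IsIso (DerivedCategory.Q.map q) :=
    (DerivedCategory.isIso_Q_map_iff_quasiIso (ModuleCat.{u} A) q).2 hq
  let eW : DRing.toD W ≅ K := asIso (DerivedCategory.Q.map q) ≪≫ e
  let eA := (DRing.restrictD (algebraMap R A)).mapIso eW.symm ≪≫
    (ModuleCat.restrictScalars.{u} (algebraMap R A)).mapDerivedCategoryFactors.app W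
  let eB := (DRing.restrictD (algebraMap R B)).mapIso
      ((DRing.LBaseChange (algebraMap A B)).mapIso eW.symm ≪≫
        Groth.Agent.DBaseChange.valueIso (algebraMap A B) W ⟨hW1, hW2, hW3⟩) ≪≫
    (ModuleCat.restrictScalars.{u} (algebraMap R B)).mapDerivedCategoryFactors.app _
  have key := Groth.Agent.DBaseChange.torAmp_res_ext_faithfullyFlat_iff (S := B) (algebraMap R A)
    (algebraMap R B) (IsScalarTower.algebraMap_eq R A B) W a b
  exact ⟨fun h => Groth.Agent.DBaseChange.hasTorAmplitudeIn_of_iso eB.symm
      (key.1 (Groth.Agent.DBaseChange.hasTorAmplitudeIn_of_iso eA h)),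
    fun h => Groth.Agent.DBaseChange.hasTorAmplitudeIn_of_iso eA.symm
      (key.2 (Groth.Agent.DBaseChange.hasTorAmplitudeIn_of_iso eB h))⟩

end Groth.Agent.S6951
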