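import Groth.Statements.S6954
import Groth.Agent.Lib.DMod.Amplitude

set_option autoImplicit false
universe u
open CategoryTheory CategoryTheory.Limits
attribute [local instance] HasDerivedCategory.standard
open DRing

namespace Groth.Agent.S6954

/-- Let R be a commutative ring and K an object of D(R). Then K is perfect (isomorphic in D(R) to a
bounded complex of finite projective modules) if and only if K is pseudo-coherent (isomorphic to a
bounded above complex of finite free modules) and has finite tor dimension (isomorphic to a bounded
complex of flat modules). -/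
theorem result (R : Type u) [CommRing R] (K : Dual.D R) :
    DRing.IsPerfect R K ↔ DRing.IsPseudoCoherent' R K ∧ DRing.HasFiniteTorDimCx R K := by
  constructor
  · intro h
    refine ⟨Groth.Agent.DMod.pc'_of_perfect h, ?_⟩
    obtain ⟨E, a, b, hE, hF, e⟩ := h
    exact ⟨a, b, E, hE, fun i => have := (hF i).2; inferInstance, e⟩
  · rintro ⟨hpc, a, b, hflat⟩
    obtain ⟨E, hE, hF, e⟩ :=
      Groth.Agent.DMod.exists_finProjAmp ((Groth.Agent.DMod.pc'_iff K).1 hpc (a - 1)) hflat
    exact ⟨E, a, b, hE, hF, e⟩

end Groth.Agent.S6954
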