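import Groth.Statements.S6963
import Groth.Agent.Lib.KFlat.RHomCxComp
-- import your own Groth.Agent.* helpers here

set_option autoImplicit false
set_option backward.isDefEq.respectTransparency false
universe u
open CategoryTheory CategoryTheory.Limits
attribute [local instance] HasDerivedCategory.standard
open DRing

namespace Groth.Agent.S6963

/-- Let A be a commutative ring and K a perfect object of D(A), represented by a cochain complex E for
which RHom_A(E, -) exists; write K^∨ = RHom_A(E, A). Then K^∨ is a perfect object of D(A), and for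
every cochain complex E' representing K^∨ for which RHom_A(E', -) exists, RHom_A(E', A) is
isomorphic to K in D(A) (existence of an isomorphism only; the canonical one is the double-duality
map). -/
theorem result (A : Type u) [CommRing A] (K : Dual.D A) (hK : DRing.IsPerfect A K)
    (E : DRing.Cx A) (eK : DRing.toD E ≅ K) [DRing.HasRHomCx E] :
    DRing.IsPerfect A ((DRing.RHomCx E).obj (Dual.inD A A)) ∧
      ∀ (E' : DRing.Cx A) (eK' : DRing.toD E' ≅ (DRing.RHomCx E).obj (Dual.inD A A)) [DRing.HasRHomCx E'],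
        Nonempty ((DRing.RHomCx E').obj (Dual.inD A A) ≅ K) := by
  haveI : DTen.HasLTen A := Groth.Agent.KFlat.DT.hasLTen
  haveI : DTen.HasRHom A := Groth.Agent.KFlat.HomD.hasRHom A
  obtain ⟨E₀, a, b, hb, hE₀, ⟨e⟩⟩ := hK
  have : E₀.IsStrictlyLE b := (CochainComplex.isStrictlyLE_iff E₀ b).2 fun i hi => hb i (Or.inr hi)
  have : E₀.IsKProjective := Groth.Agent.DMod.isKProjective b fun i => (hE₀ i).2
  let u₀ : Dual.inD A A ≅ DerivedCategory.Q.obj (MonoidalCategory.tensorUnit (DRing.Cx A)) := Iso.refl _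
  obtain ⟨r⟩ := Groth.Agent.KFlat.HomD.nonempty_rHomCx_iso E
  obtain ⟨v⟩ := Groth.Agent.KFlat.HomD.nonempty_rHomR_unit_iso E₀ (e ≪≫ eK.symm)
    (MonoidalCategory.tensorUnit (DRing.Cx A))
  let D := DRing.homCx E₀ (MonoidalCategory.tensorUnit (DRing.Cx A))
  obtain ⟨hD, hD'⟩ := Groth.Agent.KFlat.HomAdj.dual_strictlyPerfect E₀ hb hE₀
  let w : DerivedCategory.Q.obj D ≅ (DRing.RHomCx E).obj (Dual.inD A A) :=
    ((r.app _) ≪≫ (DTen.RHomR A (DerivedCategory.Q.obj E)).mapIso u₀ ≪≫ v).symm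
  refine ⟨⟨D, _, _, hD, hD', ⟨w⟩⟩, fun E' eK' _ => ?_⟩
  have : D.IsStrictlyLE (-a) := (CochainComplex.isStrictlyLE_iff D (-a)).2 fun i hi => hD i (Or.inr hi)
  have : D.IsKProjective := Groth.Agent.DMod.isKProjective (-a) fun i => (hD' i).2
  obtain ⟨r'⟩ := Groth.Agent.KFlat.HomD.nonempty_rHomCx_iso E'
  obtain ⟨v'⟩ := Groth.Agent.KFlat.HomD.nonempty_rHomR_unit_iso D (w ≪≫ eK'.symm)
    (MonoidalCategory.tensorUnit (DRing.Cx A))
  have := Groth.Agent.KFlat.HomAdj.isIso_ω E₀ hb hE₀ (MonoidalCategory.tensorUnit (DRing.Cx A))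
    (MonoidalCategory.tensorUnit (DRing.Cx A))
  let i₁ := (Adjunction.rightAdjointUniq (Groth.Agent.KFlat.HomAdj.adj (MonoidalCategory.tensorUnit (DRing.Cx A)))
    (Adjunction.id.ofNatIsoLeft (MonoidalCategory.rightUnitorNatIso (DRing.Cx A)).symm)).app
      (MonoidalCategory.tensorUnit (DRing.Cx A))
  exact ⟨r'.app _ ≪≫ (DTen.RHomR A (DerivedCategory.Q.obj E')).mapIso u₀ ≪≫ v' ≪≫
    DerivedCategory.Q.mapIso ((asIso (Groth.Agent.KFlat.HomAdj.ω E₀ _ _)).symm ≪≫
      (MonoidalCategory.tensorRight E₀).mapIso i₁ ≪≫ MonoidalCategory.leftUnitor E₀) ≪≫ e⟩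

end Groth.Agent.S6963
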