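import Groth.Statements.S6964
import Groth.Agent.Lib.DMod.Amplitude

set_option autoImplicit false
universe u
open CategoryTheory CategoryTheory.Limits
attribute [local instance] HasDerivedCategory.standard
open DRing

namespace Groth.Agent.S6964

/-- Let R be a commutative ring, K an object of D(R) and a, b integers. These four conditions are
equivalent: (1) the projective amplitude of K lies in [a, b], meaning K is isomorphic in D(R) to a
complex of projective R-modules vanishing outside [a, b]; (2) Hom(K, N[i]) = 0 in D(R) for every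
R-module N and every integer i outside [-b, -a]; (3) H^n(K) = 0 for all n > b and Hom(K, N[i]) = 0
for every R-module N and every i > -a; (4) H^n(K) = 0 for all n outside [a - 1, b] and Hom(K, N[-a +
1]) = 0 for every R-module N. -/
theorem result (R : Type u) [CommRing R] (K : Dual.D R) (a b : ℤ) :
    [∃ P : DRing.Cx R, DRing.VanishesOutside P a b ∧ (∀ i : ℤ, Module.Projective R (P.X i)) ∧
        Nonempty (DRing.toD P ≅ K),
      ∀ (N : Type u) [AddCommGroup N] [Module R N] (i : ℤ), (i < -b ∨ -a < i) →
        Subsingleton (DRing.ExtD R K (Dual.inD R N) i),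
      (∀ n : ℤ, b < n → Subsingleton (Dual.HD R K n)) ∧
        ∀ (N : Type u) [AddCommGroup N] [Module R N] (i : ℤ), -a < i → Subsingleton (DRing.ExtD R K (Dual.inD R N) i),
      (∀ n : ℤ, (n < a - 1 ∨ b < n) → Subsingleton (Dual.HD R K n)) ∧
        ∀ (N : Type u) [AddCommGroup N] [Module R N], Subsingleton (DRing.ExtD R K (Dual.inD R N) (-a + 1))].TFAE := by
  tfae_have 1 → 2 := by
    rintro ⟨P, hP, hproj, ⟨e⟩⟩ N _ _ i hi
    have := ((Groth.Agent.DMod.vanishesOutside_iff P a b).1 hP).2
    have := Groth.Agent.DMod.isKProjective b hproj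
    have := Groth.Agent.DMod.subsingleton_hom_single (P := P) (n := -i) (hP (-i) (by omega))
      (ModuleCat.of R N)
    let e' := Groth.Agent.DMod.singleShiftIso' i (ModuleCat.of R N)
    exact ⟨fun f g => (cancel_mono e'.hom).1 ((cancel_epi e.hom).1 (Subsingleton.elim _ _))⟩
  tfae_have 2 → 3 := by
    intro h
    refine ⟨fun n hn => Groth.Agent.DMod.subsingleton_HD_of_hom fun M => ?_,
      fun N _ _ i hi => h N i (Or.inr hi)⟩
    have := h M (-n) (Or.inl (by omega))
    let e' := Groth.Agent.DMod.singleShiftIso n M
    exact ⟨fun f g => (cancel_mono e'.inv).1 (Subsingleton.elim _ _)⟩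
  tfae_have 3 → 4 := by
    intro h
    refine ⟨fun n hn => ?_, fun N _ _ => h.2 N (-a + 1) (by omega)⟩
    rcases hn with hn | hn
    · refine Groth.Agent.DMod.subsingleton_HD_of_hom fun M => ?_
      have := h.2 M (-n) (by omega)
      let e' := Groth.Agent.DMod.singleShiftIso n M
      exact ⟨fun f g => (cancel_mono e'.inv).1 (Subsingleton.elim _ _)⟩
    · exact h.1 n hn
  tfae_have 4 → 1 := by
    intro h
    have := (Groth.Agent.DMod.isLE_iff K b).2 fun i hi => h.1 i (Or.inr hi)
    refine Groth.Agent.DMod.exists_projAmp a b (fun i hi => h.1 i (Or.inl hi)) fun M => ?_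
    have h2 := h.2 M
    rw [show -a + 1 = -(a - 1) by omega] at h2
    let e' := Groth.Agent.DMod.singleShiftIso (a - 1) M
    exact ⟨fun f g => (cancel_mono e'.inv).1 (h2.elim _ _)⟩
  tfae_finish

end Groth.Agent.S6964
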