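import Groth.Statements.S6966
import Mathlib.Algebra.Homology.DerivedCategory.Ext.ExactSequences
import Mathlib.Algebra.Homology.DerivedCategory.Ext.EnoughProjectives
import Mathlib.Algebra.Homology.DerivedCategory.Ext.Linear
import Mathlib.Algebra.Category.ModuleCat.Ext.Finite

set_option autoImplicit false
universe u
open CategoryTheory CategoryTheory.Limits
attribute [local instance] HasDerivedCategory.standard
open CAlg

namespace Groth.Agent.S6966




/-- Let R be a commutative ring, I an ideal of R and M an R-module. Then the following two conditions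
coincide: for each a ∈ I, the endomorphism of M given by multiplication by a can be written as a
composite M → P → M with P some projective R-module; and for every R-module N and every a ∈ I, a
annihilates Ext^1_R(M, N) = Hom(M[0], N[1]) in D(R). -/
theorem result (R : Type u) [CommRing R] (I : Ideal R) (M : Type u)
    [AddCommGroup M] [Module R M] :
    (∀ a ∈ I, ∃ (P : Type u) (_ : AddCommGroup P) (_ : Module R P) (_ : Module.Projective R P)
        (f : M →ₗ[R] P) (g : P →ₗ[R] M), g ∘ₗ f = a • LinearMap.id) ↔
      ∀ (N : Type u) [AddCommGroup N] [Module R N], ∀ a ∈ I,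
        ∀ x : DRing.ExtD R (Dual.inD R M) (Dual.inD R N) 1, a • x = 0 := by
  constructor
  · intro h N _ _ a ha x
    obtain ⟨P, _, _, _, f, g, hgf⟩ := h a ha
    haveI : Projective (ModuleCat.of R P) := (IsProjective.iff_projective _).mp inferInstance
    let x' : Abelian.Ext (ModuleCat.of R M) (ModuleCat.of R N) 1 := Abelian.Ext.homEquiv.symm x
    have h0 : a • x' = 0 := by
      rw [← Abelian.Ext.mk₀_id_comp x', ← Abelian.Ext.smul_comp, ← Abelian.Ext.mk₀_smul,
        show a • 𝟙 (ModuleCat.of R M) = ModuleCat.ofHom f ≫ ModuleCat.ofHom g from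
          ModuleCat.hom_ext hgf.symm,
        ← Abelian.Ext.mk₀_comp_mk₀_assoc, Abelian.Ext.eq_zero_of_projective
          ((Abelian.Ext.mk₀ (ModuleCat.ofHom g)).comp x' (zero_add 1)), Abelian.Ext.comp_zero]
    have h1 := congrArg Abelian.Ext.hom h0
    rw [Abelian.Ext.smul_hom, Abelian.Ext.zero_hom] at h1
    simp only [x', Abelian.Ext.hom, Equiv.apply_symm_apply] at h1
    exact h1
  · intro h a ha
    let π : (M →₀ R) →ₗ[R] M := Finsupp.linearCombination R (id : M → M)
    have hπ : Function.Surjective π := Finsupp.linearCombination_id_surjective R M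
    let K : Submodule R (M →₀ R) := LinearMap.ker π
    let ι : K →ₗ[R] (M →₀ R) := K.subtype
    let S : ShortComplex (ModuleCat.{u} R) := ShortComplex.moduleCatMk (X₁ := K) (X₂ := (M →₀ R)) (X₃ := M) ι π
      (LinearMap.comp_ker_subtype π)
    have hS : S.ShortExact :=
      ShortComplex.ShortExact.mk' ((ShortComplex.ShortExact.moduleCat_exact_iff_function_exact S).mpr
        (LinearMap.exact_subtype_ker_map π))
        ((ModuleCat.mono_iff_injective _).mpr (LinearMap.ker π).injective_subtype)
        ((ModuleCat.epi_iff_surjective _).mpr hπ)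
    have hδ : a • hS.extClass = 0 := by
      refine Abelian.Ext.ext ?_
      rw [Abelian.Ext.smul_hom, Abelian.Ext.zero_hom]
      exact h (LinearMap.ker π) a ha hS.extClass.hom
    obtain ⟨f, hf⟩ := Abelian.Ext.covariant_sequence_exact₃ _ hS (Abelian.Ext.mk₀ (a • 𝟙 S.X₃)) (zero_add 1) (by
      rw [Abelian.Ext.mk₀_smul, Abelian.Ext.smul_comp, Abelian.Ext.mk₀_id_comp, hδ])
    obtain ⟨φ, rfl⟩ := (Abelian.Ext.mk₀_bijective _ _).2 f
    rw [Abelian.Ext.mk₀_comp_mk₀] at hf
    refine ⟨(M →₀ R), inferInstance, inferInstance, inferInstance, φ.hom, π, ?_⟩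
    exact congrArg ModuleCat.Hom.hom ((Abelian.Ext.mk₀_bijective _ _).1 hf)

end Groth.Agent.S6966
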