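import Groth.Statements.S6967


set_option autoImplicit false
universe u
open CAlg

namespace Groth.Agent.S6967




/-- Let R be a commutative ring, I an ideal of R and 0 → K → P → M → 0 a short exact sequence of
R-modules with P projective. If multiplication by a on M factors through a projective R-module for
every a ∈ I, then multiplication by a on K factors through a projective R-module for every a ∈ I. -/
theorem result (R : Type u) [CommRing R] (I : Ideal R)
    {K P M : Type u} [AddCommGroup K] [Module R K] [AddCommGroup P] [Module R P] [Module.Projective R P]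
    [AddCommGroup M] [Module R M] (f : K →ₗ[R] P) (g : P →ₗ[R] M) (hf : Function.Injective f)
    (hg : Function.Surjective g) (hfg : LinearMap.range f = LinearMap.ker g)
    (hM : ∀ a ∈ I, ∃ (P : Type u) (_ : AddCommGroup P) (_ : Module R P) (_ : Module.Projective R P)
        (f : M →ₗ[R] P) (g : P →ₗ[R] M), g ∘ₗ f = a • LinearMap.id) :
    ∀ a ∈ I, ∃ (P : Type u) (_ : AddCommGroup P) (_ : Module R P) (_ : Module.Projective R P)
        (f : K →ₗ[R] P) (g : P →ₗ[R] K), g ∘ₗ f = a • LinearMap.id := by
  intro a ha
  obtain ⟨Q, _, _, _, f', g', hfg'⟩ := hM a ha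
  obtain ⟨h, hh⟩ := Module.projective_lifting_property g g' hg
  let φ : P →ₗ[R] P := a • LinearMap.id - h ∘ₗ f' ∘ₗ g
  have hφ : ∀ p, φ p ∈ LinearMap.range f := by
    intro p
    have h1 : g (h (f' (g p))) = a • g p :=
      (LinearMap.congr_fun hh (f' (g p))).trans (LinearMap.congr_fun hfg' (g p))
    rw [hfg, LinearMap.mem_ker]
    simp [φ, h1]
  let e := LinearEquiv.ofInjective f hf
  refine ⟨P, inferInstance, inferInstance, inferInstance, f, e.symm.toLinearMap ∘ₗ φ.codRestrict (LinearMap.range f) hφ, ?_⟩
  refine LinearMap.ext fun k => e.injective ?_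
  have h0 : g (f k) = 0 := LinearMap.mem_ker.1 (hfg ▸ LinearMap.mem_range_self f k)
  refine Subtype.ext ?_
  simp [e, φ, h0]

end Groth.Agent.S6967
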