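import Groth.Statements.S6968
import Mathlib

set_option autoImplicit false
universe u
open CAlg

namespace Groth.Agent.S6968




/-- Let R be a commutative ring, I an ideal of R and M a finitely generated R-module such that
multiplication by a on M factors through a projective R-module for every a ∈ I. Then multiplication
by a on the dual module Hom_R(M, R) factors through a projective R-module for every a ∈ I. -/
theorem result (R : Type u) [CommRing R] (I : Ideal R) (M : Type u) [AddCommGroup M]
    [Module R M] [Module.Finite R M]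
    (hM : ∀ a ∈ I, ∃ (P : Type u) (_ : AddCommGroup P) (_ : Module R P) (_ : Module.Projective R P)
        (f : M →ₗ[R] P) (g : P →ₗ[R] M), g ∘ₗ f = a • LinearMap.id) :
    ∀ a ∈ I, ∃ (P : Type u) (_ : AddCommGroup P) (_ : Module R P) (_ : Module.Projective R P)
        (f : Module.Dual R M →ₗ[R] P) (g : P →ₗ[R] Module.Dual R M), g ∘ₗ f = a • LinearMap.id := by
  classical
  intro a ha
  obtain ⟨P, _, _, _, f, g, hfg⟩ := hM a ha
  obtain ⟨σ, hσ⟩ := Module.projective_def.1 ‹Module.Projective R P›
  obtain ⟨t, ht⟩ := (Module.finite_def.1 ‹Module.Finite R M› : (⊤ : Submodule R M).FG)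
  let s : Finset P := t.biUnion fun m => (σ (f m)).support
  have hs : ∀ m : M, ((σ (f m)).support : Set P) ⊆ s := by
    have : Submodule.span R (t : Set M) ≤ (Finsupp.supported R R (s : Set P)).comap (σ ∘ₗ f) := by
      rw [Submodule.span_le]
      intro m hm p hp
      exact Finset.mem_coe.2 (Finset.mem_biUnion.2 ⟨m, hm, hp⟩)
    rw [ht] at this
    exact fun m => this Submodule.mem_top
  let f' : M →ₗ[R] (s → R) := LinearMap.pi fun i => Finsupp.lapply (i : P) ∘ₗ σ ∘ₗ f
  let g' : (s → R) →ₗ[R] M := Fintype.linearCombination R fun i : s => g i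
  have hgf : g' ∘ₗ f' = a • LinearMap.id := by
    rw [← hfg]
    refine LinearMap.ext fun m => ?_
    conv_rhs => rw [LinearMap.comp_apply, ← hσ (f m), Finsupp.linearCombination_apply, map_finsuppSum,
      Finsupp.sum_of_support_subset _ (Finset.coe_subset.1 (hs m)) _ (fun i _ => by simp)]
    simp only [LinearMap.comp_apply, g', Fintype.linearCombination_apply, f', LinearMap.pi_apply, Finsupp.lapply_apply]
    rw [Finset.sum_coe_sort s fun p => (σ (f m)) p • g p]
    simp
  refine ⟨Module.Dual R (s → R), inferInstance, inferInstance, inferInstance, g'.dualMap, f'.dualMap, ?_⟩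
  refine LinearMap.ext fun φ => LinearMap.ext fun m => ?_
  show φ (g' (f' m)) = a • φ m
  rw [← LinearMap.comp_apply g' f', hgf]
  simp

end Groth.Agent.S6968
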