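import Groth.Statements.S6969
import Mathlib.Algebra.Module.Projective
import Mathlib.LinearAlgebra.Finsupp.Supported
import Mathlib.RingTheory.Finiteness.Finsupp

set_option autoImplicit false
universe u
open CAlg

namespace Groth.Agent.S6969

/-- Let R be a commutative ring and φ : M → N an R-linear map which factors through a projective
R-module. If M is finitely generated, then φ factors through a finitely generated projective
R-module. -/
theorem result (R : Type u) [CommRing R] {M N : Type u} [AddCommGroup M]
    [Module R M] [Module.Finite R M] [AddCommGroup N] [Module R N] (φ : M →ₗ[R] N)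
    (h : ∃ (P : Type u) (_ : AddCommGroup P) (_ : Module R P) (_ : Module.Projective R P) (f : M →ₗ[R] P)
      (g : P →ₗ[R] N), g ∘ₗ f = φ) :
    ∃ (P : Type u) (_ : AddCommGroup P) (_ : Module R P) (_ : Module.Projective R P) (_ : Module.Finite R P)
      (f : M →ₗ[R] P) (g : P →ₗ[R] N), g ∘ₗ f = φ := by
  classical
  obtain ⟨P, _, _, _, f, g, rfl⟩ := h
  obtain ⟨s, hs⟩ := Module.projective_def'.1 ‹Module.Projective R P›
  obtain ⟨t, ht⟩ := Module.Finite.fg_top (R := R) (M := M)
  let S : Finset P := t.biUnion fun x => (s (f x)).support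
  have hle : LinearMap.range (s ∘ₗ f) ≤ Finsupp.supported R R (S : Set P) := by
    rw [LinearMap.range_eq_map, ← ht, Submodule.map_span, Submodule.span_le]
    rintro _ ⟨x, hx, rfl⟩
    intro p hp
    exact Finset.mem_biUnion.2 ⟨x, hx, hp⟩
  let e := Finsupp.supportedEquivFinsupp (M := R) (R := R) (S : Set P)
  refine ⟨↥(S : Set P) →₀ R, inferInstance, inferInstance, inferInstance, inferInstance,
    e.toLinearMap ∘ₗ (s ∘ₗ f).codRestrict _ (fun x => hle ⟨x, rfl⟩),
    g ∘ₗ Finsupp.linearCombination R id ∘ₗ Submodule.subtype _ ∘ₗ e.symm.toLinearMap, ?_⟩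
  ext x
  simp only [LinearMap.comp_apply, LinearEquiv.coe_coe, LinearEquiv.symm_apply_apply]
  exact congrArg g (LinearMap.congr_fun hs (f x))

end Groth.Agent.S6969
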