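import Groth.Statements.S6970
import Groth.Agent.Lib.DBaseChange.LiftClass
-- import your own Groth.Agent.* helpers here

set_option autoImplicit false
set_option linter.style.haveILetI false
set_option backward.isDefEq.respectTransparency false
universe u
open CategoryTheory CategoryTheory.Limits
attribute [local instance] HasDerivedCategory.standard
open DRing

namespace Groth.Agent.S6970

/-- Let R be a commutative ring and I a nilpotent ideal of R such that the derived base change D(R) →
D(R/I) exists. Let K be an object of D(R) and E a bounded above cochain complex of projective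
R/I-modules which is isomorphic in D(R/I) to K ⊗^L_R R/I. Then there is a bounded above cochain
complex P of projective R-modules which is isomorphic to K in D(R) and whose termwise reduction P
⊗_R R/I is isomorphic to E as a complex of R/I-modules. -/
theorem result (R : Type u) [CommRing R] (I : Ideal R)
    (hI : IsNilpotent I) [DRing.HasLBaseChange (Ideal.Quotient.mk I)] (K : Dual.D R)
    (E : DRing.Cx (R ⧸ I)) (b : ℤ) (hEb : DRing.VanishesAbove E b)
    (hEp : ∀ i : ℤ, Module.Projective (R ⧸ I) (E.X i))
    (hE : Nonempty (DRing.toD E ≅ (DRing.LBaseChange (Ideal.Quotient.mk I)).obj K)) :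
    ∃ (P : DRing.Cx R) (b' : ℤ), DRing.VanishesAbove P b' ∧ (∀ i : ℤ, Module.Projective R (P.X i)) ∧
      Nonempty (DRing.toD P ≅ K) ∧ Nonempty ((((ModuleCat.extendScalars (Ideal.Quotient.mk I)).mapHomologicalComplex (ComplexShape.up ℤ)).obj P) ≅ E) := by
  have hn : IsNilpotent (RingHom.ker (Ideal.Quotient.mk I)) := by rwa [Ideal.mk_ker]
  have hc := Groth.Agent.DBaseChange.Lift.cls_projective (R := R) hI
  obtain ⟨eE⟩ := hE
  haveI := (Groth.Agent.DMod.vanishesAbove_iff E b).1 hEb
  haveI : (DRing.toD E).IsLE b := inferInstanceAs ((DerivedCategory.Q.obj E).IsLE b)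
  haveI : ((DRing.LBaseChange (Ideal.Quotient.mk I)).obj K).IsLE b := Groth.Agent.DMod.exists_iso_of_isLE _ b eE
  haveI := Groth.Agent.DBaseChange.isLE_of_lBaseChange _ Ideal.Quotient.mk_surjective hn K b
  obtain ⟨Q, hQb, hQf, ⟨eQ⟩⟩ := Groth.Agent.DMod.exists_free_resolution K b
  let c := b
  have hQ : ∀ i, Groth.Agent.DBaseChange.Lift.projP R (Q.X i) := fun i => by
    haveI := hQf i
    exact (inferInstance : Module.Projective R (Q.X i))
  haveI : E.IsStrictlyLE (max c b) := E.isStrictlyLE_of_le b _ (le_max_right _ _)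
  haveI : Q.IsStrictlyLE (max c b) := Q.isStrictlyLE_of_le c _ (le_max_left _ _)
  have hflat : ∀ i, Module.Flat R (Q.X i) := fun i => by
    haveI : Module.Projective R (Q.X i) := hc.proj _ (hQ i)
    infer_instance
  obtain ⟨P, b', hb', hP, ⟨eP⟩, hiso⟩ := Groth.Agent.DBaseChange.Lift.exists_representative_lift hc
    (fun X Y (hX : Module.Projective R X) (hY : Module.Projective R Y) =>
      (inferInstanceAs (Module.Projective R (X × Y)) : _)) Q (max c b) hQ E
    (fun i => haveI := hEp i; Groth.Agent.DBaseChange.Lift.exists_projective_lift hI (E.X i))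
    ((Groth.Agent.DBaseChange.valueIso _ Q (Groth.Agent.DBaseChange.adapted_of_flat Q c hflat)).symm ≪≫
      (DRing.LBaseChange _).mapIso eQ ≪≫ eE.symm)
  exact ⟨P, b', hb', hP, ⟨eP ≪≫ eQ⟩, hiso⟩

end Groth.Agent.S6970
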