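import Groth.Statements.S6973
import Groth.Agent.Lib.DBaseChange.LiftClass
import Groth.Agent.S0534
-- import your own Groth.Agent.* helpers here

set_option autoImplicit false
set_option linter.style.haveILetI false
set_option backward.isDefEq.respectTransparency false
universe u
open CategoryTheory CategoryTheory.Limits
attribute [local instance] HasDerivedCategory.standard
open DRing

namespace Groth.Agent.S6973

/-- Let (R, I) be a henselian pair such that the derived base change D(R) → D(R/I) exists, K a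
pseudo-coherent object of D(R), and E a bounded above cochain complex of finite projective
R/I-modules which is isomorphic in D(R/I) to K ⊗^L_R R/I. Then there is a bounded above cochain
complex P of finite projective R-modules, isomorphic to K in D(R), whose termwise reduction P ⊗_R
R/I is isomorphic to E as a complex, and such that P^i is free for every i for which E^i is free. -/
theorem result (R : Type u) [CommRing R]
    (I : Ideal R) [HenselianRing R I] [DRing.HasLBaseChange (Ideal.Quotient.mk I)] (K : Dual.D R)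
    (hK : DRing.IsPseudoCoherent' R K) (E : DRing.Cx (R ⧸ I)) (b : ℤ) (hEb : DRing.VanishesAbove E b)
    (hEp : DRing.TermwiseFiniteProjective E)
    (hE : Nonempty (DRing.toD E ≅ (DRing.LBaseChange (Ideal.Quotient.mk I)).obj K)) :
    ∃ (P : DRing.Cx R) (b' : ℤ), DRing.VanishesAbove P b' ∧ DRing.TermwiseFiniteProjective P ∧
      Nonempty (DRing.toD P ≅ K) ∧ Nonempty ((((ModuleCat.extendScalars (Ideal.Quotient.mk I)).mapHomologicalComplex (ComplexShape.up ℤ)).obj P) ≅ E) ∧
      ∀ i : ℤ, Module.Free (R ⧸ I) (E.X i) → Module.Free R (P.X i) := by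
  have hc := Groth.Agent.DBaseChange.Lift.cls_finProj (R := R) (I := I) (HenselianRing.jac (I := I))
  obtain ⟨eE⟩ := hE
  haveI := (Groth.Agent.DMod.vanishesAbove_iff E b).1 hEb
  obtain ⟨Q, c, hQc, hQf, ⟨eQ⟩⟩ := hK
  haveI := (Groth.Agent.DMod.vanishesAbove_iff Q c).1 hQc
  have hQ : ∀ i, Groth.Agent.DBaseChange.Lift.finProjP R (Q.X i) := fun i =>
    haveI := (hQf i).2
    ⟨(hQf i).1, inferInstance⟩
  haveI : E.IsStrictlyLE (max c b) := E.isStrictlyLE_of_le b _ (le_max_right _ _)
  haveI : Q.IsStrictlyLE (max c b) := Q.isStrictlyLE_of_le c _ (le_max_left _ _)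
  have hflat : ∀ i, Module.Flat R (Q.X i) := fun i => by
    haveI : Module.Projective R (Q.X i) := hc.proj _ (hQ i)
    infer_instance
  obtain ⟨P, b', hb', hP, ⟨eP⟩, ⟨iso⟩⟩ := Groth.Agent.DBaseChange.Lift.exists_representative_lift hc
    (fun X Y hX hY => haveI := hX.1; haveI := hX.2; haveI := hY.1; haveI := hY.2
      ⟨inferInstanceAs (Module.Finite R (X × Y)), inferInstanceAs (Module.Projective R (X × Y))⟩) Q (max c b) hQ E
    (fun i => by
      haveI := (hEp i).1
      haveI := (hEp i).2
      obtain ⟨P₀, _, _, hfin, hproj, he⟩ := Groth.Agent.S0534.result R I (E.X i)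
      exact ⟨ModuleCat.of R P₀, ⟨hfin, hproj⟩, Groth.Agent.DBaseChange.Lift.red_iso_of_tensor he⟩)
    ((Groth.Agent.DBaseChange.valueIso _ Q (Groth.Agent.DBaseChange.adapted_of_flat Q c hflat)).symm ≪≫
      (DRing.LBaseChange _).mapIso eQ ≪≫ eE.symm)
  refine ⟨P, b', hb', fun i => hP i, ⟨eP ≪≫ eQ⟩, ⟨iso⟩, fun i hfree => ?_⟩
  haveI := hfree
  haveI := (hEp i).1
  obtain ⟨X, hXfin, hXfree, ⟨eX⟩⟩ := Groth.Agent.DBaseChange.Lift.exists_red_free_iso (E.X i)
  obtain ⟨k⟩ := Groth.Agent.DBaseChange.Lift.iso_of_red_iso hc (X := X) (Y := P.X i)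
    ⟨hXfin, haveI := hXfree; inferInstance⟩ (hP i)
    (eX ≪≫ ((HomologicalComplex.eval _ _ i).mapIso iso).symm)
  haveI := hXfree
  exact Module.Free.of_equiv k.toLinearEquiv

end Groth.Agent.S6973
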