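import Groth.Statements.S6974
import Groth.Agent.Lib.DBaseChange.Fibre
-- import your own Groth.Agent.* helpers here

set_option autoImplicit false
set_option linter.style.haveILetI false
set_option backward.isDefEq.respectTransparency false
universe u
open CategoryTheory CategoryTheory.Limits
attribute [local instance] HasDerivedCategory.standard
open DRing

namespace Groth.Agent.S6974

/-- Let R be a commutative ring such that the derived base change D(R) → D(R/m) exists for every ideal
m, let K be a pseudo-coherent object of D(R) and a, b integers. If for every maximal ideal m of R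
the cohomology H^i(K ⊗^L_R R/m) vanishes for all i outside [a, b], then K is perfect and has tor
amplitude in [a, b]. -/
theorem result (R : Type u) [CommRing R]
    [∀ m : Ideal R, DRing.HasLBaseChange (Ideal.Quotient.mk m)] (K : Dual.D R)
    (hK : DRing.IsPseudoCoherent' R K) (a b : ℤ)
    (h : ∀ (m : Ideal R), m.IsMaximal → ∀ i : ℤ, (i < a ∨ b < i) →
      Subsingleton (Dual.HD (R ⧸ m) ((DRing.LBaseChange (Ideal.Quotient.mk m)).obj K) i)) :
    DRing.IsPerfect R K ∧ DRing.HasTorAmplitudeIn R a b K := by
  obtain ⟨F, B, hB, hF, ⟨e⟩⟩ := id hK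
  haveI := (Groth.Agent.DMod.vanishesAbove_iff F B).1 hB
  have hflat : ∀ i, Module.Flat R (F.X i) := fun i => have := (hF i).2; inferInstance
  have ht : DRing.HasTorAmplitudeIn R a b (DRing.toD F) :=
    Groth.Agent.DBaseChange.torAmp_of_fibres F B hF a b fun m hm l hl =>
      (Groth.Agent.DMod.subsingleton_HD_toD_iff _ l).1
        (((Groth.Agent.DMod.HH l).mapIso ((DRing.LBaseChange (Ideal.Quotient.mk m)).mapIso e.symm ≪≫
          Groth.Agent.DBaseChange.valueIso _ F (Groth.Agent.DBaseChange.adapted_of_flat F B hflat))).toLinearEquiv.toEquiv.subsingleton_congr.1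
            (h m hm l hl))
  have ht' := Groth.Agent.DBaseChange.hasTorAmplitudeIn_of_iso e ht
  exact ⟨Groth.Agent.DBaseChange.isPerfect_of_pc_of_torAmp hK ht', ht'⟩

end Groth.Agent.S6974
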