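import Groth.Statements.S6975
import Groth.Agent.Lib.DBaseChange.Fibre
-- import your own Groth.Agent.* helpers here

set_option autoImplicit false
set_option linter.style.haveILetI false
set_option backward.isDefEq.respectTransparency false
universe u
open CategoryTheory CategoryTheory.Limits
attribute [local instance] HasDerivedCategory.standard
open DRing

namespace Groth.Agent.S6975

/-- Let R be a local commutative ring with residue field κ such that the derived base change D(R) → D(κ)
exists, and let K be a pseudo-coherent object of D(R). If there is an integer a with H^i(K ⊗^L_R κ)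
= 0 for all i < a, then K is perfect. -/
theorem result (R : Type u) [CommRing R] [IsLocalRing R]
    [DRing.HasLBaseChange (IsLocalRing.residue R)] (K : Dual.D R) (hK : DRing.IsPseudoCoherent' R K) (a : ℤ)
    (h : ∀ i : ℤ, i < a → Subsingleton (Dual.HD (IsLocalRing.ResidueField R)
      ((DRing.LBaseChange (IsLocalRing.residue R)).obj K) i)) :
    DRing.IsPerfect R K := by
  obtain ⟨F, B, hB, hF, ⟨e⟩⟩ := id hK
  haveI := (Groth.Agent.DMod.vanishesAbove_iff F B).1 hB
  have hflat : ∀ i, Module.Flat R (F.X i) := fun i => have := (hF i).2; inferInstance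
  let G := (Groth.Agent.DBaseChange.extCx (IsLocalRing.residue R)).obj F
  have hG : ∀ l, (l < a ∨ B < l) → Subsingleton (G.homology l) := fun l hl => by
    rcases hl with hl | hl
    · exact (Groth.Agent.DMod.subsingleton_HD_toD_iff _ l).1
        (((Groth.Agent.DMod.HH l).mapIso ((DRing.LBaseChange (IsLocalRing.residue R)).mapIso e.symm ≪≫
          Groth.Agent.DBaseChange.valueIso _ F (Groth.Agent.DBaseChange.adapted_of_flat F B hflat))).toLinearEquiv.toEquiv.subsingleton_congr.1
            (h l hl))
    · have := ModuleCat.subsingleton_of_isZero (Functor.map_isZero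
        (ModuleCat.extendScalars.{u, u, u} (IsLocalRing.residue R)) (F.isZero_of_isStrictlyLE B l hl))
      rw [Groth.Agent.DMod.subsingleton_homology_iff G (i := l - 1) (k := l + 1) (by simp) (by simp)]
      exact fun x _ => ⟨0, this.elim _ _⟩
  have ht := Groth.Agent.DBaseChange.torAmp_of_fibre_local F B hF a B fun l hl =>
    Groth.Agent.DBaseChange.fibreExact_of_ext F l (hG l hl)
  exact Groth.Agent.DBaseChange.isPerfect_of_pc_of_torAmp hK
    (Groth.Agent.DBaseChange.hasTorAmplitudeIn_of_iso e ht)

end Groth.Agent.S6975
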