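import Groth.Statements.S6978
import Groth.Agent.Lib.DCompact9.Perfect

set_option autoImplicit false
set_option linter.style.haveILetI false
set_option backward.isDefEq.respectTransparency false
universe u
open CategoryTheory CategoryTheory.Limits
attribute [local instance] HasDerivedCategory.standard
open DRing

namespace Groth.Agent.S6978

/-- Let R be a commutative ring and K an object of D(R). Then K is perfect if and only if K is a compact
object of D(R): for every family (E_i) of objects of D(R) indexed by a small type, the canonical map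
from the direct sum of the Hom(K, E_i) to Hom(K, ⊕ E_i) is bijective. -/
theorem result (R : Type u) [CommRing R] (K : Dual.D R) :
    DRing.IsPerfect R K ↔
      ∀ (I : Type u) (E : I → Dual.D R) [HasCoproduct fun i : ULift.{u + 1} I => E i.down],
        Function.Bijective (CohDer.homSumToHomCoprod K (fun i : ULift.{u + 1} I => E i.down)) := by
  open Groth.Agent.DCompact9 in
  refine ⟨fun hK I E _ => ⟨Groth.Agent.RHom.injective_homSumToHomCoprod _ _,
    Groth.Agent.RHom.surjective_homSumToHomCoprod _ _ fun f => ?_⟩,
    fun h => Groth.Agent.DCompact9.isPerfect_of_fin (fun I X _ f => ?_) (fun X _ f => ?_)⟩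
  · haveI := Groth.Agent.DCompact9.hasCoproduct_small (R := R) (Equiv.refl I) E
    let E' := fun i : ULift.{u + 1} I => E i.down
    let w : ∐ E' ⟶ ∐ E := Sigma.desc fun i => Sigma.ι E i.down
    let w' : ∐ E ⟶ ∐ E' := Sigma.desc fun i => (Iso.refl (E i)).hom ≫ Sigma.ι E' (Equiv.ulift.symm i)
    have hw : w ≫ w' = 𝟙 _ := Sigma.hom_ext _ _ fun i => by
      rw [Sigma.ι_desc_assoc, Sigma.ι_desc, Iso.refl_hom, Category.id_comp, Category.comp_id]
      rfl
    have := Groth.Agent.RHom.finFac_whisker E' E Equiv.ulift.symm (fun i => Iso.refl _) _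
      (Groth.Agent.DCompact9.smallFin_of_isPerfect hK I E (f ≫ w))
    rwa [Category.assoc, hw, Category.comp_id] at this
  · haveI : HasCoproduct fun i : ULift.{u + 1} I => X i.down :=
      Groth.Agent.DCompact9.hasCoproduct_small (R := R) Equiv.ulift _
    haveI : HasCoproduct fun i : ULift.{u + 1} I => X (Equiv.ulift i) :=
      Groth.Agent.DCompact9.hasCoproduct_small (R := R) Equiv.ulift _
    exact Groth.Agent.DCompact9.finFac_of_surjective X Equiv.ulift (h I X).2 f
  · haveI : HasCoproduct fun i : ULift.{u + 1} (ULift.{u} ℕ) => (fun n : ULift.{u} ℕ => X n.down) i.down :=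
      Groth.Agent.DCompact9.hasCoproduct_small (R := R) Equiv.ulift _
    haveI : HasCoproduct fun i : ULift.{u + 1} (ULift.{u} ℕ) =>
        X ((Equiv.ulift.trans Equiv.ulift) i) :=
      Groth.Agent.DCompact9.hasCoproduct_small (R := R) Equiv.ulift _
    exact Groth.Agent.DCompact9.finFac_of_surjective X (Equiv.ulift.trans Equiv.ulift)
      (h (ULift.{u} ℕ) fun n => X n.down).2 f

end Groth.Agent.S6978
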