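import Groth.Statements.S6980
import Groth.Agent.Lib.DBaseChange.Nilp2
-- import your own Groth.Agent.* helpers here

set_option autoImplicit false
universe u
open CategoryTheory CategoryTheory.Limits
attribute [local instance] HasDerivedCategory.standard
open DRing

namespace Groth.Agent.S6980

/-- Let R be a commutative ring, I and J ideals of R such that the derived base changes D(R) → D(R/I),
D(R/J), D(R/IJ) exist, and K an object of D(R). If K ⊗^L_R R/I is perfect in D(R/I) and K ⊗^L_R R/J
is perfect in D(R/J), then K ⊗^L_R R/IJ is perfect in D(R/IJ). -/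
theorem result (R : Type u) [CommRing R] (I J : Ideal R)
    [DRing.HasLBaseChange (Ideal.Quotient.mk I)] [DRing.HasLBaseChange (Ideal.Quotient.mk J)]
    [DRing.HasLBaseChange (Ideal.Quotient.mk (I * J))] (K : Dual.D R)
    (hI : DRing.IsPerfect (R ⧸ I) ((DRing.LBaseChange (Ideal.Quotient.mk I)).obj K))
    (hJ : DRing.IsPerfect (R ⧸ J) ((DRing.LBaseChange (Ideal.Quotient.mk J)).obj K)) :
    DRing.IsPerfect (R ⧸ (I * J)) ((DRing.LBaseChange (Ideal.Quotient.mk (I * J))).obj K) := by
  obtain ⟨P, hP, ⟨e⟩⟩ := Groth.Agent.DBaseChange.exists_adapted K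
  let φ : R ⧸ (I * J) →+* R ⧸ I := Ideal.Quotient.factor Ideal.mul_le_left
  let ψ : R ⧸ (I * J) →+* R ⧸ J := Ideal.Quotient.factor Ideal.mul_le_right
  have hφ : Function.Surjective φ := Ideal.Quotient.factor_surjective Ideal.mul_le_left
  have hψ : Function.Surjective ψ := Ideal.Quotient.factor_surjective Ideal.mul_le_right
  have h0 : RingHom.ker φ * RingHom.ker ψ = ⊥ := by
    rw [Ideal.Quotient.factor_ker, Ideal.Quotient.factor_ker, ← Ideal.map_mul, Ideal.map_quotient_self]
  refine Groth.Agent.DBaseChange.isPerfect_of_iso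
    ((Groth.Agent.DBaseChange.valueIso _ P hP).symm ≪≫ (DRing.LBaseChange _).mapIso e) ?_
  refine Groth.Agent.DBaseChange.isPerfect_of_two φ ψ hφ hψ h0 _
    (Groth.Agent.DBaseChange.adapted_ext _ hP) ?_ ?_
  · refine Groth.Agent.DBaseChange.isPerfect_of_iso ?_ hI
    exact (DRing.LBaseChange _).mapIso e.symm ≪≫ Groth.Agent.DBaseChange.valueIso _ P hP ≪≫
      DerivedCategory.Q.mapIso (Groth.Agent.DBaseChange.extCompIso (Ideal.Quotient.mk (I * J)) φ P)
  · refine Groth.Agent.DBaseChange.isPerfect_of_iso ?_ hJ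
    exact (DRing.LBaseChange _).mapIso e.symm ≪≫ Groth.Agent.DBaseChange.valueIso _ P hP ≪≫
      DerivedCategory.Q.mapIso (Groth.Agent.DBaseChange.extCompIso (Ideal.Quotient.mk (I * J)) ψ P)

end Groth.Agent.S6980
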