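import Groth.Statements.S6981
import Groth.Agent.Lib.DBaseChange.ResPC

set_option autoImplicit false
set_option linter.style.haveILetI false
set_option backward.isDefEq.respectTransparency false
universe u
open CategoryTheory CategoryTheory.Limits
attribute [local instance] HasDerivedCategory.standard
open DRing

namespace Groth.Agent.S6981

/-- Let R be a commutative ring, K an object of D(R), m an integer, and R[x] → R the R-algebra
homomorphism sending x to 0. Then K is m-pseudo-coherent over R if and only if K, regarded as an
object of D(R[x]) by restriction of scalars along this map, is m-pseudo-coherent over R[x]. -/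
theorem result (R : Type u) [CommRing R] (K : Dual.D R)
    (m : ℤ) :
    DRing.IsPseudoCoherent R m K ↔
      DRing.IsPseudoCoherent (Polynomial R) m ((DRing.restrictD (Polynomial.evalRingHom (0 : R))).obj K) := by
  let φ := Polynomial.evalRingHom (0 : R)
  letI : Algebra (Polynomial R) R := φ.toAlgebra
  refine Groth.Agent.DBaseChange.pc_res_iff ((Groth.Agent.DMod.pcModule'_iff R).2 fun j => ?_) K m
  let p : Polynomial R →ₗ[Polynomial R] R := Algebra.linearMap (Polynomial R) R
  have hp : Function.Surjective p := fun r => ⟨Polynomial.C r, by
    show φ (Polynomial.C r) = r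
    exact Polynomial.eval_C⟩
  let q : Polynomial R →ₗ[Polynomial R] Polynomial R := LinearMap.mulLeft (Polynomial R) Polynomial.X
  have hq : Function.Injective q := fun a b h => Polynomial.monic_X.isRegular.left h
  have hr : LinearMap.range q = LinearMap.ker p := by
    ext f
    rw [LinearMap.mem_ker, LinearMap.mem_range]
    show (∃ y, Polynomial.X * y = f) ↔ φ f = 0
    rw [Polynomial.coe_evalRingHom, ← Polynomial.coeff_zero_eq_eval_zero, ← Polynomial.X_dvd_iff]
    exact ⟨fun ⟨y, h⟩ => ⟨y, h.symm⟩, fun ⟨y, h⟩ => ⟨y, h.symm⟩⟩
  have e : Polynomial R ≃ₗ[Polynomial R] LinearMap.ker p :=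
    (LinearEquiv.ofInjective q hq).trans (LinearEquiv.ofEq _ _ hr)
  exact Groth.Agent.DMod.pcModule_quotient p hp
    (Groth.Agent.DMod.pcModule_equiv e (Groth.Agent.DMod.pcModule_finiteFree _ _))
    (Groth.Agent.DMod.pcModule_finiteFree _ _)

end Groth.Agent.S6981
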