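import Groth.Statements.S6987
import Groth.Agent.Lib.RelPC8.Localize

set_option autoImplicit false
universe u
open CategoryTheory CategoryTheory.Limits
attribute [local instance] HasDerivedCategory.standard
open DerCA

namespace Groth.Agent.S6987

set_option backward.isDefEq.respectTransparency false

open Groth.Agent.RelPC8


/-- Let R → A be a finite type homomorphism of commutative rings, K a cochain complex of A-modules, m an
integer and f_1, ..., f_r elements of A generating the unit ideal. Then relative m-pseudo-coherence
of K over R holds exactly when, for every i, the termwise localization K ⊗_A A_(f_i) is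
m-pseudo-coherent relative to R over the finite type R-algebra A_(f_i). -/
theorem result {R A : Type u} [CommRing R] [CommRing A] [Algebra R A]
    [Algebra.FiniteType R A] (K : DRing.Cx A) (m : ℤ) {r : ℕ} (f : Fin r → A)
    (hf : Ideal.span (Set.range f) = ⊤) :
    DerCA.IsRelPseudoCoherent R A m (DRing.toD K) ↔
      ∀ i, DerCA.IsRelPseudoCoherent R (Localization.Away (f i)) m
        (DRing.toD (((ModuleCat.extendScalars (algebraMap A (Localization.Away (f i)))).mapHomologicalComplex
          (ComplexShape.up ℤ)).obj K)) := by
  refine ⟨fun h i => rel_localization (f i) K h, fun h => ?_⟩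
  obtain ⟨n, α, hα⟩ := exists_presentation R A
  letI : Algebra (MvPolynomial (Fin n) R) A := α.toRingHom.toAlgebra
  haveI : IsScalarTower R (MvPolynomial (Fin n) R) A := IsScalarTower.of_algebraMap_eq fun x => (α.commutes x).symm
  choose g hg using fun i => hα (f i)
  obtain rfl : f = fun i => algebraMap (MvPolynomial (Fin n) R) A (g i) := funext fun i => (hg i).symm
  have h1 : (1 : A) ∈ Ideal.span (Set.range fun i => algebraMap (MvPolynomial (Fin n) R) A (g i)) :=
    hf ▸ Submodule.mem_top
  obtain ⟨c, hc⟩ := (Submodule.mem_span_range_iff_exists_fun A).1 h1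
  choose d hd using fun i => hα (c i)
  let g' : Fin (r + 1) → MvPolynomial (Fin n) R := Fin.cons (1 - ∑ i, d i * g i) g
  have hg' : Ideal.span (Set.range g') = ⊤ := by
    rw [Ideal.eq_top_iff_one, show (1 : MvPolynomial (Fin n) R) = g' 0 + ∑ i, d i * g' i.succ by simp [g']]
    exact Ideal.add_mem _ (Ideal.subset_span ⟨0, rfl⟩)
      (Ideal.sum_mem _ fun i _ => Ideal.mul_mem_left _ _ (Ideal.subset_span ⟨i.succ, rfl⟩))
  refine ⟨n, α, hα, pv_of_span g' hg' K m fun j => ?_⟩
  induction j using Fin.cases with
  | zero =>
    have h0 : algebraMap (MvPolynomial (Fin n) R) A (g' 0) = 0 := by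
      show α (g' 0) = 0
      simp only [g', Fin.cons_zero, map_sub, map_one, map_sum, map_mul, hd]
      exact sub_eq_zero.2 hc.symm
    haveI : Subsingleton (Localization.Away (algebraMap (MvPolynomial (Fin n) R) A (g' 0))) :=
      IsLocalization.subsingleton (M := Submonoid.powers (algebraMap (MvPolynomial (Fin n) R) A (g' 0)))
        ⟨1, by rw [h0]; simp⟩
    exact pv_of_subsingleton _ m _
  | succ i => exact pv_awayMap_of_rel hα (g i) m _ (h i)


end Groth.Agent.S6987
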