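import Groth.Statements.S6988
import Groth.Agent.Lib.DMod.PCHomology
import Mathlib.Algebra.Homology.Single

set_option autoImplicit false
universe u
open CategoryTheory CategoryTheory.Limits
attribute [local instance] HasDerivedCategory.standard
open DRing

namespace Groth.Agent.S6988

/-- Let R be a commutative ring, K a pseudo-coherent object of D(R) and i an integer. Then some finitely
presented R-module M admits a morphism K → M[-i] in D(R) that is injective on H^i (here H^i(M[-i]) =
M). -/
theorem result (R : Type u) [CommRing R] (K : Dual.D R)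
    (hK : DRing.IsPseudoCoherent' R K) (i : ℤ) :
    ∃ (M : Type u) (_ : AddCommGroup M) (_ : Module R M) (_ : Module.FinitePresentation R M)
      (f : K ⟶ (shiftFunctor (Dual.D R) (-i)).obj (Dual.inD R M)),
      Mono ((DerivedCategory.homologyFunctor (ModuleCat.{u} R) i).map f) := by
  obtain ⟨E, b, hb, hF, ⟨e⟩⟩ := hK
  let N : Submodule R (E.X i) := LinearMap.range (E.d (i - 1) i).hom
  have := (hF i).1
  have := (hF i).2
  have := (hF (i - 1)).1
  have : Module.FinitePresentation R (E.X i) := Module.finitePresentation_of_projective R (E.X i)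
  have hfp : Module.FinitePresentation R (E.X i ⧸ N) :=
    Module.finitePresentation_of_surjective N.mkQ N.mkQ_surjective
      (by rw [Submodule.ker_mkQ]; exact Module.Finite.iff_fg.1 (Module.Finite.range _))
  let φ : E ⟶ (HomologicalComplex.single (ModuleCat.{u} R) (ComplexShape.up ℤ) i).obj
      (ModuleCat.of R (E.X i ⧸ N)) :=
    HomologicalComplex.mkHomToSingle (ModuleCat.ofHom N.mkQ) (fun j hj => by
      obtain rfl : j = i - 1 := by
        have : j + 1 = i := hj
        omega
      ext x
      exact (Submodule.Quotient.mk_eq_zero N).2 ⟨x, rfl⟩)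
  have hφ : Function.Injective (HomologicalComplex.homologyMap φ i) := by
    refine Groth.Agent.DMod.homologyMap_injective φ (i := i - 1) (k := i + 1) (by simp) (by simp)
      fun w y _ hy => ?_
    have := ModuleCat.subsingleton_of_isZero (HomologicalComplex.isZero_single_obj_X
      (ComplexShape.up ℤ) i (ModuleCat.of R (E.X i ⧸ N)) (i - 1) (by omega))
    rw [Subsingleton.elim y 0, map_zero, HomologicalComplex.mkHomToSingle_f] at hy
    have h0 : N.mkQ w = 0 := by
      apply ((ModuleCat.mono_iff_injective (HomologicalComplex.singleObjXSelf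
        (ComplexShape.up ℤ) i (ModuleCat.of R (E.X i ⧸ N))).inv).1 inferInstance)
      rw [map_zero]
      exact hy.symm
    exact (Submodule.Quotient.mk_eq_zero N).1 h0
  have hmono : Mono ((DerivedCategory.homologyFunctor (ModuleCat.{u} R) i).map
      (DerivedCategory.Q.map φ)) := by
    have : Mono ((HomologicalComplex.homologyFunctor (ModuleCat.{u} R) (ComplexShape.up ℤ) i).map φ) :=
      (ModuleCat.mono_iff_injective _).2 hφ
    exact ((MorphismProperty.monomorphisms _).arrow_mk_iso_iff
      (((Functor.mapArrowFunctor _ _).mapIso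
        (DerivedCategory.homologyFunctorFactors (ModuleCat.{u} R) i)).app (Arrow.mk φ))).2 this
  let e' : DRing.toD ((HomologicalComplex.single (ModuleCat.{u} R) (ComplexShape.up ℤ) i).obj
      (ModuleCat.of R (E.X i ⧸ N))) ≅
      (shiftFunctor (Dual.D R) (-i)).obj (Dual.inD R (E.X i ⧸ N)) :=
    ((DerivedCategory.singleFunctorIsoCompQ (ModuleCat.{u} R) i).app _).symm ≪≫
      (Groth.Agent.DMod.singleShiftIso i _).symm
  refine ⟨E.X i ⧸ N, inferInstance, inferInstance, hfp,
    e.inv ≫ DerivedCategory.Q.map φ ≫ e'.hom, ?_⟩
  rw [Functor.map_comp, Functor.map_comp]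
  have h1 : Mono ((DerivedCategory.homologyFunctor (ModuleCat.{u} R) i).map e.inv) := inferInstance
  have h2 : Mono ((DerivedCategory.homologyFunctor (ModuleCat.{u} R) i).map e'.hom) := inferInstance
  exact mono_comp' h1 (mono_comp' hmono h2)

end Groth.Agent.S6988
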