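import Groth.Statements.S6989
import Groth.Agent.Lib.DMod.PCHomology
import Groth.Agent.Lib.DMod.Amplitude
import Groth.Agent.S6942
import Mathlib.RingTheory.Filtration
-- import your own Groth.Agent.* helpers here

set_option autoImplicit false
set_option linter.style.haveILetI false
set_option backward.isDefEq.respectTransparency false
universe u
open CategoryTheory CategoryTheory.Limits
attribute [local instance] HasDerivedCategory.standard
open DRing

namespace Groth.Agent.S6989

/-- Let A be a Noetherian commutative ring, K an object of D(A) whose cohomology vanishes in large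
degrees and whose cohomology modules are all finitely generated, m a maximal ideal of A and i an
integer such that m H^i(K) ≠ H^i(K). Then some finitely generated A-module E killed by a power of m
receives a morphism K → E[-i] in D(A) whose induced map H^i(K) → H^i(E[-i]) is nonzero. -/
theorem result (A : Type u) [CommRing A]
    [IsNoetherianRing A] (K : Dual.D A) (hb : ∃ b : ℤ, ∀ j : ℤ, b < j → Subsingleton (Dual.HD A K j))
    (hfin : ∀ j : ℤ, Module.Finite A (Dual.HD A K j)) (m : Ideal A) [m.IsMaximal] (i : ℤ)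
    (hi : m • (⊤ : Submodule A (Dual.HD A K i)) ≠ ⊤) :
    ∃ (E : Type u) (_ : AddCommGroup E) (_ : Module A E) (_ : Module.Finite A E) (n : ℕ)
      (_ : m ^ n • (⊤ : Submodule A E) = ⊥) (f : K ⟶ (shiftFunctor (Dual.D A) (-i)).obj (Dual.inD A E)),
      (DerivedCategory.homologyFunctor (ModuleCat.{u} A) i).map f ≠ 0 := by
  have hpc : DRing.IsPseudoCoherent' A K := (Groth.Agent.DMod.pc'_iff K).2 fun n =>
    ((Groth.Agent.S6942.result A n K A).1).2 ⟨hb, fun j _ => hfin j⟩
  obtain ⟨E, b, hEb, hF, ⟨e⟩⟩ := hpc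
  haveI := (hF i).1
  let B : Submodule A (E.X i) := LinearMap.range (E.d (i - 1) i).hom
  let g : E.cycles i →ₗ[A] (E.X i ⧸ B) := B.mkQ ∘ₗ (E.iCycles i).hom
  obtain ⟨k, hk⟩ := Ideal.exists_pow_inf_eq_pow_smul m (LinearMap.range g)
  let n := k + 1
  let P : Submodule A (E.X i ⧸ B) := m ^ n • ⊤
  let Q := (E.X i ⧸ B) ⧸ P
  let ψ : E.X i →ₗ[A] Q := P.mkQ ∘ₗ B.mkQ
  let φ : E ⟶ (HomologicalComplex.single (ModuleCat.{u} A) (ComplexShape.up ℤ) i).obj (ModuleCat.of A Q) :=
    HomologicalComplex.mkHomToSingle (ModuleCat.ofHom ψ) (fun j hj => by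
      obtain rfl : j = i - 1 := by
        have : j + 1 = i := hj
        omega
      ext x
      show P.mkQ (B.mkQ (E.d (i - 1) i x)) = 0
      rw [(Submodule.Quotient.mk_eq_zero B).2 ⟨x, rfl⟩ |> fun h => (h : B.mkQ (E.d (i - 1) i x) = 0), map_zero])
  let e' : DRing.toD ((HomologicalComplex.single (ModuleCat.{u} A) (ComplexShape.up ℤ) i).obj
      (ModuleCat.of A Q)) ≅ (shiftFunctor (Dual.D A) (-i)).obj (Dual.inD A Q) :=
    ((DerivedCategory.singleFunctorIsoCompQ (ModuleCat.{u} A) i).app _).symm ≪≫
      (Groth.Agent.DMod.singleShiftIso i _).symm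
  refine ⟨Q, inferInstance, inferInstance, inferInstance, n, ?_,
    e.inv ≫ DerivedCategory.Q.map φ ≫ e'.hom, fun h0 => hi ?_⟩
  · rw [← Submodule.range_mkQ P, ← Submodule.map_top, ← Submodule.map_smul'']
    exact Submodule.mkQ_map_self P
  let HH := DerivedCategory.homologyFunctor (ModuleCat.{u} A) i
  have h1 : HomologicalComplex.homologyMap φ i = 0 := by
    have h2 : HH.map (DerivedCategory.Q.map φ) = 0 := by
      rw [Functor.map_comp, Functor.map_comp] at h0
      haveI : IsIso (HH.map e'.hom) := inferInstance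
      exact (cancel_mono (HH.map e'.hom)).1 ((cancel_epi (HH.map e.inv)).1
        (h0.trans (by rw [CategoryTheory.Limits.zero_comp, CategoryTheory.Limits.comp_zero])))
    have h3 := DerivedCategory.homologyFunctorFactors_hom_naturality φ i
    rw [h2, CategoryTheory.Limits.zero_comp] at h3
    exact (cancel_epi ((DerivedCategory.homologyFunctorFactors (ModuleCat.{u} A) i).hom.app E)).1
      (h3.symm.trans CategoryTheory.Limits.comp_zero.symm)
  have hg : ∀ z, g z ∈ P := fun z => by
    have h4 := congrArg (fun f => f (E.homologyπ i z)) h1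
    simp only [ModuleCat.hom_zero, LinearMap.zero_apply] at h4
    rw [Groth.Agent.DMod.homologyMap_π φ i z, Groth.Agent.DMod.homologyπ_eq_zero_iff (i := i - 1) (by simp)] at h4
    obtain ⟨y, hy⟩ := h4
    rw [HomologicalComplex.single_obj_d] at hy
    rw [Groth.Agent.DMod.iCycles_cyclesMap, HomologicalComplex.mkHomToSingle_f] at hy
    refine (Submodule.Quotient.mk_eq_zero P).1 ?_
    apply ((ModuleCat.mono_iff_injective (HomologicalComplex.singleObjXSelf
      (ComplexShape.up ℤ) i (ModuleCat.of A Q)).inv).1 inferInstance)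
    rw [map_zero]
    exact hy.symm
  have hle : LinearMap.range g ≤ m • LinearMap.range g := by
    rintro _ ⟨z, rfl⟩
    have : g z ∈ P ⊓ LinearMap.range g := ⟨hg z, z, rfl⟩
    simp only [P, n] at this
    rw [hk (k + 1) (by omega), Nat.add_sub_cancel_left, pow_one] at this
    exact Submodule.smul_mono le_rfl inf_le_right this
  let l : (E.homology i) ≃ₗ[A] Dual.HD A K i :=
    (((DerivedCategory.homologyFunctorFactors (ModuleCat.{u} A) i).app E).symm ≪≫
      HH.mapIso e).toLinearEquiv
  rw [eq_top_iff]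
  intro x _
  obtain ⟨y, rfl⟩ := l.surjective x
  obtain ⟨z, rfl⟩ := Groth.Agent.DMod.homologyπ_surjective E i y
  have : g z ∈ Submodule.map g (m • ⊤) := by
    rw [Submodule.map_smul'', Submodule.map_top]
    exact hle ⟨z, rfl⟩
  obtain ⟨z', hz', hzz⟩ := this
  have heq : E.homologyπ i z = E.homologyπ i z' := by
    rw [← sub_eq_zero, ← map_sub, Groth.Agent.DMod.homologyπ_eq_zero_iff (i := i - 1) (by simp)]
    obtain ⟨w, hw⟩ := (Submodule.Quotient.eq B).1 (show B.mkQ (E.iCycles i z) = B.mkQ (E.iCycles i z') from hzz.symm)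
    exact ⟨w, hw.trans (map_sub _ _ _).symm⟩
  have h6 := Submodule.mem_map_of_mem (f := l.toLinearMap ∘ₗ (E.homologyπ i).hom) hz'
  rw [Submodule.map_smul''] at h6
  rw [heq]
  exact Submodule.smul_mono le_rfl le_top h6

end Groth.Agent.S6989
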