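import Groth.Statements.S6990
import Groth.Agent.Lib.DMod.Amplitude

set_option autoImplicit false
universe u
open CategoryTheory CategoryTheory.Limits
attribute [local instance] HasDerivedCategory.standard
open DRing

namespace Groth.Agent.S6990

open CategoryTheory.Pretriangulated in
/-- Let R be a commutative ring, a, b integers, L an object of D(R) isomorphic to a complex of
projective R-modules vanishing outside [a, b], and K an object of D(R). (1) If H^i(K) = 0 for all i
≥ a, then every morphism L → K in D(R) is zero. (2) If H^i(K) = 0 for all i ≥ a + 1, then for every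
distinguished triangle K → M → L → K[1] there is an isomorphism M ≅ K ⊕ L carrying K → M to the
first inclusion and whose composite with the second projection is M → L. -/
theorem result (R : Type u) [CommRing R] (a b : ℤ)
    (L : Dual.D R) (hL : ∃ P : DRing.Cx R, DRing.VanishesOutside P a b ∧ (∀ i : ℤ, Module.Projective R (P.X i)) ∧
      Nonempty (DRing.toD P ≅ L)) (K : Dual.D R) :
    ((∀ i : ℤ, a ≤ i → Subsingleton (Dual.HD R K i)) → Subsingleton (L ⟶ K)) ∧
      ((∀ i : ℤ, a + 1 ≤ i → Subsingleton (Dual.HD R K i)) → ∀ (T : Triangle (Dual.D R)), T ∈ distinguishedTriangles →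
        T.obj₁ = K → T.obj₃ = L → ∀ [HasBinaryBiproduct T.obj₁ T.obj₃],
          ∃ e : T.obj₂ ≅ T.obj₁ ⊞ T.obj₃, T.mor₁ ≫ e.hom = biprod.inl ∧ e.hom ≫ biprod.snd = T.mor₂) := by
  obtain ⟨P, hP, hproj, ⟨e⟩⟩ := hL
  have := ((Groth.Agent.DMod.vanishesOutside_iff P a b).1 hP).1
  have := ((Groth.Agent.DMod.vanishesOutside_iff P a b).1 hP).2
  have := Groth.Agent.DMod.isKProjective b hproj
  have key : ∀ X : Dual.D R, X.IsLE (a - 1) → Subsingleton (L ⟶ X) := fun X hX => ⟨fun f g => by
    rw [← sub_eq_zero, ← cancel_epi e.hom, comp_zero]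
    exact Groth.Agent.DMod.hom_eq_zero a (a - 1) (by omega) _⟩
  refine ⟨fun h => key K ((Groth.Agent.DMod.isLE_iff K (a - 1)).2 fun i hi => h i (by omega)),
    fun h T hT h₁ h₃ _ => ?_⟩
  have hle : T.obj₁.IsLE a :=
    h₁ ▸ (Groth.Agent.DMod.isLE_iff K a).2 fun i hi => h i (by omega)
  have hle' : ((shiftFunctor (Dual.D R) (1 : ℤ)).obj T.obj₁).IsLE (a - 1) :=
    (Groth.Agent.DMod.tS R).isLE_shift T.obj₁ a 1 (a - 1)
  have hs := key _ hle'
  rw [← h₃] at hs
  obtain ⟨e', he₁, he₂⟩ := exists_iso_binaryBiproduct_of_distTriang T hT (hs.elim _ _)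
  exact ⟨e', he₁, he₂.symm⟩

end Groth.Agent.S6990
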