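import Groth.Statements.S6998
import Groth.Agent.Lib.RelPC8.TorIndep
import Groth.Agent.Lib.RelPC8.Extend

set_option autoImplicit false
universe u
open CategoryTheory CategoryTheory.Limits
attribute [local instance] HasDerivedCategory.standard
open DerCA

namespace Groth.Agent.S6998

set_option backward.isDefEq.respectTransparency false
set_option backward.isDefEq.respectTransparency.types false
attribute [local instance] MvPolynomial.algebraMvPolynomial

open Groth.Agent.RelPC8 TensorProduct


/-- Let R → A be a finite type homomorphism of commutative rings and R → R' a ring homomorphism such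
that Tor_p^R(A, R') = 0 for every p > 0; put A' = R' ⊗_R A and assume the derived base change D(A) →
D(A') exists. Let K be an object of D(A) and m an integer. If K is m-pseudo-coherent relative to R,
then K ⊗^L_A A' is m-pseudo-coherent relative to R'; if K is pseudo-coherent relative to R, then K
⊗^L_A A' is pseudo-coherent relative to R'. -/
theorem result {R A R' : Type u} [CommRing R] [CommRing A]
    [CommRing R'] [Algebra R A] [Algebra.FiniteType R A] [Algebra R R']
    (htor : ∀ p : ℕ, 0 < p → Subsingleton (DRing.Tor R p A R'))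
    [DRing.HasLBaseChange (Algebra.TensorProduct.includeRight : A →ₐ[R] TensorProduct R R' A).toRingHom]
    (K : Dual.D A) (m : ℤ) :
    (DerCA.IsRelPseudoCoherent R A m K → DerCA.IsRelPseudoCoherent R' (TensorProduct R R' A) m
      ((DRing.LBaseChange (Algebra.TensorProduct.includeRight : A →ₐ[R] TensorProduct R R' A).toRingHom).obj K)) ∧
      (DerCA.IsRelPseudoCoherentAll R A K → DerCA.IsRelPseudoCoherentAll R' (TensorProduct R R' A)
        ((DRing.LBaseChange (Algebra.TensorProduct.includeRight : A →ₐ[R] TensorProduct R R' A).toRingHom).obj K)) := by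
  have ht : ∀ p : ℕ, IsZero (((Tor (ModuleCat.{u} R) (p + 1)).obj (ModuleCat.of R A)).obj (ModuleCat.of R R')) :=
    fun p => @ModuleCat.isZero_of_subsingleton _ _ _ (htor (p + 1) p.succ_pos)
  obtain ⟨n, α, hα⟩ := exists_presentation R A
  letI := Algebra.TensorProduct.rightAlgebra (R := R) (A := R') (B := A)
  let α' : MvPolynomial (Fin n) R' →ₐ[R'] R' ⊗[R] A := MvPolynomial.aeval fun i => 1 ⊗ₜ[R] α (MvPolynomial.X i)
  letI : Algebra (MvPolynomial (Fin n) R) A := α.toRingHom.toAlgebra
  haveI : IsScalarTower R (MvPolynomial (Fin n) R) A := IsScalarTower.of_algebraMap_eq fun r => (α.commutes r).symm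
  letI : Algebra (MvPolynomial (Fin n) R') (R' ⊗[R] A) := α'.toRingHom.toAlgebra
  haveI : IsScalarTower R' (MvPolynomial (Fin n) R') (R' ⊗[R] A) :=
    IsScalarTower.of_algebraMap_eq fun r => (α'.commutes r).symm
  letI : Algebra (MvPolynomial (Fin n) R) (R' ⊗[R] A) :=
    ((algebraMap A (R' ⊗[R] A)).comp α.toRingHom).toAlgebra
  haveI : IsScalarTower (MvPolynomial (Fin n) R) A (R' ⊗[R] A) := IsScalarTower.of_algebraMap_eq fun _ => rfl
  haveI : IsScalarTower (MvPolynomial (Fin n) R) (MvPolynomial (Fin n) R') (R' ⊗[R] A) := by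
    refine IsScalarTower.of_algebraMap_eq' (MvPolynomial.ringHom_ext (fun r => ?_) fun i => ?_)
    · show (1 : R') ⊗ₜ[R] α (MvPolynomial.C r) = α' (MvPolynomial.map (algebraMap R R') (MvPolynomial.C r))
      rw [MvPolynomial.map_C, ← MvPolynomial.algebraMap_eq, ← MvPolynomial.algebraMap_eq, α.commutes, α'.commutes,
        Algebra.TensorProduct.algebraMap_apply, Algebra.algebraMap_self, RingHom.id_apply,
        Algebra.algebraMap_eq_smul_one, Algebra.algebraMap_eq_smul_one, TensorProduct.smul_tmul]
    · show (1 : R') ⊗ₜ[R] α (MvPolynomial.X i) = α' (MvPolynomial.map (algebraMap R R') (MvPolynomial.X i))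
      rw [MvPolynomial.map_X, MvPolynomial.aeval_X]
  haveI : IsScalarTower R (MvPolynomial (Fin n) R') (R' ⊗[R] A) := IsScalarTower.of_algebraMap_eq fun r => by
    rw [IsScalarTower.algebraMap_apply R R' (R' ⊗[R] A), IsScalarTower.algebraMap_apply R R' (MvPolynomial (Fin n) R'),
      ← IsScalarTower.algebraMap_apply R' (MvPolynomial (Fin n) R') (R' ⊗[R] A)]
  haveI : Algebra.IsPushout R (MvPolynomial (Fin n) R) R' (MvPolynomial (Fin n) R') := inferInstance
  haveI : Algebra.IsPushout R A R' (R' ⊗[R] A) := Algebra.IsPushout.symm inferInstance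
  haveI : Algebra.IsPushout (MvPolynomial (Fin n) R) (MvPolynomial (Fin n) R') A (R' ⊗[R] A) :=
    ((Algebra.IsPushout.comp_iff R (MvPolynomial (Fin n) R) R' (MvPolynomial (Fin n) R')).1 inferInstance).symm
  have hα' : Function.Surjective α' := by
    intro z
    induction z using TensorProduct.induction_on with
    | zero => exact ⟨0, map_zero _⟩
    | add a b ha hb =>
      obtain ⟨p, rfl⟩ := ha
      obtain ⟨q, rfl⟩ := hb
      exact ⟨p + q, map_add _ _ _⟩
    | tmul s a =>
      obtain ⟨p, rfl⟩ := hα a
      refine ⟨MvPolynomial.C s * algebraMap (MvPolynomial (Fin n) R) (MvPolynomial (Fin n) R') p, ?_⟩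
      rw [map_mul, ← MvPolynomial.algebraMap_eq, α'.commutes]
      show _ * algebraMap (MvPolynomial (Fin n) R') (R' ⊗[R] A) (algebraMap _ _ p) = _
      rw [← IsScalarTower.algebraMap_apply]
      show (s ⊗ₜ[R] (1 : A)) * ((1 : R') ⊗ₜ[R] α p) = _
      rw [Algebra.TensorProduct.tmul_mul_tmul, mul_one, one_mul]
  have key : ∀ j, DerCA.IsRelPseudoCoherent R A j K → DerCA.IsRelPseudoCoherent R' (TensorProduct R R' A) j
      ((DRing.LBaseChange (Algebra.TensorProduct.includeRight : A →ₐ[R] TensorProduct R R' A).toRingHom).obj K) :=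
    fun j h => by
      obtain ⟨b, hb⟩ := rel_bddAbove h
      obtain ⟨F, hF, hfree, ⟨e⟩⟩ := Groth.Agent.DMod.exists_free_resolution K b
      have h' := (rel_iff α hα j _).1 (rel_congr e.symm h)
      let S : FlatCut (MvPolynomial (Fin n) R) (MvPolynomial (Fin n) R') :=
        baseChangeCut (R := R) (R' := R') (ProjectiveResolution.of (ModuleCat.of R R'))
      have hac : ∀ i, S.Acyc ((rS (algebraMap (MvPolynomial (Fin n) R) A)).obj (F.X i)) := fun i => by
        letI : Module (MvPolynomial (Fin n) R) (F.X i) :=
          Module.compHom (F.X i) (algebraMap (MvPolynomial (Fin n) R) A)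
        haveI : IsScalarTower (MvPolynomial (Fin n) R) A (F.X i) :=
          ⟨fun r s x => by rw [Algebra.smul_def, mul_smul]; rfl⟩
        haveI := hfree i
        exact acyc_baseChangeCut (P := MvPolynomial (Fin n) R) (P' := MvPolynomial (Fin n) R')
          (ProjectiveResolution.of (ModuleCat.of R R')) ht (F.X i)
      refine rel_congr ((Groth.Agent.DBaseChange.valueIso
          (Algebra.TensorProduct.includeRight : A →ₐ[R] TensorProduct R R' A).toRingHom F
          (Groth.Agent.DBaseChange.adapted_of_flat F b (Groth.Agent.DBaseChange.flat_of_free hfree))).symm ≪≫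
        (DRing.LBaseChange (Algebra.TensorProduct.includeRight : A →ₐ[R] TensorProduct R R' A).toRingHom).mapIso e)
        ((rel_iff α' hα' j _).2 ?_)
      exact pv_eCx_of_acyc (A := A) (A' := R' ⊗[R] A) S F b hac h'
  exact ⟨key m, fun h j => key j (h j)⟩


end Groth.Agent.S6998
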