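import Groth.Statements.S6999
import Groth.Agent.Lib.DMod.Amplitude
import Mathlib.Algebra.Category.ModuleCat.FilteredColimits

set_option autoImplicit false
set_option linter.style.haveILetI false
set_option backward.isDefEq.respectTransparency false
universe u
open CategoryTheory CategoryTheory.Limits
attribute [local instance] HasDerivedCategory.standard
open DRing

namespace Groth.Agent.S6999

open CategoryTheory CategoryTheory.Limits CategoryTheory.Pretriangulated
attribute [local instance] HasDerivedCategory.standard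

variable {R : Type u} [CommRing R] {J : Type u} [SmallCategory J] [IsFiltered J]
  (F : J ⥤ ModuleCat.{u} R) (c : Cocone F)

/-- Finite families of elements lift to a common stage. -/
theorem exists_lift (hc : IsColimit c) (P : ModuleCat.{u} R) (hP : Module.Finite R P ∧ Module.Free R P)
    (a : P ⟶ c.pt) : ∃ (j : J) (a' : P ⟶ F.obj j), a' ≫ c.ι.app j = a := by
  haveI := hP.1; haveI := hP.2
  classical
  let bas := Module.Free.chooseBasis R P
  choose js ys hys using fun k => Concrete.isColimit_exists_rep F hc (a (bas k))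
  obtain ⟨j, hj⟩ := IsFiltered.sup_objs_exists (Finset.univ.image js)
  let f : ∀ k, js k ⟶ j := fun k => (hj (Finset.mem_image_of_mem js (Finset.mem_univ k))).some
  refine ⟨j, ModuleCat.ofHom (bas.constr R fun k => F.map (f k) (ys k)), ModuleCat.hom_ext (bas.ext fun k => ?_)⟩
  show c.ι.app j (bas.constr R (fun k => F.map (f k) (ys k)) (bas k)) = a (bas k)
  rw [Module.Basis.constr_basis, ← hys k]
  exact congrArg (fun φ : F.obj (js k) ⟶ c.pt => φ (ys k)) (c.w (f k))

/-- A map from a finite free module vanishing in the colimit vanishes at some stage. -/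
theorem exists_zero (hc : IsColimit c) (P : ModuleCat.{u} R) (hP : Module.Finite R P ∧ Module.Free R P)
    {j : J} (a : P ⟶ F.obj j) (ha : a ≫ c.ι.app j = 0) : ∃ (j' : J) (f : j ⟶ j'), a ≫ F.map f = 0 := by
  haveI := hP.1; haveI := hP.2
  classical
  let bas := Module.Free.chooseBasis R P
  have key : ∀ s : Finset (Module.Free.ChooseBasisIndex R P),
      ∃ (j' : J) (f : j ⟶ j'), ∀ k ∈ s, F.map f (a (bas k)) = 0 := by
    intro s
    induction s using Finset.induction_on with
    | empty => exact ⟨j, 𝟙 j, fun k hk => absurd hk (Finset.notMem_empty k)⟩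
    | insert k s _ ih =>
      obtain ⟨j₁, f₁, h₁⟩ := ih
      have h0 : c.ι.app j₁ (F.map f₁ (a (bas k))) = c.ι.app j₁ 0 := by
        rw [map_zero]
        exact (congrArg (fun φ : F.obj j ⟶ c.pt => φ (a (bas k))) (c.w f₁)).trans
          (congrArg (fun φ : P ⟶ c.pt => φ (bas k)) ha)
      obtain ⟨j₂, g₁, g₂, hg⟩ := Concrete.isColimit_exists_of_rep_eq F hc _ _ h0
      rw [map_zero] at hg
      refine ⟨j₂, f₁ ≫ g₁, fun l hl => ?_⟩
      rw [F.map_comp, ModuleCat.comp_apply]
      rcases Finset.mem_insert.1 hl with rfl | hl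
      · exact hg
      · rw [h₁ l hl, map_zero]
  obtain ⟨j', f, hf⟩ := key Finset.univ
  exact ⟨j', f, ModuleCat.hom_ext (bas.ext fun k => hf k (Finset.mem_univ k))⟩

variable (E : DRing.Cx R)

/-- The map to a module placed in degree `i` given by a cocycle. -/
noncomputable def clsOf [CochainComplex.IsKProjective E] (i : ℤ) {M : ModuleCat.{u} R} (a : E.X i ⟶ M)
    (ha : E.d (i - 1) i ≫ a = 0) : DRing.toD E ⟶ (DerivedCategory.singleFunctor (ModuleCat.{u} R) i).obj M :=
  DerivedCategory.Q.map (HomologicalComplex.mkHomToSingle a (fun k hk => by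
      obtain rfl : k = i - 1 := by
        have : k + 1 = i := hk
        omega
      exact ha)) ≫ (DerivedCategory.singleFunctorIsoCompQ (ModuleCat.{u} R) i).inv.app M

variable [CochainComplex.IsKProjective E]

theorem exists_clsOf (i : ℤ) {M : ModuleCat.{u} R}
    (f : DRing.toD E ⟶ (DerivedCategory.singleFunctor (ModuleCat.{u} R) i).obj M) :
    ∃ (a : E.X i ⟶ M) (ha : E.d (i - 1) i ≫ a = 0), clsOf E i a ha = f := by
  let e := (DerivedCategory.singleFunctorIsoCompQ (ModuleCat.{u} R) i).app M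
  obtain ⟨φ, hφ⟩ := Groth.Agent.DMod.exists_map_eq (P := E) (f ≫ e.hom)
  let a := φ.f i ≫ (HomologicalComplex.singleObjXSelf (ComplexShape.up ℤ) i M).hom
  have ha : E.d (i - 1) i ≫ a = 0 := by
    simp only [a]
    rw [← φ.comm_assoc, (Groth.Agent.DMod.isZero_single_X (show i - 1 ≠ i by omega) M).eq_of_tgt (φ.f (i - 1)) 0, zero_comp]
  refine ⟨a, ha, ?_⟩
  rw [clsOf]
  have hh : HomologicalComplex.mkHomToSingle a (fun k hk => by
      obtain rfl : k = i - 1 := by
        have : k + 1 = i := hk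
        omega
      exact ha) = φ := HomologicalComplex.to_single_hom_ext (by simp [a])
  rw [hh]
  exact (congrArg (· ≫ e.inv) hφ).trans ((Category.assoc _ _ _).trans (by rw [e.hom_inv_id, Category.comp_id]))

theorem clsOf_comp (i : ℤ) {M N : ModuleCat.{u} R} (a : E.X i ⟶ M) (ha : E.d (i - 1) i ≫ a = 0) (g : M ⟶ N) :
    clsOf E i a ha ≫ (DerivedCategory.singleFunctor (ModuleCat.{u} R) i).map g =
      clsOf E i (a ≫ g) (by rw [← Category.assoc, ha, zero_comp]) := by
  rw [clsOf, clsOf, Category.assoc, ← (DerivedCategory.singleFunctorIsoCompQ (ModuleCat.{u} R) i).inv.naturality,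
    ← Category.assoc]
  congr 1
  refine (DerivedCategory.Q.map_comp _ _).symm.trans (congrArg _ ?_)
  refine HomologicalComplex.to_single_hom_ext ?_
  rw [HomologicalComplex.comp_f, HomologicalComplex.mkHomToSingle_f, HomologicalComplex.mkHomToSingle_f]
  erw [HomologicalComplex.single_map_f_self]
  simp

theorem clsOf_eq_zero_iff (i : ℤ) {M : ModuleCat.{u} R} (a : E.X i ⟶ M) (ha : E.d (i - 1) i ≫ a = 0) :
    clsOf E i a ha = 0 ↔ ∃ b : E.X (i + 1) ⟶ M, E.d i (i + 1) ≫ b = a := by
  constructor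
  · intro h
    rw [clsOf] at h
    obtain ⟨H⟩ := (Groth.Agent.DMod.map_eq_zero_iff _).1
      ((cancel_mono ((DerivedCategory.singleFunctorIsoCompQ (ModuleCat.{u} R) i).inv.app M)).1 (h.trans zero_comp.symm))
    refine ⟨H.hom (i + 1) i ≫ (HomologicalComplex.singleObjXSelf (ComplexShape.up ℤ) i M).hom, ?_⟩
    have hc := H.comm i
    rw [HomologicalComplex.mkHomToSingle_f, dNext_eq H.hom (show (ComplexShape.up ℤ).Rel i (i + 1) from rfl),
      prevD_eq H.hom (show (ComplexShape.up ℤ).Rel (i - 1) i from sub_add_cancel i 1),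
      (Groth.Agent.DMod.isZero_single_X (show i - 1 ≠ i by omega) M).eq_of_tgt (H.hom i (i - 1)) 0, zero_comp, add_zero,
      HomologicalComplex.zero_f, add_zero] at hc
    rw [← Category.assoc, ← hc, Category.assoc, Iso.inv_hom_id, Category.comp_id]
  · rintro ⟨b, rfl⟩
    rw [clsOf]
    refine (congrArg (fun t => t ≫ _) ((Groth.Agent.DMod.map_eq_zero_iff _).2 ⟨?_⟩)).trans zero_comp
    let S := (HomologicalComplex.single (ModuleCat.{u} R) (ComplexShape.up ℤ) i).obj M
    let hom : ∀ p q, (ComplexShape.up ℤ).Rel q p → (E.X p ⟶ S.X q) := fun p q hpq =>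
      if hq : q = i then (E.XIsoOfEq (show p = i + 1 by have : q + 1 = p := hpq; omega)).hom ≫ b ≫
        (HomologicalComplex.singleObjXIsoOfEq (ComplexShape.up ℤ) i M q hq).inv else 0
    refine (Homotopy.ofEq ?_).trans (Homotopy.nullHomotopy' hom)
    apply HomologicalComplex.to_single_hom_ext
    rw [HomologicalComplex.mkHomToSingle_f,
      Homotopy.nullHomotopicMap'_f (show (ComplexShape.up ℤ).Rel (i - 1) i from sub_add_cancel i 1)
        (show (ComplexShape.up ℤ).Rel i (i + 1) from rfl)]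
    simp only [hom, dif_pos, dif_neg (show i - 1 ≠ i by omega), zero_comp, add_zero, Category.assoc, dite_true]
    rw [show (E.XIsoOfEq (rfl : i + 1 = i + 1)).hom = 𝟙 _ from rfl, Category.id_comp]
    rfl

/-- Classes on a finite free complex commute with filtered colimits. -/
theorem comparison (hE : DRing.TermwiseFiniteFree E) (hc : IsColimit c) :
    (∀ (n : ℤ) (x : DRing.toD E ⟶ (shiftFunctor (Dual.D R) n).obj (Dual.inD R c.pt)),
      ∃ (j : J) (y : DRing.toD E ⟶ (shiftFunctor (Dual.D R) n).obj (Dual.inD R (F.obj j))),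
        y ≫ (shiftFunctor (Dual.D R) n).map
          ((DerivedCategory.singleFunctor (ModuleCat.{u} R) 0).map (c.ι.app j)) = x) ∧
    (∀ (n : ℤ) (j : J) (y : DRing.toD E ⟶ (shiftFunctor (Dual.D R) n).obj (Dual.inD R (F.obj j))),
      y ≫ (shiftFunctor (Dual.D R) n).map
          ((DerivedCategory.singleFunctor (ModuleCat.{u} R) 0).map (c.ι.app j)) = 0 →
      ∃ (j' : J) (f : j ⟶ j'), y ≫ (shiftFunctor (Dual.D R) n).map
          ((DerivedCategory.singleFunctor (ModuleCat.{u} R) 0).map (F.map f)) = 0) := by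
  let e := fun n : ℤ => ((DerivedCategory.singleFunctors (ModuleCat.{u} R)).shiftIso n (-n) 0 (add_neg_cancel n))
  have nat : ∀ (n : ℤ) {M N : ModuleCat.{u} R} (g : M ⟶ N), (e n).hom.app M ≫
      (DerivedCategory.singleFunctor (ModuleCat.{u} R) (-n)).map g =
        (shiftFunctor (Dual.D R) n).map ((DerivedCategory.singleFunctor (ModuleCat.{u} R) 0).map g) ≫ (e n).hom.app N :=
    fun n _ _ g => ((e n).hom.naturality g).symm
  constructor
  · intro n x
    obtain ⟨a, ha, hax⟩ := exists_clsOf E (-n) (x ≫ (e n).hom.app c.pt)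
    obtain ⟨j, a', ha'⟩ := exists_lift F c hc _ (hE (-n)) a
    obtain ⟨j', f, hf⟩ := exists_zero F c hc _ (hE (-n - 1)) (E.d (-n - 1) (-n) ≫ a') (by rw [Category.assoc, ha', ha])
    rw [Category.assoc] at hf
    refine ⟨j', clsOf E (-n) (a' ≫ F.map f) hf ≫ (e n).inv.app _, ?_⟩
    rw [← cancel_mono ((e n).hom.app c.pt), Category.assoc, Category.assoc]
    erw [← nat, Iso.inv_hom_id_app_assoc]
    rw [clsOf_comp, ← hax]
    congr 1
    rw [Category.assoc, c.w, ha']
  · intro n j y hy
    obtain ⟨a, ha, hay⟩ := exists_clsOf E (-n) (y ≫ (e n).hom.app (F.obj j))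
    have h0 : clsOf E (-n) (a ≫ c.ι.app j) (by rw [← Category.assoc, ha, zero_comp]) = 0 := by
      rw [← clsOf_comp E (-n) a ha, hay, Category.assoc, nat, ← Category.assoc, hy, zero_comp]
    obtain ⟨b, hb⟩ := (clsOf_eq_zero_iff E (-n) _ _).1 h0
    obtain ⟨j₁, b', hb'⟩ := exists_lift F c hc _ (hE (-n + 1)) b
    let j₂ := IsFiltered.max j j₁
    obtain ⟨j', f, hf⟩ := exists_zero F c hc _ (hE (-n))
      (a ≫ F.map (IsFiltered.leftToMax j j₁) - E.d (-n) (-n + 1) ≫ b' ≫ F.map (IsFiltered.rightToMax j j₁))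
      (by simp only [Preadditive.sub_comp, Category.assoc, c.w, hb', hb, sub_self])
    refine ⟨j', IsFiltered.leftToMax j j₁ ≫ f, ?_⟩
    rw [← cancel_mono ((e n).hom.app (F.obj j')), zero_comp, Category.assoc, ← nat, ← Category.assoc, ← hay, clsOf_comp,
      clsOf_eq_zero_iff]
    refine ⟨b' ≫ F.map (IsFiltered.rightToMax j j₁) ≫ F.map f, ?_⟩
    rw [Preadditive.sub_comp, sub_eq_zero] at hf
    simp only [Category.assoc, Functor.map_comp] at hf ⊢
    exact hf.symm


/-- Let R be a commutative ring, m an integer, K an m-pseudo-coherent object of D(R), and (M_j) a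
diagram of R-modules over a small filtered category with colimit cocone M. Then the canonical map
colim_j Hom(K, M_j[n]) → Hom(K, M[n]) in D(R) is bijective for n < -m and injective for n = -m.
Unfolded: for n < -m every morphism K → M[n] factors through M_j[n] → M[n] for some j; and for n ≤
-m, a morphism K → M_j[n] whose composite with M_j[n] → M[n] is zero already has zero composite with
M_j[n] → M_(j')[n] for some j → j'. -/
theorem result (R : Type u) [CommRing R] (m : ℤ) (K : Dual.D R)
    (hK : DRing.IsPseudoCoherent R m K) {J : Type u} [SmallCategory J] [IsFiltered J]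
    (F : J ⥤ ModuleCat.{u} R) (c : Cocone F) (hc : IsColimit c) :
    (∀ n : ℤ, n < -m → ∀ x : K ⟶ (shiftFunctor (Dual.D R) n).obj (Dual.inD R c.pt),
      ∃ (j : J) (y : K ⟶ (shiftFunctor (Dual.D R) n).obj (Dual.inD R (F.obj j))),
        y ≫ (shiftFunctor (Dual.D R) n).map
          ((DerivedCategory.singleFunctor (ModuleCat.{u} R) 0).map (c.ι.app j)) = x) ∧
    (∀ n : ℤ, n ≤ -m → ∀ (j : J) (y : K ⟶ (shiftFunctor (Dual.D R) n).obj (Dual.inD R (F.obj j))),
      y ≫ (shiftFunctor (Dual.D R) n).map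
          ((DerivedCategory.singleFunctor (ModuleCat.{u} R) 0).map (c.ι.app j)) = 0 →
      ∃ (j' : J) (f : j ⟶ j'), y ≫ (shiftFunctor (Dual.D R) n).map
          ((DerivedCategory.singleFunctor (ModuleCat.{u} R) 0).map (F.map f)) = 0) := by
  obtain ⟨E, b, C, α, g, h, hE, hF, hT, hC⟩ := (Groth.Agent.DMod.pc_iff m K).1 hK
  haveI := hC
  haveI : CochainComplex.IsStrictlyLE E b := (CochainComplex.isStrictlyLE_iff E b).2 fun i hi => hE i (Or.inr hi)
  haveI : CochainComplex.IsKProjective E := Groth.Agent.DMod.isKProjective b fun i => by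
    haveI := (hF i).2
    infer_instance
  let T : ℤ → ModuleCat.{u} R ⥤ Dual.D R := fun n =>
    DerivedCategory.singleFunctor (ModuleCat.{u} R) 0 ⋙ shiftFunctor (Dual.D R) n
  have hzero : ∀ (n : ℤ) (M : ModuleCat.{u} R) (Z : Dual.D R) (c' : ℤ), Z.IsLE c' → c' < -n →
      ∀ f : Z ⟶ (T n).obj M, f = 0 := fun n M Z c' hZ hc' f => by
    haveI : ((T n).obj M).IsGE (-n) := DerivedCategory.TStructure.t.isGE_of_iso
      (Groth.Agent.DMod.singleShiftIso' n M).symm (-n)
    haveI := hZ
    exact DerivedCategory.TStructure.t.zero f c' (-n) hc'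
  have hinj : ∀ (n : ℤ), n ≤ -m → ∀ (M : ModuleCat.{u} R) (f : K ⟶ (T n).obj M), α ≫ f = 0 → f = 0 := by
    intro n hn M f hf
    obtain ⟨z, hz⟩ := Triangle.yoneda_exact₂ _ hT f hf
    rw [hz, hzero n M C (m - 1) hC (by omega) z]
    exact comp_zero
  have hsurj : ∀ (n : ℤ), n < -m → ∀ (M : ModuleCat.{u} R) (f : DRing.toD E ⟶ (T n).obj M),
      ∃ f' : K ⟶ (T n).obj M, α ≫ f' = f := by
    intro n hn M f
    let Tr := Triangle.mk α g h
    have hT' : Tr.invRotate ∈ distTriang _ := inv_rot_of_distTriang _ hT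
    obtain ⟨f', hf'⟩ := Triangle.yoneda_exact₂ _ hT' (show Tr.invRotate.obj₂ ⟶ (T n).obj M from f) (by
      haveI : (C⟦(-1 : ℤ)⟧).IsLE m := DerivedCategory.TStructure.t.isLE_shift C (m - 1) (-1) m (by omega)
      exact hzero n M _ m this (by omega) _)
    exact ⟨f', hf'.symm⟩
  obtain ⟨hE1, hE2⟩ := comparison F c E hF hc
  refine ⟨fun n hn x => ?_, fun n hn j y hy => ?_⟩
  · obtain ⟨j, y, hy⟩ := hE1 n (α ≫ x)
    obtain ⟨y', hy'⟩ := hsurj n hn _ y
    refine ⟨j, y', sub_eq_zero.1 (hinj n (le_of_lt hn) _ _ ?_)⟩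
    rw [Preadditive.comp_sub, ← Category.assoc, hy', sub_eq_zero]
    exact hy
  · obtain ⟨j', f, hf⟩ := hE2 n j (α ≫ y) (by rw [Category.assoc, hy, comp_zero])
    exact ⟨j', f, hinj n hn _ _ (by rw [← Category.assoc]; exact hf)⟩

end Groth.Agent.S6999
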