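import Groth.Statements.S7000
import Groth.Agent.Lib.DBaseChange.ExtFlat
-- import your own Groth.Agent.* helpers here

set_option autoImplicit false
universe u
open CategoryTheory CategoryTheory.Limits
attribute [local instance] HasDerivedCategory.standard
open DRing

namespace Groth.Agent.S7000

/-- Let A → B be a flat homomorphism of commutative rings, m an integer and M an A-module. If M is
m-pseudo-coherent then the B-module B ⊗_A M is m-pseudo-coherent; if M is pseudo-coherent then B ⊗_A
M is pseudo-coherent. -/
theorem result {A B : Type u} [CommRing A] [CommRing B] [Algebra A B]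
    [Module.Flat A B] (m : ℤ) (M : Type u) [AddCommGroup M] [Module A M] :
    (DRing.IsPseudoCoherentModule A m M → DRing.IsPseudoCoherentModule B m (TensorProduct A B M)) ∧
      (DRing.IsPseudoCoherentModule' A M → DRing.IsPseudoCoherentModule' B (TensorProduct A B M)) := by
  refine ⟨fun h => ?_, fun h => ?_⟩
  · obtain ⟨t⟩ := Groth.Agent.DBaseChange.nonempty_ext_inD_iso (B := B) M
      ((DerivedCategory.singleFunctorIsoCompQ (ModuleCat.{u} A) 0).app (ModuleCat.of A M)).symm
    exact Groth.Agent.DMod.pc_of_iso t (Groth.Agent.DBaseChange.pc_ext_of_flat (algebraMap A B)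
      (RingHom.flat_algebraMap_iff.2 inferInstance) _ m (Groth.Agent.DMod.pc_of_iso
        ((DerivedCategory.singleFunctorIsoCompQ (ModuleCat.{u} A) 0).app (ModuleCat.of A M)) h))
  · obtain ⟨E, b, hv, hE, ⟨e⟩⟩ := h
    obtain ⟨t⟩ := Groth.Agent.DBaseChange.nonempty_ext_inD_iso (B := B) M e
    exact ⟨_, b, fun i hi => Functor.map_isZero (ModuleCat.extendScalars.{u, u, u} (algebraMap A B)) (hv i hi),
      Groth.Agent.DBaseChange.termwiseFiniteFree_ext (algebraMap A B) hE, ⟨t⟩⟩

end Groth.Agent.S7000
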