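import Groth.Statements.S7004
import Groth.Agent.Lib.DMod.Splitting

set_option autoImplicit false
universe u
open CategoryTheory CategoryTheory.Limits
attribute [local instance] HasDerivedCategory.standard
open DRing

namespace Groth.Agent.S7004

/-- Let R be a commutative ring, a an integer and K an object of D(R) whose cohomology vanishes in large
degrees, such that Hom(K, M[-a]) = 0 in D(R) for every R-module M. Then K ≅ τ_(≤ a-1) K ⊕ τ_(≥ a+1)
K by an isomorphism carrying τ_(≤ a-1) K → K to the first inclusion and K → τ_(≥ a+1) K to the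
second projection, and τ_(≥ a+1) K is isomorphic in D(R) to a complex of projective modules
vanishing outside [a+1, b] for some integer b. (The published statement also asserts that the
decomposition is unique; that part is not restated.) -/
theorem result (R : Type u) [CommRing R] (a : ℤ) (K : Dual.D R)
    (hKb : ∃ b : ℤ, ∀ i : ℤ, b < i → Subsingleton (Dual.HD R K i))
    (h : ∀ (M : Type u) [AddCommGroup M] [Module R M],
      Subsingleton (K ⟶ (shiftFunctor (Dual.D R) (-a)).obj (Dual.inD R M)))
    [HasBinaryBiproduct (((DerivedCategory.TStructure.t : Triangulated.TStructure (Dual.D R)).truncLT a).obj K) (((DerivedCategory.TStructure.t : Triangulated.TStructure (Dual.D R)).truncGE (a + 1)).obj K)] :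
    (∃ e : K ≅ ((DerivedCategory.TStructure.t : Triangulated.TStructure (Dual.D R)).truncLT a).obj K ⊞ ((DerivedCategory.TStructure.t : Triangulated.TStructure (Dual.D R)).truncGE (a + 1)).obj K,
      ((DerivedCategory.TStructure.t : Triangulated.TStructure (Dual.D R)).truncLTι a).app K ≫ e.hom = biprod.inl ∧
        e.hom ≫ biprod.snd = ((DerivedCategory.TStructure.t : Triangulated.TStructure (Dual.D R)).truncGEπ (a + 1)).app K) ∧
      ∃ (P : DRing.Cx R) (b : ℤ), DRing.VanishesOutside P (a + 1) b ∧ (∀ i : ℤ, Module.Projective R (P.X i)) ∧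
        Nonempty (DRing.toD P ≅ ((DerivedCategory.TStructure.t : Triangulated.TStructure (Dual.D R)).truncGE (a + 1)).obj K) := by
  obtain ⟨b, hb⟩ := hKb
  have := (Groth.Agent.DMod.isLE_iff K b).2 hb
  obtain ⟨P, hP, hPf, ⟨e⟩⟩ := Groth.Agent.DMod.exists_free_resolution K b
  have hproj : ∀ i, Module.Projective R (P.X i) := fun i => have := hPf i; inferInstance
  have := Groth.Agent.DMod.isKProjective b hproj
  have h' : ∀ M : ModuleCat.{u} R, Subsingleton (K ⟶ (Groth.Agent.DMod.single a).obj M) := fun M =>
    ⟨fun f g => (cancel_mono (Groth.Agent.DMod.singleShiftIso a M).inv).1 ((h M).elim _ _)⟩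
  obtain ⟨g, hg⟩ := Groth.Agent.DMod.retraction_of_hom_zero e a h'
  have hQ := Groth.Agent.DMod.truncGE_projAmp e a b hproj g hg
  have hn := Groth.Agent.DMod.isIso_natTrans_truncLT a (Groth.Agent.DMod.subsingleton_HD_of_hom h')
  let t := Groth.Agent.DMod.tS R
  let n := asIso ((t.natTransTruncLTOfLE a (a + 1) (Int.le_add_one le_rfl)).app K)
  have hι : n.hom ≫ (t.truncLTι (a + 1)).app K = (t.truncLTι a).app K :=
    t.natTransTruncLTOfLE_ι_app a (a + 1) (Int.le_add_one le_rfl) K
  have hT := Pretriangulated.isomorphic_distinguished _ (t.triangleLTGE_distinguished (a + 1) K)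
    (Pretriangulated.Triangle.mk ((t.truncLTι a).app K) ((t.truncGEπ (a + 1)).app K)
      ((t.truncGEδLT (a + 1)).app K ≫ (shiftFunctor (Dual.D R) (1 : ℤ)).map n.inv))
    (Pretriangulated.Triangle.isoMk _ _ n (Iso.refl _) (Iso.refl _)
      ((Category.comp_id _).trans hι.symm)
      ((Category.comp_id _).trans (Category.id_comp _).symm)
      (((Category.assoc _ _ _).trans
        ((congrArg ((t.truncGEδLT (a + 1)).app K ≫ ·) (((shiftFunctor (Dual.D R) (1 : ℤ)).map_comp _ _).symm.trans
          ((congrArg _ n.inv_hom_id).trans ((shiftFunctor (Dual.D R) (1 : ℤ)).map_id _)))).trans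
            (Category.comp_id _))).trans
        (Category.id_comp _).symm))
  obtain ⟨e', he₁, he₂⟩ := Groth.Agent.DMod.exists_split hT a b
    ((t.isLE_truncLT_obj K a a (by omega))) hQ
  obtain ⟨Q, hQ1, hQ2, hQ3⟩ := hQ
  exact ⟨⟨e', he₁, he₂⟩, Q, b, hQ1, hQ2, hQ3⟩

end Groth.Agent.S7004
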