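import Groth.Statements.S7008
import Groth.Agent.Lib.RelPC8.Localize

set_option autoImplicit false
universe u
open CategoryTheory CategoryTheory.Limits
attribute [local instance] HasDerivedCategory.standard
open DerCA

namespace Groth.Agent.S7008

set_option backward.isDefEq.respectTransparency false

open Groth.Agent.RelPC8


/-- Let R be a commutative ring, f an element of R, A a finite type R_f-algebra, g an element of A, K a
cochain complex of A-modules and m an integer; write K_g for the termwise localization K ⊗_A A_g, a
complex over the finite type R-algebra A_g. Suppose K is m-pseudo-coherent relative to R_f; then K_g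
is m-pseudo-coherent relative to R. Suppose K is pseudo-coherent relative to R_f in every degree;
then so is K_g relative to R. -/
theorem result {R A : Type u} [CommRing R] [CommRing A] (f : R) [Algebra R A]
    [Algebra (Localization.Away f) A] [IsScalarTower R (Localization.Away f) A]
    [Algebra.FiniteType (Localization.Away f) A] (g : A) (K : DRing.Cx A) (m : ℤ) :
    (DerCA.IsRelPseudoCoherent (Localization.Away f) A m (DRing.toD K) →
      DerCA.IsRelPseudoCoherent R (Localization.Away g) m
        (DRing.toD (((ModuleCat.extendScalars (algebraMap A (Localization.Away g))).mapHomologicalComplex
          (ComplexShape.up ℤ)).obj K))) ∧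
      (DerCA.IsRelPseudoCoherentAll (Localization.Away f) A (DRing.toD K) →
        DerCA.IsRelPseudoCoherentAll R (Localization.Away g)
          (DRing.toD (((ModuleCat.extendScalars (algebraMap A (Localization.Away g))).mapHomologicalComplex
            (ComplexShape.up ℤ)).obj K))) := by
  haveI : Algebra.FiniteType R A := Algebra.FiniteType.trans (S := Localization.Away f) inferInstance inferInstance
  have key : ∀ j, DerCA.IsRelPseudoCoherent (Localization.Away f) A j (DRing.toD K) →
      DerCA.IsRelPseudoCoherent R (Localization.Away g) j
        (DRing.toD (((ModuleCat.extendScalars (algebraMap A (Localization.Away g))).mapHomologicalComplex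
          (ComplexShape.up ℤ)).obj K)) := fun j h =>
    rel_localization g K ((rel_intermediate_iff (relAll_of_pch (Groth.Agent.PCMor4.pch_away f)) j _).1 h)
  exact ⟨key m, fun h j => key j (h j)⟩


end Groth.Agent.S7008
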