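import Groth.Statements.S7013
import Groth.Agent.Lib.DBaseChange.Lift
-- import your own Groth.Agent.* helpers here

set_option autoImplicit false
set_option linter.style.haveILetI false
set_option backward.isDefEq.respectTransparency false
universe u
open CategoryTheory CategoryTheory.Limits
attribute [local instance] HasDerivedCategory.standard
open DRing

namespace Groth.Agent.S7013

/-- Let R be a commutative ring and I an ideal of R such that the derived base change D(R) → D(R/I)
exists. Let Pc be a class of R-modules closed under isomorphisms such that: (1) every module in Pc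
is projective; (2) for P₁ in Pc and any P₂, the sum P₁ ⊕ P₂ is in Pc if and only if P₂ is; (3) every
homomorphism between modules of Pc which is surjective modulo I is surjective. Let K be an object of
D(R) which is represented by a bounded above complex with terms in Pc, and E a bounded above cochain
complex of R/I-modules, each term isomorphic to P/IP for some P in Pc, which is isomorphic in D(R/I)
to K ⊗^L_R R/I. Then there is a bounded above cochain complex P with terms in Pc which is isomorphic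
to K in D(R) and whose termwise reduction modulo I is isomorphic to E as a complex. -/
theorem result (R : Type u) [CommRing R] (I : Ideal R)
    [DRing.HasLBaseChange (Ideal.Quotient.mk I)]
    (Pc : ObjectProperty (ModuleCat.{u} R)) [Pc.IsClosedUnderIsomorphisms]
    (h1 : ∀ X : ModuleCat.{u} R, Pc X → Module.Projective R X)
    (h2 : ∀ X Y : ModuleCat.{u} R, Pc X → (Pc (ModuleCat.of R (X × Y)) ↔ Pc Y))
    (h3 : ∀ (X Y : ModuleCat.{u} R) (f : X ⟶ Y), Pc X → Pc Y →
      LinearMap.range f.hom ⊔ I • (⊤ : Submodule R Y) = ⊤ → Function.Surjective f.hom)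
    (K : Dual.D R) (hK : ∃ (Q : DRing.Cx R) (c : ℤ), DRing.VanishesAbove Q c ∧ (∀ i : ℤ, Pc (Q.X i)) ∧
      Nonempty (DRing.toD Q ≅ K))
    (E : DRing.Cx (R ⧸ I)) (b : ℤ) (hEb : DRing.VanishesAbove E b)
    (hEt : ∀ i : ℤ, ∃ X : ModuleCat.{u} R, Pc X ∧ Nonempty (TensorProduct R (R ⧸ I) X ≃ₗ[R ⧸ I] E.X i))
    (hE : Nonempty (DRing.toD E ≅ (DRing.LBaseChange (Ideal.Quotient.mk I)).obj K)) :
    ∃ (P : DRing.Cx R) (b' : ℤ), DRing.VanishesAbove P b' ∧ (∀ i : ℤ, Pc (P.X i)) ∧
      Nonempty (DRing.toD P ≅ K) ∧ Nonempty ((((ModuleCat.extendScalars (Ideal.Quotient.mk I)).mapHomologicalComplex (ComplexShape.up ℤ)).obj P) ≅ E) := by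
  have hc : Groth.Agent.DBaseChange.Lift.Cls I Pc := ⟨h1, fun X Y hX hXY => (h2 X Y hX).1 hXY, h3⟩
  obtain ⟨Q, c, hQc, hQ, ⟨eQ⟩⟩ := hK
  obtain ⟨eE⟩ := hE
  haveI := (Groth.Agent.DMod.vanishesAbove_iff Q c).1 hQc
  haveI := (Groth.Agent.DMod.vanishesAbove_iff E b).1 hEb
  let B := max c b
  haveI : Q.IsStrictlyLE B := Q.isStrictlyLE_of_le c B (le_max_left _ _)
  haveI : E.IsStrictlyLE B := E.isStrictlyLE_of_le b B (le_max_right _ _)
  have hflat : ∀ i, Module.Flat R (Q.X i) := fun i => haveI := h1 _ (hQ i); inferInstance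
  obtain ⟨P, b', hb', hP, ⟨eP⟩, hiso⟩ := Groth.Agent.DBaseChange.Lift.exists_representative_lift hc
    (fun X Y hX hY => (h2 X Y hX).2 hY) Q B hQ E
    (fun i => let ⟨X, hX, hX'⟩ := hEt i; ⟨X, hX, Groth.Agent.DBaseChange.Lift.red_iso_of_tensor hX'⟩)
    ((Groth.Agent.DBaseChange.valueIso _ Q (Groth.Agent.DBaseChange.adapted_of_flat Q B hflat)).symm ≪≫
      (DRing.LBaseChange _).mapIso eQ ≪≫ eE.symm)
  exact ⟨P, b', hb', hP, ⟨eP ≪≫ eQ⟩, hiso⟩

end Groth.Agent.S7013
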