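import Groth.Statements.S7015
import Mathlib.LinearAlgebra.TensorProduct.Finiteness
import Mathlib.LinearAlgebra.FreeModule.Finite.Basic
import Mathlib.Algebra.Module.Projective
import Mathlib.LinearAlgebra.StdBasis
-- import your own Groth.Agent.* helpers here

set_option autoImplicit false
universe u
open CategoryTheory MonoidalCategory
open DRing

namespace Groth.Agent.S7015

/-- Let R be a commutative ring and M, N R-modules such that N is a left dual of M for the tensor
product of R-modules, i.e. there are a coevaluation R → M ⊗ N and an evaluation N ⊗ M → R satisfying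
the triangle identities (an exact pairing). Then M and N are finitely generated projective
R-modules. -/
theorem result (R : Type u) [CommRing R] (M N : Type u) [AddCommGroup M]
    [Module R M] [AddCommGroup N] [Module R N] [ExactPairing (ModuleCat.of R M) (ModuleCat.of R N)] :
    Module.Finite R M ∧ Module.Projective R M ∧ Module.Finite R N ∧ Module.Projective R N := by
  classical
  open scoped TensorProduct MonoidalCategory in
  obtain ⟨ε, η, h1, h2⟩ : ∃ (ε : N ⊗[R] M →ₗ[R] R) (η : M ⊗[R] N),
      (∀ n : N, TensorProduct.map ε LinearMap.id ((TensorProduct.assoc R N M N).symm (n ⊗ₜ[R] η)) = (1 : R) ⊗ₜ[R] n) ∧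
      (∀ m : M, TensorProduct.map LinearMap.id ε (TensorProduct.assoc R M N M (η ⊗ₜ[R] m)) = m ⊗ₜ[R] (1 : R)) := by
    have e1 := ExactPairing.coevaluation_evaluation (ModuleCat.of R M) (ModuleCat.of R N)
    have e2 := ExactPairing.evaluation_coevaluation (ModuleCat.of R M) (ModuleCat.of R N)
    refine ⟨(ExactPairing.evaluation (ModuleCat.of R M) (ModuleCat.of R N)).hom,
      (ExactPairing.coevaluation (ModuleCat.of R M) (ModuleCat.of R N)).hom (1 : R),
      fun n => ?_, fun m => ?_⟩
    · have := congrArg (fun φ => φ.hom (n ⊗ₜ[R] (1 : R))) e1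
      refine this.trans ?_
      show (1 : R) ⊗ₜ[R] ((1 : R) • n) = (1 : R) ⊗ₜ[R] n
      rw [one_smul]
    · have := congrArg (fun φ => φ.hom ((1 : R) ⊗ₜ[R] m)) e2
      refine this.trans ?_
      show ((1 : R) • m) ⊗ₜ[R] (1 : R) = m ⊗ₜ[R] (1 : R)
      rw [one_smul]
  obtain ⟨s, hs⟩ := TensorProduct.exists_finset η
  have hM : ∀ m : M, m = ∑ p ∈ s, ε (p.2 ⊗ₜ[R] m) • p.1 := fun m => by
    have := congrArg (TensorProduct.rid R M) (h2 m)
    rw [hs, TensorProduct.sum_tmul] at this
    simpa using this.symm
  have hN : ∀ n : N, n = ∑ p ∈ s, ε (n ⊗ₜ[R] p.1) • p.2 := fun n => by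
    have := congrArg (TensorProduct.lid R N) (h1 n)
    rw [hs, TensorProduct.tmul_sum] at this
    simpa using this.symm
  let fM : M →ₗ[R] (s → R) := LinearMap.pi fun p => ε ∘ₗ (TensorProduct.mk R N M p.1.2)
  let gM : (s → R) →ₗ[R] M := Fintype.linearCombination R fun p : s => p.1.1
  have cM : gM ∘ₗ fM = LinearMap.id := by
    ext m
    conv_rhs => rw [LinearMap.id_apply, hM m, ← Finset.sum_coe_sort]
    simp [gM, fM, Fintype.linearCombination_apply]
  let fN : N →ₗ[R] (s → R) := LinearMap.pi fun p => ε ∘ₗ (TensorProduct.mk R N M).flip p.1.1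
  let gN : (s → R) →ₗ[R] N := Fintype.linearCombination R fun p : s => p.1.2
  have cN : gN ∘ₗ fN = LinearMap.id := by
    ext n
    conv_rhs => rw [LinearMap.id_apply, hN n, ← Finset.sum_coe_sort]
    simp [gN, fN, Fintype.linearCombination_apply]
  exact ⟨Module.Finite.of_surjective gM fun m => ⟨fM m, LinearMap.congr_fun cM m⟩,
    Module.Projective.of_split fM gM cM,
    Module.Finite.of_surjective gN fun n => ⟨fN n, LinearMap.congr_fun cN n⟩,
    Module.Projective.of_split fN gN cN⟩

end Groth.Agent.S7015
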