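import Groth.Statements.S7016
import Groth.Agent.Lib.KFlat.Strength
import Groth.Agent.Lib.KFlat.BcCx
-- import your own Groth.Agent.* helpers here

set_option autoImplicit false
universe u
open CategoryTheory CategoryTheory.Limits
attribute [local instance] HasDerivedCategory.standard
open DRing

namespace Groth.Agent.S7016

open MonoidalCategory
open Groth.Agent.KFlat.HomAdj

variable {R : Type u} [CommRing R]

noncomputable abbrev ι₀ : (𝟙_ (DRing.Cx R)).X 0 ≅ 𝟙_ (ModuleCat.{u} R) :=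
  HomologicalComplex.singleObjXSelf (ComplexShape.up ℤ) 0 (𝟙_ (ModuleCat.{u} R))

theorem unit_X_eq_zero {i : ℤ} (hi : i ≠ 0) (s : (𝟙_ (DRing.Cx R)).X i) : s = 0 :=
  have := ModuleCat.subsingleton_of_isZero
    (HomologicalComplex.isZero_single_obj_X (ComplexShape.up ℤ) 0 (𝟙_ (ModuleCat.{u} R)) i hi)
  Subsingleton.elim (show (𝟙_ (DRing.Cx R)).X i from s) 0

theorem rightUnitor_tn (N : DRing.Cx R) (i : ℤ) (w : N.X i) (s : (𝟙_ (DRing.Cx R)).X 0) :
    (ρ_ N).hom.f i (tn i 0 i (add_zero i) w s) = (ι₀.hom s : R) • w := by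
  have h1 : (ρ_ N).inv.f i w = tn i 0 i (add_zero i) w (ι₀.inv (1 : R)) :=
    congrArg (fun t => t.hom w) (HomologicalComplex.rightUnitor'_inv N i)
  have h2 : (ρ_ N).hom.f i (tn i 0 i (add_zero i) w (ι₀.inv (1 : R))) = w := by
    rw [← h1]
    exact congrArg (fun t => t.f i w) (ρ_ N).inv_hom_id
  have h3 : s = (ι₀.hom s : R) • ι₀.inv (1 : R) := by
    refine Eq.trans ?_ (map_smul ι₀.inv.hom _ _)
    exact (Iso.hom_inv_id_apply ι₀ s).symm.trans (congrArg ι₀.inv.hom (mul_one (ι₀.hom s : R)).symm)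
  conv_lhs => rw [h3, tn_smul_right]
  exact (map_smul _ _ _).trans (congrArg _ h2)

/-- A finite rank endomorphism. -/
def FinRank {V : Type u} [AddCommGroup V] [Module R V] (φ : V →ₗ[R] V) : Prop :=
  ∃ (n : ℕ) (g : V →ₗ[R] (Fin n → R)) (f : (Fin n → R) →ₗ[R] V), f.comp g = φ

theorem finite_projective_of_finRank {V : Type u} [AddCommGroup V] [Module R V]
    (h : FinRank (LinearMap.id : V →ₗ[R] V)) : Module.Finite R V ∧ Module.Projective R V :=
  have ⟨_, g, f, hfg⟩ := h
  ⟨Module.Finite.of_surjective f fun v => ⟨g v, LinearMap.congr_fun hfg v⟩, Module.Projective.of_split g f hfg⟩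

/-- The identities make the graded pieces finite projective and almost all zero. -/
theorem key {A B : DRing.Cx R} (V : ℤ → ModuleCat.{u} R)
    (Ψ : ∀ p, (A ⊗ B : DRing.Cx R).X 0 →ₗ[R] (V p →ₗ[R] V p))
    (hΨ : ∀ q r (h : q + r = 0) (a : A.X q) (b : B.X r), ∃ σ : ℤ,
      (∀ p, p ≠ σ → Ψ p (tn q r 0 h a b) = 0) ∧ FinRank (Ψ σ (tn q r 0 h a b)))
    (t : (A ⊗ B : DRing.Cx R).X 0) (ht : ∀ p x, Ψ p t x = x) :
    (∃ a b : ℤ, ∀ i, i < a ∨ b < i → IsZero (V i)) ∧ ∀ p, Module.Finite R (V p) ∧ Module.Projective R (V p) := by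
  classical
  let W : Submodule R ((A ⊗ B : DRing.Cx R).X 0) :=
    { carrier := {t | (∃ S : Finset ℤ, ∀ p, p ∉ S → Ψ p t = 0) ∧ ∀ p, FinRank (Ψ p t)}
      add_mem' := by
        rintro t t' ⟨⟨S, hS⟩, h⟩ ⟨⟨S', hS'⟩, h'⟩
        refine ⟨⟨S ∪ S', fun p hp => ?_⟩, fun p => ?_⟩
        · rw [Finset.mem_union, not_or] at hp
          rw [map_add, hS p hp.1, hS' p hp.2, add_zero]
        · obtain ⟨n, g, f, hfg⟩ := h p
          obtain ⟨n', g', f', hfg'⟩ := h' p
          let e : (Fin (n + n') → R) ≃ₗ[R] (Fin n → R) × (Fin n' → R) :=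
            (LinearEquiv.funCongrLeft R R finSumFinEquiv).trans
              (LinearEquiv.sumArrowLequivProdArrow (Fin n) (Fin n') R R)
          refine ⟨n + n', e.symm.toLinearMap.comp (g.prod g'), (f.coprod f').comp e.toLinearMap,
            LinearMap.ext fun x => ?_⟩
          simp only [LinearMap.comp_apply, LinearEquiv.coe_coe, LinearEquiv.apply_symm_apply]
          rw [LinearMap.coprod_apply, map_add, LinearMap.add_apply, ← hfg, ← hfg']
          rfl
      zero_mem' := ⟨⟨∅, fun p _ => map_zero _⟩, fun p => ⟨0, 0, 0, by simp⟩⟩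
      smul_mem' := by
        rintro c t ⟨⟨S, hS⟩, h⟩
        refine ⟨⟨S, fun p hp => by rw [map_smul, hS p hp, smul_zero]⟩, fun p => ?_⟩
        obtain ⟨n, g, f, hfg⟩ := h p
        exact ⟨n, g, c • f, by rw [LinearMap.smul_comp, hfg, map_smul]⟩ }
  have hW : t ∈ W := by
    rw [← Submodule.Quotient.mk_eq_zero]
    have h0 : ModuleCat.ofHom W.mkQ = 0 := tn_ext fun q r h a b => by
      refine (Submodule.Quotient.mk_eq_zero W).2 ?_
      obtain ⟨σ, hσ, hσ'⟩ := hΨ q r h a b
      refine ⟨⟨{σ}, fun p hp => hσ p (by simpa using hp)⟩, fun p => ?_⟩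
      by_cases hp : p = σ
      · exact hp ▸ hσ'
      · exact ⟨0, 0, 0, by rw [hσ p hp]; simp⟩
    exact congrArg (fun φ => φ.hom t) h0
  obtain ⟨⟨S, hS⟩, hr⟩ := hW
  refine ⟨⟨-((∑ p ∈ S, p.natAbs : ℕ) : ℤ), ((∑ p ∈ S, p.natAbs : ℕ) : ℤ), fun i hi => ?_⟩, fun p => ?_⟩
  · refine ModuleCat.isZero_iff_subsingleton.2 ⟨fun x y => ?_⟩
    have hi' : i ∉ S := fun h => by
      have := Finset.single_le_sum (f := fun p : ℤ => p.natAbs) (fun _ _ => Nat.zero_le _) h
      omega
    have := hS i hi'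
    rw [← ht i x, ← ht i y, this]
    rfl
  · refine finite_projective_of_finRank ?_
    rw [← show Ψ p t = LinearMap.id from LinearMap.ext (ht p)]
    exact hr p


open MonoidalCategory in
/-- Let R be a commutative ring and M, N cochain complexes of R-modules such that N is a left dual of M
for the tensor product of cochain complexes of R-modules (coevaluation R[0] → M ⊗ N and evaluation N
⊗ M → R[0] with the triangle identities, an exact pairing). Then M and N are bounded and every term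
M^n, N^n is a finitely generated projective R-module. -/
theorem result (R : Type u) [CommRing R] (M N : DRing.Cx R)
    [ExactPairing M N] :
    (∃ a b : ℤ, DRing.VanishesOutside M a b) ∧ (∃ a b : ℤ, DRing.VanishesOutside N a b) ∧
      DRing.TermwiseFiniteProjective M ∧ DRing.TermwiseFiniteProjective N := by
  open Groth.Agent.KFlat.HomAdj in
  let Φ : ∀ p, (M ⊗ N : DRing.Cx R).X 0 →ₗ[R] (M.X p →ₗ[R] M.X p) := fun p =>
    LinearMap.mk₂ R (fun t x => ((α_ M N M).hom ≫ M ◁ ε_ M N ≫ (ρ_ M).hom).f p (tn 0 p p (zero_add p) t x))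
      (fun t t' x => by rw [tn_add_left, map_add])
      (fun c t x => by rw [tn_smul_left, map_smul])
      (fun t x x' => by rw [tn_add_right, map_add])
      (fun c t x => by rw [tn_smul_right, map_smul])
  let Φ' : ∀ p, (M ⊗ N : DRing.Cx R).X 0 →ₗ[R] (N.X p →ₗ[R] N.X p) := fun p =>
    LinearMap.mk₂ R (fun t y => ((α_ N M N).inv ≫ ε_ M N ▷ N ≫ (λ_ N).hom).f p (tn p 0 p (add_zero p) y t))
      (fun t t' x => by rw [tn_add_right, map_add])
      (fun c t x => by rw [tn_smul_right, map_smul])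
      (fun t x x' => by rw [tn_add_left, map_add])
      (fun c t x => by rw [tn_smul_left, map_smul])
  have h₁ : (∃ a b : ℤ, DRing.VanishesOutside M a b) ∧ DRing.TermwiseFiniteProjective M := by
    refine key (fun p => M.X p) Φ (fun q r h a b => ⟨q, fun p hp => LinearMap.ext fun x => ?_, ?_⟩)
      ((η_ M N).f 0 (ι₀.inv (1 : R))) (fun p x => ?_)
    · change ((α_ M N M).hom ≫ M ◁ ε_ M N ≫ (ρ_ M).hom).f p (tn 0 p p _ (tn q r 0 h a b) x) = 0
      simp only [HomologicalComplex.comp_f, ModuleCat.comp_apply]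
      rw [tn_assoc q r p 0 (r + p) p h _ rfl (by omega), tn_whiskerLeft, unit_X_eq_zero (by omega) (((ε_ M N).f (r + p)) _),
        tn_zero_right, map_zero]
    · let g : M.X q →ₗ[R] (Fin 1 → R) := LinearMap.pi fun _ =>
        ((ε_ M N).f 0 ≫ ι₀.hom).hom.comp
          (IsLinearMap.mk' (fun x => tn (K := N) (L := M) r q 0 (by omega) b x)
            ⟨fun x x' => tn_add_right _ _ _ _ _ _ _, fun c x => tn_smul_right _ _ _ _ _ _ _⟩)
      refine ⟨1, g, (LinearMap.proj 0).smulRight a, LinearMap.ext fun x => ?_⟩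
      change _ = ((α_ M N M).hom ≫ M ◁ ε_ M N ≫ (ρ_ M).hom).f q (tn 0 q q _ (tn q r 0 h a b) x)
      simp only [HomologicalComplex.comp_f, ModuleCat.comp_apply]
      rw [tn_assoc q r q 0 0 q h _ (by omega) (by omega), tn_whiskerLeft, rightUnitor_tn]
      rfl
    · have e := congrArg (fun φ => φ.f p (tn 0 p p (zero_add p) (ι₀.inv (1 : R)) x))
        (ExactPairing.evaluation_coevaluation M N)
      simp only [HomologicalComplex.comp_f, ModuleCat.comp_apply] at e
      rw [tn_whiskerRight, Groth.Agent.KFlat.Bc.leftUnitor_tn] at e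
      change ((α_ M N M).hom ≫ M ◁ ε_ M N ≫ (ρ_ M).hom).f p (tn 0 p p _ _ x) = x
      simp only [HomologicalComplex.comp_f, ModuleCat.comp_apply]
      rw [e, Iso.inv_hom_id_apply, one_smul]
      exact congrArg (fun φ => φ.f p x) (ρ_ M).inv_hom_id
  have h₂ : (∃ a b : ℤ, DRing.VanishesOutside N a b) ∧ DRing.TermwiseFiniteProjective N := by
    refine key (fun p => N.X p) Φ' (fun q r h a b => ⟨r, fun p hp => LinearMap.ext fun y => ?_, ?_⟩)
      ((η_ M N).f 0 (ι₀.inv (1 : R))) (fun p y => ?_)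
    · change ((α_ N M N).inv ≫ ε_ M N ▷ N ≫ (λ_ N).hom).f p (tn p 0 p _ y (tn q r 0 h a b)) = 0
      simp only [HomologicalComplex.comp_f, ModuleCat.comp_apply]
      rw [← tn_assoc p q r (p + q) 0 p rfl (by omega) h (by omega),
        show ∀ z, (α_ N M N).inv.f p ((α_ N M N).hom.f p z) = z from fun z => congrArg (fun φ => φ.f p z) (α_ N M N).hom_inv_id,
        tn_whiskerRight, unit_X_eq_zero (by omega) (((ε_ M N).f (p + q)) _), tn_zero_left, map_zero]
    · let g : N.X r →ₗ[R] (Fin 1 → R) := LinearMap.pi fun _ =>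
        ((ε_ M N).f 0 ≫ ι₀.hom).hom.comp
          (IsLinearMap.mk' (fun y => tn (K := N) (L := M) r q 0 (by omega) y a)
            ⟨fun x x' => tn_add_left _ _ _ _ _ _ _, fun c x => tn_smul_left _ _ _ _ _ _ _⟩)
      refine ⟨1, g, (LinearMap.proj 0).smulRight b, LinearMap.ext fun y => ?_⟩
      change _ = ((α_ N M N).inv ≫ ε_ M N ▷ N ≫ (λ_ N).hom).f r (tn r 0 r _ y (tn q r 0 h a b))
      simp only [HomologicalComplex.comp_f, ModuleCat.comp_apply]
      rw [← tn_assoc r q r 0 0 r (by omega) (by omega) h (by omega),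
        show ∀ z, (α_ N M N).inv.f r ((α_ N M N).hom.f r z) = z from fun z => congrArg (fun φ => φ.f r z) (α_ N M N).hom_inv_id,
        tn_whiskerRight, Groth.Agent.KFlat.Bc.leftUnitor_tn]
      rfl
    · have e := congrArg (fun φ => φ.f p (tn p 0 p (add_zero p) y (ι₀.inv (1 : R))))
        (ExactPairing.coevaluation_evaluation M N)
      simp only [HomologicalComplex.comp_f, ModuleCat.comp_apply] at e
      rw [tn_whiskerLeft, rightUnitor_tn] at e
      change ((α_ N M N).inv ≫ ε_ M N ▷ N ≫ (λ_ N).hom).f p (tn p 0 p _ y _) = y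
      simp only [HomologicalComplex.comp_f, ModuleCat.comp_apply]
      rw [e, Iso.inv_hom_id_apply, one_smul]
      exact congrArg (fun φ => φ.f p y) (λ_ N).inv_hom_id
  exact ⟨h₁.1, h₂.1, h₁.2, h₂.2⟩

end Groth.Agent.S7016
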