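import Groth.Statements.S7019
import Groth.Agent.Lib.DBaseChange.TorTri
-- import your own Groth.Agent.* helpers here

set_option autoImplicit false
universe u
open CategoryTheory CategoryTheory.Limits
attribute [local instance] HasDerivedCategory.standard
open DRing

namespace Groth.Agent.S7019

/-- Let R be a commutative ring such that the derived tensor product - ⊗^L_R M exists on D(R) for every
R-module M, and let K, L be objects of D(R). If K ⊕ L is perfect, then K and L are perfect. -/
theorem result (R : Type u) [CommRing R] [∀ M : ModuleCat.{u} R, DRing.HasLTensor R M]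
    (K L : Dual.D R) [HasBinaryBiproduct K L] (h : DRing.IsPerfect R (K ⊞ L)) :
    DRing.IsPerfect R K ∧ DRing.IsPerfect R L := by
  obtain ⟨a, b, t⟩ := Groth.Agent.DBaseChange.torAmp_of_isPerfect h
  have hp := (Groth.Agent.DMod.pc'_iff _).1 (Groth.Agent.DMod.pc'_of_perfect h)
  exact ⟨Groth.Agent.DBaseChange.isPerfect_of_pc_of_torAmp
      ((Groth.Agent.DMod.pc'_iff _).2 fun m => Groth.Agent.DMod.pc_left_of_biprod (hp m))
      (Groth.Agent.DBaseChange.torAmp_retract biprod.inl biprod.fst biprod.inl_fst a b t),
    Groth.Agent.DBaseChange.isPerfect_of_pc_of_torAmp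
      ((Groth.Agent.DMod.pc'_iff _).2 fun m => Groth.Agent.DMod.pc_right_of_biprod (hp m))
      (Groth.Agent.DBaseChange.torAmp_retract biprod.inr biprod.snd biprod.inr_snd a b t)⟩

end Groth.Agent.S7019
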