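import Groth.Statements.S7022
import Groth.Agent.Lib.RelPC8.Via

set_option autoImplicit false
universe u
open CategoryTheory CategoryTheory.Limits
attribute [local instance] HasDerivedCategory.standard
open DerCA

namespace Groth.Agent.S7022

open CategoryTheory CategoryTheory.Limits Groth.Agent.DMod Groth.Agent.RelPC8


/-- Let R → A be a finite type homomorphism of commutative rings, m an integer and K, L objects of the
derived category D(A). Whenever the direct sum K ⊕ L is pseudo-coherent relative to R in degree m,
both summands K and L are too; likewise, relative pseudo-coherence of K ⊕ L (in every degree) passes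
to K and to L. -/
theorem result {R A : Type u} [CommRing R] [CommRing A] [Algebra R A] [Algebra.FiniteType R A] (m : ℤ) (K L : Dual.D A) [HasBinaryBiproduct K L] :
    (DerCA.IsRelPseudoCoherent R A m (K ⊞ L) → DerCA.IsRelPseudoCoherent R A m K ∧ DerCA.IsRelPseudoCoherent R A m L) ∧
      (DerCA.IsRelPseudoCoherentAll R A (K ⊞ L) →
        DerCA.IsRelPseudoCoherentAll R A K ∧ DerCA.IsRelPseudoCoherentAll R A L) := by
  obtain ⟨n, α, hα⟩ := exists_presentation R A
  simp only [rel_iff α hα, relAll_iff α hα]
  let F := DRing.restrictD (α : MvPolynomial (Fin n) R →+* A)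
  haveI : PreservesBinaryBiproducts F := preservesBinaryBiproducts_of_preservesBiproducts F
  have key : ∀ j : ℤ, DerCA.IsRelPseudoCoherentVia α j (K ⊞ L) →
      DerCA.IsRelPseudoCoherentVia α j K ∧ DerCA.IsRelPseudoCoherentVia α j L := fun j h =>
    have h' := pc_of_iso (F.mapBiprod K L) h
    ⟨pc_left_of_biprod h', pc_right_of_biprod h'⟩
  exact ⟨key m, fun h => ⟨fun j => (key j (h j)).1, fun j => (key j (h j)).2⟩⟩


end Groth.Agent.S7022
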