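import Groth.Statements.S7025
import Groth.Agent.Lib.RelPC8.Extend

set_option autoImplicit false
universe u
open CategoryTheory CategoryTheory.Limits
attribute [local instance] HasDerivedCategory.standard
open DerCA

namespace Groth.Agent.S7025

open Groth.Agent.RelPC8 CategoryTheory CategoryTheory.Limits TensorProduct

theorem eS_iso {A B : Type u} [CommRing A] [CommRing B] [I : Algebra A B] (φ : A →+* B) (h : I = φ.toAlgebra)
    (M : Type u) [AddCommGroup M] [Module A M] :
    Nonempty ((eS φ).obj (ModuleCat.of A M) ≅ ModuleCat.of B (B ⊗[A] M)) := by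
  subst h
  exact ⟨Iso.refl _⟩



/-- Let R → A → B be finite type homomorphisms of commutative rings such that B is A-flat and the
B-module B is pseudo-coherent relative to A. Let m be an integer and M an A-module. Whenever M is
m-pseudo-coherent relative to R, the B-module B ⊗_A M is again m-pseudo-coherent over R; likewise,
relative pseudo-coherence of M over R (in all degrees) passes to B ⊗_A M. -/
theorem result {R A B : Type u} [CommRing R]
    [CommRing A] [CommRing B] [Algebra R A] [Algebra A B] [Algebra R B] [IsScalarTower R A B]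
    [Algebra.FiniteType R A] [Algebra.FiniteType A B] [Module.Flat A B]
    (hB : DerCA.IsRelPseudoCoherentModuleAll A B B) (m : ℤ) (M : Type u) [AddCommGroup M] [Module A M] :
    (DerCA.IsRelPseudoCoherentModule R A m M → DerCA.IsRelPseudoCoherentModule R B m (TensorProduct A B M)) ∧
      (DerCA.IsRelPseudoCoherentModuleAll R A M →
        DerCA.IsRelPseudoCoherentModuleAll R B (TensorProduct A B M)) := by
  have key : ∀ j, DerCA.IsRelPseudoCoherentModule R A j M →
      DerCA.IsRelPseudoCoherentModule R B j (TensorProduct A B M) := fun j h => by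
    obtain ⟨F, hF, hfree, ⟨e⟩⟩ := Groth.Agent.DMod.exists_free_resolution (Dual.inD A M) 0
    have h1 := rel_ext (B := B) hB F 0 hfree (rel_congr e.symm h)
    haveI : ∀ i, Module.Free A (F.X i) := hfree
    haveI : F.IsKProjective := Groth.Agent.DMod.isKProjective 0 fun i => Module.Projective.of_free
    let S := (HomologicalComplex.single (ModuleCat.{u} A) (ComplexShape.up ℤ) 0).obj (ModuleCat.of A M)
    let eS' : Dual.inD A M ≅ DerivedCategory.Q.obj S :=
      (DerivedCategory.singleFunctorIsoCompQ (ModuleCat.{u} A) 0).app _
    obtain ⟨g, hg⟩ := Groth.Agent.DMod.exists_map_eq (e.hom ≫ eS'.hom)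
    haveI : QuasiIso g := (DerivedCategory.isIso_Q_map_iff_quasiIso (C := ModuleCat.{u} A) g).1
      (by rw [hg]; infer_instance)
    haveI := preservesHomology_eS (P := A) (P' := B)
    haveI : QuasiIso ((eCx (algebraMap A B)).map g) :=
      inferInstanceAs (QuasiIso (((eS (algebraMap A B)).mapHomologicalComplex (ComplexShape.up ℤ)).map g))
    have hI : ‹Algebra A B› = (algebraMap A B).toAlgebra := Algebra.algebra_ext _ _ fun _ => rfl
    obtain ⟨t⟩ := @eS_iso A B _ _ ‹Algebra A B› (algebraMap A B) hI M _ _
    exact rel_congr (asIso (DerivedCategory.Q.map ((eCx (algebraMap A B)).map g)) ≪≫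
      DerivedCategory.Q.mapIso
        ((HomologicalComplex.singleMapHomologicalComplex (eS (algebraMap A B)) (ComplexShape.up ℤ) 0).app _) ≪≫
      ((DerivedCategory.singleFunctorIsoCompQ (ModuleCat.{u} B) 0).app _).symm ≪≫
      (DerivedCategory.singleFunctor (ModuleCat.{u} B) 0).mapIso t) h1
  exact ⟨key m, fun h j => key j (h j)⟩


end Groth.Agent.S7025
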