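import Groth.Statements.S7026
import Groth.Agent.Lib.RelPC8.Via

set_option autoImplicit false
universe u
open CategoryTheory CategoryTheory.Limits
attribute [local instance] HasDerivedCategory.standard
open DerCA

namespace Groth.Agent.S7026

open CategoryTheory CategoryTheory.Limits Groth.Agent.DMod Groth.Agent.RelPC8


/-- Let R be a Noetherian commutative ring, R → A a finite type ring homomorphism, m an integer, K an
object of D(A) and M an A-module. Then: m-pseudo-coherence of K relative to R is equivalent to
H^i(K) vanishing for all large i together with H^i(K) being a finitely generated A-module for each i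
≥ m; pseudo-coherence of K relative to R (every degree) is equivalent to the same with H^i(K)
finitely generated for every i; and the A-module M is pseudo-coherent relative to R exactly when M
is finitely generated. -/
theorem result {R A : Type u} [CommRing R]
    [IsNoetherianRing R] [CommRing A] [Algebra R A] [Algebra.FiniteType R A] (m : ℤ) (K : Dual.D A)
    (M : Type u) [AddCommGroup M] [Module A M] :
    (DerCA.IsRelPseudoCoherent R A m K ↔
      (∃ b : ℤ, ∀ i : ℤ, b < i → Subsingleton (Dual.HD A K i)) ∧ ∀ i : ℤ, m ≤ i → Module.Finite A (Dual.HD A K i)) ∧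
    (DerCA.IsRelPseudoCoherentAll R A K ↔
      (∃ b : ℤ, ∀ i : ℤ, b < i → Subsingleton (Dual.HD A K i)) ∧ ∀ i : ℤ, Module.Finite A (Dual.HD A K i)) ∧
    (DerCA.IsRelPseudoCoherentModuleAll R A M ↔ Module.Finite A M) := by
  obtain ⟨n, α, hα⟩ := exists_presentation R A
  simp only [rel_iff α hα, DerCA.IsRelPseudoCoherentModuleAll, relAll_iff α hα, via_noetherian_iff α hα]
  refine ⟨trivial, ⟨fun h => ⟨(h 0).1, fun i => (h i).2 i le_rfl⟩, fun h _ => ⟨h.1, fun i _ => h.2 i⟩⟩,
    fun h => ?_, fun h j => (via_noetherian_iff α hα j _).1 ((via_module_iff α j M).2 ?_)⟩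
  · letI : Module (MvPolynomial (Fin n) R) M := Module.compHom M α.toRingHom
    have h0 := (via_module_iff α 0 M).1 ((via_noetherian_iff α hα 0 _).2 (h 0))
    exact (finite_restrict_iff α.toRingHom hα (ModuleCat.of A M)).1 ((pcModule_zero_iff M).1 h0)
  · letI : Module (MvPolynomial (Fin n) R) M := Module.compHom M α.toRingHom
    haveI : Module.Finite (MvPolynomial (Fin n) R) M :=
      (finite_restrict_iff α.toRingHom hα (ModuleCat.of A M)).2 h
    exact pcModule_of_noetherian M j


end Groth.Agent.S7026
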