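import Groth.Statements.S7031
import Groth.Agent.Lib.TorBal.Perfect
-- import your own Groth.Agent.* helpers here

set_option autoImplicit false
universe u
open CategoryTheory CategoryTheory.Limits
attribute [local instance] HasDerivedCategory.standard
open DRing

namespace Groth.Agent.S7031

/-- Let R be a regular commutative ring (Noetherian, with regular local rings at all primes) such that
the derived tensor product - ⊗^L_R M exists on D(R) for every R-module M, and let K be an object of
D(R). Then K is perfect if and only if H^i(K) = 0 outside a bounded range of degrees and every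
H^i(K) is a finitely generated R-module. -/
theorem result (R : Type u) [CommRing R] [IsNoetherianRing R]
    (hreg : ∀ p : PrimeSpectrum R, IsRegularLocalRing (Localization.AtPrime p.asIdeal)) [∀ M : ModuleCat.{u} R, DRing.HasLTensor R M] (K : Dual.D R) :
    DRing.IsPerfect R K ↔
      (∃ a b : ℤ, ∀ i : ℤ, (i < a ∨ b < i) → Subsingleton (Dual.HD R K i)) ∧ ∀ i : ℤ, Module.Finite R (Dual.HD R K i) := by
  have : IsRegularRing R := ⟨fun p _ => hreg ⟨p, inferInstance⟩⟩
  refine ⟨fun h => ⟨?_, fun i => Groth.Agent.TorBal.finite_HD_of_isPerfect h i⟩,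
    fun ⟨⟨a, b, h⟩, hf⟩ => Groth.Agent.TorBal.isPerfect_of_bounded_finite K a b h hf⟩
  obtain ⟨a, b, hab⟩ := Groth.Agent.DBaseChange.torAmp_of_isPerfect h
  exact ⟨a, b, Groth.Agent.TorBal.homology_of_amplitude hab⟩

end Groth.Agent.S7031
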