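import Groth.Statements.S7038
import Mathlib.RingTheory.Support

set_option autoImplicit false
universe u
open LocCoh

namespace Groth.Agent.S7038

/-- For an ideal I of a commutative ring R and an R-module M, if every element of M is killed by a power
of I then the support of M is contained in the closed set V(I); conversely, when I is finitely
generated and the support of M is contained in V(I), every element of M is killed by a power of I.
(Finite generation is used only for the converse.) -/
theorem result {R : Type u} [CommRing R] (I : Ideal R)
    (M : Type u) [AddCommGroup M] [Module R M] :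
    (LocCoh.IsPowerTorsion I M → Module.support R M ⊆ PrimeSpectrum.zeroLocus (I : Set R)) ∧
    (I.FG → Module.support R M ⊆ PrimeSpectrum.zeroLocus (I : Set R) → LocCoh.IsPowerTorsion I M) := by
  have hmem : ∀ p : PrimeSpectrum R, p ∈ Module.support R M ↔ ∃ m : M, ∀ r ∉ p.asIdeal, r • m ≠ 0 := fun p =>
    Module.mem_support_iff'
  constructor
  · intro hM p hp
    obtain ⟨m, hm⟩ := (hmem p).1 hp
    obtain ⟨n, hn⟩ := hM m
    intro a ha
    by_contra hap
    exact hm (a ^ n) (fun h => hap (p.2.mem_of_pow_mem n h)) (hn _ (Ideal.pow_mem_pow ha n))
  · intro hI hsupp x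
    let J : Ideal R := LinearMap.ker (LinearMap.toSpanSingleton R M x)
    have : I ≤ J.radical := by
      rw [Ideal.radical_eq_sInf]
      refine le_sInf fun P hP => ?_
      have : (⟨P, hP.2⟩ : PrimeSpectrum R) ∈ Module.support R M :=
        (hmem _).2 ⟨x, fun r hr h0 => hr (hP.1 h0)⟩
      exact hsupp this
    obtain ⟨n, hn⟩ := Ideal.exists_pow_le_of_le_radical_of_fg this hI
    exact ⟨n, fun a ha => hn ha⟩

end Groth.Agent.S7038
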