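import Groth.Statements.S7039
import Groth.Agent.Lib.InjHull.Torsion

set_option autoImplicit false
universe u
open LocCoh

namespace Groth.Agent.S7039

/-- For a finitely generated ideal I of a commutative ring R and any R-module M, the quotient of M by
its submodule of I-power torsion elements has no nonzero element annihilated by I. -/
theorem result {R : Type u} [CommRing R] (I : Ideal R) (hI : I.FG)
    (M : Type u) [AddCommGroup M] [Module R M] :
    LocCoh.torsionBy I (M ⧸ DRing.torsionSub I M) = ⊥ := by
  rw [Submodule.eq_bot_iff]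
  intro z hz
  obtain ⟨m, rfl⟩ := Submodule.mkQ_surjective _ z
  rw [Submodule.mkQ_apply, Submodule.Quotient.mk_eq_zero]
  obtain ⟨s, hs⟩ := hI
  have h1 : ∀ a ∈ I, a • m ∈ DRing.torsionSub I M := fun a ha => by
    rw [← Submodule.Quotient.mk_eq_zero, Submodule.Quotient.mk_smul]
    exact Groth.Agent.InjHullLib.mem_torsion_iff.1 hz a ha
  classical
  obtain ⟨n, hn⟩ : ∃ n, ∀ a ∈ s, ∀ b ∈ I ^ n, b • a • m = 0 := by
    have : ∀ t : Finset R, (∀ a ∈ t, a ∈ I) → ∃ n, ∀ a ∈ t, ∀ b ∈ I ^ n, b • a • m = 0 := by
      intro t
      induction t using Finset.induction with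
      | empty => exact fun _ => ⟨0, by simp⟩
      | insert a t _ ih =>
        intro h
        obtain ⟨n, hn⟩ := ih fun b hb => h b (Finset.mem_insert_of_mem hb)
        obtain ⟨n', hn'⟩ := h1 a (h a (Finset.mem_insert_self a t))
        refine ⟨n + n', fun c hc b hb => ?_⟩
        rcases Finset.mem_insert.1 hc with rfl | hc
        · exact hn' b (Ideal.pow_le_pow_right (Nat.le_add_left _ _) hb)
        · exact hn c hc b (Ideal.pow_le_pow_right (Nat.le_add_right _ _) hb)
    exact this s fun a ha => hs ▸ Ideal.subset_span ha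
  refine ⟨n + 1, fun c hc => ?_⟩
  rw [pow_succ] at hc
  refine Submodule.mul_induction_on hc (fun b hb a ha => ?_) (fun x y hx hy => by rw [add_smul, hx, hy, add_zero])
  rw [← hs] at ha
  induction ha using Submodule.span_induction with
  | mem a ha => rw [mul_smul]; exact hn a ha b hb
  | zero => rw [mul_zero, zero_smul]
  | add x y _ _ hx hy => rw [mul_add, add_smul, hx, hy, add_zero]
  | smul c x _ hx => rw [smul_eq_mul, mul_left_comm, mul_smul, hx, smul_zero]

end Groth.Agent.S7039
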