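import Groth.Statements.S7040
import Groth.Agent.Lib.InjHull.Torsion
import Mathlib.CategoryTheory.Abelian.SerreClass.Basic
import Mathlib.Algebra.Homology.ShortComplex.ModuleCat
-- import your own Groth.Agent.* helpers here

set_option autoImplicit false
universe u
open CategoryTheory
open LocCoh

namespace Groth.Agent.S7040

/-- For a finitely generated ideal I of a commutative ring R, the property of being an I-power torsion
module (every element killed by a power of I) is a Serre class in the category of R-modules: it
holds for 0 and is closed under subobjects, quotients and extensions. -/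
theorem result {R : Type u} [CommRing R] (I : Ideal R) (hI : I.FG) :
    ObjectProperty.IsSerreClass (C := ModuleCat.{u} R) (fun M => LocCoh.IsPowerTorsion I M) := by
  classical
  refine @ObjectProperty.IsSerreClass.mk _ _ _ _ ?_ ?_ ?_ ?_
  · exact ⟨ModuleCat.of R PUnit, ModuleCat.isZero_of_subsingleton _, fun m => ⟨0, fun _ _ => Subsingleton.elim _ _⟩⟩
  · refine ⟨fun {X Y} i _ hY x => ?_⟩
    obtain ⟨n, hn⟩ := hY (i.hom x)
    exact ⟨n, fun a ha => (ModuleCat.mono_iff_injective i).1 inferInstance
      (by rw [map_smul, hn a ha, map_zero])⟩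
  · refine ⟨fun {X Y} p _ hX y => ?_⟩
    obtain ⟨x, rfl⟩ := (ModuleCat.epi_iff_surjective p).1 inferInstance y
    obtain ⟨n, hn⟩ := hX x
    exact ⟨n, fun a ha => by rw [← map_smul, hn a ha, map_zero]⟩
  · refine ⟨fun {S} hS h1 h3 x => ?_⟩
    obtain ⟨n, hn⟩ := h3 (S.g.hom x)
    obtain ⟨s, hs⟩ := Submodule.FG.pow hI n
    have hy : ∀ a ∈ I ^ n, ∃ y, S.f.hom y = a • x := fun a ha =>
      LinearMap.mem_range.1 ((ShortComplex.moduleCat_exact_iff_range_eq_ker S).1 hS.exact |>.ge
        (by rw [LinearMap.mem_ker, map_smul, hn a ha]))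
    choose y hy' using hy
    choose k hk using h1
    let N := s.attach.sup fun a => k (y a.1 (hs.le (Submodule.subset_span a.2)))
    refine ⟨N + n, ?_⟩
    have hle : I ^ (N + n) ≤ LinearMap.ker (LinearMap.toSpanSingleton R _ x) := by
      rw [pow_add, Ideal.mul_le]
      intro a ha b hb
      rw [LinearMap.mem_ker, LinearMap.toSpanSingleton_apply, mul_smul]
      rw [← hs] at hb
      refine Submodule.span_induction (p := fun b _ => a • b • x = 0) (fun c hc => ?_) (by simp)
        (fun _ _ _ _ hu hv => by rw [add_smul, smul_add, hu, hv, add_zero])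
        (fun r u _ hu => by rw [smul_assoc, smul_comm, hu, smul_zero]) hb
      rw [← hy' c (hs.le (Submodule.subset_span hc)), ← map_smul]
      rw [hk _ a (Ideal.pow_le_pow_right (Finset.le_sup (f := fun a : s => k (y a.1 _)) (Finset.mem_attach s ⟨c, hc⟩)) ha), map_zero]
    intro a ha
    simpa using hle ha

end Groth.Agent.S7040
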