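import Groth.Statements.S7043
import Groth.Agent.Lib.DCpl.Bridge
import Groth.Agent.Lib.DCpl.Ring
-- import your own Groth.Agent.* helpers here

set_option autoImplicit false
universe u
attribute [local instance] HasDerivedCategory.standard
open DRing

namespace Groth.Agent.S7043

/-- Let f be an element of a commutative ring A and let M be an A-module which, placed in degree 0, is
derived complete with respect to the ideal (f). Then the ideal J = ⋂ f^n A annihilates the submodule
⋂ f^n M, which is the kernel of M → lim M/f^n M. (The case M = A says that J has square zero when A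
itself is derived complete.) -/
theorem result {A : Type u} [CommRing A] (f : A)
    (M : Type u) [AddCommGroup M] [Module A M]
    (hc : DRing.IsDerivedComplete (Ideal.span {f}) (Dual.inD A M)) :
    (⨅ n : ℕ, Ideal.span {f ^ n}) • (⨅ n : ℕ, (Ideal.span {f ^ n}) • (⊤ : Submodule A M)) = (⊥ : Submodule A M) := by
  rw [Groth.Agent.DCpl.isDerivedComplete_inD_iff] at hc
  refine le_bot_iff.1 (Submodule.smul_le.2 fun a ha m hm => ?_)
  rw [Submodule.mem_bot]
  rw [Submodule.mem_iInf] at ha hm
  exact (hc f (Ideal.mem_span_singleton_self f)).smul_eq_zero_of_divisible ha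
    fun n => (Groth.Agent.DCpl.smul_span_pow_top f n m).1 (hm n)

end Groth.Agent.S7043
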