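import Groth.Statements.S7046
import Groth.Agent.Lib.DCpl.Bridge
import Groth.Agent.Lib.DCpl.Ring
-- import your own Groth.Agent.* helpers here

set_option autoImplicit false
universe u
attribute [local instance] HasDerivedCategory.standard
open DRing

namespace Groth.Agent.S7046

/-- A reduced commutative ring A which, placed in degree 0 of D(A), is derived complete with respect to
a finitely generated ideal I is I-adically complete, i.e. separated and complete for the I-adic
topology. -/
theorem result {A : Type u} [CommRing A] [IsReduced A]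
    (I : Ideal A) (hI : I.FG) (hc : DRing.IsDerivedComplete I (Dual.inD A A)) :
    IsAdicComplete I A := by
  rw [Groth.Agent.DCpl.isDerivedComplete_inD_iff] at hc
  obtain ⟨s, hs⟩ := hI
  have hs' : {f | f ∈ s.toList} = (s : Set A) := by ext; simp
  have h : (⨅ n : ℕ, I ^ n) ^ (2 ^ s.toList.length) = ⊥ := by
    simpa [hs', Ideal.span, hs] using Groth.Agent.DCpl.pow_two_pow_eq_bot s.toList A
      fun f hf => hc f (hs ▸ Ideal.subset_span (by simpa using hf))
  refine (AdicCompletion.of_bijective_iff (I := I) (M := A)).1
    ⟨AdicCompletion.of_injective_iff.2 ⟨fun x hx => ?_⟩,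
      Groth.Agent.DCpl.of_surjective_of_dc I ⟨s, hs⟩ hc⟩
  have hmem : x ∈ ⨅ n : ℕ, I ^ n := (Ideal.mem_iInf).2 fun n => by
    simpa [SModEq.zero] using hx n
  refine eq_zero_of_pow_eq_zero (n := 2 ^ s.toList.length) ?_
  rw [← Ideal.mem_bot, ← h]
  exact Ideal.pow_mem_pow hmem _

end Groth.Agent.S7046
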