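import Groth.Statements.S7054
import Groth.Agent.Lib.DCpl.Derived
-- import your own Groth.Agent.* helpers here

set_option autoImplicit false
universe u
attribute [local instance] HasDerivedCategory.standard
open DRing

namespace Groth.Agent.S7054

/-- For a commutative ring A and an ideal I such that A, placed in degree 0, is derived complete with
respect to I, every object of D(A) isomorphic to a bounded above complex of finite free A-modules is
derived complete with respect to I. -/
theorem result {A : Type u} [CommRing A] (I : Ideal A)
    (hA : DRing.IsDerivedComplete I (Dual.inD A A)) (K : Dual.D A) (hK : DRing.IsPseudoCoherent' A K) :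
    DRing.IsDerivedComplete I K := by
  rw [Groth.Agent.DCpl.isDerivedComplete_inD_iff] at hA
  obtain ⟨E, b, -, hE, ⟨e⟩⟩ := hK
  have h := Groth.Agent.DCpl.isDerivedComplete_toD I E fun f hf i =>
    have := (hE i).1
    have := (hE i).2
    Groth.Agent.DCpl.dc_of_finite_free (hA f hf) (E.X i)
  rw [Groth.Agent.DCpl.isDerivedComplete_iff] at h ⊢
  exact fun f hf i => (h f hf i).of_linearEquiv ((Groth.Agent.DMod.HH i).mapIso e).toLinearEquiv

end Groth.Agent.S7054
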