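import Groth.Statements.S7055
import Groth.Agent.Lib.DCpl.Nakayama
-- import your own Groth.Agent.* helpers here

set_option autoImplicit false
universe u
attribute [local instance] HasDerivedCategory.standard
open CategoryTheory
open DRing

namespace Groth.Agent.S7055

/-- For a commutative ring A, a finitely generated ideal I and an object K of D(A) which is derived
complete with respect to I, if K ⊗^L_A A/I vanishes then K vanishes. The derived tensor product with
the module A/I is the total left derived functor, assumed to exist. -/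
theorem result {A : Type u} [CommRing A] (I : Ideal A) (hI : I.FG)
    [DRing.HasLTensor A (ModuleCat.of A (A ⧸ I))]
    (K : Dual.D A) (hc : DRing.IsDerivedComplete I K)
    (h0 : Limits.IsZero ((DRing.LTensor A (ModuleCat.of A (A ⧸ I))).obj K)) : Limits.IsZero K := by
  refine (Limits.IsZero.iff_id_eq_zero K).2 ?_
  have hz : ∀ b : ℤ, ((DRing.LTensor A (ModuleCat.of A (A ⧸ I))).obj K).IsLE b := fun b =>
    (Groth.Agent.DMod.isLE_iff _ b).2 fun i _ => ModuleCat.subsingleton_of_isZero
      (Functor.map_isZero (Groth.Agent.DMod.HH i) h0)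
  have h : ∀ b : ℤ, K.IsLE b := fun b => Groth.Agent.DCpl.isLE_of_lTensor I hI K hc b (hz b)
  have : K.IsGE 1 := (Groth.Agent.DMod.isGE_iff K 1).2 fun i _ =>
    (Groth.Agent.DMod.isLE_iff K (i - 1)).1 (h (i - 1)) i (by omega)
  exact (Groth.Agent.DMod.tS A).zero_of_isLE_of_isGE (𝟙 K) 0 1 (by omega) (h 0) inferInstance

end Groth.Agent.S7055
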