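import Groth.Statements.S7059
import Groth.Agent.Lib.DCpl.Bridge
import Groth.Agent.Lib.DCpl.Finite
-- import your own Groth.Agent.* helpers here

set_option autoImplicit false
universe u
attribute [local instance] HasDerivedCategory.standard
open DRing

namespace Groth.Agent.S7059

/-- Let A be a Noetherian commutative ring, I an ideal and M an A-module which, placed in degree 0 of
D(A), is derived complete with respect to I. If M/IM is a finite module, then M is I-adically
complete, and M (identified with its I-adic completion) is a finite module over the I-adic
completion of A. -/
theorem result {A : Type u} [CommRing A]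
    [IsNoetherianRing A] (I : Ideal A) (M : Type u) [AddCommGroup M] [Module A M]
    (hc : DRing.IsDerivedComplete I (Dual.inD A M))
    (hf : Module.Finite A (M ⧸ I • (⊤ : Submodule A M))) :
    IsAdicComplete I M ∧ Module.Finite (AdicCompletion I A) (AdicCompletion I M) := by
  have h := (Groth.Agent.DCpl.isDerivedComplete_inD_iff I M).1 hc
  exact ⟨Groth.Agent.DCpl.isAdicComplete_of_dc_of_finite I h hf, Groth.Agent.DCpl.finite_adicCompletion I hf⟩

end Groth.Agent.S7059
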