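import Groth.Statements.S7061
import Groth.Agent.Lib.DCpl.TensorCpl
-- import your own Groth.Agent.* helpers here

set_option autoImplicit false
universe u
attribute [local instance] HasDerivedCategory.standard
open TensorProduct
open CategoryTheory
open DRing

namespace Groth.Agent.S7061

open CategoryTheory in
theorem apply_of_comp {A : Type u} [CommRing A] {X Y Z : ModuleCat.{u} A} (f : X ⟶ Y) (k : X ⟶ Z) (e : Y ≅ Z)
    (_g : Unit) (h : f ≫ e.hom = k) (x : X) : e.toLinearEquiv (f.hom x) = k.hom x :=
  ConcreteCategory.congr_hom h x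

/-- Let A be a Noetherian commutative ring and I an ideal, and assume the derived completion functor
exists. For a finite A-module M and a flat A-module N, the derived completion of M ⊗_A N (placed in
degree 0) has vanishing cohomology in every nonzero degree, and there is an A-linear isomorphism
from its degree-0 cohomology to the I-adic completion of M ⊗_A N which carries the map M ⊗_A N =
H^0((M ⊗_A N)[0]) → H^0(((M ⊗_A N)[0])^∧) induced by the canonical morphism to the derived
completion to the canonical map from M ⊗_A N to its I-adic completion. -/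
theorem result {A : Type u} [CommRing A] [IsNoetherianRing A]
    (I : Ideal A) [DRing.HasDerivedCompletion I]
    (M N : Type u) [AddCommGroup M] [Module A M] [Module.Finite A M] [AddCommGroup N] [Module A N] [Module.Flat A N] :
    (∀ i : ℤ, i ≠ 0 → Subsingleton (Dual.HD A ((DRing.derivedCompletion I).obj (Dual.inD A (M ⊗[A] N))).obj i)) ∧
      ∃ e : Dual.HD A ((DRing.derivedCompletion I).obj (Dual.inD A (M ⊗[A] N))).obj 0 ≃ₗ[A]
          AdicCompletion I (M ⊗[A] N),
        ∀ x : M ⊗[A] N,
          e ((((DerivedCategory.singleFunctorCompHomologyFunctorIso (ModuleCat.{u} A) 0).inv.app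
                (ModuleCat.of A (M ⊗[A] N))) ≫
              (DerivedCategory.homologyFunctor (ModuleCat.{u} A) 0).map
                (DRing.toDerivedCompletion I (Dual.inD A (M ⊗[A] N)))).hom x) =
            AdicCompletion.of I (M ⊗[A] N) x := by
  obtain ⟨S, hS⟩ := IsNoetherian.noetherian I
  have hs : Ideal.span {f | f ∈ S.toList} = I := by
    rw [← hS, show {f | f ∈ S.toList} = (S : Set A) by ext; simp]
  obtain ⟨c, hc⟩ := Groth.Agent.DCpl.nonempty_iso_of_isCpl I _ hs
    (Groth.Agent.DCpl.isCpl_tensor_of I M N S.toList hs)
  refine ⟨fun i hi => ?_, ?_⟩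
  · have : Subsingleton (Dual.HD A ((DerivedCategory.singleFunctor (ModuleCat.{u} A) 0).obj
        (ModuleCat.of A (AdicCompletion I (M ⊗[A] N)))) i) := by
      rcases lt_or_gt_of_ne hi with h | h
      · exact (Groth.Agent.DMod.isGE_iff _ 0).1 inferInstance i h
      · exact (Groth.Agent.DMod.isLE_iff _ 0).1 inferInstance i h
    exact ((DerivedCategory.homologyFunctor (ModuleCat.{u} A) i).mapIso c).toLinearEquiv.toEquiv.subsingleton
  · let ι := DerivedCategory.singleFunctorCompHomologyFunctorIso (ModuleCat.{u} A) 0
    let e := (DerivedCategory.homologyFunctor (ModuleCat.{u} A) 0).mapIso c ≪≫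
      ι.app (ModuleCat.of A (AdicCompletion I (M ⊗[A] N)))
    refine ⟨e.toLinearEquiv, fun x => ?_⟩
    have key : ι.inv.app (ModuleCat.of A (M ⊗[A] N)) ≫
        (DerivedCategory.homologyFunctor (ModuleCat.{u} A) 0).map
          (DRing.toDerivedCompletion I (Dual.inD A (M ⊗[A] N))) ≫ e.hom =
        ModuleCat.ofHom (AdicCompletion.of I (M ⊗[A] N)) := by
      have h1 : (DerivedCategory.homologyFunctor (ModuleCat.{u} A) 0).map
          (DRing.toDerivedCompletion I (Dual.inD A (M ⊗[A] N))) ≫
            (DerivedCategory.homologyFunctor (ModuleCat.{u} A) 0).map c.hom =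
          (DerivedCategory.homologyFunctor (ModuleCat.{u} A) 0).map
            ((DerivedCategory.singleFunctor (ModuleCat.{u} A) 0).map
              (ModuleCat.ofHom (Y := AdicCompletion I (M ⊗[A] N)) (AdicCompletion.of I (M ⊗[A] N)))) :=
        (Functor.map_comp _ _ _).symm.trans (congrArg _ hc)
      refine (congrArg (ι.inv.app _ ≫ ·) ((Category.assoc _ _ _).symm.trans
        (congrArg (· ≫ ι.hom.app _) h1))).trans ?_
      exact NatIso.naturality_1 ι _
    exact apply_of_comp _ (ModuleCat.ofHom (AdicCompletion.of I (M ⊗[A] N))) e () ((Category.assoc _ _ _).trans key) x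

end Groth.Agent.S7061
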