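import Groth.Statements.S7065
import Mathlib.RingTheory.Spectrum.Prime.Topology


set_option autoImplicit false
universe u
open EtGlue

namespace Groth.Agent.S7065

/-- Let R → R' be a homomorphism of commutative rings and f an element of R such that the induced map
R/fR → R'/fR' is bijective. Then Spec(R') ⊔ Spec(R_f) → Spec(R) is surjective: every prime of R is
the contraction of a prime of R' or of a prime of R_f. -/
theorem result {R R' : Type u} [CommRing R] [CommRing R']
    [Algebra R R'] (f : R)
    (hq : Function.Bijective
      (Ideal.quotientMap (Ideal.map (algebraMap R R') (Ideal.span {f})) (algebraMap R R') Ideal.le_comap_map))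
    (p : PrimeSpectrum R) :
    (∃ q : PrimeSpectrum R', PrimeSpectrum.comap (algebraMap R R') q = p) ∨
      ∃ q : PrimeSpectrum (Localization.Away f), PrimeSpectrum.comap (algebraMap R (Localization.Away f)) q = p := by
  by_cases hf : f ∈ p.asIdeal
  · left
    let I : Ideal R := Ideal.span {f}
    let J : Ideal R' := I.map (algebraMap R R')
    have hI : I ≤ p.asIdeal := (Ideal.span_singleton_le_iff_mem _).2 hf
    let e : (R ⧸ I) ≃+* (R' ⧸ J) := RingEquiv.ofBijective _ hq
    have hp : (p.asIdeal.map (Ideal.Quotient.mk I)).IsPrime :=
      Ideal.map_isPrime_of_surjective Ideal.Quotient.mk_surjective (by rwa [Ideal.mk_ker])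
    let Q : PrimeSpectrum (R ⧸ I) := ⟨_, hp⟩
    refine ⟨PrimeSpectrum.comap ((e.symm : (R' ⧸ J) →+* (R ⧸ I)).comp (Ideal.Quotient.mk J)) Q,
      PrimeSpectrum.ext ?_⟩
    simp only [PrimeSpectrum.comap_asIdeal, Ideal.comap_comap]
    have : ((e.symm : (R' ⧸ J) →+* (R ⧸ I)).comp (Ideal.Quotient.mk J)).comp (algebraMap R R') =
        Ideal.Quotient.mk I := by
      refine RingHom.ext fun r => e.injective ?_
      simp only [RingHom.comp_apply, RingHom.coe_coe, RingEquiv.apply_symm_apply]
      rfl
    rw [this, Ideal.comap_map_of_surjective' _ Ideal.Quotient.mk_surjective, Ideal.mk_ker]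
    exact sup_eq_left.2 hI
  · right
    have : p ∈ Set.range (PrimeSpectrum.comap (algebraMap R (Localization.Away f))) := by
      rw [PrimeSpectrum.localization_away_comap_range (Localization.Away f) f]
      exact hf
    exact this

end Groth.Agent.S7065
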