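import Groth.Statements.S7066
import Groth.Agent.Lib.PCMor4.Perfect

set_option autoImplicit false
universe u
attribute [local instance] HasDerivedCategory.standard
open MoreMor

set_option backward.isDefEq.respectTransparency.types false

namespace Groth.Agent.S7066

/-- A homomorphism of commutative rings A → B is perfect, i.e. pseudo-coherent with B of finite tor
dimension as an A-module, if and only if B is a quotient of a polynomial ring A[x_1, …, x_n] over
which B is a perfect module, i.e. B placed in degree 0 is isomorphic in the derived category of the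
polynomial ring to a bounded complex of finite projective modules. -/
theorem result (A B : Type u) [CommRing A] [CommRing B] [Algebra A B] :
    MoreMor.IsPerfectHom A B ↔
      ∃ (n : ℕ) (φ : MvPolynomial (Fin n) A →ₐ[A] B), Function.Surjective φ ∧
        letI := φ.toRingHom.toAlgebra
        DRing.IsPerfectModule (MvPolynomial (Fin n) A) B := by
  have e : (algebraMap A B).toAlgebra = ‹Algebra A B› := Algebra.algebra_ext _ _ fun _ => rfl
  have h0 : MoreMor.IsPerfectHom A B ↔ PCMor4.PFH (algebraMap A B) := by
    have h1 := PCMor4.isPerfectHom_iff (algebraMap A B)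
    rwa [e] at h1
  rw [h0]
  constructor
  · intro h
    obtain ⟨n, φ₀, hs, hC, -⟩ := h.1
    let φ : MvPolynomial (Fin n) A →ₐ[A] B :=
      { φ₀ with commutes' := fun a => RingHom.congr_fun hC a }
    exact ⟨n, φ, hs, (PCMor4.pfh_iff_perfectModule _ φ₀ hs hC).1 h⟩
  · rintro ⟨n, φ, hs, h⟩
    exact (PCMor4.pfh_iff_perfectModule _ φ.toRingHom hs φ.comp_algebraMap).2 h

end Groth.Agent.S7066
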