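import Groth.Statements.S7068
import Groth.Agent.Lib.PCMor4.SchemeBC

set_option autoImplicit false
universe u
attribute [local instance] HasDerivedCategory.standard
open MoreMor

set_option backward.isDefEq.respectTransparency.types false

namespace Groth.Agent.S7068

/-- If A → B is a flat homomorphism of commutative rings of finite presentation, then A → B is a perfect
ring map: pseudo-coherent, with B of finite tor dimension as an A-module. -/
theorem result (A B : Type u) [CommRing A] [CommRing B] [Algebra A B]
    [Module.Flat A B] [Algebra.FinitePresentation A B] : MoreMor.IsPerfectHom A B := by
  have h := (PCMor4.isPerfectHom_iff (algebraMap A B)).2 (PCMor4.pfh_of_flat (algebraMap A B) (RingHom.flat_algebraMap_iff.2 inferInstance) (RingHom.finitePresentation_algebraMap.2 inferInstance))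
  have e : (algebraMap A B).toAlgebra = ‹Algebra A B› := Algebra.algebra_ext _ _ fun _ => rfl
  rw [e] at h
  exact h

end Groth.Agent.S7068
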