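import Groth.Statements.S7070
import Groth.Agent.Lib.PCMor4.Koszul

set_option autoImplicit false
universe u
attribute [local instance] HasDerivedCategory.standard
open MoreMor

set_option backward.isDefEq.respectTransparency.types false

namespace Groth.Agent.S7070

/-- A local complete intersection homomorphism of commutative rings A → B (finite type, with some
polynomial presentation whose kernel is a Koszul-regular ideal) is perfect: pseudo-coherent with B
of finite tor dimension over A. -/
theorem result (A B : Type u) [CommRing A] [CommRing B] [Algebra A B]
    (h : LCI.IsLCI A B) : MoreMor.IsPerfectHom A B := by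
  have h1 := (PCMor4.isPerfectHom_iff (algebraMap A B)).2 (PCMor4.pfh_of_isLCI h)
  have e : (algebraMap A B).toAlgebra = ‹Algebra A B› := Algebra.algebra_ext _ _ fun _ => rfl
  rw [e] at h1
  exact h1

end Groth.Agent.S7070
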