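import Groth.Statements.S7071
import Groth.Agent.Lib.RelPC8.Via

set_option autoImplicit false
universe u
attribute [local instance] HasDerivedCategory.standard
open DerCA

namespace Groth.Agent.S7071

open Groth.Agent.PCMor4 Groth.Agent.RelPC8


/-- Let R → A be a pseudo-coherent homomorphism of commutative rings, m an integer and K an object of
D(A). Then the object K is m-pseudo-coherent as an object of D(A) exactly when, relative to R, it is
m-pseudo-coherent. -/
theorem result (R A : Type u) [CommRing R] [CommRing A]
    [Algebra R A] (hRA : MoreMor.IsPseudoCoherentHom R A) (m : ℤ) (K : Dual.D A) :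
    DerCA.IsRelPseudoCoherent R A m K ↔ DRing.IsPseudoCoherent A m K := by
  have h := isPseudoCoherentHom_iff.1 hRA
  obtain ⟨n, α, hα⟩ : ∃ (n : ℕ) (α : MvPolynomial (Fin n) R →ₐ[R] A), Function.Surjective α := by
    obtain ⟨n, φ, hφ, hφC, -⟩ := h
    exact ⟨n, { φ with commutes' := fun r => RingHom.congr_fun hφC r }, hφ⟩
  exact (rel_iff α hα m K).trans
    (pc_restrict_iff (pcr_of_pch h α.toRingHom hα (RingHom.ext fun r => α.commutes r)) m K)


end Groth.Agent.S7071
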