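import Groth.Statements.S7074
import Groth.Agent.Lib.RelPCS8.FlatFP
import Groth.Agent.Lib.DBaseChange.ResPC
import Groth.Agent.S6944
import Groth.Agent.S6938
-- import your own Groth.Agent.* helpers here

set_option autoImplicit false
universe u
attribute [local instance] HasDerivedCategory.standard
open CategoryTheory
open Dual2

set_option backward.isDefEq.respectTransparency.types false
open CategoryTheory CategoryTheory.Limits
attribute [local instance] HasDerivedCategory.standard

namespace Groth.Agent.S7074

/-- A finitely presented module, flat over the base, is pseudo-coherent over the algebra. -/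
theorem pcModule_of_flat_fp {R A : Type u} [CommRing R] [CommRing A] [Algebra R A] [Module.Flat R A]
    [Algebra.FinitePresentation R A] (M : Type u) [AddCommGroup M] [Module R M] [Module A M]
    [IsScalarTower R A M] [Module.FinitePresentation A M] [Module.Flat R M] :
    DRing.IsPseudoCoherentModule' A M := by
  obtain ⟨n, f, hf, hker⟩ := Algebra.FinitePresentation.out (R := R) (A := A)
  letI : Algebra (MvPolynomial (Fin n) R) A := f.toRingHom.toAlgebra
  haveI : IsScalarTower R (MvPolynomial (Fin n) R) A := IsScalarTower.of_algebraMap_eq fun r => (f.commutes r).symm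
  letI : Module (MvPolynomial (Fin n) R) M := Module.compHom M (algebraMap (MvPolynomial (Fin n) R) A)
  haveI : IsScalarTower (MvPolynomial (Fin n) R) A M := IsScalarTower.of_algebraMap_smul fun _ _ => rfl
  haveI : IsScalarTower R (MvPolynomial (Fin n) R) M := IsScalarTower.of_algebraMap_smul fun r m => by
    show f (algebraMap R (MvPolynomial (Fin n) R) r) • m = r • m
    rw [f.commutes, algebraMap_smul]
  haveI : Module.FinitePresentation (MvPolynomial (Fin n) R) A :=
    Module.finitePresentation_of_surjective (Algebra.linearMap (MvPolynomial (Fin n) R) A) hf hker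
  haveI : Module.FinitePresentation (MvPolynomial (Fin n) R) M :=
    Module.FinitePresentation.trans (MvPolynomial (Fin n) R) M A
  refine PCMor4.pc'_iff_PCn.2 fun k => ?_
  exact (PCMor4.pcn_restrict_iff (R := MvPolynomial (Fin n) R) (fun j => RelPCS8.pcn_of_flat_fp (R := R) (n := n) A j) k M).2 (RelPCS8.pcn_of_flat_fp (R := R) M k)


/-- For a flat homomorphism of finite presentation R → A of commutative rings and an object K of D(A), K
is R-perfect (pseudo-coherent over A and of finite tor dimension over R) if and only if K is
isomorphic in D(A) to a bounded complex whose terms are finitely presented A-modules that are flat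
as R-modules. -/
theorem result (R A : Type u) [CommRing R] [CommRing A] [Algebra R A]
    [Module.Flat R A] [Algebra.FinitePresentation R A] (K : Dual.D A) :
    Dual2.IsRelPerfect R A K ↔
      ∃ (E : DRing.Cx A) (a b : ℤ), DRing.VanishesOutside E a b ∧
        (∀ i : ℤ, Module.FinitePresentation A (E.X i) ∧
          Module.Flat R ((ModuleCat.restrictScalars (algebraMap R A)).obj (E.X i))) ∧
        Nonempty (DRing.toD E ≅ K) := by
  let F := ModuleCat.restrictScalars.{u} (algebraMap R A)
  constructor
  · rintro ⟨⟨P, b', hPv, hP, ⟨e⟩⟩, a, b, hamp⟩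
    have hb' : DRing.VanishesAbove P (max b b') := fun i hi => hPv i (by omega)
    have hPfree : ∀ i, Module.Finite A (P.X i) ∧ Module.Free A (P.X i) := hP
    let e' : DRing.toD ((F.mapHomologicalComplex (ComplexShape.up ℤ)).obj P) ≅
        (DRing.restrictD (algebraMap R A)).obj K :=
      (F.mapDerivedCategoryFactors.app P).symm ≪≫ (DRing.restrictD (algebraMap R A)).mapIso e
    have hflat : DRing.TermwiseFlat ((F.mapHomologicalComplex (ComplexShape.up ℤ)).obj P) := fun i => by
      haveI := (hPfree i).2
      letI : Module R (P.X i) := Module.compHom (P.X i) (algebraMap R A)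
      haveI : IsScalarTower R A (P.X i) := IsScalarTower.of_algebraMap_smul fun _ _ => rfl
      exact Module.Flat.trans R A (P.X i)
    have hamp' := DBaseChange.hasTorAmplitudeIn_of_iso e'.symm hamp
    have hcoker := Groth.Agent.S6944.result R _ (max b b') (fun i hi => F.map_isZero (hb' i hi)) hflat a b hamp'
    haveI : K.IsGE a := (DMod.isGE_iff K a).2 fun i hi => by
      obtain ⟨E, hE, -, ⟨eE⟩⟩ := hamp
      haveI := ((DMod.vanishesOutside_iff E a b).1 hE).1
      haveI : ((DRing.restrictD (algebraMap R A)).obj K).IsGE a :=
        (DMod.tS R).isGE_of_iso eE a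
      obtain ⟨r⟩ := DBaseChange.nonempty_resHD_iso (algebraMap R A) K i
      exact r.toLinearEquiv.toEquiv.subsingleton_congr.1 ((DMod.isGE_iff _ a).1 inferInstance i hi)
    haveI : (DRing.toD P).IsGE a := (DMod.tS A).isGE_of_iso e.symm a
    haveI : P.IsStrictlyLE (max b b') := (CochainComplex.isStrictlyLE_iff P _).2 hb'
    obtain ⟨t⟩ := DMod.exists_truncFrom_iso P a
    refine ⟨DMod.truncFrom P a, a, max b b', DMod.vanishesOutside_truncFrom P a _, fun i => ?_, ⟨t ≪≫ e⟩⟩
    rcases lt_trichotomy i a with hi | hi | hi
    · haveI := ModuleCat.subsingleton_of_isZero (DMod.isZero_truncFrom_X P hi)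
      haveI : Subsingleton (F.obj ((DMod.truncFrom P a).X i)) :=
        inferInstanceAs (Subsingleton ((DMod.truncFrom P a).X i))
      exact ⟨inferInstance, inferInstance⟩
    · subst hi
      haveI := (hPfree i).1
      haveI := (hPfree i).2
      haveI := (hPfree (i - 1)).1
      haveI : Module.FinitePresentation A (P.X i) := Module.finitePresentation_of_projective A (P.X i)
      haveI : Module.FinitePresentation A (P.X i ⧸ LinearMap.range (P.d (i - 1) i).hom) :=
        Module.finitePresentation_of_surjective (Submodule.mkQ _) (Submodule.mkQ_surjective _)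
          (by rw [Submodule.ker_mkQ]; exact Module.Finite.iff_fg.1 (Module.Finite.range _))
      refine ⟨Module.FinitePresentation.of_equiv (R := A) (M := P.X i ⧸ LinearMap.range (P.d (i - 1) i).hom)
        (N := (DMod.truncFrom P i).X i) (DMod.truncFromBotEquiv P i), ?_⟩
      let q : F.obj (P.X i) →ₗ[R] F.obj ((DMod.truncFrom P i).X i) :=
        (F.map (ModuleCat.ofHom ((DMod.truncFromBotEquiv P i).toLinearMap ∘ₗ Submodule.mkQ _) :
          P.X i ⟶ (DMod.truncFrom P i).X i)).hom
      have hq : LinearMap.ker q =
          LinearMap.range ((((F.mapHomologicalComplex (ComplexShape.up ℤ)).obj P).d (i - 1) i)).hom := by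
        ext x
        exact ((DMod.truncFromBotEquiv P i).map_eq_zero_iff).trans (Submodule.Quotient.mk_eq_zero _)
      exact Module.Flat.of_linearEquiv ((Submodule.quotEquivOfEq _ _ hq.symm).trans
        (q.quotKerEquivOfSurjective ((DMod.truncFromBotEquiv P i).surjective.comp (Submodule.mkQ_surjective _)))).symm
    · haveI := (hPfree i).1
      haveI := (hPfree i).2
      haveI : Module.FinitePresentation A (P.X i) := Module.finitePresentation_of_projective A (P.X i)
      let eX := DMod.truncFromXEquiv P hi
      refine ⟨Module.FinitePresentation.of_equiv eX, ?_⟩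
      haveI : Module.Flat R (F.obj (P.X i)) := hflat i
      let eR : P.X i ≅ (DMod.truncFrom P a).X i := eX.toModuleIso
      exact Module.Flat.of_linearEquiv (M := F.obj (P.X i)) (F.mapIso eR).toLinearEquiv.symm
  · rintro ⟨E, a, b, hE, hterm, ⟨e⟩⟩
    refine ⟨DMod.pc'_of_iso e ((Groth.Agent.S6938.result A 0 E b fun i hi => hE i (Or.inr hi)).2 fun i => ?_),
      a, b, (F.mapHomologicalComplex (ComplexShape.up ℤ)).obj E, fun i hi => F.map_isZero (hE i hi),
      fun i => (hterm i).2, ⟨(F.mapDerivedCategoryFactors.app E).symm ≪≫ (DRing.restrictD (algebraMap R A)).mapIso e⟩⟩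
    haveI := (hterm i).1
    letI : Module R (E.X i) := Module.compHom (E.X i) (algebraMap R A)
    haveI : IsScalarTower R A (E.X i) := IsScalarTower.of_algebraMap_smul fun _ _ => rfl
    haveI : Module.Flat R (E.X i) := (hterm i).2
    exact pcModule_of_flat_fp (R := R) (E.X i)

end Groth.Agent.S7074
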