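import Groth.Statements.S7075
import Groth.Agent.Lib.RelPC8.BaseChange
import Groth.Agent.Lib.DBaseChange.TensorValue
import Groth.Agent.Lib.DBaseChange.TorAmp
-- import your own Groth.Agent.* helpers here

set_option autoImplicit false
universe u
attribute [local instance] HasDerivedCategory.standard
open TensorProduct
open Dual2

set_option backward.isDefEq.respectTransparency false
set_option backward.isDefEq.respectTransparency.types false
open CategoryTheory CategoryTheory.Limits
attribute [local instance] HasDerivedCategory.standard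

namespace Groth.Agent.S7075

/-- Extension of scalars of isomorphic bounded above complexes of flat modules. -/
theorem nonempty_ext_iso {R B : Type u} [CommRing R] [CommRing B] (φ : R →+* B) {P Q : DRing.Cx R}
    (b : ℤ) [P.IsStrictlyLE b] [Q.IsStrictlyLE b] (hP : ∀ i, _root_.Module.Flat R (P.X i))
    (hQ : ∀ i, _root_.Module.Flat R (Q.X i)) (e : DRing.toD P ≅ DRing.toD Q) :
    Nonempty (DRing.toD ((DBaseChange.extCx φ).obj P) ≅ DRing.toD ((DBaseChange.extCx φ).obj Q)) := by
  haveI : (DRing.toD P).IsLE b := inferInstanceAs ((DerivedCategory.Q.obj P).IsLE b)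
  obtain ⟨F, hF, hFf, ⟨eF⟩⟩ := DMod.exists_free_resolution (DRing.toD P) b
  haveI := hF
  haveI := DMod.isKProjective b (P := F) fun i => by
    haveI := hFf i
    infer_instance
  have hFl : ∀ i, _root_.Module.Flat R (F.X i) := fun i => by
    haveI := hFf i
    infer_instance
  have key : ∀ (Q' : DRing.Cx R), Q'.IsStrictlyLE b → (∀ i, _root_.Module.Flat R (Q'.X i)) →
      (DRing.toD F ≅ DRing.toD Q') →
      Nonempty (DRing.toD ((DBaseChange.extCx φ).obj F) ≅ DRing.toD ((DBaseChange.extCx φ).obj Q')) := by
    intro Q' hb hQ' eQ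
    haveI := hb
    obtain ⟨f, hf⟩ := DMod.exists_map_eq eQ.hom
    haveI : QuasiIso f := by
      rw [← DerivedCategory.isIso_Q_map_iff_quasiIso, hf]
      infer_instance
    haveI := DBaseChange.quasiIso_ext φ f (DBaseChange.adapted_of_flat F b hFl) (DBaseChange.adapted_of_flat Q' b hQ')
    exact ⟨asIso (DerivedCategory.Q.map ((DBaseChange.extCx φ).map f))⟩
  obtain ⟨u₁⟩ := key P inferInstance hP eF
  obtain ⟨u₂⟩ := key Q inferInstance hQ (eF ≪≫ e)
  exact ⟨u₁.symm ≪≫ u₂⟩


/-- Let R → A be a flat homomorphism of finite presentation of commutative rings, R → R' any ring map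
and A' = R' ⊗_R A. If K in D(A) is R-perfect then its derived base change K ⊗^L_A A' (the total left
derived functor of extension of scalars, assumed to exist) is R'-perfect in D(A'). -/
theorem result (R A R' : Type u) [CommRing R] [CommRing A] [Algebra R A] [CommRing R'] [Algebra R R']
    [Module.Flat R A] [Algebra.FinitePresentation R A]
    [DRing.HasLBaseChange (Algebra.TensorProduct.includeRight.toRingHom : A →+* R' ⊗[R] A)]
    (K : Dual.D A) (hK : Dual2.IsRelPerfect R A K) :
    Dual2.IsRelPerfect R' (R' ⊗[R] A)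
      ((DRing.LBaseChange (Algebra.TensorProduct.includeRight.toRingHom : A →+* R' ⊗[R] A)).obj K) := by
  obtain ⟨⟨P, b', hPv, hP, ⟨e⟩⟩, a, b, E, hEv, hE, ⟨eE⟩⟩ := hK
  let A' := R' ⊗[R] A
  letI : Algebra A A' := (Algebra.TensorProduct.includeRight.toRingHom : A →+* R' ⊗[R] A).toAlgebra
  haveI : IsScalarTower R A A' := IsScalarTower.of_algebraMap_eq fun r =>
    ((Algebra.TensorProduct.includeRight : A →ₐ[R] R' ⊗[R] A).commutes r).symm
  haveI : Algebra.IsPushout R R' A A' := ⟨TensorProduct.isBaseChange R A R'⟩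
  have hPflat : ∀ i, _root_.Module.Flat A (P.X i) := fun i => by
    haveI := (hP i).2
    infer_instance
  haveI := (DMod.vanishesAbove_iff P b').1 hPv
  let F := ModuleCat.restrictScalars.{u} (algebraMap R A)
  let P' := (DBaseChange.extCx (Algebra.TensorProduct.includeRight.toRingHom : A →+* R' ⊗[R] A)).obj P
  let eP : DRing.toD P' ≅
      (DRing.LBaseChange (Algebra.TensorProduct.includeRight.toRingHom : A →+* R' ⊗[R] A)).obj K :=
    (DBaseChange.valueIso _ P (DBaseChange.adapted_of_flat P b' hPflat)).symm ≪≫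
      (DRing.LBaseChange _).mapIso e
  refine ⟨⟨P', b', fun i hi => (ModuleCat.extendScalars.{u, u, u} (Algebra.TensorProduct.includeRight.toRingHom : A →+* R' ⊗[R] A)).map_isZero (hPv i hi), fun i => ?_, ⟨eP⟩⟩, a, b, ?_⟩
  · haveI := (hP i).1
    haveI := (hP i).2
    exact ⟨inferInstanceAs (_root_.Module.Finite A' (TensorProduct A A' (P.X i))),
      inferInstanceAs (_root_.Module.Free A' (TensorProduct A A' (P.X i)))⟩
  let Q : DRing.Cx R := (F.mapHomologicalComplex (ComplexShape.up ℤ)).obj P
  have hQflat : ∀ i, _root_.Module.Flat R (Q.X i) := fun i => by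
    haveI := hPflat i
    letI : _root_.Module R (P.X i) := Module.compHom (P.X i) (algebraMap R A)
    haveI : IsScalarTower R A (P.X i) := IsScalarTower.of_algebraMap_smul fun _ _ => rfl
    exact Module.Flat.trans R A (P.X i)
  haveI : CochainComplex.IsStrictlyLE Q (max b b') := (CochainComplex.isStrictlyLE_iff Q _).2 fun i hi =>
    F.map_isZero (hPv i (by omega))
  haveI : E.IsStrictlyLE (max b b') := (CochainComplex.isStrictlyLE_iff E _).2 fun i hi =>
    hEv i (Or.inr (by omega))
  obtain ⟨v⟩ := nonempty_ext_iso (algebraMap R R') (max b b') hE hQflat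
    (eE ≪≫ (DRing.restrictD (algebraMap R A)).mapIso e.symm ≪≫ F.mapDerivedCategoryFactors.app P)
  refine DBaseChange.hasTorAmplitudeIn_of_iso ?_
    ⟨(DBaseChange.extCx (algebraMap R R')).obj E, DBaseChange.vanishesOutside_extCx _ hEv,
      DBaseChange.termwiseFlat_ext _ hE, ⟨v⟩⟩
  exact DerivedCategory.Q.mapIso (RelPC8.sqIso R R' A A' P) ≪≫
    ((ModuleCat.restrictScalars.{u} (algebraMap R' A')).mapDerivedCategoryFactors.app P').symm ≪≫
    (DRing.restrictD (algebraMap R' A')).mapIso eP

end Groth.Agent.S7075
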