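import Groth.Statements.S7076
import Groth.Agent.Lib.RelPC8.BaseChange
import Groth.Agent.Lib.DBaseChange.Nilp
import Groth.Agent.Lib.DQC.Pull
import Mathlib.RingTheory.TensorProduct.Quotient
-- import your own Groth.Agent.* helpers here

set_option autoImplicit false
universe u
attribute [local instance] HasDerivedCategory.standard
open TensorProduct
open Dual2

set_option backward.isDefEq.respectTransparency false
set_option backward.isDefEq.respectTransparency.types false
open CategoryTheory CategoryTheory.Limits
attribute [local instance] HasDerivedCategory.standard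

namespace Groth.Agent.S7076

/-- The base change of a surjection with nilpotent kernel is one too. -/
theorem surjective_includeRight {R' A' R : Type u} [CommRing R'] [CommRing A'] [Algebra R' A']
    [CommRing R] [Algebra R' R] (hs : Function.Surjective (algebraMap R' R))
    (hn : IsNilpotent (RingHom.ker (algebraMap R' R))) :
    Function.Surjective (Algebra.TensorProduct.includeRight.toRingHom : A' →+* TensorProduct R' R A') ∧
      IsNilpotent (RingHom.ker (Algebra.TensorProduct.includeRight.toRingHom : A' →+* TensorProduct R' R A')) := by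
  let f : R' →ₐ[R'] R := Algebra.ofId R' R
  let g := Algebra.TensorProduct.map f (AlgHom.id R' A')
  let e := Algebra.TensorProduct.lid R' A'
  have hc : ∀ a : A', Algebra.TensorProduct.includeRight (R := R') (A := R) a = g (e.symm a) := fun a => by
    simp [g, e]
  refine ⟨fun x => ?_, ?_⟩
  · obtain ⟨y, rfl⟩ : ∃ y, g y = x := TensorProduct.map_surjective hs Function.surjective_id x
    exact ⟨e y, by
      show Algebra.TensorProduct.includeRight (R := R') (A := R) (e y) = g y
      rw [hc, AlgEquiv.symm_apply_apply]⟩
  · have hk : RingHom.ker (Algebra.TensorProduct.includeRight.toRingHom : A' →+* TensorProduct R' R A') ≤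
        (RingHom.ker f).map (algebraMap R' A') := by
      intro a ha
      have h1 : e.symm a ∈ RingHom.ker g := by
        rw [RingHom.mem_ker, ← hc]
        exact ha
      rw [Algebra.TensorProduct.rTensor_ker (f := f) hs] at h1
      have h2 := Ideal.mem_map_of_mem e.toRingHom h1
      change _ ∈ Ideal.map e.toRingHom (Ideal.map (Algebra.TensorProduct.includeLeft (R := R') (S := R') (A := R') (B := A')).toRingHom (RingHom.ker f)) at h2
      rw [Ideal.map_map] at h2
      rw [show e.toRingHom.comp (Algebra.TensorProduct.includeLeft (R := R') (S := R') (A := R') (B := A')).toRingHom =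
        algebraMap R' A' from RingHom.ext fun r => by simp [e, Algebra.smul_def]] at h2
      simpa using h2
    obtain ⟨n, hn⟩ := hn
    refine ⟨n, le_bot_iff.1 ((pow_le_pow_left' hk n).trans ?_)⟩
    rw [← Ideal.map_pow]
    exact (Ideal.map_mono (show RingHom.ker f ^ n ≤ ⊥ from hn.le)).trans Ideal.map_bot.le


/-- Let R' → A' be a flat homomorphism of finite presentation of commutative rings, R' → R a surjective
homomorphism of rings with nilpotent kernel, A = R ⊗_{R'} A', and K' an object of D(A'). If the
derived base change K' ⊗^L_{A'} A (total left derived functor of extension of scalars, assumed to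
exist) is R-perfect in D(A), then K' is R'-perfect in D(A'). -/
theorem result (R' A' R : Type u) [CommRing R'] [CommRing A'] [Algebra R' A']
    [CommRing R] [Algebra R' R] [Module.Flat R' A'] [Algebra.FinitePresentation R' A']
    (hs : Function.Surjective (algebraMap R' R)) (hn : IsNilpotent (RingHom.ker (algebraMap R' R)))
    [DRing.HasLBaseChange (Algebra.TensorProduct.includeRight.toRingHom : A' →+* R ⊗[R'] A')]
    (K' : Dual.D A')
    (hK : Dual2.IsRelPerfect R (R ⊗[R'] A')
      ((DRing.LBaseChange (Algebra.TensorProduct.includeRight.toRingHom : A' →+* R ⊗[R'] A')).obj K')) :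
    Dual2.IsRelPerfect R' A' K' := by
  obtain ⟨hsurj, hnil⟩ := surjective_includeRight (A' := A') hs hn
  obtain ⟨hp, a, b, ht⟩ := hK
  have hp' := DBaseChange.pc'_of_lBaseChange (Algebra.TensorProduct.includeRight.toRingHom : A' →+* R ⊗[R'] A')
    hsurj hnil K' hp
  refine ⟨hp', a, b, ?_⟩
  obtain ⟨P, c, hPv, hP, ⟨e⟩⟩ := hp'
  haveI := (DMod.vanishesAbove_iff P c).1 hPv
  have hPflat : ∀ i, _root_.Module.Flat A' (P.X i) := fun i => by
    haveI := (hP i).2
    infer_instance
  let B := R ⊗[R'] A'
  letI : Algebra A' B := (Algebra.TensorProduct.includeRight.toRingHom : A' →+* R ⊗[R'] A').toAlgebra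
  haveI : IsScalarTower R' A' B := IsScalarTower.of_algebraMap_eq fun r =>
    ((Algebra.TensorProduct.includeRight : A' →ₐ[R'] R ⊗[R'] A').commutes r).symm
  haveI : Algebra.IsPushout R' R A' B := ⟨TensorProduct.isBaseChange R' A' R⟩
  let F := ModuleCat.restrictScalars.{u} (algebraMap R' A')
  let Q : DRing.Cx R' := (F.mapHomologicalComplex (ComplexShape.up ℤ)).obj P
  haveI : CochainComplex.IsStrictlyLE Q c := (CochainComplex.isStrictlyLE_iff Q _).2 fun i hi =>
    F.map_isZero (hPv i hi)
  have hQflat : ∀ i, _root_.Module.Flat R' (Q.X i) := fun i => by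
    haveI := hPflat i
    letI : _root_.Module R' (P.X i) := Module.compHom (P.X i) (algebraMap R' A')
    haveI : IsScalarTower R' A' (P.X i) := IsScalarTower.of_algebraMap_smul fun _ _ => rfl
    exact Module.Flat.trans R' A' (P.X i)
  haveI : DRing.HasLBaseChange (algebraMap R' R) := DQC.hasLBaseChange _
  let eP := (DBaseChange.valueIso (Algebra.TensorProduct.includeRight.toRingHom : A' →+* R ⊗[R'] A') P
    (DBaseChange.adapted_of_flat P c hPflat)).symm ≪≫ (DRing.LBaseChange _).mapIso e
  have h1 : DRing.HasTorAmplitudeIn R a b ((DRing.LBaseChange (algebraMap R' R)).obj (DRing.toD Q)) :=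
    DBaseChange.hasTorAmplitudeIn_of_iso
      ((DBaseChange.valueIso (algebraMap R' R) Q (DBaseChange.adapted_of_flat Q c hQflat)) ≪≫
        DerivedCategory.Q.mapIso (RelPC8.sqIso R' R A' B P) ≪≫
        ((ModuleCat.restrictScalars.{u} (algebraMap R B)).mapDerivedCategoryFactors.app _).symm ≪≫
        (DRing.restrictD (algebraMap R B)).mapIso eP).symm ht
  exact DBaseChange.hasTorAmplitudeIn_of_iso
    ((F.mapDerivedCategoryFactors.app P).symm ≪≫ (DRing.restrictD (algebraMap R' A')).mapIso e)
    (DBaseChange.torAmp_of_lBaseChange (algebraMap R' R) hs hn (DRing.toD Q) a b h1)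

end Groth.Agent.S7076
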