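import Groth.Statements.S7077
import Groth.Agent.Lib.DMod.Amplitude

set_option autoImplicit false
universe u
attribute [local instance] HasDerivedCategory.standard
open CategoryTheory
open DRing

namespace Groth.Agent.S7077

/-- (1)⇔(2): let R be a commutative ring and K an object of D(R) whose cohomology modules vanish outside
degrees -1 and 0. Then H^{-1}(K) vanishes and H^0(K) is a projective R-module if and only if
Ext^1_R(K, M) = Hom_{D(R)}(K, M[1]) vanishes for every R-module M. -/
theorem result {R : Type u} [CommRing R] (K : Dual.D R)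
    (hK : ∀ i : ℤ, i ≠ -1 → i ≠ 0 → Subsingleton (Dual.HD R K i)) :
    (Subsingleton (Dual.HD R K (-1)) ∧ Module.Projective R (Dual.HD R K 0)) ↔
      ∀ (M : Type u) [AddCommGroup M] [Module R M], Subsingleton (K ⟶ (Dual.inD R M)⟦(1 : ℤ)⟧) := by
  have := (Groth.Agent.DMod.isLE_iff K 0).2 fun i hi => hK i (by omega) (by omega)
  constructor
  · rintro ⟨h1, h0⟩ M _ _
    have : K.IsGE 0 := (Groth.Agent.DMod.isGE_iff K 0).2 fun i hi => by
      by_cases h : i = -1
      · exact h ▸ h1
      · exact hK i h (by omega)
    obtain ⟨Y, ⟨e⟩⟩ := DerivedCategory.exists_iso_singleFunctor_obj_of_isGE_of_isLE K 0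
    have hY : Module.Projective R Y := Module.Projective.of_equiv
      ((DerivedCategory.homologyFunctor (ModuleCat.{u} R) 0).mapIso e ≪≫
        (DerivedCategory.singleFunctorCompHomologyFunctorIso (ModuleCat.{u} R) 0).app Y).toLinearEquiv
    let P : DRing.Cx R := (CochainComplex.singleFunctor (ModuleCat.{u} R) 0).obj Y
    have hP : DRing.VanishesOutside P 0 0 :=
      (Groth.Agent.DMod.vanishesOutside_iff P 0 0).2 ⟨inferInstance, inferInstance⟩
    have hproj : ∀ i, Module.Projective R (P.X i) := fun i => by
      by_cases hi : i = 0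
      · subst hi
        exact Module.Projective.of_equiv
          (HomologicalComplex.singleObjXSelf (ComplexShape.up ℤ) 0 Y).toLinearEquiv.symm
      · have := ModuleCat.subsingleton_of_isZero (hP i (by omega))
        exact @Groth.Agent.DMod.ModClass.subsingleton _ _ _ Groth.Agent.DMod.modClass_projective _ _ _ this
    have := ((Groth.Agent.DMod.vanishesOutside_iff P 0 0).1 hP).2
    have := Groth.Agent.DMod.isKProjective 0 hproj
    have := Groth.Agent.DMod.subsingleton_hom_single (P := P) (n := -1) (hP (-1) (by omega))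
      (ModuleCat.of R M)
    let e₁ : DRing.toD P ≅ K :=
      ((DerivedCategory.singleFunctorIsoCompQ (ModuleCat.{u} R) 0).app Y).symm ≪≫ e.symm
    let e₂ := Groth.Agent.DMod.singleShiftIso' (1 : ℤ) (ModuleCat.of R M)
    exact ⟨fun f g => (cancel_mono e₂.hom).1 ((cancel_epi e₁.hom).1 (Subsingleton.elim _ _))⟩
  · intro h
    obtain ⟨P, hP, hproj, ⟨e⟩⟩ := Groth.Agent.DMod.exists_projAmp (K := K) 0 0
      (fun i hi => hK i (by omega) (by omega)) (fun M => by
        have := h M
        let e₂ := Groth.Agent.DMod.singleShiftIso' (1 : ℤ) M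
        exact ⟨fun f g => (cancel_mono e₂.inv).1 (Subsingleton.elim _ _)⟩)
    obtain ⟨e'⟩ := Groth.Agent.DMod.exists_iso_single_X hP
    let e₁ := e'.symm ≪≫ e
    refine ⟨?_, ?_⟩
    · have : (DRing.toD P).IsGE 0 := Groth.Agent.DMod.isGE_toD hP
      have : K.IsGE 0 := (Groth.Agent.DMod.tS R).isGE_of_iso e 0
      exact (Groth.Agent.DMod.isGE_iff K 0).1 this (-1) (by omega)
    · have := hproj 0
      exact Module.Projective.of_equiv
        (((DerivedCategory.singleFunctorCompHomologyFunctorIso (ModuleCat.{u} R) 0).app (P.X 0)).symm ≪≫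
          (DerivedCategory.homologyFunctor (ModuleCat.{u} R) 0).mapIso e₁).toLinearEquiv

end Groth.Agent.S7077
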