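import Groth.Statements.S7079
import Groth.Agent.Lib.DMod.PCHomology
import Groth.Agent.Lib.DMod.TruncGE

set_option autoImplicit false
universe u
attribute [local instance] HasDerivedCategory.standard
open CategoryTheory
open DRing

namespace Groth.Agent.S7079

/-- For a Noetherian commutative ring R and an object K of D(R) whose cohomology modules vanish outside
degrees -1 and 0 and are finite modules in those two degrees, K is represented by a two-term complex
K^{-1} → K^0 with K^0 finite free and K^{-1} finite. -/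
theorem result {R : Type u} [CommRing R] [IsNoetherianRing R] (K : Dual.D R)
    (hK : ∀ i : ℤ, i ≠ -1 → i ≠ 0 → Subsingleton (Dual.HD R K i))
    (h1 : Module.Finite R (Dual.HD R K (-1))) (h0 : Module.Finite R (Dual.HD R K 0)) :
    ∃ E : DRing.Cx R, DRing.VanishesOutside E (-1) 0 ∧ Module.Free R (E.X 0) ∧ Module.Finite R (E.X 0) ∧
      Module.Finite R (E.X (-1)) ∧ Nonempty (DRing.toD E ≅ K) := by
  have := (Groth.Agent.DMod.isLE_iff K 0).2 fun i hi => hK i (by omega) (by omega)
  have hfin : ∀ i, Module.Finite R (Dual.HD R K i) := fun i => by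
    by_cases hi : i = -1
    · subst hi; exact h1
    by_cases hi' : i = 0
    · subst hi'; exact h0
    · have := hK i hi hi'; infer_instance
  obtain ⟨P, hP, hPf, ⟨e⟩⟩ := Groth.Agent.DMod.exists_finite_free_resolution hfin
  have := (Groth.Agent.DMod.vanishesAbove_iff P 0).1 hP
  have : K.IsGE (-1) := (Groth.Agent.DMod.isGE_iff K (-1)).2 fun i hi => hK i (by omega) (by omega)
  have : (DRing.toD P).IsGE (-1) := (Groth.Agent.DMod.tS R).isGE_of_iso e.symm (-1)
  obtain ⟨e'⟩ := Groth.Agent.DMod.exists_truncFrom_iso P (-1)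
  have := (hPf 0).1
  have := (hPf 0).2
  have := (hPf (-1)).1
  have E0 := Groth.Agent.DMod.truncFromXEquiv P (show (-1 : ℤ) < 0 by omega)
  exact ⟨_, Groth.Agent.DMod.vanishesOutside_truncFrom P (-1) 0, Module.Free.of_equiv E0,
    Module.Finite.equiv E0,
    Module.Finite.of_surjective ((Groth.Agent.DMod.truncFromπ P (-1)).f (-1)).hom
      (Groth.Agent.DMod.truncFromπ_surjective P (-1) (-1)), ⟨e' ≪≫ e⟩⟩

end Groth.Agent.S7079
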