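import Groth.Statements.S7085
-- import your own Groth.Agent.* helpers here

set_option autoImplicit false
universe u
open LocCoh

namespace Groth.Agent.S7085

/-- Let R be a commutative ring, I an ideal generated by finitely many elements f_1, …, f_t, and M an
R-module. Then: M has no nonzero element killed by I if and only if it has no nonzero element killed
by I^n for every n ≥ 1; and M has no nonzero element killed by I if and only if an element of M
vanishing in every localization M_{f_i} is zero. -/
theorem result {R : Type u} [CommRing R] {t : ℕ} (f : Fin t → R)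
    (I : Ideal R) (hI : Ideal.span (Set.range f) = I) (M : Type u) [AddCommGroup M] [Module R M] :
    (LocCoh.torsionBy I M = ⊥ ↔ ∀ n : ℕ, 1 ≤ n → LocCoh.torsionBy (I ^ n) M = ⊥) ∧
    (LocCoh.torsionBy I M = ⊥ ↔
      ∀ m : M, (∀ i : Fin t, LocalizedModule.mkLinearMap (Submonoid.powers (f i)) M m = 0) → m = 0) := by
  classical
  have hpow : LocCoh.torsionBy I M = ⊥ → ∀ n : ℕ, LocCoh.torsionBy (I ^ n) M = ⊥ := by
    intro h n
    induction n with
    | zero =>
      rw [eq_bot_iff]
      intro x hx
      rw [Submodule.mem_torsionBySet_iff] at hx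
      simpa using hx ⟨1, by simp⟩
    | succ n ih =>
      rw [eq_bot_iff]
      intro x hx
      rw [Submodule.mem_torsionBySet_iff] at hx
      rw [← ih, Submodule.mem_torsionBySet_iff]
      rintro ⟨r, hr⟩
      refine (Submodule.mem_bot R).1 (h.le ?_)
      rw [Submodule.mem_torsionBySet_iff]
      rintro ⟨a, ha⟩
      rw [smul_smul]
      exact hx ⟨a * r, by rw [pow_succ']; exact Ideal.mul_mem_mul ha hr⟩
  refine ⟨⟨fun h n _ => hpow h n, fun h => by simpa using h 1 le_rfl⟩, ⟨fun h m hm => ?_, fun h => ?_⟩⟩
  · have h' : ∀ i, ∃ N : ℕ, f i ^ N • m = 0 := by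
      intro i
      obtain ⟨⟨s, N, rfl⟩, hs⟩ := LocalizedModule.mk_eq.1 ((hm i).trans (LocalizedModule.zero_mk 1).symm)
      exact ⟨N, by simpa [Submonoid.smul_def] using hs⟩
    choose N hN using h'
    let J : Ideal R := LinearMap.ker (LinearMap.toSpanSingleton R M m)
    have hJ : I ≤ J.radical := by
      rw [← hI, Ideal.span_le]
      rintro _ ⟨i, rfl⟩
      exact ⟨N i, by simpa [J] using hN i⟩
    have hfg : I.FG := ⟨Finset.univ.image f, by simp [hI]⟩
    obtain ⟨n, hn⟩ := Ideal.exists_pow_le_of_le_radical_of_fg hJ hfg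
    refine (Submodule.mem_bot R).1 ((hpow h n).le ?_)
    rw [Submodule.mem_torsionBySet_iff]
    rintro ⟨r, hr⟩
    simpa [J] using hn hr
  · rw [eq_bot_iff]
    intro m hm
    rw [Submodule.mem_torsionBySet_iff] at hm
    refine (Submodule.mem_bot R).2 (h m fun i => ?_)
    have hi : f i • m = 0 := hm ⟨f i, hI ▸ Ideal.subset_span ⟨i, rfl⟩⟩
    exact (LocalizedModule.mk_eq.2 ⟨⟨f i, Submonoid.mem_powers _⟩, by simpa [Submonoid.smul_def] using hi⟩).trans
      (LocalizedModule.zero_mk 1)

end Groth.Agent.S7085
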