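import Groth.Statements.S7087
import Mathlib.LinearAlgebra.Finsupp.LinearCombination
import Mathlib.RingTheory.Ideal.Operations
import Mathlib.LinearAlgebra.StdBasis


set_option autoImplicit false
universe u
open LocCoh

namespace Groth.Agent.S7087

/-- Let R be a commutative ring and f_1, …, f_n elements generating an ideal I. Let M be the module with
generators e_1, …, e_n and relations f_i e_j = f_j e_i. Then e_i ↦ f_i defines a surjection M → I
whose kernel is annihilated by I. Elementwise: if a tuple (a_1, …, a_n) in R^n satisfies Σ a_i f_i =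
0, then for every b in I the tuple b • a lies in the submodule of R^n spanned by the vectors f_i e_j
− f_j e_i. -/
theorem result {R : Type u} [CommRing R] {n : ℕ} (f : Fin n → R)
    (a : Fin n → R) (ha : ∑ i, a i * f i = 0) (b : R) (hb : b ∈ Ideal.span (Set.range f)) :
    b • a ∈ Submodule.span R {v : Fin n → R | ∃ i j : Fin n, v = f i • Pi.single j (1 : R) - f j • Pi.single i (1 : R)} := by
  obtain ⟨c, rfl⟩ := (Submodule.mem_span_range_iff_exists_fun R).1 hb
  rw [Finset.sum_smul]
  refine Submodule.sum_mem _ fun k _ => ?_
  rw [smul_eq_mul, mul_smul]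
  refine Submodule.smul_mem _ _ ?_
  have h : f k • a = ∑ i, a i • (f k • Pi.single i (1 : R) - f i • Pi.single k (1 : R)) := by
    funext j
    simp [Finset.sum_apply, Pi.single_apply, smul_eq_mul, mul_sub, Finset.sum_sub_distrib]
    split_ifs <;> simp [ha] <;> exact mul_comm _ _
  rw [h]
  exact Submodule.sum_mem _ fun i _ => Submodule.smul_mem _ _ (Submodule.subset_span ⟨k, i, rfl⟩)

end Groth.Agent.S7087
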