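import Groth.Statements.S7088
import Groth.Agent.Lib.KFlat.EvalTen
import Groth.Agent.Lib.DMod.Basic
-- import your own Groth.Agent.* helpers here

set_option autoImplicit false
set_option backward.isDefEq.respectTransparency false
set_option backward.isDefEq.respectTransparency.types false
universe u
attribute [local instance] HasDerivedCategory.standard
open CategoryTheory MonoidalCategory
open DRing

namespace Groth.Agent.S7088

open Groth.Agent Groth.Agent.KFlat Groth.Agent.KFlat.HomAdj in
/-- Precomposition on Hom complexes. -/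
noncomputable def pre {R : Type u} [CommRing R] {P E : DRing.Cx R} (s : E ⟶ P) (K : DRing.Cx R) :
    DRing.homCx P K ⟶ DRing.homCx E K :=
  (adj E).homEquiv _ _ (DRing.homCx P K ◁ s ≫ ev P K)

open Groth.Agent Groth.Agent.KFlat Groth.Agent.KFlat.HomAdj in
theorem pre_comp {R : Type u} [CommRing R] {P E : DRing.Cx R} (s : E ⟶ P) (t : P ⟶ E) (K : DRing.Cx R) :
    pre s K ≫ pre t K = pre (t ≫ s) K := by
  refine ((adj P).homEquiv _ _).symm.injective ?_
  have h1 : pre s K ▷ E ≫ ev E K = DRing.homCx P K ◁ s ≫ ev P K :=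
    ((adj E).homEquiv_counit _ _ _).symm.trans (((adj E).homEquiv _ _).symm_apply_apply _)
  rw [Adjunction.homEquiv_naturality_left_symm]
  refine Eq.trans ?_ (((adj P).homEquiv _ _).symm_apply_apply _).symm
  refine (congrArg (pre s K ▷ P ≫ ·) (((adj P).homEquiv _ _).symm_apply_apply _)).trans ?_
  rw [← whisker_exchange_assoc, h1, MonoidalCategory.whiskerLeft_comp, Category.assoc]

open Groth.Agent Groth.Agent.KFlat Groth.Agent.KFlat.HomAdj in
theorem pre_id {R : Type u} [CommRing R] (P K : DRing.Cx R) : pre (𝟙 P) K = 𝟙 _ := by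
  refine ((adj P).homEquiv _ _).symm.injective ?_
  refine (((adj P).homEquiv _ _).symm_apply_apply _).trans ?_
  refine ((congrArg (· ≫ ev P K) (MonoidalCategory.whiskerLeft_id _ _)).trans (Category.id_comp _)).trans ?_
  refine Eq.trans ?_ ((adj P).homEquiv_counit _ _ _).symm
  exact (Category.id_comp _).symm.trans (congrArg (· ≫ ev P K) (id_whiskerRight _ _).symm)

open Groth.Agent Groth.Agent.KFlat Groth.Agent.KFlat.HomAdj in
theorem pre_homotopy {R : Type u} [CommRing R] {P E : DRing.Cx R} {s s' : E ⟶ P} (h : Homotopy s s')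
    (K : DRing.Cx R) : Nonempty (Homotopy (pre s K) (pre s' K)) := by
  obtain ⟨H⟩ := (splitPres_left (Module.TM R) (DRing.homCx P K)).homotopy h
  obtain ⟨H'⟩ := (HomD.splitPres_homCx E).homotopy (H.compRight (ev P K))
  exact ⟨(Homotopy.ofEq ((adj E).homEquiv_unit _ _ _)).trans ((H'.compLeft _).trans
    (Homotopy.ofEq ((adj E).homEquiv_unit _ _ _).symm))⟩


/-- Let R be a commutative ring, P a bounded above cochain complex of projective R-modules whose image
in D(R) is perfect, and K a K-flat complex of R-modules (tensoring with K carries acyclic complexes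
to acyclic complexes). Then the Hom complex Hom•(P, K) is again K-flat. -/
theorem result {R : Type u} [CommRing R] (P K : DRing.Cx R) (b : ℤ)
    (hPb : DRing.VanishesAbove P b) (hPp : ∀ i : ℤ, Module.Projective R (P.X i))
    (hperf : DRing.IsPerfect R (DRing.toD P))
    (hK : ∀ L : DRing.Cx R, (∀ i : ℤ, Limits.IsZero (L.homology i)) →
      ∀ i : ℤ, Limits.IsZero (((tensorRight K).obj L).homology i)) :
    ∀ L : DRing.Cx R, (∀ i : ℤ, Limits.IsZero (L.homology i)) →
      ∀ i : ℤ, Limits.IsZero (((tensorRight (DRing.homCx P K)).obj L).homology i) := by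
  intro L hL i
  have : P.IsStrictlyLE b := (CochainComplex.isStrictlyLE_iff P b).2 hPb
  have hP' : P.IsKProjective := Groth.Agent.DMod.isKProjective b hPp
  obtain ⟨E, a, c, hb, hE, ⟨e⟩⟩ := hperf
  have : E.IsStrictlyLE c := (CochainComplex.isStrictlyLE_iff E c).2 fun i hi => hb i (Or.inr hi)
  have hPE : E.IsKProjective := Groth.Agent.DMod.isKProjective c fun i => (hE i).2
  obtain ⟨s, hs⟩ := Groth.Agent.DMod.exists_map_eq (P := E) (L := P) e.hom
  obtain ⟨t, ht⟩ := Groth.Agent.DMod.exists_map_eq (P := P) (L := E) e.inv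
  have hts : DerivedCategory.Q.map (t ≫ s) = DerivedCategory.Q.map (𝟙 P) := by
    rw [Functor.map_comp, hs, ht, CategoryTheory.Functor.map_id]
    exact e.inv_hom_id
  obtain ⟨H₀⟩ := (Groth.Agent.DMod.map_eq_zero_iff (t ≫ s - 𝟙 P)).1 (by rw [Functor.map_sub, hts, sub_self])
  let H : Homotopy (t ≫ s) (𝟙 P) := Homotopy.equivSubZero.symm H₀
  obtain ⟨H₁⟩ := pre_homotopy H K
  obtain ⟨H₂⟩ := (Groth.Agent.KFlat.splitPres_left (Groth.Agent.KFlat.Module.TM R) L).homotopy
    ((Homotopy.ofEq (pre_comp s t K)).trans (H₁.trans (Homotopy.ofEq (pre_id P K))))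
  have hz : Limits.IsZero ((L ⊗ DRing.homCx E K : DRing.Cx R).homology i) := by
    have := Groth.Agent.KFlat.HomAdj.isIso_θ_right E hb hE L K
    have hLK : (L ⊗ K : DRing.Cx R).Acyclic := fun j =>
      (HomologicalComplex.exactAt_iff_isZero_homology _ j).2 (hK L hL j)
    exact ((HomologicalComplex.exactAt_iff_isZero_homology _ i).1
      (Groth.Agent.KFlat.HomD.acyclic_homCx E hLK i)).of_iso
        ((HomologicalComplex.homologyFunctor _ _ i).mapIso (asIso (Groth.Agent.KFlat.HomAdj.θ L E K)))
  rw [Limits.IsZero.iff_id_eq_zero]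
  refine Eq.trans ?_ ((congrArg (HomologicalComplex.homologyMap (L ◁ pre s K) i ≫ ·)
    (hz.eq_zero_of_src (HomologicalComplex.homologyMap (L ◁ pre t K) i))).trans Limits.comp_zero)
  rw [← HomologicalComplex.homologyMap_comp, ← MonoidalCategory.whiskerLeft_comp]
  exact ((H₂.homologyMap_eq i).trans (by
    rw [CategoryTheory.Functor.map_id]; exact HomologicalComplex.homologyMap_id _ i)).symm

end Groth.Agent.S7088
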