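import Groth.Statements.S7089
import Groth.Agent.Lib.LocCoh.TorsionRes27
-- import your own Groth.Agent.* helpers here

set_option autoImplicit false
universe u
open CategoryTheory
open LocCoh

namespace Groth.Agent.S7089

/-- Let R be a commutative ring, I an ideal and M an R-module in which every element is killed by a
power of I. Then M has a left resolution by modules each of which is a direct sum of copies of R/I^n
for varying n: there are a chain complex K of R-modules, a quasi-isomorphism from K to M placed in
degree 0, and for each i an isomorphism of K_i with such a direct sum. -/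
theorem result {R : Type u} [CommRing R] (I : Ideal R)
    (M : Type u) [AddCommGroup M] [Module R M] (hM : LocCoh.IsPowerTorsion I M) :
    ∃ (K : ChainComplex (ModuleCat.{u} R) ℕ) (π : K ⟶ (ChainComplex.single₀ (ModuleCat.{u} R)).obj (ModuleCat.of R M)),
      QuasiIso π ∧ ∀ i : ℕ, ∃ (ι : Type u) (n : ι → ℕ),
        Nonempty (K.X i ≅ ModuleCat.of R (DirectSum ι fun j => R ⧸ I ^ n j)) := by
  exact LocCohLib.TorsRes.exists_resolution M hM

end Groth.Agent.S7089
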