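import Groth.Statements.S7090
import Groth.Agent.Lib.FormalGlueH7.Basic
import Groth.Agent.Lib.GlueH7.Glueable
import Mathlib.LinearAlgebra.TensorProduct.Pi
import Mathlib.RingTheory.Ideal.Operations

set_option autoImplicit false
universe u
open TensorProduct
open EtAlg

namespace Groth.Agent.S7090

theorem key {R S : Type u} [CommRing R] [CommRing S] [Algebra R S] [Module.Flat R S] {t : ℕ} {f : Fin t → R}
    {I : Ideal R} (hq : Groth.Agent.FormalGlueH7.QBij S I)
    (htor : ∀ {X : Type u} [AddCommGroup X] [Module R X] (v : X) (d : ℕ),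
      (∀ i, f i ^ d • v = 0) → ∃ n, ∀ a ∈ I ^ n, a • v = 0)
    {M V : Type u} [AddCommGroup M] [Module R M] [AddCommGroup V] [Module R V]
    (g : M →ₗ[R] V) (fs : V →ₗ[R] S ⊗[R] M) (hfg : ∀ μ, fs (g μ) = (1 : S) ⊗ₜ[R] μ)
    (hv : ∀ (d : ℕ) (v : V), (∀ k, f k ^ d • v = 0) → fs v = 0 → v = 0)
    (v₀ : V) (hw₀ : ∀ k, ∃ (d : ℕ) (μ : M), f k ^ d • v₀ = g μ) : ∃ μ, g μ = v₀ := by
  classical
  let W : Submodule R V :=
    { carrier := {w | ∀ k, ∃ (d : ℕ) (μ : M), f k ^ d • w = g μ}
      zero_mem' := fun k => ⟨0, 0, by simp⟩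
      add_mem' := fun {a b} ha hb k => by
        obtain ⟨d, μ, h⟩ := ha k
        obtain ⟨d', μ', h'⟩ := hb k
        exact ⟨d + d', f k ^ d' • μ + f k ^ d • μ', by
          rw [map_add, map_smul, map_smul, ← h, ← h', smul_smul, smul_smul, ← pow_add, ← pow_add,
            add_comm d' d, smul_add]⟩
      smul_mem' := fun c a ha k => by
        obtain ⟨d, μ, h⟩ := ha k
        exact ⟨d, c • μ, by rw [map_smul, ← h, smul_comm]⟩ }
  let gW : M →ₗ[R] W := g.codRestrict W fun μ k => ⟨0, μ, by simp⟩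
  let w : W := ⟨v₀, hw₀⟩
  let x := fs v₀
  let u : S ⊗[R] W := (1 : S) ⊗ₜ[R] w - gW.lTensor S x
  let r := LinearMap.liftBaseChange S (fs.comp W.subtype)
  have hru : r u = 0 := by
    have hr : ∀ z, r (gW.lTensor S z) = z := by
      intro z
      induction z using TensorProduct.induction_on with
      | zero => simp
      | tmul s l => simp [r, gW, hfg, TensorProduct.smul_tmul']
      | add a b ha hb => simp only [map_add, ha, hb]
    show r (_ - _) = 0
    rw [map_sub, hr]
    simp [r, x, w]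
  have hu : ∀ k, ∃ d, f k ^ d • u = 0 := fun k => by
    obtain ⟨d, μ, hμ⟩ := hw₀ k
    have hw : f k ^ d • w = gW μ := Subtype.ext hμ
    have hxμ : f k ^ d • x = (1 : S) ⊗ₜ[R] μ := by rw [← hfg, ← hμ, map_smul]
    refine ⟨d, ?_⟩
    show f k ^ d • (_ - _) = 0
    rw [smul_sub, ← TensorProduct.tmul_smul, hw, ← map_smul, hxμ, LinearMap.lTensor_tmul, sub_self]
  choose du hdu using hu
  let F : W →ₗ[R] (Fin t → W) := LinearMap.pi fun k => f k ^ Finset.univ.sup du • LinearMap.id
  have hFu : F.lTensor S u = 0 := by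
    apply (TensorProduct.piRight R R S (fun _ : Fin t => ↥W)).injective
    rw [map_zero]
    funext k
    have key : ∀ z, TensorProduct.piRight R R S (fun _ : Fin t => ↥W) (F.lTensor S z) k =
        f k ^ Finset.univ.sup du • z := by
      intro z
      induction z using TensorProduct.induction_on with
      | zero => simp
      | tmul s l => simp [F, TensorProduct.piRight_apply, TensorProduct.tmul_smul]
      | add a b ha hb => simp only [map_add, Pi.add_apply, ha, hb, smul_add]
    rw [key, Pi.zero_apply]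
    obtain ⟨c, hc⟩ := Nat.exists_eq_add_of_le (Finset.le_sup (f := du) (Finset.mem_univ k))
    rw [hc, add_comm, pow_add, mul_smul, hdu, smul_zero]
  obtain ⟨z, hz⟩ := (Module.Flat.lTensor_exact S (LinearMap.exact_subtype_ker_map F) u).1 hFu
  obtain ⟨s, rfl⟩ := Groth.Agent.FormalGlueH7.mk_surjective_of_torsion hq
    (fun k : LinearMap.ker F => htor k (Finset.univ.sup du) fun i => Subtype.ext (congrFun k.2 i)) z
  have hs1 : fs ((s : W) : V) = 0 := by
    have := congrArg r hz
    rw [hru] at this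
    simpa [r] using this
  have hu0 : u = 0 := by
    rw [← hz, show s = 0 from Subtype.ext (Subtype.ext (hv (Finset.univ.sup du) _
      (fun k => congrArg Subtype.val (congrFun s.2 k)) hs1)), map_zero, map_zero]
  let G := LinearMap.range gW
  have h0 : (1 : S) ⊗ₜ[R] G.mkQ w = 0 := by
    have hcomp : G.mkQ.comp gW = 0 := (LinearMap.exact_map_mkQ_range gW).linearMap_comp_eq_zero
    have h1 : G.mkQ.lTensor S u = (1 : S) ⊗ₜ[R] G.mkQ w := by
      show G.mkQ.lTensor S (_ - _) = _
      rw [map_sub, ← LinearMap.comp_apply _ (gW.lTensor S), ← LinearMap.lTensor_comp, hcomp,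
        LinearMap.lTensor_zero, LinearMap.zero_apply, LinearMap.lTensor_tmul, sub_zero]
    rw [← h1, hu0, map_zero]
  choose dw μw hdw using id hw₀
  obtain ⟨n, hn⟩ := htor (G.mkQ w) (Finset.univ.sup dw) fun i => by
    obtain ⟨c, hc⟩ := Nat.exists_eq_add_of_le (Finset.le_sup (f := dw) (Finset.mem_univ i))
    rw [hc, add_comm, pow_add, mul_smul, ← map_smul G.mkQ (f i ^ dw i),
      show f i ^ dw i • w = gW (μw i) from Subtype.ext (hdw i),
      show G.mkQ (gW (μw i)) = 0 from (Submodule.Quotient.mk_eq_zero _).2 ⟨μw i, rfl⟩, smul_zero]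
  obtain ⟨μ, hμ⟩ := (Submodule.Quotient.mk_eq_zero G).1 (Groth.Agent.FormalGlueH7.eq_zero_of_torsion hq hn h0)
  exact ⟨μ, congrArg Subtype.val hμ⟩


/-- Let R → S be a flat homomorphism of commutative rings and I = (f_1, …, f_t) a finitely generated
ideal such that R/I → S/IS is bijective. Then for every R-module M the glueing complex 0 → M → (S
⊗_R M) × ∏ M_{f_i} → ∏ (S ⊗_R M)_{f_i} × ∏ M_{f_i f_j} is exact. Concretely: an element of M with
zero image in S ⊗_R M and in every M_{f_i} is zero; and given x in S ⊗_R M and elements m_1, …, m_t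
of M and N ≥ 0 such that x and m_i / f_i^N have the same image in (S ⊗_R M)_{f_i} for each i, and
m_i / f_i^N, m_j / f_j^N have the same image in M_{f_i f_j} for all i, j, there is m in M with 1 ⊗ m
= x and m / 1 = m_i / f_i^N in M_{f_i} for every i. -/
theorem result {R S : Type u} [CommRing R] [CommRing S] [Algebra R S] [Module.Flat R S]
    {t : ℕ} (f : Fin t → R) (I : Ideal R) (hI : Ideal.span (Set.range f) = I)
    (hq : Function.Bijective
      (Ideal.quotientMap (Ideal.map (algebraMap R S) I) (algebraMap R S) Ideal.le_comap_map))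
    (M : Type u) [AddCommGroup M] [Module R M] :
    (∀ m : M, (1 : S) ⊗ₜ[R] m = 0 →
        (∀ i : Fin t, LocalizedModule.mkLinearMap (Submonoid.powers (f i)) M m = 0) → m = 0) ∧
    ∀ (x : S ⊗[R] M) (N : ℕ) (m : Fin t → M),
      (∀ i : Fin t, EtGlue.locOfTensor R S (f i) M x =
          EtGlue.tensorOfLoc R S (f i) M (LocalizedModule.mk (m i) ⟨f i ^ N, Submonoid.pow_mem _ (Submonoid.mem_powers (f i)) N⟩)) →
      (∀ i j : Fin t, ∃ e : ℕ, (f i * f j) ^ e • (f j ^ N • m i - f i ^ N • m j) = 0) →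
        ∃ μ : M, (1 : S) ⊗ₜ[R] μ = x ∧
          ∀ i : Fin t, LocalizedModule.mkLinearMap (Submonoid.powers (f i)) M μ =
            LocalizedModule.mk (m i) ⟨f i ^ N, Submonoid.pow_mem _ (Submonoid.mem_powers (f i)) N⟩ := by
  classical
  have hfg : I.FG := ⟨Finset.univ.image f, by rw [Finset.coe_image, Finset.coe_univ, Set.image_univ]; exact hI⟩
  have hpow : ∀ d : ℕ, ∃ n, I ^ n ≤ Ideal.span (Set.range fun i => f i ^ d) := fun d => by
    refine Ideal.exists_pow_le_of_le_radical_of_fg ?_ hfg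
    rw [← hI, Ideal.span_le]
    rintro _ ⟨i, rfl⟩
    exact ⟨d, Ideal.subset_span ⟨i, rfl⟩⟩
  have htor : ∀ {X : Type u} [AddCommGroup X] [Module R X] (v : X) (d : ℕ),
      (∀ i, f i ^ d • v = 0) → ∃ n, ∀ a ∈ I ^ n, a • v = 0 := by
    intro X _ _ v d hv
    obtain ⟨n, hn⟩ := hpow d
    refine ⟨n, fun a ha => ?_⟩
    have hle : Ideal.span (Set.range fun i => f i ^ d) ≤ LinearMap.ker (LinearMap.toSpanSingleton R X v) := by
      rw [Ideal.span_le]
      rintro _ ⟨i, rfl⟩
      exact hv i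
    exact hle (hn ha)
  constructor
  · intro m hm hloc
    choose d hd using fun i => Groth.Agent.GlueH7.mk_eq_zero_iff.1 (hloc i)
    obtain ⟨n, hn⟩ := htor m (Finset.univ.sup d) fun i => by
      obtain ⟨c, hc⟩ := Nat.exists_eq_add_of_le (Finset.le_sup (f := d) (Finset.mem_univ i))
      rw [hc, add_comm, pow_add, mul_smul, hd, smul_zero]
    exact Groth.Agent.FormalGlueH7.eq_zero_of_torsion hq hn hm
  intro x N m hx hm
  let g : M →ₗ[R] (S ⊗[R] M) × (∀ i, LocalizedModule (Submonoid.powers (f i)) M) :=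
    (TensorProduct.mk R S M 1).prod (LinearMap.pi fun i => LocalizedModule.mkLinearMap (Submonoid.powers (f i)) M)
  let y : ∀ i, LocalizedModule (Submonoid.powers (f i)) M := fun i =>
    LocalizedModule.mk (m i) ⟨f i ^ N, Submonoid.pow_mem _ (Submonoid.mem_powers (f i)) N⟩
  have hy : ∀ i, f i ^ N • y i = LocalizedModule.mkLinearMap (Submonoid.powers (f i)) M (m i) := fun i => by
    rw [LocalizedModule.mkLinearMap_apply, LocalizedModule.smul'_mk]
    exact LocalizedModule.mk_cancel (⟨f i ^ N, Submonoid.pow_mem _ (Submonoid.mem_powers (f i)) N⟩ : Submonoid.powers (f i)) (m i)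
  have hwW : ∀ k, ∃ (d : ℕ) (μ : M), f k ^ d • (x, y) = g μ := by
    intro k
    have h1 : EtGlue.locOfTensor R S (f k) M (f k ^ N • x) = EtGlue.locOfTensor R S (f k) M ((1 : S) ⊗ₜ[R] m k) := by
      rw [map_smul, hx k, ← map_smul, ← Groth.Agent.GlueH7.tensorOfLoc_mk, ← hy k]
    obtain ⟨c, hc⟩ := Groth.Agent.GlueH7.mk_eq_iff.1 h1
    choose e he using fun i => hm i k
    refine ⟨Finset.univ.sup e + c + N, f k ^ (Finset.univ.sup e + c) • m k, Prod.ext ?_ (funext fun i => ?_)⟩
    · show f k ^ (Finset.univ.sup e + c + N) • x = (1 : S) ⊗ₜ[R] (f k ^ (Finset.univ.sup e + c) • m k)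
      rw [TensorProduct.tmul_smul, pow_add _ (_ + c), mul_smul, pow_add, mul_smul, mul_smul, hc]
    · show f k ^ (Finset.univ.sup e + c + N) • y i =
        LocalizedModule.mkLinearMap (Submonoid.powers (f i)) M (f k ^ (Finset.univ.sup e + c) • m k)
      apply Groth.Agent.GlueH7.eq_of_pow_smul_eq (n := N)
      rw [smul_smul, mul_comm, mul_smul, hy, ← map_smul, ← map_smul, Groth.Agent.GlueH7.mk_eq_iff]
      refine ⟨e i, ?_⟩
      obtain ⟨r, hr⟩ := Nat.exists_eq_add_of_le
        ((Finset.le_sup (f := e) (Finset.mem_univ i)).trans (Nat.le_add_right _ c))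
      have := congrArg (fun z => f k ^ r • z) (he i)
      simp only [smul_sub, smul_zero, sub_eq_zero, smul_smul] at this
      simp only [smul_smul]
      rw [hr]
      convert this using 2 <;> ring
  have hv : ∀ (d : ℕ) (v : (S ⊗[R] M) × (∀ i, LocalizedModule (Submonoid.powers (f i)) M)),
      (∀ k, f k ^ d • v = 0) → v.1 = 0 → v = 0 := fun d v hk h1 =>
    Prod.ext h1 (funext fun i => Groth.Agent.GlueH7.eq_of_pow_smul_eq (n := d) (by
      rw [Prod.snd_zero, Pi.zero_apply, smul_zero]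
      exact congrFun (congrArg Prod.snd (hk i)) i))
  obtain ⟨μ, hμ⟩ := key hq htor (f := f) g (LinearMap.fst R _ _) (fun μ => rfl) hv (x, y) hwW
  exact ⟨μ, congrArg Prod.fst hμ, fun i => congrFun (congrArg Prod.snd hμ) i⟩

end Groth.Agent.S7090
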