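import Groth.Statements.S7091
import Groth.Agent.Lib.DCpl.CplTriangle
-- import your own Groth.Agent.* helpers here

set_option autoImplicit false
universe u
attribute [local instance] HasDerivedCategory.standard
open CategoryTheory
open DRing

namespace Groth.Agent.S7091

/-- Let A be a commutative ring, I a finitely generated ideal, and assume the derived completion functor
(left adjoint to the inclusion of derived complete objects) exists. If a morphism K → L in D(A)
induces isomorphisms on cohomology in degrees ≥ 1 and a surjection in degree 0, then so does the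
induced morphism between the derived completions. -/
theorem result {A : Type u} [CommRing A] (I : Ideal A) (hI : I.FG)
    [DRing.HasDerivedCompletion I] {K L : Dual.D A} (φ : K ⟶ L)
    (hiso : ∀ i : ℤ, 1 ≤ i → IsIso ((DerivedCategory.homologyFunctor (ModuleCat.{u} A) i).map φ))
    (hepi : Epi ((DerivedCategory.homologyFunctor (ModuleCat.{u} A) 0).map φ)) :
    (∀ i : ℤ, 1 ≤ i → IsIso ((DerivedCategory.homologyFunctor (ModuleCat.{u} A) i).map
        ((DRing.derivedCompletion I).map φ).hom)) ∧
      Epi ((DerivedCategory.homologyFunctor (ModuleCat.{u} A) 0).map ((DRing.derivedCompletion I).map φ).hom) := by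
  obtain ⟨s, hs⟩ := Groth.Agent.DCpl.exists_list I hI
  obtain ⟨Z, W, g, h, g', h', hT, hT', hv⟩ := Groth.Agent.DCpl.exists_cone_cpl I s hs φ
  have hZ : Z.IsLE (0 - 1) := (Groth.Agent.DMod.cone_isLE_iff _ hT 0).2 ⟨fun i hi => hiso i (by omega), hepi⟩
  have hW : W.IsLE (0 - 1) := (Groth.Agent.DMod.isLE_iff _ _).2 fun i hi =>
    hv i fun j hj _ => (Groth.Agent.DMod.isLE_iff Z _).1 hZ j (by omega)
  have := (Groth.Agent.DMod.cone_isLE_iff _ hT' 0).1 hW
  exact ⟨fun i hi => this.1 i (by omega), this.2⟩

end Groth.Agent.S7091
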