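import Groth.Statements.S7092
import Groth.Agent.Lib.DCpl.CplTriangle
-- import your own Groth.Agent.* helpers here

set_option autoImplicit false
universe u
attribute [local instance] HasDerivedCategory.standard
open CategoryTheory
open DRing

namespace Groth.Agent.S7092

/-- Let A be a commutative ring, I an ideal generated by a finite set of r elements, and assume the
derived completion functor exists. If a morphism K → L in D(A) induces isomorphisms on cohomology in
degrees ≤ -1 and an injection in degree 0, then the induced morphism of derived completions induces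
isomorphisms on cohomology in degrees ≤ -r-1 and an injection in degree -r. -/
theorem result {A : Type u} [CommRing A] (I : Ideal A) (s : Finset A)
    (hs : Ideal.span (s : Set A) = I) [DRing.HasDerivedCompletion I] {K L : Dual.D A} (φ : K ⟶ L)
    (hiso : ∀ i : ℤ, i ≤ -1 → IsIso ((DerivedCategory.homologyFunctor (ModuleCat.{u} A) i).map φ))
    (hmono : Mono ((DerivedCategory.homologyFunctor (ModuleCat.{u} A) 0).map φ)) :
    (∀ i : ℤ, i ≤ -(s.card : ℤ) - 1 → IsIso ((DerivedCategory.homologyFunctor (ModuleCat.{u} A) i).map
        ((DRing.derivedCompletion I).map φ).hom)) ∧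
      Mono ((DerivedCategory.homologyFunctor (ModuleCat.{u} A) (-(s.card : ℤ))).map
        ((DRing.derivedCompletion I).map φ).hom) := by
  have hs' : Ideal.span {f | f ∈ s.toList} = I := by
    rw [← hs, show {f | f ∈ s.toList} = (s : Set A) by ext; simp]
  obtain ⟨Z, W, g, h, g', h', hT, hT', hv⟩ := Groth.Agent.DCpl.exists_cone_cpl I s.toList hs' φ
  open CategoryTheory.Pretriangulated DerivedCategory.HomologySequence in
  have hZ : ∀ j : ℤ, j ≤ -1 → Subsingleton (Dual.HD A Z j) := by
    intro j hj
    have hg : (DerivedCategory.homologyFunctor (ModuleCat.{u} A) j).map g = 0 :=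
      (epi_homologyMap_mor₁_iff _ hT j).1 (have := hiso j hj; inferInstanceAs (Epi ((DerivedCategory.homologyFunctor (ModuleCat.{u} A) j).map φ)))
    have hd : δ (Triangle.mk φ g h) j (j + 1) rfl = 0 := by
      refine (mono_homologyMap_mor₁_iff _ hT j (j + 1) rfl).1 ?_
      rcases eq_or_lt_of_le hj with rfl | hlt
      · exact hmono
      · have := hiso (j + 1) (by omega)
        exact inferInstanceAs (Mono ((DerivedCategory.homologyFunctor (ModuleCat.{u} A) (j + 1)).map φ))
    exact ModuleCat.subsingleton_of_isZero ((exact₃ _ hT j (j + 1) rfl).isZero_of_both_zeros hg hd)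
  have hW : ∀ i : ℤ, i ≤ -(s.card : ℤ) - 1 → Limits.IsZero ((DerivedCategory.homologyFunctor (ModuleCat.{u} A) i).obj W) := fun i hi =>
    have := hv i fun j _ h₂ => hZ j (by rw [Finset.length_toList] at h₂; omega)
    (Groth.Agent.DMod.isZero_iff_subsingleton _).2 this
  open CategoryTheory.Pretriangulated DerivedCategory.HomologySequence in
  have hm : ∀ i : ℤ, i ≤ -(s.card : ℤ) →
      Mono ((DerivedCategory.homologyFunctor (ModuleCat.{u} A) i).map ((DRing.derivedCompletion I).map φ).hom) :=
    fun i hi => (mono_homologyMap_mor₁_iff _ hT' (i - 1) i (by omega)).2 ((hW (i - 1) (by omega)).eq_of_src _ _)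
  open CategoryTheory.Pretriangulated DerivedCategory.HomologySequence in
  refine ⟨fun i hi => ?_, hm _ le_rfl⟩
  have := hm i (by omega)
  have : Epi ((DerivedCategory.homologyFunctor (ModuleCat.{u} A) i).map ((DRing.derivedCompletion I).map φ).hom) :=
    (DerivedCategory.HomologySequence.epi_homologyMap_mor₁_iff _ hT' i).2 ((hW i hi).eq_of_tgt _ _)
  exact isIso_of_mono_of_epi _

end Groth.Agent.S7092
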