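import Groth.Statements.S7093
import Groth.Agent.Lib.DBaseChange.TorTri
import Groth.Agent.S7017
import Groth.Agent.S6937
-- import your own Groth.Agent.* helpers here

set_option autoImplicit false
universe u
attribute [local instance] HasDerivedCategory.standard
open CategoryTheory CategoryTheory.Limits
open Dual2

set_option backward.isDefEq.respectTransparency.types false
open CategoryTheory CategoryTheory.Limits CategoryTheory.Pretriangulated
attribute [local instance] HasDerivedCategory.standard

namespace Groth.Agent.S7093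

/-- For a flat homomorphism of finite presentation R → A of commutative rings, the R-perfect objects of
D(A) (pseudo-coherent over A, finite tor dimension over R) form a strictly full, saturated
triangulated subcategory: the property is a triangulated object property (contains zero, stable
under shifts and under extensions in distinguished triangles), is closed under isomorphisms, and
passes to direct summands. -/
theorem result (R A : Type u) [CommRing R] [CommRing A] [Algebra R A]
    [Module.Flat R A] [Algebra.FinitePresentation R A] :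
    ObjectProperty.IsTriangulated (C := Dual.D A) (fun K => Dual2.IsRelPerfect R A K) ∧
      ObjectProperty.IsClosedUnderIsomorphisms (C := Dual.D A) (fun K => Dual2.IsRelPerfect R A K) ∧
      ∀ X Y : Dual.D A, Dual2.IsRelPerfect R A (X ⊞ Y) → Dual2.IsRelPerfect R A X ∧ Dual2.IsRelPerfect R A Y := by
  let F := DRing.restrictD (algebraMap R A)
  have hiso : ∀ {K L : Dual.D A}, (K ≅ L) → Dual2.IsRelPerfect R A K → Dual2.IsRelPerfect R A L := by
    rintro K L e ⟨hp, a, b, ht⟩
    exact ⟨DMod.pc'_of_iso e hp, a, b, DBaseChange.hasTorAmplitudeIn_of_iso (F.mapIso e) ht⟩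
  haveI : ObjectProperty.IsClosedUnderIsomorphisms (C := Dual.D A) (fun K => Dual2.IsRelPerfect R A K) :=
    ⟨fun e h => hiso e h⟩
  haveI : ObjectProperty.ContainsZero (C := Dual.D A) (fun K => Dual2.IsRelPerfect R A K) := by
    obtain ⟨Z, hZ⟩ := HasZeroObject.zero (C := Dual.D A)
    exact ⟨⟨Z, hZ, DMod.pc'_of_perfect (DBaseChange.isPerfect_of_isZero hZ), 0, 0,
      DBaseChange.hasTorAmplitudeIn_of_isZero (F.map_isZero hZ) 0 0⟩⟩
  haveI : ObjectProperty.IsStableUnderShift (fun K : Dual.D A => Dual2.IsRelPerfect R A K) ℤ := by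
    refine ⟨fun n => ⟨fun K ⟨⟨E, b', hv, hE, ⟨f⟩⟩, a, b, ht⟩ => ⟨⟨(shiftFunctor (DRing.Cx A) n).obj E,
      b' - n, fun i hi => hv (i + n) (by omega), fun i => hE (i + n),
      ⟨DMod.toDShiftIso E n ≪≫ (shiftFunctor (Dual.D A) n).mapIso f⟩⟩, a - n, b - n, ?_⟩⟩⟩
    exact DBaseChange.hasTorAmplitudeIn_of_iso ((F.commShiftIso n).app K).symm
      (DBaseChange.hasTorAmplitudeIn_shift n (a - n) (b - n) (by omega) (by omega) ht)
  haveI : ObjectProperty.IsTriangulatedClosed₂ (C := Dual.D A) (fun K => Dual2.IsRelPerfect R A K) := by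
    refine ObjectProperty.IsTriangulatedClosed₂.mk' fun T hT h₁ h₃ => ?_
    obtain ⟨p₁, a₁, b₁, t₁⟩ := h₁
    obtain ⟨p₃, a₃, b₃, t₃⟩ := h₃
    exact ⟨(Groth.Agent.S7017.result A T hT).2.1 p₁ p₃, min a₁ a₃, max b₁ b₃,
      DBaseChange.torAmp_triangle₂ _ _ (F.mapTriangle.obj T) (F.map_distinguished T hT)
        (DBaseChange.hasTorAmplitudeIn_mono (min_le_left _ _) (le_max_left _ _) t₁)
        (DBaseChange.hasTorAmplitudeIn_mono (min_le_right _ _) (le_max_right _ _) t₃)⟩
  refine ⟨{}, inferInstance, fun X Y ⟨hp, a, b, ht⟩ => ?_⟩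
  obtain ⟨pX, pY⟩ := (Groth.Agent.S6937.result A 0 X Y).2 hp
  refine ⟨⟨pX, a, b, ?_⟩, ⟨pY, a, b, ?_⟩⟩
  · exact DBaseChange.torAmp_retract (F.map biprod.inl) (F.map biprod.fst)
      (by rw [← F.map_comp, biprod.inl_fst, F.map_id]) a b ht
  · exact DBaseChange.torAmp_retract (F.map biprod.inr) (F.map biprod.snd)
      (by rw [← F.map_comp, biprod.inr_snd, F.map_id]) a b ht

end Groth.Agent.S7093
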