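import Groth.Statements.S7094
import Groth.Agent.Lib.RelPerfFib5.Main

set_option autoImplicit false
universe u
attribute [local instance] HasDerivedCategory.standard
open CategoryTheory
open Dual2
set_option backward.isDefEq.respectTransparency false

namespace Groth.Agent.S7094

open Groth.Agent Limits

/-- Restriction in two steps, on complexes. -/
theorem nonempty_restrictD_comp (R P A : Type u) [CommRing R] [CommRing P] [CommRing A] [Algebra R P] [Algebra R A]
    [Algebra P A] [IsScalarTower R P A] (K : Dual.D A) (E : DRing.Cx P)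
    (e : DRing.toD E ≅ (DRing.restrictD (algebraMap P A)).obj K) :
    Nonempty (DRing.toD ((DRing.restrictCx (algebraMap R P)).obj E) ≅ (DRing.restrictD (algebraMap R A)).obj K) := by
  let X := DerivedCategory.Q.objPreimage K
  let eX : DerivedCategory.Q.obj X ≅ K := DerivedCategory.Q.objObjPreimageIso K
  let r := fun {S T : Type u} [CommRing S] [CommRing T] (φ : S →+* T) => ModuleCat.restrictScalars.{u} φ
  let c : (DRing.restrictCx (algebraMap R A)).obj X ≅
      (DRing.restrictCx (algebraMap R P)).obj ((DRing.restrictCx (algebraMap P A)).obj X) :=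
    (NatIso.mapHomologicalComplex (ModuleCat.restrictScalarsComp'.{u} (algebraMap R P) (algebraMap P A)
      (algebraMap R A) (IsScalarTower.algebraMap_eq R P A)) (ComplexShape.up ℤ)).app X
  let e1 : DRing.toD E ≅ DRing.toD ((DRing.restrictCx (algebraMap P A)).obj X) :=
    e ≪≫ (DRing.restrictD (algebraMap P A)).mapIso eX.symm ≪≫
      (r (algebraMap P A)).mapDerivedCategoryFactors.app X
  exact ⟨((r (algebraMap R P)).mapDerivedCategoryFactors.app E).symm ≪≫
    (DRing.restrictD (algebraMap R P)).mapIso e1 ≪≫
    (r (algebraMap R P)).mapDerivedCategoryFactors.app _ ≪≫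
    DerivedCategory.Q.mapIso c.symm ≪≫
    ((r (algebraMap R A)).mapDerivedCategoryFactors.app X).symm ≪≫
    (DRing.restrictD (algebraMap R A)).mapIso eX⟩

/-- Let R → A be a flat homomorphism of finite presentation of commutative rings and K a pseudo-coherent
object of D(A). Then K is R-perfect if and only if H^i(K) = 0 for all sufficiently negative i and,
for each prime p of R, H^i(K ⊗^L_R κ(p)) = 0 for all sufficiently negative i; here K is viewed in
D(R) by restriction of scalars and the derived tensor product with the residue field κ(p) is the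
total left derived functor, assumed to exist. -/
theorem result (R A : Type u) [CommRing R] [CommRing A] [Algebra R A]
    [Module.Flat R A] [Algebra.FinitePresentation R A]
    [∀ p : PrimeSpectrum R, DRing.HasLTensor R (ModuleCat.of R p.asIdeal.ResidueField)]
    (K : Dual.D A) (hK : DRing.IsPseudoCoherent' A K) :
    Dual2.IsRelPerfect R A K ↔
      (∃ a : ℤ, ∀ i : ℤ, i < a → Subsingleton (Dual.HD A K i)) ∧
        ∀ p : PrimeSpectrum R, ∃ a : ℤ, ∀ i : ℤ, i < a →
          Subsingleton (Dual.HD R ((DRing.LTensor R (ModuleCat.of R p.asIdeal.ResidueField)).obj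
            ((DRing.restrictD (algebraMap R A)).obj K)) i) := by
  constructor
  · rintro ⟨-, a, b, E, hv, hE, ⟨e⟩⟩
    haveI := ((DMod.vanishesOutside_iff E a b).1 hv).2
    refine ⟨⟨a, fun i hi => ?_⟩, fun p => ⟨a, fun i hi => ?_⟩⟩
    · haveI := DMod.isGE_toD hv
      have h := (DMod.isGE_iff _ a).1 ((DMod.tS R).isGE_of_iso e a) i hi
      obtain ⟨t⟩ := DBaseChange.nonempty_resHD_iso (algebraMap R A) K i
      exact t.toLinearEquiv.toEquiv.subsingleton_congr.1 h
    · let M := ModuleCat.of R p.asIdeal.ResidueField
      obtain ⟨t⟩ := DBaseChange.nonempty_lTensor_iso M E (DBaseChange.adapted_of_flat E b hE)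
      haveI := DMod.isGE_toD (DBaseChange.vanishesOutside_tm M hv)
      exact (DMod.isGE_iff _ a).1
        ((DMod.tS R).isGE_of_iso (t.symm ≪≫ (DRing.LTensor R M).mapIso e) a) i hi
  · rintro ⟨⟨a, ha⟩, hfib⟩
    obtain ⟨n, f, hf, -⟩ := Algebra.FinitePresentation.out (R := R) (A := A)
    letI : Algebra (MvPolynomial (Fin n) R) A := f.toRingHom.toAlgebra
    haveI : IsScalarTower R (MvPolynomial (Fin n) R) A :=
      IsScalarTower.of_algebraMap_eq fun r => (f.commutes r).symm
    obtain ⟨E, b, hb, hE, ⟨e⟩⟩ := (Groth.Agent.S7100.result R (MvPolynomial (Fin n) R) A hf K).1.1 hK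
    haveI := (DMod.vanishesAbove_iff E b).1 hb
    obtain ⟨eR⟩ := nonempty_restrictD_comp R (MvPolynomial (Fin n) R) A K E e
    have hge : ∀ i, i < a → Subsingleton (E.homology i) := fun i hi => by
      rw [← DMod.subsingleton_HD_toD_iff]
      obtain ⟨t⟩ := DBaseChange.nonempty_resHD_iso (algebraMap (MvPolynomial (Fin n) R) A) K i
      exact ((DMod.HH i).mapIso e ≪≫ t).toLinearEquiv.toEquiv.subsingleton_congr.2 (ha i hi)
    haveI hPfree := fun i => (hE i).1
    let F := (DRing.restrictCx (algebraMap R (MvPolynomial (Fin n) R))).obj E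
    haveI : F.IsStrictlyLE b := (CochainComplex.isStrictlyLE_iff F b).2 fun i hi =>
      Functor.map_isZero (ModuleCat.restrictScalars.{u} (algebraMap R (MvPolynomial (Fin n) R)))
        (CochainComplex.isZero_of_isStrictlyLE E b i hi)
    have hflat : ∀ i, Module.Flat R (F.X i) := fun i => by
      letI : Module R (E.X i) := Module.compHom _ (algebraMap R (MvPolynomial (Fin n) R))
      haveI : IsScalarTower R (MvPolynomial (Fin n) R) (E.X i) := ⟨fun r x y => by
        show (r • x) • y = algebraMap R (MvPolynomial (Fin n) R) r • (x • y)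
        rw [Algebra.smul_def, mul_smul]⟩
      haveI := (hE i).1
      haveI := (hE i).2
      exact Module.Flat.trans R (MvPolynomial (Fin n) R) (E.X i)
    obtain ⟨c, d, htor⟩ := RelPerfFib5.finiteTor_of_fibres E b hE a hge fun p => by
      obtain ⟨c, hc⟩ := hfib p
      obtain ⟨t⟩ := DBaseChange.nonempty_lTensor_iso (ModuleCat.of R p.asIdeal.ResidueField) F
        (DBaseChange.adapted_of_flat F b hflat)
      exact ⟨c, fun i hi => (DMod.subsingleton_HD_toD_iff _ i).1
        (((DMod.HH i).mapIso (t.symm ≪≫ (DRing.LTensor R _).mapIso eR)).toLinearEquiv.toEquiv.subsingleton_congr.2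
          (hc i hi))⟩
    exact ⟨hK, c, d, DBaseChange.hasTorAmplitudeIn_of_iso eR htor⟩

end Groth.Agent.S7094
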