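import Groth.Statements.S7098
import Groth.Agent.Lib.DCpl.AwayHom
-- import your own Groth.Agent.* helpers here

set_option autoImplicit false
universe u
attribute [local instance] HasDerivedCategory.standard
open DRing
open CategoryTheory

namespace Groth.Agent.S7098

/-- (1)⇔(2): let A be a commutative ring, f an element of A and K an object of D(A). Then every morphism
A_f[0] → K[n] vanishes for every integer n if and only if every morphism E → K vanishes for every
object E of D(A) obtained by restriction of scalars from D(A_f). -/
theorem result {A : Type u} [CommRing A] (f : A)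
    (K : Dual.D A) :
    (∀ n : ℤ, Subsingleton (Dual.inD A (Localization.Away f) ⟶ K⟦n⟧)) ↔
      ∀ E : Dual.D (Localization.Away f),
        Subsingleton ((DRing.restrictD (algebraMap A (Localization.Away f))).obj E ⟶ K) := by
  let φ := algebraMap A (Localization.Away f)
  let g : (ModuleCat.restrictScalars φ).obj (ModuleCat.of (Localization.Away f) (Localization.Away f)) ≅
      ModuleCat.of A (Localization.Away f) :=
    LinearEquiv.toModuleIso
      ({ AddEquiv.refl (Localization.Away f) with map_smul' := fun a x => (@Algebra.smul_def A (Localization.Away f) _ _ _ a x).symm } :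
        (ModuleCat.restrictScalars φ).obj (ModuleCat.of (Localization.Away f) (Localization.Away f)) ≃ₗ[A]
          Localization.Away f)
  refine ⟨fun h E => Groth.Agent.DCpl.subsingleton_hom_restrictD φ K (fun n => ?_) E, fun h n => ?_⟩
  · have := h n
    exact (Iso.homCongr ((Groth.Agent.DMod.single 0).mapIso g) (Iso.refl _)).subsingleton
  · let eR : (DRing.restrictD φ).obj
        ((Groth.Agent.DMod.single n).obj (ModuleCat.of (Localization.Away f) (Localization.Away f))) ≅
        (shiftFunctor (Dual.D A) (-n)).obj (Dual.inD A (Localization.Away f)) :=
      ((ModuleCat.restrictScalars φ).mapDerivedCategorySingleFunctor n).app _ ≪≫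
        (Groth.Agent.DMod.single n).mapIso g ≪≫ (Groth.Agent.DMod.singleShiftIso n _).symm
    refine subsingleton_of_forall_eq 0 fun t => ?_
    let c := (shiftFunctorCompIsoId (Dual.D A) n (-n) (by omega)).app K
    have h0 : eR.hom ≫ (shiftFunctor (Dual.D A) (-n)).map t ≫ c.hom = 0 := @Subsingleton.elim _ (h _) _ _
    rw [Preadditive.IsIso.comp_left_eq_zero, Preadditive.IsIso.comp_right_eq_zero,
      ← Functor.map_zero (shiftFunctor (Dual.D A) (-n))] at h0
    exact (shiftFunctor (Dual.D A) (-n)).map_injective h0

end Groth.Agent.S7098
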