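import Groth.Statements.S7099
import Groth.Agent.Lib.KFlat.HomIter
import Groth.Agent.Lib.KFlat.BcCx
import Groth.Agent.Lib.KFlat.BcCases
import Mathlib.RingTheory.Localization.BaseChange
-- import your own Groth.Agent.* helpers here

set_option autoImplicit false
set_option backward.isDefEq.respectTransparency false
universe u
attribute [local instance] HasDerivedCategory.standard
open CategoryTheory
open DRing

namespace Groth.Agent.S7099

open MonoidalCategory Groth.Agent.KFlat
open scoped TensorProduct

/-- `A_f ⊗ A_g ≅ A_{fg}` as complexes. -/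
theorem nonempty_away_tensor {A : Type u} [CommRing A] (f g : A) :
    Nonempty (((HomologicalComplex.single (ModuleCat.{u} A) (ComplexShape.up ℤ) 0).obj (ModuleCat.of A (Localization.Away f))) ⊗
        ((HomologicalComplex.single (ModuleCat.{u} A) (ComplexShape.up ℤ) 0).obj (ModuleCat.of A (Localization.Away g))) ≅
      ((HomologicalComplex.single (ModuleCat.{u} A) (ComplexShape.up ℤ) 0).obj (ModuleCat.of A (Localization.Away (f * g))) : DRing.Cx A)) := by
  let φ := algebraMap A (Localization.Away f)
  let T := TensorProduct A (Localization.Away f) (Localization.Away g)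
  haveI : IsLocalization.Away (f * g) T := IsLocalization.Away.mul' (Localization.Away f) T f g
  let l : T ≃ₗ[A] Localization.Away (f * g) :=
    (IsLocalization.algEquiv (Submonoid.powers (f * g)) T (Localization.Away (f * g))).toLinearEquiv
  let P₁ := (ModuleCat.restrictScalars.{u} φ).obj (𝟙_ (ModuleCat.{u} (Localization.Away f)))
  let P₂ := (ModuleCat.restrictScalars.{u} φ).obj
      ((ModuleCat.extendScalars.{u, u, u} φ).obj (ModuleCat.of A (Localization.Away g)))
  let e₁ : P₁ ≃ₗ[A] Localization.Away f :=
    { toFun := fun x => x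
      invFun := fun x => x
      left_inv := fun _ => rfl
      right_inv := fun _ => rfl
      map_add' := fun _ _ => rfl
      map_smul' := fun r x => (Algebra.smul_def r (show Localization.Away f from x)).symm }
  let s₀ : P₁ ≅ ModuleCat.of A (Localization.Away f) := LinearEquiv.toModuleIso e₁
  let e₀ : ((ModuleCat.restrictScalars.{u} φ).obj (ModuleCat.of (Localization.Away f) (Localization.Away f))) ≃ₗ[A]
      Localization.Away f :=
    { toFun := fun x => x
      invFun := fun x => x
      left_inv := fun _ => rfl
      right_inv := fun _ => rfl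
      map_add' := fun _ _ => rfl
      map_smul' := fun r x => (Algebra.smul_def r (show Localization.Away f from x)).symm }
  let l' := (TensorProduct.congr e₀ (LinearEquiv.refl A (Localization.Away g))).trans l
  let c := TensorProduct.congr e₀ (LinearEquiv.refl A (Localization.Away g))
  let e₂ : P₂ ≃ₗ[A] Localization.Away (f * g) :=
    { toFun := fun x => l' x
      invFun := fun x => l'.symm x
      left_inv := fun x => l'.symm_apply_apply x
      right_inv := fun x => l'.apply_symm_apply x
      map_add' := fun x y => map_add l' x y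
      map_smul' := fun r x => by
        change l' _ = r • l' x
        induction x using TensorProduct.induction_on with
        | zero => rw [smul_zero, map_zero, smul_zero]
        | tmul s m =>
          have hs : (show Localization.Away f from φ r) * e₀ s = r • e₀ s := (Algebra.smul_def r (e₀ s)).symm
          change l (((φ r) * e₀ s) ⊗ₜ[A] m) = r • l (e₀ s ⊗ₜ[A] m)
          rw [hs, ← TensorProduct.smul_tmul', map_smul]
        | add a b ha hb => rw [smul_add, map_add, ha, hb, map_add, smul_add] }
  let m₀ : P₂ ≅ ModuleCat.of A (Localization.Away (f * g)) := LinearEquiv.toModuleIso e₂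
  haveI := Bc.isIso_e φ ((HomologicalComplex.single (ModuleCat.{u} A) (ComplexShape.up ℤ) 0).obj
    (ModuleCat.of A (Localization.Away g)))
  let sR := HomologicalComplex.singleMapHomologicalComplex (ModuleCat.restrictScalars.{u} φ) (ComplexShape.up ℤ) 0
  let sE := HomologicalComplex.singleMapHomologicalComplex (ModuleCat.extendScalars.{u, u, u} φ) (ComplexShape.up ℤ) 0
  exact ⟨(MonoidalCategory.tensorRight _).mapIso ((sR.app _ ≪≫ (HomologicalComplex.single _ _ 0).mapIso s₀).symm) ≪≫
    asIso (Bc.e φ _) ≪≫ (DTen.resCx φ).mapIso (sE.app _) ≪≫ sR.app _ ≪≫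
      (HomologicalComplex.single _ _ 0).mapIso m₀⟩


/-- Let A be a commutative ring, f and g elements of A, and K an object of D(A). Assuming the derived
functors RHom_A(A_f, −), RHom_A(A_g, −) and RHom_A(A_{fg}, −) (total right derived functors of the
Hom complexes out of the localizations placed in degree 0) exist, RHom_A(A_f, RHom_A(A_g, K)) is
isomorphic in D(A) to RHom_A(A_{fg}, K). (Existence of an isomorphism only.) -/
theorem result {A : Type u} [CommRing A] (f g : A)
    [DRing.HasRHomCx ((HomologicalComplex.single (ModuleCat.{u} A) (ComplexShape.up ℤ) 0).obj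
      (ModuleCat.of A (Localization.Away f)))]
    [DRing.HasRHomCx ((HomologicalComplex.single (ModuleCat.{u} A) (ComplexShape.up ℤ) 0).obj
      (ModuleCat.of A (Localization.Away g)))]
    [DRing.HasRHomCx ((HomologicalComplex.single (ModuleCat.{u} A) (ComplexShape.up ℤ) 0).obj
      (ModuleCat.of A (Localization.Away (f * g))))]
    (K : Dual.D A) :
    Nonempty ((DRing.RHomCx ((HomologicalComplex.single (ModuleCat.{u} A) (ComplexShape.up ℤ) 0).obj
        (ModuleCat.of A (Localization.Away f)))).obj
      ((DRing.RHomCx ((HomologicalComplex.single (ModuleCat.{u} A) (ComplexShape.up ℤ) 0).obj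
        (ModuleCat.of A (Localization.Away g)))).obj K) ≅
      (DRing.RHomCx ((HomologicalComplex.single (ModuleCat.{u} A) (ComplexShape.up ℤ) 0).obj
        (ModuleCat.of A (Localization.Away (f * g))))).obj K) := by
  obtain ⟨I, hI, ⟨e⟩⟩ := Groth.Agent.KInjLib.exists_iso_kInjective K
  let F := (HomologicalComplex.single (ModuleCat.{u} A) (ComplexShape.up ℤ) 0).obj (ModuleCat.of A (Localization.Away f))
  let G := (HomologicalComplex.single (ModuleCat.{u} A) (ComplexShape.up ℤ) 0).obj (ModuleCat.of A (Localization.Away g))
  let H := (HomologicalComplex.single (ModuleCat.{u} A) (ComplexShape.up ℤ) 0).obj (ModuleCat.of A (Localization.Away (f * g)))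
  have hG : DRing.IsKFlat A G := by
    haveI : CochainComplex.IsStrictlyLE G 0 := (CochainComplex.isStrictlyLE_iff G 0).2 fun i hi =>
      HomologicalComplex.isZero_single_obj_X (ComplexShape.up ℤ) 0 _ i (by omega)
    refine Groth.Agent.KFlat.Bc.isKFlat_of_flat G 0 fun i => ?_
    by_cases hi : i = 0
    · subst hi
      exact Module.Flat.of_linearEquiv (HomologicalComplex.singleObjXSelf (ComplexShape.up ℤ) 0
        (ModuleCat.of A (Localization.Away g))).toLinearEquiv
    · haveI := ModuleCat.subsingleton_of_isZero
        (HomologicalComplex.isZero_single_obj_X (ComplexShape.up ℤ) 0 (ModuleCat.of A (Localization.Away g)) i hi)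
      exact Module.Flat.of_free
  haveI := Groth.Agent.KFlat.HomD.isKInjective_homCx hG I
  obtain ⟨a⟩ := Groth.Agent.KFlat.HomD.nonempty_rHomCx_Q_iso G I
  obtain ⟨b⟩ := Groth.Agent.KFlat.HomD.nonempty_rHomCx_Q_iso F (DRing.homCx G I)
  obtain ⟨c⟩ := Groth.Agent.KFlat.HomD.nonempty_rHomCx_Q_iso H I
  obtain ⟨t⟩ := nonempty_away_tensor f g
  let d : DRing.homCx (F ⊗ G) I ≅ DRing.homCx H I :=
    (Adjunction.rightAdjointUniq (Groth.Agent.KFlat.HomAdj.adj (F ⊗ G))
      ((Groth.Agent.KFlat.HomAdj.adj H).ofNatIsoLeft
        ((MonoidalCategory.curriedTensor (DRing.Cx A)).flip.mapIso t.symm))).app I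
  exact ⟨(DRing.RHomCx F).mapIso ((DRing.RHomCx G).mapIso e ≪≫ a) ≪≫ b ≪≫
    DerivedCategory.Q.mapIso (Groth.Agent.KFlat.HomD.homCxIterIso F G I ≪≫ d) ≪≫ c.symm ≪≫
      (DRing.RHomCx H).mapIso e.symm⟩

end Groth.Agent.S7099
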