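import Groth.Statements.S7101
import Groth.Agent.Lib.DCpl.RHom
-- import your own Groth.Agent.* helpers here

set_option autoImplicit false
set_option backward.isDefEq.respectTransparency false
universe u
attribute [local instance] HasDerivedCategory.standard
open CategoryTheory
open DRing

namespace Groth.Agent.S7101

/-- Let A be a commutative ring and I a finitely generated ideal; assume the derived completion functor
exists and, for a cochain complex K of A-modules, that RHom_A(K, −) exists as the total right
derived functor of Hom•(K, −). Then for every L in D(A), with L^ the derived completion of L, the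
object RHom_A(K, L^) is the derived completion of RHom_A(K, L) through the map RHom_A(K, L) →
RHom_A(K, L^) induced by the canonical morphism L → L^: RHom_A(K, L^) is derived complete with
respect to I, and every morphism from RHom_A(K, L) to a derived complete object of D(A) factors
uniquely through that map. -/
theorem result {A : Type u} [CommRing A] (I : Ideal A) (hI : I.FG) [DRing.HasDerivedCompletion I]
    (K : DRing.Cx A) [DRing.HasRHomCx K] (L : Dual.D A) :
    DRing.IsDerivedComplete I ((DRing.RHomCx K).obj ((DRing.derivedCompletion I).obj L).obj) ∧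
      ∀ E : Dual.D A, DRing.IsDerivedComplete I E →
        Function.Bijective (fun φ : (DRing.RHomCx K).obj ((DRing.derivedCompletion I).obj L).obj ⟶ E =>
          (DRing.RHomCx K).map (DRing.toDerivedCompletion I L) ≫ φ) := by
  haveI : DTen.HasLTen A := Groth.Agent.KFlat.DT.hasLTen
  haveI : DTen.HasRHom A := Groth.Agent.KFlat.HomD.hasRHom A
  obtain ⟨P, hP, ⟨eP⟩⟩ := Groth.Agent.KFlat.HomD.exists_rep (DerivedCategory.Q.obj K)
  haveI := hP
  obtain ⟨r⟩ := Groth.Agent.KFlat.HomD.nonempty_rHomCx_iso K
  let q : DRing.RHomCx K ≅ Groth.Agent.KFlat.HomD.Gd P := r ≪≫ Adjunction.rightAdjointUniq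
    ((DTen.rhomAdj A (DerivedCategory.Q.obj K)).ofNatIsoLeft ((DTen.LTen A).flip.mapIso eP.symm))
    (Groth.Agent.KFlat.HomD.adjD P)
  obtain ⟨s, hs⟩ := hI
  have hs' : Ideal.span {g : A | g ∈ s.toList} = I := by
    rw [← hs, show {g : A | g ∈ s.toList} = (s : Set A) by ext; simp]
  obtain ⟨C, η, hη, hGη, -⟩ := Groth.Agent.DCpl.exists_cpl_gd P s.toList L
  obtain ⟨e, he⟩ := Groth.Agent.DCpl.nonempty_iso_of_isCpl I _ hs' hη
  have key := hGη.of_isIso (q.app L) (((Groth.Agent.KFlat.HomD.Gd P).mapIso e).symm ≪≫ (q.app _).symm)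
  have hm : (q.app L).hom ≫ (Groth.Agent.KFlat.HomD.Gd P).map η ≫
      (((Groth.Agent.KFlat.HomD.Gd P).mapIso e).symm ≪≫ (q.app _).symm).hom =
        (DRing.RHomCx K).map (DRing.toDerivedCompletion I L) := by
    simp only [← he, Iso.trans_hom, Iso.symm_hom, Iso.app_hom, Iso.app_inv, Functor.mapIso_inv, Category.assoc]
    rw [← Functor.map_comp_assoc]
    simp
  rw [hm] at key
  refine ⟨(Groth.Agent.DCpl.isDerivedComplete_iff_span I _ hs' _).2 key.1, fun E hE => ?_⟩
  exact key.2 E ((Groth.Agent.DCpl.isDerivedComplete_iff_span I _ hs' E).1 hE)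

end Groth.Agent.S7101
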