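import Groth.Statements.S7102
import Groth.Agent.Lib.DBaseChange.ResTensor
import Groth.Agent.S7037
-- import your own Groth.Agent.* helpers here

set_option autoImplicit false
universe u
attribute [local instance] HasDerivedCategory.standard
open Dual2

set_option backward.isDefEq.respectTransparency false
open CategoryTheory CategoryTheory.Limits
open scoped MonoidalCategory
attribute [local instance] HasDerivedCategory.standard

namespace Groth.Agent.S7102

/-- Let R → A be a flat homomorphism of finite presentation of commutative rings, E a bounded cochain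
complex of finite projective A-modules (a perfect object of D(A)) for which the derived functor −
⊗^L_A E exists, and M an R-perfect object of D(A). Then M ⊗^L_A E is R-perfect. -/
theorem result (R A : Type u) [CommRing R] [CommRing A] [Algebra R A]
    [Module.Flat R A] [Algebra.FinitePresentation R A] (E : DRing.Cx A) (a b : ℤ)
    (hEb : DRing.VanishesOutside E a b) (hEp : DRing.TermwiseFiniteProjective E) [DRing.HasLTensorCx A E]
    (M : Dual.D A) (hM : Dual2.IsRelPerfect R A M) :
    Dual2.IsRelPerfect R A ((DRing.LTensorCx A E).obj M) := by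
  obtain ⟨hp, c, d, ht⟩ := hM
  refine ⟨Groth.Agent.S7037.result A M hp E (DMod.pc'_of_finProj hEb hEp), a + c, b + d, ?_⟩
  obtain ⟨P, b', hPv, hP, ⟨e⟩⟩ := hp
  haveI := (DMod.vanishesAbove_iff P b').1 hPv
  have hPflat : ∀ i, _root_.Module.Flat A (P.X i) := fun i => by
    haveI := (hP i).2
    infer_instance
  obtain ⟨t⟩ := DBaseChange.nonempty_lTensorCx_iso E (DBaseChange.isKFlat_of_boundedAbove P b' hPflat)
  let F := ModuleCat.restrictScalars.{u} (algebraMap R A)
  have hP' : DRing.HasTorAmplitudeIn R c d (DRing.toD ((DRing.restrictCx (algebraMap R A)).obj P)) :=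
    DBaseChange.hasTorAmplitudeIn_of_iso
      (((F.mapDerivedCategoryFactors.app P).symm ≪≫ (DRing.restrictD (algebraMap R A)).mapIso e).symm) ht
  have h := DBaseChange.torAmp_res_tensor (algebraMap R A) P hP' E a b hEb fun i => by
    haveI := (hEp i).2
    exact Module.Flat.of_projective
  exact DBaseChange.hasTorAmplitudeIn_of_iso
    ((F.mapDerivedCategoryFactors.app (E ⊗ P)).symm ≪≫
      (DRing.restrictD (algebraMap R A)).mapIso (DerivedCategory.Q.mapIso (DTen.braidCx E P) ≪≫ t.symm ≪≫
        (DRing.LTensorCx A E).mapIso e)) h

end Groth.Agent.S7102
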