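import Groth.Statements.S7105
import Groth.Agent.Lib.DMod.TwoTerm

set_option autoImplicit false
universe u
attribute [local instance] HasDerivedCategory.standard
open CategoryTheory
open DRing

namespace Groth.Agent.S7105

/-- Let R be a commutative ring, M a cochain complex of R-modules with M^i = 0 for i > 0 and M^0
projective, and K a cochain complex with K^i = 0 for all i ≤ -2. Then the canonical map
Hom_{K(R)}(M, K) → Hom_{D(R)}(M, K), from homotopy classes of chain maps to morphisms in the derived
category, is bijective. -/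
theorem result {R : Type u} [CommRing R] (M K : DRing.Cx R)
    (hM : ∀ i : ℤ, 0 < i → Limits.IsZero (M.X i)) (hM0 : Module.Projective R (M.X 0))
    (hK : ∀ i : ℤ, i ≤ -2 → Limits.IsZero (K.X i)) :
    Function.Bijective (fun φ : (HomotopyCategory.quotient (ModuleCat.{u} R) (ComplexShape.up ℤ)).obj M ⟶
        (HomotopyCategory.quotient (ModuleCat.{u} R) (ComplexShape.up ℤ)).obj K => DerivedCategory.Qh.map φ) := by
  let q := HomotopyCategory.quotient (ModuleCat.{u} R) (ComplexShape.up ℤ)
  let e := DerivedCategory.quotientCompQhIso (ModuleCat.{u} R)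
  have key : ∀ a b : M ⟶ K, DerivedCategory.Qh.map (q.map a) = DerivedCategory.Qh.map (q.map b) ↔
      DerivedCategory.Q.map a = DerivedCategory.Q.map b := fun a b => by
    constructor
    · intro h
      rw [← NatIso.naturality_1 e a, ← NatIso.naturality_1 e b]
      exact congrArg (fun z => e.inv.app M ≫ z ≫ e.hom.app K) h
    · intro h
      rw [← NatIso.naturality_1 e a, ← NatIso.naturality_1 e b, cancel_epi, cancel_mono] at h
      exact h
  refine ⟨fun φ₁ φ₂ h => ?_, fun u => ?_⟩
  · obtain ⟨a, rfl⟩ := q.map_surjective φ₁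
    obtain ⟨b, rfl⟩ := q.map_surjective φ₂
    obtain ⟨H⟩ := (Groth.Agent.DMod.Q_map_eq_iff hM hK a b).1 ((key a b).1 h)
    have := HomotopyCategory.eq_of_homotopy _ _ H
    rw [Functor.map_sub, Functor.map_zero, sub_eq_zero] at this
    exact this
  · obtain ⟨a, ha⟩ := Groth.Agent.DMod.exists_Q_map_eq hM hM0 hK (e.inv.app M ≫ u ≫ e.hom.app K)
    refine ⟨q.map a, ?_⟩
    rw [← NatIso.naturality_1 e a, cancel_epi, cancel_mono] at ha
    exact ha

end Groth.Agent.S7105
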