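import Groth.Statements.S7107
import Mathlib.LinearAlgebra.Finsupp.SumProd
import Mathlib.LinearAlgebra.Finsupp.LSum
import Mathlib.Logic.Equiv.Option
import Mathlib.LinearAlgebra.Finsupp.Pi
import Mathlib.SetTheory.Cardinal.Arithmetic

set_option autoImplicit false
universe u
open CAlg

namespace Groth.Agent.S7107

/-- Let R be a ring and P, Q modules such that P ⊕ Q is isomorphic to a free module F on an infinite
basis. Then P ⊕ F is isomorphic to F. -/
theorem result (R : Type u) [CommRing R] (P Q : Type u) [AddCommGroup P] [Module R P]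
    [AddCommGroup Q] [Module R Q] (ι : Type u) [Infinite ι] (e : (P × Q) ≃ₗ[R] (ι →₀ R)) :
    Nonempty ((P × (ι →₀ R)) ≃ₗ[R] (ι →₀ R)) := by
  classical
  have e0 : Nonempty (ℕ × ι ≃ ι) := Cardinal.eq.1 (by
    simp [Cardinal.mk_prod, Cardinal.aleph0_mul_eq])
  obtain ⟨σ⟩ := e0
  let spl : (ℕ →₀ P × Q) ≃ₗ[R] (ℕ →₀ P) × (ℕ →₀ Q) :=
    { toFun := fun f => (f.mapRange Prod.fst rfl, f.mapRange Prod.snd rfl)
      invFun := fun fg => Finsupp.zipWith Prod.mk rfl fg.1 fg.2
      map_add' := fun f g => by ext <;> simp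
      map_smul' := fun r f => by ext <;> simp
      left_inv := fun f => by ext <;> simp
      right_inv := fun fg => by ext <;> simp }
  let big : (ι →₀ R) ≃ₗ[R] (ℕ →₀ P) × (ℕ →₀ Q) :=
    (Finsupp.domLCongr σ.symm).trans ((Finsupp.curryLinearEquiv R).trans
      ((Finsupp.mapRange.linearEquiv e.symm).trans spl))
  let shiftP : (P × (ℕ →₀ P)) ≃ₗ[R] (ℕ →₀ P) :=
    (LinearEquiv.prodComm R P (ℕ →₀ P)).trans
      (((LinearEquiv.refl R (ℕ →₀ P)).prodCongr (Finsupp.LinearEquiv.finsuppUnique R P PUnit.{1}).symm).trans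
        ((Finsupp.sumFinsuppLEquivProdFinsupp R).symm.trans (Finsupp.domLCongr Equiv.natSumPUnitEquivNat)))
  exact ⟨(((LinearEquiv.refl R P).prodCongr big).trans (LinearEquiv.prodAssoc R P _ _).symm).trans
    ((shiftP.prodCongr (LinearEquiv.refl R _)).trans big.symm)⟩

end Groth.Agent.S7107
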