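import Groth.Statements.S7108
import Groth.Agent.S7107
import Mathlib.Algebra.Module.Projective
import Mathlib.LinearAlgebra.Isomorphisms

set_option autoImplicit false
universe u
open CAlg

namespace Groth.Agent.S7108

/-- Every projective module P over a ring R becomes free after adding a suitable free module: P ⊕ F is
free for some free module F (here F is the free module on some index type). -/
theorem result (R : Type u) [CommRing R] (P : Type u) [AddCommGroup P]
    [Module R P] [Module.Projective R P] : ∃ ι : Type u, Module.Free R (P × (ι →₀ R)) := by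
  obtain ⟨s, hs⟩ := Module.projective_def'.1 ‹Module.Projective R P›
  let π : (P →₀ R) →ₗ[R] P := Finsupp.linearCombination R id
  have hc : ∀ x, π (s x) = x := fun x => LinearMap.congr_fun hs x
  let e : (P × LinearMap.ker π) ≃ₗ[R] (P →₀ R) :=
    { toLinearMap := LinearMap.coprod s (LinearMap.ker π).subtype
      invFun := fun f => (π f, ⟨f - s (π f), by simp [hc]⟩)
      left_inv := fun x => by
        obtain ⟨a, b, hb⟩ := x
        have hb' : π b = 0 := hb
        simp [hc, hb']
      right_inv := fun f => by simp }
  by_cases hP : Infinite P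
  · exact ⟨P, .of_equiv (Groth.Agent.S7107.result R P (LinearMap.ker π) P e).some.symm⟩
  · let j := (Finsupp.sumFinsuppLEquivProdFinsupp (M := R) (α := P) (β := ℕ) R).symm
    let e' : (P × (LinearMap.ker π × (ℕ →₀ R))) ≃ₗ[R] (P ⊕ ℕ →₀ R) :=
      (LinearEquiv.prodAssoc R P _ _).symm.trans ((e.prodCongr (LinearEquiv.refl R _)).trans j)
    exact ⟨P ⊕ ℕ, .of_equiv (Groth.Agent.S7107.result R P (LinearMap.ker π × (ℕ →₀ R)) (P ⊕ ℕ) e').some.symm⟩

end Groth.Agent.S7108
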