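import Groth.Statements.S7109
import Mathlib.Algebra.Module.Projective
import Mathlib.LinearAlgebra.FreeModule.Finite.Basic
import Mathlib.LinearAlgebra.StdBasis
import Mathlib.RingTheory.Finiteness.Basic

set_option autoImplicit false
universe u
open CAlg

namespace Groth.Agent.S7109

/-- Let P be a projective module over a ring R and s an element of P. Then there are a finite free
module R^n and a direct summand K of R^n ⊕ P which is finite free and contains (0, s). -/
theorem result (R : Type u) [CommRing R] (P : Type u) [AddCommGroup P]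
    [Module R P] [Module.Projective R P] (s : P) :
    ∃ (n : ℕ) (K K' : Submodule R ((Fin n → R) × P)), IsCompl K K' ∧ Module.Free R K ∧ Module.Finite R K ∧
      ((0, s) : (Fin n → R) × P) ∈ K := by
  classical
  obtain ⟨σ, hσ⟩ := Module.projective_def'.1 ‹Module.Projective R P›
  let π : (P →₀ R) →ₗ[R] P := Finsupp.linearCombination R id
  have hπσ : ∀ p, π (σ p) = p := fun p => LinearMap.congr_fun hσ p
  let u := (σ s).support
  let e : Fin u.card ≃ u := u.equivFin.symm
  let v : Fin u.card → P →₀ R := fun i => Finsupp.single (e i : P) 1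
  let ψ : (P →₀ R) →ₗ[R] Fin u.card → R := LinearMap.pi fun i => Finsupp.lapply (e i : P)
  let j : (Fin u.card → R) →ₗ[R] P →₀ R := Fintype.linearCombination R v
  have hψj : ∀ c, ψ (j c) = c := fun c => by
    ext i
    simp [ψ, j, v, Fintype.linearCombination_apply, Finsupp.single_apply, Subtype.coe_inj]
  let h : (Fin u.card → R) →ₗ[R] (Fin u.card → R) × P :=
    (LinearMap.id - ψ ∘ₗ σ ∘ₗ π ∘ₗ j).prod (π ∘ₗ j)
  let g : (Fin u.card → R) × P →ₗ[R] Fin u.card → R := LinearMap.id.coprod (ψ ∘ₗ σ)
  have hgh : ∀ c, g (h c) = c := fun c => by simp [g, h]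
  have hinj : Function.Injective h := fun a b hab => by rw [← hgh a, hab, hgh]
  refine ⟨u.card, LinearMap.range h, LinearMap.ker g, ⟨Submodule.disjoint_def.2 ?_,
    codisjoint_iff.2 (eq_top_iff.2 fun p _ => ?_)⟩, Module.Free.of_equiv (LinearEquiv.ofInjective h hinj),
    Module.Finite.range h, ψ (σ s), ?_⟩
  · rintro _ ⟨c, rfl⟩ hc
    rw [LinearMap.mem_ker, hgh] at hc
    rw [hc, map_zero]
  · rw [show p = h (g p) + (p - h (g p)) by abel]
    exact add_mem (Submodule.mem_sup_left ⟨_, rfl⟩)
      (Submodule.mem_sup_right (by simp [LinearMap.mem_ker, map_sub, hgh]))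
  · have hj : j (ψ (σ s)) = σ s := by
      show Fintype.linearCombination R v _ = _
      rw [Fintype.linearCombination_apply]
      simp only [v, ψ, LinearMap.pi_apply, Finsupp.lapply_apply]
      rw [e.sum_comp (fun p : u => σ s (p : P) • Finsupp.single (p : P) (1 : R)),
        Finset.sum_coe_sort u (fun p : P => σ s p • Finsupp.single p (1 : R))]
      simp only [Finsupp.smul_single, smul_eq_mul, mul_one]
      exact Finsupp.sum_single (σ s)
    ext : 1
    · simp [h, hj, hπσ]
    · simp [h, hj, hπσ]

end Groth.Agent.S7109
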