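import Groth.Statements.S7111
import Groth.Agent.Lib.Kap.Bass

set_option autoImplicit false
universe u
open CAlg

namespace Groth.Agent.S7111

/-- Let R be a ring whose quotient by its Jacobson radical is Noetherian and P a projective R-module
such that for every maximal ideal m the localization P_m is not finitely generated over R_m (P has
infinite rank everywhere). Then every element s of P lies in a direct summand of P which is a finite
stably free module. -/
theorem result (R : Type u) [CommRing R]
    [IsNoetherianRing (R ⧸ (⊥ : Ideal R).jacobson)]
    (P : Type u) [AddCommGroup P] [Module R P] [Module.Projective R P]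
    (hP : ∀ (m : Ideal R) [m.IsMaximal],
      ¬ Module.Finite (Localization.AtPrime m) (LocalizedModule m.primeCompl P))
    (s : P) :
    ∃ (K K' : Submodule R P), IsCompl K K' ∧ Module.Finite R K ∧ Module.IsStablyFree R K ∧ s ∈ K := by
  classical
  obtain ⟨n, y, g, hg, hs⟩ := Groth.Agent.Kap.exists_free_piece_of_infRank (Groth.Agent.Kap.infRank_of_localization hP) s
  let back : (Fin n → R) →ₗ[R] P := Fintype.linearCombination R y
  have hgb : ∀ a, g (back a) = a := fun a => by
    ext j
    simp [back, Fintype.linearCombination_apply, hg, Pi.single_apply]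
  let e : (Fin n → R) ≃ₗ[R] LinearMap.range back := LinearEquiv.ofInjective back (Function.LeftInverse.injective hgb)
  haveI : Module.Free R (LinearMap.range back) := Module.Free.of_equiv e
  refine ⟨LinearMap.range back, LinearMap.ker g, ?_, Module.Finite.equiv e, inferInstance, ?_⟩
  · refine ⟨Submodule.disjoint_def.2 ?_, codisjoint_iff.2 (eq_top_iff.2 fun p _ => ?_)⟩
    · rintro _ ⟨a, rfl⟩ ha
      rw [LinearMap.mem_ker, hgb] at ha
      rw [ha, map_zero]
    · refine Submodule.mem_sup.2 ⟨back (g p), ⟨_, rfl⟩, p - back (g p), ?_, add_sub_cancel _ _⟩
      rw [LinearMap.mem_ker, map_sub, hgb, sub_self]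
  · rw [Fintype.range_linearCombination]
    exact hs

end Groth.Agent.S7111
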