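import Groth.Statements.S7113
import Groth.Agent.Lib.SerreSplit.Basic

set_option autoImplicit false
universe u
open CAlg

namespace Groth.Agent.S7113

open Groth.Agent.SerreSplit


/-- Let R be a ring whose set of maximal ideals, with the Zariski topology, is a Noetherian topological
space of Krull dimension at most d, and let M be an R-module of finite presentation whose
localization M_m at each maximal ideal m contains a free direct summand of rank d + 1. Then M is
isomorphic to R ⊕ M' for some M': there are s in M and a linear form φ on M with φ(s) = 1. (The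
published statement takes the dimension equal to d; a space of smaller dimension satisfies the
hypothesis for a smaller d, so the bound form is equivalent.) -/
theorem result (R : Type u) [CommRing R] (d : ℕ)
    [TopologicalSpace.NoetherianSpace (MaximalSpectrum R)]
    (hdim : topologicalKrullDim (MaximalSpectrum R) ≤ d)
    (M : Type u) [AddCommGroup M] [Module R M] [Module.FinitePresentation R M]
    (hM : ∀ (m : Ideal R) [m.IsMaximal],
      ∃ (f : (Fin (d + 1) → Localization.AtPrime m) →ₗ[Localization.AtPrime m] LocalizedModule m.primeCompl M)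
        (g : LocalizedModule m.primeCompl M →ₗ[Localization.AtPrime m] (Fin (d + 1) → Localization.AtPrime m)),
        g ∘ₗ f = LinearMap.id) :
    ∃ (s : M) (φ : M →ₗ[R] R), φ s = 1 := by
  classical
  have hrank : ∀ x : MaximalSpectrum R, 0 + (d + 1) ≤ Module.finrank (R ⧸ x.asIdeal)
      ((M ⧸ (x.asIdeal • ⊤ : Submodule R M)) ⧸ perp (M := M) x.asIdeal) := by
    intro x
    haveI := x.isMaximal
    letI := Ideal.Quotient.field x.asIdeal
    obtain ⟨f, g, hgf⟩ := hM x.asIdeal
    have hz : ∀ i, ∃ (a : M) (u : x.asIdeal.primeCompl), LocalizedModule.mk a u = f (Pi.single i 1) := fun i => by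
      induction f (Pi.single i 1) using LocalizedModule.induction_on with
      | h a u => exact ⟨a, u, rfl⟩
    choose a u hau using hz
    have hind : Indep x.asIdeal a := indep_of_split x.asIdeal x.asIdeal.primeCompl le_rfl a u g fun i => by
      rw [hau, ← LinearMap.comp_apply, hgf, LinearMap.id_apply]
    haveI : Module.Finite (R ⧸ x.asIdeal) ((M ⧸ (x.asIdeal • ⊤ : Submodule R M)) ⧸ perp (M := M) x.asIdeal) :=
      Module.Finite.of_restrictScalars_finite R _ _
    simpa using ((linearIndependent_iff x.asIdeal a).2 hind).fintype_card_le_finrank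
  obtain ⟨t, F', -, -, hdep, hco⟩ := splitting (d + 1) 0 (fun i : Fin 0 => (0 : M)) ∅ isClosed_empty ∅
    (by simp) (fun _ => 0) hrank (fun x hx => hx ⟨fun i => 0, by
      rw [Matrix.det_fin_zero]; exact (Ideal.ne_top_iff_one _).1 x.isMaximal.ne_top⟩)
  refine ⟨t, ?_⟩
  let I : Ideal R := LinearMap.range (Module.Dual.eval R M t)
  have hI : I = ⊤ := by
    by_contra hne
    obtain ⟨x, hx, hle⟩ := Ideal.exists_le_maximal I hne
    have hmem : (⟨x, hx⟩ : MaximalSpectrum R) ∈ dep (0 + 1) (Fin.snoc (fun i : Fin 0 => (0 : M)) t) := by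
      rintro ⟨φ, hφ⟩
      rw [Matrix.det_fin_one] at hφ
      exact hφ (hle ⟨φ 0, rfl⟩)
    rcases hdep hmem with h | h
    · exact h
    · let Z : TopologicalSpace.IrreducibleCloseds (MaximalSpectrum R) :=
        ⟨{⟨x, hx⟩}, isIrreducible_singleton, isClosed_singleton⟩
      have h1 := hco Z (Set.singleton_subset_iff.2 h)
      have h2 : ((Order.coheight Z : ℕ∞) : WithBot ℕ∞) ≤ (d : WithBot ℕ∞) :=
        (Order.coheight_le_krullDim Z).trans hdim
      have h3 : Order.coheight Z ≤ (d : ℕ∞) := by exact_mod_cast h2
      have h4 := h1.trans h3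
      norm_cast at h4
      omega
  obtain ⟨φ, hφ⟩ : (1 : R) ∈ I := by rw [hI]; exact Submodule.mem_top
  exact ⟨φ, hφ⟩

end Groth.Agent.S7113
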