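import Groth.Statements.S7114
import Mathlib

set_option autoImplicit false
universe u
open CAlg

namespace Groth.Agent.S7114




/-- Let R be a Noetherian local ring of Krull dimension one and x an element of the maximal ideal lying
in no minimal prime of R. Then for every n the length of R/xⁿR is at most n times the length of
R/xR, and equality holds when x is a nonzerodivisor. -/
theorem result (R : Type u) [CommRing R] [IsNoetherianRing R] [IsLocalRing R]
    (hdim : ringKrullDim R = 1) (x : R) (hx : x ∈ IsLocalRing.maximalIdeal R)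
    (hmin : ∀ p ∈ minimalPrimes R, x ∉ p) (n : ℕ) :
    Module.length R (R ⧸ Ideal.span {x ^ n}) ≤ (n : ℕ∞) * Module.length R (R ⧸ Ideal.span {x}) ∧
      (x ∈ nonZeroDivisors R →
        Module.length R (R ⧸ Ideal.span {x ^ n}) = (n : ℕ∞) * Module.length R (R ⧸ Ideal.span {x})) := by
  refine ⟨?_, fun hx' => ?_⟩
  · clear hdim hmin hx
    induction n with
    | zero =>
      haveI : Subsingleton (R ⧸ Ideal.span {x ^ 0}) :=
        Ideal.Quotient.subsingleton_iff.2 (by rw [pow_zero, Ideal.span_singleton_one])
      rw [Module.length_eq_zero]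
      exact zero_le
    | succ n ih =>
      have hle : Ideal.span {x ^ (n + 1)} ≤ Ideal.span {x} :=
        Ideal.span_singleton_le_span_singleton.2 (dvd_pow_self x n.succ_ne_zero)
      let g : (R ⧸ Ideal.span {x ^ (n + 1)}) →ₗ[R] R ⧸ Ideal.span {x} := Submodule.factor hle
      let μ : (R ⧸ Ideal.span {x ^ n}) →ₗ[R] R ⧸ Ideal.span {x ^ (n + 1)} :=
        Submodule.mapQ _ _ (LinearMap.mul R R x) (fun y hy => by
          obtain ⟨c, rfl⟩ := Ideal.mem_span_singleton'.1 hy
          exact Ideal.mem_span_singleton'.2 ⟨c, by rw [LinearMap.mul_apply']; ring⟩)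
      have hex : Function.Exact (LinearMap.range μ).subtype g := by
        refine LinearMap.exact_iff.2 ?_
        rw [Submodule.range_subtype]
        refine le_antisymm (fun z hz => ?_) ?_
        · obtain ⟨y, rfl⟩ := Submodule.Quotient.mk_surjective _ z
          obtain ⟨c, rfl⟩ := Ideal.mem_span_singleton'.1 ((Submodule.Quotient.mk_eq_zero _).1 hz)
          exact ⟨Submodule.Quotient.mk c, congrArg Submodule.Quotient.mk (mul_comm x c)⟩
        · rintro _ ⟨z, rfl⟩
          obtain ⟨y, rfl⟩ := Submodule.Quotient.mk_surjective _ z
          exact (Submodule.Quotient.mk_eq_zero _).2 (Ideal.mem_span_singleton'.2 ⟨y, mul_comm y x⟩)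
      rw [Module.length_eq_add_of_exact (LinearMap.range μ).subtype g (LinearMap.range μ).injective_subtype
        (Submodule.factor_surjective hle) hex]
      push_cast
      rw [add_mul, one_mul]
      gcongr
      exact (Module.length_le_of_surjective μ.rangeRestrict μ.surjective_rangeRestrict).trans ih
  · have h := Ring.ord_pow hx' n
    rw [nsmul_eq_mul] at h
    exact h

end Groth.Agent.S7114
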