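import Groth.Statements.S7116
import Groth.Agent.Lib.SopExt1.Basic

set_option autoImplicit false
universe u
open CAlg

namespace Groth.Agent.S7116

/-- Let R be a Noetherian local ring of Krull dimension d with maximal ideal m and let f be an element
of m contained in no minimal prime. Then there are g_1, ..., g_{d-1} in m and a natural number N
such that f, g_1, ..., g_{d-1} is a system of parameters (these d elements of m generate an ideal
with radical m) and, for every h in m^N, the elements f + h, g_1, ..., g_{d-1} again form a system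
of parameters and the lengths of R/(f, g_1, ..., g_{d-1}) and R/(f + h, g_1, ..., g_{d-1}) agree. -/
theorem result (R : Type u) [CommRing R] [IsNoetherianRing R] [IsLocalRing R]
    (d : ℕ) (hd : ringKrullDim R = d) (f : R) (hf : f ∈ IsLocalRing.maximalIdeal R)
    (hmin : ∀ p ∈ minimalPrimes R, f ∉ p) :
    ∃ (g : Fin (d - 1) → R) (N : ℕ), (∀ i, g i ∈ IsLocalRing.maximalIdeal R) ∧
      IsLocalRing.maximalIdeal R ≤ (Ideal.span (insert f (Set.range g))).radical ∧
      ∀ h ∈ IsLocalRing.maximalIdeal R ^ N,
        IsLocalRing.maximalIdeal R ≤ (Ideal.span (insert (f + h) (Set.range g))).radical ∧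
        Module.length R (R ⧸ Ideal.span (insert f (Set.range g))) =
          Module.length R (R ⧸ Ideal.span (insert (f + h) (Set.range g))) := by
  obtain ⟨g, -, hgm, hrad⟩ := SopExt1.exists_sop_extending hd hf hmin 1
  set J := Ideal.span (insert f (Set.range g)) with hJ
  obtain ⟨n, hn⟩ := Ideal.exists_pow_le_of_le_radical_of_fg hrad (IsNoetherian.noetherian _)
  refine ⟨g, n + 1, hgm, hrad, fun h hh => ?_⟩
  have hmJ : h ∈ IsLocalRing.maximalIdeal R * J := Ideal.mul_mono_right hn ((pow_succ' (IsLocalRing.maximalIdeal R) n).le hh)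
  have key : Ideal.span (insert (f + h) (Set.range g)) = J := by
    refine le_antisymm (Ideal.span_le.2 (Set.insert_subset_iff.2
      ⟨add_mem (Ideal.subset_span (Set.mem_insert _ _)) (Ideal.mul_le_right hmJ),
        fun _ hx => Ideal.subset_span (Set.mem_insert_of_mem _ hx)⟩)) ?_
    refine Submodule.le_of_le_smul_of_le_jacobson_bot (N := Ideal.span (insert (f + h) (Set.range g)))
      (I := IsLocalRing.maximalIdeal R) (IsNoetherian.noetherian J) (IsLocalRing.maximalIdeal_le_jacobson _) ?_
    refine Ideal.span_le.2 (Set.insert_subset_iff.2 ⟨?_, fun x hx =>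
      Submodule.mem_sup_left (Ideal.subset_span (Set.mem_insert_of_mem _ hx))⟩)
    show f ∈ _
    have h0 := Submodule.add_mem_sup (S := Ideal.span (insert (f + h) (Set.range g))) (T := IsLocalRing.maximalIdeal R • J)
      (Ideal.subset_span (Set.mem_insert (f + h) _)) (neg_mem hmJ)
    rwa [add_neg_cancel_right] at h0
  rw [key]
  exact ⟨hrad, rfl⟩

end Groth.Agent.S7116
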