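import Groth.Statements.S7117
import Mathlib
import Groth.Agent.Lib.HilbSam.Dim
import Groth.Agent.S7146

set_option autoImplicit false
universe u
open CAlg

namespace Groth.Agent.S7117


open Polynomial Filter Groth.Agent.HilbSam

theorem coeff_nonneg {d : ℕ} {P : ℚ[X]} (hP : P ∈ degreeLT ℚ (d + 1))
    (h : ∀ᶠ n : ℕ in atTop, 0 ≤ P.eval (n : ℚ)) : 0 ≤ P.coeff d := by
  by_contra hneg
  rw [not_le] at hneg
  have hP0 : P ≠ 0 := fun h0 => by simp [h0] at hneg
  have hdeg : P.natDegree = d := le_antisymm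
    (Nat.lt_succ_iff.1 ((natDegree_lt_iff_degree_lt hP0).2 (mem_degreeLT.1 hP)))
    (le_natDegree_of_ne_zero hneg.ne)
  have hlc : P.leadingCoeff < 0 := by rw [leadingCoeff, hdeg]; exact hneg
  rcases Nat.eq_zero_or_pos d with rfl | hd
  · obtain ⟨n, hn⟩ := h.exists
    rw [eq_C_of_natDegree_eq_zero hdeg, eval_C] at hn
    linarith
  · have := (P.tendsto_atBot_iff_leadingCoeff_nonpos.2
      ⟨natDegree_pos_iff_degree_pos.1 (hdeg ▸ hd), hlc.le⟩).comp tendsto_natCast_atTop_atTop
    obtain ⟨n, hn1, hn2⟩ := (h.and (this.eventually (eventually_lt_atBot 0))).exists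
    exact absurd hn1 (not_le.2 hn2)

theorem one_le_factorial_mul_coeff {d : ℕ} {q : ℚ[X]} (hq : q ∈ degreeLT ℚ (d + 1))
    (hne : q.coeff d ≠ 0) (f : ℕ → ℕ) (h : ∀ᶠ n : ℕ in atTop, (f n : ℚ) = q.eval (n : ℚ)) :
    1 ≤ (d.factorial : ℚ) * q.coeff d := by
  have hq0 : q ≠ 0 := fun h0 => hne (by simp [h0])
  have hdeg : q.natDegree = d := le_antisymm
    (Nat.lt_succ_iff.1 ((natDegree_lt_iff_degree_lt hq0).2 (mem_degreeLT.1 hq)))
    (le_natDegree_of_ne_zero hne)
  obtain ⟨N, hN⟩ := eventually_atTop.1 h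
  have h1 := congrFun q.fwdDiff_iter_degree_eq_factorial (N : ℚ)
  rw [hdeg, fwdDiff_iter_eq_sum_shift] at h1
  have h2 : ∃ z : ℤ, (d.factorial : ℚ) * q.coeff d = (z : ℚ) := by
    refine ⟨∑ k ∈ Finset.range (d + 1), ((-1 : ℤ) ^ (d - k) * d.choose k) * (f (N + k) : ℤ), ?_⟩
    have : (d.factorial : ℚ) * q.coeff d = (q.leadingCoeff • (d.factorial : ℚ → ℚ)) (N : ℚ) := by
      simp [leadingCoeff, hdeg, mul_comm]
    rw [this, ← h1, Int.cast_sum]
    refine Finset.sum_congr rfl fun k _ => ?_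
    rw [zsmul_eq_mul, nsmul_one, ← Nat.cast_add, ← hN (N + k) (Nat.le_add_right N k)]
    push_cast
    ring
  obtain ⟨z, hz⟩ := h2
  have hnn : 0 ≤ q.coeff d := coeff_nonneg hq (h.mono fun n hn => hn ▸ Nat.cast_nonneg _)
  have hpos : (0 : ℚ) < (d.factorial : ℚ) * q.coeff d :=
    mul_pos (by exact_mod_cast d.factorial_pos) (lt_of_le_of_ne hnn hne.symm)
  rw [hz] at hpos ⊢
  exact_mod_cast (Int.cast_pos.1 hpos : 0 < z)



/-- Let R be a Noetherian local ring of Krull dimension d with maximal ideal m, and suppose g_1, ...,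
g_d in m form a system of parameters (they generate an ideal with radical m). Then the number of
minimal prime ideals p of R with R/p of Krull dimension d is at most the length of R/(g_1, ...,
g_d). -/
theorem result (R : Type u) [CommRing R] [IsNoetherianRing R] [IsLocalRing R]
    (d : ℕ) (hd : ringKrullDim R = d) (g : Fin d → R) (hg : ∀ i, g i ∈ IsLocalRing.maximalIdeal R)
    (hsop : IsLocalRing.maximalIdeal R ≤ (Ideal.span (Set.range g)).radical) :
    (Set.ncard {p : Ideal R | p ∈ minimalPrimes R ∧ ringKrullDim (R ⧸ p) = d} : ℕ∞) ≤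
      Module.length R (R ⧸ Ideal.span (Set.range g)) := by
  classical
  set I := Ideal.span (Set.range g) with hIdef
  by_cases hL : Module.length R (R ⧸ I) = ⊤
  · rw [hL]; exact le_top
  have hIJ : I ≤ Ring.jacobson R := by
    rw [Ring.jacobson_eq_sInf_isMaximal]
    refine le_sInf fun m hm => ?_
    rw [IsLocalRing.eq_maximalIdeal hm]
    exact Ideal.span_le.2 (Set.range_subset_iff.2 hg)
  have hItop : I • (⊤ : Submodule R R) = I := by rw [smul_eq_mul, Ideal.mul_top]
  have hfinR : IsFiniteLength R (R ⧸ I • (⊤ : Submodule R R)) :=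
    Module.length_ne_top_iff.1 (by rwa [hItop])
  obtain ⟨L, hL⟩ := ENat.ne_top_iff_exists.1 hL
  let S := {p : Ideal R | p ∈ minimalPrimes R ∧ ringKrullDim (R ⧸ p) = d}
  have hSfin : S.Finite := (minimalPrimes.finite_of_isNoetherianRing R).subset fun p hp => hp.1
  haveI := hSfin.fintype
  have hprime : ∀ p : S, (p : Ideal R).IsPrime := fun p => p.2.1.1.1
  have hh : ∀ p : S, ∃ h : R, h ∉ (p : Ideal R) ∧ ∀ q : S, q ≠ p → h ∈ (q : Ideal R) := by
    intro p
    have hne : ∀ q : {q : S // q ≠ p}, ∃ a, a ∈ (q.1 : Ideal R) ∧ a ∉ (p : Ideal R) := fun q => by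
      by_contra! hcon
      exact q.2 (Subtype.ext (le_antisymm hcon (p.2.1.2 q.1.2.1.1 hcon)))
    choose a ha1 ha2 using hne
    haveI := hprime p
    refine ⟨∏ q, a q, fun hmem => ?_, fun q hq =>
      Ideal.mem_of_dvd _ (Finset.dvd_prod_of_mem a (Finset.mem_univ ⟨q, hq⟩)) (ha1 ⟨q, hq⟩)⟩
    obtain ⟨q, -, hq⟩ := (Ideal.IsPrime.prod_mem_iff (hp := hprime p)).1 hmem
    exact ha2 q hq
  choose h hh1 hh2 using hh
  let J : Ideal R := ⨅ p : S, (p : Ideal R)
  have hJp : ∀ p : S, J ≤ (p : Ideal R) := iInf_le _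
  let one : (p : S) → ((R ⧸ (p : Ideal R)) →ₗ[R] R ⧸ J) := fun p =>
    Submodule.liftQ (p : Ideal R) (LinearMap.toSpanSingleton R (R ⧸ J) (Submodule.Quotient.mk (h p)))
      fun a ha => by
        show a • (Submodule.Quotient.mk (h p) : R ⧸ J) = 0
        rw [← Submodule.Quotient.mk_smul, Submodule.Quotient.mk_eq_zero, smul_eq_mul]
        refine Submodule.mem_iInf _ |>.2 fun q => ?_
        by_cases hqp : q = p
        · subst hqp; exact Ideal.mul_mem_right _ _ ha
        · exact Ideal.mul_mem_left _ _ (hh2 p q hqp)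
  let Φ : ((p : S) → R ⧸ (p : Ideal R)) →ₗ[R] R ⧸ J := ∑ p, (one p).comp (LinearMap.proj p)
  have hΦ : Function.Injective Φ := by
    rw [← LinearMap.ker_eq_bot, LinearMap.ker_eq_bot']
    intro x hx
    funext p
    choose y hy using fun q => Submodule.Quotient.mk_surjective _ (x q)
    rw [Pi.zero_apply, ← hy p, Submodule.Quotient.mk_eq_zero]
    have hsum : ∑ q, y q * h q ∈ J := by
      rw [← Submodule.Quotient.mk_eq_zero]
      refine Eq.trans ?_ hx
      simp only [Φ, LinearMap.sum_apply, LinearMap.comp_apply, LinearMap.proj_apply, ← hy, one,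
        Submodule.liftQ_apply, LinearMap.toSpanSingleton_apply, ← Submodule.Quotient.mk_smul,
        smul_eq_mul]
      exact map_sum (Submodule.mkQ J) _ _
    have h2 := hJp p hsum
    rw [← Finset.add_sum_erase _ _ (Finset.mem_univ p)] at h2
    haveI := hprime p
    exact (Ideal.IsPrime.mem_or_mem (hprime p) ((Ideal.add_mem_iff_left _ (Ideal.sum_mem _ fun q hq =>
      Ideal.mul_mem_left _ _ (hh2 q p (Finset.ne_of_mem_erase hq).symm))).1 h2)).resolve_right (hh1 p)
  have hfinJ : IsFiniteLength R ((R ⧸ J) ⧸ I • (⊤ : Submodule R (R ⧸ J))) :=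
    isFiniteLength_quotient_of_surjective I (Submodule.mkQ J) (Submodule.mkQ_surjective _) hfinR
  obtain ⟨c, hc⟩ := exists_hs_le_of_injective I Φ hΦ hfinJ
  have hfinp : ∀ p : S, IsFiniteLength R ((R ⧸ (p : Ideal R)) ⧸ I • (⊤ : Submodule R (R ⧸ (p : Ideal R)))) :=
    fun p => isFiniteLength_quotient_of_surjective I (Submodule.mkQ _) (Submodule.mkQ_surjective _) hfinR
  choose Q hQ N hN using fun p : S => polyLT_hs (M := R ⧸ (p : Ideal R)) g (hfinp p)
  have hev : ∀ p : S, ∀ᶠ n : ℕ in atTop, (hs I (R ⧸ (p : Ideal R)) n : ℚ) = (Q p).eval (n : ℚ) :=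
    fun p => eventually_atTop.2 ⟨N p, hN p⟩
  have hQne : ∀ p : S, (Q p).coeff d ≠ 0 := fun p h0 => by
    haveI := hprime p
    have hQd : Q p ∈ degreeLT ℚ d := by
      rw [mem_degreeLT, degree_lt_iff_coeff_zero]
      intro m hm
      rcases eq_or_lt_of_le hm with rfl | hlt
      · exact h0
      · exact (degree_lt_iff_coeff_zero _ _).1 (mem_degreeLT.1 (hQ p)) m hlt
    obtain ⟨l, hl⟩ := Order.le_krullDim_iff.1 (p.2.2.ge : (d : WithBot ℕ∞) ≤ ringKrullDim (R ⧸ (p : Ideal R)))
    let l' : LTSeries (PrimeSpectrum R) := l.map (PrimeSpectrum.comap (Ideal.Quotient.mk (p : Ideal R)))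
      fun a b hab => (PrimeSpectrum.asIdeal_lt_asIdeal _ _).1 (lt_of_le_of_ne
        (Ideal.comap_mono ((PrimeSpectrum.asIdeal_le_asIdeal _ _).2 hab.le))
        fun e => hab.ne (PrimeSpectrum.ext (Ideal.comap_injective_of_surjective _
          Ideal.Quotient.mk_surjective e)))
    have hlt := length_lt_of_hs hIJ d l' (p : Ideal R) (fun a ha => by
      show a ∈ Ideal.comap _ _
      rw [Ideal.mem_comap, Ideal.Quotient.eq_zero_iff_mem.2 ha]
      exact zero_mem _) (hfinp p) (Q p) hQd (hev p)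
    have : l'.length = l.length := rfl
    omega
  have hsum : ∀ n : ℕ, 1 ≤ n → (d.factorial : ℚ) * ∑ p : S, (hs I (R ⧸ (p : Ideal R)) n : ℚ) ≤
      (L : ℚ) * ((n : ℚ) + (c + d)) ^ d := by
    intro n hn
    let M := (p : S) → R ⧸ (p : Ideal R)
    let Ψ : M →ₗ[R] (p : S) → (R ⧸ (p : Ideal R)) ⧸ I ^ n • (⊤ : Submodule R (R ⧸ (p : Ideal R))) :=
      LinearMap.pi fun p => (Submodule.mkQ _).comp (LinearMap.proj p)
    have hker : I ^ n • (⊤ : Submodule R M) ≤ LinearMap.ker Ψ := by
      rw [Submodule.smul_le]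
      intro a ha m _
      rw [LinearMap.mem_ker]
      funext p
      exact (Submodule.Quotient.mk_eq_zero _).2 (Submodule.smul_mem_smul ha trivial)
    have hsurj : Function.Surjective (Submodule.liftQ _ Ψ hker) := fun y => by
      choose z hz using fun p => Submodule.Quotient.mk_surjective _ (y p)
      exact ⟨Submodule.Quotient.mk z, funext hz⟩
    have hfinM : IsFiniteLength R (M ⧸ I • (⊤ : Submodule R M)) :=
      isFiniteLength_of_support fun P hP => by
        refine isMaximal_of_mem_support hfinR ?_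
        rw [Module.support_quotient] at hP ⊢
        exact ⟨Module.mem_support_iff_of_finite.2 (by
          rw [show Module.annihilator R R = ⊥ from Module.annihilator_eq_bot.2 inferInstance]
          exact bot_le), hP.2⟩
    have h1 : ∑ p : S, hs I (R ⧸ (p : Ideal R)) n ≤ hs I M n := by
      have := Module.length_le_of_surjective _ hsurj
      rw [Module.length_pi_of_fintype] at this
      refine le_trans (le_of_eq ?_) (ENat.toNat_le_toNat this (length_quotient_pow_ne_top hfinM n))
      exact (ENat.toNat_sum fun p _ => length_quotient_pow_ne_top (hfinp p) n).symm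
    have h2 := hc n
    have h3 : hs I (R ⧸ J) (n + c) ≤ hs I R (n + c) :=
      hs_le_of_surjective I _ (Submodule.mkQ_surjective J) hfinR _
    obtain ⟨k, hk⟩ : ∃ k, n + c = k + 1 := ⟨n + c - 1, by omega⟩
    have h4 := S7146.length_quot_pow_le g k
    rw [← hL, ← Nat.cast_mul] at h4
    have h5 : hs I R (n + c) ≤ Nat.multichoose (d + 1) k * L := by
      rw [hk]
      show (Module.length R (R ⧸ I ^ (k + 1) • (⊤ : Submodule R R))).toNat ≤ _
      rw [smul_eq_mul, Ideal.mul_top]
      exact ENat.toNat_le_of_le_coe h4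
    have h6 : d.factorial * Nat.multichoose (d + 1) k ≤ (n + (c + d)) ^ d := by
      rw [Nat.multichoose_eq, show d + 1 + k - 1 = k + d by omega, Nat.choose_symm_add,
        ← Nat.ascFactorial_eq_factorial_mul_choose]
      exact (Nat.ascFactorial_le_pow_add k d).trans (Nat.pow_le_pow_left (by omega) d)
    have h7 : d.factorial * ∑ p : S, hs I (R ⧸ (p : Ideal R)) n ≤ L * (n + (c + d)) ^ d := by
      refine (Nat.mul_le_mul_left _ ((h1.trans h2).trans (h3.trans h5))).trans ?_
      rw [← mul_assoc, mul_comm L]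
      exact Nat.mul_le_mul_right _ h6
    exact_mod_cast h7
  let P : ℚ[X] := C (L : ℚ) * (X + C ((c : ℚ) + d)) ^ d - C (d.factorial : ℚ) * ∑ p : S, Q p
  have hP : P ∈ degreeLT ℚ (d + 1) := by
    refine Submodule.sub_mem _ ?_ ?_
    · rw [C_mul']
      refine Submodule.smul_mem _ _ ?_
      rw [mem_degreeLT, degree_pow, degree_X_add_C, nsmul_one]
      exact_mod_cast Nat.lt_succ_self d
    · rw [C_mul']
      exact Submodule.smul_mem _ _ (Submodule.sum_mem _ fun p _ => hQ p)
  have hPn : ∀ᶠ n : ℕ in atTop, 0 ≤ P.eval (n : ℚ) := by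
    filter_upwards [eventually_all.2 hev, eventually_ge_atTop 1] with n hn hn1
    have := hsum n hn1
    simp only [hn] at this
    simp only [P, eval_sub, eval_mul, eval_C, eval_pow, eval_add, eval_X, eval_finsetSum]
    linarith
  have hcoeff := coeff_nonneg hP hPn
  have hmon : ((X + C ((c : ℚ) + d)) ^ d).coeff d = 1 := by
    have h1 := ((monic_X_add_C ((c : ℚ) + d)).pow d).coeff_natDegree
    rwa [natDegree_pow, natDegree_X_add_C, mul_one] at h1
  simp only [P, coeff_sub, coeff_C_mul, hmon, mul_one, finsetSum_coeff, Finset.mul_sum] at hcoeff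
  have hcard : (Fintype.card S : ℚ) ≤ L := by
    have := Finset.card_nsmul_le_sum Finset.univ (fun p : S => (d.factorial : ℚ) * (Q p).coeff d) 1
      fun p _ => one_le_factorial_mul_coeff (hQ p) (hQne p) _ (hev p)
    rw [nsmul_one, Finset.card_univ] at this
    linarith
  rw [← hL, ← Nat.card_coe_set_eq, Nat.card_eq_fintype_card, Nat.cast_le]
  exact_mod_cast hcard

end Groth.Agent.S7117
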