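import Groth.Statements.S7118
import Groth.Agent.Lib.RedHyp1.Main
import Groth.Agent.Lib.IntMult26.Samuel

set_option autoImplicit false
universe u
open CAlg

namespace Groth.Agent.S7118

open IsLocalRing in
theorem hco2 {R : Type*} [CommRing R] [IsDomain R] [IsNoetherianRing R] [IsLocalRing R]
    (hdim : ringKrullDim R = 2) (P : Ideal R) (hP : P.IsPrime) (h1 : P.height = 1) :
    ringKrullDim (R ⧸ P) = ((1 : ℕ) : WithBot ℕ∞) := by
  refine le_antisymm ?_ ?_
  · have hlt : (⊥ : PrimeSpectrum R) < ⟨P, hP⟩ := by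
      refine (PrimeSpectrum.asIdeal_lt_asIdeal _ _).1 (bot_lt_iff_ne_bot.2 fun e => ?_)
      rw [show P = ⊥ from e, Ideal.height_bot] at h1
      exact zero_ne_one h1
    have h := IntMult26.ringKrullDim_quotient_succ_le hlt
    have e : ringKrullDim (R ⧸ (⊥ : PrimeSpectrum R).asIdeal) = 2 := by
      rw [← hdim]
      exact ringKrullDim_eq_of_ringEquiv (RingEquiv.quotientBot R)
    rw [e, show (2 : WithBot ℕ∞) = ((1 : ℕ) : WithBot ℕ∞) + 1 by rfl] at h
    exact Groth.Agent.RedHyp1.le_of_add_one_le h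
  · have hne : P ≠ maximalIdeal R := by
      intro e
      have := IsLocalRing.maximalIdeal_height_eq_ringKrullDim (R := R)
      rw [← e, h1, hdim] at this
      exact absurd (WithBot.coe_inj.1 this) (by decide)
    rw [ringKrullDim_quotient, Nat.cast_one, Order.one_le_krullDim_iff]
    refine ⟨⟨⟨P, hP⟩, fun x hx => hx⟩, ⟨⟨maximalIdeal R, inferInstance⟩, le_maximalIdeal hP.ne_top⟩, ?_⟩
    exact (PrimeSpectrum.asIdeal_lt_asIdeal _ _).1 ((le_maximalIdeal hP.ne_top).lt_of_ne hne)


/-- Let A be a Noetherian normal local domain of Krull dimension 2 and a a nonzero element of the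
maximal ideal. Then there is a nonzero element c of A such that A/cA is reduced and a divides some
power cⁿ. (The published statement does not require c to be nonzero and is then satisfied by c = 0;
this row requires c ≠ 0.) -/
theorem result (A : Type u) [CommRing A] [IsDomain A] [IsNoetherianRing A]
    [IsLocalRing A] [IsIntegrallyClosed A] (hdim : ringKrullDim A = 2) (a : A)
    (ha : a ∈ IsLocalRing.maximalIdeal A) (ha0 : a ≠ 0) :
    ∃ c : A, c ≠ 0 ∧ IsReduced (A ⧸ Ideal.span {c}) ∧ ∃ n : ℕ, a ∣ c ^ n := by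
  have hdim' : ringKrullDim A = (((1 + 1 : ℕ)) : WithBot ℕ∞) := hdim
  obtain ⟨f, hf, hf0, hred⟩ := RedHyp1.exists_reduced 1 hdim' (hco2 hdim) (Ideal.span {a}).radical
    (Ideal.radical_isRadical _) (fun e => ha0 (Ideal.mem_bot.1 (e ▸ Ideal.le_radical (Ideal.mem_span_singleton_self a))))
  obtain ⟨n, hn⟩ := hf
  exact ⟨f, hf0, hred, n, Ideal.mem_span_singleton.1 hn⟩

end Groth.Agent.S7118
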