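import Groth.Statements.S7119
import Groth.Agent.Lib.RedHyp1.Main
import Groth.Agent.Lib.IntMult26.Samuel

set_option autoImplicit false
universe u
open CAlg

namespace Groth.Agent.S7119

open IsLocalRing in
theorem hco2 {R : Type*} [CommRing R] [IsDomain R] [IsNoetherianRing R] [IsLocalRing R]
    (hdim : ringKrullDim R = 2) (P : Ideal R) (hP : P.IsPrime) (h1 : P.height = 1) :
    ringKrullDim (R ⧸ P) = ((1 : ℕ) : WithBot ℕ∞) := by
  refine le_antisymm ?_ ?_
  · have hlt : (⊥ : PrimeSpectrum R) < ⟨P, hP⟩ := by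
      refine (PrimeSpectrum.asIdeal_lt_asIdeal _ _).1 (bot_lt_iff_ne_bot.2 fun e => ?_)
      rw [show P = ⊥ from e, Ideal.height_bot] at h1
      exact zero_ne_one h1
    have h := IntMult26.ringKrullDim_quotient_succ_le hlt
    have e : ringKrullDim (R ⧸ (⊥ : PrimeSpectrum R).asIdeal) = 2 := by
      rw [← hdim]
      exact ringKrullDim_eq_of_ringEquiv (RingEquiv.quotientBot R)
    rw [e, show (2 : WithBot ℕ∞) = ((1 : ℕ) : WithBot ℕ∞) + 1 by rfl] at h
    exact Groth.Agent.RedHyp1.le_of_add_one_le h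
  · have hne : P ≠ maximalIdeal R := by
      intro e
      have := IsLocalRing.maximalIdeal_height_eq_ringKrullDim (R := R)
      rw [← e, h1, hdim] at this
      exact absurd (WithBot.coe_inj.1 this) (by decide)
    rw [ringKrullDim_quotient, Nat.cast_one, Order.one_le_krullDim_iff]
    refine ⟨⟨⟨P, hP⟩, fun x hx => hx⟩, ⟨⟨maximalIdeal R, inferInstance⟩, le_maximalIdeal hP.ne_top⟩, ?_⟩
    exact (PrimeSpectrum.asIdeal_lt_asIdeal _ _).1 ((le_maximalIdeal hP.ne_top).lt_of_ne hne)


/-- Let R be a Noetherian normal local domain of Krull dimension 2 and let p_1, ..., p_r be finitely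
many prime ideals of height one. Then there is a nonzero element f lying in all the p_i such that
R/fR is reduced. -/
theorem result (R : Type u) [CommRing R] [IsDomain R]
    [IsNoetherianRing R] [IsLocalRing R] [IsIntegrallyClosed R] (hdim : ringKrullDim R = 2)
    (s : Finset (Ideal R)) (hs : ∀ p ∈ s, p.IsPrime ∧ p.height = 1) :
    ∃ f : R, f ≠ 0 ∧ (∀ p ∈ s, f ∈ p) ∧ IsReduced (R ⧸ Ideal.span {f}) := by
  classical
  have hdim' : ringKrullDim R = (((1 + 1 : ℕ)) : WithBot ℕ∞) := hdim
  have hJ : (s.inf id).IsRadical ∧ s.inf id ≠ ⊥ := by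
    induction s using Finset.induction_on with
    | empty => simp [Ideal.IsRadical]
    | insert a t hat ih =>
      obtain ⟨ih1, ih2⟩ := ih fun p hp => hs p (Finset.mem_insert_of_mem hp)
      obtain ⟨ha1, ha2⟩ := hs a (Finset.mem_insert_self a t)
      rw [Finset.inf_insert]
      refine ⟨Ideal.IsRadical.inf ha1.isRadical ih1, fun e => ?_⟩
      rcases Ideal.mul_eq_bot.1 (le_bot_iff.1 (Ideal.mul_le_inf.trans e.le)) with h | h
      · rw [show a = ⊥ from h, Ideal.height_bot] at ha2
        exact zero_ne_one ha2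
      · exact ih2 h
  obtain ⟨f, hf, hf0, hred⟩ := RedHyp1.exists_reduced 1 hdim' (hco2 hdim) (s.inf id) hJ.1 hJ.2
  exact ⟨f, hf0, fun p hp => (Finset.inf_le (f := id) hp) hf, hred⟩

end Groth.Agent.S7119
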