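import Groth.Statements.S7121
import Mathlib
import Groth.Agent.Lib.CAlgLow.BezoutFree

set_option autoImplicit false
universe u
open CAlg

namespace Groth.Agent.S7121


open scoped TensorProduct

variable {R : Type u} [CommRing R]

/-- `g` factors through a finite product of cyclic modules. -/
def Fac {T T' : Type u} [AddCommGroup T] [Module R T] [AddCommGroup T'] [Module R T'] (g : T →ₗ[R] T') : Prop :=
  ∃ (ι : Type) (_ : Fintype ι) (f : ι → R) (i : T →ₗ[R] ((j : ι) → R ⧸ Ideal.span {f j}))
    (p : ((j : ι) → R ⧸ Ideal.span {f j}) →ₗ[R] T'), p ∘ₗ i = g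

theorem fac_add {T T' : Type u} [AddCommGroup T] [Module R T] [AddCommGroup T'] [Module R T']
    {g h : T →ₗ[R] T'} (hg : Fac g) (hh : Fac h) : Fac (g + h) := by
  obtain ⟨a, _, f, i, p, rfl⟩ := hg
  obtain ⟨b, _, f', i', p', rfl⟩ := hh
  let e := LinearEquiv.sumPiEquivProdPi R a b (fun k => R ⧸ Ideal.span {Sum.elim f f' k})
  exact ⟨a ⊕ b, inferInstance, Sum.elim f f', e.symm.toLinearMap ∘ₗ i.prod i',
    p.coprod p' ∘ₗ e.toLinearMap, LinearMap.ext fun x => by
      show (p.coprod p') (e (e.symm ((i.prod i') x))) = p (i x) + p' (i' x)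
      rw [LinearEquiv.apply_symm_apply]
      rfl⟩

theorem fac_comp {T T' U U' : Type u} [AddCommGroup T] [Module R T] [AddCommGroup T'] [Module R T']
    [AddCommGroup U] [Module R U] [AddCommGroup U'] [Module R U'] {g : T →ₗ[R] T'} (hg : Fac g)
    (α : T' →ₗ[R] U') (β : U →ₗ[R] T) : Fac (α ∘ₗ g ∘ₗ β) := by
  obtain ⟨a, _, f, i, p, rfl⟩ := hg
  exact ⟨a, inferInstance, f, i ∘ₗ β, α ∘ₗ p, rfl⟩

theorem fac_cyclic {T T' : Type u} [AddCommGroup T] [Module R T] [AddCommGroup T'] [Module R T'] (d : R)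
    (β : T →ₗ[R] R ⧸ Ideal.span {d}) (α : (R ⧸ Ideal.span {d}) →ₗ[R] T') : Fac (α ∘ₗ β) :=
  ⟨Unit, inferInstance, fun _ => d, LinearMap.pi fun _ => β, α ∘ₗ LinearMap.proj (), rfl⟩

/-- In a Bézout ring two elements are comparable near a maximal ideal. -/
theorem compare [IsBezout R] (m : Ideal R) (hm : m.IsMaximal) (a b : R) :
    ∃ s ∉ m, a ∣ s * b ∨ b ∣ s * a := by
  by_cases h0 : a = 0 ∧ b = 0
  · exact ⟨1, (Ideal.ne_top_iff_one m).1 hm.ne_top, Or.inl (by simp [h0.1, h0.2])⟩
  obtain ⟨g, hg⟩ := (IsBezout.iff_span_pair_isPrincipal.1 ‹IsBezout R› a b).principal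
  rw [← Ideal.span] at hg
  obtain ⟨a', ha⟩ := Ideal.mem_span_singleton'.1 (hg.le (Ideal.subset_span (Set.mem_insert a {b})))
  obtain ⟨b', hb⟩ := Ideal.mem_span_singleton'.1 (hg.le (Ideal.subset_span (Set.mem_insert_of_mem a rfl)))
  obtain ⟨x, y, hxy⟩ := Ideal.mem_span_pair.1 (hg.ge (Ideal.mem_span_singleton_self g))
  by_cases h : a' ∈ m
  · by_cases h' : b' ∈ m
    · refine ⟨1 - (x * a' + y * b'), fun hmem => ?_, Or.inl ?_⟩
      · exact (Ideal.ne_top_iff_one m).1 hm.ne_top (by
          simpa using add_mem hmem (add_mem (m.mul_mem_left x h) (m.mul_mem_left y h')))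
      · exact ⟨0, by linear_combination (-(1 - (x * a' + y * b')) - b' * y) * hb + (-b') * hxy + (-(b' * x)) * ha⟩
    · exact ⟨b', h', Or.inr ⟨a', by linear_combination a' * hb - b' * ha⟩⟩
  · exact ⟨a', h, Or.inl ⟨b', by linear_combination b' * ha - a' * hb⟩⟩

theorem exists_min [IsBezout R] (m : Ideal R) (hm : m.IsMaximal) (s : Finset R) (hs : s.Nonempty) :
    ∃ d ∈ s, ∃ t ∉ m, ∀ a ∈ s, d ∣ t * a := by
  classical
  induction hs using Finset.Nonempty.cons_induction with
  | singleton a => exact ⟨a, by simp, 1, (Ideal.ne_top_iff_one m).1 hm.ne_top, by simp⟩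
  | cons a s has hs ih =>
    obtain ⟨d, hd, t, ht, hdiv⟩ := ih
    obtain ⟨u, hu, h | h⟩ := compare m hm d a
    · refine ⟨d, Finset.mem_cons_of_mem hd, t * u, fun h' => (hm.isPrime.mem_or_mem h').elim ht hu, ?_⟩
      intro b hb
      rcases Finset.mem_cons.1 hb with rfl | hb
      · rw [mul_assoc]; exact h.mul_left t
      · rw [mul_right_comm]; exact (hdiv b hb).mul_right u
    · refine ⟨a, Finset.mem_cons_self a s, t * u, fun h' => (hm.isPrime.mem_or_mem h').elim ht hu, ?_⟩
      intro b hb
      rcases Finset.mem_cons.1 hb with rfl | hb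
      · exact dvd_mul_left b _
      · obtain ⟨c, hc⟩ := hdiv b hb
        rw [show t * u * b = u * d * c by linear_combination u * hc]
        exact h.mul_right c

/-- Locally, a finitely presented module is a retract of a product of cyclic modules. -/
theorem local_fac [IsBezout R] (m : Ideal R) (hm : m.IsMaximal) :
    ∀ (n : ℕ) (G : Finset (Fin n → R)), ∃ s ∉ m,
      Fac (s • (LinearMap.id : ((Fin n → R) ⧸ Submodule.span R (G : Set (Fin n → R))) →ₗ[R] _)) := by
  classical
  intro n
  induction n with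
  | zero =>
    intro G
    refine ⟨1, (Ideal.ne_top_iff_one m).1 hm.ne_top, PEmpty, inferInstance, fun j => j.elim, 0, 0, ?_⟩
    ext x
    exact Fin.elim0 x
  | succ n ih =>
    intro G
    set N := Submodule.span R (G : Set (Fin (n + 1) → R)) with hN
    let E : Finset R := G.biUnion fun g => Finset.univ.image g
    rcases E.eq_empty_or_nonempty with hE | hE
    · have hbot : N = ⊥ := by
        rw [hN, Submodule.span_eq_bot]
        intro g hg
        have : g 0 ∈ E := Finset.mem_biUnion.2 ⟨g, hg, Finset.mem_image.2 ⟨0, Finset.mem_univ _, rfl⟩⟩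
        rw [hE] at this
        exact absurd this (Finset.notMem_empty _)
      refine ⟨1, (Ideal.ne_top_iff_one m).1 hm.ne_top, ?_⟩
      rw [one_smul]
      refine ⟨Fin (n + 1), inferInstance, fun _ => 0,
        N.liftQ (LinearMap.pi fun j => (Submodule.mkQ _).comp (LinearMap.proj j)) (by rw [hbot]; exact bot_le),
        LinearMap.lsum R (fun _ => R ⧸ Ideal.span {(0 : R)}) R fun j =>
          Submodule.liftQ _ (N.mkQ ∘ₗ LinearMap.single R (fun _ => R) j) (by simp), ?_⟩
      ext j
      simp [Pi.single_apply, apply_ite, Finset.sum_ite_eq']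
      rfl
    obtain ⟨d, hd, s, hs, hdiv⟩ := exists_min m hm E hE
    obtain ⟨v, hv, hvd⟩ := Finset.mem_biUnion.1 hd
    obtain ⟨i₀, -, hi₀⟩ := Finset.mem_image.1 hvd
    have hall : ∀ x ∈ N, ∀ k, d ∣ s * x k := by
      intro x hx k
      refine Submodule.span_induction (fun g hg => hdiv _ ?_) (by simp) (fun a b _ _ ha hb => ?_)
        (fun c a _ ha => ?_) hx
      · exact Finset.mem_biUnion.2 ⟨g, hg, Finset.mem_image.2 ⟨k, Finset.mem_univ _, rfl⟩⟩
      · rw [Pi.add_apply, mul_add]; exact dvd_add ha hb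
      · rw [Pi.smul_apply, smul_eq_mul, mul_left_comm]; exact ha.mul_left c
    let E' := Fin.insertNthEquiv (fun _ => R) i₀
    have hvN : v ∈ N := Submodule.subset_span hv
    choose b hb using hall v hvN
    let γ : (Fin (n + 1) → R) →ₗ[R] (Fin n → R) :=
      LinearMap.pi fun k => s • LinearMap.proj (i₀.succAbove k) - b (i₀.succAbove k) • LinearMap.proj i₀
    obtain ⟨t, ht, hfac⟩ := ih (G.image γ)
    set N' := Submodule.span R ((G.image γ : Finset _) : Set (Fin n → R)) with hN'
    let bb : Fin (n + 1) → R := Function.update b i₀ s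
    let β₁ : ((Fin (n + 1) → R) ⧸ N) →ₗ[R] R ⧸ Ideal.span {d} :=
      N.liftQ ((Submodule.mkQ _).comp (s • LinearMap.proj i₀)) fun x hx =>
        (Submodule.Quotient.mk_eq_zero _).2 (Ideal.mem_span_singleton.2 (hall x hx i₀))
    let β₂ : ((Fin (n + 1) → R) ⧸ N) →ₗ[R] (Fin n → R) ⧸ N' :=
      N.liftQ (N'.mkQ.comp γ) (by
        rw [hN, Submodule.span_le]
        intro g hg
        exact (Submodule.Quotient.mk_eq_zero _).2
          (Submodule.subset_span (Finset.mem_coe.2 (Finset.mem_image_of_mem γ (Finset.mem_coe.1 hg)))))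
    have hdb : d • bb = s • v := funext fun k => by
      by_cases hk : k = i₀
      · subst hk; simp [bb, hi₀, mul_comm]
      · simp [bb, hk, hb]
    let α₁ : (R ⧸ Ideal.span {d}) →ₗ[R] (Fin (n + 1) → R) ⧸ N :=
      Submodule.liftQ _ (LinearMap.toSpanSingleton R _ (N.mkQ bb)) fun a ha => by
        obtain ⟨c, rfl⟩ := Ideal.mem_span_singleton'.1 ha
        show (c * d) • N.mkQ bb = 0
        rw [← map_smul, mul_smul, hdb]
        exact (Submodule.Quotient.mk_eq_zero _).2 (N.smul_mem _ (N.smul_mem _ hvN))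
    let ins : (Fin n → R) →ₗ[R] (Fin (n + 1) → R) :=
      LinearMap.pi (i₀.insertNth 0 fun k => LinearMap.proj k)
    have hins : ∀ x, ins (γ x) = s • x - x i₀ • bb := fun x => funext fun k => by
      rcases Fin.eq_self_or_eq_succAbove i₀ k with rfl | ⟨k, rfl⟩
      · simp [ins, bb, mul_comm]
      · simp [ins, bb, γ, Fin.succAbove_ne, mul_comm]
    let α₂ : ((Fin n → R) ⧸ N') →ₗ[R] (Fin (n + 1) → R) ⧸ N :=
      N'.liftQ (s • (N.mkQ.comp ins)) (by
        rw [hN', Submodule.span_le]
        intro g' hg'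
        obtain ⟨g, hg, rfl⟩ := Finset.mem_image.1 (Finset.mem_coe.1 hg')
        show s • N.mkQ (ins (γ g)) = 0
        obtain ⟨c, hc⟩ := hall g (Submodule.subset_span hg) i₀
        rw [hins, ← map_smul, smul_sub, smul_smul s (g i₀), hc, mul_comm d c, mul_smul c d, hdb]
        exact (Submodule.Quotient.mk_eq_zero _).2 (sub_mem
          (N.smul_mem _ (N.smul_mem _ (Submodule.subset_span hg))) (N.smul_mem _ (N.smul_mem _ hvN))))
    refine ⟨t * (s * s), fun h => (hm.isPrime.mem_or_mem h).elim ht fun h' =>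
      (hm.isPrime.mem_or_mem h').elim hs hs, ?_⟩
    have key : (t * (s * s)) • (LinearMap.id : ((Fin (n + 1) → R) ⧸ N) →ₗ[R] _) =
        (t • α₁) ∘ₗ β₁ + α₂ ∘ₗ (t • LinearMap.id) ∘ₗ β₂ := by
      refine Submodule.linearMap_qext _ (LinearMap.ext fun x => ?_)
      show (t * (s * s)) • N.mkQ x = t • ((s * x i₀) • N.mkQ bb) + α₂ (t • N'.mkQ (γ x))
      rw [map_smul α₂, show α₂ (N'.mkQ (γ x)) = s • N.mkQ (ins (γ x)) from rfl, hins, map_sub, map_smul,
        map_smul]
      simp only [smul_sub, smul_smul]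
      rw [show t * (s * x i₀) = t * s * x i₀ by ring, show t * (s * s) = t * s * s by ring]
      abel
    rw [key]
    exact fac_add (fac_cyclic d β₁ (t • α₁)) (fac_comp hfac α₂ β₂)

/-- The retraction statement for finitely presented modules. -/
theorem fac_id [IsBezout R] (T : Type u) [AddCommGroup T] [Module R T] [Module.FinitePresentation R T] :
    Fac (LinearMap.id : T →ₗ[R] T) := by
  classical
  obtain ⟨n, q, hq⟩ := Module.Finite.exists_fin' R T
  obtain ⟨G, hG⟩ := Module.FinitePresentation.fg_ker q hq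
  let e : ((Fin n → R) ⧸ Submodule.span R (G : Set (Fin n → R))) ≃ₗ[R] T :=
    (Submodule.quotEquivOfEq _ _ hG).trans (q.quotKerEquivOfSurjective hq)
  let J : Ideal R :=
    { carrier := {a | Fac (a • (LinearMap.id : T →ₗ[R] T))}
      add_mem' := fun {a b} ha hb => by
        show Fac _
        rw [add_smul]; exact fac_add ha hb
      zero_mem' := by
        show Fac _
        exact ⟨PEmpty, inferInstance, fun j => j.elim, 0, 0, by simp⟩
      smul_mem' := fun c a ha => by
        show Fac _
        rw [smul_eq_mul, mul_smul]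
        exact fac_comp ha (c • LinearMap.id) LinearMap.id }
  suffices J = ⊤ by
    have h : (1 : R) ∈ J := this ▸ Submodule.mem_top
    exact (one_smul R (LinearMap.id : T →ₗ[R] T)) ▸ h
  by_contra hJ
  obtain ⟨m, hm, hle⟩ := Ideal.exists_le_maximal J hJ
  obtain ⟨s, hs, hfac⟩ := local_fac m hm n G
  refine hs (hle ?_)
  show Fac _
  have : s • (LinearMap.id : T →ₗ[R] T) = e.toLinearMap ∘ₗ (s • LinearMap.id) ∘ₗ e.symm.toLinearMap := by
    ext x; simp
  rw [this]
  exact fac_comp hfac _ _



/-- Over a Bézout domain R, a finitely presented module M splits as R^r ⊕ M_tors for some r, and its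
torsion part M_tors is a retract (direct summand) of R/f_1R ⊕ … ⊕ R/f_nR for some nonzero f_1, …,
f_n. -/
theorem result (R : Type u) [CommRing R] [IsDomain R] [IsBezout R]
    (M : Type u) [AddCommGroup M] [Module R M] [Module.FinitePresentation R M] :
    (∃ r : ℕ, Nonempty (M ≃ₗ[R] ((Fin r → R) × Submodule.torsion R M))) ∧
      ∃ (n : ℕ) (f : Fin n → R), (∀ j, f j ≠ 0) ∧
        ∃ (i : Submodule.torsion R M →ₗ[R] ((j : Fin n) → R ⧸ Ideal.span {f j}))
          (p : ((j : Fin n) → R ⧸ Ideal.span {f j}) →ₗ[R] Submodule.torsion R M),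
          p ∘ₗ i = LinearMap.id := by
  classical
  let T := Submodule.torsion R M
  let K := FractionRing R
  let j : M →ₗ[R] K ⊗[R] M := TensorProduct.mk R K M 1
  have hj : LinearMap.ker j = T := by
    haveI : IsLocalizedModule (nonZeroDivisors R) j :=
      (isLocalizedModule_iff_isBaseChange (nonZeroDivisors R) K j).2 (TensorProduct.isBaseChange R M K)
    ext x
    rw [LinearMap.mem_ker, IsLocalizedModule.eq_zero_iff (nonZeroDivisors R) j, Submodule.mem_torsion_iff]
  let β := Module.finBasis K (K ⊗[R] M)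
  obtain ⟨gs, hgs⟩ := (Module.Finite.fg_top : (⊤ : Submodule R M).FG)
  obtain ⟨d, hd⟩ := IsLocalization.exist_integer_multiples (nonZeroDivisors R) (gs ×ˢ Finset.univ)
    (fun z : M × Fin _ => β.repr (j z.1) z.2)
  let φ : M →ₗ[R] (Fin (Module.finrank K (K ⊗[R] M)) → K) :=
    (d : R) • ((β.equivFun.toLinearMap.restrictScalars R) ∘ₗ j)
  have hφ : ∀ x k, φ x k ∈ LinearMap.range (Algebra.linearMap R K) := by
    intro x k
    have hx : x ∈ Submodule.span R (gs : Set M) := hgs.ge trivial
    refine Submodule.span_induction (fun g hg => ?_) (by simp) (fun a b _ _ ha hb => ?_)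
      (fun c a _ ha => ?_) hx
    · obtain ⟨e, he⟩ := hd (g, k) (Finset.mem_product.2 ⟨hg, Finset.mem_univ _⟩)
      exact ⟨e, he.trans (by simp [φ, Algebra.smul_def])⟩
    · rw [map_add]; exact add_mem ha hb
    · rw [map_smul]; exact Submodule.smul_mem _ c ha
  let eR := LinearEquiv.ofInjective (Algebra.linearMap R K) (IsFractionRing.injective R K)
  let ψ : M →ₗ[R] (Fin (Module.finrank K (K ⊗[R] M)) → R) :=
    LinearMap.pi fun k => eR.symm.toLinearMap ∘ₗ ((LinearMap.proj k ∘ₗ φ).codRestrict _ fun x => hφ x k)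
  have hψ : LinearMap.ker ψ = T := by
    ext x
    rw [← hj, LinearMap.mem_ker, LinearMap.mem_ker]
    constructor
    · intro h
      refine β.equivFun.injective ?_
      rw [map_zero]
      funext k
      have h2 : φ x k = 0 := congrArg Subtype.val (eR.symm.map_eq_zero_iff.1 (congrFun h k))
      simp only [φ, LinearMap.smul_apply, LinearMap.comp_apply, Pi.smul_apply] at h2
      rw [Algebra.smul_def] at h2
      exact (mul_eq_zero.1 h2).resolve_left
        (IsFractionRing.to_map_ne_zero_of_mem_nonZeroDivisors d.2)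
    · intro h
      funext k
      refine eR.symm.map_eq_zero_iff.2 (Subtype.ext ?_)
      simp [φ, h]
  haveI : Module.Free R (M ⧸ T) := by
    refine CAlgLow.free_of_injective_pi _ (M ⧸ T) (T.liftQ ψ hψ.ge) ?_
    rw [← LinearMap.ker_eq_bot]
    exact Submodule.ker_liftQ_eq_bot _ _ _ hψ.le
  let bQ := Module.Free.chooseBasis R (M ⧸ T)
  obtain ⟨σ, hσ⟩ := Module.projective_lifting_property T.mkQ LinearMap.id T.mkQ_surjective
  let r : M →ₗ[R] T := (LinearMap.id - σ ∘ₗ T.mkQ).codRestrict T fun x => by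
    rw [← Submodule.Quotient.mk_eq_zero]
    have := LinearMap.congr_fun hσ (T.mkQ x)
    show T.mkQ (x - σ (T.mkQ x)) = 0
    rw [map_sub, show T.mkQ (σ (T.mkQ x)) = T.mkQ x from this, sub_self]
  have hr : r ∘ₗ T.subtype = LinearMap.id := by
    ext x
    show (x : M) - σ (T.mkQ x) = (x : M)
    rw [show T.mkQ (x : M) = 0 from (Submodule.Quotient.mk_eq_zero _).2 x.2, map_zero, sub_zero]
  constructor
  · refine ⟨_, ⟨LinearEquiv.trans (?_ : M ≃ₗ[R] (M ⧸ T) × T) (LinearEquiv.prodCongr
      ((bQ.reindex (Fintype.equivFin _)).equivFun) (LinearEquiv.refl R T))⟩⟩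
    exact LinearEquiv.ofLinearMap (T.mkQ.prod r) (σ.coprod T.subtype)
      (LinearMap.ext fun ⟨z, w⟩ => by
        have h1 : T.mkQ (σ z + (w : M)) = z := by
          rw [map_add, show T.mkQ (w : M) = 0 from (Submodule.Quotient.mk_eq_zero _).2 w.2, add_zero]
          exact LinearMap.congr_fun hσ z
        refine Prod.ext h1 (Subtype.ext ?_)
        show (σ z + (w : M)) - σ (T.mkQ (σ z + (w : M))) = (w : M)
        rw [h1, add_sub_cancel_left])
      (LinearMap.ext fun x => by
        show σ (T.mkQ x) + (x - σ (T.mkQ x)) = x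
        abel)
  · haveI : Module.Finite R T := Module.Finite.of_surjective r fun x => ⟨x, LinearMap.congr_fun hr x⟩
    have hkerfg : (LinearMap.ker r).FG := by
      have : Module.Finite R (M ⧸ T) := inferInstance
      have hk : LinearMap.ker r = LinearMap.range σ := by
        ext x
        constructor
        · intro hx
          exact ⟨T.mkQ x, (sub_eq_zero.1 (congrArg Subtype.val hx : x - σ (T.mkQ x) = 0)).symm⟩
        · rintro ⟨z, rfl⟩
          refine Subtype.ext ?_
          show σ z - σ (T.mkQ (σ z)) = 0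
          rw [show T.mkQ (σ z) = z from LinearMap.congr_fun hσ z, sub_self]
      rw [hk]
      exact Submodule.fg_range σ
    haveI : Module.FinitePresentation R T :=
      Module.finitePresentation_of_surjective r (fun x => ⟨x, LinearMap.congr_fun hr x⟩) hkerfg
    obtain ⟨ι, _, f, i, p, hip⟩ := fac_id (R := R) T
    obtain ⟨c, hc0, hc⟩ : ∃ c : R, c ≠ 0 ∧ ∀ x : T, c • x = 0 := by
      obtain ⟨s, hs⟩ := (Module.Finite.fg_top : (⊤ : Submodule R T).FG)
      choose a ha using fun x : T => x.2
      refine ⟨∏ x ∈ s, (a x : R), Finset.prod_ne_zero_iff.2 fun x _ => nonZeroDivisors.coe_ne_zero _, ?_⟩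
      intro x
      refine Submodule.span_induction (fun g hg => Subtype.ext ?_) (smul_zero _)
        (fun a b _ _ ha hb => by rw [smul_add, ha, hb, add_zero])
        (fun b a _ ha => by rw [smul_comm, ha, smul_zero]) (hs.ge trivial : x ∈ _)
      rw [← Finset.prod_erase_mul _ _ hg, mul_smul]
      show _ • ((a g : R) • (g : M)) = 0
      have : (a g : R) • (g : M) = 0 := ha g
      rw [this, smul_zero]
    let f' : ι → R := fun k => if f k = 0 then c else f k
    have hle : ∀ k, Ideal.span {f k} ≤ Ideal.span {f' k} := fun k => by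
      rw [Ideal.span_singleton_le_iff_mem]
      simp only [f']
      split_ifs with h
      · rw [h]; exact zero_mem _
      · exact Ideal.mem_span_singleton_self _
    let i₁ : T →ₗ[R] ((k : ι) → R ⧸ Ideal.span {f' k}) :=
      (LinearMap.pi fun k => (Submodule.factor (hle k)).comp (LinearMap.proj k)) ∘ₗ i
    let p₁ : ((k : ι) → R ⧸ Ideal.span {f' k}) →ₗ[R] T := LinearMap.lsum R _ R fun k =>
      Submodule.liftQ _ (p ∘ₗ LinearMap.single R (fun k => R ⧸ Ideal.span {f k}) k ∘ₗ Submodule.mkQ _)
        fun z hz => by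
          obtain ⟨w, rfl⟩ := Ideal.mem_span_singleton'.1 hz
          simp only [f']
          split_ifs with h
          · show p (Pi.single k (Submodule.Quotient.mk (w * c))) = 0
            rw [show (w * c) = c • w by rw [smul_eq_mul, mul_comm], Submodule.Quotient.mk_smul,
              Pi.single_smul, map_smul, hc]
          · show p (Pi.single k (Submodule.Quotient.mk (w * f k))) = 0
            rw [(Submodule.Quotient.mk_eq_zero _).2 (Ideal.mul_mem_left _ w (Ideal.mem_span_singleton_self _)),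
              Pi.single_zero, map_zero]
    have h1 : p₁ ∘ₗ i₁ = LinearMap.id := by
      rw [← hip]
      ext x : 1
      choose z hz using fun k => Submodule.Quotient.mk_surjective _ (i x k)
      have hix : i x = ∑ k, Pi.single k (Submodule.Quotient.mk (z k)) :=
        (Finset.univ_sum_single (i x)).symm.trans (Finset.sum_congr rfl fun k _ => by rw [hz])
      rw [LinearMap.comp_apply p, hix, map_sum]
      simp only [p₁, i₁, LinearMap.comp_apply, LinearMap.lsum_apply, LinearMap.sum_apply,
        LinearMap.pi_apply, LinearMap.proj_apply, ← hz]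
      rfl
    let e := (Fintype.equivFin ι).symm
    refine ⟨Fintype.card ι, fun k => f' (e k), fun k => ?_,
      (LinearEquiv.piCongrLeft R (fun k => R ⧸ Ideal.span {f' k}) e).symm.toLinearMap ∘ₗ i₁,
      p₁ ∘ₗ (LinearEquiv.piCongrLeft R (fun k => R ⧸ Ideal.span {f' k}) e).toLinearMap, ?_⟩
    · simp only [f']
      split_ifs with h
      · exact hc0
      · exact h
    · ext x : 1
      simp only [LinearMap.comp_apply, LinearEquiv.coe_coe, LinearEquiv.apply_symm_apply]
      exact LinearMap.congr_fun h1 x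

end Groth.Agent.S7121
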