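import Groth.Statements.S7122
import Mathlib

set_option autoImplicit false
universe u
open CAlg

namespace Groth.Agent.S7122


namespace Aux7122

universe v

theorem free_of_fg {R : Type v} [CommRing R] [IsDomain R] [IsBezout R] :
    ∀ (n : ℕ) (N : Submodule R (Fin n → R)), N.FG → Module.Free R N := by
  intro n
  induction n with
  | zero => intro N _; infer_instance
  | succ n ih =>
    intro N hN
    let p : N →ₗ[R] R := LinearMap.proj 0 ∘ₗ N.subtype
    let I : Ideal R := LinearMap.range p
    haveI : Module.Finite R N := Module.Finite.iff_fg.2 hN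
    haveI : I.IsPrincipal := IsBezout.isPrincipal_of_FG I (Module.Finite.iff_fg.1 (Module.Finite.range p))
    haveI : Module.Free R I := by
      by_cases h : Submodule.IsPrincipal.generator I = 0
      · haveI : Subsingleton I := by
          rw [← Submodule.IsPrincipal.span_singleton_generator I, h, Submodule.span_zero_singleton]
          infer_instance
        infer_instance
      · have e := (LinearEquiv.toSpanNonzeroSingleton R R (Submodule.IsPrincipal.generator I) h).trans
          (LinearEquiv.ofEq _ _ (Submodule.IsPrincipal.span_singleton_generator I))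
        exact Module.Free.of_equiv e
    obtain ⟨σ, hσ⟩ := Module.projective_lifting_property p.rangeRestrict LinearMap.id p.surjective_rangeRestrict
    have hσ' : ∀ y, p.rangeRestrict (σ y) = y := fun y => LinearMap.congr_fun hσ y
    let K := LinearMap.ker p
    have hpr : ∀ x : N, x - σ (p.rangeRestrict x) ∈ K := fun x => by
      have := congrArg Subtype.val (hσ' (p.rangeRestrict x))
      simp only [LinearMap.codRestrict_apply] at this
      rw [LinearMap.mem_ker, map_sub, sub_eq_zero]
      exact this.symm
    let split : (K × I) ≃ₗ[R] N :=
      { toLinearMap := K.subtype.coprod σ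
        invFun := fun x => (⟨x - σ (p.rangeRestrict x), hpr x⟩, p.rangeRestrict x)
        left_inv := fun z => by
          obtain ⟨⟨m, hm⟩, y⟩ := z
          have : p.rangeRestrict m = 0 := Subtype.ext hm
          simp [this, hσ']
        right_inv := fun x => by simp }
    haveI : Module.Finite R K :=
      Module.Finite.of_surjective (LinearMap.codRestrict K (LinearMap.id - σ ∘ₗ p.rangeRestrict) hpr) fun m => ⟨m.1, Subtype.ext (by
        have : p.rangeRestrict m.1 = 0 := Subtype.ext m.2
        simp [this])⟩
    let ι : K →ₗ[R] (Fin n → R) := (LinearMap.pi fun i : Fin n => LinearMap.proj i.succ) ∘ₗ N.subtype ∘ₗ K.subtype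
    have hι : Function.Injective ι := by
      rw [injective_iff_map_eq_zero]
      rintro ⟨⟨x, hx⟩, hx0⟩ h
      refine Subtype.ext (Subtype.ext (funext fun i => ?_))
      refine Fin.cases ?_ (fun i => ?_) i
      · exact hx0
      · exact congrFun h i
    haveI := ih (LinearMap.range ι) (Module.Finite.iff_fg.1 (Module.Finite.range ι))
    haveI : Module.Free R K := Module.Free.of_equiv (LinearEquiv.ofInjective ι hι).symm
    exact Module.Free.of_equiv split

end Aux7122



/-- Let R be a Bézout domain, n ≥ 1, and f_1, ..., f_n elements generating the unit ideal. Then some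
invertible n × n matrix over R has (f_1, ..., f_n) as its first row. -/
theorem result (R : Type u) [CommRing R] [IsDomain R] [IsBezout R]
    (n : ℕ) (f : Fin (n + 1) → R) (hf : Ideal.span (Set.range f) = ⊤) :
    ∃ A : Matrix (Fin (n + 1)) (Fin (n + 1)) R, IsUnit A.det ∧ A 0 = f := by
  classical
  let φ : (Fin (n + 1) → R) →ₗ[R] R := Fintype.linearCombination R f
  obtain ⟨s, hs⟩ := (Submodule.mem_span_range_iff_exists_fun R).1 (hf ▸ Submodule.mem_top (x := (1 : R)))
  have hs' : φ s = 1 := by simpa [φ, Fintype.linearCombination_apply] using hs
  let K := LinearMap.ker φ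
  have hpr : ∀ x, x - φ x • s ∈ K := fun x => by simp [K, hs']
  let split : (Fin (n + 1) → R) ≃ₗ[R] (R × K) :=
    { toLinearMap := φ.prod (LinearMap.codRestrict K (LinearMap.id - φ.smulRight s) hpr)
      invFun := fun z => z.1 • s + z.2
      left_inv := fun x => by simp
      right_inv := fun z => by
        obtain ⟨a, ⟨m, hm⟩⟩ := z
        have : φ m = 0 := hm
        refine Prod.ext (by simp [this, hs']) (Subtype.ext ?_)
        simp [this, hs'] }
  haveI : Module.Finite R K :=
    Module.Finite.of_surjective (LinearMap.codRestrict K (LinearMap.id - φ.smulRight s) hpr) fun m => ⟨m.1, Subtype.ext (by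
      have : φ m.1 = 0 := m.2
      simp [this])⟩
  haveI : Module.Free R K := Aux7122.free_of_fg _ _ (Module.Finite.iff_fg.1 inferInstance)
  have hK : Module.finrank R K = n := by
    have := split.finrank_eq
    rw [Module.finrank_prod, Module.finrank_self, Module.finrank_fin_fun] at this
    omega
  let b := (Module.finBasisOfFinrankEq R K hK).equivFun
  let T : (Fin (n + 1) → R) ≃ₗ[R] (Fin (n + 1) → R) :=
    split.trans (((LinearEquiv.refl R R).prodCongr b).trans (Fin.consLinearEquiv R fun _ : Fin (n + 1) => R))
  refine ⟨LinearMap.toMatrix' T.toLinearMap, ?_, ?_⟩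
  · rw [LinearMap.det_toMatrix']
    exact LinearEquiv.isUnit_det' T
  · funext j
    rw [LinearMap.toMatrix'_apply]
    show (T (Pi.single j 1)) 0 = f j
    simp [T, split, φ, Fintype.linearCombination_apply_single]

end Groth.Agent.S7122
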