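import Groth.Statements.S7123
import Mathlib

set_option autoImplicit false
universe u
open CAlg

namespace Groth.Agent.S7123


open DirectSum


open DirectSum in
/-- For a module P over a ring R these two conditions are equivalent: (1) P is a retract (direct
summand) of a direct sum of cyclic modules R/fR, f ranging over R; (2) for every surjection of
R-modules π : B → C whose kernel A satisfies fA = A ∩ fB for every f in R, each linear map P → C
lifts through π. -/
theorem result (R : Type u) [CommRing R] (P : Type u)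
    [AddCommGroup P] [Module R P] :
    (∃ (ι : Type u) (f : ι → R) (i : P →ₗ[R] (⨁ j, R ⧸ Ideal.span {f j}))
        (p : (⨁ j, R ⧸ Ideal.span {f j}) →ₗ[R] P), p ∘ₗ i = LinearMap.id) ↔
      ∀ (B C : Type u) [AddCommGroup B] [Module R B] [AddCommGroup C] [Module R C] (π : B →ₗ[R] C),
        Function.Surjective π →
        (∀ (f : R) (b : B), π (f • b) = 0 → ∃ a : B, π a = 0 ∧ f • a = f • b) →
        ∀ ψ : P →ₗ[R] C, ∃ φ : P →ₗ[R] B, π ∘ₗ φ = ψ := by
  classical
  constructor
  · rintro ⟨ι, f, i, p, hpi⟩ B C _ _ _ _ π hπ hrd ψ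
    let e : ι → (⨁ j, R ⧸ Ideal.span {f j}) := fun j => DirectSum.lof R ι _ j (Ideal.Quotient.mk _ 1)
    have hfe : ∀ j, f j • e j = 0 := fun j => by
      rw [← map_smul]
      convert map_zero (DirectSum.lof R ι (fun j => R ⧸ Ideal.span {f j}) j)
      exact (Ideal.Quotient.eq_zero_iff_mem).2 (by simpa using Ideal.mem_span_singleton_self (f j))
    choose b hb using fun j => hπ (ψ (p (e j)))
    choose a ha1 ha2 using fun j => hrd (f j) (b j) (by
      rw [map_smul, hb, ← map_smul, ← map_smul, hfe, map_zero, map_zero])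
    have hker : ∀ j, Ideal.span {f j} ≤ LinearMap.ker (LinearMap.toSpanSingleton R B (b j - a j)) := fun j => by
      rw [Ideal.span_le, Set.singleton_subset_iff]
      simp [smul_sub, ha2]
    let L : (⨁ j, R ⧸ Ideal.span {f j}) →ₗ[R] B :=
      DirectSum.toModule R ι B fun j => Submodule.liftQ _ _ (hker j)
    have hL : π ∘ₗ L = ψ ∘ₗ p := by
      refine DirectSum.linearMap_ext R fun j => Submodule.linearMap_qext _ (LinearMap.ext_ring ?_)
      show π (L (e j)) = ψ (p (e j))
      simp only [L, e, DirectSum.toModule_lof]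
      show π ((1 : R) • (b j - a j)) = ψ (p (e j))
      rw [one_smul, map_sub, hb, ha1, sub_zero]
    exact ⟨L ∘ₗ i, by rw [← LinearMap.comp_assoc, hL, LinearMap.comp_assoc, hpi, LinearMap.comp_id]⟩
  · intro h
    let ι := {q : R × P // q.1 • q.2 = 0}
    let f : ι → R := fun q => q.1.1
    have hker : ∀ q : ι, Ideal.span {f q} ≤ LinearMap.ker (LinearMap.toSpanSingleton R P q.1.2) := fun q => by
      rw [Ideal.span_le, Set.singleton_subset_iff]
      exact q.2
    let π : (⨁ q, R ⧸ Ideal.span {f q}) →ₗ[R] P :=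
      DirectSum.toModule R ι P fun q => Submodule.liftQ _ _ (hker q)
    have he : ∀ q : ι, π (DirectSum.lof R ι _ q (Ideal.Quotient.mk _ 1)) = q.1.2 := fun q => by
      simp only [π, DirectSum.toModule_lof]
      exact one_smul R q.1.2
    have hπ : Function.Surjective π := fun x => ⟨_, he ⟨(0, x), zero_smul R x⟩⟩
    obtain ⟨s, hs⟩ := h _ _ π hπ (fun r b hb => by
      have hr : r • π b = 0 := by rw [← map_smul, hb]
      refine ⟨b - DirectSum.lof R ι _ ⟨(r, π b), hr⟩ (Ideal.Quotient.mk _ 1), ?_, ?_⟩
      · rw [map_sub, he, sub_self]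
      · rw [smul_sub, sub_eq_self, ← map_smul]
        convert map_zero (DirectSum.lof R ι (fun q => R ⧸ Ideal.span {f q}) ⟨(r, π b), hr⟩)
        exact (Ideal.Quotient.eq_zero_iff_mem).2 (by simp [f, Ideal.mem_span_singleton_self r])) LinearMap.id
    exact ⟨ι, f, s, π, hs⟩

end Groth.Agent.S7123
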