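import Groth.Statements.S7124
import Mathlib

set_option autoImplicit false
universe u
open CAlg

namespace Groth.Agent.S7124

open IsLocalRing in
theorem mem_A {A B K L : Type u} [CommRing A] [IsDomain A] [ValuationRing A] [CommRing B] [Field K] [Field L]
    [Algebra A K] [IsFractionRing A K] [Algebra B L] [Algebra A B] [Algebra K L] [Algebra A L]
    [IsScalarTower A K L] [IsScalarTower A B L] [IsLocalHom (algebraMap A B)]
    (hBL : Function.Injective (algebraMap B L)) (c : K) (b : B) (h : algebraMap K L c = algebraMap B L b) :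
    ∃ a : A, algebraMap A K a = c ∧ algebraMap A B a = b := by
  suffices ∃ a : A, algebraMap A K a = c by
    obtain ⟨a, ha⟩ := this
    exact ⟨a, ha, hBL (by rw [← IsScalarTower.algebraMap_apply, IsScalarTower.algebraMap_apply A K L, ha, h])⟩
  rcases ValuationRing.isInteger_or_isInteger A c with ⟨a, ha⟩ | ⟨a, ha⟩
  · exact ⟨a, ha⟩
  by_cases hc : c = 0
  · exact ⟨0, by rw [map_zero, hc]⟩
  have hab : algebraMap A B a * b = 1 := hBL (by
    rw [map_mul, map_one, ← IsScalarTower.algebraMap_apply, IsScalarTower.algebraMap_apply A K L, ha, ← h, ← map_mul,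
      inv_mul_cancel₀ hc, map_one])
  obtain ⟨u, rfl⟩ : IsUnit a := (isUnit_map_iff (algebraMap A B) a).1 (IsUnit.of_mul_eq_one _ hab)
  exact ⟨(u⁻¹ : Aˣ), by rw [map_units_inv, ha, inv_inv]⟩

open IsLocalRing in
theorem indep {A B K L : Type u} [CommRing A] [IsDomain A] [ValuationRing A] [CommRing B] [IsDomain B]
    [ValuationRing B] [Field K] [Field L] [Algebra A K] [IsFractionRing A K] [Algebra B L] [IsFractionRing B L]
    [Algebra A B] [Algebra K L] [Algebra A L] [IsScalarTower A K L] [IsScalarTower A B L] [IsLocalHom (algebraMap A B)]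
    {ι κ : Type u} [Fintype ι] [Fintype κ] (b : ι → B) (π : κ → L) (hπ0 : ∀ j, π j ≠ 0)
    (hb : LinearIndependent (ResidueField A) fun i => residue B (b i))
    (hπ : ∀ j k, ∀ c : K, c ≠ 0 → ValuationRing.valuation B L (π j) = ValuationRing.valuation B L (algebraMap K L c * π k) → j = k) :
    LinearIndependent K fun p : ι × κ => algebraMap B L (b p.1) * π p.2 := by
  classical
  let v := ValuationRing.valuation B L
  have hBL : Function.Injective (algebraMap B L) := IsFractionRing.injective B L
  have hint : ∀ x : L, v x ≤ 1 → ∃ y : B, algebraMap B L y = x := fun x hx =>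
    (ValuationRing.mem_integer_iff B L x).1 hx
  have hle : ∀ y : B, v (algebraMap B L y) ≤ 1 := fun y =>
    (Valuation.mem_integer_iff v _).1 ((ValuationRing.mem_integer_iff B L _).2 ⟨y, rfl⟩)
  rw [Fintype.linearIndependent_iff]
  intro g hg
  let w : κ → L := fun j => ∑ i, algebraMap K L (g (i, j)) * algebraMap B L (b i)
  have hw : ∀ j, (∀ i, g (i, j) = 0) ∨ ∃ c : K, c ≠ 0 ∧ v (w j) = v (algebraMap K L c) := by
    intro j
    by_cases hall : ∀ i, g (i, j) = 0
    · exact Or.inl hall
    push Not at hall
    obtain ⟨i₁, hi₁⟩ := hall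
    obtain ⟨i₀, -, hi₀⟩ := Finset.exists_max_image Finset.univ (fun i => v (algebraMap K L (g (i, j)))) ⟨i₁, Finset.mem_univ _⟩
    have hc0 : g (i₀, j) ≠ 0 := fun h0 => by
      have := hi₀ i₁ (Finset.mem_univ _)
      rw [h0, map_zero, map_zero, le_zero_iff, Valuation.zero_iff, map_eq_zero] at this
      exact hi₁ this
    refine Or.inr ⟨g (i₀, j), hc0, ?_⟩
    have hq : ∀ i, ∃ a : A, algebraMap A K a = g (i, j) / g (i₀, j) := by
      intro i
      obtain ⟨y, hy⟩ := hint (algebraMap K L (g (i, j) / g (i₀, j))) (by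
        rw [map_div₀, map_div₀]
        exact div_le_one_of_le₀ (hi₀ i (Finset.mem_univ _)) zero_le)
      obtain ⟨a, ha, -⟩ := mem_A (A := A) hBL _ y hy.symm
      exact ⟨a, ha⟩
    choose a ha using hq
    let z : B := ∑ i, algebraMap A B (a i) * b i
    have hz : IsUnit z := by
      by_contra hzu
      have hz0 : residue B z = 0 := (residue_eq_zero_iff _).2 hzu
      rw [map_sum] at hz0
      have := Fintype.linearIndependent_iff.1 hb (fun i => residue A (a i)) (by
        rw [← hz0]
        refine Finset.sum_congr rfl fun i _ => ?_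
        rw [Algebra.smul_def, map_mul]
        rfl) i₀
      have h1 : a i₀ = 1 := IsFractionRing.injective A K (by rw [ha, map_one, div_self hc0])
      rw [h1, map_one] at this
      exact one_ne_zero this
    have hv1 : v (algebraMap B L z) = 1 := by
      obtain ⟨u, hu⟩ := hz
      refine le_antisymm (hle _) ?_
      have h2 := hle ((u⁻¹ : Bˣ) : B)
      have h3 : v (algebraMap B L z) * v (algebraMap B L ((u⁻¹ : Bˣ) : B)) = 1 := by
        rw [← map_mul, ← map_mul, ← hu, Units.mul_inv, map_one, map_one]
      calc (1 : ValuationRing.ValueGroup B L) = _ := h3.symm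
        _ ≤ v (algebraMap B L z) * 1 := mul_le_mul_right h2 _
        _ = _ := mul_one _
    have hwz : w j = algebraMap K L (g (i₀, j)) * algebraMap B L z := by
      simp only [z, w, map_sum, map_mul, Finset.mul_sum]
      refine Finset.sum_congr rfl fun i _ => ?_
      rw [← IsScalarTower.algebraMap_apply, IsScalarTower.algebraMap_apply A K L, ha, ← mul_assoc, ← map_mul,
        mul_div_cancel₀ _ hc0]
    rw [hwz, map_mul, hv1, mul_one]
  have hsum : ∑ j, w j * π j = 0 := by
    rw [← hg, Fintype.sum_prod_type, Finset.sum_comm]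
    refine Finset.sum_congr rfl fun j _ => ?_
    rw [Finset.sum_mul]
    exact Finset.sum_congr rfl fun i _ => by rw [Algebra.smul_def, mul_assoc]
  suffices ∀ j i, g (i, j) = 0 from fun p => this p.2 p.1
  by_contra hne
  push Not at hne
  obtain ⟨j₁, i₁, hne⟩ := hne
  obtain ⟨j₀, -, hj₀⟩ := Finset.exists_max_image Finset.univ (fun j => v (w j * π j)) ⟨j₁, Finset.mem_univ _⟩
  have hnz : ∀ j i, g (i, j) ≠ 0 → v (w j * π j) ≠ 0 := by
    intro j i hi
    obtain h | ⟨c, hc, hcv⟩ := hw j
    · exact absurd (h i) hi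
    · rw [map_mul, hcv, ← map_mul, Valuation.ne_zero_iff]
      exact mul_ne_zero ((map_ne_zero _).2 hc) (hπ0 j)
  have h0 : v (w j₀ * π j₀) ≠ 0 := fun h => hnz j₁ i₁ hne (le_zero_iff.1 (h ▸ hj₀ j₁ (Finset.mem_univ _)))
  have hlt : ∀ j ∈ Finset.univ \ {j₀}, v (w j * π j) < v (w j₀ * π j₀) := by
    intro j hj
    refine lt_of_le_of_ne (hj₀ j (Finset.mem_univ _)) fun heq => ?_
    have hjne : j ≠ j₀ := by simpa using hj
    obtain h | ⟨c₀, hc₀, hcv₀⟩ := hw j₀
    · exact h0 (by simp [w, h])
    obtain h | ⟨c, hc, hcv⟩ := hw j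
    · exact h0 (heq ▸ (by simp [w, h]))
    refine hjne (hπ j j₀ (c₀ / c) (div_ne_zero hc₀ hc) ?_)
    rw [map_mul v (w j), map_mul v (w j₀), hcv, hcv₀] at heq
    change v (π j) = v _
    have hcne : v (algebraMap K L c) ≠ 0 := (Valuation.ne_zero_iff v).2 ((map_ne_zero _).2 hc)
    rw [map_mul v, map_div₀, map_div₀, div_mul_eq_mul_div, eq_div_iff hcne, mul_comm]
    exact heq
  have := Valuation.map_sum_eq_of_lt v (Finset.mem_univ j₀) hlt
  rw [hsum, map_zero] at this
  exact h0 this.symm


/-- Let A ⊆ B be an extension of valuation rings (both valuation domains, the inclusion injective and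
local) with fraction fields K ⊆ L such that L/K is finite. Then the residue field of B is finite
over that of A, the value group of A has finite index in the value group of B, and (index of value
groups) · (residue degree) ≤ [L : K]. Here the value group of B is written as Lˣ modulo the units of
B, and that of A as the image of Kˣ in it. -/
theorem result (A B K L : Type u) [CommRing A] [IsDomain A]
    [ValuationRing A] [CommRing B] [IsDomain B] [ValuationRing B] [Field K] [Field L]
    [Algebra A K] [IsFractionRing A K] [Algebra B L] [IsFractionRing B L] [Algebra A B] [Algebra K L]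
    [Algebra A L] [IsScalarTower A K L] [IsScalarTower A B L] (hinj : Function.Injective (algebraMap A B))
    [IsLocalHom (algebraMap A B)] [FiniteDimensional K L] :
    let UB : Subgroup Lˣ := (Units.map (algebraMap B L).toMonoidHom).range
    let ΓA : Subgroup (Lˣ ⧸ UB) := ((QuotientGroup.mk' UB).comp (Units.map (algebraMap K L).toMonoidHom)).range
    Module.Finite (IsLocalRing.ResidueField A) (IsLocalRing.ResidueField B) ∧ ΓA.index ≠ 0 ∧
      ΓA.index * Module.finrank (IsLocalRing.ResidueField A) (IsLocalRing.ResidueField B) ≤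
        Module.finrank K L := by
  classical
  intro UB ΓA
  let v := ValuationRing.valuation B L
  have hUB : ∀ x : Lˣ, v (x : L) = 1 → x ∈ UB := by
    intro x hx
    obtain ⟨b, hb⟩ := (ValuationRing.mem_integer_iff B L (x : L)).1 ((Valuation.mem_integer_iff v _).2 hx.le)
    obtain ⟨b', hb'⟩ := (ValuationRing.mem_integer_iff B L ((x⁻¹ : Lˣ) : L)).1 ((Valuation.mem_integer_iff v _).2 (by
      rw [Units.val_inv_eq_inv_val, map_inv₀, hx, inv_one]))
    have hbb : b * b' = 1 := IsFractionRing.injective B L (by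
      rw [map_mul, hb, hb', Units.mul_inv, map_one])
    exact ⟨⟨b, b', hbb, by rw [mul_comm]; exact hbb⟩, Units.ext hb⟩
  have key : ∀ (ι κ : Type u) [Fintype ι] [Fintype κ] (b : ι → B) (τ : κ → (Lˣ ⧸ UB) ⧸ ΓA),
      LinearIndependent (IsLocalRing.ResidueField A) (fun i => IsLocalRing.residue B (b i)) → Function.Injective τ →
      Fintype.card ι * Fintype.card κ ≤ Module.finrank K L := by
    intro ι κ _ _ b τ hb hτ
    have hrep : ∀ j, ∃ x : Lˣ, ((x : Lˣ ⧸ UB) : (Lˣ ⧸ UB) ⧸ ΓA) = τ j := fun j => by
      obtain ⟨y, hy⟩ := QuotientGroup.mk_surjective (τ j)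
      obtain ⟨x, hx⟩ := QuotientGroup.mk_surjective y
      exact ⟨x, hx ▸ hy⟩
    choose π hπ using hrep
    rw [← Fintype.card_prod]
    refine LinearIndependent.fintype_card_le_finrank (indep (A := A) b (fun j => (π j : L)) (fun j => (π j).ne_zero) hb ?_)
    intro j k c hc heq
    refine hτ ?_
    rw [← hπ j, ← hπ k]
    refine QuotientGroup.eq.2 ?_
    let cu : Lˣ := Units.map (algebraMap K L).toMonoidHom (Units.mk0 c hc)
    refine ⟨(Units.mk0 c hc)⁻¹, ?_⟩
    show ((Units.map (algebraMap K L).toMonoidHom (Units.mk0 c hc)⁻¹ : Lˣ) : Lˣ ⧸ UB) = _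
    rw [← QuotientGroup.mk_inv, ← QuotientGroup.mk_mul, QuotientGroup.eq, map_inv, inv_inv]
    refine hUB _ ?_
    have hvj : v (π j : L) ≠ 0 := (Valuation.ne_zero_iff v).2 (π j).ne_zero
    rw [Units.val_mul, Units.val_mul, Units.val_inv_eq_inv_val, map_mul, map_mul, map_inv₀]
    show v (algebraMap K L c) * ((v (π j : L))⁻¹ * v (π k : L)) = 1
    rw [mul_left_comm, ← map_mul, ← heq]
    exact inv_mul_cancel₀ hvj
  have hn : Module.Finite (IsLocalRing.ResidueField A) (IsLocalRing.ResidueField B) := by
    refine Module.rank_lt_aleph0_iff.1 (lt_of_le_of_lt (rank_le (n := Module.finrank K L) fun s hs => ?_) (Cardinal.natCast_lt_aleph0))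
    have := key s PUnit (fun x => (IsLocalRing.residue_surjective (x : IsLocalRing.ResidueField B)).choose) (fun _ => QuotientGroup.mk (QuotientGroup.mk (1 : Lˣ)))
      (by convert hs using 1; funext x; exact (IsLocalRing.residue_surjective (x : IsLocalRing.ResidueField B)).choose_spec)
      (fun _ _ _ => Subsingleton.elim _ _)
    simpa using this
  haveI := hn
  let bs := Module.finBasis (IsLocalRing.ResidueField A) (IsLocalRing.ResidueField B)
  have hk : ∀ (κ : Type u) [Fintype κ] (τ : κ → (Lˣ ⧸ UB) ⧸ ΓA), Function.Injective τ →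
      Module.finrank (IsLocalRing.ResidueField A) (IsLocalRing.ResidueField B) * Fintype.card κ ≤ Module.finrank K L := by
    intro κ _ τ hτ
    have := key (ULift.{u} (Fin (Module.finrank (IsLocalRing.ResidueField A) (IsLocalRing.ResidueField B)))) κ
      (fun i => (IsLocalRing.residue_surjective (bs i.down)).choose) τ
      (by
        convert bs.linearIndependent.comp ULift.down ULift.down_injective using 1
        funext i
        exact (IsLocalRing.residue_surjective (bs i.down)).choose_spec) hτ
    simpa using this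
  have hpos : 0 < Module.finrank (IsLocalRing.ResidueField A) (IsLocalRing.ResidueField B) := Module.finrank_pos
  haveI : Finite ((Lˣ ⧸ UB) ⧸ ΓA) := by
    by_contra hinf
    rw [not_finite_iff_infinite] at hinf
    obtain ⟨t, ht⟩ := Infinite.exists_subset_card_eq ((Lˣ ⧸ UB) ⧸ ΓA) (Module.finrank K L + 1)
    have := hk t Subtype.val Subtype.val_injective
    rw [Fintype.card_coe, ht] at this
    nlinarith
  haveI := Fintype.ofFinite ((Lˣ ⧸ UB) ⧸ ΓA)
  refine ⟨hn, ?_, ?_⟩
  · rw [Subgroup.index_eq_card]
    exact Nat.card_pos.ne'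
  · rw [Subgroup.index_eq_card, Nat.card_eq_fintype_card, mul_comm]
    exact hk _ id Function.injective_id

end Groth.Agent.S7124
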