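import Groth.Statements.S7125
import Groth.Agent.Lib.CAlgLow.NormalInter
import Groth.Agent.Lib.Ratliff.DimOne

set_option autoImplicit false
universe u
open CAlg

namespace Groth.Agent.S7125

theorem dvd_of_pow_dvd {R : Type u} [CommRing R] [IsDomain R] [IsIntegrallyClosed R] {a b : R} {n : ℕ}
    (hn : 0 < n) (h : b ^ n ∣ a ^ n) : b ∣ a :=
  (IsIntegrallyClosed.pow_dvd_pow_iff hn.ne').1 h

theorem isDVR_of_height_one {R : Type u} [CommRing R] [IsDomain R] [IsNoetherianRing R] [IsIntegrallyClosed R]
    (p : Ideal R) [p.IsPrime] (hp : p.height = 1) : IsDiscreteValuationRing (Localization.AtPrime p) := by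
  haveI : IsIntegrallyClosed (Localization.AtPrime p) :=
    isIntegrallyClosed_of_isLocalization _ p.primeCompl p.primeCompl_le_nonZeroDivisors
  have hd : ringKrullDim (Localization.AtPrime p) = 1 := by
    rw [IsLocalization.AtPrime.ringKrullDim_eq_height p, hp]; rfl
  have hnf : ¬ IsField (Localization.AtPrime p) := fun hf => by
    rw [ringKrullDim_eq_zero_of_isField hf] at hd
    exact zero_ne_one hd
  suffices h4 : ∃! P : Ideal (Localization.AtPrime p), P ≠ ⊥ ∧ P.IsPrime from
    ((IsDiscreteValuationRing.TFAE _ hnf).out 0 3 rfl rfl).2 ⟨inferInstance, h4⟩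
  refine ⟨IsLocalRing.maximalIdeal _, ⟨IsLocalRing.isField_iff_maximalIdeal_eq.not.1 hnf, inferInstance⟩,
    fun P hP => ?_⟩
  haveI := hP.2
  by_contra hne
  have h1 := Ideal.height_add_one_le_of_lt_of_isPrime (bot_lt_iff_ne_bot.2 hP.1)
  have h2 := Ideal.height_add_one_le_of_lt_of_isPrime (lt_of_le_of_ne (IsLocalRing.le_maximalIdeal hP.2.ne_top) hne)
  have h3 : (IsLocalRing.maximalIdeal (Localization.AtPrime p)).height = 1 := by
    rw [← IsLocalRing.maximalIdeal_height_eq_ringKrullDim] at hd
    exact_mod_cast hd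
  rw [h3] at h2
  exact absurd (le_trans (add_le_add_left (le_trans le_add_self h1) 1) h2) (by decide)


/-- Let A and B be Noetherian local normal domains and A → B a flat homomorphism that is local, and let
f in A, h in B, n > 1 and a unit w of B satisfy f = w·hⁿ in B. Assume that for every height-one
prime p of A there is a height-one prime q of B lying over p such that A_p ⊆ B_q is weakly
unramified, i.e. p generates the maximal ideal of B_q. Then f = u·gⁿ for some g in A and some unit u
of A. -/
theorem result (A B : Type u) [CommRing A] [IsDomain A]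
    [IsNoetherianRing A] [IsLocalRing A] [IsIntegrallyClosed A] [CommRing B] [IsDomain B] [IsNoetherianRing B]
    [IsLocalRing B] [IsIntegrallyClosed B] [Algebra A B] [IsLocalHom (algebraMap A B)] [Module.Flat A B]
    (f : A) (h : B) (n : ℕ) (hn : 1 < n) (w : Bˣ) (hf : algebraMap A B f = (w : B) * h ^ n)
    (hram : ∀ (p : Ideal A) [p.IsPrime], p.height = 1 →
      ∃ (q : Ideal B) (_ : q.IsPrime), q.height = 1 ∧ q.comap (algebraMap A B) = p ∧
        Ideal.map (algebraMap B (Localization.AtPrime q)) (Ideal.map (algebraMap A B) p) =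
          IsLocalRing.maximalIdeal (Localization.AtPrime q)) :
    ∃ (g : A) (u : Aˣ), f = (u : A) * g ^ n := by
  classical
  by_cases hf0 : f = 0
  · exact ⟨0, 1, by rw [hf0, zero_pow (by omega), mul_zero]⟩
  haveI : Module.FaithfullyFlat A B := Module.FaithfullyFlat.of_flat_of_isLocalHom
  have hinj : Function.Injective (algebraMap A B) := FaithfulSMul.algebraMap_injective A B
  have hfB : algebraMap A B f ≠ 0 := (map_ne_zero_iff _ hinj).2 hf0
  have hh0 : h ≠ 0 := fun h0 => hfB (by rw [hf, h0, zero_pow (by omega), mul_zero])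
  -- the ideal of n-th roots
  let J : Ideal A :=
  { carrier := {x | f ∣ x ^ n}
    zero_mem' := by simp [zero_pow (by omega : n ≠ 0)]
    smul_mem' := fun c x hx => by
      show f ∣ (c * x) ^ n
      rw [mul_pow]; exact hx.mul_left _
    add_mem' := fun {x y} hx hy => by
      show f ∣ (x + y) ^ n
      rw [add_pow]
      refine Finset.dvd_sum fun i hi => (Dvd.dvd.mul_right (dvd_of_pow_dvd (n := n) (by omega) ?_) _)
      have hi' : i ≤ n := by simpa [Nat.lt_succ_iff] using hi
      rw [mul_pow, pow_right_comm, pow_right_comm y,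
        show f ^ n = f ^ i * f ^ (n - i) by rw [← pow_add, Nat.add_sub_cancel' hi']]
      exact mul_dvd_mul (pow_dvd_pow_of_dvd hx _) (pow_dvd_pow_of_dvd hy _) }
  have hJmap : J.map (algebraMap A B) ≤ Ideal.span {h} := by
    refine Ideal.map_le_iff_le_comap.2 fun x hx => Ideal.mem_span_singleton.2 (dvd_of_pow_dvd (n := n) (by omega) ?_)
    obtain ⟨c, hc⟩ := hx
    rw [← map_pow, hc, map_mul, hf, mul_assoc, mul_left_comm]
    exact dvd_mul_right _ _
  -- the colon
  let Kid : Ideal A := Ideal.span {k | f ^ (n - 1) ∣ k ^ n}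
  obtain ⟨S, hS, hSspan⟩ := Submodule.fg_span_iff_fg_span_finset_subset _ |>.1 (IsNoetherian.noetherian Kid)
  let g : Fin S.card → A := fun i => S.equivFin.symm i
  have hh : h ∈ J.map (algebraMap A B) := by
    obtain ⟨N, hN, hNh⟩ := Groth.Agent.Ratliff.mem_map_colon (Ideal.span {f}) g (u := h) (fun i => by
      rw [Ideal.map_span, Set.image_singleton]
      refine Ideal.mem_span_singleton.2 (dvd_of_pow_dvd (n := n) (by omega) ?_)
      obtain ⟨c, hc⟩ := (hS (S.equivFin.symm i).2 : f ^ (n - 1) ∣ (g i) ^ n)
      rw [mul_pow, ← map_pow (algebraMap A B) (g i), hc, map_mul, map_pow]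
      have e : algebraMap A B f ^ n = algebraMap A B f * algebraMap A B f ^ (n - 1) := by
        rw [← pow_succ', Nat.sub_add_cancel (by omega : 1 ≤ n)]
      have e2 : h ^ n = (↑w⁻¹ : B) * algebraMap A B f := by
        rw [hf, ← mul_assoc, Units.inv_mul, one_mul]
      rw [e, e2]
      exact ⟨(↑w⁻¹ : B) * algebraMap A B c, by ring⟩)
    refine Ideal.map_mono (fun x hx => ?_) hNh
    show f ∣ x ^ n
    refine Groth.Agent.NormalInter.dvd_of_forall_height_one hf0 fun p _ hp => ?_
    obtain ⟨q, _, hq1, hqp, hqm⟩ := hram p hp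
    subst hqp
    let p := q.comap (algebraMap A B)
    haveI := isDVR_of_height_one p hp
    haveI := isDVR_of_height_one q hq1
    let φ : Localization.AtPrime p →+* Localization.AtPrime q := Localization.localRingHom p q (algebraMap A B) rfl
    haveI : IsLocalHom φ := Localization.isLocalHom_localRingHom p q (algebraMap A B) rfl
    obtain ⟨ϖ, hϖ⟩ := IsDiscreteValuationRing.exists_irreducible (Localization.AtPrime p)
    obtain ⟨π₀, t₀, hπ₀⟩ := IsLocalization.exists_mk'_eq p.primeCompl ϖ
    let π : Localization.AtPrime p := algebraMap A _ π₀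
    have hπ : Irreducible π := by
      show Irreducible (algebraMap A (Localization.AtPrime p) π₀)
      rw [← IsLocalization.mk'_spec (Localization.AtPrime p) π₀ t₀, hπ₀]
      exact ((associated_mul_unit_right ϖ _ (IsLocalization.map_units _ t₀)).irreducible_iff).1 hϖ
    have hπq : Irreducible (φ π) := by
      rw [IsDiscreteValuationRing.irreducible_iff_uniformizer]
      rw [← hqm, show Ideal.map (algebraMap B (Localization.AtPrime q)) (Ideal.map (algebraMap A B) p) =
          Ideal.map φ (Ideal.map (algebraMap A (Localization.AtPrime p)) p) by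
        rw [Ideal.map_map, Ideal.map_map]
        congr 1
        exact RingHom.ext fun a => (Localization.localRingHom_to_map p q (algebraMap A B) rfl a).symm,
        Localization.AtPrime.map_eq_maximalIdeal, (IsDiscreteValuationRing.irreducible_iff_uniformizer π).1 hπ,
        Ideal.map_span, Set.image_singleton]
    have hfp : algebraMap A (Localization.AtPrime p) f ≠ 0 :=
      (map_ne_zero_iff _ (IsLocalization.injective _ p.primeCompl_le_nonZeroDivisors)).2 hf0
    obtain ⟨a, ua, hua⟩ := IsDiscreteValuationRing.eq_unit_mul_pow_irreducible hfp hπ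
    have hhq : algebraMap B (Localization.AtPrime q) h ≠ 0 :=
      (map_ne_zero_iff _ (IsLocalization.injective _ q.primeCompl_le_nonZeroDivisors)).2 hh0
    obtain ⟨m, um, hum⟩ := IsDiscreteValuationRing.eq_unit_mul_pow_irreducible hhq hπq
    have hamn : a = m * n := by
      have h1 := congrArg (algebraMap B (Localization.AtPrime q)) hf
      rw [← Localization.localRingHom_to_map p q (algebraMap A B) rfl f] at h1
      change φ (algebraMap A (Localization.AtPrime p) f) = _ at h1
      rw [hua, map_mul, map_pow, map_mul, map_pow, hum, mul_pow, ← pow_mul, ← mul_assoc] at h1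
      exact IsDiscreteValuationRing.unit_mul_pow_congr_pow hπq hπq (Units.map (φ : _ →* _) ua)
        (Units.map (algebraMap B (Localization.AtPrime q) : _ →* _) w * um ^ n) _ _ (by simpa using h1)
    -- the element of K
    have hk0 : algebraMap A (Localization.AtPrime p) (f ^ (n - 1)) ∣ algebraMap A _ ((π₀ ^ (m * (n - 1))) ^ n) := by
      refine ⟨↑(ua ^ (n - 1))⁻¹, ?_⟩
      simp only [map_pow]
      change (π ^ (m * (n - 1))) ^ n = _
      rw [hua, mul_pow, ← pow_mul π a, ← pow_mul, hamn, mul_comm (((ua : Localization.AtPrime p)) ^ (n - 1)),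
        ← Units.val_pow_eq_pow_val, Units.mul_inv_cancel_right]
      congr 1
      ring
    obtain ⟨c, hc⟩ := hk0
    obtain ⟨c₀, s, rfl⟩ := IsLocalization.exists_mk'_eq p.primeCompl c
    have hk : (s : A) * π₀ ^ (m * (n - 1)) ∈ Kid := by
      refine Ideal.subset_span ⟨(s : A) ^ (n - 1) * c₀, ?_⟩
      have h1 : (π₀ ^ (m * (n - 1))) ^ n * (s : A) = f ^ (n - 1) * c₀ := by
        apply IsLocalization.injective (Localization.AtPrime p) p.primeCompl_le_nonZeroDivisors
        rw [map_mul, hc, mul_assoc, IsLocalization.mk'_spec, ← map_mul]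
      calc ((s : A) * π₀ ^ (m * (n - 1))) ^ n = (s : A) ^ (n - 1) * ((π₀ ^ (m * (n - 1))) ^ n * (s : A)) := by
            conv_lhs => rw [mul_pow, show n = n - 1 + 1 by omega, pow_succ]
            rw [show n - 1 + 1 = n by omega]
            ring
        _ = _ := by rw [h1]; ring
    -- x times it is divisible by f
    have hxk : f ∣ x * ((s : A) * π₀ ^ (m * (n - 1))) := by
      have hKid : Kid ≤ (Ideal.span {f}).colon {x} := by
        show Submodule.span A _ ≤ _
        rw [hSspan]
        refine Submodule.span_le.2 fun y hy => ?_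
        have := hN x hx (S.equivFin ⟨y, hy⟩)
        rw [SetLike.mem_coe, Submodule.mem_colon_singleton, smul_eq_mul, mul_comm]
        simpa [g] using this
      have := hKid hk
      rw [Submodule.mem_colon_singleton, smul_eq_mul, mul_comm] at this
      exact Ideal.mem_span_singleton.1 this
    have hxp : π ^ m ∣ algebraMap A (Localization.AtPrime p) x := by
      have := map_dvd (algebraMap A (Localization.AtPrime p)) hxk
      rw [hua, map_mul, map_mul, map_pow, Units.mul_left_dvd, mul_left_comm,
        (IsLocalization.map_units (Localization.AtPrime p) s).dvd_mul_left, hamn,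
        show m * n = m + m * (n - 1) by rw [show m + m * (n - 1) = m * (1 + (n - 1)) by ring, Nat.add_sub_cancel' (by omega)],
        pow_add] at this
      exact (mul_dvd_mul_iff_right (pow_ne_zero _ hπ.ne_zero)).1 this
    have hdiv : algebraMap A (Localization.AtPrime p) f ∣ algebraMap A (Localization.AtPrime p) (x ^ n) := by
      rw [hua, Units.mul_left_dvd, map_pow, hamn, pow_mul]
      exact pow_dvd_pow_of_dvd hxp n
    obtain ⟨d, hd⟩ := hdiv
    obtain ⟨d₀, s', rfl⟩ := IsLocalization.exists_mk'_eq p.primeCompl d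
    refine ⟨s', s'.2, d₀, IsLocalization.injective (Localization.AtPrime p) p.primeCompl_le_nonZeroDivisors ?_⟩
    rw [map_mul, hd, ← mul_assoc, mul_comm _ (algebraMap A (Localization.AtPrime p) f), mul_assoc,
      IsLocalization.mk'_spec', ← map_mul]
  -- conclude: J is principal
  obtain ⟨j, hj, c, hc, hjc⟩ : ∃ j ∈ J, ∃ c : B, IsUnit c ∧ algebraMap A B j = h * c := by
    by_contra hno
    push Not at hno
    have : J.map (algebraMap A B) ≤ Ideal.span {h} * IsLocalRing.maximalIdeal B := by
      refine Ideal.map_le_iff_le_comap.2 fun x hx => ?_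
      obtain ⟨c, hc⟩ := Ideal.mem_span_singleton.1 (hJmap (Ideal.mem_map_of_mem _ hx))
      have : ¬ IsUnit c := fun hu => hno x hx c hu hc
      rw [Ideal.mem_comap, hc]
      exact Ideal.mul_mem_mul (Ideal.mem_span_singleton_self h) ((IsLocalRing.mem_maximalIdeal c).2 this)
    obtain ⟨z, hz, hz'⟩ := Ideal.mem_span_singleton_mul.1 (this hh)
    exact hz ((mul_eq_left₀ hh0).1 hz' ▸ isUnit_one)
  have heq : algebraMap A B (j ^ n) = ((hc.unit ^ n * w⁻¹ : Bˣ) : B) * algebraMap A B f := by
    rw [map_pow, hjc, hf, Units.val_mul, Units.val_pow_eq_pow_val, IsUnit.unit_spec, mul_pow]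
    rw [mul_assoc, ← mul_assoc ((w⁻¹ : Bˣ) : B), Units.inv_mul, one_mul, mul_comm]
  obtain ⟨v, hv⟩ : f ∣ j ^ n := hj
  have hvu : IsUnit v := by
    refine (isUnit_map_iff (algebraMap A B) v).1 ⟨hc.unit ^ n * w⁻¹, ?_⟩
    have := heq
    rw [hv, map_mul, mul_comm] at this
    exact (mul_right_cancel₀ hfB this).symm
  exact ⟨j, hvu.unit⁻¹, by rw [hv, mul_comm, mul_assoc, IsUnit.mul_val_inv, mul_one]⟩

end Groth.Agent.S7125
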