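import Groth.Statements.S7128
import Groth.Agent.Lib.WEtaleH7.AbsFlat

set_option autoImplicit false
universe u
open EtAlg

namespace Groth.Agent.S7128

/-- A weakly étale algebra over a reduced ring is itself reduced. -/
theorem result (A B : Type u) [CommRing A] [CommRing B] [Algebra A B] [IsReduced A]
    [Algebra.WeaklyEtale A B] : IsReduced B := by
  open scoped TensorProduct Polynomial in
  let K := ∀ p : PrimeSpectrum A, FractionRing (A ⧸ p.asIdeal)
  have hinj : Function.Injective (algebraMap A K) := by
    rw [injective_iff_map_eq_zero]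
    intro a ha
    refine IsReduced.eq_zero a (nilpotent_iff_mem_prime.2 fun P hP => ?_)
    have := congrFun ha ⟨P, hP⟩
    rw [Pi.algebraMap_apply, Pi.zero_apply,
      IsScalarTower.algebraMap_apply A (A ⧸ P) (FractionRing (A ⧸ P)),
      IsFractionRing.to_map_eq_zero_iff] at this
    exact Ideal.Quotient.eq_zero_iff_mem.1 this
  haveI : IsReduced (K ⊗[A] B) :=
    (WEtaleH7.isVNR_of_weaklyEtale K (K ⊗[A] B) WEtaleH7.IsVNR.pi).isReduced
  exact isReduced_of_injective (Algebra.TensorProduct.includeRight (R := A) (A := K) (B := B))
    (Algebra.TensorProduct.includeRight_injective hinj)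

end Groth.Agent.S7128
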