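import Groth.Statements.S7130
import Groth.Agent.Lib.WEtaleH7.AbsFlat

set_option autoImplicit false
universe u
open EtAlg

namespace Groth.Agent.S7130

/-- (2) ⇔ (3) ⇔ (4): for a ring A the following are equivalent: every A-module is flat; A is reduced of
Krull dimension zero, in the sense that every prime ideal of A is maximal; the local ring A_p is a
field for every prime p. (The further equivalent condition 'A has weak dimension at most zero'
coincides with the first condition by definition and is not listed separately.) -/
theorem result (A : Type u) [CommRing A] :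
    List.TFAE [∀ (M : Type u) [AddCommGroup M] [Module A M], Module.Flat A M,
      IsReduced A ∧ ∀ p : Ideal A, p.IsPrime → p.IsMaximal,
      ∀ (p : Ideal A) [p.IsPrime], IsField (Localization.AtPrime p)] := by
  tfae_have 1 → 2 := fun h => by
    have hA := WEtaleH7.IsVNR.of_forall_flat h
    exact ⟨hA.isReduced, fun p hp => hA.isMaximal_of_isPrime p⟩
  tfae_have 2 → 3 := by
    rintro ⟨hr, hm⟩ p hp
    refine ⟨exists_pair_ne _, mul_comm, fun {x} hx => ?_⟩
    obtain ⟨a, s, rfl⟩ := IsLocalization.exists_mk'_eq p.primeCompl x
    by_cases hap : a ∈ p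
    · exfalso
      apply hx
      rw [IsLocalization.mk'_eq_zero_iff]
      have hnil : IsNilpotent (algebraMap A (Localization.AtPrime p) a) := by
        rw [nilpotent_iff_mem_prime]
        intro P hP
        have hle : P.comap (algebraMap A (Localization.AtPrime p)) ≤ p := fun y hy => by
          by_contra hyp
          exact hP.ne_top (Ideal.eq_top_of_isUnit_mem _ hy (IsLocalization.map_units _ (⟨y, hyp⟩ : p.primeCompl)))
        haveI := hm (P.comap (algebraMap A (Localization.AtPrime p))) inferInstance
        have := this.eq_of_le hp.ne_top hle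
        exact this.symm.le hap
      obtain ⟨n, hn⟩ := hnil
      rw [← map_pow, IsLocalization.map_eq_zero_iff p.primeCompl] at hn
      obtain ⟨m, hmn⟩ := hn
      refine ⟨m, hr.eq_zero _ ⟨n + 1, ?_⟩⟩
      rw [mul_pow, pow_succ a, pow_succ (m : A)]
      linear_combination ((m : A) ^ n * a) * hmn
    · exact ((IsLocalization.AtPrime.isUnit_mk'_iff _ p a s).2 hap).exists_right_inv
  tfae_have 3 → 1 := by
    intro h M _ _
    refine WEtaleH7.IsVNR.flat (fun a => ?_) M
    by_contra hne
    let J : Ideal A := (Ideal.span {a * a}).colon {a}
    have hJ : ∀ r, r ∈ J ↔ r * a ∈ Ideal.span {a * a} := fun r => by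
      simp [J, Submodule.mem_colon_singleton]
    have hJtop : J ≠ ⊤ := fun htop => hne (by
      have := (hJ 1).1 (htop.symm ▸ Submodule.mem_top)
      obtain ⟨t, ht⟩ := Ideal.mem_span_singleton'.1 this
      exact ⟨t, by linear_combination ht⟩)
    obtain ⟨m, hm, hle⟩ := Ideal.exists_le_maximal J hJtop
    haveI := hm.isPrime
    by_cases h0 : algebraMap A (Localization.AtPrime m) a = 0
    · rw [IsLocalization.map_eq_zero_iff m.primeCompl] at h0
      obtain ⟨s, hs⟩ := h0
      exact s.2 (hle ((hJ _).2 (by rw [hs]; exact zero_mem _)))
    · have hu : IsUnit (algebraMap A (Localization.AtPrime m) a) :=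
        isUnit_iff_exists_inv.2 ((h m).mul_inv_cancel h0)
      exact (IsLocalization.AtPrime.isUnit_to_map_iff (Localization.AtPrime m) m a).1 hu
        (hle ((hJ a).2 (Ideal.mem_span_singleton_self _)))
  tfae_finish

end Groth.Agent.S7130
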