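import Groth.Statements.S7133
import Groth.Agent.Lib.EtRamH7.Basic
import Mathlib.FieldTheory.PurelyInseparable.Basic
import Mathlib.RingTheory.Valuation.ValuationRing

set_option autoImplicit false
universe u
open EtAlg

namespace Groth.Agent.S7133

/-- For an injective local homomorphism A → B of discrete valuation rings whose fields of fractions are
K ⊆ L: if K has characteristic p > 0 and L/K is purely inseparable, then the ramification index of B
over A is a power of p. -/
theorem result (A B K L : Type u) [CommRing A] [IsDomain A]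
    [IsDiscreteValuationRing A] [CommRing B] [IsDomain B] [IsDiscreteValuationRing B] [Algebra A B]
    (hinj : Function.Injective (algebraMap A B)) [IsLocalHom (algebraMap A B)]
    [Field K] [Field L] [Algebra A K] [IsFractionRing A K] [Algebra B L] [IsFractionRing B L]
    [Algebra K L] [Algebra A L] [IsScalarTower A K L] [IsScalarTower A B L]
    (p : ℕ) (hp : p.Prime) [CharP K p] [IsPurelyInseparable K L] :
    ∃ k : ℕ, Ideal.ramificationIdx' (IsLocalRing.maximalIdeal A) (IsLocalRing.maximalIdeal B) =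
      p ^ k := by
  haveI : Fact p.Prime := ⟨hp⟩
  set e := Ideal.ramificationIdx' (IsLocalRing.maximalIdeal A) (IsLocalRing.maximalIdeal B) with he
  have hmap := Groth.Agent.EtRamH7.map_maximalIdeal_eq_pow A B hinj
  rw [← he] at hmap
  obtain ⟨ϖ, hϖ⟩ := IsDiscreteValuationRing.exists_irreducible B
  obtain ⟨π, hπ⟩ := IsDiscreteValuationRing.exists_irreducible A
  haveI : ExpChar K p := ExpChar.prime hp
  obtain ⟨k, y, hy⟩ := IsPurelyInseparable.pow_mem K p (algebraMap B L ϖ)
  have hϖL : algebraMap B L ϖ ≠ 0 :=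
    (map_ne_zero_iff _ (IsFractionRing.injective B L)).2 hϖ.ne_zero
  have hy0 : y ≠ 0 := fun h => pow_ne_zero _ hϖL (by rw [← hy, h, map_zero])
  have hAL : ∀ a : A, algebraMap K L (algebraMap A K a) = algebraMap B L (algebraMap A B a) := fun a => by
    rw [← IsScalarTower.algebraMap_apply, ← IsScalarTower.algebraMap_apply]
  rcases ValuationRing.isInteger_or_isInteger A y with ⟨a, ha⟩ | ⟨a, ha⟩
  · have h1 : algebraMap A B a = ϖ ^ (p ^ k) := by
      apply IsFractionRing.injective B L
      rw [map_pow, ← hy, ← ha, hAL]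
    have ha0 : a ≠ 0 := fun h => hy0 (by rw [← ha, h, map_zero])
    obtain ⟨m, u, hu⟩ := IsDiscreteValuationRing.eq_unit_mul_pow_irreducible ha0 hπ
    have h2 : Ideal.span {ϖ ^ (p ^ k)} = Ideal.span {ϖ ^ (e * m)} := by
      rw [← Ideal.span_singleton_pow ϖ (e * m), ← hϖ.maximalIdeal_eq, pow_mul, ← hmap, ← Ideal.map_pow,
        hπ.maximalIdeal_eq, Ideal.span_singleton_pow, Ideal.map_span, Set.image_singleton, ← h1, hu,
        map_mul, Ideal.span_singleton_mul_left_unit ((u.isUnit).map (algebraMap A B))]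
    rw [Ideal.span_singleton_eq_span_singleton] at h2
    have h3 : e * m = p ^ k :=
      le_antisymm ((pow_dvd_pow_iff hϖ.ne_zero hϖ.not_isUnit).1 h2.dvd')
        ((pow_dvd_pow_iff hϖ.ne_zero hϖ.not_isUnit).1 h2.dvd)
    obtain ⟨j, -, hj⟩ := (Nat.dvd_prime_pow hp).1 ⟨m, h3.symm⟩
    exact ⟨j, hj⟩
  · exfalso
    have h1 : ϖ ^ (p ^ k) * algebraMap A B a = 1 := by
      apply IsFractionRing.injective B L
      rw [map_mul, map_one, map_pow, ← hy, ← hAL, ← map_mul, ha, mul_inv_cancel₀ hy0, map_one]
    exact hϖ.not_isUnit ((isUnit_pow_iff (pow_ne_zero k hp.ne_zero)).1 (IsUnit.of_mul_eq_one _ h1))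

end Groth.Agent.S7133
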