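import Groth.Statements.S7134
import Groth.Agent.Lib.EtRamH7.FormalSmooth
import Groth.Agent.Lib.Sep.Basic
import Groth.Agent.S4512
import Mathlib.RingTheory.AdicCompletion.Noetherian
import Mathlib.RingTheory.MvPowerSeries.NoZeroDivisors
import Mathlib.RingTheory.Artinian.Module

set_option autoImplicit false
universe u
open EtAlg

namespace Groth.Agent.S7134

/-- For an injective local homomorphism A → B of discrete valuation rings, A → B is formally smooth for
the adic topology of the maximal ideal of B if and only if A → B is weakly unramified and the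
residue field of B is a separable (possibly transcendental, i.e. geometrically reduced) extension of
the residue field of A. -/
theorem result (A B : Type u) [CommRing A]
    [IsDomain A] [IsDiscreteValuationRing A] [CommRing B] [IsDomain B] [IsDiscreteValuationRing B] [Algebra A B]
    (hinj : Function.Injective (algebraMap A B)) [IsLocalHom (algebraMap A B)] :
    CAlgX.IsAdicFormallySmooth A B (IsLocalRing.maximalIdeal B) ↔
      EtRam.IsWeaklyUnramified A B ∧
        Algebra.IsGeometricallyReduced (IsLocalRing.ResidueField A) (IsLocalRing.ResidueField B) := by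
  classical
  obtain ⟨π, hπ⟩ := IsDiscreteValuationRing.exists_irreducible A
  have hA := hπ.maximalIdeal_eq
  have hπ0 : algebraMap A B π ≠ 0 := (map_ne_zero_iff _ hinj).2 hπ.ne_zero
  have hπm : algebraMap A B π ∈ IsLocalRing.maximalIdeal B := by
    rw [IsLocalRing.mem_maximalIdeal]
    exact fun h => hπ.not_isUnit (isUnit_of_map_unit (algebraMap A B) _ h)
  constructor
  · intro h
    let R := B ⧸ Ideal.span {algebraMap A B π}
    haveI : Nontrivial R := Ideal.Quotient.nontrivial_iff.2 (fun ht => (IsLocalRing.maximalIdeal.isMaximal B).ne_top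
      (top_le_iff.1 (ht ▸ (Ideal.span_singleton_le_iff_mem _).2 hπm)))
    haveI : IsLocalRing R := IsLocalRing.of_surjective' (Ideal.Quotient.mk _) Ideal.Quotient.mk_surjective
    have hmk : IsLocalRing.maximalIdeal R = (IsLocalRing.maximalIdeal B).map (Ideal.Quotient.mk (Ideal.span {algebraMap A B π})) := by
      refine (IsLocalRing.eq_maximalIdeal ?_).symm
      refine (Ideal.map_eq_top_or_isMaximal_of_surjective _ Ideal.Quotient.mk_surjective
        (IsLocalRing.maximalIdeal.isMaximal B)).resolve_left fun ht => ?_
      have h1 : Ideal.comap (Ideal.Quotient.mk (Ideal.span {algebraMap A B π}))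
          ((IsLocalRing.maximalIdeal B).map (Ideal.Quotient.mk (Ideal.span {algebraMap A B π}))) = ⊤ := by
        rw [ht, Ideal.comap_top]
      rw [Ideal.comap_map_of_surjective _ Ideal.Quotient.mk_surjective, ← RingHom.ker_eq_comap_bot, Ideal.mk_ker,
        sup_eq_left.2 ((Ideal.span_singleton_le_iff_mem _).2 hπm)] at h1
      exact (IsLocalRing.maximalIdeal.isMaximal B).ne_top h1
    letI : Algebra (IsLocalRing.ResidueField A) R := (Ideal.Quotient.lift (IsLocalRing.maximalIdeal A)
      (algebraMap A R) (fun a ha => by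
        obtain ⟨c, rfl⟩ := Ideal.mem_span_singleton.1 (hA ▸ ha)
        rw [IsScalarTower.algebraMap_apply A B R, Ideal.Quotient.algebraMap_eq, Ideal.Quotient.eq_zero_iff_mem, map_mul]
        exact Ideal.mul_mem_right _ _ (Ideal.mem_span_singleton_self _))).toAlgebra
    have hπC : ∀ (C : Type u) [CommRing C] [Algebra (IsLocalRing.ResidueField A) C],
        algebraMap (IsLocalRing.ResidueField A) C (IsLocalRing.residue A π) = 0 := fun C _ _ => by
      rw [(IsLocalRing.residue_eq_zero_iff π).2 ((IsLocalRing.mem_maximalIdeal π).2 hπ.not_isUnit), map_zero]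
    have hR : CAlgX.IsAdicFormallySmooth (IsLocalRing.ResidueField A) R (IsLocalRing.maximalIdeal R) := by
      intro C _ _ J hJ ψ hψ
      obtain ⟨k, hk⟩ := hψ
      letI : Algebra A C := ((algebraMap (IsLocalRing.ResidueField A) C).comp (IsLocalRing.residue A)).toAlgebra
      let ψB : B →ₐ[A] C ⧸ J :=
        { ψ.toRingHom.comp (Ideal.Quotient.mk _) with
          commutes' := fun a => ψ.commutes (IsLocalRing.residue A a) }
      obtain ⟨χ, hχ⟩ := h C J hJ ψB ⟨k, fun x hx => hk _ (by
        rw [hmk, ← Ideal.map_pow]; exact Ideal.mem_map_of_mem _ hx)⟩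
      have hχπ : ∀ b ∈ Ideal.span {algebraMap A B π}, χ b = 0 := fun b hb => by
        obtain ⟨c, rfl⟩ := Ideal.mem_span_singleton.1 hb
        rw [map_mul, AlgHom.commutes]
        exact mul_eq_zero_of_left (hπC C) _
      refine ⟨{ Ideal.Quotient.lift _ χ.toRingHom hχπ with
        commutes' := fun z => by
          obtain ⟨a, rfl⟩ := IsLocalRing.residue_surjective z
          show χ (algebraMap A B a) = algebraMap A C a
          exact χ.commutes a }, AlgHom.ext fun r => ?_⟩
      obtain ⟨b, rfl⟩ := Ideal.Quotient.mk_surjective r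
      exact AlgHom.congr_fun hχ b
    obtain ⟨-, n, ⟨e⟩⟩ := Groth.Agent.S4512.result hR
    haveI : IsDomain (MvPowerSeries (Fin n) (IsLocalRing.ResidueField R)) := NoZeroDivisors.to_isDomain _
    haveI : IsDomain R := Function.Injective.isDomain
      (e.toRingHom.comp (algebraMap R (AdicCompletion (IsLocalRing.maximalIdeal R) R)))
      (e.injective.comp (AdicCompletion.of_injective (IsLocalRing.maximalIdeal R) R))
    haveI : (Ideal.span {algebraMap A B π}).IsPrime := (Ideal.Quotient.isDomain_iff_prime _).1 inferInstance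
    have hw : EtRam.IsWeaklyUnramified A B := by
      show (IsLocalRing.maximalIdeal A).map (algebraMap A B) = IsLocalRing.maximalIdeal B
      rw [hA, Ideal.map_span, Set.image_singleton]
      exact IsLocalRing.eq_maximalIdeal (IsPrime.to_maximal_ideal (by rw [Ne, Ideal.span_singleton_eq_bot]; exact hπ0))
    refine ⟨hw, ?_⟩
    rw [← Groth.Agent.Sep.formallySmooth_iff_isGeometricallyReduced]
    refine Algebra.FormallySmooth.of_comp_surjective fun C _ _ J hJ ψ => ?_
    letI : Algebra A C := ((algebraMap (IsLocalRing.ResidueField A) C).comp (IsLocalRing.residue A)).toAlgebra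
    let ψB : B →ₐ[A] C ⧸ J :=
      { ψ.toRingHom.comp (IsLocalRing.residue B) with
        commutes' := fun a => ψ.commutes (IsLocalRing.residue A a) }
    obtain ⟨χ, hχ⟩ := h C J hJ ψB ⟨1, fun x hx => by
      rw [pow_one] at hx
      show ψ (IsLocalRing.residue B x) = 0
      rw [(IsLocalRing.residue_eq_zero_iff x).2 hx, map_zero]⟩
    have hχm : ∀ b ∈ IsLocalRing.maximalIdeal B, χ b = 0 := fun b hb => by
      rw [← hw, hA, Ideal.map_span, Set.image_singleton] at hb
      obtain ⟨c, rfl⟩ := Ideal.mem_span_singleton.1 hb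
      rw [map_mul, AlgHom.commutes]
      exact mul_eq_zero_of_left (hπC C) _
    refine ⟨{ Ideal.Quotient.lift _ χ.toRingHom hχm with
      commutes' := fun z => by
        obtain ⟨a, rfl⟩ := IsLocalRing.residue_surjective z
        show χ (algebraMap A B a) = algebraMap A C a
        exact χ.commutes a }, AlgHom.ext fun r => ?_⟩
    obtain ⟨b, rfl⟩ := IsLocalRing.residue_surjective r
    exact AlgHom.congr_fun hχ b
  · rintro ⟨hw, hg⟩
    haveI : Algebra.FormallySmooth (IsLocalRing.ResidueField A) (IsLocalRing.ResidueField B) :=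
      (Groth.Agent.Sep.formallySmooth_iff_isGeometricallyReduced _ _).2 hg
    intro C _ _ J hJ ψ hψ
    obtain ⟨k, hk⟩ := hψ
    have hB : IsLocalRing.maximalIdeal B = Ideal.span {algebraMap A B π} := by
      rw [← hw, hA, Ideal.map_span, Set.image_singleton]
    refine Groth.Agent.EtRamH7.exists_lift_of_pi_pow_smul π hA hB hπ0 k C J hJ (fun j hj => ?_) ψ
    have h1 : algebraMap A C π ^ k ∈ J := by
      rw [← Ideal.Quotient.eq_zero_iff_mem, map_pow]
      show algebraMap A (C ⧸ J) π ^ k = 0
      rw [← ψ.commutes, ← map_pow]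
      exact hk _ (Ideal.pow_mem_pow hπm k)
    have h2 : algebraMap A C π ^ k * j ∈ J ^ 2 := by rw [sq]; exact Ideal.mul_mem_mul h1 hj
    rwa [hJ, Ideal.mem_bot] at h2

end Groth.Agent.S7134
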