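import Groth.Statements.S7135
import Groth.Agent.Lib.ArtinRees.HomLift
import Mathlib.RingTheory.AdicCompletion.Functoriality
import Mathlib.RingTheory.AdicCompletion.AsTensorProduct
import Mathlib.RingTheory.FiniteType

set_option autoImplicit false
universe u
open CAlg

namespace Groth.Agent.S7135

lemma exists_surj {A : Type u} [CommRing A] [IsNoetherianRing A] (I : Ideal A)
    (M N : Type u) [AddCommGroup M] [Module A M] [Module.Finite A M] [AddCommGroup N] [Module A N] [Module.Finite A N]
    (h : ∀ n : ℕ, Nonempty ((M ⧸ (I ^ n • ⊤ : Submodule A M)) ≃ₗ[A] (N ⧸ (I ^ n • ⊤ : Submodule A N)))) :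
    ∃ f : AdicCompletion I M →ₗ[AdicCompletion I A] AdicCompletion I N, Function.Surjective f := by
  obtain ⟨c, hc⟩ := Groth.Agent.ARHom.exists_hom_lift I M N
  obtain ⟨e⟩ := h (c + 1)
  obtain ⟨φ, hφ⟩ := hc (c + 1) 0 (by omega) (e.toLinearMap ∘ₗ Submodule.mkQ _) 1 (by simp)
  refine ⟨AdicCompletion.map I φ, AdicCompletion.map_surjective_of_mkQ_comp_surjective fun y => ?_⟩
  obtain ⟨y, rfl⟩ := Submodule.Quotient.mk_surjective _ y
  obtain ⟨x', hx⟩ := e.surjective (Submodule.Quotient.mk y)
  obtain ⟨x, rfl⟩ := Submodule.Quotient.mk_surjective _ x'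
  refine ⟨x, ?_⟩
  have := hφ x y (by simp [hx])
  rw [one_smul, show c + 1 + 0 - c = 1 by omega, pow_one] at this
  exact (Submodule.Quotient.eq _).2 this


/-- Let A be a Noetherian ring, I an ideal and M, N finite A-modules. If M/IⁿM and N/IⁿN are isomorphic
for every n, then the I-adic completions of M and N are isomorphic as modules over the I-adic
completion of A. -/
theorem result (A : Type u) [CommRing A] [IsNoetherianRing A] (I : Ideal A)
    (M N : Type u) [AddCommGroup M] [Module A M] [Module.Finite A M] [AddCommGroup N] [Module A N]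
    [Module.Finite A N]
    (h : ∀ n : ℕ, Nonempty ((M ⧸ (I ^ n • ⊤ : Submodule A M)) ≃ₗ[A] (N ⧸ (I ^ n • ⊤ : Submodule A N)))) :
    Nonempty (AdicCompletion I M ≃ₗ[AdicCompletion I A] AdicCompletion I N) := by
  obtain ⟨f, hf⟩ := exists_surj I M N h
  obtain ⟨g, hg⟩ := exists_surj I N M fun n => ⟨(h n).some.symm⟩
  haveI : Module.Finite (AdicCompletion I A) (AdicCompletion I M) :=
    Module.Finite.equiv (AdicCompletion.ofTensorProductEquivOfFiniteNoetherian I M)
  have hinj : Function.Injective (g ∘ₗ f) :=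
    OrzechProperty.injective_of_surjective_endomorphism _ (hg.comp hf)
  exact ⟨LinearEquiv.ofBijective f ⟨fun a b hab => hinj (congrArg g hab), hf⟩⟩

end Groth.Agent.S7135
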