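import Groth.Statements.S7137
import Groth.Agent.Lib.AB5.Basic

set_option autoImplicit false
universe u
open CategoryTheory
open CAlg

namespace Groth.Agent.S7137

open CategoryTheory IsLocalRing in
theorem ab_value {A : Type u} [CommRing A] [IsLocalRing A] [IsNoetherianRing A] {M : Type u} [AddCommGroup M]
    [Module A M] [Module.Finite A M] [Nontrivial M] {t d : ℕ} (ht : LocCoh.depth A A = t) (hd : LocCoh.depth A M = d)
    (hn : ∃ n, Groth.Agent.RegLoc.PD A M n) :
    d ≤ t ∧ projectiveDimension (ModuleCat.of A M) = ((t - d : ℕ) : WithBot ℕ∞) := by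
  have h := Groth.Agent.AB5.pd_iff t ht hn hd (Nat.le_add_left t d)
  have hdt : d ≤ t := by
    by_contra hlt
    have h0 := (h 0).2 (by omega)
    haveI := Groth.Agent.RegLoc.pd_zero_iff.1 h0
    have := Groth.Agent.AB5.depth_of_projective (A := A) (M := M)
    rw [hd, ht, Nat.cast_inj] at this
    omega
  refine ⟨hdt, le_antisymm ((projectiveDimension_le_iff _ _).2 ((h (t - d)).2 (by omega))) ?_⟩
  rw [projectiveDimension_ge_iff]
  rcases Nat.eq_zero_or_pos (t - d) with h0 | hpos
  · rw [h0, hasProjectiveDimensionLT_zero_iff_isZero]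
    intro hz
    haveI := ModuleCat.subsingleton_of_isZero hz
    exact false_of_nontrivial_of_subsingleton M
  · intro hlt
    have := (h (t - d - 1)).1 (show Groth.Agent.RegLoc.PD A M (t - d - 1) by
      rw [Groth.Agent.RegLoc.PD, Nat.sub_add_cancel hpos]; exact hlt)
    omega

open CategoryTheory Groth.Agent.RegLoc in
theorem pd_mid {R : Type u} [CommRing R] {K N M : Type u} [AddCommGroup K] [Module R K] [AddCommGroup N] [Module R N]
    [AddCommGroup M] [Module R M] {n : ℕ} (i : K →ₗ[R] N) (f : N →ₗ[R] M) (hi : Function.Injective i)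
    (hf : Function.Surjective f) (hex : Function.Exact i f) (hK : PD R K n) (hM : PD R M n) : PD R N n := by
  let S : ShortComplex (ModuleCat.{u} R) := ModuleCat.shortComplexOfCompEqZero i f hex.linearMap_comp_eq_zero
  have hS : S.ShortExact := ModuleCat.shortComplex_shortExact S hex hi hf
  exact hS.hasProjectiveDimensionLT_X₂ (n + 1) hK hM

open Groth.Agent.RegLoc in
theorem pd_finite_restrict {R : Type u} [CommRing R] (I : Ideal R) [IsLocalRing (R ⧸ I)] [IsNoetherianRing (R ⧸ I)]
    (r : ℕ) (hr : PD R (R ⧸ I) r) : ∀ (n : ℕ) (E : Type u) [AddCommGroup E] [Module (R ⧸ I) E] [Module R E]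
      [IsScalarTower R (R ⧸ I) E] [Module.Finite (R ⧸ I) E], PD (R ⧸ I) E n → PD R E (n + r) := by
  have hfree : ∀ m, PD R (Fin m → R ⧸ I) r := by
    intro m
    induction m with
    | zero => exact PD.of_projective r
    | succ m ih =>
      let e : ((R ⧸ I) × (Fin m → R ⧸ I)) ≃ₗ[R] (Fin (m + 1) → R ⧸ I) := Fin.consLinearEquiv R fun _ => R ⧸ I
      exact (pd_mid (LinearMap.inl R (R ⧸ I) (Fin m → R ⧸ I)) (LinearMap.snd R _ _) LinearMap.inl_injective
        LinearMap.snd_surjective Function.Exact.inl_snd hr ih).congr e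
  intro n
  induction n with
  | zero =>
    intro E _ _ _ _ _ hE
    haveI := pd_zero_iff.1 hE
    haveI : Module.Free (R ⧸ I) E := Module.free_of_flat_of_isLocalRing
    let e := ((Module.finBasis (R ⧸ I) E).equivFun).restrictScalars R
    rw [Nat.zero_add]
    exact (hfree _).congr e.symm
  | succ n ih =>
    intro E _ _ _ _ _ hE
    obtain ⟨m, f, hf⟩ := Module.Finite.exists_fin' (R ⧸ I) E
    haveI : Module.Finite (R ⧸ I) (LinearMap.ker f) := Module.Finite.iff_fg.2 (IsNoetherian.noetherian _)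
    have hk := ih (LinearMap.ker f) ((pd_succ_iff f hf).1 hE)
    rw [show n + 1 + r = n + r + 1 by omega]
    exact PD.quotient ((LinearMap.ker f).subtype.restrictScalars R) (f.restrictScalars R)
      (LinearMap.ker f).injective_subtype hf (LinearMap.exact_subtype_ker_map f) hk ((hfree m).mono (by omega))


/-- Take a Noetherian local ring R, an ideal I and a finite module E ≠ 0 over R/I. Suppose that R/I, as
an R-module, and E, as an R/I-module, both have finite projective dimension. Then E, as an R-module,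
has finite projective dimension too, and it equals pd_R(R/I) + pd_{R/I}(E). -/
theorem result (R : Type u) [CommRing R] [IsNoetherianRing R] [IsLocalRing R]
    (I : Ideal R) (E : Type u) [AddCommGroup E] [Module (R ⧸ I) E] [Module R E] [IsScalarTower R (R ⧸ I) E]
    [Module.Finite (R ⧸ I) E] [Nontrivial E]
    (h1 : projectiveDimension (ModuleCat.of R (R ⧸ I)) ≠ ⊤)
    (h2 : projectiveDimension (ModuleCat.of (R ⧸ I) E) ≠ ⊤) :
    projectiveDimension (ModuleCat.of R E) ≠ ⊤ ∧
      projectiveDimension (ModuleCat.of R E) =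
        projectiveDimension (ModuleCat.of R (R ⧸ I)) + projectiveDimension (ModuleCat.of (R ⧸ I) E) := by
  obtain ⟨r, hr⟩ := (projectiveDimension_ne_top_iff _).1 h1
  obtain ⟨n, hn⟩ := (projectiveDimension_ne_top_iff _).1 h2
  haveI : Nontrivial (R ⧸ I) := Module.nontrivial (R ⧸ I) E
  haveI : IsLocalRing (R ⧸ I) := .of_surjective' _ Ideal.Quotient.mk_surjective
  haveI : Module.Finite R E := Module.Finite.trans (R ⧸ I) E
  have hE : Groth.Agent.RegLoc.PD R E (n + r) := pd_finite_restrict I r hr n E hn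
  obtain ⟨t, ht⟩ := Groth.Agent.DepthLib.exists_depth_eq_natCast (R := R) (M := R)
  obtain ⟨q, hq⟩ := Groth.Agent.DepthLib.exists_depth_eq_natCast (R := R ⧸ I) (M := R ⧸ I)
  obtain ⟨d, hd⟩ := Groth.Agent.DepthLib.exists_depth_eq_natCast (R := R ⧸ I) (M := E)
  have hq' : LocCoh.depth R (R ⧸ I) = q :=
    (Groth.Agent.FlatDepth.depth_eq_of_surjective (A := R) (B := R ⧸ I) (M := R ⧸ I) Ideal.Quotient.mk_surjective).trans hq
  have hd' : LocCoh.depth R E = d :=
    (Groth.Agent.FlatDepth.depth_eq_of_surjective (A := R) (B := R ⧸ I) (M := E) Ideal.Quotient.mk_surjective).trans hd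
  obtain ⟨hqt, e1⟩ := ab_value (A := R) (M := R ⧸ I) ht hq' ⟨r, hr⟩
  obtain ⟨hdq, e2⟩ := ab_value (A := R ⧸ I) (M := E) hq hd ⟨n, hn⟩
  obtain ⟨-, e3⟩ := ab_value (A := R) (M := E) ht hd' ⟨_, hE⟩
  refine ⟨(projectiveDimension_ne_top_iff _).2 ⟨_, hE⟩, ?_⟩
  rw [e1, e2, e3, ← Nat.cast_add]
  congr 1
  omega

end Groth.Agent.S7137
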