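import Groth.Statements.S7138
import Mathlib.Algebra.Polynomial.Eval.Irreducible
import Groth.Agent.S0549
import Groth.Agent.Lib.KrasnerH7.Basic
import Mathlib.FieldTheory.PrimitiveElement
import Mathlib.FieldTheory.Minpoly.IsIntegrallyClosed
import Mathlib.FieldTheory.SeparableDegree
import Mathlib.RingTheory.IntegralClosure.IsIntegralClosure.Basic
import Groth.Agent.Lib.Compl.Algebraize
import Mathlib.RingTheory.DedekindDomain.IntegralClosure

set_option autoImplicit false
universe u
open EtAlg

namespace Groth.Agent.S7138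

open TensorProduct in
/-- Let A be a discrete valuation ring, K its field of fractions, A^ its completion and K^ the fraction
field of A^. Every finite separable extension M of K^ arises by base change: M ≅ K^ ⊗_K L as
K^-algebras for some finite separable extension L/K. -/
theorem result (A K : Type u) [CommRing A] [IsDomain A]
    [IsDiscreteValuationRing A] [Field K] [Algebra A K] [IsFractionRing A K]
    (Kh : Type u) [Field Kh] [Algebra (AdicCompletion (IsLocalRing.maximalIdeal A) A) Kh]
    [IsFractionRing (AdicCompletion (IsLocalRing.maximalIdeal A) A) Kh] [Algebra A Kh] [Algebra K Kh]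
    [IsScalarTower A (AdicCompletion (IsLocalRing.maximalIdeal A) A) Kh] [IsScalarTower A K Kh]
    (M : Type u) [Field M] [Algebra Kh M] [FiniteDimensional Kh M] [Algebra.IsSeparable Kh M] :
    ∃ (L : Type u) (_ : Field L) (_ : Algebra K L), FiniteDimensional K L ∧ Algebra.IsSeparable K L ∧
      Nonempty ((Kh ⊗[K] L) ≃ₐ[Kh] M) := by
  classical
  open Polynomial IntermediateField in
  obtain ⟨hdomH, hdvrH⟩ := (Groth.Agent.S0549.result A).1 ⟨inferInstance, inferInstance⟩
  obtain ⟨π, hπ⟩ := IsDiscreteValuationRing.exists_irreducible A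
  let ϖ : (AdicCompletion (IsLocalRing.maximalIdeal A) A) := algebraMap A (AdicCompletion (IsLocalRing.maximalIdeal A) A) π
  have hfg : (IsLocalRing.maximalIdeal A).FG := IsNoetherian.noetherian _
  have hmax : IsLocalRing.maximalIdeal (AdicCompletion (IsLocalRing.maximalIdeal A) A) = Ideal.span {ϖ} := by
    exact AdicCompletion.maximalIdeal_eq_map.trans ((congrArg (Ideal.map _) hπ.maximalIdeal_eq).trans (by rw [Ideal.map_span, Set.image_singleton]))
  have hϖ : Irreducible ϖ := (IsDiscreteValuationRing.irreducible_iff_uniformizer ϖ).2 hmax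
  have hcplH : IsAdicComplete (Ideal.span {ϖ}) (AdicCompletion (IsLocalRing.maximalIdeal A) A) := by
    have h1 : IsAdicComplete ((IsLocalRing.maximalIdeal A).map (algebraMap A (AdicCompletion (IsLocalRing.maximalIdeal A) A))) (AdicCompletion (IsLocalRing.maximalIdeal A) A) :=
      (IsAdicComplete.map_algebraMap_iff _ _).2 (AdicCompletion.isAdicComplete hfg)
    rwa [← AdicCompletion.maximalIdeal_eq_map, hmax] at h1
  have happrox : ∀ (N : ℕ) (x : (AdicCompletion (IsLocalRing.maximalIdeal A) A)), ∃ a : A, ϖ ^ N ∣ x - algebraMap A (AdicCompletion (IsLocalRing.maximalIdeal A) A) a := by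
    intro N x
    obtain ⟨a, ha⟩ := Groth.Agent.Compl.exists_sub_mem_map_pow (IsLocalRing.maximalIdeal A) N x
    refine ⟨a, ?_⟩
    have h1 : Ideal.map (algebraMap A (AdicCompletion (IsLocalRing.maximalIdeal A) A)) (IsLocalRing.maximalIdeal A) = Ideal.span {ϖ} :=
      AdicCompletion.maximalIdeal_eq_map.symm.trans hmax
    rw [Ideal.map_pow, h1, Ideal.span_singleton_pow, Ideal.mem_span_singleton] at ha
    exact ha
  letI : Algebra (AdicCompletion (IsLocalRing.maximalIdeal A) A) M := ((algebraMap Kh M).comp (algebraMap (AdicCompletion (IsLocalRing.maximalIdeal A) A) Kh)).toAlgebra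
  haveI : IsScalarTower (AdicCompletion (IsLocalRing.maximalIdeal A) A) Kh M := IsScalarTower.of_algebraMap_eq' rfl
  let B := integralClosure (AdicCompletion (IsLocalRing.maximalIdeal A) A) M
  have hfinB : Module.Finite (AdicCompletion (IsLocalRing.maximalIdeal A) A) B := IsIntegralClosure.finite (AdicCompletion (IsLocalRing.maximalIdeal A) A) Kh M B
  have hcplB : IsAdicComplete (Ideal.span {algebraMap (AdicCompletion (IsLocalRing.maximalIdeal A) A) B ϖ}) B := by
    have h1 : IsAdicComplete (Ideal.span {ϖ}) B := Groth.Agent.Compl.isAdicComplete_of_finite _ B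
    have h2 := (IsAdicComplete.map_algebraMap_iff (S := B) (Ideal.span {ϖ}) B).2 h1
    rwa [Ideal.map_span, Set.image_singleton] at h2
  have : IsFractionRing B M := IsIntegralClosure.isFractionRing_of_finite_extension (AdicCompletion (IsLocalRing.maximalIdeal A) A) Kh M B
  obtain ⟨α₀, hα₀⟩ := Field.exists_primitive_element Kh M
  obtain ⟨⟨d, hd⟩, hdint⟩ := IsIntegral.exists_multiple_integral_of_isLocalization (nonZeroDivisors (AdicCompletion (IsLocalRing.maximalIdeal A) A)) α₀
    (Algebra.IsIntegral.isIntegral (R := Kh) α₀)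
  let α : B := ⟨d • α₀, hdint⟩
  have hd0 : algebraMap (AdicCompletion (IsLocalRing.maximalIdeal A) A) Kh d ≠ 0 := by
    rw [map_ne_zero_iff _ (IsFractionRing.injective (AdicCompletion (IsLocalRing.maximalIdeal A) A) Kh)]; exact nonZeroDivisors.ne_zero hd
  have hα : Kh⟮(α : M)⟯ = ⊤ := by
    rw [eq_top_iff, ← hα₀, IntermediateField.adjoin_simple_le_iff]
    have h1 : (algebraMap (AdicCompletion (IsLocalRing.maximalIdeal A) A) Kh d)⁻¹ • (α : M) ∈ Kh⟮(α : M)⟯ :=
      Kh⟮(α : M)⟯.smul_mem (IntermediateField.mem_adjoin_simple_self Kh _)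
    have e2 : (algebraMap (AdicCompletion (IsLocalRing.maximalIdeal A) A) Kh d)⁻¹ • (α : M) = α₀ := by
      rw [show ((α : B) : M) = algebraMap (AdicCompletion (IsLocalRing.maximalIdeal A) A) Kh d • α₀ from (algebraMap_smul Kh d α₀).symm]; exact inv_smul_smul₀ hd0 α₀
    rwa [e2] at h1
  have hint : IsIntegral (AdicCompletion (IsLocalRing.maximalIdeal A) A) (α : M) := hdint
  set f := minpoly (AdicCompletion (IsLocalRing.maximalIdeal A) A) (α : M) with hf
  have hfm : f.Monic := minpoly.monic hint
  have hfK : minpoly Kh (α : M) = f.map (algebraMap (AdicCompletion (IsLocalRing.maximalIdeal A) A) Kh) := minpoly.isIntegrallyClosed_eq_field_fractions' Kh hint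
  set n := f.natDegree with hn
  have hnM : Module.finrank Kh M = n := by
    rw [hn, ← hfm.natDegree_map (algebraMap (AdicCompletion (IsLocalRing.maximalIdeal A) A) Kh), ← hfK, ← IntermediateField.adjoin.finrank
      (Algebra.IsIntegral.isIntegral (R := Kh) (α : M)), hα, IntermediateField.finrank_top']
  have hfα : aeval α f = 0 := by
    apply Subtype.coe_injective
    simp only
    rw [show ((aeval α f : B) : M) = aeval (α : M) f from (aeval_algHom_apply B.val α f).symm, minpoly.aeval]; rfl
  have hf' : aeval α (derivative f) ≠ 0 := by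
    intro h0
    have hsep : IsSeparable Kh (α : M) := Algebra.IsSeparable.isSeparable Kh _
    have h1 := Separable.aeval_derivative_ne_zero hsep (minpoly.aeval Kh (α : M))
    rw [hfK, derivative_map, aeval_map_algebraMap] at h1
    apply h1
    rw [show aeval (α : M) (derivative f) = ((aeval α (derivative f) : B) : M) from aeval_algHom_apply B.val α _, h0]; rfl
  have hpow : ∀ J : Ideal (AdicCompletion (IsLocalRing.maximalIdeal A) A), J ≠ ⊥ → ∃ k, ϖ ^ k ∈ J := fun J hJ => by
    obtain ⟨k, hk⟩ := IsDiscreteValuationRing.ideal_eq_span_pow_irreducible hJ hϖ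
    exact ⟨k, hk ▸ Ideal.mem_span_singleton_self _⟩
  obtain ⟨k, hk⟩ := hpow ((Ideal.span {aeval α (derivative f)}).comap (algebraMap (AdicCompletion (IsLocalRing.maximalIdeal A) A) B))
    (Ideal.comap_ne_bot_of_integral_mem hf' (Ideal.mem_span_singleton_self _) (Algebra.IsIntegral.isIntegral _))
  obtain ⟨e, he⟩ := Ideal.mem_span_singleton'.1 (Ideal.mem_comap.1 hk)
  rw [map_pow] at he
  -- the lattice
  let T : B → Submodule (AdicCompletion (IsLocalRing.maximalIdeal A) A) B := fun x => Submodule.span (AdicCompletion (IsLocalRing.maximalIdeal A) A) (Set.range fun i : Fin n => x ^ (i : ℕ))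
  have hspanM : ∀ (y : M), y ∈ Submodule.span Kh (Set.range fun i : Fin n => (α : M) ^ (i : ℕ)) := by
    intro y
    have hi : IsIntegral Kh (α : M) := Algebra.IsIntegral.isIntegral _
    have hy : y ∈ Algebra.adjoin Kh ({(α : M)} : Set M) := by
      rw [← IntermediateField.adjoin_simple_toSubalgebra_of_isAlgebraic hi.isAlgebraic, hα]; trivial
    rw [Algebra.adjoin_singleton_eq_range_aeval] at hy
    obtain ⟨p, hp⟩ := hy
    have := hi.mem_span_pow (y := y) ⟨p, hp.symm⟩
    rwa [hfK, hfm.natDegree_map] at this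
  obtain ⟨s, hs⟩ : ∃ s, ∀ y : B, ϖ ^ s • y ∈ T α := by
    have hJ : ∀ y : B, ∃ b : (AdicCompletion (IsLocalRing.maximalIdeal A) A), b ≠ 0 ∧ b • y ∈ T α := by
      intro y
      obtain ⟨c, hc⟩ := (Submodule.mem_span_range_iff_exists_fun Kh).1 (hspanM (y : M))
      obtain ⟨⟨b, hb⟩, hb'⟩ := IsLocalization.exist_integer_multiples (nonZeroDivisors (AdicCompletion (IsLocalRing.maximalIdeal A) A)) Finset.univ c
      choose a ha using fun i => hb' i (Finset.mem_univ i)
      refine ⟨b, nonZeroDivisors.ne_zero hb, (Submodule.mem_span_range_iff_exists_fun (AdicCompletion (IsLocalRing.maximalIdeal A) A)).2 ⟨a, ?_⟩⟩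
      apply Subtype.coe_injective
      simp only [AddSubmonoidClass.coe_finsetSum, Subalgebra.coe_smul, SubmonoidClass.coe_pow]
      rw [← hc, Finset.smul_sum]
      refine Finset.sum_congr rfl fun i _ => ?_
      rw [← algebraMap_smul Kh (a i), ← smul_assoc, show algebraMap (AdicCompletion (IsLocalRing.maximalIdeal A) A) Kh (a i) = b • c i from ha i]
    obtain ⟨G, hG⟩ := Module.finite_def.1 hfinB
    choose b hb hby using hJ
    obtain ⟨s, hs⟩ := hpow (Ideal.span {∏ y ∈ G, b y}) (by
      rw [Ne, Ideal.span_singleton_eq_bot]; exact Finset.prod_ne_zero_iff.2 fun y _ => hb y)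
    obtain ⟨c, hc⟩ := Ideal.mem_span_singleton'.1 hs
    refine ⟨s, fun y => ?_⟩
    have hy : y ∈ Submodule.span (AdicCompletion (IsLocalRing.maximalIdeal A) A) (G : Set B) := hG ▸ Submodule.mem_top
    induction hy using Submodule.span_induction with
    | mem z hz =>
      rw [← hc, ← Finset.prod_erase_mul G b (Finset.mem_coe.1 hz), ← mul_assoc, mul_smul]
      exact (T α).smul_mem _ (hby z)
    | zero => rw [smul_zero]; exact (T α).zero_mem
    | add z w _ _ hz hw => rw [smul_add]; exact (T α).add_mem hz hw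
    | smul r z _ hz => rw [smul_comm]; exact (T α).smul_mem _ hz
  -- approximation
  let N := 2 * k + s + 1
  choose a ha using fun i : ℕ => happrox N (f.coeff i)
  let g : A[X] := X ^ n + ∑ i ∈ Finset.range n, C (a i) * X ^ i
  have hgm : g.Monic := monic_X_pow_add (lt_of_le_of_lt (degree_sum_le _ _) (Finset.sup_lt_iff (WithBot.bot_lt_coe n) |>.2
    fun i hi => lt_of_le_of_lt (degree_C_mul_X_pow_le _ _) (WithBot.coe_lt_coe.2 (Finset.mem_range.1 hi))))
  let gB : B[X] := g.map ((algebraMap (AdicCompletion (IsLocalRing.maximalIdeal A) A) B).comp (algebraMap A (AdicCompletion (IsLocalRing.maximalIdeal A) A)))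
  have hgf : ∀ (p : ℕ), (algebraMap (AdicCompletion (IsLocalRing.maximalIdeal A) A) B ϖ) ^ N ∣ gB.coeff p - algebraMap (AdicCompletion (IsLocalRing.maximalIdeal A) A) B (f.coeff p) := by
    intro p
    rw [show gB.coeff p = algebraMap (AdicCompletion (IsLocalRing.maximalIdeal A) A) B (algebraMap A (AdicCompletion (IsLocalRing.maximalIdeal A) A) (g.coeff p)) from coeff_map _ _, ← map_sub, ← map_pow]
    refine map_dvd _ ?_
    simp only [g, coeff_add, coeff_X_pow, finsetSum_coeff, coeff_C_mul_X_pow, Finset.sum_ite_eq,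
      Finset.mem_range]
    rcases lt_trichotomy p n with h | h | h
    · rw [if_neg (ne_of_lt h), if_pos h, zero_add, ← neg_sub]; exact (ha p).neg_right
    · subst h; rw [if_pos rfl, if_neg (lt_irrefl _), add_zero, map_one, hfm.coeff_natDegree, sub_self]; exact dvd_zero _
    · rw [if_neg (ne_of_gt h), if_neg (by omega), add_zero, map_zero, coeff_eq_zero_of_natDegree_lt h, sub_self]; exact dvd_zero _
  have hdiff : ∀ (P : B[X]), (∀ p, (algebraMap (AdicCompletion (IsLocalRing.maximalIdeal A) A) B ϖ) ^ N ∣ P.coeff p) → (algebraMap (AdicCompletion (IsLocalRing.maximalIdeal A) A) B ϖ) ^ N ∣ P.eval α := by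
    intro P hP
    rw [eval_eq_sum]
    exact Finset.dvd_sum fun p _ => (hP p).mul_right _
  have h1 : (algebraMap (AdicCompletion (IsLocalRing.maximalIdeal A) A) B ϖ) ^ N ∣ gB.eval α := by
    have := hdiff (gB - f.map (algebraMap (AdicCompletion (IsLocalRing.maximalIdeal A) A) B)) (fun p => by rw [coeff_sub, coeff_map (f := algebraMap (AdicCompletion (IsLocalRing.maximalIdeal A) A) B) (p := f)]; exact hgf p)
    rwa [eval_sub, eval_map_algebraMap, hfα, sub_zero] at this
  have h2 : (algebraMap (AdicCompletion (IsLocalRing.maximalIdeal A) A) B ϖ) ^ N ∣ gB.derivative.eval α - aeval α (derivative f) := by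
    have := hdiff (gB.derivative - (derivative f).map (algebraMap (AdicCompletion (IsLocalRing.maximalIdeal A) A) B)) (fun p => by
      rw [coeff_sub, coeff_map, coeff_derivative, coeff_derivative, map_mul, map_add, map_natCast, map_one, ← sub_mul]
      exact (hgf (p + 1)).mul_right _)
    rwa [eval_sub, eval_map_algebraMap] at this
  obtain ⟨r, hr⟩ := h2
  have hu : IsUnit (1 + algebraMap (AdicCompletion (IsLocalRing.maximalIdeal A) A) B ϖ * ((algebraMap (AdicCompletion (IsLocalRing.maximalIdeal A) A) B ϖ) ^ (N - k - 1) * r * e)) := by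
    rw [mul_comm (algebraMap (AdicCompletion (IsLocalRing.maximalIdeal A) A) B ϖ), add_comm]
    exact Ideal.mem_jacobson_bot.1 (IsAdicComplete.le_jacobson_bot (I := Ideal.span {algebraMap (AdicCompletion (IsLocalRing.maximalIdeal A) A) B ϖ})
      (Ideal.mem_span_singleton_self _)) _ |> fun h => by rwa [mul_comm]
  obtain ⟨v, hv⟩ := hu.exists_left_inv
  have hpowN : (algebraMap (AdicCompletion (IsLocalRing.maximalIdeal A) A) B ϖ) ^ N = (algebraMap (AdicCompletion (IsLocalRing.maximalIdeal A) A) B ϖ) ^ k * (algebraMap (AdicCompletion (IsLocalRing.maximalIdeal A) A) B ϖ * (algebraMap (AdicCompletion (IsLocalRing.maximalIdeal A) A) B ϖ) ^ (N - k - 1)) := by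
    rw [← pow_succ', ← pow_add]; congr 1; simp only [N]; omega
  obtain ⟨β, hβ0, hβα⟩ := Groth.Agent.KrasnerH7.exists_root (algebraMap (AdicCompletion (IsLocalRing.maximalIdeal A) A) B ϖ) gB α (e * v) k N (by
      linear_combination e * v * hr + v * he + r * e * v * hpowN + (algebraMap (AdicCompletion (IsLocalRing.maximalIdeal A) A) B ϖ) ^ k * hv)
    (by simp only [N]; omega) h1
  -- generation
  have hgen : ∀ y : B, ϖ ^ s • y ∈ T β := by
    let W : Submodule (AdicCompletion (IsLocalRing.maximalIdeal A) A) B := LinearMap.range (DistribSMul.toLinearMap (AdicCompletion (IsLocalRing.maximalIdeal A) A) B (ϖ ^ s))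
    have hW : W ≤ T β := by
      refine Submodule.le_of_le_smul_of_le_jacobson_bot (I := Ideal.span {ϖ}) (show W.FG from by simp only [W, LinearMap.range_eq_map]; exact Submodule.FG.map _ hfinB.fg_top)
        (IsAdicComplete.le_jacobson_bot _) ?_
      rintro _ ⟨y, rfl⟩
      show ϖ ^ s • y ∈ _
      obtain ⟨c, hc⟩ := (Submodule.mem_span_range_iff_exists_fun (AdicCompletion (IsLocalRing.maximalIdeal A) A)).1 (hs y)
      rw [← hc, show (∑ i, c i • α ^ (i : ℕ)) = (∑ i, c i • β ^ (i : ℕ)) + ∑ i, c i • (α ^ (i : ℕ) - β ^ (i : ℕ)) by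
        rw [← Finset.sum_add_distrib]; exact Finset.sum_congr rfl fun i _ => by rw [← smul_add, add_sub_cancel]]
      refine Submodule.add_mem_sup ((Submodule.mem_span_range_iff_exists_fun (AdicCompletion (IsLocalRing.maximalIdeal A) A)).2 ⟨c, rfl⟩) (Submodule.sum_mem _ fun i _ => Submodule.smul_mem _ _ ?_)
      obtain ⟨z, hz⟩ : (algebraMap (AdicCompletion (IsLocalRing.maximalIdeal A) A) B ϖ) ^ (N - k) ∣ α ^ (i : ℕ) - β ^ (i : ℕ) := by
        refine dvd_trans ?_ (sub_dvd_pow_sub_pow α β (i : ℕ))
        rw [← neg_sub]; exact hβα.neg_right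
      have hz' : α ^ (i : ℕ) - β ^ (i : ℕ) = ϖ • (ϖ ^ s • (ϖ ^ k • z)) := by
        rw [smul_smul, smul_smul, Algebra.smul_def, hz, map_mul, map_mul, map_pow, map_pow]
        rw [← pow_succ', ← pow_add]
        congr 2
        simp only [N]; omega
      rw [hz']
      exact Submodule.smul_mem_smul (Ideal.mem_span_singleton_self _) ⟨_, rfl⟩
    exact fun y => hW ⟨y, rfl⟩
  have htop : Submodule.span Kh (Set.range fun i : Fin n => (β : M) ^ (i : ℕ)) = ⊤ := by
    rw [eq_top_iff]
    intro y _
    have hloc : IsLocalization (Algebra.algebraMapSubmonoid B (nonZeroDivisors (AdicCompletion (IsLocalRing.maximalIdeal A) A))) M := IsIntegralClosure.isLocalization (AdicCompletion (IsLocalRing.maximalIdeal A) A) Kh M B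
    obtain ⟨⟨y₁, ⟨b, hb⟩⟩, hy⟩ := IsLocalization.surj (Algebra.algebraMapSubmonoid B (nonZeroDivisors (AdicCompletion (IsLocalRing.maximalIdeal A) A))) (S := M) y
    obtain ⟨b₀, hb₀, rfl⟩ := hb
    obtain ⟨c, hc⟩ := (Submodule.mem_span_range_iff_exists_fun (AdicCompletion (IsLocalRing.maximalIdeal A) A)).1 (hgen y₁)
    have hne : algebraMap (AdicCompletion (IsLocalRing.maximalIdeal A) A) Kh (ϖ ^ s * b₀) ≠ 0 := by
      rw [map_ne_zero_iff _ (IsFractionRing.injective (AdicCompletion (IsLocalRing.maximalIdeal A) A) Kh)]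
      exact mul_ne_zero (pow_ne_zero _ hϖ.ne_zero) (nonZeroDivisors.ne_zero hb₀)
    have hy' : algebraMap (AdicCompletion (IsLocalRing.maximalIdeal A) A) Kh (ϖ ^ s * b₀) • y = ∑ i, algebraMap (AdicCompletion (IsLocalRing.maximalIdeal A) A) Kh (c i) • (β : M) ^ (i : ℕ) := by
      have := congrArg (fun z : B => (z : M)) hc
      simp only [AddSubmonoidClass.coe_finsetSum, Subalgebra.coe_smul, SubmonoidClass.coe_pow] at this
      simp only [algebraMap_smul]
      rw [this, mul_smul, Algebra.smul_def b₀, mul_comm]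
      exact congrArg _ hy
    rw [← inv_smul_smul₀ hne y, hy']
    exact Submodule.smul_mem _ _ ((Submodule.mem_span_range_iff_exists_fun Kh).2 ⟨_, rfl⟩)
  have hβgen : Kh⟮(β : M)⟯ = ⊤ := by
    rw [eq_top_iff]
    intro y _
    have h3 : y ∈ Submodule.span Kh (Set.range fun i : Fin n => (β : M) ^ (i : ℕ)) := htop ▸ Submodule.mem_top
    have hle : Submodule.span Kh (Set.range fun i : Fin n => (β : M) ^ (i : ℕ)) ≤ Subalgebra.toSubmodule Kh⟮(β : M)⟯.toSubalgebra :=
      Submodule.span_le.2 (by rintro _ ⟨i, rfl⟩; exact pow_mem (IntermediateField.mem_adjoin_simple_self Kh _) _)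
    exact hle h3
  let gK : K[X] := g.map (algebraMap A K)
  have hgKh : gK.map (algebraMap K Kh) = g.map (algebraMap A Kh) := by
    rw [Polynomial.map_map, ← IsScalarTower.algebraMap_eq]
  have hroot : aeval (β : M) (g.map (algebraMap A Kh)) = 0 := by
    have h0 : Polynomial.eval₂ ((algebraMap (AdicCompletion (IsLocalRing.maximalIdeal A) A) B).comp (algebraMap A (AdicCompletion (IsLocalRing.maximalIdeal A) A))) β g = 0 := by rwa [← Polynomial.eval_map]
    have h1 := congrArg (B.val : B →+* M) h0
    rw [Polynomial.hom_eval₂, map_zero] at h1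
    rw [aeval_def, eval₂_map]
    refine Eq.trans (congrArg (fun φ => Polynomial.eval₂ φ (β : M) g) ?_) h1
    ext z
    show algebraMap Kh M (algebraMap A Kh z) = algebraMap (AdicCompletion (IsLocalRing.maximalIdeal A) A) M (algebraMap A (AdicCompletion (IsLocalRing.maximalIdeal A) A) z)
    rw [IsScalarTower.algebraMap_apply A (AdicCompletion (IsLocalRing.maximalIdeal A) A) Kh, ← IsScalarTower.algebraMap_apply (AdicCompletion (IsLocalRing.maximalIdeal A) A) Kh M]
  have hdeg : (minpoly Kh (β : M)).natDegree = n := by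
    rw [← IntermediateField.adjoin.finrank (Algebra.IsIntegral.isIntegral _), hβgen, IntermediateField.finrank_top', hnM]
  have hgn : g.natDegree = n := natDegree_eq_of_degree_eq_some (by
    rw [degree_add_eq_left_of_degree_lt, degree_X_pow]
    rw [degree_X_pow]
    exact lt_of_le_of_lt (degree_sum_le _ _) (Finset.sup_lt_iff (WithBot.bot_lt_coe n) |>.2
      fun i hi => lt_of_le_of_lt (degree_C_mul_X_pow_le _ _) (WithBot.coe_lt_coe.2 (Finset.mem_range.1 hi))))
  have hmin : g.map (algebraMap A Kh) = minpoly Kh (β : M) := by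
    refine eq_of_monic_of_dvd_of_natDegree_le (minpoly.monic (Algebra.IsIntegral.isIntegral _)) (hgm.map _) (minpoly.dvd _ _ hroot) ?_
    rw [hgm.natDegree_map, hgn, hdeg]
  have hirr : Irreducible gK := Polynomial.Monic.irreducible_of_irreducible_map (algebraMap K Kh) gK (hgm.map _) (by
    rw [hgKh, hmin]; exact minpoly.irreducible (Algebra.IsIntegral.isIntegral _))
  have hsep : gK.Separable := by
    rw [← separable_map (algebraMap K Kh), hgKh, hmin]
    exact Algebra.IsSeparable.isSeparable Kh _
  letI : Algebra K M := ((algebraMap Kh M).comp (algebraMap K Kh)).toAlgebra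
  haveI : IsScalarTower K Kh M := IsScalarTower.of_algebraMap_eq' rfl
  have hr0 : aeval (β : M) gK = 0 := by rw [← aeval_map_algebraMap Kh, hgKh, hroot]
  have hintK : IsIntegral K (β : M) := ⟨gK, hgm.map _, hr0⟩
  have hminK : minpoly K (β : M) = gK := (minpoly.eq_of_irreducible_of_monic hirr hr0 (hgm.map _)).symm
  have hfin : Module.finrank K K⟮(β : M)⟯ = n := by
    rw [IntermediateField.adjoin.finrank hintK, hminK, hgm.natDegree_map, hgn]
  haveI : FiniteDimensional K K⟮(β : M)⟯ := IntermediateField.adjoin.finiteDimensional hintK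
  refine ⟨K⟮(β : M)⟯, inferInstance, inferInstance, inferInstance, ?_, ?_⟩
  · exact (IntermediateField.isSeparable_adjoin_simple_iff_isSeparable K M).2 (by rw [IsSeparable, hminK]; exact hsep)
  · let Φ : Kh ⊗[K] K⟮(β : M)⟯ →ₐ[Kh] M :=
      Algebra.TensorProduct.lift (Algebra.ofId Kh M) K⟮(β : M)⟯.val (fun _ _ => Commute.all _ _)
    have hsur : Function.Surjective Φ := by
      rw [← AlgHom.range_eq_top, eq_top_iff]
      intro y _
      have hle : Submodule.span Kh (Set.range fun i : Fin n => (β : M) ^ (i : ℕ)) ≤ Subalgebra.toSubmodule Φ.range :=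
        Submodule.span_le.2 (by
          rintro _ ⟨i, rfl⟩
          show (β : M) ^ (i : ℕ) ∈ Φ.range
          exact pow_mem (show (β : M) ∈ Φ.range from ⟨(1 : Kh) ⊗ₜ[K] ⟨(β : M), IntermediateField.mem_adjoin_simple_self K _⟩, by simp [Φ]⟩) _)
      exact hle (htop ▸ Submodule.mem_top)
    have hinj : Function.Injective Φ :=
      (LinearMap.injective_iff_surjective_of_finrank_eq_finrank (f := Φ.toLinearMap)
        (by rw [Module.finrank_baseChange, hfin, hnM])).2 hsur
    exact ⟨AlgEquiv.ofBijective Φ ⟨hinj, hsur⟩⟩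

end Groth.Agent.S7138
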