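import Groth.Statements.S7139
import Mathlib.FieldTheory.Galois.Basic
import Mathlib.RingTheory.Unramified.LocalRing
import Mathlib.RingTheory.LocalRing.ResidueField.Instances
import Mathlib.RingTheory.Smooth.Fiber
import Mathlib.RingTheory.DedekindDomain.IntegralClosure
import Mathlib.RingTheory.Flat.TorsionFree
import Mathlib.RingTheory.Localization.Away.Basic
import Mathlib.FieldTheory.Separable
import Mathlib.RingTheory.DedekindDomain.Ideal.Lemmas

set_option autoImplicit false
universe u
open EtAlg

namespace Groth.Agent.S7139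

/-- A is a discrete valuation ring, K its field of fractions, and L/K is finite Galois with Galois group
G. Write B for the integral closure of A in L, equipped with the induced G-action, m a maximal ideal
of B and I ⊆ G its inertia group. Denote by B' the integral closure of A inside the fixed field L^I,
with a map to B compatible with L^I ⊆ L. Then the image of B' in B is the ring of invariants B^I,
and A → B'_{m'} is étale, where m' = m ∩ B'. -/
theorem result (A K L B : Type u) [CommRing A] [IsDomain A]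
    [IsDiscreteValuationRing A] [Field K] [Field L] [Algebra A K] [IsFractionRing A K] [Algebra K L]
    [Algebra A L] [IsScalarTower A K L] [FiniteDimensional K L] [IsGalois K L]
    [CommRing B] [Algebra A B] [Algebra B L] [IsScalarTower A B L] [IsIntegralClosure B A L]
    [MulSemiringAction (L ≃ₐ[K] L) B]
    (hact : ∀ (σ : L ≃ₐ[K] L) (b : B), algebraMap B L (σ • b) = σ (algebraMap B L b))
    (m : Ideal B) [m.IsMaximal]
    (B' : Type u) [CommRing B'] [Algebra A B'] [Algebra B' B] [IsScalarTower A B' B] [Algebra B' L]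
    [IsScalarTower B' B L]
    [Algebra B' (IntermediateField.fixedField (m.inertia (L ≃ₐ[K] L)))]
    [IsScalarTower B' (IntermediateField.fixedField (m.inertia (L ≃ₐ[K] L))) L]
    [IsIntegralClosure B' A (IntermediateField.fixedField (m.inertia (L ≃ₐ[K] L)))] :
    (∀ b : B, (∀ σ ∈ m.inertia (L ≃ₐ[K] L), σ • b = b) ↔ b ∈ Set.range (algebraMap B' B)) ∧
      Algebra.Etale A (Localization.AtPrime (m.comap (algebraMap B' B))) := by
  classical
  letI : Fintype (L ≃ₐ[K] L) := Fintype.ofFinite _
  let G := L ≃ₐ[K] L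
  let I : Subgroup G := m.inertia G
  let M := IntermediateField.fixedField I
  have hBL : Function.Injective (algebraMap B L) := IsIntegralClosure.algebraMap_injective B A L
  have hB'M : Function.Injective (algebraMap B' M) := IsIntegralClosure.algebraMap_injective B' A M
  haveI : IsDomain B := hBL.isDomain _
  haveI : IsDomain B' := hB'M.isDomain _
  haveI hAB'L : IsScalarTower A B' L := IsScalarTower.of_algebraMap_eq fun a => by
    rw [IsScalarTower.algebraMap_apply B' B L, ← IsScalarTower.algebraMap_apply A B' B, ← IsScalarTower.algebraMap_apply A B L]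
  haveI : IsScalarTower A M L := IsScalarTower.of_algebraMap_eq fun a => rfl
  haveI : IsScalarTower A B' M := IsScalarTower.of_algebraMap_eq fun a => (algebraMap M L).injective (by
    rw [← IsScalarTower.algebraMap_apply A M L, ← IsScalarTower.algebraMap_apply B' M L, ← IsScalarTower.algebraMap_apply A B' L])
  let e := algebraMap B' B
  have heL : ∀ b' : B', algebraMap B L (e b') = ((algebraMap B' M b' : M) : L) := fun b' => by
    rw [← IsScalarTower.algebraMap_apply B' B L, IsScalarTower.algebraMap_apply B' M L]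
    rfl
  have he : Function.Injective e := fun x y h => hB'M (Subtype.ext (by rw [← heL, ← heL, h]))
  have hfix : ∀ b : B, (∀ σ ∈ I, σ • b = b) ↔ b ∈ Set.range e := by
    intro b
    constructor
    · intro hb
      have hbM : algebraMap B L b ∈ M := (IntermediateField.mem_fixedField_iff _ _).2 fun σ hσ => by
        rw [← hact, hb σ hσ]
      have hint : IsIntegral A (⟨_, hbM⟩ : M) := by
        refine (isIntegral_algHom_iff (IsScalarTower.toAlgHom A M L) (algebraMap M L).injective).1 ?_
        show IsIntegral A (algebraMap B L b)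
        exact IsIntegral.algebraMap (B := L) (IsIntegralClosure.isIntegral A L b)
      obtain ⟨b', hb'⟩ := (IsIntegralClosure.isIntegral_iff (A := B') (R := A) (B := M)).1 hint
      exact ⟨b', hBL (by rw [heL, hb'])⟩
    · rintro ⟨b', rfl⟩ σ hσ
      apply hBL
      rw [hact, heL]
      exact (IntermediateField.mem_fixedField_iff _ _).1 (algebraMap B' M b').2 σ hσ
  refine ⟨hfix, ?_⟩
  haveI : Algebra.IsSeparable K M := Algebra.isSeparable_tower_bot_of_isSeparable K M L
  haveI : Module.Finite A B' := IsIntegralClosure.finite A K M B'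
  haveI : IsDedekindDomain B' := IsIntegralClosure.isDedekindDomain A K M B'
  haveI : Algebra.IsIntegral A B := IsIntegralClosure.isIntegral_algebra A L
  let p := IsLocalRing.maximalIdeal A
  let m' := m.comap e
  haveI : m.IsPrime := Ideal.IsMaximal.isPrime inferInstance
  have hmA : m.comap (algebraMap A B) = p := IsLocalRing.eq_maximalIdeal (Ideal.isMaximal_comap_of_isIntegral_of_isMaximal m)
  have hmA' : ∀ a : A, algebraMap A B' a ∈ m' ↔ a ∈ p := fun a => by
    rw [Ideal.mem_comap, ← IsScalarTower.algebraMap_apply A B' B, ← hmA, Ideal.mem_comap]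
  haveI : m'.IsPrime := Ideal.IsPrime.comap e
  haveI : m'.LiesOver p := ⟨Ideal.ext fun a => (hmA' a).symm⟩
  haveI : m'.IsMaximal := Ideal.isMaximal_of_isIntegral_of_isMaximal_comap (R := A) m' (by
    rw [show m'.comap (algebraMap A B') = p from Ideal.ext hmA']
    infer_instance)
  -- the decomposition group
  let D : Set G := {σ | ∀ x ∈ m, σ • x ∈ m}
  have hDiff : ∀ σ ∈ D, ∀ x, σ • x ∈ m ↔ x ∈ m := fun σ hσ x => by
    refine ⟨fun h => ?_, hσ x⟩
    have hne : m.comap (MulSemiringAction.toRingHom G B σ) ≠ ⊤ := Ideal.comap_ne_top _ Ideal.IsPrime.ne_top'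
    rw [‹m.IsMaximal›.eq_of_le hne (fun y hy => hσ y hy)]
    exact h
  have hID : ∀ τ ∈ I, τ ∈ D := fun τ hτ x hx => by
    have := m.add_mem (hτ x) hx
    rwa [sub_add_cancel] at this
  have hσA : ∀ (σ : G) (a : A), σ • algebraMap A B a = algebraMap A B a := fun σ a => hBL (by
    rw [hact, ← IsScalarTower.algebraMap_apply, IsScalarTower.algebraMap_apply A K L, AlgEquiv.commutes])
  have hAfix : ∀ b : B, (∀ σ : G, σ • b = b) → ∃ a : A, algebraMap A B a = b := fun b hb => by
    obtain ⟨k, hk⟩ := (IsGalois.mem_range_algebraMap_iff_fixed (algebraMap B L b)).2 fun σ => by rw [← hact, hb]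
    have : IsIntegral A k := by
      rw [← isIntegral_algHom_iff (IsScalarTower.toAlgHom A K L) (algebraMap K L).injective]
      exact (IsScalarTower.toAlgHom_apply A K L k).symm ▸ hk ▸ IsIntegral.algebraMap (IsIntegralClosure.isIntegral A L b)
    obtain ⟨a, ha⟩ := IsIntegrallyClosed.isIntegral_iff.1 this
    exact ⟨a, hBL (by rw [← IsScalarTower.algebraMap_apply, IsScalarTower.algebraMap_apply A K L, ha, hk])⟩
  -- moving elements of `B'`
  have hnorm : ∀ b : B, ∀ τ ∈ I, τ • (∏ ρ : I, (ρ : G) • b) = ∏ ρ : I, (ρ : G) • b := fun b τ hτ => by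
    rw [Finset.smul_prod']
    exact Fintype.prod_equiv (Equiv.mulLeft ⟨τ, hτ⟩) _ _ fun ρ => by simp [mul_smul]
  have hmove : ∀ σ : G, σ ∉ I → ∃ a : B', σ • e a - e a ∉ m := by
    intro σ hσ
    by_contra hcon
    simp only [not_exists, not_not] at hcon
    obtain ⟨b, hb⟩ : ∃ b : B, σ • b - b ∉ m := by
      by_contra hc
      simp only [not_exists, not_not] at hc
      exact hσ hc
    let P : Polynomial B := ∏ ρ : I, (Polynomial.X - Polynomial.C ((ρ : G) • b))
    have hPfix : ∀ τ ∈ I, P.map (MulSemiringAction.toRingHom G B τ) = P := fun τ hτ => by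
      simp only [P, Polynomial.map_prod, Polynomial.map_sub, Polynomial.map_X, Polynomial.map_C,
        MulSemiringAction.toRingHom_apply]
      exact Fintype.prod_equiv (Equiv.mulLeft ⟨τ, hτ⟩) _ _ fun ρ => by simp [mul_smul]
    have hcoef : ∀ i, σ • P.coeff i - P.coeff i ∈ m := fun i => by
      obtain ⟨c, hc⟩ := (hfix _).1 fun τ hτ => by
        have := congrArg (Polynomial.coeff · i) (hPfix τ hτ)
        simpa [Polynomial.coeff_map] using this
      rw [← hc]
      exact hcon c
    let π := Ideal.Quotient.mk m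
    have h1 : (P.map (MulSemiringAction.toRingHom G B σ)).map π = P.map π := by
      refine Polynomial.ext fun i => ?_
      simp only [Polynomial.coeff_map, MulSemiringAction.toRingHom_apply]
      exact Ideal.Quotient.eq.2 (hcoef i)
    have h2 : ∀ ρ : I, π ((ρ : G) • b) = π b := fun ρ => Ideal.Quotient.eq.2 (ρ.2 b)
    have h3 := congrArg (Polynomial.eval (π (σ • b))) h1
    simp only [P, Polynomial.map_prod, Polynomial.map_sub, Polynomial.map_X, Polynomial.map_C, Polynomial.eval_prod,
      Polynomial.eval_sub, Polynomial.eval_X, Polynomial.eval_C, h2, MulSemiringAction.toRingHom_apply] at h3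
    rw [Finset.prod_eq_zero (Finset.mem_univ (1 : I)) (by rw [OneMemClass.coe_one, one_smul, sub_self]),
      Finset.prod_const] at h3
    exact hb (Ideal.Quotient.eq.1 (sub_eq_zero.1 (eq_zero_of_pow_eq_zero h3.symm)))
  -- an element of `B'` vanishing at the other primes
  obtain ⟨c, hcm, hcD⟩ : ∃ c : B', e c ∉ m ∧ ∀ σ : G, σ ∉ D → σ • e c ∈ m := by
    have hd : ∀ σ : G, ∃ d : B, d ∉ m ∧ (σ ∉ D → σ • d ∈ m) := fun σ => by
      by_cases h : σ ∈ D
      · exact ⟨1, (Ideal.ne_top_iff_one m).1 Ideal.IsPrime.ne_top', fun h' => absurd h h'⟩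
      have hc : ¬ m.comap (MulSemiringAction.toRingHom G B σ) ≤ m := by
        intro hle
        haveI : m.comap (MulSemiringAction.toRingHom G B σ) |>.IsMaximal :=
          Ideal.comap_isMaximal_of_surjective _ (MulAction.surjective σ)
        refine h fun x hx => ?_
        rw [← (‹(m.comap (MulSemiringAction.toRingHom G B σ)).IsMaximal›).eq_of_le Ideal.IsPrime.ne_top' hle] at hx
        exact hx
      obtain ⟨d, hd1, hd2⟩ := SetLike.not_le_iff_exists.1 hc
      exact ⟨d, hd2, fun _ => hd1⟩
    choose d hdm hdσ using hd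
    obtain ⟨c, hc⟩ := (hfix _).1 (hnorm (∏ σ : G, d σ))
    refine ⟨c, fun h => ?_, fun σ hσ => ?_⟩
    · rw [hc] at h
      obtain ⟨ρ, -, hρ⟩ := (Ideal.IsPrime.prod_mem_iff).1 h
      rw [hDiff _ (hID _ ρ.2)] at hρ
      obtain ⟨τ, -, hτ⟩ := (Ideal.IsPrime.prod_mem_iff).1 hρ
      exact hdm τ hτ
    · rw [hc, Finset.smul_prod']
      refine Ideal.mem_of_dvd _ (Finset.dvd_prod_of_mem _ (Finset.mem_univ (1 : I))) ?_
      rw [OneMemClass.coe_one, one_smul, Finset.smul_prod']
      exact Ideal.mem_of_dvd _ (Finset.dvd_prod_of_mem _ (Finset.mem_univ σ)) (hdσ σ hσ)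
  -- trace pairs
  have key : ∀ T : Finset G, (∀ σ ∈ T, σ ∉ I) → ∃ l : List (B × B'),
      (l.map fun q => q.1 * e q.2).sum ∉ m ∧ ∀ σ ∈ T, (l.map fun q => q.1 * σ • e q.2).sum = 0 := by
    intro T
    induction T using Finset.induction_on with
    | empty =>
      exact fun _ => ⟨[(1, 1)], by simpa using (Ideal.ne_top_iff_one m).1 Ideal.IsPrime.ne_top', by simp⟩
    | insert σ T hσT ih =>
      intro h
      obtain ⟨l, hl1, hl0⟩ := ih fun τ hτ => h τ (Finset.mem_insert_of_mem hτ)
      obtain ⟨a, ha⟩ := hmove σ (h σ (Finset.mem_insert_self _ _))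
      have hsum' : ∀ (L' : List (B × B')) (τ : G), ((L'.map (fun q => (q.1 * σ • e a, q.2)) ++ L'.map (fun q => (-q.1, q.2 * a))).map
          fun q => q.1 * τ • e q.2).sum = (σ • e a - τ • e a) * (L'.map fun q => q.1 * τ • e q.2).sum := fun L' τ => by
        simp only [List.map_append, List.map_map, Function.comp_def, List.sum_append, map_mul, smul_mul']
        induction L' with
        | nil => simp
        | cons q L' ihl =>
          simp only [List.map_cons, List.sum_cons]
          linear_combination ihl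
      have hsum := hsum' l
      refine ⟨l.map (fun q => (q.1 * σ • e a, q.2)) ++ l.map (fun q => (-q.1, q.2 * a)), fun hmem => ?_, fun τ hτ => ?_⟩
      rotate_left
      · rw [hsum]
        rcases Finset.mem_insert.1 hτ with rfl | hτ
        · rw [sub_self, zero_mul]
        · rw [hl0 τ hτ, mul_zero]
      · have := hsum 1
        simp only [one_smul] at this
        rw [this] at hmem
        exact (Ideal.IsPrime.mem_or_mem ‹m.IsPrime› hmem).elim ha hl1
  obtain ⟨l, hl1, hl0⟩ := key (Finset.univ.filter fun σ : G => σ ∉ I) fun σ hσ => (Finset.mem_filter.1 hσ).2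
  let t : B' → B := fun y => ∑ q : G ⧸ I, q.out • e y
  have hout : ∀ (σ : G) (y : B'), (QuotientGroup.mk σ : G ⧸ I).out • e y = σ • e y := fun σ y => by
    obtain ⟨⟨ρ, hρ⟩, hh⟩ := QuotientGroup.mk_out_eq_mul I σ
    rw [hh, mul_smul, (hfix _).2 ⟨y, rfl⟩ ρ hρ]
  have ht : ∀ y, ∃ a : A, algebraMap A B a = t y := fun y => hAfix _ fun σ => by
    simp only [t, Finset.smul_sum]
    refine Fintype.sum_equiv (MulAction.toPerm σ) _ _ fun q => ?_
    rw [MulAction.toPerm_apply, ← mul_smul]
    conv_rhs => rw [← QuotientGroup.out_eq' q, MulAction.Quotient.smul_mk, smul_eq_mul, hout]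
  let u : B := e c * (l.map fun q => q.1 * e q.2).sum
  have hu : u ∉ m := fun h => (Ideal.IsPrime.mem_or_mem ‹m.IsPrime› h).elim hcm hl1
  have hrec : ∀ z : B', e z * u = (l.map fun q => q.1 * t (z * (c * q.2))).sum := by
    intro z
    have hswap : ∀ L' : List (B × B'), (L'.map fun q => q.1 * t (z * (c * q.2))).sum =
        ∑ r : G ⧸ I, r.out • (e (z * c)) * (L'.map fun q => q.1 * r.out • e q.2).sum := by
      intro L'
      induction L' with
      | nil => simp
      | cons q L' ihL =>
        rw [List.map_cons, List.sum_cons, ihL]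
        simp only [List.map_cons, List.sum_cons, t, mul_add, Finset.sum_add_distrib, Finset.mul_sum, map_mul, smul_mul']
        congr 1
        exact Finset.sum_congr rfl fun r _ => by ring
    rw [hswap, Finset.sum_eq_single ((1 : G) : G ⧸ I)]
    · rw [hout 1 (z * c), one_smul, show (fun q : B × B' => q.1 * ((1 : G) : G ⧸ I).out • e q.2) = fun q => q.1 * e q.2 from
        funext fun q => by rw [hout 1 q.2, one_smul], map_mul]
      ring
    · intro r _ hr
      rw [hl0 r.out (Finset.mem_filter.2 ⟨Finset.mem_univ _, fun h => hr ?_⟩), mul_zero]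
      rw [← QuotientGroup.out_eq' r, QuotientGroup.eq]
      rw [mul_one]
      exact inv_mem h
    · exact fun h => absurd (Finset.mem_univ _) h
  -- the maximal ideal is generated by a uniformiser of `A`
  have hgenm : ∀ z ∈ m', ∃ a ∈ p, ∃ w N : B', N ∉ m' ∧ z * N = algebraMap A B' a * w := by
    intro z hz
    obtain ⟨π₀, hπ₀⟩ := IsDiscreteValuationRing.exists_irreducible A
    have hp : p = Ideal.span {π₀} := hπ₀.maximalIdeal_eq
    have hmem : ∀ y, ∃ w, t (z * (c * y)) = algebraMap A B π₀ * w := fun y => by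
      obtain ⟨a, ha⟩ := ht (z * (c * y))
      have hap : a ∈ p := by
        rw [← hmA, Ideal.mem_comap, ha]
        refine sum_mem fun r _ => ?_
        rw [map_mul, map_mul, smul_mul', smul_mul']
        by_cases hr : r.out ∈ D
        · exact Ideal.mul_mem_right _ _ (hr _ hz)
        · exact Ideal.mul_mem_left _ _ (Ideal.mul_mem_right _ _ (hcD _ hr))
      rw [hp] at hap
      obtain ⟨b, hb⟩ := Ideal.mem_span_singleton'.1 hap
      exact ⟨algebraMap A B b, by rw [← ha, ← hb, map_mul, mul_comm]⟩
    obtain ⟨w, hw⟩ : ∃ w, e z * u = algebraMap A B π₀ * w := by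
      rw [hrec]
      clear hl1 hl0 hu hrec
      induction l with
      | nil => exact ⟨0, by simp⟩
      | cons q l ihl =>
        obtain ⟨w₁, h₁⟩ := ihl
        obtain ⟨w₂, h₂⟩ := hmem q.2
        exact ⟨q.1 * w₂ + w₁, by rw [List.map_cons, List.sum_cons, h₁, h₂]; ring⟩
    obtain ⟨N, hN⟩ := (hfix _).1 (hnorm u)
    let rest : B := ∏ ρ ∈ (Finset.univ : Finset I).erase 1, (ρ : G) • u
    have hNu : e N = u * rest := by
      rw [hN, ← Finset.mul_prod_erase Finset.univ _ (Finset.mem_univ (1 : I)), OneMemClass.coe_one, one_smul]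
    have hπ0 : algebraMap A B π₀ ≠ 0 := fun h => hπ₀.ne_zero (by
      have h' := congrArg (algebraMap B L) h
      rw [map_zero, ← IsScalarTower.algebraMap_apply, IsScalarTower.algebraMap_apply A K L] at h'
      exact IsFractionRing.injective A K (((algebraMap K L).injective (h'.trans (map_zero _).symm)).trans (map_zero _).symm))
    have heq : e (z * N) = algebraMap A B π₀ * (w * rest) := by rw [map_mul, hNu, ← mul_assoc, hw]; ring
    obtain ⟨w', hw'⟩ := (hfix (w * rest)).1 fun τ hτ => mul_left_cancel₀ hπ0 (by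
      conv_lhs => rw [← hσA τ π₀, ← smul_mul', ← heq, (hfix _).2 ⟨_, rfl⟩ τ hτ]
      exact heq)
    refine ⟨π₀, hp ▸ Ideal.mem_span_singleton_self π₀, w', N, fun h => ?_, he ?_⟩
    · rw [Ideal.mem_comap, hN] at h
      obtain ⟨ρ, -, hρ⟩ := (Ideal.IsPrime.prod_mem_iff).1 h
      exact hu ((hDiff _ (hID _ ρ.2) u).1 hρ)
    · rw [heq, map_mul e, ← IsScalarTower.algebraMap_apply A B' B, hw']
  -- the residue field extension is separable
  letI : Field (A ⧸ p) := Ideal.Quotient.field p
  letI : Field (B' ⧸ m') := Ideal.Quotient.field m'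
  haveI hsep : Algebra.IsSeparable (A ⧸ p) (B' ⧸ m') := by
    have hψ : ∀ σ : D, ∀ a : B', ∃ a₂ : B', e a₂ = (σ : G) • e a := fun σ a => (hfix _).1 fun τ hτ => by
      have hconj : (σ : G)⁻¹ * τ * σ ∈ I := by
        intro x
        show _ - _ ∈ m
        rw [← hDiff σ σ.2, smul_sub, ← mul_smul, ← mul_assoc, ← mul_assoc, mul_inv_cancel, one_mul, mul_smul]
        exact hτ _
      conv_rhs => rw [← (hfix _).2 ⟨a, rfl⟩ _ hconj, ← mul_smul, ← mul_assoc, ← mul_assoc, mul_inv_cancel, one_mul, mul_smul]
    choose ψ hψ using hψ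
    let ψh : D → (B' →+* B') := fun σ =>
      { toFun := ψ σ
        map_one' := he (by rw [hψ, map_one, smul_one])
        map_zero' := he (by rw [hψ, map_zero, smul_zero])
        map_add' := fun x y => he (by rw [hψ, map_add, map_add, hψ, hψ, smul_add])
        map_mul' := fun x y => he (by rw [hψ, map_mul, map_mul, hψ, hψ, smul_mul']) }
    let T : D → (B' ⧸ m') →+* (B' ⧸ m') := fun σ => Ideal.quotientMap m' (ψh σ) fun x hx => by
      show e (ψ σ x) ∈ m
      rw [hψ]
      exact σ.2 _ hx
    have hT : ∀ σ x, T σ (Ideal.Quotient.mk m' x) = Ideal.Quotient.mk m' (ψ σ x) := fun σ x => Ideal.quotientMap_mk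
    obtain ⟨y₀, hy₀⟩ : ∃ y, t (c * y) ∉ m := by
      by_contra hcon
      simp only [not_exists, not_not] at hcon
      refine hu ?_
      have h := hrec 1
      rw [map_one, one_mul] at h
      rw [h]
      refine list_sum_mem fun x hx => ?_
      obtain ⟨q, -, rfl⟩ := List.mem_map.1 hx
      rw [one_mul]
      exact m.mul_mem_left _ (hcon _)
    have hfixq : ∀ q : B' ⧸ m', (∀ σ, T σ q = q) → q ∈ (algebraMap (A ⧸ p) (B' ⧸ m')).range := by
      intro q hq
      obtain ⟨a, rfl⟩ := Ideal.Quotient.mk_surjective q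
      have haD : ∀ σ ∈ D, σ • e a - e a ∈ m := fun σ hσ => by
        have := hq ⟨σ, hσ⟩
        rw [hT, Ideal.Quotient.eq, Ideal.mem_comap, map_sub, hψ] at this
        exact this
      obtain ⟨r₁, h₁⟩ := ht (a * (c * y₀))
      obtain ⟨r₂, h₂⟩ := ht (c * y₀)
      have h2 : Ideal.Quotient.mk p r₂ ≠ 0 := fun h => hy₀ (by
        rw [← h₂]
        rw [Ideal.Quotient.eq_zero_iff_mem, ← hmA] at h
        exact h)
      refine ⟨Ideal.Quotient.mk p r₁ / Ideal.Quotient.mk p r₂, ?_⟩
      rw [map_div₀, div_eq_iff ((map_ne_zero _).2 h2), Ideal.Quotient.algebraMap_mk_of_liesOver,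
        Ideal.Quotient.algebraMap_mk_of_liesOver, ← map_mul, Ideal.Quotient.eq, Ideal.mem_comap, map_sub, map_mul e,
        ← IsScalarTower.algebraMap_apply, ← IsScalarTower.algebraMap_apply, h₁, h₂]
      simp only [t, Finset.mul_sum, ← Finset.sum_sub_distrib]
      refine sum_mem fun r _ => ?_
      rw [map_mul e a, smul_mul', ← sub_mul]
      by_cases hr : r.out ∈ D
      · exact Ideal.mul_mem_right _ _ (haD _ hr)
      · refine Ideal.mul_mem_left _ _ ?_
        rw [map_mul, smul_mul']
        exact Ideal.mul_mem_right _ _ (hcD _ hr)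
    refine ⟨fun q => ?_⟩
    obtain ⟨a, rfl⟩ := Ideal.Quotient.mk_surjective q
    let orb : Finset (B' ⧸ m') := Finset.univ.image fun σ : D => T σ (Ideal.Quotient.mk m' a)
    let Q : Polynomial (B' ⧸ m') := ∏ z ∈ orb, (Polynomial.X - Polynomial.C z)
    have hDmul : ∀ σ τ : D, (σ : G) * τ ∈ D := fun σ τ x hx => by rw [mul_smul]; exact σ.2 _ (τ.2 _ hx)
    have hTcomp : ∀ σ τ : D, T σ (T τ (Ideal.Quotient.mk m' a)) = T ⟨_, hDmul σ τ⟩ (Ideal.Quotient.mk m' a) := fun σ τ => by
      rw [hT, hT, hT]
      exact congrArg _ (he (by rw [hψ, hψ, hψ, mul_smul]))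
    have horb : ∀ σ, orb.image (T σ) = orb := fun σ => by
      refine Finset.eq_of_subset_of_card_le (fun z hz => ?_) ?_
      · obtain ⟨w, hw, rfl⟩ := Finset.mem_image.1 hz
        obtain ⟨τ, -, rfl⟩ := Finset.mem_image.1 hw
        exact Finset.mem_image.2 ⟨⟨_, hDmul σ τ⟩, Finset.mem_univ _, (hTcomp σ τ).symm⟩
      · rw [Finset.card_image_of_injective _ (T σ).injective]
    have hQσ : ∀ σ, Q.map (T σ) = Q := fun σ => by
      simp only [Q, Polynomial.map_prod, Polynomial.map_sub, Polynomial.map_X, Polynomial.map_C]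
      conv_rhs => rw [← horb σ, Finset.prod_image fun x _ y _ h => (T σ).injective h]
    obtain ⟨Q₀, hQ₀⟩ := (Polynomial.lifts_iff_coeff_lifts (f := algebraMap (A ⧸ p) (B' ⧸ m')) Q).2 fun i => hfixq _ fun σ => by
      conv_rhs => rw [← hQσ σ]
      rw [Polynomial.coeff_map]
    have hQsep : Q.Separable := by
      simp only [Q]
      rw [← Finset.prod_coe_sort]
      exact Polynomial.separable_prod_X_sub_C_iff.2 Subtype.val_injective
    have hroot : Polynomial.aeval (Ideal.Quotient.mk m' a) Q₀ = 0 := by
      rw [Polynomial.aeval_def, Polynomial.eval₂_eq_eval_map, ← Polynomial.coe_mapRingHom, hQ₀, Polynomial.eval_prod]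
      refine Finset.prod_eq_zero (Finset.mem_image.2 ⟨⟨1, fun x hx => by rw [one_smul]; exact hx⟩, Finset.mem_univ _, ?_⟩)
        (by simp : Polynomial.eval (Ideal.Quotient.mk m' a) (Polynomial.X - Polynomial.C (Ideal.Quotient.mk m' a)) = 0)
      rw [hT]
      exact congrArg _ (he (by rw [hψ, one_smul]))
    refine Polynomial.Separable.of_dvd ((Polynomial.separable_map (algebraMap (A ⧸ p) (B' ⧸ m'))).1 ?_) (minpoly.dvd _ _ hroot)
    rw [← Polynomial.coe_mapRingHom, hQ₀]
    exact hQsep
  -- conclusion
  letI := Localization.AtPrime.algebraOfLiesOver p m'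
  haveI : Algebra.FormallyUnramified A (Localization.AtPrime m') := by
    refine (Algebra.isUnramifiedAt_iff_map_eq A p m').2 ⟨Algebra.isSeparable_residueField_iff.2 hsep, ?_⟩
    refine le_antisymm ?_ ?_
    · rw [IsScalarTower.algebraMap_eq A B' (Localization.AtPrime m'), ← Ideal.map_map, ← Localization.AtPrime.map_eq_maximalIdeal]
      exact Ideal.map_mono (Ideal.map_le_iff_le_comap.2 fun a ha => (hmA' a).2 ha)
    · rw [← Localization.AtPrime.map_eq_maximalIdeal, Ideal.map_le_iff_le_comap]
      intro z hz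
      obtain ⟨a, ha, w, N, hN, hzN⟩ := hgenm z hz
      rw [Ideal.mem_comap, ← Ideal.mul_unit_mem_iff_mem _ (IsLocalization.map_units (Localization.AtPrime m') (⟨N, hN⟩ : m'.primeCompl)),
        ← map_mul, hzN, map_mul, ← IsScalarTower.algebraMap_apply]
      exact Ideal.mul_mem_right _ _ (Ideal.mem_map_of_mem _ ha)
  have hAB' : Function.Injective (algebraMap A B') := fun x y h => by
    have := congrArg (fun z => algebraMap B L (e z)) h
    simp only [e, ← IsScalarTower.algebraMap_apply A B' B, ← IsScalarTower.algebraMap_apply A B L, IsScalarTower.algebraMap_apply A K L] at this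
    exact IsFractionRing.injective A K ((algebraMap K L).injective this)
  haveI : FaithfulSMul A B' := (faithfulSMul_iff_algebraMap_injective A B').2 hAB'
  haveI : Module.IsTorsionFree A B' := inferInstance
  haveI : Module.Flat B' (Localization.AtPrime m') := IsLocalization.flat _ m'.primeCompl
  haveI : Module.Flat A (Localization.AtPrime m') := Module.Flat.trans A B' _
  have hfinspec : ({P : Ideal B' | P.IsMaximal} : Set (Ideal B')).Finite := by
    refine ((IsDedekindDomain.primesOver_finite p (B := B')).subset ?_)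
    intro P hP
    haveI hPm : P.IsMaximal := hP
    haveI := hPm.isPrime
    exact ⟨inferInstance, ⟨(IsLocalRing.eq_maximalIdeal (Ideal.isMaximal_comap_of_isIntegral_of_isMaximal (R := A) P)).symm⟩⟩
  have hex : ∀ P : Ideal B', P.IsMaximal → ∃ y, y ∉ m' ∧ (P ≠ m' → y ∈ P) := fun P hP => by
    by_cases h : P = m'
    · exact ⟨1, (Ideal.ne_top_iff_one m').1 Ideal.IsPrime.ne_top', fun h' => absurd h h'⟩
    · obtain ⟨y, hy, hym⟩ := SetLike.not_le_iff_exists.1 fun hle => h (hP.eq_of_le Ideal.IsPrime.ne_top' hle)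
      exact ⟨y, hym, fun _ => hy⟩
  choose! y hy hyP using hex
  let b := ∏ P ∈ hfinspec.toFinset, y P
  have hb : b ∉ m' := fun h => by
    obtain ⟨P, hP, hyp⟩ := (Ideal.IsPrime.prod_mem_iff).1 h
    exact hy P (hfinspec.mem_toFinset.1 hP) hyp
  haveI : IsLocalization (Submonoid.powers b) (Localization.AtPrime m') := by
    haveI : IsLocalization.AtPrime (Localization.Away b) m' := by
      refine IsLocalization.of_le (Submonoid.powers b) m'.primeCompl (Submonoid.powers_le.2 hb) fun x hx => ?_
      by_contra hu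
      obtain ⟨P, hP, hPx⟩ := exists_max_ideal_of_mem_nonunits hu
      have hPq := (IsLocalization.isPrime_iff_isPrime_disjoint (Submonoid.powers b) (Localization.Away b) P).1 hP.isPrime
      let q0 := P.comap (algebraMap B' (Localization.Away b))
      have hx0 : x ∈ q0 := hPx
      rcases eq_or_ne q0 ⊥ with h0 | h0
      · rw [h0, Ideal.mem_bot] at hx0
        exact hx (hx0 ▸ zero_mem m')
      · have hq0max : q0.IsMaximal := hPq.1.isMaximal h0
        by_cases hqm : q0 = m'
        · exact hx (hqm ▸ hx0)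
        · exact Set.disjoint_left.1 hPq.2 (Submonoid.mem_powers b)
            (Ideal.mem_of_dvd _ (Finset.dvd_prod_of_mem y (hfinspec.mem_toFinset.2 hq0max)) (hyP q0 hq0max hqm))
    exact IsLocalization.isLocalization_of_algEquiv (Submonoid.powers b)
      (IsLocalization.algEquiv m'.primeCompl (Localization.Away b) (Localization.AtPrime m'))
  haveI : Algebra.FinitePresentation B' (Localization.AtPrime m') := IsLocalization.Away.finitePresentation b
  haveI : Algebra.FinitePresentation A B' := Algebra.FinitePresentation.of_finiteType.1 inferInstance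
  haveI : Algebra.FinitePresentation A (Localization.AtPrime m') := Algebra.FinitePresentation.trans A B' _
  exact Algebra.Etale.of_formallyUnramified_of_flat

end Groth.Agent.S7139
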