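import Groth.Statements.S7141
import Groth.Agent.Lib.WEtaleH7.Field
import Mathlib.Dynamics.Newton
import Mathlib.RingTheory.Nilpotent.Lemmas
import Mathlib.Tactic.LinearCombination

set_option autoImplicit false
universe u
open EtAlg

namespace Groth.Agent.S7141

/-- Let K be a field and, for a K-algebra A, let B_max(A) be its largest weakly étale K-subalgebra. (2)
For a K-subalgebra A' ⊆ A one has B_max(A') = B_max(A) ∩ A'. (4) The quotient map A → A_red =
A/nilradical restricts to a bijection B_max(A) → B_max(A_red). (6) If A ≠ 0 and its only idempotents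
are 0 and 1, then B_max(A) is a field, algebraic and separable over K. (The published statement
omits A ≠ 0; this row assumes it, since for A = 0 the largest weakly étale subalgebra is the zero
ring.) -/
theorem result (K : Type u) [Field K] (A : Type u) [CommRing A] [Algebra K A] :
    (∀ A' : Subalgebra K A,
      (EtAlgD.maxWeaklyEtale K A').map A'.val = EtAlgD.maxWeaklyEtale K A ⊓ A') ∧
    (Set.BijOn (Ideal.Quotient.mkₐ K (nilradical A)) (EtAlgD.maxWeaklyEtale K A)
      (EtAlgD.maxWeaklyEtale K (A ⧸ nilradical A))) ∧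
    ((∀ e : A, IsIdempotentElem e → e = 0 ∨ e = 1) → Nontrivial A →
      IsField (EtAlgD.maxWeaklyEtale K A) ∧ Algebra.IsSeparable K (EtAlgD.maxWeaklyEtale K A)) := by
  classical
  open scoped Polynomial in
  have char : ∀ (B : Type u) [CommRing B] [Algebra K B] (x : B),
      x ∈ EtAlgD.maxWeaklyEtale K B ↔ ∃ P : K[X], P.Separable ∧ Polynomial.aeval x P = 0 := by
    intro B _ _ x
    constructor
    · intro hx
      refine WEtaleH7.exists_separable_of_mem_adjoin (K := K)
        (s := {y : B | ∃ P : K[X], P.Separable ∧ Polynomial.aeval y P = 0}) (fun y hy => hy) ?_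
      exact (sSup_le fun S hS y hy => Algebra.subset_adjoin ((WEtaleH7.weaklyEtale_subalgebra_iff S).1 hS y hy) :
        EtAlgD.maxWeaklyEtale K B ≤ Algebra.adjoin K {y : B | ∃ P : K[X], P.Separable ∧ Polynomial.aeval y P = 0}) hx
    · intro hx
      have hS : Algebra.adjoin K ({x} : Set B) ≤ EtAlgD.maxWeaklyEtale K B :=
        le_sSup (WEtaleH7.weaklyEtale_adjoin fun y hy => Set.mem_singleton_iff.1 hy ▸ hx)
      exact hS (Algebra.self_mem_adjoin_singleton K x)
  have hwe : Algebra.WeaklyEtale K (EtAlgD.maxWeaklyEtale K A) :=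
    (WEtaleH7.weaklyEtale_subalgebra_iff _).2 fun x hx => (char A x).1 hx
  have hvnr := WEtaleH7.vnr_of_weaklyEtale_field (K := K) (B := EtAlgD.maxWeaklyEtale K A)
  refine ⟨fun A' => ?_, ⟨?_, ?_, ?_⟩, fun hidem hA => ?_⟩
  · ext y
    rw [Algebra.mem_inf, Subalgebra.mem_map]
    constructor
    · rintro ⟨x, hx, rfl⟩
      obtain ⟨P, hP, hPx⟩ := (char A' x).1 hx
      exact ⟨(char A _).2 ⟨P, hP, by rw [Polynomial.aeval_algHom_apply, hPx, map_zero]⟩, x.2⟩
    · rintro ⟨hy, hy'⟩
      obtain ⟨P, hP, hPy⟩ := (char A y).1 hy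
      refine ⟨⟨y, hy'⟩, (char A' _).2 ⟨P, hP, Subtype.ext ?_⟩, rfl⟩
      rw [← Subalgebra.coe_val A', ← Polynomial.aeval_algHom_apply]
      exact hPy.trans (map_zero A'.val).symm
  · intro x hx
    obtain ⟨P, hP, hPx⟩ := (char A x).1 hx
    exact (char _ _).2 ⟨P, hP, by rw [Polynomial.aeval_algHom_apply, hPx, map_zero]⟩
  · intro x hx y hy hxy
    have hn : IsNilpotent (x - y) := mem_nilradical.1 (Ideal.Quotient.eq.1 hxy)
    have hz : (⟨x - y, Subalgebra.sub_mem _ hx hy⟩ : EtAlgD.maxWeaklyEtale K A) = 0 := by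
      refine (hvnr.isReduced).eq_zero _ ?_
      obtain ⟨n, hn⟩ := hn
      exact ⟨n, Subtype.ext (by simpa using hn)⟩
    exact sub_eq_zero.1 (congrArg Subtype.val hz)
  · intro z hz
    obtain ⟨P, hP, hPz⟩ := (char _ _).1 hz
    obtain ⟨x, rfl⟩ := Ideal.Quotient.mk_surjective z
    have hnil : IsNilpotent (Polynomial.aeval x P) := by
      rw [← mem_nilradical, ← Ideal.Quotient.eq_zero_iff_mem]
      exact (Polynomial.aeval_algHom_apply (Ideal.Quotient.mkₐ K (nilradical A)) x P).symm.trans hPz
    obtain ⟨a, b, hab⟩ := hP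
    have hu : IsUnit (Polynomial.aeval x (Polynomial.derivative P)) := by
      have e := congrArg (Polynomial.aeval x) hab
      simp only [map_add, map_mul, map_one] at e
      have h1 : IsNilpotent (-(Polynomial.aeval x a * Polynomial.aeval x P)) :=
        ((Commute.all _ _).isNilpotent_mul_left hnil).neg
      have h2 := h1.isUnit_add_one (R := A)
      rw [show -(Polynomial.aeval x a * Polynomial.aeval x P) + 1 =
        Polynomial.aeval x b * Polynomial.aeval x (Polynomial.derivative P) by linear_combination -e] at h2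
      exact isUnit_of_mul_isUnit_right h2
    obtain ⟨r, ⟨hr, hr'⟩, -⟩ := Polynomial.existsUnique_nilpotent_sub_and_aeval_eq_zero hnil hu
    refine ⟨r, (char A r).2 ⟨P, ⟨a, b, hab⟩, hr'⟩, ?_⟩
    refine (Ideal.Quotient.eq.2 ?_).symm
    exact mem_nilradical.2 hr
  · have hfield : IsField (EtAlgD.maxWeaklyEtale K A) := by
      refine ⟨⟨0, 1, fun h => zero_ne_one (congrArg Subtype.val h)⟩, mul_comm, fun {a} ha => ?_⟩
      obtain ⟨t, ht⟩ := hvnr a
      have he : IsIdempotentElem ((a * t : EtAlgD.maxWeaklyEtale K A) : A) := by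
        show ((a * t : EtAlgD.maxWeaklyEtale K A) : A) * _ = _
        rw [← Subalgebra.coe_mul, show a * t * (a * t) = (a * a * t) * t by ring, ht]
      rcases hidem _ he with h | h
      · refine absurd ?_ ha
        rw [← ht, mul_assoc, show a * t = 0 from Subtype.ext h, mul_zero]
      · exact ⟨t, Subtype.ext h⟩
    letI := hfield.toField
    haveI := hwe
    exact ⟨hfield, ⟨fun x => WEtaleH7.isSeparable_of_weaklyEtale_field x⟩⟩

end Groth.Agent.S7141
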