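import Groth.Statements.S7142
import Groth.Agent.Lib.K0Proj9.Basic

set_option autoImplicit false
set_option linter.style.haveILetI false
set_option backward.isDefEq.respectTransparency false
universe u
open CategoryTheory CategoryTheory.Limits
attribute [local instance] HasDerivedCategory.standard
open KZero

namespace Groth.Agent.S7142

/-- Let R be a ring. There is an isomorphism K₀(R) ≅ K₀(D_perf(R)) between the Grothendieck group of
finite projective R-modules and that of the triangulated category of perfect objects of D(R),
sending the class of a finite projective module M to the class of M placed in degree 0; under its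
inverse the class of a bounded complex M^• of finite projective modules (vanishing outside [a, b])
goes to Σ_i (-1)^i [M^i]. -/
theorem result (R : Type u) [CommRing R] :
    ∃ φ : KZero.K0sub (fun M : ModuleCat.{u} R => Module.Finite R M ∧ Module.Projective R M) ≃+
        KZero.K0tr (fun K : Dual.D R => DRing.IsPerfect R K),
      (∀ (M : Type u) [AddCommGroup M] [Module R M], Module.Finite R M → Module.Projective R M →
        φ (KZero.clSub (fun M : ModuleCat.{u} R => Module.Finite R M ∧ Module.Projective R M) (ModuleCat.of R M)) =
          KZero.clTr (fun K : Dual.D R => DRing.IsPerfect R K) (Dual.inD R M)) ∧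
      ∀ (E : DRing.Cx R) (a b : ℤ), DRing.VanishesOutside E a b → DRing.TermwiseFiniteProjective E →
        φ.symm (KZero.clTr (fun K : Dual.D R => DRing.IsPerfect R K) (DRing.toD E)) =
          (Finset.Icc a b).sum (fun i => (i.negOnePow : ℤ) •
            KZero.clSub (fun M : ModuleCat.{u} R => Module.Finite R M ∧ Module.Projective R M) (E.X i)) := by
  refine ⟨K0Proj9.equiv R, fun M _ _ h h' => K0Proj9.toTr_clSub (R := R) (M := ModuleCat.of R M) ⟨h, h'⟩,
    fun E a b hab hfp => ?_⟩
  exact (K0Proj9.euler_toD ⟨a, b, hab, hfp⟩).trans (K0Proj9.chi_eq_sum hab)

end Groth.Agent.S7142
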