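import Groth.Statements.S7143
import Groth.Agent.Lib.FlatIdealsH7.Basic
import Mathlib.RingTheory.Valuation.LocalSubring
import Mathlib.RingTheory.Flat.Localization
import Mathlib.Algebra.Category.Ring.Instances
import Mathlib.RingTheory.RingHom.Flat

set_option autoImplicit false
universe u
open CategoryTheory
open EtAlg

namespace Groth.Agent.S7143

/-- Every normal domain A with fraction field K is the fibre product V ×_L K for suitable rings V and L
with maps A → V, V → L, K → L (together with the given A → K), where every ideal of V is flat (weak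
dimension at most one) and V → L is flat, injective and an epimorphism of rings. -/
theorem result (A K : Type u) [CommRing A] [IsDomain A] [Field K] [Algebra A K]
    [IsFractionRing A K] [IsIntegrallyClosed A] :
    ∃ (V L : Type u) (_ : CommRing V) (_ : CommRing L) (f : A →+* V) (g : V →+* L) (h : K →+* L),
      g.comp f = h.comp (algebraMap A K) ∧
      (∀ I : Ideal V, Module.Flat V I) ∧ g.Flat ∧ Function.Injective g ∧ Epi (CommRingCat.ofHom g) ∧
      ∀ (v : V) (k : K), g v = h k → ∃! a : A, f a = v ∧ algebraMap A K a = k := by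
  let J := {W : ValuationSubring K // (algebraMap A K).range ≤ W.toSubring}
  let B : J → Type u := fun W => W.1
  let f : A →+* (∀ W : J, B W) := Pi.ringHom fun W => (algebraMap A K).codRestrict W.1 fun x => W.2 ⟨x, rfl⟩
  haveI hloc : IsLocalization (nonZeroDivisors (∀ W : J, B W)) (∀ _ : J, K) :=
    FlatIdealsH7.isLocalization_pi B (fun _ => K)
  refine ⟨∀ W : J, B W, ∀ _ : J, K, inferInstance, inferInstance, f, algebraMap (∀ W : J, B W) (∀ _ : J, K),
    Pi.ringHom fun _ => RingHom.id K, RingHom.ext fun x => funext fun W => rfl, FlatIdealsH7.flat_ideal_pi B, ?_, ?_, ?_, ?_⟩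
  · rw [RingHom.flat_algebraMap_iff]
    exact IsLocalization.flat _ (nonZeroDivisors (∀ W : J, B W))
  · exact IsLocalization.injective (∀ _ : J, K) le_rfl
  · exact IsLocalization.epi (nonZeroDivisors (∀ W : J, B W)) _
  · intro v k hvk
    have hk : ∀ W : J, (v W).1 = k := fun W => congrFun hvk W
    haveI : IsIntegrallyClosedIn (algebraMap A K).range K := by
      haveI : IsIntegrallyClosedIn A K := (isIntegrallyClosed_iff_isIntegrallyClosedIn K).1 inferInstance
      refine isIntegrallyClosedIn_iff.2 ⟨Subtype.val_injective, fun {x} hx => ?_⟩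
      obtain ⟨P, hP, hPx⟩ := hx
      obtain ⟨Q, hQ, -, hQm⟩ := Polynomial.lifts_and_natDegree_eq_and_monic
        (Polynomial.map_surjective _ (algebraMap A K).rangeRestrict_surjective P : P ∈ Polynomial.lifts (algebraMap A K).rangeRestrict) hP
      obtain ⟨y, hy⟩ := IsIntegrallyClosedIn.algebraMap_eq_of_integral (R := A)
        (⟨Q, hQm, by rw [← hPx, ← hQ, Polynomial.eval₂_map]; rfl⟩ : IsIntegral A x)
      exact ⟨⟨_, y, rfl⟩, hy⟩
    have hmem : k ∈ (algebraMap A K).range := by
      rw [Subring.eq_iInf_of_isIntegrallyClosedIn (R := (algebraMap A K).range), Subring.mem_iInf]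
      intro W
      exact hk ⟨W.1, W.2⟩ ▸ (v ⟨W.1, W.2⟩).2
    obtain ⟨a, ha⟩ := hmem
    refine ⟨a, ⟨funext fun W => Subtype.ext (ha.trans (hk W).symm), ha⟩, fun a' ha' => ?_⟩
    exact IsFractionRing.injective A K (ha'.2.trans ha.symm)

end Groth.Agent.S7143
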