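import Groth.Statements.S7144


set_option autoImplicit false
universe u
open CAlg

namespace Groth.Agent.S7144

/-- (1) ⇔ (2): let R be a nonzero ring. Then for all a, b in R one of a, b divides the other if and only
if R is local and every finitely generated ideal of R is principal. (The further equivalence with
the total ordering of the set of ideals by inclusion is standard and not restated here.) -/
theorem result (R : Type u) [CommRing R] [Nontrivial R] :
    PreValuationRing R ↔ IsLocalRing R ∧ IsBezout R := by
  constructor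
  · intro _
    refine ⟨IsLocalRing.of_nonunits_add fun a b ha hb => ?_, IsBezout.iff_span_pair_isPrincipal.2 fun a b => ?_⟩
    · rcases PreValuationRing.iff_dvd_total.1 ‹_› |>.total a b with h | h
      · exact fun hu => ha (isUnit_of_dvd_unit (dvd_add dvd_rfl h) hu)
      · exact fun hu => hb (isUnit_of_dvd_unit (dvd_add h dvd_rfl) hu)
    · rcases PreValuationRing.iff_dvd_total.1 ‹_› |>.total a b with h | h
      · exact ⟨a, by rw [Set.pair_comm, Ideal.span_insert, sup_eq_right.2 (Ideal.span_singleton_le_span_singleton.2 h)]⟩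
      · exact ⟨b, by rw [Ideal.span_insert, sup_eq_right.2 (Ideal.span_singleton_le_span_singleton.2 h)]⟩
  · rintro ⟨_, _⟩
    rw [PreValuationRing.iff_dvd_total]
    refine ⟨fun a b => ?_⟩
    have hsub : ∀ d : R, Ideal.span {a, b} = Ideal.span {d} → d ∣ a ∧ d ∣ b ∧ ∃ s t, s * a + t * b = d := fun d hd =>
      ⟨Ideal.mem_span_singleton.1 (by rw [← hd]; exact Ideal.subset_span (Set.mem_insert a {b})),
       Ideal.mem_span_singleton.1 (by rw [← hd]; exact Ideal.subset_span (Set.mem_insert_of_mem a (Set.mem_singleton b))),
       Ideal.mem_span_pair.1 (by rw [hd]; exact Ideal.mem_span_singleton_self d)⟩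
    obtain ⟨d, hd⟩ := (IsBezout.iff_span_pair_isPrincipal.1 ‹_› a b : (Ideal.span {a, b}).IsPrincipal)
    change Ideal.span {a, b} = Ideal.span {d} at hd
    obtain ⟨⟨a', rfl⟩, ⟨b', rfl⟩, s, t, hst⟩ := hsub d hd
    by_cases ha : IsUnit a'
    · exact Or.inl (mul_dvd_mul_left d ha.dvd)
    by_cases hb : IsUnit b'
    · exact Or.inr (mul_dvd_mul_left d hb.dvd)
    have hu : IsUnit (1 - (s * a' + t * b')) := by
      apply IsLocalRing.isUnit_one_sub_self_of_mem_nonunits
      exact IsLocalRing.nonunits_add (mul_mem_nonunits_right ha) (mul_mem_nonunits_right hb)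
    have hd0 : d = 0 := (hu.mul_left_eq_zero).1 (by linear_combination -hst)
    exact Or.inl (by simp [hd0])

end Groth.Agent.S7144
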