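import Groth.Statements.S7145
import Mathlib

set_option autoImplicit false
universe u
open CategoryTheory CategoryTheory.Limits
open CAlg

namespace Groth.Agent.S7145




/-- Let R be a ring and F a cochain complex of free R-modules that is zero in all sufficiently large
degrees. Given finitely many elements f_i of F, f_i lying in degree n_i, there is a subcomplex G of
F (a map of complexes G → F injective in every degree) through which every f_i passes, such that G
is zero outside a finite range of degrees and each term of G is a finitely generated free R-module. -/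
theorem result (R : Type u) [CommRing R]
    (F : CochainComplex (ModuleCat.{u} R) ℤ) (hfree : ∀ n : ℤ, Module.Free R (F.X n))
    (b : ℤ) (hb : ∀ n : ℤ, b < n → IsZero (F.X n))
    (N : ℕ) (deg : Fin N → ℤ) (f : ∀ i : Fin N, F.X (deg i)) :
    ∃ (G : CochainComplex (ModuleCat.{u} R) ℤ) (ι : G ⟶ F),
      (∀ n : ℤ, Function.Injective (ι.f n)) ∧
      (∃ a c : ℤ, ∀ n : ℤ, (n < a ∨ c < n) → IsZero (G.X n)) ∧
      (∀ n : ℤ, Module.Finite R (G.X n) ∧ Module.Free R (G.X n)) ∧
      ∀ i : Fin N, f i ∈ Set.range (ι.f (deg i)) := by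
  classical
  haveI := hfree
  let B := fun n => Module.Free.chooseBasis R (F.X n)
  have hz : ∀ n, b < n → Subsingleton (F.X n) := fun n hn => ModuleCat.isZero_iff_subsingleton.1 (hb n hn)
  obtain ⟨a, ha, hab⟩ : ∃ a : ℤ, (∀ i, a ≤ deg i) ∧ a ≤ b := by
    obtain ⟨a, ha⟩ := ((Set.finite_range deg).insert b).bddBelow
    exact ⟨a, fun i => ha (Set.mem_insert_of_mem _ ⟨i, rfl⟩), ha (Set.mem_insert _ _)⟩
  let e0 : ∀ n, Finset (Module.Free.ChooseBasisIndex R (F.X n)) := fun n =>
    Finset.univ.biUnion fun i : Fin N => if h : deg i = n then h ▸ ((B (deg i)).repr (f i)).support else ∅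
  let e : ℕ → ∀ n, Finset (Module.Free.ChooseBasisIndex R (F.X n)) := fun k => Nat.rec e0
    (fun _ prev n => (Finset.Icc a b).biUnion fun m => (prev m).biUnion fun x =>
      ((B n).repr ((F.d m n).hom (B m x))).support) k
  have hlow : ∀ k n, (e k n).Nonempty → a + k ≤ n := by
    intro k
    induction k with
    | zero =>
      intro n hn
      obtain ⟨x, hx⟩ := hn
      obtain ⟨i, -, hi⟩ := Finset.mem_biUnion.1 hx
      split_ifs at hi with h
      · have := ha i; omega
      · simp at hi
    | succ k ih =>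
      intro n hn
      obtain ⟨x, hx⟩ := hn
      obtain ⟨m, -, hm⟩ := Finset.mem_biUnion.1 hx
      obtain ⟨y, hy, hy'⟩ := Finset.mem_biUnion.1 hm
      have hmn : m + 1 = n := by
        by_contra hne
        rw [F.shape m n hne] at hy'
        simp at hy'
      have := ih m ⟨y, hy⟩
      omega
  let K := (b - a).toNat + 1
  have htop : ∀ n, ∀ x ∈ e K n, (B n) x = 0 := fun n x hx => by
    haveI := hz n (by have := hlow K n ⟨x, hx⟩; omega)
    exact Subsingleton.elim _ _
  let s := fun n => (Finset.range K).biUnion fun k => e k n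
  let W : ∀ n, Submodule R (F.X n) := fun n => Submodule.span R (B n '' (s n : Set _))
  have hmemW : ∀ n (v : F.X n), (∀ x ∈ ((B n).repr v).support, B n x ∈ W n) → v ∈ W n := by
    intro n v hv
    rw [← (B n).linearCombination_repr v, Finsupp.linearCombination_apply]
    exact Submodule.sum_mem _ fun x hx => Submodule.smul_mem _ _ (hv x hx)
  have hbasis : ∀ n x, x ∈ s n → B n x ∈ W n := fun n x hx => Submodule.subset_span ⟨x, hx, rfl⟩
  have hWz : ∀ n, (n < a ∨ b < n) → Subsingleton (W n) := by
    rintro n (hn | hn)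
    · have hs : s n = ∅ := by
        refine Finset.eq_empty_of_forall_notMem fun x hx => ?_
        obtain ⟨k, -, hk⟩ := Finset.mem_biUnion.1 hx
        have := hlow k n ⟨x, hk⟩
        omega
      refine ⟨fun u v => Subtype.ext ?_⟩
      have h1 : W n = ⊥ := by simp [W, hs]
      have h2 : ∀ z ∈ W n, z = 0 := fun z hz => (Submodule.mem_bot R).1 (h1 ▸ hz)
      rw [h2 _ u.2, h2 _ v.2]
    · haveI := hz n hn
      exact ⟨fun u v => Subtype.ext (Subsingleton.elim _ _)⟩
  have hd : ∀ m n, ∀ v ∈ W m, (F.d m n).hom v ∈ W n := by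
    intro m n
    suffices W m ≤ (W n).comap (F.d m n).hom from fun v hv => this hv
    rw [Submodule.span_le]
    rintro _ ⟨x, hx, rfl⟩
    refine hmemW n _ fun y hy => ?_
    obtain ⟨k, hk, hk'⟩ := Finset.mem_biUnion.1 hx
    rw [Finset.mem_range] at hk
    have hma : a ≤ m := by have := hlow k m ⟨x, hk'⟩; omega
    have hmb : m ≤ b := by
      by_contra hc
      haveI := hz m (by omega)
      rw [Subsingleton.elim (B m x) 0] at hy
      simp at hy
    have hy1 : y ∈ e (k + 1) n := Finset.mem_biUnion.2
      ⟨m, Finset.mem_Icc.2 ⟨hma, hmb⟩, Finset.mem_biUnion.2 ⟨x, hk', hy⟩⟩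
    by_cases hk1 : k + 1 < K
    · exact hbasis n y (Finset.mem_biUnion.2 ⟨k + 1, Finset.mem_range.2 hk1, hy1⟩)
    · rw [htop n y (by rwa [show K = k + 1 by omega])]
      exact zero_mem _
  let G : CochainComplex (ModuleCat.{u} R) ℤ :=
    { X := fun n => ModuleCat.of R (W n)
      d := fun m n => ModuleCat.ofHom ((F.d m n).hom.restrict (hd m n))
      shape := fun m n h => ModuleCat.hom_ext (LinearMap.ext fun v => Subtype.ext (by
        show (F.d m n).hom v.1 = 0
        rw [F.shape m n h]; rfl))
      d_comp_d' := fun i j k _ _ => ModuleCat.hom_ext (LinearMap.ext fun v => Subtype.ext (by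
        show (F.d j k).hom ((F.d i j).hom v.1) = 0
        exact LinearMap.congr_fun (congrArg ModuleCat.Hom.hom (F.d_comp_d i j k)) v.1)) }
  let ι : G ⟶ F :=
    { f := fun n => ModuleCat.ofHom (W n).subtype
      comm' := fun m n _ => ModuleCat.hom_ext (LinearMap.ext fun v => rfl) }
  refine ⟨G, ι, fun n => Subtype.val_injective, ⟨a, b, fun n hn => ?_⟩, fun n => ?_, fun i => ?_⟩
  · haveI := hWz n hn
    exact ModuleCat.isZero_of_subsingleton (ModuleCat.of R (W n))
  · have key : ∀ t : Finset (Module.Free.ChooseBasisIndex R (F.X n)),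
        Module.Finite R (Submodule.span R (B n '' (↑t : Set (Module.Free.ChooseBasisIndex R (F.X n))))) ∧ Module.Free R (Submodule.span R (B n '' (↑t : Set (Module.Free.ChooseBasisIndex R (F.X n))))) := by
      intro t
      have hli : LinearIndependent R (fun x : (↑t : Set (Module.Free.ChooseBasisIndex R (F.X n))) => B n x) :=
        (B n).linearIndependent.comp (Subtype.val : (↑t : Set (Module.Free.ChooseBasisIndex R (F.X n))) → _) Subtype.val_injective
      have bb := (Module.Basis.span hli).map (LinearEquiv.ofEq _ _ (by rw [Set.image_eq_range]) :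
        Submodule.span R (Set.range fun x : (↑t : Set (Module.Free.ChooseBasisIndex R (F.X n))) => B n x) ≃ₗ[R] Submodule.span R (B n '' (↑t : Set (Module.Free.ChooseBasisIndex R (F.X n)))))
      exact ⟨Module.Finite.of_basis bb, Module.Free.of_basis bb⟩
    exact key (s n)
  · refine ⟨⟨f i, hmemW _ _ fun x hx => hbasis _ x (Finset.mem_biUnion.2 ⟨0, Finset.mem_range.2 (Nat.succ_pos _), ?_⟩)⟩, rfl⟩
    exact Finset.mem_biUnion.2 ⟨i, Finset.mem_univ _, by rw [dif_pos rfl]; exact hx⟩

end Groth.Agent.S7145
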