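import Groth.Statements.S7147
import Groth.Agent.Lib.SerreSplit.Basic

set_option autoImplicit false
universe u
open CAlg

namespace Groth.Agent.S7147

open Groth.Agent.SerreSplit


/-- Let R be a ring, M a finitely presented R-module and x a maximal ideal of R with residue field κ(x);
write M(x) = M/xM and let B(x) ⊆ M(x) be the orthogonal of the image of Hom_R(M, R) in the dual of
M(x), i.e. the classes of those m in M with φ(m) in x for every linear form φ on M, and V(x) =
M(x)/B(x). For s_1, ..., s_r in M the following are equivalent: (1) there is f in R, f not in x,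
such that the map R_f^r → M_f given by the s_i is the inclusion of a direct summand; (2) the images
of s_1, ..., s_r in V(x) are linearly independent over κ(x). -/
theorem result (R : Type u) [CommRing R] (M : Type u)
    [AddCommGroup M] [Module R M] [Module.FinitePresentation R M] (x : Ideal R) [x.IsMaximal]
    (r : ℕ) (s : Fin r → M) :
    let Mx := M ⧸ (x • ⊤ : Submodule R M)
    let Bx : Submodule (R ⧸ x) Mx :=
      Submodule.span (R ⧸ x) ((x • ⊤ : Submodule R M).mkQ '' {m : M | ∀ φ : M →ₗ[R] R, φ m ∈ x})
    (∃ f : R, f ∉ x ∧
      ∃ g : LocalizedModule (Submonoid.powers f) M →ₗ[Localization.Away f] (Fin r → Localization.Away f),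
        g ∘ₗ Fintype.linearCombination (Localization.Away f)
            (fun i => LocalizedModule.mkLinearMap (Submonoid.powers f) M (s i)) = LinearMap.id) ↔
    LinearIndependent (R ⧸ x) (fun i => Bx.mkQ ((x • ⊤ : Submodule R M).mkQ (s i))) := by
  intro Mx Bx
  rw [show (LinearIndependent (R ⧸ x) fun i => Bx.mkQ ((x • ⊤ : Submodule R M).mkQ (s i))) ↔ Indep x s from
    linearIndependent_iff x s]
  constructor
  · rintro ⟨f, hf, g, hg⟩
    refine indep_of_split x (Submonoid.powers f) ?_ s (fun _ => 1) g fun i => ?_
    · rintro _ ⟨l, rfl⟩ h
      exact hf (Ideal.IsPrime.mem_of_pow_mem inferInstance l h)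
    · have := LinearMap.congr_fun hg (Pi.single i 1)
      simpa [Fintype.linearCombination_apply_single] using this
  · rintro ⟨φ, hφ⟩
    set A : Matrix (Fin r) (Fin r) R := Matrix.of fun j i => φ j (s i) with hA
    set f := A.det
    refine ⟨f, hφ, ?_⟩
    let ψ : Fin r → (M →ₗ[R] R) := fun i => ∑ j, A.adjugate i j • φ j
    have hψ : ∀ i l, ψ i (s l) = if i = l then f else 0 := by
      intro i l
      have := congrFun (congrFun (Matrix.adjugate_mul A) i) l
      rw [Matrix.mul_apply] at this
      simp only [ψ, LinearMap.coe_sum, Finset.sum_apply, LinearMap.smul_apply, smul_eq_mul]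
      simp only [hA, Matrix.of_apply] at this ⊢
      rw [this]
      by_cases hil : i = l <;> simp [hil, f, hA]
    let S := Submonoid.powers f
    let u : Localization.Away f := IsLocalization.mk' _ 1 (⟨f, Submonoid.mem_powers f⟩ : S)
    let G : M →ₗ[R] (Fin r → Localization.Away f) :=
      LinearMap.pi fun i => u • (Algebra.linearMap R (Localization.Away f)).comp (ψ i)
    have hu : ∀ t : S, IsUnit (algebraMap R (Module.End R (Fin r → Localization.Away f)) t) := fun t => by
      rw [Module.End.isUnit_iff]
      obtain ⟨c, hc⟩ := (IsLocalization.map_units (Localization.Away f) t).exists_left_inv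
      have key : ∀ a : Fin r → Localization.Away f, c • ((t : R) • a) = a := fun a => by
        rw [← algebraMap_smul (Localization.Away f) (t : R) a, smul_smul, hc, one_smul]
      exact ⟨fun a b h => by rw [← key a, ← key b]; exact congrArg (c • ·) h,
        fun b => ⟨c • b, by
          show (t : R) • c • b = b
          rw [smul_comm]; exact key b⟩⟩
    let g := (LocalizedModule.lift S G hu).extendScalarsOfIsLocalization S (Localization.Away f)
    refine ⟨g, (Pi.basisFun _ (Fin r)).ext fun l => ?_⟩
    simp only [Pi.basisFun_apply, LinearMap.comp_apply, Fintype.linearCombination_apply_single, one_smul, LinearMap.id_apply]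
    show LocalizedModule.lift S G hu (LocalizedModule.mkLinearMap S M (s l)) = _
    rw [← LinearMap.comp_apply, LocalizedModule.lift_comp]
    ext i
    simp only [G, LinearMap.pi_apply, LinearMap.smul_apply, LinearMap.comp_apply, Algebra.linearMap_apply, hψ, Pi.single_apply]
    split_ifs with h1 <;> simp [u]

end Groth.Agent.S7147
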