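import Groth.Statements.S7148
import Mathlib.Algebra.Category.ModuleCat.Ext.Finite
import Mathlib.RingTheory.Filtration
import Mathlib.Algebra.Homology.DerivedCategory.Ext.ExactSequences
import Mathlib.Algebra.Homology.DerivedCategory.Ext.EnoughProjectives

set_option autoImplicit false
universe u
open CategoryTheory
attribute [local instance] HasDerivedCategory.standard
open CAlg

namespace Groth.Agent.S7148


open CategoryTheory.Abelian in
theorem key (A : Type u) [CommRing A] [IsNoetherianRing A] (I : Ideal A) (N : Type u) [AddCommGroup N] [Module A N]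
    (p : ℕ) : ∀ (M : Type u) [AddCommGroup M] [Module A M] [Module.Finite A M], ∃ c : ℕ, ∀ n : ℕ, c ≤ n →
      ∀ e : Ext (ModuleCat.of A M) (ModuleCat.of A N) p,
        ∃ e' : Ext (ModuleCat.of A ↥(I ^ n • ⊤ : Submodule A M)) (ModuleCat.of A ↥(I ^ (n - c) • ⊤ : Submodule A N)) p,
          e'.comp (Ext.mk₀ (ModuleCat.ofHom (I ^ (n - c) • ⊤ : Submodule A N).subtype)) (add_zero p) =
            (Ext.mk₀ (ModuleCat.ofHom (I ^ n • ⊤ : Submodule A M).subtype)).comp e (zero_add p) := by
  induction p with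
  | zero =>
    intro M _ _ _
    refine ⟨0, fun n _ e => ?_⟩
    obtain ⟨φ, rfl⟩ := (Ext.mk₀_bijective _ _).2 e
    refine ⟨Ext.mk₀ (ModuleCat.ofHom (φ.hom.restrict (p := I ^ n • ⊤) (q := I ^ (n - 0) • ⊤) fun x hx => ?_)), ?_⟩
    · have := Submodule.mem_map_of_mem (f := φ.hom) hx
      rw [Submodule.map_smul''] at this
      exact Submodule.smul_mono le_rfl le_top this
    · rw [Ext.mk₀_comp_mk₀, Ext.mk₀_comp_mk₀]
      congr 1
  | succ p ih =>
    intro M _ _ _
    obtain ⟨m, π, hπ⟩ := Module.Finite.exists_fin' A M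
    let K := LinearMap.ker π
    obtain ⟨k, hk⟩ := I.exists_pow_inf_eq_pow_smul K
    obtain ⟨c, hc⟩ := ih K
    refine ⟨k + c, fun n hn e => ?_⟩
    let S := ShortComplex.moduleCatMk K.subtype π (LinearMap.exact_subtype_ker_map π).linearMap_comp_eq_zero
    have hS : S.ShortExact :=
      ShortComplex.ShortExact.mk' ((ShortComplex.ShortExact.moduleCat_exact_iff_function_exact S).mpr
        (LinearMap.exact_subtype_ker_map π))
        ((ModuleCat.mono_iff_injective _).mpr K.injective_subtype) ((ModuleCat.epi_iff_surjective _).mpr hπ)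
    haveI : Projective (ModuleCat.of A (Fin m → A)) := (IsProjective.iff_projective _).mp inferInstance
    obtain ⟨e1, he1⟩ := Ext.contravariant_sequence_exact₃ hS (ModuleCat.of A N) e
      (Ext.eq_zero_of_projective (P := ModuleCat.of A (Fin m → A)) _) (by omega : 1 + p = p + 1)
    let F' : Submodule A (Fin m → A) := I ^ n • ⊤
    let M' : Submodule A M := I ^ n • ⊤
    have hmap : F'.map π = M' := by
      rw [Submodule.map_smul'', Submodule.map_top, LinearMap.range_eq_top.mpr hπ]
    let π' : F' →ₗ[A] M' := π.restrict fun x hx => hmap.le (Submodule.mem_map_of_mem hx)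
    have hπ' : Function.Surjective π' := fun ⟨y, hy⟩ => by
      obtain ⟨x, hx, rfl⟩ := hmap.ge hy
      exact ⟨⟨x, hx⟩, rfl⟩
    let K' : Submodule A F' := LinearMap.ker π'
    let ι' : K' →ₗ[A] F' := K'.subtype
    let S' : ShortComplex (ModuleCat.{u} A) := ShortComplex.moduleCatMk (X₁ := K') (X₂ := F') (X₃ := M') ι' π' (LinearMap.comp_ker_subtype π')
    have hS' : S'.ShortExact :=
      ShortComplex.ShortExact.mk' ((ShortComplex.ShortExact.moduleCat_exact_iff_function_exact S').mpr
        (LinearMap.exact_subtype_ker_map π'))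
        ((ModuleCat.mono_iff_injective _).mpr K'.injective_subtype) ((ModuleCat.epi_iff_surjective _).mpr hπ')
    have hK : ∀ x : K', ((x : F') : Fin m → A) ∈ K := fun x => congrArg Subtype.val (LinearMap.mem_ker.mp x.2)
    let a : K' →ₗ[A] K := (F'.subtype ∘ₗ K'.subtype).codRestrict K hK
    have ha : ∀ x : K', a x ∈ (I ^ (n - k) • ⊤ : Submodule A K) := by
      intro x
      have h1 : ((x : F') : Fin m → A) ∈ I ^ (n - k) • (I ^ k • ⊤ ⊓ K) := hk n (by omega) ▸ ⟨(x : F').2, hK x⟩
      have h2 : ((x : F') : Fin m → A) ∈ (I ^ (n - k) • ⊤ : Submodule A K).map K.subtype := by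
        rw [Submodule.map_smul'', Submodule.map_top, Submodule.range_subtype]
        exact Submodule.smul_mono le_rfl inf_le_right h1
      obtain ⟨y, hy, hyx⟩ := h2
      have : y = a x := Subtype.ext hyx
      exact this ▸ hy
    let j : K' →ₗ[A] (I ^ (n - k) • ⊤ : Submodule A K) := a.codRestrict _ ha
    let f : S' ⟶ S :=
      { τ₁ := ModuleCat.ofHom a
        τ₂ := ModuleCat.ofHom F'.subtype
        τ₃ := ModuleCat.ofHom M'.subtype
        comm₁₂ := rfl
        comm₂₃ := rfl }
    have hnat := ShortComplex.ShortExact.extClass_naturality hS' hS f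
    obtain ⟨e2, he2⟩ : ∃ e2 : Ext (ModuleCat.of A ↥(I ^ (n - k) • ⊤ : Submodule A K))
        (ModuleCat.of A ↥(I ^ (n - (k + c)) • ⊤ : Submodule A N)) p,
        e2.comp (Ext.mk₀ (ModuleCat.ofHom (I ^ (n - (k + c)) • ⊤ : Submodule A N).subtype)) (add_zero p) =
          (Ext.mk₀ (ModuleCat.ofHom (I ^ (n - k) • ⊤ : Submodule A K).subtype)).comp e1 (zero_add p) := by
      have := hc (n - k) (by omega) e1
      rw [Nat.sub_sub] at this
      exact this
    refine ⟨hS'.extClass.comp ((Ext.mk₀ (ModuleCat.ofHom j)).comp e2 (zero_add p)) (by omega), ?_⟩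
    change _ = (Ext.mk₀ (ModuleCat.ofHom M'.subtype)).comp e (zero_add (p + 1))
    have h1 : ((Ext.mk₀ (ModuleCat.ofHom j)).comp e2 (zero_add p)).comp
        (Ext.mk₀ (ModuleCat.ofHom (I ^ (n - (k + c)) • ⊤ : Submodule A N).subtype)) (add_zero p) =
        (Ext.mk₀ f.τ₁).comp e1 (zero_add p) := by
      refine (Ext.comp_assoc_of_third_deg_zero _ _ _ _).trans ?_
      rw [he2]
      exact Ext.mk₀_comp_mk₀_assoc _ _ _
    refine (Ext.comp_assoc_of_third_deg_zero _ _ _ _).trans ?_
    refine (congrArg (fun z => hS'.extClass.comp z (by omega)) h1).trans ?_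
    refine (Ext.comp_assoc hS'.extClass (Ext.mk₀ f.τ₁) e1 (add_zero 1) (zero_add p) (by omega)).symm.trans ?_
    rw [hnat, ← he1]
    exact Ext.comp_assoc _ _ _ (zero_add 1) (by omega) (by omega)



/-- Let A be a Noetherian ring, I an ideal, M a finite A-module and N any A-module. For every p > 0
there is c ≥ 0 such that for all n ≥ c the map Ext^p_A(M, N) → Ext^p_A(IⁿM, N) factors through
Ext^p_A(IⁿM, I^(n-c)N) → Ext^p_A(IⁿM, N). Here Ext^p(X, Y) is the group of morphisms X → Y[p] in
D(A). -/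
theorem result (A : Type u) [CommRing A] [IsNoetherianRing A] (I : Ideal A)
    (M N : Type u) [AddCommGroup M] [Module A M] [Module.Finite A M] [AddCommGroup N] [Module A N]
    (p : ℕ) (hp : 0 < p) :
    ∃ c : ℕ, ∀ n : ℕ, c ≤ n →
      ∀ e : Dual.inD A M ⟶ (Dual.inD A N)⟦(p : ℤ)⟧,
        ∃ e' : Dual.inD A ↥(I ^ n • ⊤ : Submodule A M) ⟶ (Dual.inD A ↥(I ^ (n - c) • ⊤ : Submodule A N))⟦(p : ℤ)⟧,
          e' ≫ ((DerivedCategory.singleFunctor (ModuleCat.{u} A) 0).map
                  (ModuleCat.ofHom (I ^ (n - c) • ⊤ : Submodule A N).subtype))⟦(p : ℤ)⟧' =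
            (DerivedCategory.singleFunctor (ModuleCat.{u} A) 0).map
                (ModuleCat.ofHom (I ^ n • ⊤ : Submodule A M).subtype) ≫ e := by
  obtain ⟨c, hc⟩ := key A I N p M
  refine ⟨c, fun n hn e => ?_⟩
  obtain ⟨e', he'⟩ := hc n hn (Abelian.Ext.homEquiv.symm e)
  refine ⟨e'.hom, ?_⟩
  have h := congrArg Abelian.Ext.hom he'
  simp only [Abelian.Ext.comp_hom, Abelian.Ext.mk₀_hom, ShiftedHom.comp_mk₀, ShiftedHom.mk₀_comp, Equiv.apply_symm_apply] at h
  exact h

end Groth.Agent.S7148
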