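import Groth.Statements.S7149
import Groth.Agent.Lib.CAlgLow.PCExtAR

set_option autoImplicit false
universe u
open CategoryTheory
attribute [local instance] HasDerivedCategory.standard
open CAlg

namespace Groth.Agent.S7149

open Groth.Agent


/-- Let A be a Noetherian ring, I an ideal, K a pseudo-coherent object of D(A) and M a finite A-module.
For each integer p there is c such that for all n ≥ c the image of Ext^p_A(K, IⁿM) → Ext^p_A(K, M)
is contained in I^(n-c)·Ext^p_A(K, M); here Ext^p(K, X) = Hom_{D(A)}(K, X[p]) with its natural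
A-module structure. -/
theorem result (A : Type u) [CommRing A] [IsNoetherianRing A] (I : Ideal A)
    (K : Dual.D A) (hK : DRing.IsPseudoCoherent' A K) (M : Type u) [AddCommGroup M] [Module A M] [Module.Finite A M]
    (p : ℤ) :
    ∃ c : ℕ, ∀ n : ℕ, c ≤ n →
      ∀ e : K ⟶ (Dual.inD A ↥(I ^ n • ⊤ : Submodule A M))⟦p⟧,
        e ≫ ((DerivedCategory.singleFunctor (ModuleCat.{u} A) 0).map
              (ModuleCat.ofHom (I ^ n • ⊤ : Submodule A M).subtype))⟦p⟧' ∈
          (I ^ (n - c) • ⊤ : Submodule A (K ⟶ (Dual.inD A M)⟦p⟧)) := by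
  obtain ⟨E, b, hb, hE, ⟨e⟩⟩ := hK
  haveI := (DMod.vanishesAbove_iff E b).1 hb
  haveI : E.IsKProjective := DMod.isKProjective b fun i => have := (hE i).2; inferInstance
  obtain ⟨c, hc⟩ := PCExt.exists_cls_mem hE e (-p) p (by omega) I M
  refine ⟨c, fun n hn x => ?_⟩
  obtain ⟨φ, rfl⟩ := PCExt.cls_surjective e (-p) p (by omega) ↥(I ^ n • ⊤ : Submodule A M) x
  let ψ : PCExt.Z E (-p) M := ⟨(I ^ n • ⊤ : Submodule A M).subtype ∘ₗ φ.1, by
    rw [LinearMap.mem_ker, LinearMap.lcomp_apply', LinearMap.comp_assoc, show φ.1 ∘ₗ (E.d (-p - 1) (-p)).hom = 0 from φ.2, LinearMap.comp_zero]⟩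
  rw [PCExt.cls_natural e (-p) p (by omega) _ φ ψ rfl]
  exact hc n hn ψ fun x => (φ.1 x).2

end Groth.Agent.S7149
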