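import Groth.Statements.S7150
import Groth.Agent.Lib.Sep.Basic
import Groth.Agent.Lib.AdicSmooth.FieldFS
import Mathlib.RingTheory.LocalRing.ResidueField.Basic
import Mathlib.Algebra.Algebra.ZMod
import Mathlib.FieldTheory.Perfect
import Mathlib.Algebra.Field.ULift

set_option autoImplicit false
universe u
open EtAlg

namespace Groth.Agent.S7150

/-- Suppose p is a prime with p·1 = 0 in the local ring A and some power of the maximal ideal of A is
zero. Then the residue map A → κ_A has a section σ : κ_A → A that is a ring map. If moreover A → A'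
is a local homomorphism to another local ring whose maximal ideal has a vanishing power, and the
residue field extension κ_{A'}/κ_A is separable (possibly transcendental, i.e. geometrically
reduced), then for any such σ there is a section σ' : κ_{A'} → A' compatible with σ. -/
theorem result (p : ℕ) (hp : p.Prime) (A : Type u) [CommRing A]
    [IsLocalRing A] [CharP A p] (hnil : ∃ n : ℕ, IsLocalRing.maximalIdeal A ^ n = ⊥) :
    (∃ σ : IsLocalRing.ResidueField A →+* A, (IsLocalRing.residue A).comp σ = RingHom.id _) ∧
    ∀ (A' : Type u) [CommRing A'] [IsLocalRing A'] [Algebra A A'] [IsLocalHom (algebraMap A A')],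
      (∃ n : ℕ, IsLocalRing.maximalIdeal A' ^ n = ⊥) →
      Algebra.IsGeometricallyReduced (IsLocalRing.ResidueField A) (IsLocalRing.ResidueField A') →
      ∀ σ : IsLocalRing.ResidueField A →+* A, (IsLocalRing.residue A).comp σ = RingHom.id _ →
        ∃ σ' : IsLocalRing.ResidueField A' →+* A', (IsLocalRing.residue A').comp σ' = RingHom.id _ ∧
          σ'.comp (IsLocalRing.ResidueField.map (algebraMap A A')) = (algebraMap A A').comp σ := by
  haveI : Fact p.Prime := ⟨hp⟩
  constructor
  · letI : Algebra (ZMod p) A := ZMod.algebra A p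
    haveI : CharP (IsLocalRing.ResidueField A) p := by
      refine (CharP.charP_iff_prime_eq_zero hp).2 ?_
      rw [← map_natCast (IsLocalRing.residue A), CharP.cast_eq_zero, map_zero]
    letI : Algebra (ZMod p) (IsLocalRing.ResidueField A) := ((IsLocalRing.residue A).comp (algebraMap (ZMod p) A)).toAlgebra
    let F := ULift.{u} (ZMod p)
    letI : Algebra F A := ((algebraMap (ZMod p) A).comp (ULift.ringEquiv : F ≃+* ZMod p).toRingHom).toAlgebra
    letI : Algebra F (IsLocalRing.ResidueField A) := ((IsLocalRing.residue A).comp (algebraMap F A)).toAlgebra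
    haveI : Finite F := Finite.of_equiv _ Equiv.ulift.symm
    haveI : Algebra.FormallySmooth F (IsLocalRing.ResidueField A) := Groth.Agent.FieldFS.formallySmooth_of_perfectField F _
    let g : IsLocalRing.ResidueField A →ₐ[F] A ⧸ IsLocalRing.maximalIdeal A :=
      { (RingHom.id (IsLocalRing.ResidueField A) : IsLocalRing.ResidueField A →+* A ⧸ IsLocalRing.maximalIdeal A) with
        commutes' := fun x => rfl }
    obtain ⟨n, hn⟩ := hnil
    refine ⟨(Algebra.FormallySmooth.lift (IsLocalRing.maximalIdeal A) ⟨n, hn⟩ g).toRingHom, RingHom.ext fun x => ?_⟩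
    exact Algebra.FormallySmooth.mk_lift (IsLocalRing.maximalIdeal A) ⟨n, hn⟩ g x
  · intro A' _ _ _ _ hnil' hgr σ hσ
    haveI := hgr
    haveI : Algebra.FormallySmooth (IsLocalRing.ResidueField A) (IsLocalRing.ResidueField A') :=
      (Groth.Agent.Sep.formallySmooth_iff_isGeometricallyReduced _ _).2 hgr
    letI : Algebra (IsLocalRing.ResidueField A) A' := ((algebraMap A A').comp σ).toAlgebra
    let g : IsLocalRing.ResidueField A' →ₐ[IsLocalRing.ResidueField A] A' ⧸ IsLocalRing.maximalIdeal A' :=
      { (RingHom.id (IsLocalRing.ResidueField A') : IsLocalRing.ResidueField A' →+* A' ⧸ IsLocalRing.maximalIdeal A') with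
        commutes' := fun x => by
          show algebraMap (IsLocalRing.ResidueField A) (IsLocalRing.ResidueField A') x = IsLocalRing.residue A' (algebraMap A A' (σ x))
          conv_lhs => rw [← RingHom.id_apply x, ← hσ, RingHom.comp_apply]
          rfl }
    obtain ⟨n, hn⟩ := hnil'
    refine ⟨(Algebra.FormallySmooth.lift (IsLocalRing.maximalIdeal A') ⟨n, hn⟩ g).toRingHom,
      RingHom.ext fun x => Algebra.FormallySmooth.mk_lift (IsLocalRing.maximalIdeal A') ⟨n, hn⟩ g x, RingHom.ext fun x => ?_⟩
    exact (Algebra.FormallySmooth.lift (IsLocalRing.maximalIdeal A') ⟨n, hn⟩ g).commutes x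

end Groth.Agent.S7150
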