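import Groth.Statements.S7151
import Groth.Agent.Lib.PerturbH7.InsepStep

set_option autoImplicit false
universe u
open EtAlg

namespace Groth.Agent.S7151

/-- Let p be a prime and A → B an injective local homomorphism of discrete valuation rings whose fields
of fractions are K ⊆ L, where K has characteristic p, L is separable (geometrically reduced) over K
and B is a Nagata ring. Let K ⊆ K₁ ⊆ K₂ be finite extensions such that K₂ is a solution for A ⊆ B
and K₂/K₁ is purely inseparable of degree p. Then some finite separable extension K₃/K₁ is also a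
solution for A ⊆ B. -/
theorem result (p : ℕ) (hp : p.Prime) (A B K L : Type u)
    [CommRing A] [IsDomain A] [IsDiscreteValuationRing A] [CommRing B] [IsDomain B] [IsDiscreteValuationRing B]
    [Algebra A B] (hinj : Function.Injective (algebraMap A B)) [IsLocalHom (algebraMap A B)]
    [Field K] [Field L] [Algebra A K] [IsFractionRing A K] [Algebra B L] [IsFractionRing B L]
    [Algebra K L] [Algebra A L] [IsScalarTower A K L] [IsScalarTower A B L] [CharP K p]
    [Algebra.IsGeometricallyReduced K L] (hB : CAlg.IsNagata B)
    (K₁ K₂ : Type u) [Field K₁] [Field K₂] [Algebra K K₁] [Algebra K K₂] [Algebra K₁ K₂] [IsScalarTower K K₁ K₂]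
    [FiniteDimensional K K₁] [FiniteDimensional K₁ K₂] (hsol : EtRam.IsSolution B K L K₂)
    [IsPurelyInseparable K₁ K₂] (hdeg : Module.finrank K₁ K₂ = p) :
    ∃ (K₃ : Type u) (_ : Field K₃) (_ : Algebra K K₃) (_ : Algebra K₁ K₃) (_ : IsScalarTower K K₁ K₃),
      FiniteDimensional K₁ K₃ ∧ Algebra.IsSeparable K₁ K₃ ∧ EtRam.IsSolution B K L K₃ := by
  exact Groth.Agent.PerturbH7.exists_separable_step A B K L hp hinj hB K₁ K₂ hsol hdeg

end Groth.Agent.S7151
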