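import Groth.Statements.S7152
import Mathlib.RingTheory.Localization.Away.Basic
import Mathlib.RingTheory.Finiteness.Basic
import Mathlib.RingTheory.Ideal.Quotient.Operations
import Mathlib.Tactic.LinearCombination

set_option autoImplicit false
universe u
open EtAlg

namespace Groth.Agent.S7152

/-- Let A' ⊆ A be an extension of rings and f an element of A'. Assume A is finite over A', f is a
nonzerodivisor on A, and A'_f = A_f. Then there is n₀ > 0 such that for all n ≥ n₀ the following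
holds: given a ring B', a nonzerodivisor g of B' and an isomorphism φ' : A'/fⁿA' → B'/gⁿB' sending
the class of f to the class of g, one can find a ring B containing B' as a subring and finite as a
B'-module, together with a ring isomorphism φ : A/fA → B/gB that agrees with φ' (i.e. the square
formed by the maps A'/fⁿA' → A/fA and B'/gⁿB' → B/gB commutes). -/
theorem result (A' A : Type u) [CommRing A'] [CommRing A] [Algebra A' A]
    (hinj : Function.Injective (algebraMap A' A)) [Module.Finite A' A] (f : A')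
    (hf : algebraMap A' A f ∈ nonZeroDivisors A)
    (hloc : Function.Bijective (IsLocalization.Away.map (Localization.Away f)
      (Localization.Away (algebraMap A' A f)) (algebraMap A' A) f)) :
    ∃ n₀ : ℕ, 0 < n₀ ∧ ∀ n : ℕ, n₀ ≤ n →
      ∀ (B' : Type u) [CommRing B'] (g : B'), g ∈ nonZeroDivisors B' →
        ∀ φ' : (A' ⧸ Ideal.span {f ^ n}) ≃+* (B' ⧸ Ideal.span {g ^ n}),
        φ' (Ideal.Quotient.mk (Ideal.span {f ^ n}) f) = Ideal.Quotient.mk (Ideal.span {g ^ n}) g →
        ∃ (B : Type u) (_ : CommRing B) (_ : Algebra B' B),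
          Function.Injective (algebraMap B' B) ∧ Module.Finite B' B ∧
          ∃ φ : (A ⧸ Ideal.span {algebraMap A' A f}) ≃+* (B ⧸ Ideal.span {algebraMap B' B g}),
            ∀ (a' : A') (b' : B'),
              φ' (Ideal.Quotient.mk (Ideal.span {f ^ n}) a') = Ideal.Quotient.mk (Ideal.span {g ^ n}) b' →
              φ (Ideal.Quotient.mk (Ideal.span {algebraMap A' A f}) (algebraMap A' A a')) =
                Ideal.Quotient.mk (Ideal.span {algebraMap B' B g}) (algebraMap B' B b') := by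
  classical
  let i := algebraMap A' A
  have hnzd : ∀ (k : ℕ) (x : A), i f ^ k * x = 0 → x = 0 := fun k x h =>
    (Submonoid.pow_mem _ hf k).1 x h
  have hex : ∀ a : A, ∃ (k : ℕ) (x : A'), i x = i f ^ k * a := by
    intro a
    obtain ⟨z, hz⟩ := hloc.2 (algebraMap A (Localization.Away (i f)) a)
    obtain ⟨⟨x, ⟨_, k, rfl⟩⟩, hx⟩ := IsLocalization.surj (Submonoid.powers f) z
    dsimp only at hx
    have h := congrArg (IsLocalization.Away.map (Localization.Away f) (Localization.Away (i f)) i f) hx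
    rw [map_mul, hz, IsLocalization.Away.map, IsLocalization.map_eq, IsLocalization.map_eq, ← map_mul] at h
    obtain ⟨⟨_, m, rfl⟩, hm⟩ := (IsLocalization.eq_iff_exists (Submonoid.powers (i f)) _).1 h
    refine ⟨k, x, ?_⟩
    have := hnzd m (a * i (f ^ k) - i x) (by dsimp only at hm; rw [mul_sub, hm, sub_self])
    rw [map_pow] at this
    linear_combination -this
  have hmono : ∀ (a : A) (k l : ℕ), k ≤ l → (∃ x, i x = i f ^ k * a) → ∃ x, i x = i f ^ l * a := by
    rintro a k l hkl ⟨x, hx⟩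
    obtain ⟨d, rfl⟩ := Nat.exists_eq_add_of_le hkl
    exact ⟨f ^ d * x, by rw [map_mul, map_pow, hx, pow_add]; ring⟩
  obtain ⟨s, hs⟩ := (Module.Finite.fg_top : (⊤ : Submodule A' A).FG)
  choose k hk using hex
  let t := s.sup k
  have ht : ∀ a : A, ∃ x, i x = i f ^ t * a := by
    intro a
    have ha : a ∈ Submodule.span A' (↑s : Set A) := hs ▸ Submodule.mem_top
    induction ha using Submodule.span_induction with
    | mem b hb => exact hmono b _ _ (Finset.le_sup (f := k) hb) (hk b)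
    | zero => exact ⟨0, by simp⟩
    | add b c _ _ hb hc =>
      obtain ⟨x, hx⟩ := hb
      obtain ⟨y, hy⟩ := hc
      exact ⟨x + y, by rw [map_add, hx, hy, mul_add]⟩
    | smul r b _ hb =>
      obtain ⟨x, hx⟩ := hb
      exact ⟨r * x, by rw [map_mul, hx, Algebra.smul_def]; ring⟩
  refine ⟨2 * t + 1, Nat.succ_pos _, fun n hn B' _ g hg φ' hφ' => ?_⟩
  let mB := Ideal.Quotient.mk (Ideal.span {g ^ n})
  let ψ : A' →+* B' ⧸ Ideal.span {g ^ n} := φ'.toRingHom.comp (Ideal.Quotient.mk _)
  have hψf : ψ f = mB g := hφ'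
  have hψs : ∀ w : B', ∃ x, ψ x = mB w := fun w => by
    obtain ⟨x, hx⟩ := Ideal.Quotient.mk_surjective (φ'.symm (mB w))
    exact ⟨x, by show φ' (Ideal.Quotient.mk _ x) = _; rw [hx, RingEquiv.apply_symm_apply]⟩
  have hψ0 : ∀ x, ψ x = 0 → x ∈ Ideal.span {f ^ n} := fun x hx =>
    Ideal.Quotient.eq_zero_iff_mem.1 (φ'.injective (hx.trans φ'.map_zero.symm))
  let L := Localization.Away g
  let e := algebraMap B' L
  have he : Function.Injective e := IsLocalization.injective L (Submonoid.powers_le.2 hg)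
  have hug : IsUnit (e (g ^ t)) := IsLocalization.map_units L (⟨g ^ t, t, rfl⟩ : Submonoid.powers g)
  obtain ⟨u, hu⟩ := hug.exists_right_inv
  let Rel : A → B' → Prop := fun a w => ∃ x, i x = i f ^ t * a ∧ ψ x = mB w
  have rex : ∀ a, ∃ w, Rel a w := fun a => by
    obtain ⟨x, hx⟩ := ht a
    obtain ⟨w, hw⟩ := Ideal.Quotient.mk_surjective (ψ x)
    exact ⟨w, x, hx, hw.symm⟩
  have runiq : ∀ a w w', Rel a w → Rel a w' → ∃ v, w' = w + g ^ n * v := by
    rintro a w w' ⟨x, hx, hw⟩ ⟨y, hy, hw'⟩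
    rw [hinj (hx.trans hy.symm), hw'] at hw
    obtain ⟨v, hv⟩ := Ideal.mem_span_singleton'.1 (Ideal.Quotient.eq.1 hw)
    exact ⟨v, by linear_combination -hv⟩
  have rmod : ∀ a w v, Rel a w → Rel a (w + g ^ n * v) := by
    rintro a w v ⟨x, hx, hw⟩
    refine ⟨x, hx, ?_⟩
    rw [hw, Ideal.Quotient.eq, Ideal.mem_span_singleton']
    exact ⟨-v, by ring⟩
  have radd : ∀ a b w w', Rel a w → Rel b w' → Rel (a + b) (w + w') := by
    rintro a b w w' ⟨x, hx, hw⟩ ⟨y, hy, hw'⟩
    exact ⟨x + y, by rw [map_add, hx, hy, mul_add], by rw [map_add, hw, hw', map_add]⟩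
  have rmul : ∀ a b w w', Rel a w → Rel b w' → ∃ z v, Rel (a * b) z ∧ w * w' = g ^ t * z + g ^ n * v := by
    rintro a b w w' ⟨x, hx, hw⟩ ⟨y, hy, hw'⟩
    obtain ⟨z, xz, hxz, hz⟩ := rex (a * b)
    have hxy : x * y = f ^ t * xz := hinj (show i _ = i _ by rw [map_mul, map_mul, map_pow, hx, hy, hxz]; ring)
    have h2 : mB (w * w') = mB (g ^ t * z) := by
      rw [map_mul, map_mul, map_pow, ← hw, ← hw', ← map_mul ψ, hxy, map_mul, map_pow, hψf, hz]
    obtain ⟨v, hv⟩ := Ideal.mem_span_singleton'.1 (Ideal.Quotient.eq.1 h2)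
    exact ⟨z, v, ⟨xz, hxz, hz⟩, by linear_combination -hv⟩
  have rbase : ∀ (a' : A') (b' : B'), ψ a' = mB b' → Rel (i a') (g ^ t * b') := fun a' b' h =>
    ⟨f ^ t * a', by rw [map_mul, map_pow], by rw [map_mul, map_mul, map_pow, map_pow, hψf, h]⟩
  have rB : ∀ b' : B', ∃ a, Rel a (g ^ t * b') := fun b' => by
    obtain ⟨x, hx⟩ := hψs b'
    exact ⟨i x, rbase x b' hx⟩
  have hval : ∀ b', e (g ^ t * b') * u = e b' := fun b' => by
    rw [map_mul, mul_right_comm, hu, one_mul]
  have rscal : ∀ (b' : B') a w, Rel a w → ∃ a₂, Rel a₂ (b' * w) := by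
    rintro b' a w ⟨x, hx, hw⟩
    obtain ⟨y, hy⟩ := hψs b'
    exact ⟨i y * a, y * x, by rw [map_mul, hx]; ring, by rw [map_mul, hy, hw, map_mul]⟩
  have hmulmem : ∀ a b w w', Rel a w → Rel b w' → ∃ z v, Rel (a * b) z ∧
      e w * u * (e w' * u) = e z * u + e (g ^ (n - 2 * t) * v) := by
    intro a b w w' h h'
    obtain ⟨z, v, hz, hv⟩ := rmul a b w w' h h'
    refine ⟨z, v, hz, ?_⟩
    have hsplit : g ^ n = g ^ t * (g ^ t * g ^ (n - 2 * t)) := by
      rw [← pow_add, ← pow_add]; congr 1; omega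
    have e1 : e w * e w' = e (g ^ t) * e z + e (g ^ t) * (e (g ^ t) * (e (g ^ (n - 2 * t)) * e v)) := by
      rw [← map_mul e w, hv, hsplit]
      simp only [map_add, map_mul]
      ring
    rw [map_mul e (g ^ (n - 2 * t))]
    linear_combination (u * u) * e1 + (e z * u + (e (g ^ t) * u + 1) * (e (g ^ (n - 2 * t)) * e v)) * hu
  let B : Subalgebra B' L :=
    { carrier := {y | ∃ a w, Rel a w ∧ y = e w * u}
      algebraMap_mem' := fun b' => by
        obtain ⟨a, ha⟩ := rB b'
        exact ⟨a, _, ha, (hval b').symm⟩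
      add_mem' := by
        rintro _ _ ⟨a, w, h, rfl⟩ ⟨b, w', h', rfl⟩
        exact ⟨a + b, w + w', radd a b w w' h h', by rw [map_add]; ring⟩
      mul_mem' := by
        rintro _ _ ⟨a, w, h, rfl⟩ ⟨b, w', h', rfl⟩
        obtain ⟨z, v, hz, hzz⟩ := hmulmem a b w w' h h'
        obtain ⟨c, hc⟩ := rB (g ^ (n - 2 * t) * v)
        exact ⟨a * b + c, _, radd _ _ _ _ hz hc, by rw [hzz, map_add, add_mul, hval]⟩ }
  choose W hW using rex
  have hWB : ∀ a, e (W a) * u ∈ B := fun a => ⟨a, W a, hW a, rfl⟩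
  have hfin : Module.Finite B' B := by
    obtain ⟨v1, hv1⟩ : ∃ x : B, (x : L) = e (g ^ (n - t)) := ⟨⟨_, B.algebraMap_mem _⟩, rfl⟩
    let gens : Finset B := insert v1 (s.image fun a => (⟨e (W a) * u, hWB a⟩ : B))
    refine ⟨⟨gens, eq_top_iff.2 ?_⟩⟩
    rintro ⟨y, a, w, hw, rfl⟩ -
    have hv : ∀ v : B', ∀ x : B, (x : L) = e (g ^ n * v) * u → x ∈ Submodule.span B' (↑gens : Set B) := fun v x hx => by
      have : x = v • v1 := Subtype.ext (by
        rw [hx, Subalgebra.coe_smul, hv1, Algebra.smul_def, show g ^ n * v = g ^ t * (g ^ (n - t) * v) by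
          rw [← mul_assoc, ← pow_add, show t + (n - t) = n by omega], hval, map_mul, mul_comm])
      rw [this]
      exact Submodule.smul_mem _ _ (Submodule.subset_span (Finset.mem_insert_self _ _))
    have key : ∀ a ∈ Submodule.span A' (↑s : Set A), ∃ w, Rel a w ∧ ∀ x : B, (x : L) = e w * u → x ∈ Submodule.span B' (↑gens : Set B) := by
      intro a ha
      induction ha using Submodule.span_induction with
      | mem b hb =>
        refine ⟨W b, hW b, fun x hx => ?_⟩
        rw [show x = ⟨_, hWB b⟩ from Subtype.ext hx]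
        exact Submodule.subset_span (Finset.mem_insert_of_mem (Finset.mem_image_of_mem _ hb))
      | zero =>
        refine ⟨0, ⟨0, by simp, by simp⟩, fun x hx => ?_⟩
        rw [show x = 0 from Subtype.ext (by rw [hx, map_zero, zero_mul, ZeroMemClass.coe_zero])]
        exact zero_mem _
      | add b c _ _ hb hc =>
        obtain ⟨wb, hwb, hb⟩ := hb
        obtain ⟨wc, hwc, hc⟩ := hc
        refine ⟨wb + wc, radd _ _ _ _ hwb hwc, fun x hx => ?_⟩
        rw [show x = ⟨_, b, wb, hwb, rfl⟩ + (⟨_, c, wc, hwc, rfl⟩ : B) from Subtype.ext (by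
          rw [hx, map_add, add_mul]; rfl)]
        exact add_mem (hb _ rfl) (hc _ rfl)
      | smul r b _ hb =>
        obtain ⟨wb, ⟨xb, hxb, hwb'⟩, hb⟩ := hb
        obtain ⟨r', hr'⟩ := Ideal.Quotient.mk_surjective (ψ r)
        have hwb : Rel b wb := ⟨xb, hxb, hwb'⟩
        refine ⟨r' * wb, ⟨r * xb, by rw [map_mul, hxb, Algebra.smul_def]; ring, by rw [map_mul, map_mul, hwb', ← hr']⟩, fun x hx => ?_⟩
        rw [show x = r' • (⟨_, b, wb, hwb, rfl⟩ : B) from Subtype.ext (by
          rw [hx, Subalgebra.coe_smul, Algebra.smul_def, map_mul, mul_assoc])]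
        exact Submodule.smul_mem _ _ (hb _ rfl)
    obtain ⟨w₀, hw₀, h₀⟩ := key a (hs ▸ Submodule.mem_top)
    obtain ⟨v, hv'⟩ := runiq a w₀ w hw₀ hw
    obtain ⟨c, hc⟩ := rB (g ^ (n - t) * v)
    have hc' : Rel c (g ^ n * v) := by
      rwa [← mul_assoc, ← pow_add, show t + (n - t) = n by omega] at hc
    have : (⟨_, a, w, hw, rfl⟩ : B) = ⟨_, a, w₀, hw₀, rfl⟩ + ⟨_, c, _, hc', rfl⟩ := Subtype.ext (by
      show e w * u = e w₀ * u + e (g ^ n * v) * u
      rw [hv', map_add, add_mul])
    rw [this]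
    exact add_mem (h₀ _ rfl) (hv v _ rfl)
  let G : B := algebraMap B' B g
  let mq := Ideal.Quotient.mk (Ideal.span {G})
  have hcoe : ∀ b' : B', ((algebraMap B' B b' : B) : L) = e b' := fun b' => rfl
  have hsmall : ∀ (m : ℕ) (v : B'), 1 ≤ m → mq (algebraMap B' B (g ^ m * v)) = 0 := fun m v hm => by
    rw [Ideal.Quotient.eq_zero_iff_mem, Ideal.mem_span_singleton']
    exact ⟨algebraMap B' B (g ^ (m - 1) * v), by rw [← map_mul, mul_right_comm, ← pow_succ, show m - 1 + 1 = m by omega]⟩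
  let Φ : A → B ⧸ Ideal.span {G} := fun a => mq ⟨e (W a) * u, hWB a⟩
  have hΦ : ∀ a w (hw : Rel a w) (y : B), (y : L) = e w * u → Φ a = mq y := by
    intro a w hw y hy
    obtain ⟨v, hv⟩ := runiq a (W a) w (hW a) hw
    have : y = (⟨e (W a) * u, hWB a⟩ : B) + algebraMap B' B (g ^ (n - t) * v) := Subtype.ext (by
      rw [hy, hv, Subalgebra.coe_add, hcoe, map_add, add_mul, show g ^ n * v = g ^ t * (g ^ (n - t) * v) by
          rw [← mul_assoc, ← pow_add, show t + (n - t) = n by omega], hval])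
    rw [this, map_add, hsmall _ _ (by omega), add_zero]
  have hbase : ∀ (a' : A') (b' : B'), ψ a' = mB b' → Φ (i a') = mq (algebraMap B' B b') := fun a' b' h =>
    hΦ _ _ (rbase a' b' h) _ (by rw [hcoe, hval])
  have hΦ1 : Φ 1 = 1 := by
    rw [← map_one i, hbase 1 1 (by rw [map_one, map_one]), map_one, map_one]
  let Φh : A →+* B ⧸ Ideal.span {G} :=
    { toFun := Φ
      map_one' := hΦ1
      map_zero' := by
        rw [← map_zero i, hbase 0 0 (by rw [map_zero, map_zero]), map_zero, map_zero]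
      map_add' := fun a b => by
        rw [← map_add]
        exact hΦ _ _ (radd _ _ _ _ (hW a) (hW b)) _ (by rw [map_add, add_mul]; rfl)
      map_mul' := fun a b => by
        obtain ⟨z, v, hz, hzz⟩ := hmulmem a b _ _ (hW a) (hW b)
        rw [hΦ _ z hz ⟨_, _, z, hz, rfl⟩ rfl, ← map_mul, eq_comm, ← sub_eq_zero, ← map_sub]
        rw [show (⟨e (W a) * u, hWB a⟩ : B) * ⟨e (W b) * u, hWB b⟩ - ⟨e z * u, _, z, hz, rfl⟩ =
          algebraMap B' B (g ^ (n - 2 * t) * v) from Subtype.ext (by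
            show e (W a) * u * (e (W b) * u) - e z * u = e _
            rw [hzz, add_sub_cancel_left])]
        exact hsmall _ _ (by omega) }
  have hker : RingHom.ker Φh = Ideal.span {i f} := by
    refine le_antisymm (fun a ha => ?_) ((Ideal.span_singleton_le_iff_mem _).2 ?_)
    · obtain ⟨y, hy⟩ := Ideal.mem_span_singleton'.1 (Ideal.Quotient.eq_zero_iff_mem.1 (RingHom.mem_ker.1 ha))
      obtain ⟨a₁, w₁, h₁, hy₁⟩ := y.2
      have hyval := congrArg Subtype.val hy
      simp only [Subalgebra.coe_mul, hy₁] at hyval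
      have hW' : W a = g * w₁ := he (by
        rw [map_mul]
        have h' : e w₁ * u * e g = e (W a) * u := hyval
        linear_combination (-(e (g ^ t))) * h' + (e w₁ * e g - e (W a)) * hu)
      obtain ⟨x, hx, hxw⟩ := hW a
      obtain ⟨x₁, hx₁, hxw₁⟩ := h₁
      obtain ⟨d, hd⟩ := Ideal.mem_span_singleton'.1 (hψ0 (x - f * x₁) (by
        rw [map_sub, map_mul, hxw, hψf, hxw₁, ← map_mul, hW', sub_self]))
      have e2 : i x = i f * i x₁ + i d * i f ^ n := by
        rw [← map_mul, ← map_pow, ← map_mul, ← map_add, hd, add_sub_cancel]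
      have e3 : i f ^ t * (a - i f * (a₁ + i d * i f ^ (n - t - 1))) = 0 := by
        have h4 : i f ^ n = i f ^ t * i f * i f ^ (n - t - 1) := by
          rw [← pow_succ, ← pow_add]; congr 1; omega
        linear_combination e2 - hx + i f * hx₁ + i d * h4
      exact Ideal.mem_span_singleton'.2 ⟨_, ((sub_eq_zero.1 (hnzd _ _ e3)).trans (mul_comm _ _)).symm⟩
    · rw [RingHom.mem_ker]
      show Φ (i f) = 0
      rw [hbase f g hψf]
      exact Ideal.Quotient.eq_zero_iff_mem.2 (Ideal.mem_span_singleton_self _)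
  have hsurj : Function.Surjective Φh := fun q => by
    obtain ⟨⟨y, a, w, hw, hy⟩, rfl⟩ := Ideal.Quotient.mk_surjective q
    exact ⟨a, hΦ a w hw _ hy⟩
  refine ⟨B, inferInstance, inferInstance, fun x y h => he (congrArg Subtype.val h), hfin,
    (Ideal.quotEquivOfEq hker.symm).trans (RingHom.quotientKerEquivOfSurjective hsurj), fun a' b' h => ?_⟩
  exact hbase a' b' h

end Groth.Agent.S7152
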