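import Groth.Statements.S7153
import Mathlib.RingTheory.Filtration

set_option autoImplicit false
universe u
open CAlg

namespace Groth.Agent.S7153

/-- Let A be a Noetherian ring, I an ideal and K → L → M a complex of finite A-modules with maps α, β
and homology H = Ker β / Im α; for n ≥ 0 let H_n be the homology of the induced complex K/IⁿK →
L/IⁿL → M/IⁿM, which is β⁻¹(IⁿM)/(Im α + IⁿL). Then there is c > 0 such that for every n: (i) the
image of H_(n+c) → H_n is contained in, hence equal to, the image of H → H_n; (ii) the kernel and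
the cokernel of H/IⁿH → H_n are annihilated by I^c. Everything is phrased with representatives in L. -/
theorem result (A : Type u) [CommRing A] [IsNoetherianRing A] (I : Ideal A)
    (K L M : Type u) [AddCommGroup K] [Module A K] [Module.Finite A K] [AddCommGroup L] [Module A L]
    [Module.Finite A L] [AddCommGroup M] [Module A M] [Module.Finite A M]
    (α : K →ₗ[A] L) (β : L →ₗ[A] M) (hαβ : β ∘ₗ α = 0) :
    ∃ c : ℕ, 0 < c ∧ ∀ n : ℕ,
      (∀ y ∈ (I ^ (n + c) • ⊤ : Submodule A M).comap β,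
        ∃ z ∈ LinearMap.ker β, y - z ∈ LinearMap.range α ⊔ (I ^ n • ⊤ : Submodule A L)) ∧
      (∀ z ∈ LinearMap.ker β, z ∈ LinearMap.range α ⊔ (I ^ n • ⊤ : Submodule A L) →
        ∀ a ∈ I ^ c, a • z ∈ LinearMap.range α ⊔ I ^ n • LinearMap.ker β) ∧
      (∀ y ∈ (I ^ n • ⊤ : Submodule A M).comap β, ∀ a ∈ I ^ c,
        ∃ z ∈ LinearMap.ker β, a • y - z ∈ LinearMap.range α ⊔ (I ^ n • ⊤ : Submodule A L)) := by
  obtain ⟨c₁, h₁⟩ := I.exists_pow_inf_eq_pow_smul (LinearMap.range β)
  obtain ⟨c₂, h₂⟩ := I.exists_pow_inf_eq_pow_smul (LinearMap.ker β)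
  refine ⟨c₁ + c₂ + 1, by omega, fun n => ?_⟩
  set c := c₁ + c₂ + 1 with hc
  have one : ∀ y, β y ∈ (I ^ (n + c) • ⊤ : Submodule A M) →
      ∃ z ∈ LinearMap.ker β, y - z ∈ (I ^ n • ⊤ : Submodule A L) := by
    intro y hy
    have h : β y ∈ (I ^ (n + c) • ⊤ : Submodule A M) ⊓ LinearMap.range β := ⟨hy, y, rfl⟩
    rw [h₁ (n + c) (by omega)] at h
    have h' : β y ∈ I ^ (n + c - c₁) • Submodule.map β ⊤ := by
      rw [Submodule.map_top]; exact Submodule.smul_mono le_rfl inf_le_right h
    rw [← Submodule.map_smul''] at h'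
    obtain ⟨w, hw, e⟩ := h'
    exact ⟨y - w, by simp [e], by rw [sub_sub_cancel]; exact Submodule.smul_mono_left (Ideal.pow_le_pow_right (by omega)) hw⟩
  refine ⟨fun y hy => ?_, fun z hz hz' a ha => ?_, fun y hy a ha => ?_⟩
  · obtain ⟨z, h, h'⟩ := one y hy; exact ⟨z, h, Submodule.mem_sup_right h'⟩
  · obtain ⟨_, ⟨k, rfl⟩, l, hl, rfl⟩ := Submodule.mem_sup.1 hz'
    have hlk : l ∈ LinearMap.ker β := by
      simpa [LinearMap.mem_ker, show β (α k) = 0 from LinearMap.congr_fun hαβ k] using hz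
    rw [smul_add, ← map_smul]
    refine Submodule.add_mem _ (Submodule.mem_sup_left ⟨_, rfl⟩) (Submodule.mem_sup_right ?_)
    rcases le_or_gt c₂ n with h | h
    · have h' : l ∈ (I ^ n • ⊤ : Submodule A L) ⊓ LinearMap.ker β := ⟨hl, hlk⟩
      rw [h₂ n h] at h'
      have h'' := Submodule.smul_mem_smul ha (Submodule.smul_mono le_rfl inf_le_right h')
      rw [← Submodule.mul_smul, ← pow_add] at h''
      exact Submodule.smul_mono_left (Ideal.pow_le_pow_right (by omega)) h''
    · exact Submodule.smul_mono_left (Ideal.pow_le_pow_right (by omega)) (Submodule.smul_mem_smul ha hlk)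
  · have h' : β (a • y) ∈ (I ^ (n + c) • ⊤ : Submodule A M) := by
      rw [map_smul, add_comm, pow_add, Submodule.mul_smul]; exact Submodule.smul_mem_smul ha hy
    obtain ⟨z, h, h''⟩ := one (a • y) h'; exact ⟨z, h, Submodule.mem_sup_right h''⟩

end Groth.Agent.S7153
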