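import Groth.Statements.S7154
import Groth.Agent.Lib.EppASH7.Assembly
import Groth.Agent.Lib.EtRamH7.InsepPrime

set_option autoImplicit false
universe u
open EtAlg

open IsLocalRing Groth.Agent Groth.Agent.EppASH7

set_option linter.style.haveILetI false

namespace Groth.Agent.S7154

/-- Let A → B → C be injective local homomorphisms of discrete valuation rings whose fields of fractions
are K ⊆ L ⊆ M, where A and B are complete, A → B is weakly unramified, M/L is finite, and the
residue field k of A is an algebraically closed field of characteristic p > 0 which, inside the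
residue field κ_B of B, is exactly the set of elements admitting a pⁿ-th root for every n. Then some
finite extension K₁/K is a weak solution for A → C. -/
theorem result (p : ℕ) (hp : p.Prime) (A B C K L M : Type u)
    [CommRing A] [IsDomain A] [IsDiscreteValuationRing A] [CommRing B] [IsDomain B] [IsDiscreteValuationRing B]
    [CommRing C] [IsDomain C] [IsDiscreteValuationRing C]
    [Algebra A B] [Algebra B C] [Algebra A C] [IsScalarTower A B C]
    (hAB : Function.Injective (algebraMap A B)) (hBC : Function.Injective (algebraMap B C))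
    [IsLocalHom (algebraMap A B)] [IsLocalHom (algebraMap B C)]
    [Field K] [Field L] [Field M] [Algebra A K] [IsFractionRing A K] [Algebra B L] [IsFractionRing B L]
    [Algebra C M] [IsFractionRing C M] [Algebra K L] [Algebra L M] [Algebra K M] [IsScalarTower K L M]
    [Algebra A L] [IsScalarTower A K L] [IsScalarTower A B L] [Algebra B M] [IsScalarTower B L M] [IsScalarTower B C M]
    [Algebra A M] [IsScalarTower A K M] [IsScalarTower A C M]
    [IsAlgClosed (IsLocalRing.ResidueField A)] [CharP (IsLocalRing.ResidueField A) p]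
    [IsAdicComplete (IsLocalRing.maximalIdeal A) A] [IsAdicComplete (IsLocalRing.maximalIdeal B) B]
    (hw : EtRam.IsWeaklyUnramified A B) [FiniteDimensional L M]
    (hk : ∀ x : IsLocalRing.ResidueField B, (∀ n : ℕ, ∃ y : IsLocalRing.ResidueField B, y ^ (p ^ n) = x) ↔
      x ∈ Set.range (algebraMap (IsLocalRing.ResidueField A) (IsLocalRing.ResidueField B))) :
    ∃ (K₁ : Type u) (_ : Field K₁) (_ : Algebra K K₁), FiniteDimensional K K₁ ∧ EtRam.IsWeakSolution C K M K₁ := by
  classical
  let Ω := AlgebraicClosure M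
  haveI : Algebra.IsAlgebraic L Ω := Algebra.IsAlgebraic.trans L M Ω
  haveI : IsScalarTower K L Ω := IsScalarTower.of_algebraMap_eq fun k => by
    rw [IsScalarTower.algebraMap_apply K M Ω, IsScalarTower.algebraMap_apply L M Ω,
      ← IsScalarTower.algebraMap_apply K L M]
  haveI : IsScalarTower B L Ω := IsScalarTower.of_algebraMap_eq fun b => by
    rw [IsScalarTower.algebraMap_apply B M Ω, IsScalarTower.algebraMap_apply L M Ω,
      ← IsScalarTower.algebraMap_apply B L M]
  haveI : IsScalarTower A K Ω := IsScalarTower.of_algebraMap_eq fun a => by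
    rw [IsScalarTower.algebraMap_apply A M Ω, IsScalarTower.algebraMap_apply K M Ω,
      ← IsScalarTower.algebraMap_apply A K M]
  haveI : IsScalarTower A B Ω := IsScalarTower.of_algebraMap_eq fun a => by
    rw [IsScalarTower.algebraMap_apply A M Ω, IsScalarTower.algebraMap_apply B M Ω,
      IsScalarTower.algebraMap_apply B L M, ← IsScalarTower.algebraMap_apply A B L,
      IsScalarTower.algebraMap_apply A K L, ← IsScalarTower.algebraMap_apply K L M,
      ← IsScalarTower.algebraMap_apply A K M]
  obtain ⟨W, hWC⟩ := EtRamH7.exists_comap_eq (algebraMap M Ω) (EtRamH7.rangeSubring C M)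
  have hdomC : EtRam.Dominates B (algebraMap B M) (EtRamH7.rangeSubring C M) :=
    IsScalarTower.algebraMap_eq B C M ▸ EtRamH7.dominates_rangeSubring B C M
  have hdomW : EtRam.Dominates B (algebraMap B Ω) W := by
    rw [IsScalarTower.algebraMap_eq B M Ω]
    exact EtRamH7.dominates_trans hdomC (algebraMap M Ω) (hWC ▸ EtRamH7.dominates_self_comap (algebraMap M Ω) W)
  have S : Setting p A B K L Ω W :=
    ⟨hp, hdomW, inferInstance, inferInstance, inferInstance, fun x hx => (hk x).1 hx⟩
  let b := Module.finBasis L M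
  obtain ⟨K₂, F₂, h, hn, hs⟩ := S.reach_finset hw (Finset.univ.image fun i => algebraMap M Ω (b i))
  haveI := h.finK
  haveI := hn
  have hM : ∀ m : M, algebraMap M Ω m ∈ F₂ := fun m => by
    rw [← b.sum_repr m, map_sum]
    refine sum_mem fun i _ => ?_
    rw [Algebra.smul_def, map_mul, ← IsScalarTower.algebraMap_apply]
    exact F₂.mul_mem (F₂.algebraMap_mem _) (hs _ (Finset.mem_image_of_mem _ (Finset.mem_univ i)))
  refine ⟨K₂, inferInstance, inferInstance, inferInstance, ?_⟩
  intro M' _ _ _ _ _ _ hgen W' hW'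
  haveI : FiniteDimensional M M' := EtRamH7.finite_of_adjoin_eq_top K M K₂ M' hgen
  obtain ⟨σ⟩ : Nonempty (M' →ₐ[M] Ω) := ⟨IsAlgClosed.lift⟩
  let τ : K₂ →ₐ[K] Ω := (σ.restrictScalars K).comp (IsScalarTower.toAlgHom K K₂ M')
  have hτ : ∀ y, y ∈ K₂ ↔ ∃ k, τ k = y := by
    intro y
    exact (iff_of_eq (congrArg (y ∈ ·) (AlgHom.fieldRange_of_normal τ))).symm.trans AlgHom.mem_fieldRange
  have hσF : ∀ x : M', σ x ∈ F₂ := by
    intro x
    have hx : x ∈ Algebra.adjoin M (Set.range (algebraMap K₂ M')) := hgen ▸ Algebra.mem_top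
    induction hx using Algebra.adjoin_induction with
    | mem x hx =>
      obtain ⟨k, rfl⟩ := hx
      exact h.sub ((hτ _).2 ⟨k, rfl⟩)
    | algebraMap m => rw [AlgHom.commutes]; exact hM m
    | add _ _ _ _ ha hb => rw [map_add]; exact F₂.add_mem ha hb
    | mul _ _ _ _ ha hb => rw [map_mul]; exact F₂.mul_mem ha hb
  obtain ⟨W'', hW''⟩ := EtRamH7.exists_comap_eq σ.toRingHom W'
  have hWeq : W'' = W := by
    refine valuationSubring_unique B L Ω W'' W ?_ hdomW
    have hc : σ.toRingHom.comp ((algebraMap M M').comp (algebraMap B M)) = algebraMap B Ω := by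
      refine RingHom.ext fun b => ?_
      show σ (algebraMap M M' (algebraMap B M b)) = _
      rw [AlgHom.commutes, ← IsScalarTower.algebraMap_apply]
    rw [← hc]
    refine EtRamH7.dominates_trans ?_ σ.toRingHom (hW'' ▸ EtRamH7.dominates_self_comap σ.toRingHom W'')
    refine ⟨fun b => ?_, fun b hb => ?_⟩
    · show algebraMap M M' (algebraMap B M b) ∈ W'
      rw [IsScalarTower.algebraMap_apply B C M]
      exact hW'.1 _
    · show W'.valuation (algebraMap M M' (algebraMap B M b)) < 1
      rw [IsScalarTower.algebraMap_apply B C M]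
      exact hW'.2 _ ((mem_maximalIdeal _).2 fun hu =>
        (mem_maximalIdeal _).1 hb (isUnit_of_map_unit (algebraMap B C) b hu))
  subst hWeq
  let f : K₂ →+* M' := algebraMap K₂ M'
  show (maximalIdeal (W'.comap f)).map (EtRam.inclOfComap W' f) = maximalIdeal W'
  refine le_antisymm (((local_hom_TFAE (EtRam.inclOfComap W' f)).out 0 2 rfl rfl).1
    (EtRam.isLocalHom_inclOfComap W' f)) fun x hx => ?_
  by_cases hx0 : (x : M') = 0
  · rw [show x = 0 from Subtype.ext hx0]; exact zero_mem _
  have hmemW : ∀ m : M', m ∈ W' ↔ W''.valuation (σ m) ≤ 1 := fun m => by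
    rw [ValuationSubring.valuation_le_one_iff, ← hW'']
    rfl
  have hsx0 : σ x ≠ 0 := (_root_.map_ne_zero σ).2 hx0
  obtain ⟨y, hy, hye⟩ := h.vg _ (hσF x) hsx0
  obtain ⟨k, rfl⟩ := (hτ y).1 hy
  have hk0 : W''.valuation (σ (f k)) ≠ 0 := by
    rw [show σ (f k) = τ k from rfl, ← hye]
    exact (_root_.map_ne_zero _).2 hsx0
  have hfk0 : f k ≠ 0 := fun h0 => hk0 (by rw [h0, map_zero, map_zero])
  have hk1 : W''.valuation (σ (f k)) ≤ 1 := by
    rw [show σ (f k) = τ k from rfl, ← hye]
    exact (hmemW _).1 x.2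
  let k' : W'.comap f := ⟨k, (hmemW _).2 hk1⟩
  have hq : (x : M') / f k ∈ W' := by
    rw [hmemW, map_div₀, map_div₀, show σ (f k) = τ k from rfl, ← hye, div_self ((_root_.map_ne_zero _).2 hsx0)]
  have hk' : k' ∈ maximalIdeal (W'.comap f) := by
    rw [mem_maximalIdeal] at hx ⊢
    intro hu
    refine hx ?_
    obtain ⟨v, hv⟩ := (hu.map (EtRam.inclOfComap W' f)).exists_right_inv
    have hv' : f k * (v : M') = 1 := congrArg Subtype.val hv
    have hinv : (x : M')⁻¹ ∈ W' := by
      rw [hmemW, map_inv₀, map_inv₀, hye, show τ k = σ (f k) from rfl, ← map_inv₀, ← map_inv₀,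
        ← eq_inv_of_mul_eq_one_right hv']
      exact (hmemW _).1 v.2
    exact IsUnit.of_mul_eq_one ⟨_, hinv⟩ (Subtype.ext (mul_inv_cancel₀ hx0))
  rw [show x = EtRam.inclOfComap W' f k' * ⟨_, hq⟩ from Subtype.ext (mul_div_cancel₀ _ hfk0).symm]
  exact Ideal.mul_mem_right _ _ (Ideal.mem_map_of_mem _ hk')

end Groth.Agent.S7154
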