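import Groth.Statements.S7155
import Groth.Agent.Lib.EppASH7.Main
import Groth.Agent.Lib.EtRamH7.TrichotomyMain

set_option linter.style.haveILetI false

set_option autoImplicit false
universe u
open EtAlg

open Polynomial Groth.Agent.EppASH7

namespace Groth.Agent.S7155

set_option maxHeartbeats 1000000

/-- Let A → B → C be injective local homomorphisms of discrete valuation rings whose fields of fractions
are K ⊆ L ⊆ M, where A → B is weakly unramified, K has characteristic p, M/L is Galois of degree p,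
and κ_A, inside κ_B, is exactly the set of elements admitting a pⁿ-th root for every n. Then some
finite separable extension K₁/K that is totally ramified with respect to A is a weak solution for A
→ C. (The published statement asks for K₁/K Galois; this row asks only that K₁/K be separable, which
is what the printed construction provides.) -/
theorem result (p : ℕ) (hp : p.Prime) (A B C K L M : Type u)
    [CommRing A] [IsDomain A] [IsDiscreteValuationRing A] [CommRing B] [IsDomain B] [IsDiscreteValuationRing B]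
    [CommRing C] [IsDomain C] [IsDiscreteValuationRing C]
    [Algebra A B] [Algebra B C] [Algebra A C] [IsScalarTower A B C]
    (hAB : Function.Injective (algebraMap A B)) (hBC : Function.Injective (algebraMap B C))
    [IsLocalHom (algebraMap A B)] [IsLocalHom (algebraMap B C)]
    [Field K] [Field L] [Field M] [Algebra A K] [IsFractionRing A K] [Algebra B L] [IsFractionRing B L]
    [Algebra C M] [IsFractionRing C M] [Algebra K L] [Algebra L M] [Algebra K M] [IsScalarTower K L M]
    [Algebra A L] [IsScalarTower A K L] [IsScalarTower A B L] [Algebra B M] [IsScalarTower B L M] [IsScalarTower B C M]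
    [Algebra A M] [IsScalarTower A K M] [IsScalarTower A C M]
    (hw : EtRam.IsWeaklyUnramified A B) [CharP K p] [IsGalois L M] (hdeg : Module.finrank L M = p)
    (hk : ∀ x : IsLocalRing.ResidueField B, (∀ n : ℕ, ∃ y : IsLocalRing.ResidueField B, y ^ (p ^ n) = x) ↔
      x ∈ Set.range (algebraMap (IsLocalRing.ResidueField A) (IsLocalRing.ResidueField B))) :
    ∃ (K₁ : Type u) (_ : Field K₁) (_ : Algebra K K₁), FiniteDimensional K K₁ ∧ Algebra.IsSeparable K K₁ ∧
      EtRam.IsTotallyRamified A ((algebraMap K K₁).comp (algebraMap A K)) ∧ EtRam.IsWeakSolution C K M K₁ := by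
  classical
  haveI : Fact p.Prime := ⟨hp⟩
  haveI : CharP L p := charP_of_injective_algebraMap (algebraMap K L).injective p
  haveI : CharP A p := (RingHom.charP_iff (algebraMap A K) (IsFractionRing.injective A K) p).2 inferInstance
  haveI : CharP B p := (RingHom.charP_iff (algebraMap B L) (IsFractionRing.injective B L) p).2 inferInstance
  haveI : CharP (IsLocalRing.ResidueField B) p := (CharP.charP_iff_prime_eq_zero hp).2 (by
    rw [← map_natCast (IsLocalRing.residue B), CharP.cast_eq_zero, map_zero])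
  haveI : FiniteDimensional L M := Module.finite_of_finrank_pos (by rw [hdeg]; exact hp.pos)
  obtain ⟨z, ⟨ξ, hzξ⟩, hgenz⟩ := Groth.Agent.S6332.result p hdeg
  obtain ⟨π, hπ⟩ := IsDiscreteValuationRing.exists_irreducible A
  set πB := algebraMap A B π with hπBdef
  have hπBmax : IsLocalRing.maximalIdeal B = Ideal.span {πB} := by
    rw [← hw, hπ.maximalIdeal_eq, Ideal.map_span, Set.image_singleton]
  have hπB : Irreducible πB := (IsDiscreteValuationRing.irreducible_iff_uniformizer πB).2 hπBmax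
  obtain ⟨n, b, hb⟩ := Groth.Agent.EtRamH7.exists_pole B L πB hπB ξ
  obtain ⟨M₀, Pa, Q, ⟨N₀, hRel⟩, hPa, hQ, -, -⟩ :=
    normal_form p πB (n + 1) (S := (algebraMap A B).range)
      (Stable := fun c => ∀ r : B, IsLocalRing.residue B c ≠ IsLocalRing.residue B r ^ p)
      (fun c hc => coeff_step A B hk πB hπBmax c hc) n n.le_succ _ 0 (monomial n b)
      ((natDegree_monomial_le b).trans (by rw [pow_zero, mul_one])) le_rfl
  obtain ⟨Pa₀, hPa₀⟩ : ∃ P₀ : A[X], P₀.map (algebraMap A B) = Pa := by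
    rw [← Polynomial.mem_lifts, Polynomial.lifts_iff_coeff_lifts]
    exact fun i => hPa i
  set N := max N₀ M₀ + 1 with hN
  have hMN : M₀ ≤ N := by omega
  set q := p ^ N with hq
  have hq2 : 2 ≤ q := le_trans hp.two_le (le_self_pow₀ hp.one_le (by omega))
  -- the extension `K₁ = K(x)`
  let Ω := AlgebraicClosure K
  haveI : IsScalarTower A K Ω := inferInstance
  set f : K[X] := X ^ q - (Polynomial.C (algebraMap A K π * algebraMap A K π ^ (n + 1)) * X + Polynomial.C (algebraMap A K π)) with hf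
  have hlin : (Polynomial.C (algebraMap A K π * algebraMap A K π ^ (n + 1)) * X + Polynomial.C (algebraMap A K π)).degree < (q : WithBot ℕ) :=
    degree_linear_le.trans_lt (by exact_mod_cast (show 1 < q by omega))
  have hfm : f.Monic := monic_X_pow_sub hlin
  have hfdeg : f.natDegree = q := by
    apply natDegree_eq_of_degree_eq_some
    rw [hf, degree_sub_eq_left_of_degree_lt (by rwa [degree_X_pow]), degree_X_pow]
  obtain ⟨x₀, hx₀⟩ := IsAlgClosed.exists_root (f.map (algebraMap K Ω)) (by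
    rw [degree_map, degree_eq_natDegree hfm.ne_zero, hfdeg]; exact_mod_cast (by omega : q ≠ 0))
  have hx₀a : aeval x₀ f = 0 := by rw [aeval_def, ← eval_map]; exact hx₀
  have hπK : algebraMap A K π ≠ 0 := fun h => hπ.ne_zero (IsFractionRing.injective A K (by rw [h, map_zero]))
  have hfsep : f.Separable := by
    have hd : derivative f = Polynomial.C (-(algebraMap A K π * algebraMap A K π ^ (n + 1))) := by
      rw [hf, derivative_sub, derivative_X_pow, derivative_add, derivative_C_mul, derivative_X, derivative_C,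
        mul_one, add_zero, (CharP.cast_eq_zero_iff K p q).2 (dvd_pow_self p (by omega)), map_zero, zero_mul,
        zero_sub, map_neg]
    rw [separable_def, hd]
    exact isCoprime_comm.1 (IsCoprime.of_isCoprime_of_dvd_left isCoprime_one_left
      ((isUnit_C.2 (neg_ne_zero.2 (mul_ne_zero hπK (pow_ne_zero _ hπK))).isUnit).dvd))
  have hx₀int : IsIntegral K x₀ := ⟨f, hfm, hx₀a⟩
  let K₁ : IntermediateField K Ω := IntermediateField.adjoin K {x₀}
  haveI : FiniteDimensional K K₁ := IntermediateField.adjoin.finiteDimensional hx₀int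
  haveI : Algebra.IsSeparable K K₁ :=
    (IntermediateField.isSeparable_adjoin_simple_iff_isSeparable _ _).2 (hfsep.of_dvd (minpoly.dvd K x₀ hx₀a))
  have hdim₁ : Module.finrank K K₁ ≤ q := by
    rw [IntermediateField.adjoin.finrank hx₀int, ← hfdeg]
    exact natDegree_le_natDegree (minpoly.min K x₀ hfm hx₀a)
  haveI : IsScalarTower A K K₁ := inferInstance
  let x : K₁ := ⟨x₀, IntermediateField.mem_adjoin_simple_self K x₀⟩
  have hx : x ^ q = algebraMap A K₁ π * (1 + algebraMap A K₁ (π ^ (n + 1)) * x) := by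
    apply Subtype.ext
    show x₀ ^ q = algebraMap A Ω π * (1 + algebraMap A Ω (π ^ (n + 1)) * x₀)
    have h := hx₀a
    simp only [hf, map_sub, map_add, map_mul, map_pow, aeval_X, aeval_C] at h
    rw [map_pow, IsScalarTower.algebraMap_apply A K Ω]
    linear_combination h
  obtain ⟨hfin₁, htot₁, hmax₁⟩ := Groth.Agent.EtRamH7.eis_facts A K K₁ hq2 π hπ (π ^ (n + 1))
    (dvd_pow_self _ (by omega)) x hx hdim₁
  obtain ⟨V₁, hV₁⟩ := htot₁.1
  haveI := Groth.Agent.EtRamH7.dvr_of_dominates A K K₁ (algebraMap A K₁) (IsScalarTower.algebraMap_eq A K K₁) V₁ hV₁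
  obtain ⟨hxV₁, hV₁max⟩ := hmax₁ V₁ hV₁
  have hxirr : Irreducible (⟨x, hxV₁⟩ : V₁) := (IsDiscreteValuationRing.irreducible_iff_uniformizer _).2 hV₁max
  have hperf : ∀ v : V₁, ∃ r : V₁, IsLocalRing.residue V₁ v = IsLocalRing.residue V₁ r ^ p := by
    refine residue_comp_surjective _ V₁ hV₁.1 (htot₁.2.2 V₁ hV₁) fun a => ?_
    haveI : IsLocalHom (RingHom.codRestrict (algebraMap A K₁) V₁ hV₁.1) := Groth.Agent.EtRamH7.isLocalHom_cod hV₁
    obtain ⟨r, hr⟩ := perfect_of_hk hp A B hk a
    refine ⟨r, ?_⟩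
    have := congrArg (IsLocalRing.ResidueField.map (RingHom.codRestrict (algebraMap A K₁) V₁ hV₁.1)) hr
    rwa [map_pow] at this
  haveI : CharP K₁ p := charP_of_injective_algebraMap (algebraMap K K₁).injective p
  set α : K₁ := Pa₀.eval₂ (algebraMap A K₁) (x⁻¹ ^ (p ^ (N - M₀))) with hα
  obtain ⟨h₁, hh₁⟩ := reduce_pole hp V₁ K₁ _ hxirr hperf α
  -- the common part of the verification
  have common : ∀ (K₂ : Type u) [Field K₂] [Algebra K K₂] (ι₁ : K₁ →ₐ[K] K₂) (y : K₂)
      (E : Type u) [Field E] [Algebra L E] [Algebra K₂ E] [Algebra K E] [IsScalarTower K L E] [IsScalarTower K K₂ E]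
      (V : ValuationSubring E)
      (hV : EtRam.Dominates B ((algebraMap L E).comp (algebraMap B L)) V)
      (_ : Function.Surjective fun b : B => IsLocalRing.residue V (RingHom.codRestrict _ V hV.1 b))
      (xE w : E), xE = algebraMap K₂ E (ι₁ x) → xE ∈ V → V.valuation xE < 1 → ∀ k : ℕ, 0 < k →
      xE = algebraMap K₂ E y ^ k * w → w ∈ V → w⁻¹ ∈ V →
      (∃ h₂ : E, algebraMap K₂ E (ι₁ (α - (h₁ ^ p - h₁))) - (h₂ ^ p - h₂) ∈ V) →
      ∃ h : E, (algebraMap L E ξ - (h ^ p - h)) ∈ V ∨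
          ∃ (e : ℕ) (a : V), 0 < e ∧ p ∣ e ∧ (a : E) = (algebraMap L E ξ - (h ^ p - h)) * algebraMap K₂ E y ^ e ∧
            ∀ r : V, IsLocalRing.residue V a ≠ IsLocalRing.residue V r ^ p := by
    intro K₂ _ _ ι₁ y E _ _ _ _ _ _ V hV hsurj xE w hxE hxEV hxEm k hk0 hxy hwV hwV' hα'
    haveI : CharP E p := charP_of_injective_algebraMap (algebraMap L E).injective p
    let ι : B →+* E := (algebraMap L E).comp (algebraMap B L)
    have hιA : ι.comp (algebraMap A B) = (algebraMap K₂ E).comp (ι₁.toRingHom.comp (algebraMap A K₁)) := by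
      refine RingHom.ext fun a => ?_
      show algebraMap L E (algebraMap B L (algebraMap A B a)) = algebraMap K₂ E (ι₁ (algebraMap A K₁ a))
      rw [← IsScalarTower.algebraMap_apply A B L, IsScalarTower.algebraMap_apply A K L,
        IsScalarTower.algebraMap_apply A K K₁, ι₁.commutes, ← IsScalarTower.algebraMap_apply K K₂ E,
        ← IsScalarTower.algebraMap_apply K L E]
    have hx0 : x ≠ 0 := fun h => by
      have := hxirr.ne_zero
      exact this (Subtype.ext h)
    have hxE0 : xE ≠ 0 := by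
      rw [hxE]; exact (_root_.map_ne_zero _).2 ((_root_.map_ne_zero _).2 hx0)
    have hreal : Realizes p πB (n + 1) N ι xE V := by
      refine ⟨hV.1, hxEV, hxEm, hxE0, ?_⟩
      have h := congrArg ((algebraMap K₂ E).comp ι₁.toRingHom) hx
      simp only [map_mul, map_add, map_pow, map_one] at h
      have hπι : ι πB = algebraMap K₂ E (ι₁ (algebraMap A K₁ π)) := DFunLike.congr_fun hιA π
      rw [hπι, hxE]
      exact h
    obtain ⟨h₀, hh₀⟩ := hRel N (by omega) (Nat.zero_le _) hMN E ι xE V hreal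
    obtain ⟨h₂, hh₂⟩ := hα'
    have hev : Pa.eval₂ ι (xE⁻¹ ^ (p ^ (N - M₀))) = algebraMap K₂ E (ι₁ α) := by
      rw [← hPa₀, eval₂_map, hιA, hα, hxE]
      show _ = ((algebraMap K₂ E).comp ι₁.toRingHom) _
      rw [hom_eval₂, map_pow, map_inv₀]
      rfl
    have hdiff : algebraMap L E ξ - ev p N 0 ι xE (monomial n b) ∈ V := by
      have hπ0 : ι πB ≠ 0 := (_root_.map_ne_zero (algebraMap L E)).2 fun h => hπB.ne_zero (IsFractionRing.injective B L (by rw [h, map_zero]))
      obtain ⟨-, hne⟩ := hreal.inv_mem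
      have hbξ : algebraMap L E ξ * ι πB ^ n = ι b := by
        show algebraMap L E ξ * algebraMap L E (algebraMap B L πB) ^ n = algebraMap L E (algebraMap B L b)
        rw [hb, map_mul, map_pow]
      let X' : V := ⟨xE, hxEV⟩
      let P' : V := ⟨ι πB, hV.1 πB⟩
      obtain ⟨c, hc⟩ := sub_one_dvd_pow_sub_one (1 + P' ^ (n + 1) * X') n
      have hcE : (1 + ι πB ^ (n + 1) * xE) ^ n - 1 = ι πB ^ (n + 1) * xE * (c : E) := by
        have := congrArg Subtype.val hc
        rw [add_sub_cancel_left] at this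
        exact this
      have heq : algebraMap L E ξ - ev p N 0 ι xE (monomial n b) =
          ι b * (c : E) * xE * (ι πB ^ (n + 1) * xE⁻¹ ^ (p ^ N * n)) := by
        have hinv : xE⁻¹ ^ (p ^ N * n) * (xE ^ p ^ N) ^ n = 1 := by
          rw [← pow_mul, ← mul_pow, inv_mul_cancel₀ hxE0, one_pow]
        rw [hreal.eq, mul_pow] at hinv
        refine mul_right_cancel₀ (pow_ne_zero n hπ0) ?_
        show (_ - (monomial n b).eval₂ ι (xE⁻¹ ^ p ^ (N - 0))) * _ = _
        rw [eval₂_monomial, Nat.sub_zero, ← pow_mul, sub_mul, hbξ]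
        linear_combination (-(ι b)) * hinv + (ι b * xE⁻¹ ^ (p ^ N * n) * ι πB ^ n) * hcE
      rw [heq]
      exact mul_mem (mul_mem (mul_mem (hV.1 b) c.2) hxEV)
        (hreal.pow_mem (le_of_le_of_eq (Nat.mul_le_mul_left _ n.le_succ) (mul_comm _ _)))
    refine ⟨h₀ + (algebraMap K₂ E (ι₁ h₁) + h₂), ?_⟩
    refine case_of_top hp ι V hV hsurj xE (algebraMap K₂ E y) w hxEV hxEm hxE0 k hk0 hxy hwV hwV'
      (p ^ (N - M₀)) (pow_pos hp.pos _) (dvd_pow_self p (by omega)) Q hQ _ ?_
    have hsum : algebraMap L E ξ - ((h₀ + (algebraMap K₂ E (ι₁ h₁) + h₂)) ^ p - (h₀ + (algebraMap K₂ E (ι₁ h₁) + h₂))) -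
        Q.eval₂ ι (xE⁻¹ ^ (p ^ (N - M₀))) = (algebraMap L E ξ - ev p N 0 ι xE (monomial n b)) +
        (ev p N 0 ι xE (monomial n b) - ev p N M₀ ι xE (Pa + Q) - (h₀ ^ p - h₀)) +
        (algebraMap K₂ E (ι₁ (α - (h₁ ^ p - h₁))) - (h₂ ^ p - h₂)) := by
      have hPQ : ev p N M₀ ι xE (Pa + Q) = algebraMap K₂ E (ι₁ α) + Q.eval₂ ι (xE⁻¹ ^ (p ^ (N - M₀))) := by
        show (Pa + Q).eval₂ ι _ = _
        rw [eval₂_add, hev]
      rw [hPQ, add_pow_char, add_pow_char]
      simp only [map_sub, map_pow]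
      ring
    rw [hsum]
    exact add_mem (add_mem hdiff hh₀) hh₂
  have hxeq : ∀ (E : Type u) [Field E] [Algebra L E] [Algebra K E] [IsScalarTower K L E] (jE : K₁ →ₐ[K] E)
      (gB : B →+* E), gB = (algebraMap L E).comp (algebraMap B L) →
      jE x ^ q = gB πB * (1 + gB (πB ^ (n + 1)) * jE x) := by
    intro E _ _ _ _ jE gB hgB
    have hA : ∀ a, jE (algebraMap A K₁ a) = gB (algebraMap A B a) := fun a => by
      subst hgB
      show _ = algebraMap L E (algebraMap B L (algebraMap A B a))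
      rw [← IsScalarTower.algebraMap_apply A B L, IsScalarTower.algebraMap_apply A K L,
        IsScalarTower.algebraMap_apply A K K₁, jE.commutes, ← IsScalarTower.algebraMap_apply K L E]
    rw [← map_pow, hx, map_mul, map_add, map_one, map_mul, hA, hA, map_pow (algebraMap A B)]
  have hsol : ∀ (K₂ : Type u) [Field K₂] [Algebra K K₂] [FiniteDimensional K K₂] (y : K₂),
      (∀ (E : Type u) [Field E] [Algebra L E] [Algebra K₂ E] [Algebra K E] [IsScalarTower K L E]
      [IsScalarTower K K₂ E], Algebra.adjoin L (Set.range (algebraMap K₂ E)) = ⊤ →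
      ∀ V : ValuationSubring E, EtRam.Dominates B ((algebraMap L E).comp (algebraMap B L)) V →
      ∃ hyV : algebraMap K₂ E y ∈ V, IsLocalRing.maximalIdeal V = Ideal.span {(⟨_, hyV⟩ : V)} ∧
        ∃ h : E, (algebraMap L E ξ - (h ^ p - h)) ∈ V ∨
          ∃ (e : ℕ) (a : V), 0 < e ∧ p ∣ e ∧ (a : E) = (algebraMap L E ξ - (h ^ p - h)) * algebraMap K₂ E y ^ e ∧
            ∀ r : V, IsLocalRing.residue V a ≠ IsLocalRing.residue V r ^ p) → EtRam.IsWeakSolution C K M K₂ :=
    fun K₂ _ _ _ y H => weakSolution_of_reduced hp ξ z hzξ.symm hgenz K₂ y H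
  rcases hh₁ with ⟨a₁, ha₁⟩ | ⟨n₁, a₁, hn₁, hpn₁, ha₁⟩
  · -- no further extension
    refine ⟨K₁, inferInstance, inferInstance, inferInstance, inferInstance,
      (IsScalarTower.algebraMap_eq A K K₁) ▸ htot₁, hsol K₁ x fun E _ _ _ _ _ _ hgen V hV => ?_⟩
    letI : Algebra B E := ((algebraMap L E).comp (algebraMap B L)).toAlgebra
    haveI : IsScalarTower B L E := IsScalarTower.of_algebraMap_eq fun _ => rfl
    obtain ⟨hfd, hdim⟩ := Groth.Agent.EtRamH7.finite_compositum hgen hfin₁
    haveI := hfd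
    obtain ⟨-, htotE, hmaxE⟩ := Groth.Agent.EtRamH7.eis_facts B L E hq2 πB hπB (πB ^ (n + 1))
      (dvd_pow_self _ (by omega)) _ (hxeq E (IsScalarTower.toAlgHom K K₁ E) _ rfl) hdim
    obtain ⟨hxV, hVmax⟩ := hmaxE V hV
    refine ⟨hxV, hVmax, common K₁ (AlgHom.id K K₁) x E V hV (htotE.2.2 V hV) _ 1 rfl hxV ?_ 1 one_pos
      (by rw [pow_one, mul_one]; rfl) V.one_mem (by rw [inv_one]; exact V.one_mem)
      ⟨0, ?_⟩⟩
    · exact (V.valuation_lt_one_iff ⟨_, hxV⟩).1 (hVmax ▸ Ideal.mem_span_singleton_self _)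
    · rw [zero_pow hp.ne_zero, sub_zero, sub_zero]
      show algebraMap K₁ E _ ∈ V
      rw [← ha₁]
      have h1 : V.comap (algebraMap K₁ E) = V₁ := by
        refine htot₁.2.1 _ _ (Groth.Agent.EtRamH7.dominates_comap (algebraMap K₁ E) ?_) hV₁
        have hc : (algebraMap K₁ E).comp (algebraMap A K₁) = ((algebraMap L E).comp (algebraMap B L)).comp (algebraMap A B) := by
          refine RingHom.ext fun a => ?_
          show algebraMap K₁ E (algebraMap A K₁ a) = algebraMap L E (algebraMap B L (algebraMap A B a))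
          rw [IsScalarTower.algebraMap_apply A K K₁, ← IsScalarTower.algebraMap_apply K K₁ E,
            ← IsScalarTower.algebraMap_apply A B L, IsScalarTower.algebraMap_apply A K L,
            ← IsScalarTower.algebraMap_apply K L E]
        rw [hc]
        exact ⟨fun a => hV.1 _, fun a ha => hV.2 _ (((IsLocalRing.local_hom_TFAE (algebraMap A B)).out 0 2 rfl rfl).1
          inferInstance (Ideal.mem_map_of_mem _ ha))⟩
      exact (h1.symm ▸ a₁.2 : (a₁ : K₁) ∈ V.comap (algebraMap K₁ E))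
  · -- the extension `K₂ = K₁(z₂)`
    set α' := α - (h₁ ^ p - h₁) with hα'
    obtain ⟨z₀, hz₀⟩ := IsAlgClosed.exists_root ((X ^ p - X - Polynomial.C (algebraMap K₁ Ω α') : Polynomial Ω)) (by
      rw [sub_sub, degree_sub_eq_left_of_degree_lt] <;> rw [degree_X_pow]
      · exact_mod_cast hp.ne_zero
      · exact (degree_X_add_C (algebraMap K₁ Ω α')).trans_lt (by exact_mod_cast hp.one_lt))
    have hz₀' : z₀ ^ p - z₀ = algebraMap K₁ Ω α' := by
      simp only [IsRoot.def, eval_sub, eval_pow, eval_X, eval_C] at hz₀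
      linear_combination hz₀
    set f₂ : K₁[X] := X ^ p - X - Polynomial.C α' with hf₂
    have hf₂a : aeval z₀ f₂ = 0 := by
      rw [hf₂, map_sub, map_sub, map_pow, aeval_X, aeval_C, hz₀', sub_self]
    have hf₂m : f₂.Monic := by
      rw [hf₂, sub_sub]
      exact monic_X_pow_sub ((degree_X_add_C α').trans_lt (by exact_mod_cast hp.one_lt))
    have hf₂sep : f₂.Separable := by
      rw [separable_def, show derivative f₂ = -1 by
        rw [hf₂, derivative_sub, derivative_sub, derivative_X_pow, derivative_X, derivative_C, sub_zero,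
          CharP.cast_eq_zero, map_zero, zero_mul, zero_sub]]
      exact isCoprime_one_right.neg_right
    have hz₀int : IsIntegral K₁ z₀ := ⟨f₂, hf₂m, hf₂a⟩
    let K₂ : IntermediateField K₁ Ω := IntermediateField.adjoin K₁ {z₀}
    haveI : FiniteDimensional K₁ K₂ := IntermediateField.adjoin.finiteDimensional hz₀int
    haveI : Algebra.IsSeparable K₁ K₂ :=
      (IntermediateField.isSeparable_adjoin_simple_iff_isSeparable _ _).2 (hf₂sep.of_dvd (minpoly.dvd K₁ z₀ hf₂a))
    haveI : FiniteDimensional K K₂ := FiniteDimensional.trans K K₁ K₂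
    haveI : Algebra.IsSeparable K K₂ := Algebra.IsSeparable.trans K K₁ K₂
    let z₂ : K₂ := ⟨z₀, IntermediateField.mem_adjoin_simple_self K₁ z₀⟩
    have hz₂ : z₂ ^ p - z₂ = algebraMap K₁ K₂ α' := Subtype.ext hz₀'
    have hgen₂ : IntermediateField.adjoin K₁ {z₂} = ⊤ := by
      refine IntermediateField.map_injective K₂.val ?_
      rw [IntermediateField.adjoin_map, ← AlgHom.fieldRange_eq_map, IntermediateField.fieldRange_val,
        Set.image_singleton]
      rfl
    obtain ⟨-, -, hrk⟩ := Groth.Agent.EtRamH7.as_galois hp K₁ K₂ α' z₂ hz₂ hgen₂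
    have hd₂ : Module.finrank K₁ K₂ ≤ p := by rcases hrk with h | h <;> rw [h]; exact hp.pos
    letI : Algebra V₁ K₂ := ((algebraMap K₁ K₂).comp (algebraMap V₁ K₁)).toAlgebra
    haveI : IsScalarTower V₁ K₁ K₂ := IsScalarTower.of_algebraMap_eq fun _ => rfl
    obtain ⟨s, hs⟩ := Nat.exists_mul_mod_eq_one_of_coprime
      ((hp.coprime_iff_not_dvd.2 hpn₁).symm) hp.one_lt
    obtain ⟨t, ht⟩ : ∃ t, n₁ * s = p * t + 1 := ⟨n₁ * s / p, by
      conv_lhs => rw [← Nat.div_add_mod (n₁ * s) p, hs.2]⟩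
    have hpole : algebraMap V₁ K₂ ⟨x, hxV₁⟩ ^ n₁ * (z₂ ^ p - z₂) = algebraMap V₁ K₂ a₁ := by
      rw [hz₂]
      show algebraMap K₁ K₂ x ^ n₁ * _ = algebraMap K₁ K₂ ((a₁ : V₁) : K₁)
      rw [show ((a₁ : V₁) : K₁) = α' * x ^ n₁ from ha₁, map_mul, map_pow, mul_comm]
    obtain ⟨-, htot₂, -⟩ := pole_coprime V₁ K₁ K₂ hp hd₂ _ hxirr n₁ hn₁ a₁ z₂ hpole s t ht
    have htot : EtRam.IsTotallyRamified A ((algebraMap K K₂).comp (algebraMap A K)) := by
      rw [show (algebraMap K K₂).comp (algebraMap A K) = (algebraMap K₁ K₂).comp (algebraMap A K₁) by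
        rw [IsScalarTower.algebraMap_eq A K K₁, ← RingHom.comp_assoc, ← IsScalarTower.algebraMap_eq K K₁ K₂]]
      exact totallyRamified_trans (algebraMap A K₁) (algebraMap K₁ K₂) htot₁ V₁ hV₁ htot₂
    let y : K₂ := (z₂ ^ s)⁻¹ / algebraMap K₁ K₂ x ^ t
    refine ⟨K₂, inferInstance, inferInstance, inferInstance, inferInstance, htot,
      hsol K₂ y fun E _ _ _ _ _ _ hgen V hV => ?_⟩
    letI : Algebra B E := ((algebraMap L E).comp (algebraMap B L)).toAlgebra
    haveI : IsScalarTower B L E := IsScalarTower.of_algebraMap_eq fun _ => rfl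
    haveI : FiniteDimensional L E := Groth.Agent.EtRamH7.finite_of_adjoin_eq_top K L K₂ E hgen
    let jE : K₁ →ₐ[K] E := (IsScalarTower.toAlgHom K K₂ E).comp (IsScalarTower.toAlgHom K K₁ K₂)
    letI : Algebra K₁ E := jE.toRingHom.toAlgebra
    haveI : IsScalarTower K K₁ E := IsScalarTower.of_algebraMap_eq fun k => (jE.commutes k).symm
    let L₁ : IntermediateField L E := IntermediateField.adjoin L (Set.range jE)
    let g₁ : K₁ →+* L₁ := jE.toRingHom.codRestrict L₁ fun r => IntermediateField.subset_adjoin L _ ⟨r, rfl⟩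
    letI : Algebra K₁ L₁ := g₁.toAlgebra
    haveI : IsScalarTower K K₁ L₁ := IsScalarTower.of_algebraMap_eq fun k => Subtype.ext (jE.commutes k).symm
    have htop₁ : Algebra.adjoin L (Set.range (algebraMap K₁ L₁)) = ⊤ :=
      Groth.Agent.EtRamH7.adjoin_range_codRestrict_eq_top (jE : K₁ → E) L₁ rfl
        (fun r => IsIntegral.of_finite L (jE r)) g₁ (fun _ => rfl)
    haveI : IsScalarTower B L₁ E := IsScalarTower.of_algebraMap_eq fun _ => rfl
    obtain ⟨hfd₁, hdimL₁⟩ := Groth.Agent.EtRamH7.finite_compositum htop₁ hfin₁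
    haveI := hfd₁
    obtain ⟨-, htotL₁, hmaxL₁⟩ := Groth.Agent.EtRamH7.eis_facts B L L₁ hq2 πB hπB (πB ^ (n + 1))
      (dvd_pow_self _ (by omega)) _ (hxeq L₁ (IsScalarTower.toAlgHom K K₁ L₁) (algebraMap B L₁)
        (IsScalarTower.algebraMap_eq B L L₁)) hdimL₁
    let W₁ : ValuationSubring L₁ := V.comap (algebraMap L₁ E)
    have hW₁ : EtRam.Dominates B (algebraMap B L₁) W₁ :=
      Groth.Agent.EtRamH7.dominates_comap (algebraMap L₁ E) hV
    haveI := Groth.Agent.EtRamH7.dvr_of_dominates B L L₁ (algebraMap B L₁) (IsScalarTower.algebraMap_eq B L L₁) W₁ hW₁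
    obtain ⟨hxW₁, hW₁max⟩ := hmaxL₁ W₁ hW₁
    have hx₁irr : Irreducible (⟨_, hxW₁⟩ : W₁) := (IsDiscreteValuationRing.irreducible_iff_uniformizer _).2 hW₁max
    letI : Algebra W₁ E := ((algebraMap L₁ E).comp (algebraMap W₁ L₁)).toAlgebra
    haveI : IsScalarTower W₁ L₁ E := IsScalarTower.of_algebraMap_eq fun _ => rfl
    haveI : IsScalarTower K₁ K₂ E := IsScalarTower.of_algebraMap_eq (R := K₁) fun r => rfl
    haveI : IsScalarTower K₁ L₁ E := IsScalarTower.of_algebraMap_eq fun r => rfl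
    have htop₂ : Algebra.adjoin L₁ (Set.range (algebraMap K₂ E)) = ⊤ := by
      rw [eq_top_iff]
      intro m hm0; clear hm0
      have hm : m ∈ Algebra.adjoin L (Set.range (algebraMap K₂ E)) := hgen ▸ Algebra.mem_top
      induction hm using Algebra.adjoin_induction with
      | mem x hx => exact Algebra.subset_adjoin hx
      | algebraMap r => rw [IsScalarTower.algebraMap_apply L L₁ E]; exact Subalgebra.algebraMap_mem _ _
      | add _ _ _ _ h h' => exact add_mem h h'
      | mul _ _ _ _ h h' => exact mul_mem h h'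
    haveI : FiniteDimensional L₁ E := Groth.Agent.EtRamH7.finite_of_adjoin_eq_top K₁ L₁ K₂ E htop₂
    have hdE : Module.finrank L₁ E ≤ p :=
      (Groth.Agent.EtRamH7.finite_compositum htop₂ rfl).2.trans hd₂
    have hAW : EtRam.Dominates A ((algebraMap K₁ L₁).comp (algebraMap A K₁)) W₁ := by
      have hc : (algebraMap K₁ L₁).comp (algebraMap A K₁) = (algebraMap B L₁).comp (algebraMap A B) := by
        refine RingHom.ext fun a => ?_
        show algebraMap K₁ L₁ (algebraMap A K₁ a) = algebraMap B L₁ (algebraMap A B a)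
        rw [IsScalarTower.algebraMap_apply B L L₁, ← IsScalarTower.algebraMap_apply A B L,
          IsScalarTower.algebraMap_apply A K L, IsScalarTower.algebraMap_apply A K K₁,
          ← IsScalarTower.algebraMap_apply K L L₁, ← IsScalarTower.algebraMap_apply K K₁ L₁]
      rw [hc]
      exact ⟨fun a => hW₁.1 _, fun a ha => hW₁.2 _ (((IsLocalRing.local_hom_TFAE (algebraMap A B)).out 0 2 rfl rfl).1
        inferInstance (Ideal.mem_map_of_mem _ ha))⟩
    have hV₁eq : W₁.comap g₁ = V₁ :=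
      htot₁.2.1 _ _ (Groth.Agent.EtRamH7.dominates_comap (algebraMap K₁ L₁) hAW) hV₁
    let i₁ : V₁ →+* W₁ := RingHom.codRestrict ((algebraMap K₁ L₁).comp V₁.subtype) W₁ fun v => by
      have h : (v : K₁) ∈ W₁.comap g₁ := hV₁eq.symm ▸ v.2
      exact h
    have hpoleE : algebraMap W₁ E (i₁ ⟨x, hxV₁⟩) ^ n₁ * (algebraMap K₂ E z₂ ^ p - algebraMap K₂ E z₂) =
        algebraMap W₁ E (i₁ a₁) := by
      have h := congrArg (algebraMap K₂ E) hpole
      simp only [map_mul, map_pow, map_sub] at h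
      exact h
    obtain ⟨-, htotE, hmaxE⟩ := pole_coprime W₁ L₁ E hp hdE (i₁ ⟨x, hxV₁⟩) hx₁irr n₁ hn₁
      (a₁.map i₁) (algebraMap K₂ E z₂) hpoleE s t ht
    have hdomV : EtRam.Dominates W₁ (algebraMap W₁ E) V := Groth.Agent.EtRamH7.dominates_self_comap (algebraMap L₁ E) V
    obtain ⟨⟨hyV, hVmax⟩, w, hw1, hw2, -, hw4⟩ := hmaxE V hdomV
    have hyE : algebraMap K₂ E y = (algebraMap K₂ E z₂ ^ s)⁻¹ / algebraMap W₁ E (i₁ ⟨x, hxV₁⟩) ^ t := by
      simp only [y, map_div₀, map_inv₀, map_pow]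
      rfl
    have hsurjE : Function.Surjective fun b : B => IsLocalRing.residue V (RingHom.codRestrict _ V hV.1 b) := by
      intro r
      obtain ⟨v, hv⟩ := htotE.2.2 V hdomV r
      obtain ⟨b, hb⟩ := htotL₁.2.2 W₁ hW₁ (IsLocalRing.residue W₁ v)
      refine ⟨b, ?_⟩
      haveI : IsLocalHom (RingHom.codRestrict (algebraMap W₁ E) V hdomV.1) := Groth.Agent.EtRamH7.isLocalHom_cod hdomV
      exact (congrArg (IsLocalRing.ResidueField.map (RingHom.codRestrict (algebraMap W₁ E) V hdomV.1)) hb).trans hv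
    have hyV' : algebraMap K₂ E y ∈ V := by rw [hyE]; exact hyV
    refine ⟨hyV', ?_, common K₂ (IsScalarTower.toAlgHom K K₁ K₂) y E V hV hsurjE
      (algebraMap W₁ E (i₁ ⟨x, hxV₁⟩)) w rfl (hdomV.1 _) ?_ p hp.pos (by rw [hyE]; exact hw4) hw1 hw2
      ⟨algebraMap K₂ E z₂, ?_⟩⟩
    · rw [hVmax]
      congr 2
      exact Subtype.ext hyE.symm
    · exact hdomV.2 _ (hx₁irr.maximalIdeal_eq ▸ Ideal.mem_span_singleton_self _)
    · show algebraMap K₂ E (algebraMap K₁ K₂ α') - _ ∈ V
      rw [← hz₂, map_sub, map_pow, sub_self]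
      exact V.zero_mem

end Groth.Agent.S7155
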