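import Groth.Statements.S7156
import Groth.Agent.Lib.EtRamH7.TrichotomyMain

set_option autoImplicit false
universe u
open EtAlg

namespace Groth.Agent.S7156

open TensorProduct in
/-- Let A → B → C be injective local homomorphisms of discrete valuation rings whose fields of fractions
are K ⊆ L ⊆ M, and let π be a uniformizer of A; suppose B is a Nagata ring, A → B is weakly
unramified, and M/L is purely inseparable of prime degree p. Then one of the following holds: the
extension A → C is itself weakly unramified; or else C = B[π^(1/p)]; or else there is a separable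
degree-p extension K₁/K, totally ramified with respect to A, for which L ⊗_K K₁ and M ⊗_K K₁ are
fields and the integral closures A₁ → B₁ → C₁ are weakly unramified extensions, i.e. K₁ is a weak
solution for A ⊆ B and for A ⊆ C. -/
theorem result (p : ℕ) (hp : p.Prime) (A B C K L M : Type u)
    [CommRing A] [IsDomain A] [IsDiscreteValuationRing A] [CommRing B] [IsDomain B] [IsDiscreteValuationRing B]
    [CommRing C] [IsDomain C] [IsDiscreteValuationRing C]
    [Algebra A B] [Algebra B C] [Algebra A C] [IsScalarTower A B C]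
    (hAB : Function.Injective (algebraMap A B)) (hBC : Function.Injective (algebraMap B C))
    [IsLocalHom (algebraMap A B)] [IsLocalHom (algebraMap B C)]
    [Field K] [Field L] [Field M] [Algebra A K] [IsFractionRing A K] [Algebra B L] [IsFractionRing B L]
    [Algebra C M] [IsFractionRing C M] [Algebra K L] [Algebra L M] [Algebra K M] [IsScalarTower K L M]
    [Algebra A L] [IsScalarTower A K L] [IsScalarTower A B L] [Algebra B M] [IsScalarTower B L M] [IsScalarTower B C M]
    [Algebra A M] [IsScalarTower A K M] [IsScalarTower A C M]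
    (π : A) (hπ : IsLocalRing.maximalIdeal A = Ideal.span {π}) (hB : CAlg.IsNagata B)
    (hw : EtRam.IsWeaklyUnramified A B) [IsPurelyInseparable L M] (hdeg : Module.finrank L M = p) :
    EtRam.IsWeaklyUnramified A C ∨
      (∃ c : C, c ^ p = algebraMap A C π ∧ Algebra.adjoin B {c} = ⊤) ∨
      ∃ (K₁ : Type u) (_ : Field K₁) (_ : Algebra K K₁),
        Module.finrank K K₁ = p ∧ Algebra.IsSeparable K K₁ ∧
          EtRam.IsTotallyRamified A ((algebraMap K K₁).comp (algebraMap A K)) ∧
          IsField (L ⊗[K] K₁) ∧ IsField (M ⊗[K] K₁) ∧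
          EtRam.IsWeakSolution B K L K₁ ∧ EtRam.IsWeakSolution C K M K₁ := by
  open Groth.Agent.EtRamH7 IsLocalRing in
  classical
  haveI : FiniteDimensional L M := Module.finite_of_finrank_pos (hdeg ▸ hp.pos)
  obtain ⟨hchL, hpow⟩ := pow_mem_range_of_insep hp hdeg
  haveI := hchL
  haveI : Fact p.Prime := ⟨hp⟩
  have hπA : Irreducible π := (IsDiscreteValuationRing.irreducible_iff_uniformizer π).2 hπ
  set πB := algebraMap A B π with hπBdef
  have hπBmax : maximalIdeal B = Ideal.span {πB} := by
    rw [← hw, hπ, Ideal.map_span, Set.image_singleton]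
  have hπB : Irreducible πB := (IsDiscreteValuationRing.irreducible_iff_uniformizer πB).2 hπBmax
  rcases weakly_or_pow hp B C L M hBC hpow πB hπB with hwk | ⟨u, c, hcirr, hc⟩
  · left
    show Ideal.map (algebraMap A C) (maximalIdeal A) = maximalIdeal C
    rw [IsScalarTower.algebraMap_eq A B C, ← Ideal.map_map, hw, hwk]
  right
  by_cases hz : ∃ z : M, z ^ p = algebraMap A M π
  · left
    obtain ⟨z, hz⟩ := hz
    have hzi : IsIntegral C z := IsIntegral.of_pow hp.pos (by
      rw [hz, IsScalarTower.algebraMap_apply A C M]; exact isIntegral_algebraMap)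
    obtain ⟨c₀, rfl⟩ := IsIntegrallyClosed.isIntegral_iff.1 hzi
    have hc₀ : c₀ ^ p = algebraMap A C π :=
      IsFractionRing.injective C M (by rw [map_pow, hz, ← IsScalarTower.algebraMap_apply])
    exact ⟨c₀, hc₀, adjoin_eq_top_of_pow hp.pos B C L M hdeg.le πB hπB 1 c₀ (by
      rw [hc₀, Units.val_one, mul_one, hπBdef, ← IsScalarTower.algebraMap_apply])⟩
  right
  have hno : ∀ z : M, z ^ p ≠ algebraMap B M πB := fun z h => hz ⟨z, by
    rw [h, hπBdef, IsScalarTower.algebraMap_apply A C M, IsScalarTower.algebraMap_apply B C M,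
      ← IsScalarTower.algebraMap_apply A B C]⟩
  have hcM : algebraMap C M c ^ p = algebraMap B M (πB * u) := by
    rw [← map_pow, hc, ← IsScalarTower.algebraMap_apply]
  have hcL : algebraMap C M c ∉ (algebraMap L M).range := by
    rintro ⟨l, hl⟩
    obtain ⟨b, rfl⟩ := exists_of_map_eq (B := B) l c hl
    have h1 : b ^ p = πB * u := by
      apply IsFractionRing.injective B L
      apply (algebraMap L M).injective
      rw [map_pow, map_pow, hl, ← IsScalarTower.algebraMap_apply B L M, hcM]
    have hb : πB ∣ b := hπB.prime.dvd_of_dvd_pow (⟨u, h1⟩ : πB ∣ b ^ p)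
    obtain ⟨b', rfl⟩ := hb
    obtain ⟨k, hk⟩ := Nat.exists_eq_add_of_le hp.two_le
    refine hπB.not_isUnit (IsUnit.of_mul_eq_one (πB ^ k * b' ^ p * ↑u⁻¹) (mul_left_cancel₀ hπB.ne_zero ?_))
    have h2 : πB ^ (2 + k) * b' ^ p = πB * u := by rw [← hk, ← mul_pow, h1]
    have h3 : (u : B) * ↑u⁻¹ = 1 := Units.mul_inv u
    linear_combination (↑u⁻¹ : B) * h2 + πB * h3
  obtain ⟨n, w, e, he, hne⟩ := exists_best_approx hp B L M hB πB hπB u (algebraMap C M c) hcM hcL hdeg hno
  haveI : CharP K p := (RingHom.charP_iff (algebraMap K L) (algebraMap K L).injective p).2 inferInstance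
  haveI : CharP M p := charP_of_injective_algebraMap (algebraMap L M).injective p
  let N := n + 2
  have hp1 : 1 ≤ p - 1 := by have := hp.two_le; omega
  have hQ : n + 1 ≤ N * (p - 1) - 1 := by
    have := Nat.le_mul_of_pos_right N hp1
    omega
  set Q := N * (p - 1) - 1 with hQdef
  have hNQ : N * (p - 1) = Q + 1 := by
    have := Nat.le_mul_of_pos_right N hp1
    omega
  have hgamma : ∀ (F : Type u) [Field F] (φ : A →+* F),
      (φ π ^ N) ^ (p - 1) = φ π * φ π ^ Q := fun F _ φ => by rw [← pow_mul, hNQ, pow_succ']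
  have hπ0 : algebraMap A K π ≠ 0 := fun h => hπA.ne_zero (IsFractionRing.injective A K (by rw [h, map_zero]))
  have hrootK : ∀ b : K, b ^ p - (algebraMap A K π ^ N) ^ (p - 1) * b ≠ algebraMap A K π := fun b h =>
    no_root_eis hp.two_le π hπA (π * π ^ Q) (dvd_mul_right _ _) b
      (by rw [map_mul, map_pow, ← hgamma K (algebraMap A K)]; exact h)
  obtain ⟨K₁, _, _, r, hfd, hsep, hdeg₁, hli, hr⟩ :=
    Groth.Agent.PerturbH7.exists_as_extension hp K _ (algebraMap A K π) (pow_ne_zero N hπ0) hrootK
  haveI := hfd
  rw [hgamma K (algebraMap A K)] at hr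
  have hr' : r ^ p = algebraMap K K₁ (algebraMap A K π) * (1 + algebraMap K K₁ (algebraMap A K π) ^ Q * r) := by
    rw [hr, map_mul, map_pow]; ring
  refine ⟨K₁, _, _, hdeg₁, hsep, ?_, ?_, ?_, ?_, ?_⟩
  · letI : Algebra A K₁ := ((algebraMap K K₁).comp (algebraMap A K)).toAlgebra
    haveI : IsScalarTower A K K₁ := IsScalarTower.of_algebraMap_eq fun _ => rfl
    have hQ1 : 1 ≤ Q := by omega
    exact (eis_facts A K K₁ hp.two_le π hπA (π ^ Q) (dvd_pow_self _ (by omega)) r
      (by rw [IsScalarTower.algebraMap_apply A K K₁, IsScalarTower.algebraMap_apply A K K₁, map_pow, map_pow]; exact hr')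
      hdeg₁.le).2.1
  · have hrootL : ∀ b : L, b ^ p - (algebraMap A L π ^ N) ^ (p - 1) * b ≠ algebraMap A L π := fun b h =>
      no_root_eis hp.two_le πB hπB (πB * πB ^ Q) (dvd_mul_right _ _) b (by
        rw [hgamma L (algebraMap A L)] at h
        rw [map_mul, map_pow, hπBdef, ← IsScalarTower.algebraMap_apply]
        exact h)
    have hπL : algebraMap A L π ≠ 0 := by
      rw [IsScalarTower.algebraMap_apply A K L]; exact (_root_.map_ne_zero _).2 hπ0
    obtain ⟨E, _, _, s, hfdE, -, hdegE, hliE, hs⟩ :=
      Groth.Agent.PerturbH7.exists_as_extension hp L _ (algebraMap A L π) (pow_ne_zero N hπL) hrootL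
    letI : Algebra K E := ((algebraMap L E).comp (algebraMap K L)).toAlgebra
    haveI : IsScalarTower K L E := IsScalarTower.of_algebraMap_eq fun _ => rfl
    refine isField_tensor hdeg₁ r hli L E hdegE s hliE (eis_relations hp r hdeg₁ hli _ _ hr s ?_)
    rw [hs, hgamma L (algebraMap A L)]
    simp only [map_mul, map_pow, IsScalarTower.algebraMap_apply A K L, ← IsScalarTower.algebraMap_apply K L E]
  · have hπM : algebraMap A M π ≠ 0 := by
      rw [IsScalarTower.algebraMap_apply A K M]; exact (_root_.map_ne_zero _).2 hπ0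
    have hrootM : ∀ b : M, b ^ p - (algebraMap A M π ^ N) ^ (p - 1) * b ≠ algebraMap A M π := by
      intro b h
      rw [hgamma M (algebraMap A M)] at h
      have hAM : algebraMap A M π = algebraMap L M (algebraMap B L πB) := by
        rw [hπBdef, ← IsScalarTower.algebraMap_apply B L M, IsScalarTower.algebraMap_apply A C M,
          IsScalarTower.algebraMap_apply B C M, ← IsScalarTower.algebraMap_apply A B C]
      rw [hAM] at h
      obtain ⟨l, hl⟩ := hpow b
      have hπ1 : algebraMap L M (algebraMap B L πB) ≠ 0 := hAM ▸ hπM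
      have hb : b = algebraMap L M ((l - algebraMap B L πB) / (algebraMap B L πB * algebraMap B L πB ^ Q)) := by
        rw [map_div₀, map_sub, hl, map_mul, map_pow, eq_div_iff (mul_ne_zero hπ1 (pow_ne_zero _ hπ1))]
        linear_combination -h
      rw [hb] at h
      refine no_root_eis hp.two_le πB hπB (πB * πB ^ Q) (dvd_mul_right _ _)
        ((l - algebraMap B L πB) / (algebraMap B L πB * algebraMap B L πB ^ Q)) ((algebraMap L M).injective ?_)
      simp only [map_sub, map_mul, map_pow] at h ⊢
      exact h
    obtain ⟨E, _, _, s, hfdE, -, hdegE, hliE, hs⟩ :=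
      Groth.Agent.PerturbH7.exists_as_extension hp M _ (algebraMap A M π) (pow_ne_zero N hπM) hrootM
    letI : Algebra K E := ((algebraMap M E).comp (algebraMap K M)).toAlgebra
    haveI : IsScalarTower K M E := IsScalarTower.of_algebraMap_eq fun _ => rfl
    refine isField_tensor hdeg₁ r hli M E hdegE s hliE (eis_relations hp r hdeg₁ hli _ _ hr s ?_)
    rw [hs, hgamma M (algebraMap A M)]
    simp only [map_mul, map_pow, IsScalarTower.algebraMap_apply A K M, ← IsScalarTower.algebraMap_apply K M E]
  · exact weakSolution_base (A := A) (B := B) π hπB hdeg₁ Q r hr' hp.two_le (by omega)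
  · exact weakSolution_step (A := A) (B := B) (C := C) π hπB hdeg₁ Q r hr' hp u (algebraMap C M c) hcM hdeg hcL n w e he hne hQ

end Groth.Agent.S7156
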