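import Groth.Statements.S7157
import Groth.Agent.Lib.EtRamH7.EisRoot
import Mathlib.RingTheory.AdjoinRoot
import Mathlib.FieldTheory.Separable

set_option autoImplicit false
universe u
open EtAlg

namespace Groth.Agent.S7157

/-- Let A be a discrete valuation ring, π a uniformizer, K its field of fractions, and suppose the
residue field of A has characteristic p > 0. For every n > 1 and every power q of p there is a
separable degree-q extension L/K that is totally ramified with respect to A and whose ring of
integers B (the integral closure of A in L) contains elements π_B, b, b' with π_B^q = π + πⁿ·b and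
π_B^q = π + π_B^(nq)·b' (π_B is then a uniformizer of B and the ramification index is q). -/
theorem result (p : ℕ) (hp : p.Prime) (A K : Type u)
    [CommRing A] [IsDomain A] [IsDiscreteValuationRing A] [Field K] [Algebra A K] [IsFractionRing A K]
    [CharP (IsLocalRing.ResidueField A) p] (π : A) (hπ : IsLocalRing.maximalIdeal A = Ideal.span {π})
    (n : ℕ) (hn : 1 < n) (k : ℕ) :
    ∃ (L : Type u) (_ : Field L) (_ : Algebra K L) (_ : Algebra A L) (_ : IsScalarTower A K L),
      Module.finrank K L = p ^ k ∧ Algebra.IsSeparable K L ∧ EtRam.IsTotallyRamified A (algebraMap A L) ∧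
      ∃ πB b b' : L, πB ∈ integralClosure A L ∧ b ∈ integralClosure A L ∧ b' ∈ integralClosure A L ∧
        πB ^ (p ^ k) = algebraMap A L π + algebraMap A L π ^ n * b ∧
        πB ^ (p ^ k) = algebraMap A L π + πB ^ (n * p ^ k) * b' := by
  classical
  have hπi : Irreducible π := (IsDiscreteValuationRing.irreducible_iff_uniformizer π).2 hπ
  set m := p ^ k with hm
  have hm0 : 0 < m := pow_pos hp.pos k
  rcases Nat.eq_zero_or_pos k with hk | hk
  · have hm1 : m = 1 := by rw [hm, hk, pow_zero]
    refine ⟨K, inferInstance, inferInstance, inferInstance, inferInstance, by rw [Module.finrank_self, hm1],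
      Algebra.isSeparable_self K, ?_, algebraMap A K π, 0, 0, isIntegral_algebraMap, zero_mem _,
      zero_mem _, by simp [hm1], by simp [hm1]⟩
    refine (Groth.Agent.EtRamH7.eisRoot_totallyRamified A K K (m := 1) (Module.finrank_self K).symm one_pos hπi
      (b := fun _ => 1) isUnit_one (x := algebraMap A K π) ?_ (Subsingleton.elim _ _)).1
    simp [Groth.Agent.EtRamH7.eisPoly]
  · have hm2 : 2 ≤ m := le_trans hp.two_le (Nat.le_self_pow hk.ne' p)
    let b : Fin m → A := fun i => if (i : ℕ) = 0 then 1 else if (i : ℕ) = 1 then -(π ^ (n - 1)) else 0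
    let f : Polynomial K := (Groth.Agent.EtRamH7.eisPoly m π b).map (algebraMap A K)
    have hirr : Irreducible f :=
      Groth.Agent.EtRamH7.eisPoly_irreducible A K hm0 hπi (by simp [b])
    haveI : Fact (Irreducible f) := ⟨hirr⟩
    have hmonic : f.Monic := (Groth.Agent.EtRamH7.eisPoly_monic m π b).map _
    have hdeg : f.natDegree = m := by
      rw [Polynomial.natDegree_map_eq_of_injective (IsFractionRing.injective A K), Groth.Agent.EtRamH7.eisPoly_natDegree]
    haveI : FiniteDimensional K (AdjoinRoot f) := hmonic.finite_adjoinRoot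
    have hrank : Module.finrank K (AdjoinRoot f) = m := by
      rw [(AdjoinRoot.powerBasis hirr.ne_zero).finrank, AdjoinRoot.powerBasis_dim, hdeg]
    haveI : IsScalarTower A K (AdjoinRoot f) := inferInstance
    have hder : Polynomial.coeff (Polynomial.derivative f) 0 ≠ 0 := by
      rw [Polynomial.coeff_derivative, zero_add, Nat.cast_zero, zero_add, mul_one,
        Polynomial.coeff_map, show (1 : ℕ) = ((⟨1, hm2⟩ : Fin m) : ℕ) from rfl,
        Groth.Agent.EtRamH7.eisPoly_coeff, map_ne_zero_iff _ (IsFractionRing.injective A K)]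
      simp [b, hπi.ne_zero]
    have hsep : f.Separable :=
      (Polynomial.separable_iff_derivative_ne_zero hirr).2 fun h => hder (by rw [h, Polynomial.coeff_zero])
    haveI hsep' : Algebra.IsSeparable K (AdjoinRoot f) := by
      haveI := (IntermediateField.isSeparable_adjoin_simple_iff_isSeparable K (AdjoinRoot f)
        (x := AdjoinRoot.root f)).2 (by
          show (minpoly K (AdjoinRoot.root f)).Separable
          rw [AdjoinRoot.minpoly_root hirr.ne_zero, hmonic.leadingCoeff, inv_one, map_one, mul_one]
          exact hsep)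
      have htop : IntermediateField.adjoin K {AdjoinRoot.root f} = ⊤ := by
        apply IntermediateField.toSubalgebra_injective
        refine top_le_iff.1 (le_trans (le_of_eq (AdjoinRoot.adjoinRoot_eq_top (f := f)).symm) ?_)
        exact IntermediateField.algebra_adjoin_le_adjoin K _
      exact AlgEquiv.Algebra.isSeparable ((IntermediateField.equivOfEq htop).trans IntermediateField.topEquiv)
    set x := AdjoinRoot.root f with hx
    have haev : Polynomial.aeval x (Groth.Agent.EtRamH7.eisPoly m π b) = 0 := by
      rw [← Polynomial.aeval_map_algebraMap K, AdjoinRoot.aeval_eq]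
      exact AdjoinRoot.mk_self
    obtain ⟨htr, hx0, hint⟩ := Groth.Agent.EtRamH7.eisRoot_totallyRamified A K (AdjoinRoot f) hrank.symm hm0 hπi
      (b := b) (by simp [b]) haev AdjoinRoot.adjoinRoot_eq_top
    have hxint : IsIntegral A x := ⟨_, Groth.Agent.EtRamH7.eisPoly_monic m π b, by rw [← Polynomial.aeval_def]; exact haev⟩
    have hsum : (∑ i : Fin m, algebraMap A (AdjoinRoot f) (b i) * x ^ (i : ℕ)) =
        1 - algebraMap A (AdjoinRoot f) π ^ (n - 1) * x := by
      rw [Fintype.sum_eq_add (⟨0, hm0⟩ : Fin m) ⟨1, hm2⟩ (by simp)]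
      · simp [b, sub_eq_add_neg]
      · rintro i ⟨h0, h1⟩
        have h0' : (i : ℕ) ≠ 0 := fun h => h0 (Fin.ext h)
        have h1' : (i : ℕ) ≠ 1 := fun h => h1 (Fin.ext h)
        simp [b, h0', h1']
    rw [hsum] at hint
    have hrel : x ^ m = algebraMap A (AdjoinRoot f) π * (1 - algebraMap A (AdjoinRoot f) π ^ (n - 1) * x) := by
      rw [← hsum, ← sub_eq_zero, ← haev]
      simp [Groth.Agent.EtRamH7.eisPoly]
    have hpown : algebraMap A (AdjoinRoot f) π ^ n =
        algebraMap A (AdjoinRoot f) π * algebraMap A (AdjoinRoot f) π ^ (n - 1) := by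
      rw [← pow_succ']; congr 1; omega
    have hu0 : (1 - algebraMap A (AdjoinRoot f) π ^ (n - 1) * x) ≠ 0 := by
      intro h0
      rw [h0, mul_zero] at hrel
      exact hx0 (pow_eq_zero_iff hm0.ne' |>.1 hrel)
    refine ⟨AdjoinRoot f, inferInstance, inferInstance, inferInstance, inferInstance, hrank, hsep', htr,
      x, -x, -x * ((1 - algebraMap A (AdjoinRoot f) π ^ (n - 1) * x)⁻¹) ^ n, hxint, neg_mem hxint,
      (neg_mem hxint : -x ∈ integralClosure A (AdjoinRoot f)) |> fun h => mul_mem h (pow_mem hint n), ?_, ?_⟩
    · rw [hrel, hpown]; ring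
    · rw [mul_comm n m, pow_mul, hrel, mul_pow, hpown]
      have hinv : ((1 - algebraMap A (AdjoinRoot f) π ^ (n - 1) * x)⁻¹) ^ n *
          (1 - algebraMap A (AdjoinRoot f) π ^ (n - 1) * x) ^ n = 1 := by
        rw [← mul_pow, inv_mul_cancel₀ hu0, one_pow]
      linear_combination (algebraMap A (AdjoinRoot f) π * algebraMap A (AdjoinRoot f) π ^ (n - 1) * x) * hinv

end Groth.Agent.S7157
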