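import Groth.Statements.S7158
import Groth.Agent.Lib.EtRamH7.ASCases

set_option autoImplicit false
universe u
open EtAlg

namespace Groth.Agent.S7158

/-- Let A be a discrete valuation ring whose fraction field K has characteristic p > 0, let ξ be an
element of K and let L = K(z) be obtained by adjoining a root z of z^p - z = ξ. Then L/K is a Galois
extension, and it falls under one of four cases: (1) L = K; (2) L/K has degree p and is unramified
with respect to A; (3) L/K has degree p and is totally ramified with respect to A (ramification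
index p); (4) exactly one valuation ring of L dominates A (so B, the integral closure of A in L, is
itself a discrete valuation ring), the extension A → B is weakly unramified, and its residue field
extension is purely inseparable of degree p. Moreover, with π a uniformizer of A: (A) if ξ lies in
A, case (1) or (2) holds; (B) if ξ = π⁻ⁿa with n > 0 prime to p and a a unit of A, case (3) holds;
(C) if ξ = π⁻ⁿa with n > 0 divisible by p and the residue class of a not a p-th power, case (4)
holds. -/
theorem result (p : ℕ) (hp : p.Prime) (A K L : Type u) [CommRing A] [IsDomain A]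
    [IsDiscreteValuationRing A] [Field K] [Algebra A K] [IsFractionRing A K] [Field L] [Algebra K L] [Algebra A L]
    [IsScalarTower A K L] [CharP K p] (π : A) (hπ : IsLocalRing.maximalIdeal A = Ideal.span {π})
    (ξ : K) (z : L) (hz : z ^ p - z = algebraMap K L ξ) (hgen : IntermediateField.adjoin K {z} = ⊤) :
    let g : A →+* L := algebraMap A L
    let case1 : Prop := Module.finrank K L = 1
    let case2 : Prop := EtRam.IsUnramifiedExt A g ∧ Module.finrank K L = p
    let case3 : Prop := EtRam.IsTotallyRamified A g ∧ Module.finrank K L = p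
    let case4 : Prop := (∃ V : ValuationSubring L, EtRam.Dominates A g V) ∧
      (∀ V V' : ValuationSubring L, EtRam.Dominates A g V → EtRam.Dominates A g V' → V = V') ∧
      ∀ (V : ValuationSubring L) (h : EtRam.Dominates A g V),
        letI : Algebra A V := (RingHom.codRestrict g V h.1).toAlgebra
        ∀ [IsLocalHom (algebraMap A V)],
          EtRam.IsWeaklyUnramified A V ∧
            IsPurelyInseparable (IsLocalRing.ResidueField A) (IsLocalRing.ResidueField V) ∧
            Module.finrank (IsLocalRing.ResidueField A) (IsLocalRing.ResidueField V) = p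
    IsGalois K L ∧ (case1 ∨ case2 ∨ case3 ∨ case4) ∧
      ((∃ a : A, algebraMap A K a = ξ) → case1 ∨ case2) ∧
      (∀ (n : ℕ) (a : Aˣ), 0 < n → ¬ p ∣ n → ξ * algebraMap A K π ^ n = algebraMap A K a → case3) ∧
      (∀ (n : ℕ) (a : A), 0 < n → p ∣ n → (∀ r : A, IsLocalRing.residue A a ≠ IsLocalRing.residue A r ^ p) →
          ξ * algebraMap A K π ^ n = algebraMap A K a → case4) := by
  intro g case1 case2 case3 case4
  haveI : Fact p.Prime := ⟨hp⟩
  have hπ' : Irreducible π := IsDiscreteValuationRing.irreducible_iff_uniformizer π |>.2 hπ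
  obtain ⟨hfd, hgal, hrk⟩ := Groth.Agent.EtRamH7.as_galois hp K L ξ z hz hgen
  haveI := hfd
  have hd : Module.finrank K L ≤ p := by rcases hrk with h | h <;> rw [h]; exact hp.pos
  haveI : CharP A p := (RingHom.charP_iff (algebraMap A K) (IsFractionRing.injective A K) p).2 inferInstance
  haveI hchar : CharP (IsLocalRing.ResidueField A) p := (CharP.charP_iff_prime_eq_zero hp).2 (by
    rw [← map_natCast (IsLocalRing.residue A), CharP.cast_eq_zero, map_zero])
  have hPm : (Polynomial.X ^ p - Polynomial.X : Polynomial A).Monic :=
    Polynomial.monic_X_pow_sub (by rw [Polynomial.degree_X]; exact_mod_cast hp.one_lt)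
  have hPd : (Polynomial.X ^ p - Polynomial.X : Polynomial A).natDegree = p := by
    rw [Polynomial.natDegree_sub_eq_left_of_natDegree_lt
      (by rw [Polynomial.natDegree_X, Polynomial.natDegree_X_pow]; exact hp.one_lt), Polynomial.natDegree_X_pow]
  have hev : ∀ (n : ℕ) (a : A), ξ * algebraMap A K π ^ n = algebraMap A K a →
      algebraMap A L π ^ n * Polynomial.aeval z (Polynomial.X ^ p - Polynomial.X : Polynomial A) = algebraMap A L a :=
    fun n a ha => by
      rw [map_sub, map_pow, Polynomial.aeval_X, hz, IsScalarTower.algebraMap_apply A K L a, ← ha, map_mul, map_pow,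
        ← IsScalarTower.algebraMap_apply, mul_comm]
  refine ⟨hgal, ?_, fun ⟨a, ha⟩ => ?_, fun n a _ hn ha => ?_, fun n a hn hpn hr ha => ?_⟩
  · obtain ⟨n, a, ha⟩ := Groth.Agent.EtRamH7.exists_pole A K π hπ' ξ
    exact Groth.Agent.EtRamH7.as_cases hp K L A π hπ' n ξ z hz hgen ⟨a, ha⟩
  · obtain ⟨_, _, hq⟩ := Groth.Agent.EtRamH7.generator_facts K L hgen
      (minpoly.monic (IsIntegral.of_finite K z)) (minpoly.aeval K z)
    exact Groth.Agent.EtRamH7.case_integral A K L hp hchar _ hPm hPd (by simp) z hrk hq a
      (by simpa using hev 0 a (by simp [ha]))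
  · exact Groth.Agent.EtRamH7.case_pole_coprime A K L hp _ hPm hPd hd π hπ' n a hn z (hev n a ha)
  · exact (Groth.Agent.EtRamH7.case_pole_insep A K L hp hchar _ hPm hPd hd π hπ' n a hn hpn hr z (hev n a ha)).1

end Groth.Agent.S7158
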