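import Groth.Statements.S7159
import Groth.Agent.Lib.EtRamH7.KummerCases

set_option autoImplicit false
universe u
open EtAlg

namespace Groth.Agent.S7159

open Polynomial in
/-- Let A be a discrete valuation ring whose fraction field K has characteristic 0 and whose residue
field has characteristic p, and suppose A contains an element ζ with 1 + ζ + ... + ζ^(p-1) = 0 (a
primitive p-th root of unity); set w = 1 - ζ and let P in A[t] be the polynomial with w^p·P(t) = (1
+ wt)^p - 1. Let ξ be an element of K and let L = K(z) be obtained by adjoining a root z of P(z) =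
ξ. Then L/K is a Galois extension, and it falls under one of four cases: (1) L = K; (2) L/K has
degree p and is unramified with respect to A; (3) L/K has degree p and is totally ramified with
respect to A (ramification index p); (4) exactly one valuation ring of L dominates A (so B, the
integral closure of A in L, is itself a discrete valuation ring), the extension A → B is weakly
unramified, and its residue field extension is purely inseparable of degree p. Moreover, with π a
uniformizer of A: (A) if ξ lies in A, case (1) or (2) holds; (B) if ξ = π⁻ⁿa with n > 0 prime to p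
and a a unit of A, case (3) holds; (C) if ξ = π⁻ⁿa with n > 0 divisible by p and the residue class
of a not a p-th power, case (4) holds. -/
theorem result (p : ℕ) (hp : p.Prime) (A K L : Type u) [CommRing A] [IsDomain A]
    [IsDiscreteValuationRing A] [Field K] [Algebra A K] [IsFractionRing A K] [Field L] [Algebra K L] [Algebra A L]
    [IsScalarTower A K L] [CharZero K] [CharP (IsLocalRing.ResidueField A) p] (ζ : A)
    (hζ : aeval ζ (cyclotomic p ℤ) = 0) (P : A[X]) (hP : C ((1 - ζ) ^ p) * P = (1 + C (1 - ζ) * X) ^ p - 1) (π : A) (hπ : IsLocalRing.maximalIdeal A = Ideal.span {π})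
    (ξ : K) (z : L) (hz : aeval z P = algebraMap K L ξ) (hgen : IntermediateField.adjoin K {z} = ⊤) :
    let g : A →+* L := algebraMap A L
    let case1 : Prop := Module.finrank K L = 1
    let case2 : Prop := EtRam.IsUnramifiedExt A g ∧ Module.finrank K L = p
    let case3 : Prop := EtRam.IsTotallyRamified A g ∧ Module.finrank K L = p
    let case4 : Prop := (∃ V : ValuationSubring L, EtRam.Dominates A g V) ∧
      (∀ V V' : ValuationSubring L, EtRam.Dominates A g V → EtRam.Dominates A g V' → V = V') ∧
      ∀ (V : ValuationSubring L) (h : EtRam.Dominates A g V),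
        letI : Algebra A V := (RingHom.codRestrict g V h.1).toAlgebra
        ∀ [IsLocalHom (algebraMap A V)],
          EtRam.IsWeaklyUnramified A V ∧
            IsPurelyInseparable (IsLocalRing.ResidueField A) (IsLocalRing.ResidueField V) ∧
            Module.finrank (IsLocalRing.ResidueField A) (IsLocalRing.ResidueField V) = p
    IsGalois K L ∧ (case1 ∨ case2 ∨ case3 ∨ case4) ∧
      ((∃ a : A, algebraMap A K a = ξ) → case1 ∨ case2) ∧
      (∀ (n : ℕ) (a : Aˣ), 0 < n → ¬ p ∣ n → ξ * algebraMap A K π ^ n = algebraMap A K a → case3) ∧
      (∀ (n : ℕ) (a : A), 0 < n → p ∣ n → (∀ r : A, IsLocalRing.residue A a ≠ IsLocalRing.residue A r ^ p) →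
          ξ * algebraMap A K π ^ n = algebraMap A K a → case4) := by
  intro g case1 case2 case3 case4
  haveI : Fact p.Prime := ⟨hp⟩
  have hπ' : Irreducible π := IsDiscreteValuationRing.irreducible_iff_uniformizer π |>.2 hπ
  obtain ⟨hmon, hdeg, hred⟩ := Groth.Agent.EtRamH7.kummer_poly hp A K ζ hζ P hP
  obtain ⟨hfd, hgal, hrk⟩ := Groth.Agent.EtRamH7.kummer_galois hp ζ hζ P hP hmon hdeg ξ z hz hgen
  haveI := hfd
  have hd : Module.finrank K L ≤ p := by rcases hrk with h | h <;> rw [h]; exact hp.pos
  have hev : ∀ (n : ℕ) (a : A), ξ * algebraMap A K π ^ n = algebraMap A K a →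
      algebraMap A L π ^ n * aeval z P = algebraMap A L a :=
    fun n a ha => by
      rw [hz, IsScalarTower.algebraMap_apply A K L a, ← ha, map_mul, map_pow,
        ← IsScalarTower.algebraMap_apply, mul_comm]
  refine ⟨hgal, Groth.Agent.EtRamH7.kummer_cases hp ζ hζ P hP π hπ' ξ z hz hgen, fun ⟨a, ha⟩ => ?_,
    fun n a _ hn ha => ?_, fun n a hn hpn hr ha => ?_⟩
  · obtain ⟨_, _, hq⟩ := Groth.Agent.EtRamH7.generator_facts K L hgen
      (minpoly.monic (IsIntegral.of_finite K z)) (minpoly.aeval K z)
    exact Groth.Agent.EtRamH7.case_integral A K L hp inferInstance P hmon hdeg hred z hrk hq a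
      (by simpa using hev 0 a (by simp [ha]))
  · exact Groth.Agent.EtRamH7.case_pole_coprime A K L hp P hmon hdeg hd π hπ' n a hn z (hev n a ha)
  · exact (Groth.Agent.EtRamH7.case_pole_insep A K L hp inferInstance P hmon hdeg hd π hπ' n a hn hpn hr z (hev n a ha)).1

end Groth.Agent.S7159
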