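import Groth.Statements.S7160
import Mathlib.Algebra.Homology.DerivedCategory.HomologySequence
import Mathlib.Algebra.Homology.DerivedCategory.Linear
import Mathlib.Algebra.Category.ModuleCat.Basic
import Mathlib.Algebra.Homology.ShortComplex.Linear

set_option autoImplicit false
universe u
open CategoryTheory CategoryTheory.Pretriangulated
attribute [local instance] HasDerivedCategory.standard
open CAlg

namespace Groth.Agent.S7160

open DerivedCategory

lemma map_smul_id (R : Type u) [CommRing R] (f : R) (M : Dual.D R) (i : ℤ) :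
    (DerivedCategory.homologyFunctor (ModuleCat.{u} R) i).map (f • 𝟙 M) = f • 𝟙 _ := by
  let F := DerivedCategory.homologyFunctor (ModuleCat.{u} R) i
  let K := DerivedCategory.Q.objPreimage M
  let e : DerivedCategory.Q.obj K ≅ M := DerivedCategory.Q.objObjPreimageIso M
  let φ := (DerivedCategory.homologyFunctorFactors (ModuleCat.{u} R) i).app K
  have h1 : f • 𝟙 M = e.inv ≫ DerivedCategory.Q.map (f • 𝟙 K) ≫ e.hom := by
    rw [Functor.map_smul, CategoryTheory.Functor.map_id]
    simp
  have h2 : F.map (DerivedCategory.Q.map (f • 𝟙 K)) = f • 𝟙 _ := by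
    have hnat : F.map (DerivedCategory.Q.map (f • 𝟙 K)) ≫ φ.hom =
        φ.hom ≫ HomologicalComplex.homologyMap (f • 𝟙 K) i :=
      (DerivedCategory.homologyFunctorFactors (ModuleCat.{u} R) i).hom.naturality (f • 𝟙 K)
    have hs : HomologicalComplex.homologyMap (f • 𝟙 K) i = f • 𝟙 _ := by
      show ShortComplex.homologyMap ((HomologicalComplex.shortComplexFunctor _ _ i).map (f • 𝟙 K)) = _
      rw [show (HomologicalComplex.shortComplexFunctor _ _ i).map (f • 𝟙 K) = f • 𝟙 (K.sc i) from rfl,
        ShortComplex.homologyMap_smul, ShortComplex.homologyMap_id]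
      rfl
    rw [hs] at hnat
    rw [← cancel_mono φ.hom, hnat]
    rw [Linear.smul_comp, Category.id_comp]
    exact (Linear.comp_smul _ _ _ φ.hom f (𝟙 _)).trans (congrArg (f • ·) (Category.comp_id _))
  rw [h1, F.map_comp, F.map_comp, h2]
  simp only [Linear.comp_smul, Linear.smul_comp, Category.id_comp]
  rw [← F.map_comp, Iso.inv_hom_id, F.map_id]



/-- Let R be a ring, f an element of R, M an object of D(R) and C the cone of f : M → M. Suppose that
H^i(M)_f = 0 whenever i < 0 (every element of H^i(M) is killed by a power of f) and that H^i(C) = 0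
whenever i < -1. Then H^i(M) vanishes for every i < 0. -/
theorem result (R : Type u) [CommRing R] (f : R) (M C : Dual.D R)
    (g : M ⟶ C) (h : C ⟶ M⟦(1 : ℤ)⟧) (hT : Triangle.mk (f • 𝟙 M) g h ∈ distinguishedTriangles)
    (hloc : ∀ i : ℤ, i < 0 → ∀ x : Dual.HD R M i, ∃ n : ℕ, f ^ n • x = 0)
    (hC : ∀ i : ℤ, i < -1 → Subsingleton (Dual.HD R C i)) :
    ∀ i : ℤ, i < 0 → Subsingleton (Dual.HD R M i) := by
  intro i hi
  have hex := DerivedCategory.HomologySequence.exact₁ (Triangle.mk (f • 𝟙 M) g h) hT (i - 1) i (by omega)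
  have hsub := hC (i - 1) (by omega)
  have hδ : DerivedCategory.HomologySequence.δ (Triangle.mk (f • 𝟙 M) g h) (i - 1) i (by omega) = 0 := by
    refine ModuleCat.hom_ext (LinearMap.ext fun x => ?_)
    obtain rfl : x = 0 := @Subsingleton.elim _ hsub _ _
    simp
  have hmono : Mono ((DerivedCategory.homologyFunctor (ModuleCat.{u} R) i).map (f • 𝟙 M)) :=
    (DerivedCategory.HomologySequence.mono_homologyMap_mor₁_iff (Triangle.mk (f • 𝟙 M) g h) hT
      (i - 1) i (by omega)).mpr hδ
  rw [map_smul_id, ModuleCat.mono_iff_injective] at hmono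
  have hinj : ∀ x : Dual.HD R M i, f • x = 0 → x = 0 := fun x hx => hmono (by
    show f • x = f • (0 : Dual.HD R M i)
    rw [hx, smul_zero])
  refine subsingleton_of_forall_eq 0 fun x => ?_
  obtain ⟨k, hk⟩ := hloc i hi x
  induction k with
  | zero => simpa using hk
  | succ k ih => exact ih (hinj _ (by rw [smul_smul, ← pow_succ']; exact hk))

end Groth.Agent.S7160
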