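import Groth.Statements.S7161
import Mathlib
import Groth.Agent.Lib.FlatSyz.TorDim

set_option autoImplicit false
universe u
open CategoryTheory
open CAlg

namespace Groth.Agent.S7161


open CategoryTheory CategoryTheory.Limits MonoidalCategory TensorProduct Groth.Agent.FlatSyz

variable {A : Type u} [CommRing A]

/-- `g ⊗ P` sends every `p`-cycle to a boundary. -/
def ZeroOn {N₀ : ModuleCat.{u} A} (P : ProjectiveResolution N₀) {X Y : Type u} [AddCommGroup X]
    [Module A X] [AddCommGroup Y] [Module A Y] (g : X →ₗ[A] Y) : Prop :=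
  ∀ (p : ℕ) (z : X ⊗[A] P.complex.X p), (p ≠ 0 → (P.complex.d p (p - 1)).hom.lTensor X z = 0) →
    g.rTensor (P.complex.X p) z ∈ LinearMap.range ((P.complex.d (p + 1) p).hom.lTensor Y)

variable {N₀ : ModuleCat.{u} A} (P : ProjectiveResolution N₀)
variable {X Y Z : Type u} [AddCommGroup X] [Module A X] [AddCommGroup Y] [Module A Y]
  [AddCommGroup Z] [Module A Z]

theorem lr {U V W U' : Type u} [AddCommGroup U] [Module A U] [AddCommGroup V] [Module A V]
    [AddCommGroup W] [Module A W] [AddCommGroup U'] [Module A U'] (g : U →ₗ[A] V) (d : W →ₗ[A] U')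
    (z : U ⊗[A] W) : d.lTensor V (g.rTensor W z) = g.rTensor U' (d.lTensor U z) := by
  rw [← LinearMap.comp_apply, LinearMap.lTensor_comp_rTensor, ← LinearMap.rTensor_comp_lTensor,
    LinearMap.comp_apply]

theorem zeroOn_comp_right {g : X →ₗ[A] Y} (hg : ZeroOn P g) (h : Y →ₗ[A] Z) : ZeroOn P (h ∘ₗ g) := by
  intro p z hz
  obtain ⟨w, hw⟩ := hg p z hz
  refine ⟨h.rTensor _ w, ?_⟩
  rw [lr, hw, ← LinearMap.rTensor_comp_apply]

theorem zeroOn_comp_left {g : Y →ₗ[A] Z} (hg : ZeroOn P g) (k : X →ₗ[A] Y) : ZeroOn P (g ∘ₗ k) := by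
  intro p z hz
  rw [LinearMap.rTensor_comp_apply]
  exact hg p _ fun hp => by rw [lr, hz hp, map_zero]

theorem flat_res (p : ℕ) : Module.Flat A (P.complex.X p) := flat_X P p

theorem dd (p : ℕ) (z : X ⊗[A] P.complex.X (p + 2)) :
    (P.complex.d (p + 1) p).hom.lTensor X ((P.complex.d (p + 2) (p + 1)).hom.lTensor X z) = 0 := by
  rw [← LinearMap.lTensor_comp_apply, ← ModuleCat.hom_comp, HomologicalComplex.d_comp_d,
    ModuleCat.hom_zero, LinearMap.lTensor_zero, LinearMap.zero_apply]

theorem zeroOn_ext {a : Submodule A Y} (hι : ZeroOn P a.subtype) {g : X →ₗ[A] Y}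
    (hg : ZeroOn P (a.mkQ ∘ₗ g)) : ZeroOn P g := by
  intro p z hz
  haveI := flat_res P p
  obtain ⟨wbar, hw⟩ := hg p z hz
  obtain ⟨w, rfl⟩ := LinearMap.rTensor_surjective (P.complex.X (p + 1)) a.mkQ_surjective wbar
  rw [lr, LinearMap.rTensor_comp_apply] at hw
  have hmem : a.mkQ.rTensor (P.complex.X p)
      (g.rTensor _ z - (P.complex.d (p + 1) p).hom.lTensor Y w) = 0 := by
    rw [map_sub, hw, sub_self]
  obtain ⟨z', hz'⟩ := (rTensor_exact (P.complex.X p) (LinearMap.exact_subtype_mkQ a)
    a.mkQ_surjective _).1 hmem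
  obtain ⟨v, hv⟩ := hι p z' fun hp => by
    haveI := flat_res P (p - 1)
    refine Module.Flat.rTensor_preserves_injective_linearMap (M := P.complex.X (p - 1)) _
      a.injective_subtype ?_
    rw [← lr, hz', map_sub, lr, hz hp, map_zero, map_zero]
    obtain ⟨q, rfl⟩ : ∃ q, p = q + 1 := ⟨p - 1, by omega⟩
    rw [sub_eq_zero]
    exact (dd P q w).symm
  refine ⟨w + v, ?_⟩
  rw [map_add, hv, hz', add_sub_cancel]

theorem zeroOn_smul (f : A) (hf : ∀ y : N₀, f • y = 0) (X : Type u) [AddCommGroup X] [Module A X] :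
    ZeroOn P (f • (LinearMap.id : X →ₗ[A] X)) := by
  have h0 : f • (𝟙 N₀) = 0 := by
    ext y; exact hf y
  let H : Homotopy (f • 𝟙 P.complex) 0 := ProjectiveResolution.liftHomotopy (0 : N₀ ⟶ N₀) _ _ (by
    rw [Functor.map_zero, Limits.comp_zero]
    ext y
    show P.π.f 0 (f • y) = 0
    rw [map_smul]
    exact hf _) (by simp)
  intro p z hz
  have hfz : (f • (LinearMap.id : X →ₗ[A] X)).rTensor (P.complex.X p) z =
      ((f • 𝟙 P.complex).f p).hom.lTensor X z := by
    rw [LinearMap.rTensor_smul, LinearMap.rTensor_id]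
    show f • z = (f • (LinearMap.id : P.complex.X p →ₗ[A] P.complex.X p)).lTensor X z
    rw [LinearMap.lTensor_smul, LinearMap.lTensor_id]
    rfl
  rw [hfz, H.comm p, HomologicalComplex.zero_f, add_zero, Homotopy.prevD_chainComplex, ModuleCat.hom_add,
    LinearMap.lTensor_add, LinearMap.add_apply]
  refine add_mem ?_ ?_
  · rcases Nat.eq_zero_or_pos p with rfl | hp
    · rw [Homotopy.dNext_zero_chainComplex, ModuleCat.hom_zero, LinearMap.lTensor_zero,
        LinearMap.zero_apply]
      exact zero_mem _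
    · obtain ⟨q, rfl⟩ : ∃ q, p = q + 1 := ⟨p - 1, by omega⟩
      rw [dNext_eq _ (show (ComplexShape.down ℕ).Rel (q + 1) q from rfl), ModuleCat.hom_comp,
        LinearMap.lTensor_comp_apply,
        show (P.complex.d (q + 1) q).hom.lTensor X z = 0 from hz (Nat.succ_ne_zero q), map_zero]
      exact zero_mem _
  · rw [ModuleCat.hom_comp, LinearMap.lTensor_comp_apply]
    exact ⟨_, rfl⟩

theorem exists_zeroOn [IsNoetherianRing A] [DecidableEq A] :
    ∀ (s : Finset A), (∀ a ∈ s, ∀ y : N₀, a • y = 0) →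
      ∀ (M : Type u) [AddCommGroup M] [Module A M] [Module.Finite A M],
        ∃ n : ℕ, 0 < n ∧ ZeroOn P ((Ideal.span (s : Set A) ^ n) • ⊤ : Submodule A M).subtype := by
  intro s
  induction s using Finset.induction_on with
  | empty =>
    intro _ M _ _ _
    refine ⟨1, one_pos, fun p z _ => ⟨0, ?_⟩⟩
    have : ((Ideal.span ((∅ : Finset A) : Set A) ^ 1) • ⊤ : Submodule A M).subtype = 0 := by
      ext ⟨m, hm⟩
      simpa using hm
    rw [this, LinearMap.rTensor_zero, LinearMap.zero_apply, map_zero]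
  | insert f s hfs ih =>
    intro hs M _ _ _
    obtain ⟨c, hc⟩ := monotone_stabilizes_iff_noetherian.2 (inferInstance : IsNoetherian A M)
      ⟨fun n => LinearMap.ker ((f ^ n) • (LinearMap.id : M →ₗ[A] M)), fun i j hij m hm => by
        simp only [LinearMap.mem_ker, LinearMap.smul_apply, LinearMap.id_apply] at hm ⊢
        rw [← Nat.sub_add_cancel hij, pow_add, mul_smul, hm, smul_zero]⟩
    let a' : Submodule A M := LinearMap.range ((f ^ c) • (LinearMap.id : M →ₗ[A] M))
    let a : Submodule A M := LinearMap.range ((f ^ (c + 1)) • (LinearMap.id : M →ₗ[A] M))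
    let φ : a' →ₗ[A] a := (f • a'.subtype).codRestrict _ fun x => by
      obtain ⟨y, hy⟩ := x.2
      exact ⟨y, by
        show f ^ (c + 1) • y = f • (x : M)
        rw [← hy]
        show f ^ (c + 1) • y = f • f ^ c • y
        rw [smul_smul, ← pow_succ']⟩
    have hφ : Function.Bijective φ := by
      refine ⟨(injective_iff_map_eq_zero φ).2 fun x hx => Subtype.ext ?_, fun x => ?_⟩
      · obtain ⟨y, hy⟩ := x.2
        have h1 : f • (f ^ c • y) = 0 := by
          rw [show f ^ c • y = (x : M) from hy]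
          exact congrArg Subtype.val hx
        rw [smul_smul, ← pow_succ'] at h1
        have h2 : f ^ c • y = 0 := by
          have h3 : y ∈ LinearMap.ker ((f ^ (c + 1)) • (LinearMap.id : M →ₗ[A] M)) := h1
          rw [show LinearMap.ker ((f ^ (c + 1)) • (LinearMap.id : M →ₗ[A] M)) =
            LinearMap.ker ((f ^ c) • (LinearMap.id : M →ₗ[A] M)) from (hc (c + 1) (by omega)).symm] at h3
          exact h3
        exact hy.symm.trans h2
      · obtain ⟨y, hy⟩ := x.2
        refine ⟨⟨f ^ c • y, y, rfl⟩, Subtype.ext ?_⟩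
        rw [← hy]
        show f • f ^ c • y = f ^ (c + 1) • y
        rw [smul_smul, ← pow_succ']
    let e := LinearEquiv.ofBijective φ hφ
    have hι : ZeroOn P a.subtype := by
      have : a.subtype = (a'.subtype ∘ₗ (f • LinearMap.id)) ∘ₗ e.symm.toLinearMap := by
        ext x
        obtain ⟨y, rfl⟩ := e.surjective x
        rw [LinearMap.comp_apply, LinearEquiv.coe_toLinearMap, e.symm_apply_apply]
        rfl
      rw [this]
      exact zeroOn_comp_left P (zeroOn_comp_right P
        (zeroOn_smul P f (fun y => hs f (Finset.mem_insert_self f s) y) a') _) _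
    obtain ⟨k, hk0, hk⟩ := ih (fun b hb => hs b (Finset.mem_insert_of_mem hb)) (M ⧸ a)
    refine ⟨c + 1 + k, by omega, zeroOn_ext P hι ?_⟩
    let J := Ideal.span (s : Set A)
    have hle : (Ideal.span ((insert f s : Finset A) : Set A) ^ (c + 1 + k) • ⊤ : Submodule A M) ≤
        (J ^ k • ⊤ : Submodule A (M ⧸ a)).comap a.mkQ := by
      rw [Finset.coe_insert, Ideal.span_insert]
      refine (Submodule.smul_mono_left Ideal.sup_pow_add_le_pow_sup_pow).trans ?_
      rw [Submodule.sup_smul, sup_le_iff, Ideal.span_singleton_pow]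
      refine ⟨Submodule.smul_le.2 fun b hb m _ => ?_, ?_⟩
      · obtain ⟨d, rfl⟩ := Ideal.mem_span_singleton'.1 hb
        have : a.mkQ ((d * f ^ (c + 1)) • m) = 0 :=
          (Submodule.Quotient.mk_eq_zero a).2 ⟨d • m, by
            show f ^ (c + 1) • d • m = _
            rw [smul_smul, mul_comm]⟩
        rw [Submodule.mem_comap, this]
        exact zero_mem _
      · rw [← Submodule.map_le_iff_le_comap, Submodule.map_smul'']
        exact Submodule.smul_mono le_rfl le_top
    exact zeroOn_comp_left P hk ((a.mkQ ∘ₗ Submodule.subtype _).codRestrict _ fun m => hle m.2)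

theorem homologyMap_eq_zero {S T : ShortComplex (ModuleCat.{u} A)} (φ : S ⟶ T)
    (h : ∀ x, S.g x = 0 → φ.τ₂ x ∈ LinearMap.range T.f.hom) : ShortComplex.homologyMap φ = 0 := by
  rw [← cancel_epi S.homologyπ, ShortComplex.homologyπ_naturality, comp_zero]
  rw [← cancel_epi S.moduleCatCyclesIso.inv, comp_zero]
  ext x
  obtain ⟨w, hw⟩ := h x.1 x.2
  have : ShortComplex.cyclesMap φ (S.moduleCatCyclesIso.inv x) = T.toCycles w := by
    refine (ModuleCat.mono_iff_injective T.iCycles).1 inferInstance ?_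
    rw [← ConcreteCategory.comp_apply, ← ConcreteCategory.comp_apply T.toCycles T.iCycles,
      ShortComplex.cyclesMap_i, ShortComplex.toCycles_i, ConcreteCategory.comp_apply,
      ShortComplex.moduleCatCyclesIso_inv_iCycles_apply]
    exact hw.symm
  show T.homologyπ (ShortComplex.cyclesMap φ (S.moduleCatCyclesIso.inv x)) = 0
  rw [this, ← ConcreteCategory.comp_apply, ShortComplex.toCycles_comp_homologyπ]
  rfl

theorem tor_map_eq_zero {X Y : Type u} [AddCommGroup X] [Module A X] [AddCommGroup Y] [Module A Y]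
    (g : X →ₗ[A] Y) (hg : ZeroOn P g) (p : ℕ) :
    ((Tor (ModuleCat.{u} A) p).map (ModuleCat.ofHom g)).app N₀ = 0 := by
  show (NatTrans.leftDerived ((tensoringLeft _).map (ModuleCat.ofHom g)) p).app N₀ = 0
  rw [ProjectiveResolution.leftDerived_app_eq _ P p]
  rw [show (HomologicalComplex.homologyFunctor (ModuleCat.{u} A) (ComplexShape.down ℕ) p).map
      ((NatTrans.mapHomologicalComplex ((tensoringLeft (ModuleCat.{u} A)).map (ModuleCat.ofHom g))
        (ComplexShape.down ℕ)).app P.complex) = 0 from ?_, zero_comp, comp_zero]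
  show HomologicalComplex.homologyMap ((NatTrans.mapHomologicalComplex
    ((tensoringLeft (ModuleCat.{u} A)).map (ModuleCat.ofHom g)) (ComplexShape.down ℕ)).app P.complex) p = 0
  refine homologyMap_eq_zero _ fun x hx => ?_
  have h := hg p x (by
    intro hp
    obtain ⟨q, rfl⟩ : ∃ q, p = q + 1 := ⟨p - 1, by omega⟩
    change ((((tensoringLeft (ModuleCat.{u} A)).obj (ModuleCat.of A X)).mapHomologicalComplex
      (ComplexShape.down ℕ)).obj P.complex).d (q + 1) ((ComplexShape.down ℕ).next (q + 1)) x = 0 at hx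
    rw [ChainComplex.next_nat_succ] at hx
    exact hx)
  change _ ∈ LinearMap.range (((((tensoringLeft (ModuleCat.{u} A)).obj (ModuleCat.of A Y)).mapHomologicalComplex
    (ComplexShape.down ℕ)).obj P.complex).d ((ComplexShape.down ℕ).prev p) p).hom
  rw [ChainComplex.prev]
  exact h



/-- Let A be a Noetherian ring, I an ideal, M a finite A-module and N an A-module annihilated by I. Then
there is an integer n > 0 such that the maps Tor_p^A(IⁿM, N) → Tor_p^A(M, N) induced by IⁿM ⊆ M are
zero for all p ≥ 0. -/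
theorem result (A : Type u) [CommRing A] [IsNoetherianRing A] (I : Ideal A)
    (M N : Type u) [AddCommGroup M] [Module A M] [Module.Finite A M] [AddCommGroup N] [Module A N]
    (hN : ∀ a ∈ I, ∀ y : N, a • y = 0) :
    ∃ n : ℕ, 0 < n ∧ ∀ p : ℕ,
      ((CategoryTheory.Tor (ModuleCat.{u} A) p).map (ModuleCat.ofHom (I ^ n • ⊤ : Submodule A M).subtype)).app
        (ModuleCat.of A N) = 0 := by
  classical
  obtain ⟨s, rfl⟩ : ∃ s : Finset A, Ideal.span (s : Set A) = I := IsNoetherian.noetherian I
  obtain ⟨n, hn, h⟩ := exists_zeroOn (ProjectiveResolution.of (ModuleCat.of A N)) s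
    (fun a ha y => hN a (Ideal.subset_span ha) y) M
  exact ⟨n, hn, fun p => tor_map_eq_zero _ _ h p⟩

end Groth.Agent.S7161
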