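import Groth.Statements.S7162
import Groth.Agent.Lib.EtRamH7.Reflect
import Groth.Agent.S0537
import Groth.Agent.S0538
import Groth.Agent.S0539
import Mathlib.FieldTheory.Normal.Closure

set_option linter.style.haveILetI false

set_option autoImplicit false
universe u
open EtAlg

namespace Groth.Agent.S7162

/-- Let A → B be an injective local homomorphism of discrete valuation rings whose fields of fractions
are K ⊆ L. There is a commutative square of such extensions A ⊆ A', B ⊆ B', A' ⊆ B' (with fraction
fields K', L') such that (1) K'/K and L'/L are separable algebraic, (2) the residue field of A' is a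
separable algebraic closure of that of A, and likewise for B' over B, and (3) whenever A' ⊆ B'
admits a solution (respectively a separable solution), so does A ⊆ B. (The published statement
asserts (3) for weak solutions as well; that clause is left out here: a weak solution for A' ⊆ B'
descends to a finite extension of K but controls only those local extensions attached to embeddings
compatible with K ⊆ K', and weak solutions, unlike solutions, are not preserved under passing to a
normal closure; the clause can fail when the residue field of A is not separably closed in that of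
B.) -/
theorem result (A B K L : Type u) [CommRing A] [IsDomain A]
    [IsDiscreteValuationRing A] [CommRing B] [IsDomain B] [IsDiscreteValuationRing B] [Algebra A B]
    (hinj : Function.Injective (algebraMap A B)) [IsLocalHom (algebraMap A B)]
    [Field K] [Field L] [Algebra A K] [IsFractionRing A K] [Algebra B L] [IsFractionRing B L]
    [Algebra K L] [Algebra A L] [IsScalarTower A K L] [IsScalarTower A B L] :
    ∃ (A' B' K' L' : Type u) (_ : CommRing A') (_ : IsDomain A') (_ : IsDiscreteValuationRing A')
      (_ : CommRing B') (_ : IsDomain B') (_ : IsDiscreteValuationRing B') (_ : Field K') (_ : Field L')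
      (_ : Algebra A A') (_ : Algebra B B') (_ : Algebra A' B') (_ : Algebra A B')
      (_ : IsScalarTower A B B') (_ : IsScalarTower A A' B')
      (_ : Algebra A' K') (_ : IsFractionRing A' K') (_ : Algebra B' L') (_ : IsFractionRing B' L')
      (_ : Algebra K' L') (_ : Algebra A' L') (_ : IsScalarTower A' K' L') (_ : IsScalarTower A' B' L')
      (_ : Algebra K K') (_ : Algebra A K') (_ : IsScalarTower A K K') (_ : IsScalarTower A A' K')
      (_ : Algebra L L') (_ : Algebra B L') (_ : IsScalarTower B L L') (_ : IsScalarTower B B' L')
      (hA : IsLocalHom (algebraMap A A')) (hB : IsLocalHom (algebraMap B B')) (_ : IsLocalHom (algebraMap A' B')),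
      Function.Injective (algebraMap A A') ∧ Function.Injective (algebraMap B B') ∧
      Function.Injective (algebraMap A' B') ∧
      Algebra.IsSeparable K K' ∧ Algebra.IsSeparable L L' ∧
      (letI := (IsLocalRing.ResidueField.map (algebraMap A A')).toAlgebra
       IsSepClosure (IsLocalRing.ResidueField A) (IsLocalRing.ResidueField A')) ∧
      (letI := (IsLocalRing.ResidueField.map (algebraMap B B')).toAlgebra
       IsSepClosure (IsLocalRing.ResidueField B) (IsLocalRing.ResidueField B')) ∧
      ((∃ (K₁ : Type u) (_ : Field K₁) (_ : Algebra K' K₁), FiniteDimensional K' K₁ ∧ EtRam.IsSolution B' K' L' K₁) →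
        ∃ (K₁ : Type u) (_ : Field K₁) (_ : Algebra K K₁), FiniteDimensional K K₁ ∧ EtRam.IsSolution B K L K₁) ∧
      ((∃ (K₁ : Type u) (_ : Field K₁) (_ : Algebra K' K₁), FiniteDimensional K' K₁ ∧ Algebra.IsSeparable K' K₁ ∧
          EtRam.IsSolution B' K' L' K₁) →
        ∃ (K₁ : Type u) (_ : Field K₁) (_ : Algebra K K₁), FiniteDimensional K K₁ ∧ Algebra.IsSeparable K K₁ ∧
          EtRam.IsSolution B K L K₁) := by
  classical
  obtain ⟨A', _, _, _, hA, _⟩ := Groth.Agent.S0537.result A
  obtain ⟨B', _, _, _, hB, _⟩ := Groth.Agent.S0537.result B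
  obtain ⟨_, _⟩ := Groth.Agent.EtRamH7.dvr_strictHenselization A A'
  obtain ⟨_, _⟩ := Groth.Agent.EtRamH7.dvr_strictHenselization B B'
  haveI := Groth.Agent.S0539.result A A'
  haveI := Groth.Agent.S0539.result B B'
  have hiA : Function.Injective (algebraMap A A') := FaithfulSMul.algebraMap_injective A A'
  have hiB : Function.Injective (algebraMap B B') := FaithfulSMul.algebraMap_injective B B'
  haveI : HenselianLocalRing B' := Hensel.IsStrictHenselization.henselian (R := B)
  haveI : IsSepClosure (IsLocalRing.ResidueField A) (IsLocalRing.ResidueField A') :=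
    Hensel.IsStrictHenselization.isSepClosure
  haveI : IsSepClosure (IsLocalRing.ResidueField B) (IsLocalRing.ResidueField B') :=
    Hensel.IsStrictHenselization.isSepClosure
  haveI : IsSepClosed (IsLocalRing.ResidueField B') := IsSepClosure.sep_closed (IsLocalRing.ResidueField B)
  haveI : Algebra.IsSeparable (IsLocalRing.ResidueField A) (IsLocalRing.ResidueField A') := IsSepClosure.separable
  let f : A →+* B' := (algebraMap B B').comp (algebraMap A B)
  haveI : IsLocalHom f := RingHom.isLocalHom_comp _ _
  letI : Algebra (IsLocalRing.ResidueField A) (IsLocalRing.ResidueField B') :=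
    (IsLocalRing.ResidueField.map f).toAlgebra
  let τ : IsLocalRing.ResidueField A' →ₐ[IsLocalRing.ResidueField A] IsLocalRing.ResidueField B' := IsSepClosed.lift
  have hτ : τ.toRingHom.comp (IsLocalRing.ResidueField.map (algebraMap A A')) = IsLocalRing.ResidueField.map f := by
    refine RingHom.ext fun r => ?_
    obtain ⟨r, rfl⟩ := IsLocalRing.residue_surjective r
    exact τ.commutes (IsLocalRing.residue A r)
  obtain ⟨g, ⟨hg, hres⟩, -⟩ :=
    Hensel.IsStrictHenselization.universal (R := A) (S := A') B' f τ.toRingHom hτ
  letI : Algebra A' B' := g.toAlgebra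
  haveI hgloc : IsLocalHom (algebraMap A' B') := by
    refine ⟨fun x hx => ?_⟩
    by_contra hnu
    have h1 := hres x
    rw [(IsLocalRing.residue_eq_zero_iff x).2 ((IsLocalRing.mem_maximalIdeal x).2 hnu), map_zero,
      IsLocalRing.residue_eq_zero_iff] at h1
    exact (IsLocalRing.mem_maximalIdeal _).1 h1 hx
  have hinj' : Function.Injective (algebraMap A' B') := by
    rw [RingHom.injective_iff_ker_eq_bot]
    by_contra hne
    obtain ⟨π, hπ⟩ := IsDiscreteValuationRing.exists_irreducible A
    haveI : (RingHom.ker (algebraMap A' B')).IsPrime := RingHom.ker_isPrime _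
    have hker : RingHom.ker (algebraMap A' B') = IsLocalRing.maximalIdeal A' :=
      IsLocalRing.eq_maximalIdeal (Ideal.IsPrime.isMaximal inferInstance hne)
    have hm : algebraMap A A' π ∈ IsLocalRing.maximalIdeal A' :=
      (((IsLocalRing.local_hom_TFAE (algebraMap A A')).out 0 2 rfl rfl).1 inferInstance
        (Ideal.mem_map_of_mem _ ((IsLocalRing.mem_maximalIdeal π).2 hπ.not_isUnit)))
    rw [← hker, RingHom.mem_ker] at hm
    have h0 : algebraMap B B' (algebraMap A B π) = 0 := (DFunLike.congr_fun hg π).symm.trans hm
    exact hπ.ne_zero ((map_eq_zero_iff _ hinj).1 ((map_eq_zero_iff _ hiB).1 h0))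
  letI : Algebra A B' := f.toAlgebra
  haveI : IsScalarTower A B B' := IsScalarTower.of_algebraMap_eq fun _ => rfl
  haveI : IsScalarTower A A' B' := IsScalarTower.of_algebraMap_eq fun x => (DFunLike.congr_fun hg x).symm
  let K' := FractionRing A'
  let L' := FractionRing B'
  haveI : IsScalarTower A A' K' := inferInstance
  have hiK : Function.Injective (algebraMap A K') := by rw [IsScalarTower.algebraMap_eq A A' K']; exact (IsFractionRing.injective A' K').comp hiA
  letI : Algebra K K' := (IsFractionRing.lift hiK).toAlgebra
  haveI : IsScalarTower A K K' :=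
    IsScalarTower.of_algebraMap_eq fun x => (IsFractionRing.lift_algebraMap hiK x).symm
  haveI : IsScalarTower B B' L' := inferInstance
  have hiL : Function.Injective (algebraMap B L') := by rw [IsScalarTower.algebraMap_eq B B' L']; exact (IsFractionRing.injective B' L').comp hiB
  letI : Algebra L L' := (IsFractionRing.lift hiL).toAlgebra
  haveI : IsScalarTower B L L' :=
    IsScalarTower.of_algebraMap_eq fun x => (IsFractionRing.lift_algebraMap hiL x).symm
  haveI : IsScalarTower A' B' L' := inferInstance
  have hiKL : Function.Injective (algebraMap A' L') := by rw [IsScalarTower.algebraMap_eq A' B' L']; exact (IsFractionRing.injective B' L').comp hinj'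
  letI : Algebra K' L' := (IsFractionRing.lift hiKL).toAlgebra
  haveI : IsScalarTower A' K' L' :=
    IsScalarTower.of_algebraMap_eq fun x => (IsFractionRing.lift_algebraMap hiKL x).symm
  have hsq : ∀ x : K, algebraMap K' L' (algebraMap K K' x) = algebraMap L L' (algebraMap K L x) := by
    intro x
    have : (algebraMap K' L').comp (algebraMap K K') = (algebraMap L L').comp (algebraMap K L) := by
      refine IsLocalization.ringHom_ext (nonZeroDivisors A) (RingHom.ext fun a => ?_)
      show algebraMap K' L' (algebraMap K K' (algebraMap A K a)) = algebraMap L L' (algebraMap K L (algebraMap A K a))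
      rw [← IsScalarTower.algebraMap_apply A K K', IsScalarTower.algebraMap_apply A A' K',
        ← IsScalarTower.algebraMap_apply A' K' L', IsScalarTower.algebraMap_apply A' B' L',
        ← IsScalarTower.algebraMap_apply A A' B', ← IsScalarTower.algebraMap_apply A K L,
        IsScalarTower.algebraMap_apply A B L, ← IsScalarTower.algebraMap_apply B L L',
        IsScalarTower.algebraMap_apply A B B', ← IsScalarTower.algebraMap_apply B B' L']
    exact DFunLike.congr_fun this x
  haveI hsepK : Algebra.IsSeparable K K' := Groth.Agent.EtRamH7.isSeparable_strictHenselization A A' K K'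
  have hsepL : Algebra.IsSeparable L L' := Groth.Agent.EtRamH7.isSeparable_strictHenselization B B' L L'
  haveI := Groth.Agent.EtRamH7.geomRed_of_separable (IsLocalRing.ResidueField A) (IsLocalRing.ResidueField A')
  haveI : Algebra.IsAlgebraic K K' := inferInstance
  have hwA : EtRam.IsWeaklyUnramified A A' := Groth.Agent.S0538.result A A'
  have hkey : ∀ (K₁ : Type u) [Field K₁] [Algebra K' K₁] [FiniteDimensional K' K₁],
      EtRam.IsSolution B' K' L' K₁ → ∃ (K₀ : Type u) (_ : Field K₀) (_ : Algebra K K₀),
        FiniteDimensional K K₀ ∧ EtRam.IsSolution B K L K₀ ∧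
          (Algebra.IsSeparable K' K₁ → Algebra.IsSeparable K K₀) := by
    intro K₁ _ _ _ hsol
    let Ω := AlgebraicClosure K'
    haveI : Algebra.IsAlgebraic K Ω := Algebra.IsAlgebraic.trans K K' Ω
    haveI : IsAlgClosure K Ω := ⟨inferInstance, inferInstance⟩
    haveI : Normal K Ω := IsAlgClosure.normal K Ω
    let ι : K₁ →ₐ[K'] Ω := IsAlgClosed.lift
    let b := Module.finBasis K' K₁
    let S : Set Ω := Set.range fun i => ι (b i)
    let E : IntermediateField K Ω := IntermediateField.adjoin K S
    haveI : Finite S := Set.finite_range _ |>.to_subtype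
    haveI : FiniteDimensional K E :=
      IntermediateField.finiteDimensional_adjoin fun x _ => (Algebra.IsAlgebraic.isAlgebraic x).isIntegral
    let K₀ : IntermediateField K Ω := IntermediateField.normalClosure K E Ω
    have hEK₀ : E ≤ K₀ := E.le_normalClosure
    let K₂ : IntermediateField K' Ω := IntermediateField.adjoin K' (K₀ : Set Ω)
    let ι₀ : K₀ →ₐ[K] K₂ :=
      { toFun := fun x => ⟨x.1, IntermediateField.subset_adjoin K' _ x.2⟩
        map_one' := rfl
        map_mul' := fun _ _ => rfl
        map_zero' := rfl
        map_add' := fun _ _ => rfl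
        commutes' := fun _ => rfl }
    have hgen₀ : Algebra.adjoin K' (Set.range ι₀) = ⊤ :=
      Groth.Agent.EtRamH7.adjoin_range_codRestrict_eq_top (fun x : K₀ => (x : Ω)) K₂
        (by rw [Subtype.range_coe_subtype]; rfl) (fun x => (Algebra.IsAlgebraic.isAlgebraic (x : Ω)).isIntegral)
        ι₀ (fun _ => rfl)
    haveI : FiniteDimensional K' K₂ := Groth.Agent.EtRamH7.finite_of_adjoin_eq_top' K K' K₀ K₂ ι₀ hgen₀
    have hι : ∀ x, ι x ∈ K₂ := by
      intro x
      rw [← b.sum_repr x, map_sum]
      refine sum_mem fun i _ => ?_
      rw [map_smul]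
      exact K₂.smul_mem (IntermediateField.subset_adjoin K' _
        (hEK₀ (IntermediateField.subset_adjoin K S ⟨i, rfl⟩)))
    let ι₁ : K₁ →ₐ[K'] K₂ :=
      { ι.toRingHom.codRestrict K₂ hι with commutes' := fun r => Subtype.ext (ι.commutes r) }
    refine ⟨K₀, inferInstance, inferInstance, inferInstance,
      Groth.Agent.EtRamH7.solution_descend A B K L A' B' K' L' hsq hwA hiA K₁ hsol K₀ K₂ ι₁ ι₀ hgen₀, fun hs => ?_⟩
    haveI := hs
    have hsepS : ∀ x ∈ S, IsSeparable K x := by
      rintro _ ⟨i, rfl⟩
      have h1 : IsSeparable K' (ι (b i)) :=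
        (Algebra.IsSeparable.isSeparable K' (b i)).map ι ι.toRingHom.injective
      exact IsSeparable.of_algebra_isSeparable_of_isSeparable K h1
    haveI : Algebra.IsSeparable K E := (IntermediateField.isSeparable_adjoin_iff_isSeparable K Ω).2 hsepS
    haveI : ∀ φ : E →ₐ[K] Ω, Algebra.IsSeparable K φ.fieldRange := fun φ =>
      AlgEquiv.Algebra.isSeparable (AlgEquiv.ofInjectiveField φ)
    show Algebra.IsSeparable K (IntermediateField.normalClosure K E Ω)
    rw [normalClosure_def]
    infer_instance
  refine ⟨A', B', K', L', inferInstance, inferInstance, inferInstance, inferInstance, inferInstance, inferInstance,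
    inferInstance, inferInstance, inferInstance, inferInstance, inferInstance, inferInstance, inferInstance,
    inferInstance, inferInstance, inferInstance, inferInstance, inferInstance, inferInstance, inferInstance,
    inferInstance, inferInstance, inferInstance, inferInstance, inferInstance, inferInstance, inferInstance,
    inferInstance, inferInstance, inferInstance, hA, hB, hgloc, hiA, hiB, hinj', hsepK, hsepL, ?_, ?_, ?_, ?_⟩
  · convert (inferInstance : IsSepClosure (IsLocalRing.ResidueField A) (IsLocalRing.ResidueField A'))
    exact Algebra.algebra_ext _ _ fun r => by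
      obtain ⟨r, rfl⟩ := IsLocalRing.residue_surjective r
      rfl
  · convert (inferInstance : IsSepClosure (IsLocalRing.ResidueField B) (IsLocalRing.ResidueField B'))
    exact Algebra.algebra_ext _ _ fun r => by
      obtain ⟨r, rfl⟩ := IsLocalRing.residue_surjective r
      rfl
  · rintro ⟨K₁, _, _, _, hsol⟩
    obtain ⟨K₀, _, _, h1, h2, -⟩ := hkey K₁ hsol
    exact ⟨K₀, inferInstance, inferInstance, h1, h2⟩
  · rintro ⟨K₁, _, _, _, hs, hsol⟩
    obtain ⟨K₀, _, _, h1, h2, h3⟩ := hkey K₁ hsol
    exact ⟨K₀, inferInstance, inferInstance, h1, h3 hs, h2⟩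

end Groth.Agent.S7162
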