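import Groth.Statements.S7164
import Groth.Agent.Lib.CAlgLow.PCExtAR

set_option autoImplicit false
universe u
open CategoryTheory
attribute [local instance] HasDerivedCategory.standard
open CAlg

namespace Groth.Agent.S7164

/-- Let A be a Noetherian ring, I an ideal, K a pseudo-coherent object of D(A) and a an integer. Assume
that for every finite A-module M and every i ≥ a the module Ext^i_A(K, M) is I-power torsion. Then
for i ≥ a and M finite the inverse system (Ext^i_A(K, M/IⁿM))_n is essentially constant with value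
Ext^i_A(K, M) (so that Ext^i_A(K, M) = lim Ext^i_A(K, M/IⁿM)): concretely, some comparison map
Ext^i(K, M) → Ext^i(K, M/I^mM) is injective and for every n there is m' ≥ n such that the image of
the transition map Ext^i(K, M/I^(m')M) → Ext^i(K, M/IⁿM) is contained in the image of Ext^i(K, M).
Here Ext^i(K, X) = Hom_{D(A)}(K, X[i]). -/
theorem result (A : Type u) [CommRing A] [IsNoetherianRing A]
    (I : Ideal A) (K : Dual.D A) (hK : DRing.IsPseudoCoherent' A K) (a : ℤ)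
    (htors : ∀ (M : Type u) [AddCommGroup M] [Module A M], Module.Finite A M → ∀ i : ℤ, a ≤ i →
      ∀ e : K ⟶ (Dual.inD A M)⟦i⟧, ∃ n : ℕ, ∀ x ∈ I ^ n, x • e = 0)
    (M : Type u) [AddCommGroup M] [Module A M] [Module.Finite A M] (i : ℤ) (hi : a ≤ i) :
    let Mq : ℕ → Submodule A M := fun n => I ^ n • ⊤
    let c : ∀ n : ℕ, (K ⟶ (Dual.inD A M)⟦i⟧) → (K ⟶ (Dual.inD A (M ⧸ Mq n))⟦i⟧) :=
      fun n e => e ≫ ((DerivedCategory.singleFunctor (ModuleCat.{u} A) 0).map (ModuleCat.ofHom (Mq n).mkQ))⟦i⟧'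
    let t : ∀ n m : ℕ, n ≤ m → (K ⟶ (Dual.inD A (M ⧸ Mq m))⟦i⟧) → (K ⟶ (Dual.inD A (M ⧸ Mq n))⟦i⟧) :=
      fun n m hnm e => e ≫ ((DerivedCategory.singleFunctor (ModuleCat.{u} A) 0).map (ModuleCat.ofHom
        (Submodule.mapQ (Mq m) (Mq n) (LinearMap.id : M →ₗ[A] M) (Submodule.smul_mono_left (Ideal.pow_le_pow_right hnm)))))⟦i⟧'
    (∃ m : ℕ, Function.Injective (c m)) ∧
      ∀ n : ℕ, ∃ (m' : ℕ) (hnm : n ≤ m'), Set.range (t n m' hnm) ⊆ Set.range (c n) := by
  intro Mq c t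
  obtain ⟨E, b, hb, hE, ⟨e⟩⟩ := hK
  haveI := (Groth.Agent.DMod.vanishesAbove_iff E b).1 hb
  haveI : E.IsKProjective := Groth.Agent.DMod.isKProjective b fun i => have := (hE i).2; inferInstance
  haveI : ∀ j, Module.Projective A (E.X j) := fun j => have := (hE j).2; inferInstance
  have htors' : ∀ (N : Type u) [AddCommGroup N] [Module A N] [Module.Finite A N] (q : ℤ), a ≤ q →
      ∀ x : K ⟶ (Dual.inD A N)⟦q⟧, ∃ n : ℕ, ∀ r ∈ I ^ n, r • x = 0 := fun N _ _ hN q hq x => htors N hN q hq x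
  let j : ℤ := -i
  constructor
  · obtain ⟨m₀, hm₀⟩ := Groth.Agent.PCExt.exists_coboundary hE e j i (by omega) I M (htors' M i hi)
    refine ⟨m₀, fun x y hxy => ?_⟩
    obtain ⟨φ, rfl⟩ := Groth.Agent.PCExt.cls_surjective e j i (by omega) M x
    obtain ⟨φ', rfl⟩ := Groth.Agent.PCExt.cls_surjective e j i (by omega) M y
    rw [← sub_eq_zero, ← map_sub, Groth.Agent.PCExt.cls_eq_zero_iff]
    let δ := φ - φ'
    let δb : Groth.Agent.PCExt.Z E j (M ⧸ Mq m₀) := ⟨(Mq m₀).mkQ ∘ₗ δ.1, by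
      rw [LinearMap.mem_ker, LinearMap.lcomp_apply', LinearMap.comp_assoc, show δ.1 ∘ₗ (E.d (j - 1) j).hom = 0 from δ.2, LinearMap.comp_zero]⟩
    have h0 : Groth.Agent.PCExt.cls e j i (by omega) (M ⧸ Mq m₀) δb = 0 := by
      rw [← Groth.Agent.PCExt.cls_natural e j i (by omega) _ δ δb rfl, map_sub, Preadditive.sub_comp, sub_eq_zero]
      exact hxy
    obtain ⟨θ', hθ'⟩ := (Groth.Agent.PCExt.cls_eq_zero_iff e j i (by omega) _ δb).1 h0
    obtain ⟨θ, hθ⟩ := Module.projective_lifting_property (Mq m₀).mkQ θ' (Submodule.mkQ_surjective _)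
    let ε : Groth.Agent.PCExt.Z E j M := ⟨δ.1 - θ ∘ₗ (E.d j (j + 1)).hom, by
      rw [LinearMap.mem_ker, LinearMap.lcomp_apply', LinearMap.sub_comp, show δ.1 ∘ₗ (E.d (j - 1) j).hom = 0 from δ.2,
        LinearMap.comp_assoc, ← ModuleCat.hom_comp, E.d_comp_d, ModuleCat.hom_zero, LinearMap.comp_zero, sub_zero]⟩
    obtain ⟨θ₂, hθ₂⟩ := hm₀ m₀ le_rfl ε fun z => by
      show δ.1 z - θ ((E.d j (j + 1)).hom z) ∈ Mq m₀
      rw [← Submodule.Quotient.mk_eq_zero, Submodule.Quotient.mk_sub, sub_eq_zero]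
      exact (LinearMap.congr_fun hθ' z).trans (LinearMap.congr_fun hθ _).symm
    exact ⟨θ + θ₂, by rw [LinearMap.add_comp, ← hθ₂]; exact (add_sub_cancel _ _).symm⟩
  · intro n
    let N : Submodule A M := I ^ n • ⊤
    haveI : Module.Finite A N := Module.Finite.iff_fg.2 (IsNoetherian.noetherian _)
    obtain ⟨m₀, hm₀⟩ := Groth.Agent.PCExt.exists_coboundary hE e (j - 1) (i + 1) (by omega) I N (htors' N (i + 1) (by omega))
    refine ⟨n + m₀, by omega, ?_⟩
    rintro _ ⟨x, rfl⟩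
    obtain ⟨ψ, rfl⟩ := Groth.Agent.PCExt.cls_surjective e j i (by omega) (M ⧸ Mq (n + m₀)) x
    obtain ⟨φ, hφ⟩ := Module.projective_lifting_property (Mq (n + m₀)).mkQ ψ.1 (Submodule.mkQ_surjective _)
    have hpow : Mq (n + m₀) = I ^ m₀ • N := by
      show I ^ (n + m₀) • ⊤ = I ^ m₀ • (I ^ n • ⊤ : Submodule A M)
      rw [← Submodule.smul_assoc, Ideal.smul_eq_mul, ← pow_add, add_comm]
    have hmem : ∀ z, φ ((E.d (j - 1) j).hom z) ∈ I ^ m₀ • N := fun z => by
      rw [← hpow, ← Submodule.Quotient.mk_eq_zero]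
      exact (LinearMap.congr_fun hφ _).trans (LinearMap.congr_fun (show ψ.1 ∘ₗ (E.d (j - 1) j).hom = 0 from ψ.2) z)
    let w : Groth.Agent.PCExt.Z E (j - 1) N :=
      ⟨(φ ∘ₗ (E.d (j - 1) j).hom).codRestrict N fun z => Submodule.smul_le_right (hmem z), by
        rw [LinearMap.mem_ker, LinearMap.lcomp_apply']
        ext z
        show φ ((E.d (j - 1) j).hom ((E.d (j - 1 - 1) (j - 1)).hom z)) = 0
        rw [← LinearMap.comp_apply (E.d (j - 1) j).hom, ← ModuleCat.hom_comp, E.d_comp_d]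
        simp⟩
    obtain ⟨θ, hθ⟩ := hm₀ m₀ le_rfl w fun z => by
      obtain ⟨y, hy, hyz⟩ : φ ((E.d (j - 1) j).hom z) ∈ Submodule.map N.subtype (I ^ m₀ • ⊤) := by
        rw [Submodule.map_smul'', Submodule.map_top, Submodule.range_subtype]
        exact hmem z
      rwa [show w.1 z = y from Subtype.ext hyz.symm]
    -- transport along `j - 1 + 1 = j`
    obtain ⟨θ, hθ⟩ : ∃ θ' : E.X j →ₗ[A] N, w.1 = θ' ∘ₗ (E.d (j - 1) j).hom := by
      have aux : ∀ l, l = j - 1 + 1 → ∃ θ' : E.X l →ₗ[A] N, w.1 = θ' ∘ₗ (E.d (j - 1) l).hom := by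
        rintro l rfl
        exact ⟨θ, hθ⟩
      exact aux j (by omega)
    let φ' : Groth.Agent.PCExt.Z E j M := ⟨φ - N.subtype ∘ₗ θ, by
      rw [LinearMap.mem_ker, LinearMap.lcomp_apply', LinearMap.sub_comp, LinearMap.comp_assoc, ← hθ]
      ext z
      exact sub_self _⟩
    let ψ' : Groth.Agent.PCExt.Z E j (M ⧸ Mq n) := ⟨(Mq n).mkQ ∘ₗ φ'.1, by
      rw [LinearMap.mem_ker, LinearMap.lcomp_apply', LinearMap.comp_assoc, show φ'.1 ∘ₗ (E.d (j - 1) j).hom = 0 from φ'.2, LinearMap.comp_zero]⟩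
    refine ⟨Groth.Agent.PCExt.cls e j i (by omega) M φ', ?_⟩
    refine (Groth.Agent.PCExt.cls_natural e j i (by omega) _ φ' ψ' rfl).trans
      (Groth.Agent.PCExt.cls_natural e j i (by omega) _ ψ ψ' ?_).symm
    ext z
    show (Mq n).mkQ (φ z - (θ z : M)) = _
    rw [map_sub, show (Mq n).mkQ (θ z : M) = 0 from (Submodule.Quotient.mk_eq_zero _).2 (θ z).2, sub_zero, LinearMap.comp_apply,
      ← LinearMap.congr_fun hφ z]
    rfl

end Groth.Agent.S7164
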