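import Groth.Statements.S7168
import Groth.Agent.Lib.DMod.PCModule
import Mathlib

set_option autoImplicit false
universe u
attribute [local instance] HasDerivedCategory.standard
open FlatMor

namespace Groth.Agent.S7168

attribute [local instance] HasDerivedCategory.standard
open AlgebraicGeometry CategoryTheory

set_option backward.isDefEq.respectTransparency.types false

theorem finitePresentation_of_pcHom (A B : Type u) [CommRing A] [CommRing B] [Algebra A B]
    (h : MoreMor.IsPseudoCoherentHom A B) : Algebra.FinitePresentation A B := by
  obtain ⟨n, φ, hφ, hpc⟩ := h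
  refine Algebra.FinitePresentation.of_surjective hφ ?_
  let _ := φ.toRingHom.toAlgebra
  have := (DMod.pcModule_negOne_iff (A := MvPolynomial (Fin n) A) B).1 ((DMod.pcModule'_iff B).1 hpc (-1))
  exact Module.FinitePresentation.fg_ker (Algebra.linearMap (MvPolynomial (Fin n) A) B) hφ

open AlgebraicGeometry CategoryTheory Limits in
/-- A pseudo-coherent morphism of schemes is locally of finite presentation. -/
theorem result {X S : Scheme.{u}} (f : X ⟶ S) (hf : MoreMor.IsPseudoCoherentMor f) :
    LocallyOfFinitePresentation f := by
  refine (HasRingHomProperty.iff_appLE (P := @LocallyOfFinitePresentation)).2 fun U V e => ?_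
  let _ := (f.appLE U V e).hom.toAlgebra
  exact finitePresentation_of_pcHom _ _ (hf V.1 U.1 V.2 U.2 e)

end Groth.Agent.S7168
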