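import Groth.Statements.S7170
import Groth.Agent.Lib.PCMor4.Finite

set_option autoImplicit false
universe u
attribute [local instance] HasDerivedCategory.standard
open FlatMor

set_option backward.isDefEq.respectTransparency.types false

namespace Groth.Agent.S7170

open AlgebraicGeometry CategoryTheory Limits in
/-- For a finite morphism f : X → S, pseudo-coherence of f is equivalent to pseudo-coherence of the
O_S-module f_* O_X; as f is affine, the latter means that O_X(f⁻¹ V) is a pseudo-coherent
O_S(V)-module for every affine open V of S, the form used here. -/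
theorem result {X S : Scheme.{u}} (f : X ⟶ S) [IsFinite f] :
    MoreMor.IsPseudoCoherentMor f ↔ ∀ (V : S.Opens), IsAffineOpen V →
      (letI := (f.app V).hom.toAlgebra
       DRing.IsPseudoCoherentModule' Γ(S, V) Γ(X, f ⁻¹ᵁ V)) := by
  rw [PCMor4.isPseudoCoherentMor_iff]
  constructor
  · intro h V hV
    rw [PCMor4.pcMor, affineLocally_iff_forall_isAffineOpen] at h
    have h1 := h hV (hV.preimage f) le_rfl
    rw [← Scheme.Hom.app_eq_appLE] at h1
    letI := (f.app V).hom.toAlgebra
    exact PCMor4.pc'_iff_PCn.2 ((PCMor4.pch_iff_pcr_of_finite _ (IsFinite.finite_app f V hV)).1 h1)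
  · intro h
    refine PCMor4.pcMor_of_forall_exists f fun x => ?_
    obtain ⟨V, hV, hxV, -⟩ := exists_isAffineOpen_mem_and_subset (X := S) (x := f x) (U := ⊤) trivial
    refine ⟨f ⁻¹ᵁ V, V, le_rfl, hV.preimage f, hV, hxV, ?_⟩
    rw [← Scheme.Hom.app_eq_appLE]
    letI := (f.app V).hom.toAlgebra
    exact (PCMor4.pch_iff_pcr_of_finite _ (IsFinite.finite_app f V hV)).2 (PCMor4.pc'_iff_PCn.1 (h V hV))

end Groth.Agent.S7170
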