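import Groth.Statements.S7176
import Groth.Agent.Lib.PerfLCI4.Kind
import Groth.Agent.Lib.PCMor4.Local

set_option autoImplicit false
universe u
attribute [local instance] HasDerivedCategory.standard
open FlatMor

set_option backward.isDefEq.respectTransparency.types false

namespace Groth.Agent.S7176

open AlgebraicGeometry CategoryTheory Limits in
/-- Let i : Z → Y and j : Y → X be immersions with X locally Noetherian, j ∘ i a regular immersion and i
perfect. Then i is a regular immersion and j is a regular immersion at every point i(z), z in Z.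
(The published statement concludes that j is a regular immersion outright; its proof works in the
local rings of X at points of Z, and for Z empty the hypotheses hold for every immersion j, so the
conclusion on j is stated at the points of i(Z) only.) Over a locally Noetherian scheme the four
kinds of regular immersion agree; the kind is a parameter here. -/
theorem result {Z Y X : Scheme.{u}} (i : Z ⟶ Y) (j : Y ⟶ X) [IsImmersion i] [IsImmersion j]
    [IsLocallyNoetherian X] (k : RegImm.Kind) (h : RegImm.IsRegularImmersion k (i ≫ j)) (hi : MoreMor.IsPerfectMor i) :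
    RegImm.IsRegularImmersion k i ∧ ∀ z : Z, RegImm.IsRegularImmersionAt k j (i z) := by
  haveI := h.1
  have hk := PerfLCI4.koszul_of_kind (i ≫ j) h
  rw [PCMor4.isPerfectMor_iff, PCMor4.pfMor, affineLocally_iff_forall_isAffineOpen] at hi
  haveI : IsLocallyNoetherian Y := LocallyOfFiniteType.isLocallyNoetherian j
  suffices key : ∀ z, RegImm.IsRegularImmersionAt k i z ∧ RegImm.IsRegularImmersionAt k j (i z) from
    ⟨⟨inferInstance, fun z => (key z).1⟩, fun z => (key z).2⟩
  intro z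
  obtain ⟨U₁, hU₁, hz₁, -, hcl₁⟩ := CI2.exists_affine_closed (i ≫ j) z (V := ⊤) trivial
  haveI := hcl₁
  obtain ⟨U, hU, hzU, hle, hclj⟩ := CI2.exists_affine_closed j (i z) (V := U₁) hz₁
  haveI := hclj
  haveI hclij : IsClosedImmersion ((i ≫ j) ∣_ U) := CI2.isClosedImmersion_restrict_of_le (i ≫ j) hle
  obtain ⟨hV, hσ⟩ := CI2.surjective_app_of_closed j hU
  haveI hcli : IsClosedImmersion (i ∣_ (j ⁻¹ᵁ U)) := by
    have h2 := hclij
    rw [morphismRestrict_comp] at h2
    exact @IsClosedImmersion.of_comp_isClosedImmersion _ _ _ (i ∣_ (j ⁻¹ᵁ U)) (j ∣_ U) inferInstance h2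
  obtain ⟨hW, hφs⟩ := CI2.surjective_app_of_closed i hV
  haveI : IsNoetherianRing Γ(X, U) := IsLocallyNoetherian.component_noetherian ⟨U, hU⟩
  have hpf := hi hV hW le_rfl
  rw [← Scheme.Hom.app_eq_appLE] at hpf
  letI : Algebra Γ(Y, j ⁻¹ᵁ U) Γ(Z, i ⁻¹ᵁ j ⁻¹ᵁ U) := (i.app (j ⁻¹ᵁ U)).hom.toAlgebra
  obtain ⟨d, hd⟩ := hpf.2
  let σ := (j.app U).hom
  let q := (hV.primeIdealOf ⟨i z, hzU⟩).asIdeal
  have hKR : LCI.IsKoszulRegularIdeal (RingHom.ker ((algebraMap Γ(Y, j ⁻¹ᵁ U) Γ(Z, i ⁻¹ᵁ j ⁻¹ᵁ U)).comp σ)) := by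
    have h1 := CI2.isKR_of_isRegularImmersion (i ≫ j) hk hU
    rw [Scheme.Hom.comp_app] at h1
    exact h1
  have hker : RingHom.ker (i.app (j ⁻¹ᵁ U)).hom ≤ q := CI2.ker_le_primeIdealOf i hV hzU
  have hle' : RingHom.ker ((algebraMap Γ(Y, j ⁻¹ᵁ U) Γ(Z, i ⁻¹ᵁ j ⁻¹ᵁ U)).comp σ) ≤ q.comap σ := fun r hr => hker hr
  obtain ⟨⟨rs₁, hrs₁, hreg₁⟩, rs₂, hrs₂, hreg₂⟩ := PerfLCI4.local_key σ hσ hφs hd hKR (q.comap σ) hle'
  constructor
  · obtain ⟨l, hl, hspan⟩ := PerfLCI4.quot_key σ hσ _ q rs₂ hrs₂ hreg₂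
    exact PerfLCI4.isRegularImmersionAt_of_ex i k hV hzU q rfl hl hspan
  · have hq : (hU.primeIdealOf ⟨j (i z), hzU⟩).asIdeal = q.comap σ := by
      rw [← IsAffineOpen.comap_primeIdealOf_appLE U hU (j ⁻¹ᵁ U) hV le_rfl hzU, ← Scheme.Hom.app_eq_appLE]
      rfl
    exact PerfLCI4.isRegularImmersionAt_of_ex j k hU hzU (q.comap σ) hq
      (CI2.ex_of_isWeaklyRegular _ _ hreg₁.toIsWeaklyRegular) hrs₁.symm

end Groth.Agent.S7176
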