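import Groth.Statements.S7177
import Groth.Agent.Lib.ModM1.Stalk
import Mathlib.RingTheory.Ideal.Pure
import Mathlib.RingTheory.Flat.Localization
import Mathlib.AlgebraicGeometry.Morphisms.Flat
import Mathlib.AlgebraicGeometry.Pullbacks

set_option autoImplicit false
universe u
open FlatMor

namespace Groth.Agent.S7177


open Groth.Agent AlgebraicGeometry CategoryTheory TensorProduct

/-- A flat module over the base is flat over an algebra with flat multiplication map. -/
theorem flat_of_flat_lmul {B T M : Type u} [CommRing B] [CommRing T] [Algebra B T] [AddCommGroup M]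
    [Module B M] [Module T M] [IsScalarTower B T M] [Module.Flat B M]
    (hmul : (Algebra.TensorProduct.lmul' (S := T) B).toRingHom.Flat) : Module.Flat T M := by
  let μ := (Algebra.TensorProduct.lmul' (S := T) B).toRingHom
  let I : Ideal (T ⊗[B] T) := RingHom.ker μ
  have hsurj : Function.Surjective μ := fun t => ⟨t ⊗ₜ 1, by simp [μ]⟩
  haveI hpure : I.Pure := by
    letI := μ.toAlgebra
    haveI : Module.Flat (T ⊗[B] T) T := hmul
    exact Module.Flat.of_linearEquiv
      (LinearMap.quotKerEquivOfSurjective (Algebra.linearMap (T ⊗[B] T) T) hsurj)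
  rw [Module.Flat.iff_lTensor_preserves_injective_linearMap]
  intro N N' _ _ _ _ g hg
  letI : Module B N := Module.compHom N (algebraMap B T)
  letI : Module B N' := Module.compHom N' (algebraMap B T)
  haveI : IsScalarTower B T N := IsScalarTower.of_algebraMap_smul fun _ _ => rfl
  haveI : IsScalarTower B T N' := IsScalarTower.of_algebraMap_smul fun _ _ => rfl
  let gB : N →ₗ[B] N' := g.restrictScalars B
  let act : ∀ (X : Type u) [AddCommGroup X] [Module B X] [Module T X] [IsScalarTower B T X],
      (T ⊗[B] T) →ₐ[B] Module.End B (M ⊗[B] X) := fun X _ _ _ _ =>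
    Algebra.TensorProduct.lift
      ((Module.End.rTensorAlgHom B M X).comp (Algebra.lsmul B B M : T →ₐ[B] Module.End B M))
      ((Module.End.lTensorAlgHom B X M).comp (Algebra.lsmul B B X : T →ₐ[B] Module.End B X))
      (fun s t => TensorProduct.ext' fun m n => rfl)
  have hact : ∀ (X : Type u) [AddCommGroup X] [Module B X] [Module T X] [IsScalarTower B T X]
      (s t : T) (m : M) (n : X), act X (s ⊗ₜ t) (m ⊗ₜ n) = (s • m) ⊗ₜ (t • n) := by
    intro X _ _ _ _ s t m n
    rfl
  have hnat : ∀ c z, gB.lTensor M (act N c z) = act N' c (gB.lTensor M z) := by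
    intro c
    induction c using TensorProduct.induction_on with
    | zero => simp
    | tmul s t =>
      intro z
      induction z using TensorProduct.induction_on with
      | zero => simp
      | tmul m n => simp [hact, gB]
      | add a b ha hb => simp only [map_add, ha, hb]
    | add a b ha hb => intro z; simp only [map_add, LinearMap.add_apply, ha, hb]
  -- the kernel of `M ⊗_B X → M ⊗_T X`
  let q : ∀ (X : Type u) [AddCommGroup X] [Module B X] [Module T X] [IsScalarTower B T X],
      M ⊗[B] X →+ M ⊗[T] X := fun X _ _ _ _ =>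
    TensorProduct.liftAddHom
      { toFun := fun m => (TensorProduct.mk T M X m).toAddMonoidHom
        map_zero' := AddMonoidHom.ext fun _ => TensorProduct.zero_tmul _ _
        map_add' := fun _ _ => AddMonoidHom.ext fun _ => TensorProduct.add_tmul _ _ _ }
      (fun r m n => by
        show (r • m) ⊗ₜ[T] n = m ⊗ₜ[T] (r • n)
        rw [← algebraMap_smul T r m, ← algebraMap_smul T r n, TensorProduct.smul_tmul])
  have hq : ∀ c z, q N (act N c z) = μ c • q N z := by
    intro c
    induction c using TensorProduct.induction_on with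
    | zero => simp
    | tmul s t =>
      intro z
      induction z using TensorProduct.induction_on with
      | zero => simp
      | tmul m n =>
        rw [hact]
        show (s • m) ⊗ₜ[T] (t • n) = μ (s ⊗ₜ t) • (m ⊗ₜ[T] n)
        rw [TensorProduct.tmul_smul, ← TensorProduct.smul_tmul', smul_smul, mul_comm]
        congr 1
      | add a b ha hb => simp only [map_add, ha, hb, smul_add]
    | add a b ha hb => intro z; simp only [map_add, LinearMap.add_apply, ha, hb, add_smul]
  have hqnat : ∀ z, g.lTensor M (q N z) = q N' (gB.lTensor M z) := by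
    intro z
    induction z using TensorProduct.induction_on with
    | zero => simp
    | tmul m n => rfl
    | add a b ha hb => simp only [map_add, ha, hb]
  let E : AddSubgroup (M ⊗[B] N') :=
    { carrier := {w | ∃ e ∈ I, act N' e w = w}
      zero_mem' := ⟨0, I.zero_mem, by simp⟩
      add_mem' := by
        rintro a b ⟨e, he, ha⟩ ⟨e', he', hb⟩
        refine ⟨e + e' - e' * e, I.sub_mem (I.add_mem he he') (I.mul_mem_left _ he), ?_⟩
        have ha1 : act N' (e + e' - e' * e) a = a := by
          rw [map_sub, map_add, map_mul, LinearMap.sub_apply, LinearMap.add_apply, Module.End.mul_apply, ha]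
          abel
        have hb1 : act N' (e + e' - e' * e) b = b := by
          rw [mul_comm e' e, map_sub, map_add, map_mul, LinearMap.sub_apply, LinearMap.add_apply,
            Module.End.mul_apply, hb]
          abel
        rw [map_add, ha1, hb1]
      neg_mem' := by
        rintro a ⟨e, he, ha⟩
        exact ⟨e, he, by rw [map_neg, ha]⟩ }
  have hgenE : ∀ (s : T) (m : M) (n : N'), (s • m) ⊗ₜ[B] n - m ⊗ₜ[B] (s • n) ∈ E := by
    intro s m n
    have hx : s ⊗ₜ[B] (1 : T) - (1 : T) ⊗ₜ[B] s ∈ I := by
      show μ _ = 0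
      simp [μ]
    have hmem : s ⊗ₜ[B] (1 : T) - (1 : T) ⊗ₜ[B] s ∈
        I * Ideal.span {s ⊗ₜ[B] (1 : T) - (1 : T) ⊗ₜ[B] s} := by
      rw [← Ideal.inf_eq_mul_of_pure]
      exact ⟨hx, Ideal.subset_span rfl⟩
    obtain ⟨e, he, hee⟩ := Ideal.mem_mul_span_singleton.1 hmem
    refine ⟨e, he, ?_⟩
    have : (s • m) ⊗ₜ[B] n - m ⊗ₜ[B] (s • n) =
        act N' (s ⊗ₜ[B] (1 : T) - (1 : T) ⊗ₜ[B] s) (m ⊗ₜ n) := by
      rw [map_sub, LinearMap.sub_apply, hact, hact, one_smul, one_smul]
    rw [this]
    rw [← Module.End.mul_apply, ← map_mul, hee]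
  let mkE : M →+ N' →+ ((M ⊗[B] N') ⧸ E) :=
    { toFun := fun m => (QuotientAddGroup.mk' E).comp (TensorProduct.mk B M N' m).toAddMonoidHom
      map_zero' := AddMonoidHom.ext fun n => by simp
      map_add' := fun a b => AddMonoidHom.ext fun n => by simp [TensorProduct.add_tmul] }
  let back : M ⊗[T] N' →+ ((M ⊗[B] N') ⧸ E) := TensorProduct.liftAddHom mkE fun s m n => by
    show (QuotientAddGroup.mk ((s • m) ⊗ₜ[B] n) : (M ⊗[B] N') ⧸ E) = QuotientAddGroup.mk (m ⊗ₜ[B] (s • n))
    exact QuotientAddGroup.eq_iff_sub_mem.2 (hgenE s m n)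
  have hback : ∀ w, back (q N' w) = QuotientAddGroup.mk' E w := by
    intro w
    induction w using TensorProduct.induction_on with
    | zero => simp
    | tmul m n => rfl
    | add a b ha hb => simp only [map_add, ha, hb]
  have qsurj : ∀ y, ∃ z, q N z = y := fun y => by
    induction y using TensorProduct.induction_on with
    | zero => exact ⟨0, map_zero _⟩
    | tmul m n => exact ⟨m ⊗ₜ n, rfl⟩
    | add a b ha hb =>
      obtain ⟨za, rfl⟩ := ha
      obtain ⟨zb, rfl⟩ := hb
      exact ⟨za + zb, map_add _ _ _⟩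
  rw [injective_iff_map_eq_zero]
  intro y hy
  obtain ⟨z, rfl⟩ := qsurj y
  rw [hqnat] at hy
  have hw : gB.lTensor M z ∈ E := (QuotientAddGroup.eq_zero_iff _).1 (by
    rw [← QuotientAddGroup.mk'_apply, ← hback, hy, map_zero])
  obtain ⟨e, he, hee⟩ := hw
  have hz : act N e z = z := by
    apply Module.Flat.lTensor_preserves_injective_linearMap (M := M) gB hg
    rw [hnat, hee]
  rw [← hz, hq, show μ e = 0 from he, zero_smul]


open AlgebraicGeometry CategoryTheory Limits in
/-- Let f : X → Y have flat diagonal and let F be an O_X-module flat over Y. Then F is flat as an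
O_X-module. -/
theorem result {X Y : Scheme.{u}} (f : X ⟶ Y) [Flat (pullback.diagonal f)] (F : X.Modules)
    (hF : FlatMod.IsFlatOver f F) : FlatMod.IsFlat F := by
  intro x
  obtain ⟨V, hV, hyV, -⟩ :=
    exists_isAffineOpen_mem_and_subset (X := Y) (x := f x) (U := ⊤) trivial
  obtain ⟨W, hW, hxW, hWV⟩ :=
    exists_isAffineOpen_mem_and_subset (X := X) (x := x) (U := f ⁻¹ᵁ V) hyV
  letI : Algebra Γ(Y, V) Γ(X, W) := (f.appLE V W hWV).hom.toAlgebra
  let s := Spec.map (CommRingCat.ofHom (algebraMap Γ(Y, V) Γ(X, W)))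
  have hs : s ≫ hV.fromSpec = hW.fromSpec ≫ f := hV.SpecMap_appLE_fromSpec f hW hWV
  have hdiag : Flat (pullback.diagonal (s ≫ hV.fromSpec)) := by
    rw [hs]
    exact MorphismProperty.comp_mem (MorphismProperty.diagonal @Flat) hW.fromSpec f
      (show Flat (pullback.diagonal hW.fromSpec) by infer_instance) (show Flat (pullback.diagonal f) by infer_instance)
  have hdiag' : Flat (pullback.diagonal s) := by
    rw [pullback.diagonal_comp, ← Category.assoc,
      MorphismProperty.cancel_right_of_respectsIso @Flat, MorphismProperty.cancel_right_of_respectsIso @Flat] at hdiag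
    exact hdiag
  have hmul : (Algebra.TensorProduct.lmul' (S := Γ(X, W)) Γ(Y, V)).toRingHom.Flat := by
    rw [diagonal_SpecMap, MorphismProperty.cancel_right_of_respectsIso @Flat,
      HasRingHomProperty.Spec_iff (P := @Flat)] at hdiag'
    exact hdiag'
  letI : Algebra Γ(X, W) (X.presheaf.stalk x) := X.presheaf.algebra_section_stalk ⟨x, hxW⟩
  haveI : IsLocalization.AtPrime (X.presheaf.stalk x) (hW.primeIdealOf ⟨x, hxW⟩).asIdeal :=
    hW.isLocalization_stalk ⟨x, hxW⟩
  letI : Algebra Γ(Y, V) (Y.presheaf.stalk (f x)) := Y.presheaf.algebra_section_stalk ⟨f x, hyV⟩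
  haveI : IsLocalization.AtPrime (Y.presheaf.stalk (f x)) (hV.primeIdealOf ⟨f x, hyV⟩).asIdeal :=
    hV.isLocalization_stalk ⟨f x, hyV⟩
  letI := M1.stalkModule F hxW
  haveI : IsScalarTower Γ(X, W) (X.presheaf.stalk x) (F.presheaf.stalk x : Type u) :=
    IsScalarTower.of_algebraMap_smul fun _ _ => rfl
  letI := FlatMod.moduleStalkOver f F x
  letI : Module Γ(Y, V) (F.presheaf.stalk x : Type u) :=
    Module.compHom _ (algebraMap Γ(Y, V) (Y.presheaf.stalk (f x)))
  haveI : IsScalarTower Γ(Y, V) (Y.presheaf.stalk (f x)) (F.presheaf.stalk x : Type u) :=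
    IsScalarTower.of_algebraMap_smul fun _ _ => rfl
  haveI : IsScalarTower Γ(Y, V) Γ(X, W) (F.presheaf.stalk x : Type u) :=
    IsScalarTower.of_algebraMap_smul fun r a => by
      show X.presheaf.germ W x hxW (f.appLE V W hWV r) • a =
        f.stalkMap x (Y.presheaf.germ V (f x) hyV r) • a
      rw [Scheme.Hom.germ_stalkMap_apply]
      congr 1
      exact X.presheaf.germ_res_apply (homOfLE hWV) x hxW _
  haveI : Module.Flat Γ(Y, V) (F.presheaf.stalk x : Type u) :=
    (Module.flat_iff_of_isLocalization (Y.presheaf.stalk (f x))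
      (hV.primeIdealOf ⟨f x, hyV⟩).asIdeal.primeCompl _).1 (hF x)
  haveI := flat_of_flat_lmul (M := (F.presheaf.stalk x : Type u)) hmul
  exact (Module.flat_iff_of_isLocalization (X.presheaf.stalk x)
    (hW.primeIdealOf ⟨x, hxW⟩).asIdeal.primeCompl _).2 inferInstance

end Groth.Agent.S7177
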