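import Groth.Statements.S7179
import Groth.Agent.Lib.WEtSch4

set_option autoImplicit false
universe u
open FlatMor

set_option backward.isDefEq.respectTransparency.types false

namespace Groth.Agent.S7179

open AlgebraicGeometry CategoryTheory Limits in
/-- The source of a weakly étale morphism with reduced target is reduced. -/
theorem result {X Y : Scheme.{u}} (f : X ⟶ Y) [WeaklyEtale f] [IsReduced Y] : IsReduced X := by
  suffices h : ∀ x : X, _root_.IsReduced (X.presheaf.stalk x) from isReduced_of_isReduced_stalk _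
  intro x
  obtain ⟨_, ⟨V, hV, rfl⟩, hxV, -⟩ :=
    Y.isBasis_affineOpens.exists_subset_of_mem_open (Set.mem_univ (f x)) isOpen_univ
  obtain ⟨_, ⟨U, hU, rfl⟩, hxU, e⟩ :=
    X.isBasis_affineOpens.exists_subset_of_mem_open hxV (f ⁻¹ᵁ V).isOpen
  letI := (f.appLE V U e).hom.toAlgebra
  haveI : Algebra.WeaklyEtale Γ(Y, V) Γ(X, U) :=
    (Groth.Agent.WEtSch4.weaklyEtale_resLE_iff f U V hU hV e).1
      (Groth.Agent.WEtSch4.weaklyEtale_resLE f U V e)
  haveI : _root_.IsReduced Γ(X, U) := Groth.Agent.WEtSch4.isReduced_of_weaklyEtale Γ(Y, V) Γ(X, U)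
  letI := X.presheaf.algebra_section_stalk (⟨x, hxU⟩ : U)
  haveI : IsLocalization.AtPrime (X.presheaf.stalk x) (hU.primeIdealOf ⟨x, hxU⟩).asIdeal :=
    hU.isLocalization_stalk ⟨x, hxU⟩
  exact isReduced_localizationPreserves (hU.primeIdealOf ⟨x, hxU⟩).asIdeal.primeCompl _ inferInstance

end Groth.Agent.S7179
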