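import Groth.Statements.S7180
import Groth.Agent.S0537
import Groth.Agent.S0427
import Groth.Agent.Lib.WEStalk.Basic
import Groth.Agent.Lib.Hens.Normal

set_option autoImplicit false
universe u
open FlatMor

set_option backward.isDefEq.respectTransparency.types false

namespace Groth.Agent.S7180


open TensorProduct IsLocalRing

/-- A local algebra weakly étale over a normal local domain is a normal domain. -/
theorem isNormal_of_weaklyEtale {A B : Type u} [CommRing A] [IsLocalRing A] [CommRing B] [IsLocalRing B]
    [Algebra A B] [IsLocalHom (algebraMap A B)] [Algebra.WeaklyEtale A B] [IsDomain A] [IsIntegrallyClosed A] :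
    IsDomain B ∧ IsIntegrallyClosed B := by
  obtain ⟨S, _, _, _, _, hS⟩ := Groth.Agent.S0537.result A
  have hn : IsDomain S ∧ IsIntegrallyClosed S :=
    (Groth.Agent.Hens.strictHenselization_normal_iff (R := A) (S := S)).2 ⟨inferInstance, inferInstance⟩
  haveI := hS.henselian
  haveI : IsSepClosed (ResidueField S) := hS.isSepClosure.sep_closed
  haveI : Module.Flat A S := (Groth.Agent.Hens.strictHenselization_faithfullyFlat A S).toFlat
  let C := S ⊗[A] B
  let L₀ := ResidueField S ⊗[ResidueField A] ResidueField B
  obtain ⟨M, hM⟩ := Ideal.exists_maximal L₀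
  letI := Ideal.Quotient.field M
  let L := L₀ ⧸ M
  let jS : ResidueField S →+* L := (Ideal.Quotient.mk M).comp Algebra.TensorProduct.includeLeftRingHom
  let jB : ResidueField B →+* L := (Ideal.Quotient.mk M).comp
    (Algebra.TensorProduct.includeRight (R := ResidueField A) (A := ResidueField S)).toRingHom
  have hA : ∀ a, jB (residue B (algebraMap A B a)) = jS (residue S (algebraMap A S a)) := fun a => by
    show Ideal.Quotient.mk M (1 ⊗ₜ[ResidueField A] algebraMap (ResidueField A) (ResidueField B) (residue A a)) =
      Ideal.Quotient.mk M (algebraMap (ResidueField A) (ResidueField S) (residue A a) ⊗ₜ[ResidueField A] 1)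
    rw [Algebra.algebraMap_eq_smul_one, Algebra.algebraMap_eq_smul_one, TensorProduct.tmul_smul, TensorProduct.smul_tmul']
  have hS' : ∀ a, jS (residue S (algebraMap A S a)) = algebraMap A L a := fun a => rfl
  let χ : C →ₐ[A] L := Algebra.TensorProduct.lift
    { toRingHom := jS.comp (residue S), commutes' := hS' }
    { toRingHom := jB.comp (residue B), commutes' := fun a => (hA a).trans (hS' a) } fun _ _ => mul_comm _ _
  let Q : Ideal C := RingHom.ker χ.toRingHom
  haveI : Q.IsPrime := RingHom.ker_isPrime _
  let D := Localization.AtPrime Q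
  haveI : Algebra.WeaklyEtale C D := Groth.Agent.WEStalk.weaklyEtale_of_isLocalization Q.primeCompl D
  haveI : Algebra.WeaklyEtale S D := Algebra.WeaklyEtale.trans S C D
  have hχS : ∀ s, χ (s ⊗ₜ[A] 1) = jS (residue S s) := fun s => by
    show jS (residue S s) * jB (residue B 1) = _
    rw [map_one, map_one, mul_one]
  have hχB : ∀ b, χ (1 ⊗ₜ[A] b) = jB (residue B b) := fun b => by
    show jS (residue S 1) * jB (residue B b) = _
    rw [map_one, map_one, one_mul]
  haveI : IsLocalHom (algebraMap S D) := ⟨fun s hs => by
    rw [IsScalarTower.algebraMap_apply S C D, IsLocalization.AtPrime.isUnit_to_map_iff D Q] at hs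
    by_contra hns
    refine hs ?_
    show χ (s ⊗ₜ[A] 1) = 0
    rw [hχS, (residue_eq_zero_iff s).2 hns, map_zero]⟩
  have hbij : Function.Bijective (algebraMap S D) := Groth.Agent.S0427.result
  haveI := hn.1
  haveI := hn.2
  let e : S ≃+* D := RingEquiv.ofBijective _ hbij
  haveI : IsDomain D := e.symm.toMulEquiv.isDomain _
  haveI : IsIntegrallyClosed D := IsIntegrallyClosed.of_equiv e
  letI : Algebra B C := Algebra.TensorProduct.rightAlgebra
  haveI : Module.Flat B C := Module.Flat.of_linearEquiv (Algebra.IsPushout.equiv A B S C).toLinearEquiv.symm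
  haveI : Module.Flat B D := Module.Flat.trans B C D
  haveI : IsLocalHom (algebraMap B D) := ⟨fun b hb => by
    rw [IsScalarTower.algebraMap_apply B C D, IsLocalization.AtPrime.isUnit_to_map_iff D Q] at hb
    by_contra hns
    refine hb ?_
    show χ (1 ⊗ₜ[A] b) = 0
    rw [hχB, (residue_eq_zero_iff b).2 hns, map_zero]⟩
  haveI : Module.FaithfullyFlat B D := Module.FaithfullyFlat.of_flat_of_isLocalHom
  exact Groth.Agent.Hens.isIntegrallyClosed_of_faithfullyFlat B D


open AlgebraicGeometry CategoryTheory Limits in
/-- The source of a weakly étale morphism with normal target (all local rings integrally closed domains)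
is normal. -/
theorem result {X Y : Scheme.{u}} (f : X ⟶ Y) [WeaklyEtale f] (hY : Pi1.IsNormalScheme Y) :
    Pi1.IsNormalScheme X := by
  intros
  intro x
  obtain ⟨hd, hc⟩ := hY (f x)
  obtain ⟨h1, h2⟩ := (Groth.Agent.WEStalk.weaklyEtale_iff_stalkMaps f).1 inferInstance x
  letI := (f.stalkMap x).hom.toAlgebra
  haveI : IsLocalHom (algebraMap (Y.presheaf.stalk (f x)) (X.presheaf.stalk x)) :=
    inferInstanceAs (IsLocalHom (f.stalkMap x).hom)
  haveI : Module.Flat (Y.presheaf.stalk (f x)) (X.presheaf.stalk x) := h1
  haveI : Algebra.WeaklyEtale (Y.presheaf.stalk (f x)) (X.presheaf.stalk x) := ⟨h1, h2⟩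
  exact isNormal_of_weaklyEtale (A := Y.presheaf.stalk (f x))

end Groth.Agent.S7180
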