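import Groth.Statements.S7183
import Groth.Agent.Lib.Pinch4.Descend

set_option autoImplicit false
universe u
open FlatMor

set_option backward.isDefEq.respectTransparency.types false

namespace Groth.Agent.S7183


open AlgebraicGeometry CategoryTheory Limits in
set_option backward.isDefEq.respectTransparency.types false in
theorem desc_all {X Y Z P X' Y' Z' P' : Scheme.{u}}
    (i : Z ⟶ X) (j : Z ⟶ Y) [IsClosedImmersion i] [IsClosedImmersion j] (a : X ⟶ P) (b : Y ⟶ P) (hP : IsPushout i j a b)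
    (f : X' ⟶ X) (g : Y' ⟶ Y) (i' : Z' ⟶ X') (j' : Z' ⟶ Y') (c : Z' ⟶ Z) (hX : IsPullback i' c f i) (hY : IsPullback j' c g j)
    (a' : X' ⟶ P') (b' : Y' ⟶ P') (hP' : IsPushout i' j' a' b') (h : P' ⟶ P) (ha : a' ≫ h = f ≫ a) (hb : b' ≫ h = g ≫ b) :
    (LocallyOfFiniteType h ↔ LocallyOfFiniteType f ∧ LocallyOfFiniteType g) ∧
    (Flat h ↔ Flat f ∧ Flat g) ∧
    ((Flat h ∧ LocallyOfFinitePresentation h) ↔ (Flat f ∧ LocallyOfFinitePresentation f) ∧ (Flat g ∧ LocallyOfFinitePresentation g)) ∧
    (Smooth h ↔ Smooth f ∧ Smooth g) ∧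
    (Etale h ↔ Etale f ∧ Etale g) := by
  haveI : IsClosedImmersion i' := MorphismProperty.of_isPullback hX.flip inferInstance
  haveI : IsClosedImmersion j' := MorphismProperty.of_isPullback hY.flip inferInstance
  have H := Pinch4.isPinch_of_cond (Pinch4.cond_of_closed (i := i) (j := j)) hP
  have H' := Pinch4.isPinch_of_cond (Pinch4.cond_of_closed (i := i') (j := j')) hP'
  have pf := H.isPullback_of H' hX hY ha hb
  have pg := H.flip.isPullback_of H'.flip hY hX hb ha
  have down : ∀ (W : MorphismProperty Scheme.{u}) [W.IsStableUnderBaseChange], W h → W f ∧ W g := fun W _ hh =>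
    ⟨W.of_isPullback pf hh, W.of_isPullback pg hh⟩
  have dFlat : Flat f → Flat g → Flat h := fun _ _ =>
    (HasRingHomProperty.iff_exists_appLE (P := @Flat)
      (RingHom.Flat.stableUnderComposition.stableUnderCompositionWithLocalizationAway
        RingHom.Flat.holdsForLocalizationAway).1).2
      (H.exists_descend H' hX hY ha hb (fun φ => φ.Flat) RingHom.Flat.respectsIso
        (fun R B A' A D _ _ _ _ _ _ _ _ _ _ _ _ _ hs h1 h2 => by
          rw [RingHom.flat_algebraMap_iff] at h1 h2 ⊢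
          exact MilnorH7.flat_of_pair hs D)
        (fun hU _ hU' e => f.flat_appLE hU hU' e) (fun hU _ hU' e => g.flat_appLE hU hU' e))
  refine ⟨⟨fun hh => down @LocallyOfFiniteType hh, fun ⟨_, _⟩ => ?_⟩, ⟨fun hh => down @Flat hh, fun ⟨h1, h2⟩ => dFlat h1 h2⟩,
    ⟨fun ⟨h1, h2⟩ => ⟨⟨(down @Flat h1).1, (down @LocallyOfFinitePresentation h2).1⟩,
      (down @Flat h1).2, (down @LocallyOfFinitePresentation h2).2⟩, fun ⟨⟨h1, _⟩, h3, _⟩ => ⟨dFlat h1 h3, ?_⟩⟩,
    ⟨fun hh => down @Smooth hh, fun ⟨_, _⟩ => ?_⟩, ⟨fun hh => down @Etale hh, fun ⟨_, _⟩ => ?_⟩⟩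
  · refine (HasRingHomProperty.iff_exists_appLE (P := @LocallyOfFiniteType)
      (RingHom.finiteType_stableUnderComposition.stableUnderCompositionWithLocalizationAway
        RingHom.finiteType_holdsForLocalizationAway).1).2
      (H.exists_descend H' hX hY ha hb (fun φ => φ.FiniteType) RingHom.finiteType_respectsIso
        (fun R B A' A D _ _ _ _ _ _ _ _ _ _ _ _ _ hs h1 h2 => ?_)
        (fun hU _ hU' e => f.finiteType_appLE hU hU' e) (fun hU _ hU' e => g.finiteType_appLE hU hU' e))
    rw [RingHom.finiteType_algebraMap] at h1 h2 ⊢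
    exact MilnorH7.finiteType_of_pair hs
  · refine (HasRingHomProperty.iff_exists_appLE (P := @LocallyOfFinitePresentation)
      (RingHom.finitePresentation_stableUnderComposition.stableUnderCompositionWithLocalizationAway
        RingHom.finitePresentation_holdsForLocalizationAway).1).2 fun x => ?_
    obtain ⟨O, O', hx, e, hQ⟩ := H.exists_descend H' hX hY ha hb (fun φ => φ.Flat ∧ φ.FinitePresentation)
      (RingHom.Flat.respectsIso.and RingHom.finitePresentation_respectsIso)
      (fun R B A' A D _ _ _ _ _ _ _ _ _ _ _ _ _ hs h1 h2 => by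
        rw [RingHom.flat_algebraMap_iff, RingHom.finitePresentation_algebraMap] at h1 h2 ⊢
        obtain ⟨_, _⟩ := h1
        obtain ⟨_, _⟩ := h2
        exact MilnorH7.flat_finitePresentation_of_pair hs)
      (fun hU _ hU' e => ⟨f.flat_appLE hU hU' e, f.finitePresentation_appLE hU hU' e⟩)
      (fun hU _ hU' e => ⟨g.flat_appLE hU hU' e, g.finitePresentation_appLE hU hU' e⟩) x
    exact ⟨O, O', hx, e, hQ.2⟩
  · refine (HasRingHomProperty.iff_exists_appLE (P := @Smooth)
      (RingHom.Smooth.stableUnderComposition.stableUnderCompositionWithLocalizationAway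
        RingHom.Smooth.holdsForLocalizationAway).1).2
      (H.exists_descend H' hX hY ha hb (fun φ => φ.Smooth) RingHom.Smooth.propertyIsLocal.respectsIso
        (fun R B A' A D _ _ _ _ _ _ _ _ _ _ _ _ _ hs h1 h2 => ?_)
        (fun hU _ hU' e => f.smooth_appLE hU hU' e) (fun hU _ hU' e => g.smooth_appLE hU hU' e))
    rw [RingHom.smooth_algebraMap] at h1 h2 ⊢
    exact MilnorH7.smooth_of_pair hs
  · refine (HasRingHomProperty.iff_exists_appLE (P := @Etale)
      (RingHom.Etale.stableUnderComposition.stableUnderCompositionWithLocalizationAway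
        (fun R S _ _ _ r _ => RingHom.etale_algebraMap.2 (Algebra.Etale.of_isLocalizationAway r))).1).2
      (H.exists_descend H' hX hY ha hb (fun φ => φ.Etale) RingHom.Etale.respectsIso
        (fun R B A' A D _ _ _ _ _ _ _ _ _ _ _ _ _ hs h1 h2 => ?_)
        (fun hU _ hU' e => HasRingHomProperty.appLE @Etale f inferInstance ⟨_, hU⟩ ⟨_, hU'⟩ e)
        (fun hU _ hU' e => HasRingHomProperty.appLE @Etale g inferInstance ⟨_, hU⟩ ⟨_, hU'⟩ e))
    rw [RingHom.etale_algebraMap] at h1 h2 ⊢
    exact MilnorH7.etale_of_pair hs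

open AlgebraicGeometry CategoryTheory Limits in
/-- Let i : Z → X, j : Z → Y be closed immersions with pushout P, let X' → X and Y' → Y be morphisms
whose base changes to Z are identified (a scheme Z' cartesian over both), let P' be the pushout of
Z' → X' and Z' → Y' and h : P' → P the induced morphism. Then h is locally of finite type (resp.
flat, resp. flat and locally of finite presentation, resp. smooth, resp. étale) if and only if X' →
X and Y' → Y both are. -/
theorem result {X Y Z P X' Y' Z' P' : Scheme.{u}}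
    (i : Z ⟶ X) (j : Z ⟶ Y) [IsClosedImmersion i] [IsClosedImmersion j] (a : X ⟶ P) (b : Y ⟶ P) (hP : IsPushout i j a b)
    (f : X' ⟶ X) (g : Y' ⟶ Y) (i' : Z' ⟶ X') (j' : Z' ⟶ Y') (c : Z' ⟶ Z) (hX : IsPullback i' c f i) (hY : IsPullback j' c g j)
    (a' : X' ⟶ P') (b' : Y' ⟶ P') (hP' : IsPushout i' j' a' b') (h : P' ⟶ P) (ha : a' ≫ h = f ≫ a) (hb : b' ≫ h = g ≫ b) :
    (LocallyOfFiniteType h ↔ LocallyOfFiniteType f ∧ LocallyOfFiniteType g) ∧
    (Flat h ↔ Flat f ∧ Flat g) ∧
    ((Flat h ∧ LocallyOfFinitePresentation h) ↔ (Flat f ∧ LocallyOfFinitePresentation f) ∧ (Flat g ∧ LocallyOfFinitePresentation g)) ∧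
    (Smooth h ↔ Smooth f ∧ Smooth g) ∧
    (Etale h ↔ Etale f ∧ Etale g) := by
  exact desc_all i j a b hP f g i' j' c hX hY a' b' hP' h ha hb

end Groth.Agent.S7183
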