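import Groth.Statements.S7185
import Groth.Agent.Lib.Weight4.Comp

set_option autoImplicit false
universe u
open FlatMor

namespace Groth.Agent.S7185

open AlgebraicGeometry CategoryTheory Limits in
/-- The restriction of a weighting of a locally quasi-finite morphism f : X → Y (locally of finite type
with discrete fibres) to an open subscheme X' of X is a weighting of X' → Y. -/
theorem result {X Y : Scheme.{u}} (f : X ⟶ Y) [LocallyQuasiFinite f] [LocallyOfFiniteType f] (w : X → ℤ)
    (hw : MoreMor.IsWeighting f w) (X' : X.Opens) : MoreMor.IsWeighting (X'.ι ≫ f) (fun x => w (X'.ι x)) := by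
  exact Groth.Agent.Weight.isWeighting_restrict_open f w hw X'

end Groth.Agent.S7185
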