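import Groth.Statements.S7186
import Groth.Agent.Lib.RankLoc10.Desc
import Groth.Agent.Lib.TensorMod.Basic

set_option autoImplicit false
set_option backward.isDefEq.respectTransparency false
universe u
open FlatMor

namespace Groth.Agent.S7186

open AlgebraicGeometry CategoryTheory Limits in
/-- Let f : X → S be flat, proper and of finite presentation such that O_T → (f_T)_* O_{X_T} is an
isomorphism for every base change T → S. Suppose E is an O_X-module that is finite locally free and
whose restriction to each fibre X_s is free, and let S be reduced. Then E is isomorphic to the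
pullback of a finite locally free O_S-module. -/
theorem result {X S : Scheme.{u}} (f : X ⟶ S) [Flat f] [IsProper f] [LocallyOfFinitePresentation f]
    (hO : ∀ (T : Scheme.{u}) (g : T ⟶ S) (U : T.Opens), IsIso ((pullback.snd f g).app U))
    (E : X.Modules) (hE : FlatMod.IsFinLocFree E)
    (hfib : ∀ s : S, ∃ r : ℕ, Nonempty ((Scheme.Modules.pullback (f.fiberι s)).obj E ≅ FlatMod.freeMod (f.fiber s) r))
    [IsReduced S] :
    ∃ N : S.Modules, FlatMod.IsFinLocFree N ∧ Nonempty ((Scheme.Modules.pullback f).obj N ≅ E) := by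
  obtain ⟨Z, ι, hi, hfp, hqc, hu⟩ :=
    Groth.Agent.RankLoc10.exists_desc_immersion hE (Groth.Agent.RankLoc10.univAppIso_of_pullback hO)
  haveI := hi
  have hsurj : Function.Surjective ι.base := fun s => by
    obtain ⟨r, ⟨e⟩⟩ := hfib s
    obtain ⟨z, hz⟩ := (hu _ (S.fromSpecResidueField s)).2 ⟨FlatMod.freeMod (Spec (S.residueField s)) r,
      Groth.Agent.KFlat.Sch.isFinLocFree_freeMod _ r, ⟨Groth.Agent.M2.freeModPullbackIso _ r ≪≫ e.symm⟩⟩
    obtain ⟨x⟩ : Nonempty (Spec (S.residueField s)) := inferInstanceAs (Nonempty (PrimeSpectrum (S.residueField s)))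
    exact ⟨z x, by rw [← Scheme.Hom.comp_apply, hz, S.fromSpecResidueField_apply]⟩
  haveI : Surjective ι := ⟨hsurj⟩
  haveI : IsClosedImmersion ι := IsClosedImmersion.of_isPreimmersion ι (by rw [hsurj.range_eq]; exact isClosed_univ)
  haveI : IsIso ι := isIso_of_isClosedImmersion_of_surjective ι
  obtain ⟨N, hN, ⟨e⟩⟩ := (hu S (𝟙 S)).1 ⟨inv ι, IsIso.inv_hom_id ι⟩
  haveI : IsIso (pullback.fst f (𝟙 S)) := inferInstance
  have hw : inv (pullback.fst f (𝟙 S)) ≫ pullback.snd f (𝟙 S) = f := by
    rw [IsIso.inv_comp_eq, pullback.condition, Category.comp_id]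
  let j := inv (pullback.fst f (𝟙 S))
  exact ⟨N, hN, ⟨(Scheme.Modules.pullbackCongr hw.symm).app N ≪≫
    ((Scheme.Modules.pullbackComp j _).app N).symm ≪≫ (Scheme.Modules.pullback j).mapIso e ≪≫
    (Scheme.Modules.pullbackComp j _).app E ≪≫
    (Scheme.Modules.pullbackCongr (IsIso.inv_hom_id (pullback.fst f (𝟙 S)))).app E ≪≫
    (Scheme.Modules.pullbackId X).app E⟩⟩

end Groth.Agent.S7186
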