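import Groth.Statements.S7187
import Groth.Agent.Lib.FibH1_18.Trivial
import Groth.Agent.Lib.Twist.Triv
import Groth.Agent.Lib.Twist.Pullback
import Groth.Agent.Lib.Snapper.Main

set_option autoImplicit false
set_option linter.style.haveILetI false
set_option maxHeartbeats 1000000
set_option backward.isDefEq.respectTransparency false
set_option backward.isDefEq.respectTransparency.types false
-- import your own Groth.Agent.* helpers here

set_option autoImplicit false
universe u
open FlatMor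

namespace Groth.Agent.S7187

open AlgebraicGeometry CategoryTheory Limits in
/-- Let X and Y be Noetherian schemes and f : X → Y a proper morphism with O_Y → f_* O_X an isomorphism,
fibres of dimension at most 1, and H^1(X_y, O_{X_y}) = 0 for all y. Then f^* is injective on
isomorphism classes of invertible modules, and for every invertible O_X-module L whose restriction
to each fibre X_y is trivial the direct image f_* L is an invertible O_Y-module. (The published
statement asserts moreover that such an L is isomorphic to f^* f_* L, so that f^* is a bijection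
onto the classes of fibrewise trivial invertible modules; that last step is not stated here.) -/
theorem result {X Y : Scheme.{u}} (f : X ⟶ Y) [IsProper f] [IsNoetherian X] [IsNoetherian Y]
    (hO : ∀ U : Y.Opens, IsIso (f.app U))
    (hdim : ∀ y : Y, topologicalKrullDim ↥(f.fiber y) ≤ 1)
    (hH1 : ∀ y : Y, Subsingleton (Coh.HH (f.fiber y) (Coh.structureModule (f.fiber y)) 1)) :
    (∀ N N' : Y.Modules, PicF.IsInvertible N → PicF.IsInvertible N' →
        Nonempty ((Scheme.Modules.pullback f).obj N ≅ (Scheme.Modules.pullback f).obj N') → Nonempty (N ≅ N')) ∧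
    (∀ L : X.Modules, PicF.IsInvertible L →
        (∀ y : Y, Nonempty ((Scheme.Modules.pullback (f.fiberι y)).obj L ≅ Coh.structureModule (f.fiber y))) →
          PicF.IsInvertible ((Scheme.Modules.pushforward f).obj L)) := by
  have hf : ∀ U : Y.Opens, Function.Bijective (f.app U) := fun U => by
    haveI := hO U
    exact ConcreteCategory.bijective_of_isIso _
  refine ⟨fun N N' hN hN' ⟨e⟩ => ?_, fun L hL hL0 y => ?_⟩
  · obtain ⟨α, hα⟩ := (Groth.Agent.PushUnit3.pullback_map_bijective f hf N N' (Groth.Agent.M2.isFinLocFree_of_isInvertible hN')).2 e.hom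
    obtain ⟨β, hβ⟩ := (Groth.Agent.PushUnit3.pullback_map_bijective f hf N' N (Groth.Agent.M2.isFinLocFree_of_isInvertible hN)).2 e.inv
    refine ⟨⟨α, β, (Groth.Agent.PushUnit3.pullback_map_bijective f hf N N (Groth.Agent.M2.isFinLocFree_of_isInvertible hN)).1 ?_,
      (Groth.Agent.PushUnit3.pullback_map_bijective f hf N' N' (Groth.Agent.M2.isFinLocFree_of_isInvertible hN')).1 ?_⟩⟩
    · simp only at hα hβ ⊢
      rw [Functor.map_comp, hα, hβ, Iso.hom_inv_id, CategoryTheory.Functor.map_id]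
    · simp only at hα hβ ⊢
      rw [Functor.map_comp, hα, hβ, Iso.inv_hom_id, CategoryTheory.Functor.map_id]
  obtain ⟨V, hV, hyV, -⟩ := exists_isAffineOpen_mem_and_subset (X := Y) (x := y) (U := ⊤) trivial
  let p := pullback.fst f hV.fromSpec
  let f₀ := pullback.snd f hV.fromSpec
  let L₀ := (Scheme.Modules.pullback p).obj L
  have hL₀ : PicF.IsInvertible L₀ := Groth.Agent.Twist.isInvertible_pullback p hL
  have hqc : Coh.IsQCoh L₀ := Groth.Agent.M2.isQCoh_of_isFinLocFree (Groth.Agent.M2.isFinLocFree_of_isInvertible hL₀)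
  have hft : CohB1.IsFT L₀ := (Groth.Agent.Snapper.isCoh_of_isInvertible hL₀).2
  obtain ⟨c⟩ := Groth.Agent.FibH1_18.nonempty_cov (A := Γ(Y, V)) f₀
  have hd := Groth.Agent.FibH1_18.dim_chart f hV fun w _ => by
    rw [← Groth.Agent.VanFib13.dim_fiber]; exact hdim w
  -- the fibre at a point of the chart
  have key : ∀ (w : Y) (hw : w ∈ V), ∃ (φ : Γ(Y, V) ⟶ Y.residueField w) (k : f.fiber w ⟶ pullback f hV.fromSpec),
      IsPullback k (f.fiberToSpecResidueField w) f₀ (Spec.map φ) ∧
      RingHom.ker φ.hom = (hV.primeIdealOf ⟨w, hw⟩).asIdeal ∧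
      (∀ b : Y.residueField w, ∃ a c : Γ(Y, V), φ c ≠ 0 ∧ φ a = φ c * b) ∧
      k ≫ p = f.fiberι w := by
    intro w hw
    let φ : Γ(Y, V) ⟶ Y.residueField w := Y.presheaf.germ V w hw ≫ Y.residue w
    have hs : Spec.map φ ≫ hV.fromSpec = Y.fromSpecResidueField w := by
      rw [Spec.map_comp, Category.assoc, Scheme.fromSpecResidueField]
      congr 1
      exact hV.fromSpecStalk_eq_fromSpecStalk hw
    have hwk : f.fiberι w ≫ f = (f.fiberToSpecResidueField w ≫ Spec.map φ) ≫ hV.fromSpec := by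
      rw [Category.assoc, hs]; exact pullback.condition
    refine ⟨φ, pullback.lift (f.fiberι w) _ hwk, ?_, ?_, ?_, pullback.lift_fst _ _ _⟩
    · refine IsPullback.of_right (h₁₂ := pullback.fst f hV.fromSpec) (v₁₃ := f) ?_ (pullback.lift_snd _ _ _)
        (IsPullback.of_hasPullback f hV.fromSpec)
      rw [pullback.lift_fst, hs]
      exact IsPullback.of_hasPullback f (Y.fromSpecResidueField w)
    · let z : Spec (Y.residueField w) := IsLocalRing.closedPoint (Y.residueField w)
      have hz : Spec.map φ z = hV.primeIdealOf ⟨w, hw⟩ := by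
        refine hV.fromSpec.isOpenEmbedding.injective ?_
        rw [hV.fromSpec_primeIdealOf, ← Scheme.Hom.comp_apply, hs]
        exact Scheme.fromSpecResidueField_apply w z
      rw [← hz, RingHom.ker_eq_comap_bot]
      change _ = Ideal.comap _ z.asIdeal
      congr 1
      exact (IsLocalRing.maximalIdeal_eq_bot).symm
    · intro b
      letI := Y.presheaf.algebra_section_stalk (⟨w, hw⟩ : V)
      haveI := hV.isLocalization_stalk ⟨w, hw⟩
      obtain ⟨b, rfl⟩ := Y.residue_surjective w b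
      obtain ⟨⟨a, c⟩, hac⟩ := IsLocalization.surj (hV.primeIdealOf ⟨w, hw⟩).asIdeal.primeCompl b
      refine ⟨a, c.1, ?_, ?_⟩
      · exact fun h0 => (IsLocalization.map_units (Y.presheaf.stalk w) c).map (Y.residue w).hom |>.ne_zero h0
      · change Y.residue w (Y.presheaf.germ V w hw a) = Y.residue w (Y.presheaf.germ V w hw c.1) * Y.residue w b
        rw [← map_mul, mul_comm]
        first
          | exact congrArg _ hac.symm
          | skip
  -- vanishing
  have hA : Groth.Agent.FibH1_18.VanH (A := Γ(Y, V)) f₀ c L₀ Γ(Y, V) := by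
    refine Groth.Agent.FibH1_18.vanH_self (A := Γ(Y, V)) f₀ hd c hqc hft fun q hqp => ?_
    have hw : hV.fromSpec ⟨q, hqp⟩ ∈ V := hV.range_fromSpec.le ⟨_, rfl⟩
    obtain ⟨φ, k, hk, hker, -, hkp⟩ := key _ hw
    obtain ⟨e₀⟩ := hL0 (hV.fromSpec ⟨q, hqp⟩)
    letI : Algebra Γ(Y, V) (Y.residueField (hV.fromSpec ⟨q, hqp⟩)) := φ.hom.toAlgebra
    have hq : hV.primeIdealOf ⟨_, hw⟩ = ⟨q, hqp⟩ :=
      hV.fromSpec.isOpenEmbedding.injective (hV.fromSpec_primeIdealOf ⟨_, hw⟩)
    have hv := (Groth.Agent.FibH1_18.vanH_algebra_iff (A := Γ(Y, V)) f₀ c hqc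
      (B := Y.residueField (hV.fromSpec ⟨q, hqp⟩)) hk
      ((Scheme.Modules.pullbackComp k p).app L ≪≫ (Scheme.Modules.pullbackCongr hkp).app L ≪≫ e₀)).2 (hH1 _)
    exact Groth.Agent.FibH1_18.vanH_residueField (A := Γ(Y, V)) f₀ hd c hqc q _
      (hker.trans (congrArg PrimeSpectrum.asIdeal hq)) hv
  -- a section generating along the fibre
  obtain ⟨φ, k, hk, -, hfrac, hkp⟩ := key y hyV
  obtain ⟨e₀⟩ := hL0 y
  letI : Algebra Γ(Y, V) (Y.residueField y) := φ.hom.toAlgebra
  let ψ := (Scheme.Modules.pullbackComp k p).app L ≪≫ (Scheme.Modules.pullbackCongr hkp).app L ≪≫ e₀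
  obtain ⟨s, hs⟩ := Groth.Agent.FibH1_18.exists_section_unit (A := Γ(Y, V)) f₀ hd c hqc hA
    (B := Y.residueField y) hfrac hk ψ
  have hgen := Groth.Agent.FibH1_18.exists_isGenerator_nhd_of_unit hL₀ k ψ s hs
  let G : (pullback f hV.fromSpec).Opens :=
    sSup {D | Groth.Agent.M2.IsGenerator (Groth.Agent.M1.mres L₀ (le_top : D ≤ ⊤) s)}
  have hG : Groth.Agent.M2.IsGenerator (Groth.Agent.M1.mres L₀ (le_top : G ≤ ⊤) s) := by
    refine Groth.Agent.FibH1_18.isGenerator_of_cover _ fun x hx => ?_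
    obtain ⟨D, hD', hxD⟩ := TopologicalSpace.Opens.mem_sSup.1 hx
    exact ⟨D, le_sSup hD', hxD, by rw [Groth.Agent.M1.mres_mres]; exact hD'⟩
  obtain ⟨i₀⟩ := Groth.Agent.Twist.nonempty_restrict_iso L₀ G _ hG
  let G' : X.Opens := p ''ᵁ G
  have hr : Set.range G'.ι ⊆ Set.range (G.ι ≫ p) := by
    rw [Scheme.Opens.range_ι]
    rintro _ ⟨x, hx, rfl⟩
    exact ⟨⟨x, hx⟩, rfl⟩
  let i' : L.restrict G'.ι ≅ Coh.structureModule (G' : Scheme.{u}) :=
    (Groth.Agent.M1.restrictLiftIso L (G.ι ≫ p) G'.ι hr).symm ≪≫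
      (Scheme.Modules.restrictFunctor _).mapIso
        ((Groth.Agent.M1.restrictRestrictIso L p G.ι _ rfl).symm ≪≫
          (Scheme.Modules.restrictFunctor G.ι).mapIso ((Scheme.Modules.restrictFunctorIsoPullback p).app L) ≪≫ i₀) ≪≫
      Scheme.Modules.restrictUnitIso _
  obtain ⟨e, he⟩ := Groth.Agent.M2.exists_generator i'
  have hfib : ∀ x : X, f x = y → x ∈ G' := fun x hx => by
    obtain ⟨z, rfl⟩ : x ∈ Set.range (f.fiberι y) := by rw [Scheme.Hom.range_fiberι]; exact hx
    obtain ⟨D, hD', hzD, hDg⟩ := hgen z trivial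
    exact ⟨k z, TopologicalSpace.Opens.mem_sSup.2 ⟨D, hDg, hzD⟩, (Scheme.Hom.comp_apply k p z).symm.trans (by rw [hkp])⟩
  let W : Y.Opens := ⟨(f '' (G' : Set X)ᶜ)ᶜ, (f.isClosedMap _ G'.2.isClosed_compl).isOpen_compl⟩
  have hWG : f ⁻¹ᵁ W ≤ G' := fun x hx => by
    by_contra hxG
    exact hx ⟨x, hxG, rfl⟩
  refine ⟨W, fun ⟨x, hxG, hxy⟩ => hxG (hfib x hxy), ?_⟩
  refine Groth.Agent.Twist.nonempty_restrict_iso ((Scheme.Modules.pushforward f).obj L) W
    (Groth.Agent.M1.mres L hWG e) fun U hU => ?_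
  have e1 : (fun r : Γ(Y, U) => r • Groth.Agent.M1.mres ((Scheme.Modules.pushforward f).obj L) hU
        (Groth.Agent.M1.mres L hWG e)) =
      (fun r : Γ(X, f ⁻¹ᵁ U) => r • Groth.Agent.M1.mres L ((f.preimage_mono hU).trans hWG) e) ∘ f.app U := by
    funext r
    change f.app U r • Groth.Agent.M1.mres L (f.preimage_mono hU) (Groth.Agent.M1.mres L hWG e) = _
    rw [Groth.Agent.M1.mres_mres]
    rfl
  rw [e1]
  exact (he _ ((f.preimage_mono hU).trans hWG)).comp (hf U)

end Groth.Agent.S7187
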