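import Groth.Statements.S7191
import Groth.Agent.S1440
import Groth.Agent.Lib.Descend.Stage
import Groth.Agent.Lib.LimH13.Reduced
import Groth.Agent.Lib.ConsTop3.Basic

set_option autoImplicit false
universe u
open CategoryTheory AlgebraicGeometry
open FlatMor

set_option backward.isDefEq.respectTransparency.types false

namespace Groth.Agent.S7191


open AlgebraicGeometry CategoryTheory Limits
open Groth.Agent.Descend

theorem range_congr {X Z : Scheme.{u}} {p q : X ⟶ Z} (h : p = q) (x : X) :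
    Set.range (p.residueFieldMap x) = Set.range (q.residueFieldMap x) := by
  subst h; rfl

theorem range_comp_le {X Y Z : Scheme.{u}} (p : X ⟶ Y) (q : Y ⟶ Z) (x : X) :
    Set.range ((p ≫ q).residueFieldMap x) ⊆ Set.range (p.residueFieldMap x) := by
  rintro _ ⟨a, rfl⟩
  rw [Scheme.residueFieldMap_comp]
  exact ⟨q.residueFieldMap (p x) a, rfl⟩

theorem range_eq_univ_of_preimmersion {X Y : Scheme.{u}} (z : X ⟶ Y) [IsPreimmersion z] (w : X) :
    Set.range (z.residueFieldMap w) = Set.univ := by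
  refine Set.eq_univ_of_forall fun r => ?_
  obtain ⟨r, rfl⟩ := X.residue_surjective w r
  obtain ⟨t, rfl⟩ := z.stalkMap_surjective w r
  refine ⟨Y.residue _ t, ?_⟩
  rw [← CommRingCat.comp_apply, Scheme.residue_residueFieldMap]
  rfl

/-- A point with trivial residue extension from a section over an immersion. -/
theorem exists_point_of_lift {W X Y : Scheme.{u}} (f : X ⟶ Y) (z : W ⟶ Y) [IsPreimmersion z]
    (σ : W ⟶ X) (hσ : σ ≫ f = z) (w : W) :
    f (σ w) = z w ∧ Function.Bijective (f.residueFieldMap (σ w)) := by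
  refine ⟨by rw [← hσ]; rfl, RingHom.injective _, fun a => ?_⟩
  obtain ⟨b, hb⟩ := (range_congr hσ w).symm.subset
    ((range_eq_univ_of_preimmersion z w).symm.subset (Set.mem_univ (σ.residueFieldMap w a)))
  rw [Scheme.residueFieldMap_comp] at hb
  exact ⟨b, RingHom.injective (σ.residueFieldMap w).hom hb⟩

/-- Descending a rational point to a stage. -/
theorem exists_point_stage {X0 Y0 : Scheme.{u}} (f0 : X0 ⟶ Y0) [LocallyOfFiniteType f0]
    {J : Type u} [SmallCategory J] [IsCofiltered J] (E : J ⥤ Scheme.{u})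
    [∀ {i j : J} (a : i ⟶ j), IsAffineHom (E.map a)] (e : Cone E) (he : IsLimit e)
    (p : ∀ k, E.obj k ⟶ Y0) {X : Scheme.{u}} (pY : e.pt ⟶ Y0) (hp : ∀ k, e.π.app k ≫ p k = pY)
    (f : X ⟶ e.pt) (pX : X ⟶ X0) (hw : pX ≫ f0 = f ≫ pY) (x : X)
    (hx : Function.Bijective (f.residueFieldMap x)) :
    ∃ k : J, ∃ x' : ↑(pullback f0 (p k)),
      pullback.snd f0 (p k) x' = e.π.app k (f x) ∧
        Function.Bijective ((pullback.snd f0 (p k)).residueFieldMap x') := by
  classical
  let y := f x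
  let y0 := f0 (pX x)
  obtain ⟨_, ⟨V, hV, rfl⟩, hyV, -⟩ :=
    Y0.isBasis_affineOpens.exists_subset_of_mem_open (Set.mem_univ y0) isOpen_univ
  obtain ⟨_, ⟨U, hU, rfl⟩, hxU, hUV⟩ :=
    X0.isBasis_affineOpens.exists_subset_of_mem_open (show pX x ∈ f0 ⁻¹ᵁ V from hyV) (f0 ⁻¹ᵁ V).2
  have hle : U ≤ f0 ⁻¹ᵁ V := hUV
  have hφ : (f0.appLE V U hle).hom.FiniteType :=
    HasRingHomProperty.appLE (P := @LocallyOfFiniteType) f0 inferInstance ⟨V, hV⟩ ⟨U, hU⟩ hle
  let eb : e.pt.residueField y ≃+* X.residueField x := RingEquiv.ofBijective _ hx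
  let ψ : Γ(X0, U) →+* e.pt.residueField y := eb.symm.toRingHom.comp
    (X0.presheaf.germ U (pX x) hxU ≫ X0.residue _ ≫ pX.residueFieldMap x).hom
  algebraize [(f0.appLE V U hle).hom]
  obtain ⟨G, hG⟩ := (Algebra.FiniteType.out : (⊤ : Subalgebra Γ(Y0, V) Γ(X0, U)).FG)
  choose j b hb using fun a : e.pt.residueField y => Groth.Agent.LimH13.exists_residueFieldMap_eq he y a
  obtain ⟨k₀⟩ := IsCofiltered.nonempty (C := J)
  obtain ⟨k, hk⟩ := IsCofiltered.inf_objs_exists (insert k₀ (G.image fun g => j (ψ g)))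
  let ι : (E.obj k).residueField (e.π.app k y) →+* e.pt.residueField y :=
    ((e.π.app k).residueFieldMap y).hom
  have hι : Function.Injective ι := RingHom.injective _
  have hgen : ∀ g ∈ G, ψ g ∈ ι.range := by
    intro g hg
    obtain ⟨a⟩ := hk (Finset.mem_insert_of_mem (Finset.mem_image_of_mem (fun g => j (ψ g)) hg))
    exact range_comp_le (e.π.app k) (E.map a) y
      ((range_congr (e.w a).symm y).subset ⟨b (ψ g), hb _⟩)
  let y0' := p k (e.π.app k y)
  have hy0' : y0' = y0 := by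
    change (e.π.app k ≫ p k) (f x) = f0 (pX x)
    rw [hp k, ← Scheme.Hom.comp_apply, ← Scheme.Hom.comp_apply, hw]
  have hyV' : y0' ∈ V := hy0'.symm ▸ hyV
  let α : Γ(Y0, V) →+* (E.obj k).residueField (e.π.app k y) :=
    (Y0.presheaf.germ V y0' hyV' ≫ Y0.residue _ ≫ (p k).residueFieldMap (e.π.app k y)).hom
  have hα : ∀ a, ψ ((f0.appLE V U hle).hom a) = ι (α a) := by
    intro a
    apply eb.injective
    change eb (eb.symm _) = (f.residueFieldMap x).hom (ι (α a))
    rw [eb.apply_symm_apply]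
    have e1 : pX ≫ f0 = f ≫ e.π.app k ≫ p k := by rw [hp k, hw]
    have key : ∀ (p1 p2 : X ⟶ Y0) (h : p1 = p2) (h1 : p1 x ∈ V) (h2 : p2 x ∈ V),
        (Y0.presheaf.germ V (p1 x) h1 ≫ Y0.residue _ ≫ p1.residueFieldMap x).hom a =
          (Y0.presheaf.germ V (p2 x) h2 ≫ Y0.residue _ ≫ p2.residueFieldMap x).hom a := by
      intro p1 p2 h h1 h2; subst h; rfl
    have h3 := key _ _ e1 hyV (show y0' ∈ V from hyV')
    rw [Scheme.residueFieldMap_comp, Scheme.residueFieldMap_comp, Scheme.residueFieldMap_comp] at h3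
    refine Eq.trans ?_ h3
    change (f0.appLE V U hle ≫ X0.presheaf.germ U (pX x) hxU ≫ X0.residue _ ≫
      pX.residueFieldMap x).hom a = _
    have h4 : f0.appLE V U hle ≫ X0.presheaf.germ U (pX x) hxU ≫ X0.residue (pX x) =
        Y0.presheaf.germ V (f0 (pX x)) hyV ≫ Y0.residue _ ≫ f0.residueFieldMap (pX x) := by
      rw [Scheme.residue_residueFieldMap, Scheme.Hom.germ_stalkMap_assoc]
      simp [Scheme.Hom.appLE]
    simp only [reassoc_of% h4]
    rfl
  have hrange : ∀ g, ψ g ∈ ι.range := by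
    intro g
    have hg : g ∈ Algebra.adjoin Γ(Y0, V) (G : Set Γ(X0, U)) := hG ▸ Algebra.mem_top
    induction hg using Algebra.adjoin_induction with
    | mem a ha => exact hgen a ha
    | algebraMap a => exact ⟨α a, (hα a).symm⟩
    | add a c _ _ ha hc => rw [map_add]; exact add_mem ha hc
    | mul a c _ _ ha hc => rw [map_mul]; exact mul_mem ha hc
  let ψk : Γ(X0, U) →+* (E.obj k).residueField (e.π.app k y) :=
    (RingEquiv.ofBijective ι.rangeRestrict
      ⟨fun a b h => hι (congrArg Subtype.val h), ι.rangeRestrict_surjective⟩).symm.toRingHom.comp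
      (ψ.codRestrict ι.range hrange)
  have hψk : ∀ g, ι (ψk g) = ψ g := fun g =>
    congrArg Subtype.val ((RingEquiv.ofBijective ι.rangeRestrict
      ⟨fun a b h => hι (congrArg Subtype.val h), ι.rangeRestrict_surjective⟩).apply_symm_apply _)
  have hcomm : f0.appLE V U hle ≫ CommRingCat.ofHom ψk = CommRingCat.ofHom α := by
    ext a
    refine hι ?_
    change ι (ψk ((f0.appLE V U hle).hom a)) = ι (α a)
    rw [hψk, hα]
  let σ : Spec ((E.obj k).residueField (e.π.app k y)) ⟶ X0 :=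
    Spec.map (CommRingCat.ofHom ψk) ≫ hU.fromSpec
  have hσ : σ ≫ f0 = (E.obj k).fromSpecResidueField (e.π.app k y) ≫ p k := by
    rw [Category.assoc, ← hV.SpecMap_appLE_fromSpec f0 hU hle, ← Category.assoc, ← Spec.map_comp]
    refine (congrArg (fun m => Spec.map m ≫ hV.fromSpec) hcomm).trans ?_
    change Spec.map (Y0.presheaf.germ V y0' hyV' ≫ Y0.residue _ ≫ (p k).residueFieldMap _) ≫ hV.fromSpec = _
    rw [← Scheme.Hom.SpecMap_residueFieldMap_fromSpecResidueField, Spec.map_comp, Spec.map_comp,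
      Category.assoc, Category.assoc]
    congr 1
    rw [Scheme.fromSpecResidueField, ← hV.fromSpecStalk_eq_fromSpecStalk hyV']
    rfl
  let τ := pullback.lift σ ((E.obj k).fromSpecResidueField (e.π.app k y)) hσ
  obtain ⟨h5, h6⟩ := exists_point_of_lift (pullback.snd f0 (p k))
    ((E.obj k).fromSpecResidueField (e.π.app k y)) τ (pullback.lift_snd _ _ _) default
  exact ⟨k, τ default, h5.trans (Scheme.fromSpecResidueField_apply _ _), h6⟩

/-- Let S = lim S_i be a cofiltered limit of schemes with affine transition morphisms, f₀ : X₀ → Y₀ a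
morphism over some S_{i₀} with Y₀ quasi-compact and quasi-separated and f₀ locally of finite
presentation, and f : X → Y its base change to S. If f is completely decomposed (every point of Y is
the image of a point of X with the same residue field), then some base change f_i : X_i → Y_i of f₀
to an S_i, i → i₀, is completely decomposed. -/
theorem result {I : Type u} [SmallCategory I] [IsCofiltered I]
    (D : I ⥤ Scheme.{u}) (c : Limits.Cone D) (hc : Limits.IsLimit c)
    [∀ (i j : I) (a : i ⟶ j), IsAffineHom (D.map a)]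
    (i0 : I) {X0 Y0 X Y : Scheme.{u}} (f0 : X0 ⟶ Y0) (q0 : Y0 ⟶ D.obj i0) [CompactSpace ↥Y0] [QuasiSeparatedSpace ↥Y0]
    [LocallyOfFinitePresentation f0]
    (f : X ⟶ Y) (q : Y ⟶ c.pt) (pY : Y ⟶ Y0) (pX : X ⟶ X0)
    (hY : IsPullback pY q q0 (c.π.app i0)) (hX : IsPullback pX f f0 pY)
    (hcd : ∀ y : Y, ∃ x : X, f x = y ∧ Function.Bijective (f.residueFieldMap x)) :
    ∃ (i : I) (a : i ⟶ i0) (Xi Yi : Scheme.{u}) (fi : Xi ⟶ Yi) (qi : Yi ⟶ D.obj i) (pYi : Yi ⟶ Y0) (pXi : Xi ⟶ X0),
      IsPullback pYi qi q0 (D.map a) ∧ IsPullback pXi fi f0 pYi ∧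
      ∀ y : Yi, ∃ x : Xi, fi x = y ∧ Function.Bijective (fi.residueFieldMap x) := by
  classical
  haveI : ∀ {i j : I} (a : i ⟶ j), IsAffineHom (D.map a) := fun a => inferInstance
  let F := Over.forget i0
  let c' : Cone (F ⋙ D) := c.whisker F
  have hc' : IsLimit c' := (Functor.Initial.isLimitWhiskerEquiv F c).symm hc
  have hq : ∀ k, c'.π.app k ≫ (overT D i0).app k = c.π.app i0 := fun k => c.w k.hom
  haveI : ∀ k, IsAffineHom ((overT D i0).app k) := fun k => inferInstanceAs (IsAffineHom (D.map k.hom))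
  let E := pbDiagram (F ⋙ D) (overT D i0) q0
  let e := pbCone (F ⋙ D) (overT D i0) q0 c' hq hY
  let he := pbIsLimit (F ⋙ D) (overT D i0) q0 c' hq hY hc'
  haveI hE1 : ∀ k, CompactSpace (E.obj k) := fun k => pb_compactSpace (F ⋙ D) (overT D i0) q0 k
  haveI hE2 : ∀ k, QuasiSeparatedSpace (E.obj k) := fun k =>
    pb_quasiSeparatedSpace (F ⋙ D) (overT D i0) q0 k
  haveI : CompactSpace e.pt := by
    haveI := isAffineHom_π_app E e he (Over.mk (𝟙 i0))
    exact QuasiCompact.compactSpace_of_compactSpace (e.π.app (Over.mk (𝟙 i0)))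
  haveI : QuasiSeparatedSpace e.pt := by
    haveI := isAffineHom_π_app E e he (Over.mk (𝟙 i0))
    exact quasiSeparatedSpace_of_quasiSeparated (e.π.app (Over.mk (𝟙 i0)))
  let p : ∀ k, E.obj k ⟶ Y0 := fun k => pullback.fst q0 ((overT D i0).app k)
  have hp : ∀ k, e.π.app k ≫ p k = pY := fun k => pbCone_fst _ _ _ _ hq hY k
  have hEp : ∀ {k l : Over i0} (a : k ⟶ l), E.map a ≫ p l = p k := fun a => pbMap_fst _ _ _ a
  have hloc : ∀ y : e.pt, ∃ (k : Over i0) (Z : Scheme.{u}) (z : Z ⟶ E.obj k) (σ : Z ⟶ X0),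
      σ ≫ f0 = z ≫ p k ∧ e.π.app k y ∈ Set.range z ∧ IsImmersion z ∧
        Topology.IsConstructible (Set.range z) := by
    intro y
    obtain ⟨x, hxy, hxb⟩ := hcd y
    subst hxy
    obtain ⟨k, x', hx', hb'⟩ := exists_point_stage f0 E e he p pY hp f pX hX.w x hxb
    obtain ⟨Z, z, σ, hyz, hz1, hz2, hz3, -, hσ⟩ :=
      Groth.Agent.S1440.exists_section_at (pullback.snd f0 (p k)) (e.π.app k (f x)) x' hx' hb'
    refine ⟨k, Z, z, σ ≫ pullback.fst _ _, ?_, hyz, hz1, ?_⟩
    · rw [Category.assoc, pullback.condition, ← Category.assoc, hσ]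
    · rw [← Set.image_univ]
      exact z.isConstructible_image Topology.IsConstructible.univ
  choose k Z z σ hσ hyz himm hcons using hloc
  have hop : ∀ y, @IsOpen e.pt (constructibleTopology e.pt) (e.π.app (k y) ⁻¹' Set.range (z y)) :=
    fun y => by
      haveI := isAffineHom_π_app E e he (k y)
      exact Groth.Agent.ConsTop3.isOpen_of_isConstructible
        ((e.π.app (k y)).isConstructible_preimage (hcons y))
  obtain ⟨t, ht⟩ := @IsCompact.elim_finite_subcover e.pt (constructibleTopology e.pt) Set.univ e.pt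
    (@isCompact_univ e.pt (constructibleTopology e.pt) Groth.Agent.ConsTop3.compactSpace_top)
    (fun y => e.π.app (k y) ⁻¹' Set.range (z y)) hop (fun y _ => Set.mem_iUnion.2 ⟨y, hyz y⟩)
  obtain ⟨l, hl⟩ := IsCofiltered.inf_objs_exists (insert (Over.mk (𝟙 i0)) (t.image k))
  let fl : ∀ y : t, l ⟶ k y.1 := fun y =>
    (hl (Finset.mem_insert_of_mem (Finset.mem_image_of_mem k y.2))).some
  let W : Set (E.obj l) := ⋃ y ∈ (Finset.univ : Finset t), E.map (fl y) ⁻¹' Set.range (z y.1)
  have hW : Topology.IsConstructible W :=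
    Topology.IsConstructible.biUnion (Finset.finite_toSet _) fun y _ =>
      (E.map (fl y)).isConstructible_preimage (hcons y.1)
  have hWe : e.π.app l ⁻¹' W = Set.univ := by
    refine Set.eq_univ_of_forall fun w => ?_
    obtain ⟨y, hy, hw⟩ := Set.mem_iUnion₂.1 (ht (Set.mem_univ w))
    refine Set.mem_iUnion₂.2 ⟨⟨y, hy⟩, Finset.mem_univ _, ?_⟩
    rw [Set.mem_preimage, ← Scheme.Hom.comp_apply, e.w]
    exact hw
  obtain ⟨m, fm, hm⟩ :=
    exists_preimage_eq_univ_of_isConstructible (D := E) (c := e) he W hW hWe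
  refine ⟨m.left, m.hom, pullback f0 (p m), E.obj m, pullback.snd f0 (p m),
    pullback.snd q0 (D.map m.hom), p m, pullback.fst f0 (p m),
    IsPullback.of_hasPullback q0 (D.map m.hom), IsPullback.of_hasPullback f0 (p m), fun w => ?_⟩
  obtain ⟨y, -, hy⟩ := Set.mem_iUnion₂.1 (hm.symm.subset (Set.mem_univ w))
  have hy' : (E.map (fm ≫ fl y)) w ∈ Set.range (z y.1) := by
    rw [Functor.map_comp]; exact hy
  haveI := himm y.1
  obtain ⟨w', hw', -⟩ := Scheme.Pullback.exists_preimage_pullback (f := z y.1)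
    (g := E.map (fm ≫ fl y)) hy'.choose w hy'.choose_spec
  let zm := pullback.snd (z y.1) (E.map (fm ≫ fl y))
  haveI : IsImmersion zm := inferInstance
  let τ : pullback (z y.1) (E.map (fm ≫ fl y)) ⟶ pullback f0 (p m) :=
    pullback.lift (pullback.fst _ _ ≫ σ y.1) zm (by
      rw [Category.assoc, hσ, pullback.condition_assoc, hEp]
      )
  obtain ⟨w₂, hw₂⟩ : ∃ w₂, zm w₂ = w := by
    obtain ⟨w₂, -, h2⟩ := Scheme.Pullback.exists_preimage_pullback (f := z y.1)
      (g := E.map (fm ≫ fl y)) hy'.choose w hy'.choose_spec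
    exact ⟨w₂, h2⟩
  obtain ⟨h5, h6⟩ := exists_point_of_lift (pullback.snd f0 (p m)) zm τ (pullback.lift_snd _ _ _) w₂
  exact ⟨τ w₂, h5.trans hw₂, h6⟩

end Groth.Agent.S7191
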