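import Groth.Statements.S7196
import Groth.Agent.Lib.MorAF4.Basic
import Groth.Agent.Lib.FinAffine12.Basic
import Mathlib.AlgebraicGeometry.ZariskisMainTheorem

set_option autoImplicit false
universe u
open CategoryTheory AlgebraicGeometry
open FlatMor
set_option maxSynthPendingDepth 3
open TensorProduct

set_option backward.isDefEq.respectTransparency.types false

namespace Groth.Agent.S7196

/-- For Z → S finite locally free and X → S separated, locally of finite type and with discrete fibres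
(locally quasi-finite), the functor T ↦ {S-morphisms T ×_S Z → X} on S-schemes is represented by
some S-scheme. -/
theorem result {Z X S : Scheme.{u}} (g : Z ⟶ S) (f : X ⟶ S) (hg : Mor2.IsFinLocFree g)
    [IsSeparated f] [LocallyQuasiFinite f] [LocallyOfFiniteType f] :
    (Flatn.morS g f).IsRepresentable := by
  haveI : IsFinite g := hg.1
  haveI : Flat g := hg.2.1
  haveI : LocallyOfFinitePresentation g := hg.2.2
  refine MorAF4.isRepresentable g f fun s E hE hEs => ?_
  obtain ⟨V, hV, hsV, -⟩ := exists_isAffineOpen_mem_and_subset (X := S) (x := s) (U := ⊤) trivial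
  haveI : IsAffine (V : Scheme.{u}) := hV
  have hc : ∀ x : E, ∃ U : X.Opens, IsAffineOpen U ∧ (x : X) ∈ U ∧ U ≤ f ⁻¹ᵁ V := fun x =>
    exists_isAffineOpen_mem_and_subset (X := X) (x := (x : X)) (U := f ⁻¹ᵁ V) (by
      show f x.1 ∈ V
      rw [hEs x.2]
      exact hsV)
  choose U hU hxU hUV using hc
  haveI := hE.to_subtype
  let W : X.Opens := ⨆ x, U x
  have hWV : W ≤ f ⁻¹ᵁ V := iSup_le hUV
  haveI : CompactSpace (W : Scheme.{u}) := isCompact_iff_compactSpace.1 (by
    rw [TopologicalSpace.Opens.coe_iSup]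
    exact isCompact_iUnion fun x => (hU x).isCompact)
  let φ : (W : Scheme.{u}) ⟶ (V : Scheme.{u}) := f.resLE V W hWV
  haveI : IsSeparated φ := by
    haveI : IsSeparated (φ ≫ V.ι) := by rw [Scheme.Hom.resLE_comp_ι]; infer_instance
    exact IsSeparated.of_comp φ V.ι
  haveI : LocallyOfFiniteType φ := by
    haveI : LocallyOfFiniteType (φ ≫ V.ι) := by rw [Scheme.Hom.resLE_comp_ι]; infer_instance
    exact locallyOfFiniteType_of_comp φ V.ι
  haveI : LocallyQuasiFinite φ := by
    haveI : LocallyQuasiFinite (φ ≫ V.ι) := by rw [Scheme.Hom.resLE_comp_ι]; infer_instance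
    exact LocallyQuasiFinite.of_comp φ V.ι
  haveI : QuasiCompact φ := (quasiCompact_iff_compactSpace φ).2 inferInstance
  haveI : IsAffine φ.normalization := isAffine_of_isAffineHom φ.fromNormalization
  let j := φ.toNormalization
  obtain ⟨r, hr, hEr⟩ := FinAffine12.exists_basicOpen_of_finite (Y := φ.normalization) j.opensRange
    (j '' (W.ι ⁻¹' E)) ((hE.preimage W.ι.isOpenEmbedding.injective.injOn).image _) (by
      rintro _ ⟨z, -, rfl⟩
      exact ⟨z, rfl⟩)
  have h1 : IsAffineOpen (j ⁻¹ᵁ φ.normalization.basicOpen r) := by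
    rw [← j.isAffineOpen_iff_of_isOpenImmersion, Scheme.Hom.image_preimage_eq_opensRange_inf]
    rw [inf_eq_right.2 hr]
    exact (isAffineOpen_top _).basicOpen r
  refine ⟨W.ι ''ᵁ (j ⁻¹ᵁ φ.normalization.basicOpen r), h1.image_of_isOpenImmersion W.ι, fun x hx => ?_⟩
  have hxW : x ∈ W := TopologicalSpace.Opens.mem_iSup.2 ⟨⟨x, hx⟩, hxU ⟨x, hx⟩⟩
  exact ⟨⟨x, hxW⟩, hEr ⟨⟨x, hxW⟩, hx, rfl⟩, rfl⟩

end Groth.Agent.S7196
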