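import Groth.Statements.S7199
import Groth.Agent.Lib.VarDim.Alg
import Mathlib

set_option autoImplicit false
universe u
open FlatMor

namespace Groth.Agent.S7199

section Aux
open MvPolynomial

variable {k A : Type u} [Field k] [CommRing A] [IsDomain A] [Algebra k A]

theorem algebraicIndependent_pair [Algebra.FiniteType k A] (a b : A) (p : Ideal A)
    (hp : p ∈ (Ideal.span {a, b}).minimalPrimes) (hdim : ringKrullDim (A ⧸ p) + 2 = ringKrullDim A) :
    AlgebraicIndependent k ![a, b] := by
  classical
  haveI : IsNoetherianRing A := Algebra.FiniteType.isNoetherianRing k A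
  haveI := hp.1.1
  have hht : p.height = 2 := by
    have h := VarDim.height_add_coheight k A ⟨p, hp.1.1⟩
    have hc : ringKrullDim (A ⧸ p) = (Order.coheight (⟨p, hp.1.1⟩ : PrimeSpectrum A) : WithBot ℕ∞) := by
      rw [VarDim.coheight_eq_tdeg k A ⟨p, hp.1.1⟩, VarDim.ringKrullDim_eq_tdeg k (A ⧸ p)]; rfl
    rw [← hdim, hc] at h
    rw [show p.height = Order.height (⟨p, hp.1.1⟩ : PrimeSpectrum A) from PrimeSpectrum.height_eq_orderHeight ⟨p, hp.1.1⟩]
    have h' : Order.height (⟨p, hp.1.1⟩ : PrimeSpectrum A) + Order.coheight (⟨p, hp.1.1⟩ : PrimeSpectrum A) =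
        Order.coheight (⟨p, hp.1.1⟩ : PrimeSpectrum A) + 2 :=
      WithBot.coe_injective h
    obtain ⟨c, hc'⟩ := ENat.ne_top_iff_exists.1 (VarDim.coheight_lt_top' k A ⟨p, hp.1.1⟩).ne
    rw [← hc', add_comm] at h'
    exact (ENat.add_right_injective_of_ne_top (ENat.natCast_ne_top c)) h'
  by_contra hdep
  rw [AlgebraicIndependent] at hdep
  let θ : MvPolynomial (Fin 2) k →ₐ[k] A := aeval ![a, b]
  let D := MvPolynomial (Fin 2) k ⧸ RingHom.ker θ
  obtain ⟨r, hr, hr0⟩ : ∃ r, r ∈ RingHom.ker θ ∧ r ≠ 0 := by
    by_contra hno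
    push Not at hno
    exact hdep ((injective_iff_map_eq_zero θ).2 fun x hx => hno x hx)
  have hD : ringKrullDim D ≤ 1 := by
    have h1 := ringKrullDim_quotient_succ_le_of_nonZeroDivisor (mem_nonZeroDivisors_of_ne_zero hr0)
    rw [VarDim.ringKrullDim_mvPolynomial k 2] at h1
    have h2 : ringKrullDim D ≤ ringKrullDim (MvPolynomial (Fin 2) k ⧸ Ideal.span {r}) :=
      ringKrullDim_le_of_surjective (Ideal.Quotient.factor ((Ideal.span_singleton_le_iff_mem _).2 hr))
        (Ideal.Quotient.factor_surjective _)
    refine h2.trans ?_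
    cases hq : ringKrullDim (MvPolynomial (Fin 2) k ⧸ Ideal.span {r}) with
    | bot => exact bot_le
    | coe e =>
      rw [hq] at h1
      have h1' : e + 1 ≤ (2 : ℕ∞) := WithBot.coe_le_coe.1 h1
      exact WithBot.coe_le_coe.2 (ENat.add_le_add_iff_right ENat.one_ne_top |>.1 (by simpa [one_add_one_eq_two] using h1'))
  let φ : D →+* A := Ideal.Quotient.lift _ θ.toRingHom fun x hx => hx
  have hφ : Function.Injective φ := by
    rw [injective_iff_map_eq_zero]
    intro z hz
    obtain ⟨z, rfl⟩ := Ideal.Quotient.mk_surjective z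
    exact Ideal.Quotient.eq_zero_iff_mem.2 hz
  haveI : IsDomain D := Function.Injective.isDomain φ hφ
  let m : Ideal D := p.comap φ
  let x : Fin 2 → D := fun i => Ideal.Quotient.mk _ (X i)
  have hφx : ∀ i, φ (x i) = ![a, b] i := fun i => aeval_X _ _
  have hxm : ∀ i, x i ∈ m := fun i => by
    show φ (x i) ∈ p
    rw [hφx]
    exact hp.1.2 (Ideal.subset_span (by fin_cases i <;> simp))
  obtain ⟨f, hfm, hf0⟩ : ∃ f, f ∈ m ∧ f ≠ 0 := by
    by_contra hno
    push Not at hno
    have hab : ∀ i, ![a, b] i = 0 := fun i => by rw [← hφx, hno _ (hxm i), map_zero]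
    have hp0 : p = ⊥ := le_bot_iff.1 (hp.2 ⟨Ideal.isPrime_bot, Ideal.span_le.2 (by
      rintro y (rfl | rfl)
      · exact (hab 0 : _ = _)
      · exact (hab 1 : _ = _))⟩ bot_le)
    rw [hp0, Ideal.height_bot] at hht
    exact two_ne_zero hht.symm
  -- `p` is minimal over `φ f`
  have hmin : p ∈ (Ideal.span {φ f}).minimalPrimes := by
    refine ⟨⟨hp.1.1, (Ideal.span_singleton_le_iff_mem _).2 hfm⟩, fun q hq hqp => ?_⟩
    haveI := hq.1
    refine hp.2 ⟨hq.1, Ideal.span_le.2 ?_⟩ hqp
    have key : ∀ i, φ (x i) ∈ q := by
      intro i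
      haveI : (q.comap φ).IsPrime := Ideal.IsPrime.comap _
      have hle : q.comap φ ≤ m := Ideal.comap_mono hqp
      have hne : q.comap φ ≠ ⊥ := fun h => by
        have hf : f ∈ q.comap φ := hq.2 (Ideal.mem_span_singleton_self _)
        rw [h] at hf
        exact hf0 (Ideal.mem_bot.1 hf)
      haveI : Ring.KrullDimLE 1 D := Ring.krullDimLE_iff.2 hD
      have hmax : (q.comap φ).IsMaximal := (inferInstance : (q.comap φ).IsPrime).isMaximal_of_ne_bot hne
      rw [← Ideal.mem_comap, hmax.eq_of_le (Ideal.IsPrime.ne_top (Ideal.IsPrime.comap φ)) hle]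
      exact hxm i
    rintro y (rfl | rfl)
    · have := key 0
      rw [hφx] at this
      exact this
    · have := key 1
      rw [hφx] at this
      exact this
  have h1 := Ideal.height_le_one_of_isPrincipal_of_mem_minimalPrimes _ p hmin
  rw [hht] at h1
  exact absurd h1 (by decide)

theorem key {N : Type} [Fintype N] [DecidableEq N] {F : Type u} [Field F] [Algebra k F] (g : N → F) (i j : N)
    (hij : i ≠ j) (h : AlgebraicIndependent k ![g i, g j]) :
    AlgebraicIndependent k (Sum.elim (fun l : N => (X l : MvPolynomial N F)) ![∑ l, C (g l) * X l, C (g i)]) := by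
  classical
  let u : N ⊕ Fin 1 → MvPolynomial N F := Sum.elim (fun l => X l) ![C (g i)]
  let w : N ⊕ Fin 2 → MvPolynomial N F := Sum.elim (fun l => X l) ![C (g i), C (g j)]
  have hw : AlgebraicIndependent k w := by
    have e : (aeval w : MvPolynomial (N ⊕ Fin 2) k →ₐ[k] MvPolynomial N F) =
        (mapAlgHom (aeval ![g i, g j])).comp (sumAlgEquiv k N (Fin 2)).toAlgHom := by
      refine MvPolynomial.algHom_ext fun o => ?_
      rcases o with l | l
      · simp [w]
      · fin_cases l <;> simp [w]
    rw [AlgebraicIndependent, e]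
    exact (map_injective _ h).comp (sumAlgEquiv k N (Fin 2)).injective
  have hu : AlgebraicIndependent k u := by
    have : u = w ∘ Sum.map id (fun _ => (0 : Fin 2)) := by
      funext o
      rcases o with l | l
      · rfl
      · fin_cases l; rfl
    rw [this]
    exact hw.comp _ (Sum.map_injective.2 ⟨Function.injective_id, Function.injective_of_subsingleton _⟩)
  have hj : Transcendental (Algebra.adjoin k (Set.range u)) (C (g j) : MvPolynomial N F) := by
    refine (hu.option_iff_transcendental _).1 ?_
    let e : Option (N ⊕ Fin 1) → N ⊕ Fin 2 := fun o => o.elim (Sum.inr 1) (Sum.map id fun _ => (0 : Fin 2))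
    have he : Function.Injective e := by
      rintro (_ | l | l) (_ | l' | l') h <;> simp [e] at h ⊢ <;> first | exact h | exact Subsingleton.elim _ _
    convert hw.comp e he using 1
    funext o
    rcases o with _ | l | l
    · rfl
    · rfl
    · fin_cases l; rfl
  have hY : Transcendental (Algebra.adjoin k (Set.range u)) (∑ l, C (g l) * X l : MvPolynomial N F) := by
    intro hY
    apply hj
    let σ : MvPolynomial N F →ₐ[F] MvPolynomial N F := aeval fun l => X l + if l = j then 1 else 0
    let σ' : MvPolynomial N F →ₐ[F] MvPolynomial N F := aeval fun l => X l - if l = j then 1 else 0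
    have hσ : Function.Injective σ := by
      have e : σ'.comp σ = AlgHom.id F _ := MvPolynomial.algHom_ext fun l => by
        by_cases hl : l = j <;> simp [σ, σ', hl]
      exact Function.HasLeftInverse.injective ⟨σ', fun x => DFunLike.congr_fun e x⟩
    have hS : ∀ x ∈ Algebra.adjoin k (Set.range u), σ x ∈ Algebra.adjoin k (Set.range u) := by
      intro x hx
      have hle : Algebra.adjoin k (Set.range u) ≤ (Algebra.adjoin k (Set.range u)).comap (σ.restrictScalars k) := by
        refine Algebra.adjoin_le ?_
        rintro _ ⟨o, rfl⟩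
        show σ (u o) ∈ Algebra.adjoin k (Set.range u)
        rcases o with l | l
        · rw [show u (Sum.inl l) = X l from rfl, show σ (X l) = X l + if l = j then 1 else 0 from aeval_X _ _]
          refine add_mem (Algebra.subset_adjoin ⟨Sum.inl l, rfl⟩) ?_
          split
          · exact one_mem _
          · exact zero_mem _
        · fin_cases l
          show σ (C (g i)) ∈ _
          rw [show σ (C (g i)) = C (g i) from aeval_C _ _]
          exact Algebra.subset_adjoin ⟨Sum.inr 0, rfl⟩
      exact hle hx
    have hσY : σ (∑ l, C (g l) * X l) = (∑ l, C (g l) * X l) + C (g j) := by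
      simp only [map_sum, map_mul, σ, aeval_X, aeval_C, algebraMap_eq, mul_add, Finset.sum_add_distrib,
        mul_ite, mul_one, mul_zero, Finset.sum_ite_eq', Finset.mem_univ, if_true]
    have halg : IsAlgebraic (Algebra.adjoin k (Set.range u)) (σ (∑ l, C (g l) * X l) : MvPolynomial N F) := by
      obtain ⟨P, hP0, hP⟩ := hY
      let τ : Algebra.adjoin k (Set.range u) →+* Algebra.adjoin k (Set.range u) :=
        (σ.toRingHom.comp (Algebra.adjoin k (Set.range u)).val.toRingHom).codRestrict _ fun x => hS _ x.2
      have hτ : Function.Injective τ := fun x y hxy => Subtype.ext (hσ (congrArg Subtype.val hxy))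
      refine ⟨P.map τ, (Polynomial.map_ne_zero_iff hτ).2 hP0, ?_⟩
      have := congrArg σ.toRingHom hP
      rw [map_zero, Polynomial.aeval_def, Polynomial.hom_eval₂] at this
      rw [Polynomial.aeval_def, Polynomial.eval₂_map]
      exact this
    have : IsAlgebraic (Algebra.adjoin k (Set.range u))
        (σ (∑ l, C (g l) * X l) - ∑ l, C (g l) * X l : MvPolynomial N F) := halg.sub hY
    rwa [hσY, add_sub_cancel_left] at this
  have h2 := (hu.option_iff_transcendental _).2 hY
  let e : N ⊕ Fin 2 → Option (N ⊕ Fin 1) := Sum.elim (fun l => some (Sum.inl l)) ![none, some (Sum.inr 0)]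
  have he : Function.Injective e := by
    rintro (l | l) (l' | l') h <;> [skip; fin_cases l'; fin_cases l; (fin_cases l <;> fin_cases l')] <;>
      simp [e] at h ⊢ <;> exact h
  convert h2.comp e he using 1
  funext o
  rcases o with l | l
  · rfl
  · fin_cases l <;> rfl

end Aux


/-- Take a field k, an integral domain A that is a finitely generated k-algebra, n ≥ 2 and g_1, …, g_n ∈
A, and suppose some irreducible component of the common zero locus of g_1 and g_2 in Spec A has
dimension dim A − 2. Then for suitable c_1, …, c_n ∈ k the n + 2 elements x_1, …, x_n, Σ g_i x_i, Σ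
c_i g_i of the rational function field Frac(A)(x_1, …, x_n) form an algebraically independent family
over k. -/
theorem result {k A : Type u} [Field k] [CommRing A] [IsDomain A] [Algebra k A]
    [Algebra.FiniteType k A] (m : ℕ) (g : Fin (m + 2) → A)
    (p : Ideal A) (hp : p ∈ (Ideal.span {g 0, g 1}).minimalPrimes) (hdim : ringKrullDim (A ⧸ p) + 2 = ringKrullDim A) :
    ∃ c : Fin (m + 2) → k,
      AlgebraicIndependent k
        (Sum.elim
          (fun i : Fin (m + 2) => algebraMap (MvPolynomial (Fin (m + 2)) (FractionRing A)) (FractionRing (MvPolynomial (Fin (m + 2)) (FractionRing A))) (MvPolynomial.X i))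
          ![∑ i, algebraMap A (FractionRing (MvPolynomial (Fin (m + 2)) (FractionRing A))) (g i) *
              algebraMap (MvPolynomial (Fin (m + 2)) (FractionRing A)) (FractionRing (MvPolynomial (Fin (m + 2)) (FractionRing A))) (MvPolynomial.X i),
            algebraMap A (FractionRing (MvPolynomial (Fin (m + 2)) (FractionRing A))) (∑ i, c i • g i)]) := by
  classical
  refine ⟨Pi.single 0 1, ?_⟩
  let F := FractionRing A
  have hind : AlgebraicIndependent k ![algebraMap A F (g 0), algebraMap A F (g 1)] := by
    have := (algebraicIndependent_pair (g 0) (g 1) p hp hdim).map' (f := IsScalarTower.toAlgHom k A F)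
      (IsFractionRing.injective A F)
    convert this using 1
    funext i
    fin_cases i <;> rfl
  have h := key (fun l => algebraMap A F (g l)) 0 1 (by simp [Fin.ext_iff]) hind
  have h' := h.map' (f := IsScalarTower.toAlgHom k (MvPolynomial (Fin (m + 2)) F)
    (FractionRing (MvPolynomial (Fin (m + 2)) F))) (IsFractionRing.injective _ (FractionRing (MvPolynomial (Fin (m + 2)) F)))
  convert h' using 1
  funext o
  rcases o with l | l
  · rfl
  · fin_cases l
    · have hc : ∀ a : A, algebraMap A (FractionRing (MvPolynomial (Fin (m + 2)) F)) a =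
          algebraMap (MvPolynomial (Fin (m + 2)) F) (FractionRing (MvPolynomial (Fin (m + 2)) F))
            (MvPolynomial.C (algebraMap A F a)) := fun a => by
        rw [IsScalarTower.algebraMap_apply A (MvPolynomial (Fin (m + 2)) F) (FractionRing (MvPolynomial (Fin (m + 2)) F))]
        rfl
      show (∑ i : Fin (m + 2), _) = algebraMap (MvPolynomial (Fin (m + 2)) F) (FractionRing (MvPolynomial (Fin (m + 2)) F))
        (∑ l, MvPolynomial.C (algebraMap A F (g l)) * MvPolynomial.X l)
      rw [map_sum]
      exact Finset.sum_congr rfl fun l _ => by rw [hc, map_mul]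
    · have e : (∑ i, (Pi.single (0 : Fin (m + 2)) (1 : k) : Fin (m + 2) → k) i • g i) = g 0 := by
        simp [Pi.single_apply, ite_smul]
      have hc : ∀ a : A, algebraMap A (FractionRing (MvPolynomial (Fin (m + 2)) F)) a =
          algebraMap (MvPolynomial (Fin (m + 2)) F) (FractionRing (MvPolynomial (Fin (m + 2)) F))
            (MvPolynomial.C (algebraMap A F a)) := fun a => by
        rw [IsScalarTower.algebraMap_apply A (MvPolynomial (Fin (m + 2)) F) (FractionRing (MvPolynomial (Fin (m + 2)) F))]
        rfl
      show algebraMap A (FractionRing (MvPolynomial (Fin (m + 2)) F)) (∑ i : Fin (m + 2), (Pi.single (0 : Fin (m + 2)) (1 : k) : Fin (m + 2) → k) i • g i) = _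
      rw [e, hc]
      rfl

end Groth.Agent.S7199
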