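import Groth.Statements.S7201
import Groth.Agent.Lib.ArtinApproxH7.Core
-- import your own Groth.Agent.* helpers here

set_option autoImplicit false
universe u
open FlatMor

namespace Groth.Agent.S7201

open AlgebraicGeometry CategoryTheory Limits in
/-- Let h : T → S be a morphism of finite type between Noetherian schemes, t a point of T with image s,
and σ : O_{T,t} → O_{S,s}^∧ a local O_{S,s}-algebra map to the completion. For every N ≥ 1 there is
a morphism of finite type g : T' → T and a point t' over t such that σ factors through O_{T,t} →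
O_{T',t'}, and any local O_{S,s}-algebra map σ' : O_{T,t} → O_{S,s}^∧ factoring through O_{T,t} →
O_{T',t'} agrees with σ modulo m_s^N. -/
theorem result {T S : Scheme.{u}} [IsNoetherian T] [IsNoetherian S]
    (h : T ⟶ S) [LocallyOfFiniteType h] [QuasiCompact h] (t : T)
    (σ : ↑(T.presheaf.stalk t) →+* (AdicCompletion (IsLocalRing.maximalIdeal ↑(S.presheaf.stalk (h t))) ↑(S.presheaf.stalk (h t))))
    (hσ : σ.comp (h.stalkMap t).hom = algebraMap ↑(S.presheaf.stalk (h t)) (AdicCompletion (IsLocalRing.maximalIdeal ↑(S.presheaf.stalk (h t))) ↑(S.presheaf.stalk (h t))))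
    (hloc : ∀ a ∈ IsLocalRing.maximalIdeal ↑(T.presheaf.stalk t),
      σ a ∈ (IsLocalRing.maximalIdeal ↑(S.presheaf.stalk (h t))).map (algebraMap ↑(S.presheaf.stalk (h t)) (AdicCompletion (IsLocalRing.maximalIdeal ↑(S.presheaf.stalk (h t))) ↑(S.presheaf.stalk (h t)))))
    (N : ℕ) (hN : 1 ≤ N) :
    ∃ (T' : Scheme.{u}) (g : T' ⟶ T) (t' : T') (hg : g t' = t) (τ : ↑(T'.presheaf.stalk t') →+* (AdicCompletion (IsLocalRing.maximalIdeal ↑(S.presheaf.stalk (h t))) ↑(S.presheaf.stalk (h t)))),
      LocallyOfFiniteType g ∧ QuasiCompact g ∧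
      τ.comp ((g.stalkMap t').hom.comp (T.presheaf.stalkCongr (Inseparable.of_eq hg)).inv.hom) = σ ∧
      ∀ (σ' : ↑(T.presheaf.stalk t) →+* (AdicCompletion (IsLocalRing.maximalIdeal ↑(S.presheaf.stalk (h t))) ↑(S.presheaf.stalk (h t)))),
        σ'.comp (h.stalkMap t).hom = algebraMap ↑(S.presheaf.stalk (h t)) (AdicCompletion (IsLocalRing.maximalIdeal ↑(S.presheaf.stalk (h t))) ↑(S.presheaf.stalk (h t))) →
        (∀ a ∈ IsLocalRing.maximalIdeal ↑(T.presheaf.stalk t),
          σ' a ∈ (IsLocalRing.maximalIdeal ↑(S.presheaf.stalk (h t))).map (algebraMap ↑(S.presheaf.stalk (h t)) (AdicCompletion (IsLocalRing.maximalIdeal ↑(S.presheaf.stalk (h t))) ↑(S.presheaf.stalk (h t))))) →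
        (∃ τ' : ↑(T'.presheaf.stalk t') →+* (AdicCompletion (IsLocalRing.maximalIdeal ↑(S.presheaf.stalk (h t))) ↑(S.presheaf.stalk (h t))),
          τ'.comp ((g.stalkMap t').hom.comp (T.presheaf.stalkCongr (Inseparable.of_eq hg)).inv.hom) = σ') →
        ∀ a : ↑(T.presheaf.stalk t), σ a - σ' a ∈ (IsLocalRing.maximalIdeal ↑(S.presheaf.stalk (h t)) ^ N).map (algebraMap ↑(S.presheaf.stalk (h t)) (AdicCompletion (IsLocalRing.maximalIdeal ↑(S.presheaf.stalk (h t))) ↑(S.presheaf.stalk (h t)))) := by
  classical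
  obtain ⟨V, hV, hsV, -⟩ := exists_isAffineOpen_mem_and_subset (X := S) (x := h t) (U := ⊤) trivial
  obtain ⟨U, hU, htU, hUV⟩ := exists_isAffineOpen_mem_and_subset (X := T) (x := t) (U := h ⁻¹ᵁ V) hsV
  let s := h t
  let Os := S.presheaf.stalk s
  let Ot := T.presheaf.stalk t
  let C := AdicCompletion (IsLocalRing.maximalIdeal Os) Os
  let A : Type u := Γ(S, V)
  let B : Type u := Γ(T, U)
  letI : Algebra A B := (h.appLE V U hUV).hom.toAlgebra
  haveI : IsNoetherianRing A := IsLocallyNoetherian.component_noetherian ⟨V, hV⟩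
  haveI : Algebra.FiniteType A B :=
    HasRingHomProperty.appLE (P := @LocallyOfFiniteType) h inferInstance ⟨V, hV⟩ ⟨U, hU⟩ hUV
  letI : Algebra A Os := (S.presheaf.germ V s hsV).hom.toAlgebra
  letI : Algebra B Ot := (T.presheaf.germ U t htU).hom.toAlgebra
  let p : Ideal A := (hV.primeIdealOf ⟨s, hsV⟩).asIdeal
  let q : Ideal B := (hU.primeIdealOf ⟨t, htU⟩).asIdeal
  haveI : IsLocalization.AtPrime Os p := hV.isLocalization_stalk ⟨s, hsV⟩
  haveI : IsLocalization.AtPrime Ot q := hU.isLocalization_stalk ⟨t, htU⟩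
  have hcompat : ∀ a : A, (h.stalkMap t) (algebraMap A Os a) = algebraMap B Ot (algebraMap A B a) := by
    intro a
    have e : S.presheaf.germ V s hsV ≫ h.stalkMap t = h.appLE V U hUV ≫ T.presheaf.germ U t htU := by
      rw [Scheme.Hom.germ_stalkMap, Scheme.Hom.appLE, Category.assoc, TopCat.Presheaf.germ_res]
    exact congr($(e) a)
  let ι₀ : Os →+* C := algebraMap Os C
  let σB : B →+* C := σ.comp (algebraMap B Ot)
  have hσA : ∀ a : A, σB (algebraMap A B a) = ι₀ (algebraMap A Os a) := fun a => by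
    show σ (algebraMap B Ot (algebraMap A B a)) = _
    rw [← hcompat]
    exact RingHom.congr_fun hσ _
  let M : Ideal C := (IsLocalRing.maximalIdeal Os ^ N).map ι₀
  let m : Ideal C := (IsLocalRing.maximalIdeal Os).map ι₀
  have hfg : (IsLocalRing.maximalIdeal Os).FG := IsNoetherian.noetherian _
  -- generators of `p ^ N`
  obtain ⟨k, π, hπ⟩ := Submodule.fg_iff_exists_fin_generating_family.1 (IsNoetherian.noetherian (p ^ N))
  have hM : M = Ideal.span (Set.range fun j => ι₀ (algebraMap A Os (π j))) := by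
    refine (congrArg (fun I => Ideal.map ι₀ (I ^ N)) (IsLocalization.AtPrime.map_eq_maximalIdeal p Os).symm).trans ?_
    show ((p.map (algebraMap A Os)) ^ N).map ι₀ = _
    rw [← Ideal.map_pow,
      show p ^ N = Ideal.span (Set.range π) from hπ.symm, Ideal.map_map, Ideal.map_span, ← Set.range_comp]
    rfl
  -- generators of `B`
  obtain ⟨n, gen, hgen⟩ : ∃ (n : ℕ) (gen : Fin n → B), Algebra.adjoin A (Set.range gen) = ⊤ := by
    obtain ⟨G, hG⟩ := (inferInstance : Algebra.FiniteType A B).out
    exact ⟨G.card, fun i => (G.equivFin.symm i : B), by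
      rw [← hG]; congr 1; ext x
      exact ⟨fun ⟨i, hi⟩ => hi ▸ (G.equivFin.symm i).2, fun hx => ⟨G.equivFin ⟨x, hx⟩, by simp⟩⟩⟩
  have happ : ∀ i, ∃ (α u : A) (c : Fin k → C), u ∉ p ∧
      σB (gen i) * ι₀ (algebraMap A Os u) - ι₀ (algebraMap A Os α) = ∑ j, c j * ι₀ (algebraMap A Os (π j)) := by
    intro i
    obtain ⟨r, hr⟩ := ArtinApproxH7.exists_approx (IsLocalRing.maximalIdeal Os) hfg N (σB (gen i))
    obtain ⟨α, ⟨u, hu⟩, rfl⟩ := IsLocalization.exists_mk'_eq p.primeCompl r
    have h1 : σB (gen i) * ι₀ (algebraMap A Os u) - ι₀ (algebraMap A Os α) ∈ M := by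
      have h2 := Ideal.mul_mem_right (ι₀ (algebraMap A Os u)) _ hr
      rw [sub_mul] at h2
      have h3 : ι₀ (IsLocalization.mk' Os α ⟨u, hu⟩) * ι₀ (algebraMap A Os u) = ι₀ (algebraMap A Os α) := by
        rw [← map_mul]
        exact congrArg ι₀ (IsLocalization.mk'_spec Os α ⟨u, hu⟩)
      rwa [show algebraMap Os C = ι₀ from rfl, h3] at h2
    rw [hM, Ideal.mem_span_range_iff_exists_fun] at h1
    obtain ⟨c, hc⟩ := h1
    exact ⟨α, u, c, hu, hc.symm⟩
  choose α u c hu hc using happ
  let rel : Fin n → MvPolynomial (Fin n × Fin k) B := fun i =>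
    MvPolynomial.C (algebraMap A B (u i) * gen i - algebraMap A B (α i)) -
      ∑ j, MvPolynomial.X (i, j) * MvPolynomial.C (algebraMap A B (π j))
  let B' := MvPolynomial (Fin n × Fin k) B ⧸ Ideal.span (Set.range rel)
  let ev : MvPolynomial (Fin n × Fin k) B →+* C := MvPolynomial.eval₂Hom σB (fun x => c x.1 x.2)
  have hev : ∀ i, ev (rel i) = 0 := fun i => by
    simp only [rel, ev, map_sub, map_sum, map_mul, MvPolynomial.eval₂Hom_C, MvPolynomial.eval₂Hom_X', hσA]
    rw [← hc i]; ring
  let τ₀ : B' →+* C := Ideal.Quotient.lift _ ev fun x hx => by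
    have : Ideal.span (Set.range rel) ≤ RingHom.ker ev := Ideal.span_le.2 fun x ⟨i, hi⟩ => by
      rw [← hi]; exact hev i
    exact this hx
  have hτ₀ : ∀ b : B, τ₀ (algebraMap B B' b) = σB b := fun b => by
    show ev (MvPolynomial.C b) = σB b
    exact MvPolynomial.eval₂Hom_C _ _ b
  -- the point
  haveI hlocC : IsLocalRing C := inferInstance
  have hm : m = IsLocalRing.maximalIdeal C :=
    (AdicCompletion.maximalIdeal_eq_map).symm
  let t' : Spec (CommRingCat.of B') := ⟨(IsLocalRing.maximalIdeal C).comap τ₀, Ideal.IsPrime.comap _⟩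
  let g : Spec (CommRingCat.of B') ⟶ T := Spec.map (CommRingCat.ofHom (algebraMap B B')) ≫ hU.fromSpec
  have hσloc : (IsLocalRing.maximalIdeal C).comap σ = IsLocalRing.maximalIdeal Ot := by
    haveI : ((IsLocalRing.maximalIdeal C).comap σ).IsPrime := Ideal.IsPrime.comap _
    refine le_antisymm (IsLocalRing.le_maximalIdeal (Ideal.IsPrime.ne_top inferInstance)) fun a ha => ?_
    show σ a ∈ IsLocalRing.maximalIdeal C
    rw [← hm]
    exact hloc a ha
  have hg : g t' = t := by
    show hU.fromSpec (Spec.map (CommRingCat.ofHom (algebraMap B B')) t') = t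
    have e : Spec.map (CommRingCat.ofHom (algebraMap B B')) t' = hU.primeIdealOf ⟨t, htU⟩ := by
      apply PrimeSpectrum.ext
      show ((IsLocalRing.maximalIdeal C).comap τ₀).comap (algebraMap B B') = q
      rw [Ideal.comap_comap, show τ₀.comp (algebraMap B B') = σB from RingHom.ext hτ₀, ← Ideal.comap_comap, hσloc]
      exact IsLocalization.AtPrime.comap_maximalIdeal Ot q
    rw [e]
    exact hU.fromSpec_primeIdealOf ⟨t, htU⟩
  letI : Algebra B' ((Spec (CommRingCat.of B')).presheaf.stalk t') := StructureSheaf.stalkAlgebra B' t'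
  haveI : IsLocalization.AtPrime ((Spec (CommRingCat.of B')).presheaf.stalk t') t'.asIdeal :=
    StructureSheaf.IsLocalization.to_stalk B' t'
  have hunit : ∀ y : t'.asIdeal.primeCompl, IsUnit (τ₀ y) := fun y =>
    not_not.1 fun hn => y.2 ((IsLocalRing.mem_maximalIdeal _).2 hn)
  let τ : (Spec (CommRingCat.of B')).presheaf.stalk t' →+* C := IsLocalization.lift hunit
  let ω : Ot →+* (Spec (CommRingCat.of B')).presheaf.stalk t' :=
    (g.stalkMap t').hom.comp (T.presheaf.stalkCongr (Inseparable.of_eq hg)).inv.hom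
  have hω : ∀ b : B, ω (algebraMap B Ot b) = algebraMap B' _ (algebraMap B B' b) := by
    have e : T.presheaf.germ U t htU ≫ (T.presheaf.stalkCongr (Inseparable.of_eq hg)).inv ≫ g.stalkMap t' =
        CommRingCat.ofHom (algebraMap B B') ≫ StructureSheaf.toStalk B' t' := by
      refine Spec.map_injective ?_
      rw [← cancel_mono hU.fromSpec]
      simp only [Spec.map_comp, Category.assoc]
      have h1 : Spec.map (T.presheaf.germ U t htU) ≫ hU.fromSpec = T.fromSpecStalk t :=
        hU.fromSpecStalk_eq_fromSpecStalk htU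
      rw [h1]
      have h2 : Spec.map (StructureSheaf.toStalk B' t') = (Spec (CommRingCat.of B')).fromSpecStalk t' :=
        (Spec.fromSpecStalk_eq' (CommRingCat.of B') t').symm
      have h3 : Spec.map (CommRingCat.ofHom (algebraMap B B') ≫ StructureSheaf.toStalk B' t') ≫ hU.fromSpec =
          (Spec (CommRingCat.of B')).fromSpecStalk t' ≫ g := by
        rw [← h2]
        exact (congrArg (· ≫ hU.fromSpec) (Spec.map_comp _ _)).trans (Category.assoc _ _ _)
      refine Eq.trans ?_ h3.symm
      rw [← Scheme.SpecMap_stalkMap_fromSpecStalk]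
      congr 1
      exact Scheme.SpecMap_stalkSpecializes_fromSpecStalk (Inseparable.of_eq hg).specializes
    exact fun b => congr($(e) b)
  refine ⟨Spec (CommRingCat.of B'), g, t', hg, τ, ?_, ?_, ?_, ?_⟩
  · haveI : Algebra.FiniteType B B' :=
      Algebra.FiniteType.of_surjective (Ideal.Quotient.mkₐ B (Ideal.span (Set.range rel))) Ideal.Quotient.mk_surjective
    haveI : LocallyOfFiniteType (Spec.map (CommRingCat.ofHom (algebraMap B B'))) :=
      (HasRingHomProperty.Spec_iff (P := @LocallyOfFiniteType)).2 (RingHom.finiteType_algebraMap.2 inferInstance)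
    infer_instance
  · haveI : IsNoetherianRing B := IsLocallyNoetherian.component_noetherian ⟨U, hU⟩
    haveI : IsNoetherianRing B' := inferInstance
    haveI : IsNoetherianRing (CommRingCat.of B') := ‹IsNoetherianRing B'›
    exact quasiCompact_of_noetherianSpace_source g
  · show τ.comp ω = σ
    refine IsLocalization.ringHom_ext q.primeCompl (RingHom.ext fun b => ?_)
    show τ (ω (algebraMap B Ot b)) = σB b
    rw [hω, show τ (algebraMap B' _ (algebraMap B B' b)) = τ₀ (algebraMap B B' b) from IsLocalization.lift_eq _ _, hτ₀]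
  · intro σ' hσ' _ ⟨τ', hτ'⟩
    have hτ'' : τ'.comp ω = σ' := hτ'
    let ρ := Ideal.Quotient.mk M
    let φ : B →+* C := σ'.comp (algebraMap B Ot)
    have hφA : ∀ a : A, φ (algebraMap A B a) = ι₀ (algebraMap A Os a) := fun a => by
      show σ' (algebraMap B Ot (algebraMap A B a)) = _
      rw [← hcompat]
      exact RingHom.congr_fun hσ' _
    have hgenM : ∀ i, ρ (φ (gen i)) = ρ (σB (gen i)) := fun i => by
      let Q := Ideal.Quotient.mk (Ideal.span (Set.range rel))
      let τ'' : B' →+* C := τ'.comp (algebraMap B' _)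
      have hb : ∀ b, τ'' (algebraMap B B' b) = φ b := fun b => by
        show τ' (algebraMap B' _ (algebraMap B B' b)) = _
        rw [← hω]
        exact RingHom.congr_fun hτ'' _
      have h0 : Q (rel i) = 0 := Ideal.Quotient.eq_zero_iff_mem.2 (Ideal.subset_span ⟨i, rfl⟩)
      have h1 : φ (algebraMap A B (u i) * gen i - algebraMap A B (α i)) ∈ M := by
        have h2 : algebraMap B B' (algebraMap A B (u i) * gen i - algebraMap A B (α i)) =
            ∑ j, Q (MvPolynomial.X (i, j)) * algebraMap B B' (algebraMap A B (π j)) := by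
          have h3 := h0
          simp only [rel, map_sub, map_sum, map_mul, sub_eq_zero] at h3
          show Q (MvPolynomial.C (algebraMap A B (u i) * gen i - algebraMap A B (α i))) = _
          simp only [map_sub, map_mul]
          exact h3
        rw [← hb, h2, map_sum]
        refine sum_mem fun j _ => ?_
        rw [map_mul, hb, hφA]
        exact Ideal.mul_mem_left _ _ (hM ▸ Ideal.subset_span ⟨j, rfl⟩)
      have h4 : σB (gen i) * ι₀ (algebraMap A Os (u i)) - ι₀ (algebraMap A Os (α i)) ∈ M := by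
        rw [hc i]
        exact sum_mem fun j _ => Ideal.mul_mem_left _ _ (hM ▸ Ideal.subset_span ⟨j, rfl⟩)
      rw [map_sub, map_mul, hφA, hφA] at h1
      have h5 := sub_mem h1 h4
      have hun : IsUnit (ι₀ (algebraMap A Os (u i))) :=
        (IsLocalization.map_units Os (⟨u i, hu i⟩ : p.primeCompl)).map ι₀
      refine Ideal.Quotient.eq.2 ((Ideal.unit_mul_mem_iff_mem M hun).1 ?_)
      convert h5 using 1
      ring
    have hB : ρ.comp φ = ρ.comp σB := by
      refine RingHom.ext fun b => ?_
      have hb : b ∈ Algebra.adjoin A (Set.range gen) := hgen ▸ Algebra.mem_top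
      induction hb using Algebra.adjoin_induction with
      | mem x hx => obtain ⟨i, rfl⟩ := hx; exact hgenM i
      | algebraMap a => show ρ (φ _) = ρ (σB _); rw [hφA, hσA]
      | add x y _ _ hx hy => rw [map_add, map_add, hx, hy]
      | mul x y _ _ hx hy => rw [map_mul, map_mul, hx, hy]
    have hall : ρ.comp σ = ρ.comp σ' := IsLocalization.ringHom_ext q.primeCompl hB.symm
    exact fun a => Ideal.Quotient.eq.1 (RingHom.congr_fun hall a)

end Groth.Agent.S7201
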