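import Groth.Statements.S7202
import Groth.Agent.Lib.ArtinApproxH7.Scheme

set_option autoImplicit false
set_option linter.style.haveILetI false
set_option maxHeartbeats 1000000
universe u
open FlatMor

namespace Groth.Agent.S7202

open AlgebraicGeometry CategoryTheory Limits in
/-- Let S be locally Noetherian, p : X → S and q : Y → S locally of finite type, x in X and y in Y over
the same point s of S with O_{S,s} a G-ring, and φ : O_{Y,y} → O_{X,x}^∧ a local O_{S,s}-algebra map
into the completion. For every N ≥ 1 there are an elementary étale neighbourhood e : (U, u) → (X, x)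
(étale, e(u) = x, κ(x) = κ(u)) and an S-morphism f : U → Y with f(u) = y such that O_{Y,y} → O_{U,u}
(induced by f) and O_{Y,y} → O_{X,x}^∧ → O_{U,u}^∧ (φ followed by the map induced by e) agree modulo
m_u^N; the last condition is written on the quotients by the N-th powers of the maximal ideals. -/
theorem result {X Y S : Scheme.{u}} [IsLocallyNoetherian S]
    (p : X ⟶ S) (q : Y ⟶ S) [LocallyOfFiniteType p] [LocallyOfFiniteType q] (x : X) (y : Y) (hxy : p x = q y)
    (hG : CAlg.IsGRing ↑(S.presheaf.stalk (p x)))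
    (φ : ↑(Y.presheaf.stalk y) →+* (AdicCompletion (IsLocalRing.maximalIdeal ↑(X.presheaf.stalk x)) ↑(X.presheaf.stalk x)))
    (hφ : φ.comp ((q.stalkMap y).hom.comp (S.presheaf.stalkCongr (Inseparable.of_eq hxy)).hom.hom) =
      (algebraMap ↑(X.presheaf.stalk x) (AdicCompletion (IsLocalRing.maximalIdeal ↑(X.presheaf.stalk x)) ↑(X.presheaf.stalk x))).comp (p.stalkMap x).hom)
    (hloc : ∀ b ∈ IsLocalRing.maximalIdeal ↑(Y.presheaf.stalk y),
      φ b ∈ (IsLocalRing.maximalIdeal ↑(X.presheaf.stalk x)).map (algebraMap ↑(X.presheaf.stalk x) (AdicCompletion (IsLocalRing.maximalIdeal ↑(X.presheaf.stalk x)) ↑(X.presheaf.stalk x))))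
    (N : ℕ) (hN : 1 ≤ N) :
    ∃ (U : Scheme.{u}) (e : U ⟶ X) (u : U) (heu : e u = x) (f : U ⟶ Y) (hfu : f u = y),
      Etale e ∧ Function.Bijective (e.residueFieldMap u) ∧ f ≫ q = e ≫ p ∧
      ∀ (b : ↑(Y.presheaf.stalk y)) (c : ↑(X.presheaf.stalk x)),
        AdicCompletion.evalₐ (IsLocalRing.maximalIdeal ↑(X.presheaf.stalk x)) N (φ b) =
          Ideal.Quotient.mk (IsLocalRing.maximalIdeal ↑(X.presheaf.stalk x) ^ N) c →
        Ideal.Quotient.mk (IsLocalRing.maximalIdeal ↑(U.presheaf.stalk u) ^ N)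
            ((f.stalkMap u).hom ((Y.presheaf.stalkCongr (Inseparable.of_eq hfu)).inv.hom b)) =
          Ideal.Quotient.mk (IsLocalRing.maximalIdeal ↑(U.presheaf.stalk u) ^ N)
            ((e.stalkMap u).hom ((X.presheaf.stalkCongr (Inseparable.of_eq heu)).inv.hom c)) := by
  obtain ⟨W, hW, hpxW, -⟩ := exists_isAffineOpen_mem_and_subset (X := S) (x := p x) (U := ⊤) trivial
  have hqyW : q y ∈ W := hxy ▸ hpxW
  obtain ⟨UX, hUX, hxU, hUXW⟩ := exists_isAffineOpen_mem_and_subset (X := X) (x := x) (U := p ⁻¹ᵁ W) hpxW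
  obtain ⟨UY, hUY, hyU, hUYW⟩ := exists_isAffineOpen_mem_and_subset (X := Y) (x := y) (U := q ⁻¹ᵁ W) hqyW
  haveI : IsLocallyNoetherian X := LocallyOfFiniteType.isLocallyNoetherian p
  haveI : IsNoetherianRing Γ(S, W) := IsLocallyNoetherian.component_noetherian ⟨W, hW⟩
  haveI : IsNoetherianRing Γ(X, UX) := IsLocallyNoetherian.component_noetherian ⟨UX, hUX⟩
  letI : Algebra Γ(X, UX) (X.presheaf.stalk x) := X.presheaf.algebra_section_stalk (U := UX) ⟨x, hxU⟩
  haveI hlocX : IsLocalization.AtPrime (X.presheaf.stalk x) (hUX.primeIdealOf ⟨x, hxU⟩).asIdeal :=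
    hUX.isLocalization_stalk _
  haveI : IsNoetherianRing (X.presheaf.stalk x) :=
    IsLocalization.isNoetherianRing (hUX.primeIdealOf ⟨x, hxU⟩).asIdeal.primeCompl _ inferInstance
  letI : Algebra Γ(Y, UY) (Y.presheaf.stalk y) := Y.presheaf.algebra_section_stalk (U := UY) ⟨y, hyU⟩
  haveI hlocY : IsLocalization.AtPrime (Y.presheaf.stalk y) (hUY.primeIdealOf ⟨y, hyU⟩).asIdeal :=
    hUY.isLocalization_stalk _
  let T := AdicCompletion (IsLocalRing.maximalIdeal (X.presheaf.stalk x)) (X.presheaf.stalk x)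
  haveI : IsNoetherianRing T := Compl.isNoetherianRing_adicCompletion _ (IsNoetherian.noetherian _)
  haveI : IsScalarTower Γ(X, UX) (X.presheaf.stalk x) T := IsScalarTower.of_algebraMap_eq' rfl
  have hreg : CAlg.IsRegularHom Γ(X, UX) T :=
    FlatDepth.isRegularHom_comp Γ(X, UX) (X.presheaf.stalk x) T
      (GRing6.isRegularHom_isLocalization _ _ (hUX.primeIdealOf ⟨x, hxU⟩).asIdeal.primeCompl)
      (GRing6.isRegularHom_adicCompletion _ (ArtinApproxH7.isGRing_stalk p x hG) _)
  have hfrac : ∀ z : X.presheaf.stalk x, ∃ s r : Γ(X, UX), IsUnit (algebraMap _ (X.presheaf.stalk x) s) ∧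
      algebraMap _ (X.presheaf.stalk x) s * z = algebraMap _ _ r := fun z => by
    obtain ⟨⟨r, s⟩, h⟩ := IsLocalization.surj (hUX.primeIdealOf ⟨x, hxU⟩).asIdeal.primeCompl z
    exact ⟨s, r, IsLocalization.map_units _ s, by rw [mul_comm]; exact h⟩
  let α := (p.appLE W UX hUXW).hom
  let β := (q.appLE W UY hUYW).hom
  let φ0 : Γ(Y, UY) →+* T := φ.comp (Y.presheaf.germ UY y hyU).hom
  have hφ0 : φ0.comp β = (algebraMap Γ(X, UX) T).comp α := by
    refine RingHom.ext fun a => ?_
    have h1 : S.presheaf.germ W (p x) hpxW ≫ (S.presheaf.stalkCongr (Inseparable.of_eq hxy)).hom ≫ q.stalkMap y =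
        q.appLE W UY hUYW ≫ Y.presheaf.germ UY y hyU := by
      simp [Scheme.Hom.appLE, TopCat.Presheaf.stalkCongr]
    have h2 : S.presheaf.germ W (p x) hpxW ≫ p.stalkMap x = p.appLE W UX hUXW ≫ X.presheaf.germ UX x hxU := by
      simp [Scheme.Hom.appLE]
    have := RingHom.congr_fun hφ ((S.presheaf.germ W (p x) hpxW).hom a)
    exact ((congrArg φ (ConcreteCategory.congr_hom h1 a)).symm.trans this).trans
      (congrArg (algebraMap (X.presheaf.stalk x) T) (ConcreteCategory.congr_hom h2 a))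
  obtain ⟨R', _, _, het, ψ, p', hp', hp'eq, hp'c, hres, g, hg, hcong⟩ :=
    ArtinApproxH7.exists_chart hreg hfrac α β (q.finiteType_appLE hW hUY hUYW) φ0 hφ0 N
  let j : Γ(X, UX) ⟶ CommRingCat.of R' := CommRingCat.ofHom (algebraMap Γ(X, UX) R')
  let e := Spec.map j ≫ hUX.fromSpec
  let v : Spec (CommRingCat.of R') := ⟨p', hp'⟩
  haveI : Etale (Spec.map j) := HasRingHomProperty.Spec_iff.2 (RingHom.etale_algebraMap.2 het)
  haveI : Etale e := inferInstanceAs (Etale (Spec.map j ≫ hUX.fromSpec))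
  have heu : e v = x := ArtinApproxH7.range_SpecMap_fromSpec hUX j v hxU hp'c
  have hmT : IsLocalRing.maximalIdeal T = (IsLocalRing.maximalIdeal (X.presheaf.stalk x)).map (algebraMap _ T) :=
    AdicCompletion.maximalIdeal_eq_map
  have hle : (IsLocalRing.maximalIdeal (X.presheaf.stalk x) ^ N).map (algebraMap _ T) ≤ IsLocalRing.maximalIdeal T :=
    (Ideal.map_mono (Ideal.pow_le_self (by omega))).trans hmT.ge
  have hgq : Ideal.comap g p' = (IsLocalRing.maximalIdeal (Y.presheaf.stalk y)).comap (Y.presheaf.germ UY y hyU).hom := by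
    ext z
    rw [hp'eq]
    show ψ (g z) ∈ IsLocalRing.maximalIdeal T ↔ (Y.presheaf.germ UY y hyU).hom z ∈ IsLocalRing.maximalIdeal _
    constructor
    · intro h
      have h1 : φ0 z ∈ IsLocalRing.maximalIdeal T := by simpa using add_mem (hle (hcong z)) h
      exact fun hu => h1 (hu.map φ)
    · intro h
      have h1 : φ0 z ∈ IsLocalRing.maximalIdeal T := hmT ▸ hloc _ h
      have h2 := sub_mem h1 (hle (hcong z))
      rwa [sub_sub_cancel] at h2
  let f := Spec.map (CommRingCat.ofHom g) ≫ hUY.fromSpec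
  have hfu : f v = y := ArtinApproxH7.range_SpecMap_fromSpec hUY (CommRingCat.ofHom g) v hyU hgq
  have hfq : f ≫ q = e ≫ p := by
    show (Spec.map (CommRingCat.ofHom g) ≫ hUY.fromSpec) ≫ q = (Spec.map j ≫ hUX.fromSpec) ≫ p
    rw [Category.assoc, Category.assoc, ← hW.SpecMap_appLE_fromSpec q hUY hUYW,
      ← hW.SpecMap_appLE_fromSpec p hUX hUXW, ← Spec.map_comp_assoc, ← Spec.map_comp_assoc]
    congr 2
    exact CommRingCat.hom_ext hg
  let O := (Spec (CommRingCat.of R')).presheaf.stalk v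
  letI : Algebra R' O := StructureSheaf.stalkAlgebra R' v
  haveI : IsLocalization.AtPrime O p' := StructureSheaf.IsLocalization.to_stalk R' v
  have htoSt : ((Scheme.ΓSpecIso (CommRingCat.of R')).inv ≫
      (Spec (CommRingCat.of R')).presheaf.germ ⊤ v trivial).hom = algebraMap R' O := rfl
  have hunit : ∀ t : p'.primeCompl, IsUnit (ψ.toRingHom t) := fun t => by
    by_contra h
    exact t.2 (hp'eq ▸ h)
  let Ψ : O →+* T := IsLocalization.lift hunit
  have hΨ : ∀ a, Ψ (algebraMap R' O a) = ψ a := fun a => IsLocalization.lift_eq hunit a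
  let se := (ArtinApproxH7.sm e heu).hom
  let sf := (ArtinApproxH7.sm f hfu).hom
  have hse : ∀ a, se ((X.presheaf.germ UX x hxU).hom a) = algebraMap R' O (algebraMap _ R' a) := fun a => by
    rw [← htoSt]
    exact ConcreteCategory.congr_hom ((ArtinApproxH7.germ_sm e heu UX hxU).trans
      (ArtinApproxH7.germ_stalkMap_SpecMap_fromSpec hUX j v _)) a
  have hsf : ∀ a, sf ((Y.presheaf.germ UY y hyU).hom a) = algebraMap R' O (g a) := fun a => by
    rw [← htoSt]
    exact ConcreteCategory.congr_hom ((ArtinApproxH7.germ_sm f hfu UY hyU).trans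
      (ArtinApproxH7.germ_stalkMap_SpecMap_fromSpec hUY (CommRingCat.ofHom g) v _)) a
  have hΨe : Ψ.comp se = algebraMap _ T :=
    IsLocalization.ringHom_ext (hUX.primeIdealOf ⟨x, hxU⟩).asIdeal.primeCompl (RingHom.ext fun a => by
      show Ψ (se ((X.presheaf.germ UX x hxU).hom a)) = _
      rw [hse, hΨ, ψ.commutes]
      rfl)
  have hm := ArtinApproxH7.map_sm_maximalIdeal e heu
  have hR' : ∀ a : R', ∃ c, algebraMap R' O a - se c ∈ IsLocalRing.maximalIdeal O := fun a => by
    obtain ⟨r, s, hs, h⟩ := hres a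
    obtain ⟨w, hw⟩ := hs.exists_left_inv
    refine ⟨w * (X.presheaf.germ UX x hxU).hom r, ?_⟩
    have h' : algebraMap R' O (algebraMap _ R' s * a - algebraMap _ R' r) ∈ IsLocalRing.maximalIdeal O := by
      rw [← IsLocalization.AtPrime.map_eq_maximalIdeal p' O]
      exact Ideal.mem_map_of_mem _ h
    rw [map_sub, map_mul, ← hse, ← hse] at h'
    have h1 : se w * se ((X.presheaf.germ UX x hxU).hom s) = 1 := by rw [← map_mul, ← map_one se]; exact congrArg se hw
    have : algebraMap R' O a - se (w * (X.presheaf.germ UX x hxU).hom r) =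
        se w * (se ((X.presheaf.germ UX x hxU).hom s) * algebraMap R' O a - se ((X.presheaf.germ UX x hxU).hom r)) := by
      rw [map_mul, mul_sub, ← mul_assoc, h1, one_mul]
    rw [this]
    exact Ideal.mul_mem_left _ _ h'
  have hs : ∀ z : O, ∃ c, z - se c ∈ IsLocalRing.maximalIdeal O := fun z => by
    obtain ⟨⟨a, t⟩, hz⟩ := IsLocalization.surj p'.primeCompl z
    obtain ⟨ca, hca⟩ := hR' a
    obtain ⟨ct, hct⟩ := hR' t
    have htu : IsUnit (algebraMap R' O t) := IsLocalization.map_units O t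
    have hctu : IsUnit ct := by
      by_contra h
      have : se ct ∈ IsLocalRing.maximalIdeal O := hm ▸ Ideal.mem_map_of_mem _ h
      exact ((by simpa using add_mem hct this) : algebraMap R' O t ∈ IsLocalRing.maximalIdeal O) htu
    obtain ⟨w, hw⟩ := hctu.exists_left_inv
    refine ⟨ca * w, ?_⟩
    have h1 : se w * se ct = 1 := by rw [← map_mul, hw, map_one]
    have : z - se (ca * w) = se w * (algebraMap R' O a - se ca) - z * se w * (algebraMap R' O t - se ct) := by
      dsimp only at hz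
      rw [map_mul]
      linear_combination (se w) * hz - z * h1
    rw [this]
    exact sub_mem (Ideal.mul_mem_left _ _ hca) (Ideal.mul_mem_left _ _ hct)
  refine ⟨_, e, v, heu, f, hfu, inferInstance, ArtinApproxH7.bijective_residueFieldMap_of_sm e heu hs, hfq, fun b c hbc => ?_⟩
  refine Ideal.Quotient.eq.2 (ArtinApproxH7.mem_pow_of_completion se hm hs Ψ hΨe N _ ?_)
  show Ψ (sf b - se c) ∈ _
  let I := (IsLocalRing.maximalIdeal (X.presheaf.stalk x) ^ N).map (algebraMap _ T)
  have h1 : (Ideal.Quotient.mk I).comp (Ψ.comp sf) = (Ideal.Quotient.mk I).comp φ :=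
    IsLocalization.ringHom_ext (hUY.primeIdealOf ⟨y, hyU⟩).asIdeal.primeCompl (RingHom.ext fun a => by
      show Ideal.Quotient.mk I (Ψ (sf ((Y.presheaf.germ UY y hyU).hom a))) = Ideal.Quotient.mk I (φ0 a)
      rw [hsf, hΨ]
      exact (Ideal.Quotient.eq.2 (hcong a)).symm)
  have h2 : φ b - algebraMap _ T c ∈ I := by
    rw [ArtinApproxH7.mem_map_pow_iff _ (IsNoetherian.noetherian _), map_sub, AlgHom.commutes, hbc,
      Ideal.Quotient.algebraMap_eq, sub_self]
  rw [map_sub, show Ψ (se c) = algebraMap _ T c from RingHom.congr_fun hΨe c]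
  simpa using add_mem (Ideal.Quotient.eq.1 (RingHom.congr_fun h1 b) : Ψ (sf b) - φ b ∈ I) h2

end Groth.Agent.S7202
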