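import Groth.Statements.S7203
import Groth.Agent.Lib.ArtinApproxH7.Iso
import Groth.Agent.Lib.EtaleNhd17.Basic
import Groth.Agent.S7202

set_option autoImplicit false
set_option linter.style.haveILetI false
set_option maxHeartbeats 1000000
universe u
open FlatMor

namespace Groth.Agent.S7203

open AlgebraicGeometry CategoryTheory Limits in
/-- Let S be locally Noetherian, p : X → S and q : Y → S locally of finite type, x in X and y in Y over
the same point s with O_{S,s} a G-ring, and φ : O_{Y,y}^∧ ≅ O_{X,x}^∧ an isomorphism of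
O_{S,s}-algebras between the completed local rings. For every N ≥ 1 there are a scheme U, a point u
and morphisms e : U → X, f : U → Y over S which are both elementary étale neighbourhoods (of (X, x)
and of (Y, y)) such that O_{Y,y}^∧ → O_{U,u}^∧ and O_{Y,y}^∧ → O_{X,x}^∧ → O_{U,u}^∧ (φ followed by
the map induced by e) agree modulo m_u^N; the last condition is written on O_{U,u}/m_u^N through
lifts modulo the N-th powers of the maximal ideals. -/
theorem result {X Y S : Scheme.{u}} [IsLocallyNoetherian S]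
    (p : X ⟶ S) (q : Y ⟶ S) [LocallyOfFiniteType p] [LocallyOfFiniteType q] (x : X) (y : Y) (hxy : p x = q y)
    (hG : CAlg.IsGRing ↑(S.presheaf.stalk (p x)))
    (φ : (AdicCompletion (IsLocalRing.maximalIdeal ↑(Y.presheaf.stalk y)) ↑(Y.presheaf.stalk y)) ≃+* (AdicCompletion (IsLocalRing.maximalIdeal ↑(X.presheaf.stalk x)) ↑(X.presheaf.stalk x)))
    (hφ : φ.toRingHom.comp ((algebraMap ↑(Y.presheaf.stalk y) (AdicCompletion (IsLocalRing.maximalIdeal ↑(Y.presheaf.stalk y)) ↑(Y.presheaf.stalk y))).comp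
        ((q.stalkMap y).hom.comp (S.presheaf.stalkCongr (Inseparable.of_eq hxy)).hom.hom)) =
      (algebraMap ↑(X.presheaf.stalk x) (AdicCompletion (IsLocalRing.maximalIdeal ↑(X.presheaf.stalk x)) ↑(X.presheaf.stalk x))).comp (p.stalkMap x).hom)
    (N : ℕ) (hN : 1 ≤ N) :
    ∃ (U : Scheme.{u}) (u : U) (e : U ⟶ X) (heu : e u = x) (f : U ⟶ Y) (hfu : f u = y),
      Etale e ∧ Function.Bijective (e.residueFieldMap u) ∧ Etale f ∧ Function.Bijective (f.residueFieldMap u) ∧
      f ≫ q = e ≫ p ∧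
      ∀ (b : (AdicCompletion (IsLocalRing.maximalIdeal ↑(Y.presheaf.stalk y)) ↑(Y.presheaf.stalk y))) (cY : ↑(Y.presheaf.stalk y)) (cX : ↑(X.presheaf.stalk x)),
        AdicCompletion.evalₐ (IsLocalRing.maximalIdeal ↑(Y.presheaf.stalk y)) N b =
          Ideal.Quotient.mk (IsLocalRing.maximalIdeal ↑(Y.presheaf.stalk y) ^ N) cY →
        AdicCompletion.evalₐ (IsLocalRing.maximalIdeal ↑(X.presheaf.stalk x)) N (φ b) =
          Ideal.Quotient.mk (IsLocalRing.maximalIdeal ↑(X.presheaf.stalk x) ^ N) cX →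
        Ideal.Quotient.mk (IsLocalRing.maximalIdeal ↑(U.presheaf.stalk u) ^ N)
            ((f.stalkMap u).hom ((Y.presheaf.stalkCongr (Inseparable.of_eq hfu)).inv.hom cY)) =
          Ideal.Quotient.mk (IsLocalRing.maximalIdeal ↑(U.presheaf.stalk u) ^ N)
            ((e.stalkMap u).hom ((X.presheaf.stalkCongr (Inseparable.of_eq heu)).inv.hom cX)) := by
  haveI : IsLocallyNoetherian X := LocallyOfFiniteType.isLocallyNoetherian p
  haveI : IsLocallyNoetherian Y := LocallyOfFiniteType.isLocallyNoetherian q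
  let L := X.presheaf.stalk x
  let M := Y.presheaf.stalk y
  haveI hlφ : IsLocalHom φ.toRingHom := ⟨fun a h => by simpa using h.map φ.symm⟩
  have hloc : ∀ b ∈ IsLocalRing.maximalIdeal M,
      (φ.toRingHom.comp (algebraMap M _)) b ∈ (IsLocalRing.maximalIdeal L).map (algebraMap L (AdicCompletion (IsLocalRing.maximalIdeal L) L)) := fun b hb => by
    rw [← CplLocH7.maximalIdeal_cpl]
    exact map_nonunit φ.toRingHom _ (map_nonunit (algebraMap M _) b hb)
  obtain ⟨U, e, u, heu, f, hfu, he, hbij, hfq, hc⟩ :=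
    S7202.result p q x y hxy hG (φ.toRingHom.comp (algebraMap M _)) hφ hloc (max N 2) (by omega)
  haveI := he
  haveI : IsLocallyNoetherian U := LocallyOfFiniteType.isLocallyNoetherian e
  haveI : LocallyOfFiniteType (f ≫ q) := by rw [hfq]; infer_instance
  haveI : LocallyOfFiniteType f := locallyOfFiniteType_of_comp f q
  haveI : LocallyOfFinitePresentation f := inferInstance
  let se := (ArtinApproxH7.sm e heu).hom
  let sf := (ArtinApproxH7.sm f hfu).hom
  haveI : IsLocalHom se := by subst heu; simpa [se, ArtinApproxH7.sm] using inferInstanceAs (IsLocalHom (e.stalkMap u).hom)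
  haveI : IsLocalHom sf := by subst hfu; simpa [sf, ArtinApproxH7.sm] using inferInstanceAs (IsLocalHom (f.stalkMap u).hom)
  have hflat : se.Flat := by subst heu; simpa [se, ArtinApproxH7.sm] using Flat.stalkMap e u
  have hm := ArtinApproxH7.map_sm_maximalIdeal e heu
  have hs : ∀ z, ∃ c, z - se c ∈ IsLocalRing.maximalIdeal (U.presheaf.stalk u) := fun z => by
    subst heu
    obtain ⟨w, hw⟩ := hbij.2 (IsLocalRing.residue _ z)
    obtain ⟨c, rfl⟩ := IsLocalRing.residue_surjective (R := X.presheaf.stalk (e u)) w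
    refine ⟨c, ?_⟩
    simp only [se, ArtinApproxH7.sm, TopCat.Presheaf.stalkCongr, TopCat.Presheaf.stalkSpecializes_refl, Category.id_comp]
    exact Ideal.Quotient.eq.1 hw.symm
  have hc' : ∀ cY cX, φ (algebraMap M _ cY) - algebraMap L _ cX ∈
      IsLocalRing.maximalIdeal (CplLocH7.Cpl L) ^ max N 2 → sf cY - se cX ∈ IsLocalRing.maximalIdeal _ ^ max N 2 :=
    fun cY cX h => Ideal.Quotient.eq.1 (hc cY cX ((ArtinApproxH7.evalₐ_eq_mk_iff _ _ _).2 h))
  obtain ⟨hffl, hfm, hfs⟩ :=
    ArtinApproxH7.flat_unramified_of_congr se sf hflat hm hs φ (max N 2) (le_max_right N 2) hc'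
  obtain ⟨V, huV, hV⟩ : ∃ V : U.Opens, u ∈ V ∧ Etale (V.ι ≫ f) := by
    subst hfu
    have hfl : (f.stalkMap u).hom.Flat := by simpa [sf, ArtinApproxH7.sm] using hffl
    have hmap : Ideal.map (f.stalkMap u).hom (IsLocalRing.maximalIdeal (Y.presheaf.stalk (f u))) =
        IsLocalRing.maximalIdeal _ := by simpa [sf, ArtinApproxH7.sm] using hfm
    refine EtaleNhd17.exists_etale_of_stalk f u hfl ((EtaleNhd17.formallyUnramified_stalkMap_iff_map_eq f u).2 ⟨?_, hmap⟩)
    letI := (f.residueFieldMap u).hom.toAlgebra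
    have hb := ArtinApproxH7.bijective_residueFieldMap_of_sm f rfl hfs
    exact Algebra.IsSeparable.of_equiv_equiv (RingEquiv.refl _) (RingEquiv.ofBijective _ hb) (RingHom.ext fun _ => rfl)
  let v : V := ⟨u, huV⟩
  have hι : IsIso (V.ι.stalkMap v) := (IsOpenImmersion.iff_isIso_stalkMap.1 inferInstance).2 _
  let ι' := (V.ι.stalkMap v).hom
  have hιs : Function.Surjective ι' := (ConcreteCategory.bijective_of_isIso (V.ι.stalkMap v)).2
  have hres : ∀ {Z : Scheme.{u}} (g : U ⟶ Z) (z : Z) (h : g u = z),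
      (∀ w, ∃ c, w - (ArtinApproxH7.sm g h).hom c ∈ IsLocalRing.maximalIdeal (U.presheaf.stalk u)) →
      Function.Bijective ((V.ι ≫ g).residueFieldMap v) := fun g z h hg =>
    ArtinApproxH7.bijective_residueFieldMap_of_sm (V.ι ≫ g) (u := v) (x := z) h fun w => by
      obtain ⟨w, rfl⟩ := hιs w
      obtain ⟨c, hc⟩ := hg w
      refine ⟨c, ?_⟩
      rw [ArtinApproxH7.sm_comp V.ι g v h]
      show ι' w - ι' ((ArtinApproxH7.sm g h).hom c) ∈ _
      rw [← map_sub]
      exact map_nonunit ι' _ hc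
  refine ⟨V, v, V.ι ≫ e, heu, V.ι ≫ f, hfu, inferInstance, hres e x heu hs, hV, hres f y hfu hfs,
    by rw [Category.assoc, Category.assoc, hfq], fun b cY cX h1 h2 => ?_⟩
  have key := ArtinApproxH7.congr_of_congr se sf φ (max N 2) hc' N (le_max_left N 2) b cY cX
    ((ArtinApproxH7.evalₐ_eq_mk_iff _ _ _).1 h1) ((ArtinApproxH7.evalₐ_eq_mk_iff _ _ _).1 h2)
  refine Ideal.Quotient.eq.2 ?_
  show (ArtinApproxH7.sm (V.ι ≫ f) (u := v) hfu).hom cY - (ArtinApproxH7.sm (V.ι ≫ e) (u := v) heu).hom cX ∈ _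
  rw [ArtinApproxH7.sm_comp V.ι f v hfu, ArtinApproxH7.sm_comp V.ι e v heu]
  show ι' (sf cY) - ι' (se cX) ∈ _
  rw [← map_sub]
  exact ArtinApproxH7.map_mem_pow ι' N key

end Groth.Agent.S7203
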