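import Groth.Statements.S7204
import Mathlib.AlgebraicGeometry.Sites.Fpqc

set_option autoImplicit false
universe w u
open FlatMor

set_option backward.isDefEq.respectTransparency.types false

namespace Groth.Agent.S7204


open AlgebraicGeometry CategoryTheory Limits Opposite

open AlgebraicGeometry CategoryTheory Limits in
/-- Let (X_i)_{i ∈ I} be a diagram of schemes and (W, X_i → W) a cocone under it. If there is an fpqc
covering {W_a → W} such that each W_a is the colimit (in schemes) of the base-changed diagram (X_i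
×_W W_a), and each W_a ×_W W_b is the colimit of (X_i ×_W W_a ×_W W_b), then W is the colimit of
(X_i) in the category of schemes. -/
theorem result {J : Type u} [SmallCategory J] (D : J ⥤ Scheme.{u}) (c : Cocone D)
    (F : PreZeroHypercover.{w} c.pt) (hF : F.presieve₀ ∈ Scheme.fpqcPrecoverage c.pt)
    (h1 : ∀ a : F.I₀, Nonempty (IsColimit ((Over.forgetCocone (F.X a)).whisker
      (D.toOver c.pt (fun j => c.ι.app j) (fun g => c.w g) ⋙ Over.pullback (F.f a)))))
    (h2 : ∀ a b : F.I₀, Nonempty (IsColimit ((Over.forgetCocone (pullback (F.f a) (F.f b))).whisker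
      (D.toOver c.pt (fun j => c.ι.app j) (fun g => c.w g) ⋙ Over.pullback (pullback.fst (F.f a) (F.f b) ≫ F.f a))))) :
    Nonempty (IsColimit c) := by
  refine ⟨IsColimit.ofExistsUnique fun s => ?_⟩
  let K : ∀ {T : Scheme.{u}} (g : T ⟶ c.pt), Cocone ((D.toOver c.pt (fun j => c.ι.app j) (fun g => c.w g) ⋙
      Over.pullback g) ⋙ Over.forget T) := fun {T} g =>
    { pt := s.pt
      ι :=
        { app := fun j => pullback.fst (c.ι.app j) g ≫ s.ι.app j
          naturality := fun i j φ => by
            dsimp [Over.pullback]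
            erw [pullback.lift_fst_assoc]
            exact (congrArg (_ ≫ ·) (s.w φ)).trans (Category.comp_id _).symm } }
  let φ : ∀ a, F.X a ⟶ s.pt := fun a => (h1 a).some.desc (K (F.f a))
  have hφ : ∀ a j, pullback.snd (c.ι.app j) (F.f a) ≫ φ a = pullback.fst (c.ι.app j) (F.f a) ≫ s.ι.app j :=
    fun a j => (h1 a).some.fac (K (F.f a)) j
  have hpc : Presieve.Arrows.PullbackCompatible (yoneda.obj s.pt) F.f φ := fun a b => by
    show pullback.fst (F.f a) (F.f b) ≫ φ a = pullback.snd (F.f a) (F.f b) ≫ φ b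
    refine (h2 a b).some.hom_ext fun j => ?_
    show pullback.snd (c.ι.app j) (pullback.fst (F.f a) (F.f b) ≫ F.f a) ≫ _ =
      pullback.snd (c.ι.app j) (pullback.fst (F.f a) (F.f b) ≫ F.f a) ≫ _
    let q := pullback.fst (F.f a) (F.f b) ≫ F.f a
    let ra : pullback (c.ι.app j) q ⟶ pullback (c.ι.app j) (F.f a) :=
      pullback.lift (pullback.fst _ _) (pullback.snd _ _ ≫ pullback.fst _ _) (by rw [Category.assoc, pullback.condition])
    let rb : pullback (c.ι.app j) q ⟶ pullback (c.ι.app j) (F.f b) :=
      pullback.lift (pullback.fst _ _) (pullback.snd _ _ ≫ pullback.snd _ _) (by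
        rw [Category.assoc, ← pullback.condition (f := F.f a)]
        exact pullback.condition)
    have ea := congrArg (ra ≫ ·) (hφ a j)
    have eb := congrArg (rb ≫ ·) (hφ b j)
    simp only [ra, rb, pullback.lift_snd_assoc, pullback.lift_fst_assoc, Category.assoc] at ea eb
    exact ea.trans eb.symm
  have hs : Presieve.IsSheafFor (yoneda.obj s.pt) F.presieve₀ :=
    ((Precoverage.isSheaf_toGrothendieck_iff_of_isStableUnderBaseChange _).1
      (GrothendieckTopology.Subcanonical.isSheaf_of_isRepresentable (J := Scheme.fpqcTopology) (yoneda.obj s.pt)))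
      F.presieve₀ hF
  obtain ⟨t, ht, htu⟩ := (Presieve.isSheafFor_arrows_iff_pullbacks _ _).1 hs φ hpc
  have hp : ∀ (m : c.pt ⟶ s.pt), (∀ j, c.ι.app j ≫ m = s.ι.app j) → ∀ a, F.f a ≫ m = φ a := fun m hm a => by
    refine (h1 a).some.hom_ext fun j => ?_
    show pullback.snd (c.ι.app j) (F.f a) ≫ F.f a ≫ m = pullback.snd (c.ι.app j) (F.f a) ≫ φ a
    rw [hφ, ← Category.assoc, ← pullback.condition, Category.assoc, hm]
  refine ⟨t, fun j => ?_, fun m hm => htu m (hp m hm)⟩
  have hs' : Presieve.IsSheafFor (yoneda.obj s.pt)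
      (Presieve.ofArrows (fun a => pullback (c.ι.app j) (F.f a)) fun a => pullback.fst (c.ι.app j) (F.f a)) :=
    (Precoverage.isSheaf_toGrothendieck_iff_of_isStableUnderBaseChange _).1
      (GrothendieckTopology.Subcanonical.isSheaf_of_isRepresentable (J := Scheme.fpqcTopology) (yoneda.obj s.pt)) _
      (Precoverage.mem_coverings_of_isPullback (J := Scheme.fpqcPrecoverage) F.f hF
        (c.ι.app j) (fun a => pullback.fst (c.ι.app j) (F.f a)) (fun a => pullback.snd (c.ι.app j) (F.f a))
        fun a => IsPullback.of_hasPullback (c.ι.app j) (F.f a))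
  obtain ⟨t', -, htu'⟩ := (Presieve.isSheafFor_arrows_iff_pullbacks _ _).1 hs'
    (fun a => pullback.fst (c.ι.app j) (F.f a) ≫ s.ι.app j) (fun a b => by
      show pullback.fst (pullback.fst _ (F.f a)) (pullback.fst _ (F.f b)) ≫ _ =
        pullback.snd (pullback.fst _ (F.f a)) (pullback.fst _ (F.f b)) ≫ _
      rw [← Category.assoc, pullback.condition, Category.assoc])
  refine (htu' (c.ι.app j ≫ t) fun a => ?_).trans (htu' (s.ι.app j) fun a => rfl).symm
  show pullback.fst (c.ι.app j) (F.f a) ≫ c.ι.app j ≫ t = _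
  rw [← Category.assoc, pullback.condition, Category.assoc]
  exact (congrArg (pullback.snd (c.ι.app j) (F.f a) ≫ ·) (ht a)).trans (hφ a j)

end Groth.Agent.S7204
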