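import Groth.Statements.S7212
import Groth.Agent.Lib.RelPCS8.Cohom

set_option autoImplicit false
universe u
open CategoryTheory CategoryTheory.Limits AlgebraicGeometry Opposite TopologicalSpace
attribute [local instance] HasDerivedCategory.standard
open FlatMor

namespace Groth.Agent.S7212

open Groth.Agent Groth.Agent.RelPCS8


/-- Let f : X ⟶ S be locally of finite type and M an O_X-module, viewed in degree 0 of D(O_X); relative
pseudo-coherence is in chart form. Then (1) M is m-pseudo-coherent relative to f for every integer m
> 0; (2) M is 0-pseudo-coherent relative to f if and only if M is an O_X-module of finite type; (3)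
M is (-1)-pseudo-coherent relative to f if and only if M is quasi-coherent and finitely presented
relative to f (on the members of suitable affine open covers of S and of the preimages, the module
of sections is finitely presented over the base ring through a polynomial surjection). -/
theorem result {X S : Scheme.{u}} (f : X ⟶ S)
    [LocallyOfFiniteType f] (M : X.Modules) :
    (∀ m : ℤ, 0 < m → DerSch.IsPseudoCoherentRel f m (DCoh.inD X M)) ∧
      (DerSch.IsPseudoCoherentRel f 0 (DCoh.inD X M) ↔ CohB1.IsFT M) ∧
      (DerSch.IsPseudoCoherentRel f (-1) (DCoh.inD X M) ↔ (Coh.IsQCoh M ∧ Flatn.IsRelFP f M)) := by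
  refine ⟨fun m hm => ?_, ⟨isFT_of_rel_zero, fun hM => ?_⟩, rel_negOne_iff M⟩
  · exact rel_iff.2 ⟨inferInstance, fun U V hU hV hle =>
      good_of_isZero_HD hU hV hle fun k hk => DPerf.isZero_HD_inD M (by omega)⟩
  · exact rel_iff.2 ⟨inferInstance, fun U V hU hV hle => good_zero_of_isFT hU hV hle hM⟩


end Groth.Agent.S7212
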