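import Groth.Statements.S7216
import Groth.Agent.Lib.RelPCS8.Cohom

set_option autoImplicit false
universe u
open CategoryTheory CategoryTheory.Limits AlgebraicGeometry Opposite TopologicalSpace
attribute [local instance] HasDerivedCategory.standard
open FlatMor

namespace Groth.Agent.S7216

open Groth.Agent.RelPCS8


/-- Let f : X ⟶ S be a morphism of schemes, m an integer, and E an object of D(O_X) whose cohomology
vanishes above some degree b and whose cohomology sheaf H^i(E), viewed in degree 0, is (m -
i)-pseudo-coherent relative to f for every i (chart form; in particular f is locally of finite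
type). Then E is m-pseudo-coherent relative to f. (Stated for cohomology bounded above by one degree
b on all of X; the published statement also allows a bound that varies locally on X.) -/
theorem result {X S : Scheme.{u}} (f : X ⟶ S) (m : ℤ) (E : DCoh.D X)
    (b : ℤ) [E.IsLE b] (h : ∀ i : ℤ, DerSch.IsPseudoCoherentRel f (m - i) (DCoh.inD X (DCoh.HD E i))) :
    DerSch.IsPseudoCoherentRel f m E := by
  haveI := (h 0).1
  exact rel_iff.2 ⟨inferInstance, fun U V hU hV hle =>
    good_of_homology hU hV hle m (b + 1 - m).toNat E
      (fun j hj => DerivedCategory.isZero_of_isLE E b j (by omega)) fun i => (rel_iff.1 (h i)).2 U V hU hV hle⟩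


end Groth.Agent.S7216
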