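import Groth.Statements.S7217
import Groth.Agent.Lib.RelPCS8.Local

set_option autoImplicit false
universe u
open CategoryTheory CategoryTheory.Limits AlgebraicGeometry Opposite TopologicalSpace
attribute [local instance] HasDerivedCategory.standard
open FlatMor

set_option backward.isDefEq.respectTransparency.types false

namespace Groth.Agent.S7217

/-- Let f : X ⟶ S be a morphism of schemes, U ⊆ X and V ⊆ S affine opens with f(U) ⊆ V such that Γ(S, V)
→ Γ(X, U) is of finite type, E an object of D(O_X), m an integer, and g_1, …, g_k ∈ Γ(X, U) elements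
generating the unit ideal, so that the basic opens D(g_j) form a standard affine open covering of U.
Then the following are equivalent: for every j there is a surjection from a polynomial ring Γ(S,
V)[x_1, …, x_n] onto Γ(X, D(g_j)), compatible with f, along whose closed immersion into affine space
over V the direct image of E restricted to D(g_j) is m-pseudo-coherent; there is such a surjection
onto Γ(X, U) along whose closed immersion the direct image of E|_U is m-pseudo-coherent. -/
theorem result {X S : Scheme.{u}} (f : X ⟶ S) (U : X.affineOpens)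
    (V : S.affineOpens) (h : (U : X.Opens) ≤ f ⁻¹ᵁ (V : S.Opens))
    (hft : (f.appLE (V : S.Opens) (U : X.Opens) h).hom.FiniteType) (m : ℤ) (E : DCoh.D X)
    {k : ℕ} (g : Fin k → Γ(X, (U : X.Opens))) (hg : Ideal.span (Set.range g) = ⊤) :
    (∀ j : Fin k, ∃ (n : ℕ) (φ : MvPolynomial (Fin n) Γ(S, (V : S.Opens)) →+* Γ(X, X.basicOpen (g j))),
        DerSch.IsChart f (X.basicOpen (g j)) (V : S.Opens) ((X.basicOpen_le (g j)).trans h) φ ∧
          DerSch.ChartPC m E (X.basicOpen (g j)) (V : S.Opens) φ) ↔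
      ∃ (n : ℕ) (φ : MvPolynomial (Fin n) Γ(S, (V : S.Opens)) →+* Γ(X, (U : X.Opens))),
        DerSch.IsChart f (U : X.Opens) (V : S.Opens) h φ ∧ DerSch.ChartPC m E (U : X.Opens) (V : S.Opens) φ := by
  letI := (f.appLE (V : S.Opens) (U : X.Opens) h).hom.toAlgebra
  have hft' : Algebra.FiniteType Γ(S, (V : S.Opens)) Γ(X, (U : X.Opens)) := hft
  obtain ⟨n, ψ, hψ⟩ := Algebra.FiniteType.iff_quotient_mvPolynomial''.1 hft'
  have hchart : DerSch.IsChart f (U : X.Opens) (V : S.Opens) h ψ.toRingHom :=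
    ⟨hψ, RingHom.ext fun r => ψ.commutes r⟩
  constructor
  · intro hj
    refine ⟨n, ψ.toRingHom, hchart, (Groth.Agent.RelPCS8.good_of_basicOpens U.2 V.2 hchart fun z hz => ?_).chartPC hchart⟩
    have hc : z ∈ ⨆ f' : Set.range g, X.basicOpen (f' : Γ(X, (U : X.Opens))) := by
      rw [(U.2.iSup_basicOpen_eq_self_iff).2 hg]
      exact hz
    obtain ⟨⟨_, j, rfl⟩, hzj⟩ := TopologicalSpace.Opens.mem_iSup.1 hc
    obtain ⟨k, φ, hφ, hpc⟩ := hj j
    exact ⟨g j, hzj, Groth.Agent.RelPCS8.good_of_chartPC (U.2.basicOpen _) V.2 hφ hpc⟩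
  · rintro ⟨k, φ, hφ, hpc⟩ j
    obtain ⟨hU, hV, h', k', φ', hφ', ht⟩ :=
      (Groth.Agent.RelPCS8.good_of_chartPC U.2 V.2 hφ hpc).basicOpen (g j)
    exact ⟨k', φ', hφ', (Groth.Agent.RelPCS8.chartPC_iff_test hU φ' hφ'.1 m E).2 ht⟩

end Groth.Agent.S7217
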