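import Groth.Statements.S7225
import Groth.Agent.Lib.NLEtale28.Pushout

set_option linter.style.haveILetI false

set_option autoImplicit false
universe u
open CategoryTheory CategoryTheory.Limits TensorProduct
attribute [local instance] HasDerivedCategory.standard
open FlatMor

namespace Groth.Agent.S7225

/-- Let A be a ring, M a submonoid of A, A' a localization of A at M and B an A'-algebra, viewed also as
an A-algebra. Let G be a presentation of B over A by a polynomial algebra and G' the presentation of
B over A' with the same generators (G'(i) = G(i), written through the identity algebra map of B).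
Then the canonical chain map NL(G) → NL(G') from the naive cotangent complex of the presentation
over A to that of the presentation over A' is an isomorphism of complexes (so that NL_{B/A} →
NL_{B/A'} is a homotopy equivalence). -/
theorem result (A A' B : Type u) [CommRing A] [CommRing A'] [CommRing B]
    [Algebra A A'] (M : Submonoid A) [IsLocalization M A'] [Algebra A' B] [Algebra A B] [IsScalarTower A A' B]
    {ι : Type u} (G : Algebra.Generators A B ι) (G' : Algebra.Generators A' B ι) (h : ∀ i, G'.val i = algebraMap B B (G.val i)) :
    IsIso (NLCx.map (NLCx.sameVarsHom (S' := B) G G' h).toExtensionHom) := by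
  classical
  haveI : IsLocalization (Algebra.algebraMapSubmonoid B M) B := IsLocalization.self (by
    rintro x ⟨m, hm, rfl⟩
    show IsUnit (algebraMap A B m)
    rw [IsScalarTower.algebraMap_apply A A' B]
    exact (IsLocalization.map_units A' ⟨m, hm⟩).map _)
  haveI : Algebra.IsPushout A B A' B := Algebra.isPushout_of_isLocalization M A' B B
  haveI : Algebra.IsPushout A A' B B := .symm inferInstance
  haveI : Module.Flat A A' := IsLocalization.flat A' M
  open Groth.Agent.NLEtale28 in
  have h1 := bijective_cotangent_liftBaseChange _ (flat_sameVars G G' h) (ker_eq_map _ (ker_le_of_isPushout G G' h))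
  have h2 := Groth.Agent.NLEtale28.bijective_cotangentSpace_sameVars G G' h
  set f := (NLCx.sameVarsHom (S' := B) G G' h).toExtensionHom
  have e1 : Function.Bijective (Algebra.Extension.Cotangent.map f) := by
    have : LinearMap.liftBaseChange B (Algebra.Extension.Cotangent.map f) ∘ₗ
        (TensorProduct.lid B G.toExtension.Cotangent).symm.toLinearMap = Algebra.Extension.Cotangent.map f :=
      LinearMap.ext fun x => by simp
    rw [← this]
    exact h1.comp (TensorProduct.lid B _).symm.bijective
  have e2 : Function.Bijective (Algebra.Extension.CotangentSpace.map f) := by
    have : LinearMap.liftBaseChange B (Algebra.Extension.CotangentSpace.map f) ∘ₗ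
        (TensorProduct.lid B G.toExtension.CotangentSpace).symm.toLinearMap = Algebra.Extension.CotangentSpace.map f :=
      LinearMap.ext fun x => by simp
    rw [← this]
    exact h2.comp (TensorProduct.lid B _).symm.bijective
  haveI := Groth.Agent.NLEtale28.isIso_ofHom _ e1
  haveI := Groth.Agent.NLEtale28.isIso_ofHom _ e2
  exact Groth.Agent.NLEtale28.isIso_twoMap (ModuleCat.ofHom G.toExtension.cotangentComplex)
    (ModuleCat.ofHom G'.toExtension.cotangentComplex) (ModuleCat.ofHom (Algebra.Extension.Cotangent.map f))
    (ModuleCat.ofHom (Algebra.Extension.CotangentSpace.map f))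
    (ModuleCat.hom_ext (LinearMap.ext fun x => (Algebra.Extension.CotangentSpace.map_cotangentComplex f x).symm))

end Groth.Agent.S7225
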