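import Groth.Statements.S7230
import Groth.Agent.Lib.PCRel9.MainPerf
-- import your own Groth.Agent.* helpers here

set_option autoImplicit false
universe u
open CategoryTheory CategoryTheory.Limits AlgebraicGeometry Opposite TopologicalSpace
attribute [local instance] HasDerivedCategory.standard
open FlatMor

namespace Groth.Agent.S7230

/-- Let A be a ring and X a scheme separated, of finite presentation and flat over A, with structure
morphism π : X ⟶ Spec A. Let K be a cochain complex of O_X-modules whose class in D(O_X) has
quasi-coherent cohomology sheaves. Assume, the functors Rπ_* and - ⊗^L K being taken to exist, that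
for every perfect object E of D(O_X) the object Rπ_*(E ⊗^L K) of D(O_{Spec A}) is perfect. Then K is
perfect relative to Spec A: its class is pseudo-coherent on X in the absolute sense
(m-pseudo-coherent for every m) and, locally on X, every representing complex has finite tor
amplitude stalkwise over the local rings of Spec A. (The published statement asks RΓ(X, E ⊗^L K) to
be perfect in D(A); on Spec A the two formulations correspond under the equivalence of D(A) with the
quasi-coherent derived category.) -/
theorem result (A : Type u) [CommRing A]
    {X : Scheme.{u}} (π : X ⟶ Spec (CommRingCat.of A)) [IsSeparated π] [QuasiCompact π]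
    [LocallyOfFinitePresentation π] [Flat π] [DCoh.HasRpush π] (K : CochainComplex X.Modules ℤ)
    [DCoh.HasLTensorCx K] (hK : DCoh.IsQCohD (DCoh.toD X K))
    (h : ∀ E : DCoh.D X, DCoh.IsPerfect E → DCoh.IsPerfect ((DCoh.Rpush π).obj ((DCoh.LTensorCx K).obj E))) :
    (∀ m : ℤ, DCoh.IsPseudoCoherentD m (DCoh.toD X K)) ∧ DerSch.LocFiniteTorAmplitudeD π (DCoh.toD X K) := by
  exact PCRel9.relPerf_of_test A π K hK h

end Groth.Agent.S7230
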