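import Groth.Statements.S7231
import Groth.Agent.Lib.RelPCS4.ThickPC

set_option autoImplicit false
universe u
open CategoryTheory CategoryTheory.Limits AlgebraicGeometry Opposite TopologicalSpace
attribute [local instance] HasDerivedCategory.standard
open FlatMor

set_option backward.isDefEq.respectTransparency.types false

attribute [-instance] CategoryTheory.catToReflQuiver

namespace Groth.Agent.S7231

/-- Let i : X ⟶ X' be a finite order thickening (a surjective closed immersion whose ideal sheaf is
nilpotent) and K' an object of D(O_{X'}). If, the derived pullback Li^* being assumed to exist, Li^*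
K' is pseudo-coherent on X (m-pseudo-coherent for every integer m), then K' is pseudo-coherent on
X'. -/
theorem result {X X' : Scheme.{u}} (i : X ⟶ X')
    (hi : MoreMor.IsFiniteOrderThickening i) [DCoh.HasLpull i] (K' : DCoh.D X')
    (hK : ∀ m : ℤ, DCoh.IsPseudoCoherentD m ((DCoh.Lpull i).obj K')) (m : ℤ) :
    DCoh.IsPseudoCoherentD m K' := by
  obtain ⟨n, h⟩ := RelPCS4.Thick.exists_isThick i hi
  exact DPerf.isPseudoCoherentD_of_approx
    (RelPCS4.Thick.approx_of_lpull h m K' (DPerf.approx_of_isPseudoCoherentD (hK m)))

end Groth.Agent.S7231
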