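import Groth.Statements.S7234
import Groth.Agent.Lib.RelPCS8.Basic
import Groth.Agent.Lib.DPush9.Tilde
import Groth.Agent.Lib.RHom.ProjClosed
import Groth.Agent.Lib.DQC.Affine
import Groth.Agent.Lib.DQC.Pull
import Groth.Agent.Lib.DPerf.Tilde
import Groth.Agent.Lib.ModM1.Affine

set_option autoImplicit false
universe u
open CategoryTheory CategoryTheory.Limits AlgebraicGeometry Opposite TopologicalSpace
attribute [local instance] HasDerivedCategory.standard
open FlatMor

set_option backward.isDefEq.respectTransparency.types false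

attribute [-instance] CategoryTheory.catToReflQuiver

namespace Groth.Agent.S7234


set_option backward.isDefEq.respectTransparency false
open RelPCS8

theorem test_iff_restrict {X : Scheme.{u}} {U : X.Opens} (hU : IsAffineOpen U)
    [PreservesFiniteLimits (tilde.functor (X.presheaf.obj (op U)))]
    {P : Type u} [CommRing P] (φ : P →+* Γ(X, U)) (hφ : Function.Surjective φ) (m : ℤ) (E : DCoh.D X)
    (G : CochainComplex X.Modules ℤ) (eG : DCoh.toD X G ≅ E) (M : Dual.D Γ(X, U))
    (eM : (DCoh.tildeD (X.presheaf.obj (op U))).obj M ≅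
      DCoh.toD _ ((DerSch.pushCx hU.isoSpec.hom).obj ((DCoh.restrictCx U).obj G))) :
    Test m E U φ ↔ DRing.IsPseudoCoherent P m ((DRing.restrictD φ).obj M) := by
  let φ' : CommRingCat.of P ⟶ Γ(X, U) := CommRingCat.ofHom φ
  haveI := isClosedImmersion_imm hU φ hφ
  haveI : IsClosedImmersion (Spec.map φ') := IsClosedImmersion.spec_of_surjective _ (by exact hφ)
  haveI : IsIso U.toSpecΓ := by rw [← hU.isoSpec_hom]; infer_instance
  haveI : DCoh.HasRpush (Spec.map φ') := KInjLib.hasRightDerivedFunctor (A := (Spec Γ(X, U)).Modules) KInjLib.enoughKInj_of_grothendieck _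
  haveI : PreservesFiniteLimits (tilde.functor (CommRingCat.of P)) := M1.tilde_preservesFiniteLimits
  obtain ⟨t⟩ := DPush9.nonempty_tildeD_rpush_iso φ'
  obtain ⟨r⟩ := RHom.nonempty_rpushIso (Spec.map φ')
  let d : (pushD (imm U φ)).obj ((DPerf.resD U.ι).obj E) ≅
      (DPerf.tildeDD (CommRingCat.of P)).obj ((DRing.restrictD φ).obj M) :=
    ((pushDComp U.toSpecΓ (Spec.map φ')).app _).symm ≪≫
      (pushD (Spec.map φ')).mapIso ((pushD U.toSpecΓ).mapIso ((DPerf.resD U.ι).mapIso eG.symm ≪≫
          (DPerf.resFac U.ι).app G) ≪≫ (pushFac U.toSpecΓ).app _ ≪≫ eM.symm) ≪≫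
      (r.app _).symm ≪≫ t.app M
  rw [← DPerf.pc_tilde_iff (R := CommRingCat.of P) m]
  exact ⟨fun h => DPerf.isPseudoCoherentD_of_approx ((h inferInstance).of_iso d),
    fun h _ => (DPerf.approx_of_isPseudoCoherentD h).of_iso d.symm⟩

/-- (1) ⇔ (3): let f : X ⟶ S be locally of finite type, E an object of D(O_X) all of whose cohomology
sheaves are quasi-coherent, and m an integer. Then E is m-pseudo-coherent relative to f (chart form)
if and only if for every affine open U of X mapping into an affine open V of S the complex RΓ(U, E),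
viewed in D(Γ(X, U)), is m-pseudo-coherent relative to Γ(S, V) in the ring-level sense. Here RΓ(U,
E) is expressed through the equivalence of D(Γ(X, U)) with the quasi-coherent derived category of
the affine scheme U: the condition is asked of every object M of D(Γ(X, U)) whose associated complex
of modules on Spec Γ(X, U) is isomorphic to E|_U carried along U ≅ Spec Γ(X, U) (the functor M ↦ M~
being assumed left exact, which it is). -/
theorem result {X S : Scheme.{u}} (f : X ⟶ S)
    [LocallyOfFiniteType f] [∀ U : X.affineOpens, PreservesFiniteLimits (tilde.functor (X.presheaf.obj (op (U : X.Opens))))]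
    (E : DCoh.D X) (hE : DCoh.IsQCohD E) (m : ℤ) :
    DerSch.IsPseudoCoherentRel f m E ↔
      ∀ (U : X.affineOpens) (V : S.affineOpens) (h : (U : X.Opens) ≤ f ⁻¹ᵁ (V : S.Opens))
        (G : CochainComplex X.Modules ℤ), Nonempty (DCoh.toD X G ≅ E) →
        ∀ M : Dual.D Γ(X, (U : X.Opens)),
          Nonempty ((DCoh.tildeD (X.presheaf.obj (op (U : X.Opens)))).obj M ≅
            DCoh.toD _ ((DerSch.pushCx U.2.isoSpec.hom).obj ((DCoh.restrictCx (U : X.Opens)).obj G))) →
          letI := (f.appLE (V : S.Opens) (U : X.Opens) h).hom.toAlgebra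
          DerCA.IsRelPseudoCoherent Γ(S, (V : S.Opens)) Γ(X, (U : X.Opens)) m M := by
  constructor
  · intro hR U V h G ⟨eG⟩ M ⟨eM⟩
    obtain ⟨n, φ, hφ⟩ := RelPCS8.exists_chart_of_lft (f := f) U.2 V.2 h
    letI := (f.appLE (V : S.Opens) (U : X.Opens) h).hom.toAlgebra
    exact ⟨n, { toRingHom := φ, commutes' := fun r => RingHom.congr_fun hφ.2 r }, hφ.1,
      (test_iff_restrict U.2 φ hφ.1 m E G eG M eM).1 (((RelPCS8.rel_iff.1 hR).2 U V U.2 V.2 h).test hφ)⟩
  · intro hall
    refine RelPCS8.rel_iff.2 ⟨inferInstance, fun U V hU hV h => ?_⟩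
    let G := (DerivedCategory.Q (C := X.Modules)).objPreimage E
    let eG : DCoh.toD X G ≅ E := (DerivedCategory.Q (C := X.Modules)).objObjPreimageIso E
    haveI : IsIso U.toSpecΓ := by rw [← hU.isoSpec_hom]; infer_instance
    have hq : DCoh.IsQCohD ((RelPCS8.pushD U.toSpecΓ).obj ((DPerf.resD U.ι).obj E)) := fun k =>
      M1.isQCoh_of_isIso (RelPCS8.hdPushDIso U.toSpecΓ _ k).symm (M1.isQCoh_push _ (DQC.isQCohD_resD U.ι hE k))
    obtain ⟨M, ⟨eM⟩⟩ := DQC.exists_iso_of_isQCohD _ hq
    let eM' := eM ≪≫ (RelPCS8.pushD U.toSpecΓ).mapIso ((DPerf.resD U.ι).mapIso eG.symm ≪≫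
      (DPerf.resFac U.ι).app G) ≪≫ (RelPCS8.pushFac U.toSpecΓ).app _
    letI := (f.appLE V U h).hom.toAlgebra
    obtain ⟨n, α, hα, hpc⟩ := hall ⟨U, hU⟩ ⟨V, hV⟩ h G ⟨eG⟩ M ⟨eM'⟩
    have hφ : DerSch.IsChart f U V h α.toRingHom := ⟨hα, RingHom.ext fun r => α.commutes r⟩
    haveI : PreservesFiniteLimits (tilde.functor (X.presheaf.obj (op U))) := inferInstance
    exact ⟨hU, hV, h, n, α.toRingHom, hφ, (test_iff_restrict hU α.toRingHom hα m E G eG M eM').2 hpc⟩

end Groth.Agent.S7234
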