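import Groth.Statements.S7237
import Mathlib

set_option autoImplicit false
universe u
open TensorProduct
open FlatMor

namespace Groth.Agent.S7237

open TensorProduct TrivSqZeroExt in

/-- Let A be a ring and M a finitely generated A-module, and let C = Sym_A(M) be the symmetric algebra
of M with its canonical A-linear map ι : M → C. Then Ω_{C/A} = M ⊗_A C: the C-linear map C ⊗_A M →
Ω_{C/A} obtained by extending scalars in the A-linear map m ↦ d(ι m), d being the universal
A-derivation of C, is bijective. (The published lemma also computes the whole naive cotangent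
complex of the presentation of C attached to a surjection A^m → M with kernel K, namely as K ⊗_A C →
⊕_j C dy_j; only its consequence for Ω is asserted here.) -/
theorem result (A : Type u) [CommRing A] (M : Type u)
    [AddCommGroup M] [Module A M] [Module.Finite A M] :
    Function.Bijective (LinearMap.liftBaseChange (SymmetricAlgebra A M)
      ((KaehlerDifferential.D A (SymmetricAlgebra A M)).toLinearMap.restrictScalars A ∘ₗ SymmetricAlgebra.ι A M)) := by
  let C := SymmetricAlgebra A M
  let N := C ⊗[A] M
  let L := LinearMap.liftBaseChange C
      ((KaehlerDifferential.D A C).toLinearMap.restrictScalars A ∘ₗ SymmetricAlgebra.ι A M)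
  haveI : IsCentralScalar C N := ⟨fun c n => by
    induction n using TensorProduct.induction_on with
    | zero => rw [smul_zero, smul_zero]
    | add a b ha hb => rw [smul_add, smul_add, ha, hb]
    | tmul x m =>
      rw [TensorProduct.smul_tmul', TensorProduct.smul_tmul', MulOpposite.smul_eq_mul_unop,
        MulOpposite.unop_op, smul_eq_mul, mul_comm]⟩
  haveI : SMulCommClass C Cᵐᵒᵖ N := ⟨fun a b n => by
    obtain ⟨b, rfl⟩ := MulOpposite.op_surjective b
    rw [op_smul_eq_smul, op_smul_eq_smul, smul_comm]⟩
  let g : M →ₗ[A] TrivSqZeroExt C N :=
    (inlAlgHom A C N).toLinearMap ∘ₗ SymmetricAlgebra.ι A M +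
      ((inrHom C N).restrictScalars A) ∘ₗ TensorProduct.mk A C M 1
  let φ := SymmetricAlgebra.lift g
  have hφ : ∀ c, (φ c).fst = c := fun c => by
    have : (fstHom A C N).comp φ = AlgHom.id A C :=
      SymmetricAlgebra.algHom_ext (LinearMap.ext fun m => by simp [φ, g, C])
    exact congr($this c)
  let D : Derivation A C N := Derivation.mk'
    ((sndHom C N).restrictScalars A ∘ₗ φ.toLinearMap) fun a b => by
      show (φ (a * b)).snd = a • (φ b).snd + b • (φ a).snd
      rw [map_mul, snd_mul, hφ, hφ, op_smul_eq_smul]
  have hD : ∀ m, D (SymmetricAlgebra.ι A M m) = 1 ⊗ₜ m := fun m => by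
    show (φ (SymmetricAlgebra.ι A M m)).snd = _
    simp [φ, g, C]
    rfl
  have h1 : D.liftKaehlerDifferential ∘ₗ L = LinearMap.id := by
    refine TensorProduct.AlgebraTensorModule.ext fun c m => ?_
    rw [LinearMap.comp_apply, LinearMap.liftBaseChange_tmul, map_smul, LinearMap.id_apply]
    show c • D.liftKaehlerDifferential (KaehlerDifferential.D A C (SymmetricAlgebra.ι A M m)) = _
    rw [Derivation.liftKaehlerDifferential_comp_D, hD, TensorProduct.smul_tmul', smul_eq_mul, mul_one]
  have h2 : L ∘ₗ D.liftKaehlerDifferential = LinearMap.id := by
    refine Derivation.liftKaehlerDifferential_unique _ _ (Derivation.ext fun c => ?_)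
    show L (D.liftKaehlerDifferential (KaehlerDifferential.D A C c)) = KaehlerDifferential.D A C c
    rw [Derivation.liftKaehlerDifferential_comp_D]
    induction c using SymmetricAlgebra.induction with
    | algebraMap r => rw [D.map_algebraMap, map_zero, Derivation.map_algebraMap]
    | ι m =>
      rw [hD, LinearMap.liftBaseChange_one_tmul]
      rfl
    | mul a b ha hb => rw [D.leibniz, map_add, map_smul, map_smul, ha, hb, Derivation.leibniz]
    | add a b ha hb => rw [map_add, map_add, ha, hb, map_add]
  exact ⟨(Function.LeftInverse.injective (g := D.liftKaehlerDifferential) fun x => congr($h1 x)),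
    (Function.RightInverse.surjective (g := D.liftKaehlerDifferential) fun x => congr($h2 x))⟩

end Groth.Agent.S7237
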