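import Groth.Statements.S7238
import Groth.Agent.Lib.NbhdH7.Main
import Groth.Agent.Lib.NbhdH7.Cpl
import Groth.Agent.Lib.Weight4.Mult
import Groth.Agent.S7203
import Groth.Agent.S0598

set_option linter.style.haveILetI false
set_option maxHeartbeats 2000000
set_option synthInstance.maxHeartbeats 200000

set_option autoImplicit false
universe u
open FlatMor

namespace Groth.Agent.S7238

open AlgebraicGeometry CategoryTheory Limits IsLocalRing TensorProduct in
/-- Let S be a locally Noetherian scheme and T a scheme of finite type over ℤ; let p : X ⟶ S and q : Y ⟶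
T be locally of finite type; let x ∈ X with image s ∈ S such that O_{S,s} is a G-ring, and y ∈ Y
with image t ∈ T. Let σ : O_{T,t} → O_{S,s}^∧ be a local homomorphism into the completion, let Y_σ =
Y ×_T Spec(O_{S,s}^∧) be the base change of q along Spec(O_{S,s}^∧) → Spec(O_{T,t}) → T, let y_σ ∈
Y_σ be a point lying over y and over the closed point of Spec(O_{S,s}^∧), and let φ : O_{X,x}^∧ ≅
O_{Y_σ,y_σ}^∧ be an isomorphism of completed local rings compatible with the two O_{S,s}-algebra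
structures. Then there are: an elementary étale neighbourhood e : (V, v) ⟶ (S, s) (étale, v ↦ s,
trivial residue field extension) together with τ : V ⟶ T with τ(v) = t; an elementary étale
neighbourhood a : (W, w) ⟶ (X, x); and a morphism b : W ⟶ Y ×_{T,τ} V with W ⟶ X ⟶ S equal to W ⟶ Y
×_T V ⟶ V ⟶ S, such that b is étale and b(w) lies over y and over v with trivial residue field
extension. (The published statement says more precisely that (W, w) is an elementary étale
neighbourhood of the point y_τ of Y ×_T V corresponding to y_σ under the identification of the fibre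
of Y_σ over the closed point with the fibre of Y ×_T V over v; that identification is not expressed
here, only that b(w) lies over y and v.) -/
theorem result {X Y S T : Scheme.{u}} [IsLocallyNoetherian S]
    (p : X ⟶ S) (q : Y ⟶ T) [LocallyOfFiniteType p] [LocallyOfFiniteType q]
    [LocallyOfFiniteType (specULiftZIsTerminal.from T)] [CompactSpace T]
    (x : X) (hG : CAlg.IsGRing ↑(S.presheaf.stalk (p x))) (y : Y)
    (σ : ↑(T.presheaf.stalk (q y)) →+*
      AdicCompletion (maximalIdeal ↑(S.presheaf.stalk (p x))) ↑(S.presheaf.stalk (p x)))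
    [IsLocalHom σ]
    (yσ : ↑(pullback q (Spec.map (CommRingCat.ofHom σ) ≫ T.fromSpecStalk (q y))))
    (hyσ : (pullback.fst q (Spec.map (CommRingCat.ofHom σ) ≫ T.fromSpecStalk (q y))) yσ = y)
    (hyσc : (pullback.snd q (Spec.map (CommRingCat.ofHom σ) ≫ T.fromSpecStalk (q y))) yσ =
      closedPoint (AdicCompletion (maximalIdeal ↑(S.presheaf.stalk (p x))) ↑(S.presheaf.stalk (p x))))
    (φ : AdicCompletion (maximalIdeal ↑(X.presheaf.stalk x)) ↑(X.presheaf.stalk x) ≃+*
      AdicCompletion (maximalIdeal ↑((pullback q (Spec.map (CommRingCat.ofHom σ) ≫ T.fromSpecStalk (q y))).presheaf.stalk yσ))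
        ↑((pullback q (Spec.map (CommRingCat.ofHom σ) ≫ T.fromSpecStalk (q y))).presheaf.stalk yσ))
    (hφ : φ.toRingHom.comp ((algebraMap ↑(X.presheaf.stalk x)
        (AdicCompletion (maximalIdeal ↑(X.presheaf.stalk x)) ↑(X.presheaf.stalk x))).comp (p.stalkMap x).hom) =
      ((algebraMap _ (AdicCompletion (maximalIdeal
          ↑((pullback q (Spec.map (CommRingCat.ofHom σ) ≫ T.fromSpecStalk (q y))).presheaf.stalk yσ)) _)).comp
        ((pullback.snd q (Spec.map (CommRingCat.ofHom σ) ≫ T.fromSpecStalk (q y))).stalkMap yσ).hom).comp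
        ((((Spec (CommRingCat.of (AdicCompletion (maximalIdeal ↑(S.presheaf.stalk (p x))) ↑(S.presheaf.stalk (p x))))).presheaf.germ
            ⊤ ((pullback.snd q (Spec.map (CommRingCat.ofHom σ) ≫ T.fromSpecStalk (q y))) yσ) trivial).hom.comp
          ((Scheme.ΓSpecIso (CommRingCat.of (AdicCompletion (maximalIdeal ↑(S.presheaf.stalk (p x)))
            ↑(S.presheaf.stalk (p x))))).inv.hom.comp
            (algebraMap ↑(S.presheaf.stalk (p x))
              (AdicCompletion (maximalIdeal ↑(S.presheaf.stalk (p x))) ↑(S.presheaf.stalk (p x)))))))) :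
    ∃ (V : Scheme.{u}) (v : V) (e : V ⟶ S) (τ : V ⟶ T) (W : Scheme.{u}) (w : W) (a : W ⟶ X)
      (b : W ⟶ pullback q τ),
      Etale e ∧ e v = p x ∧ Function.Bijective (e.residueFieldMap v) ∧ τ v = q y ∧
      Etale a ∧ a w = x ∧ Function.Bijective (a.residueFieldMap w) ∧
      a ≫ p = b ≫ pullback.snd q τ ≫ e ∧
      Etale b ∧ (pullback.fst q τ) (b w) = y ∧ (pullback.snd q τ) (b w) = v ∧
      Function.Bijective (b.residueFieldMap w) := by
  haveI : IsLocallyNoetherian X := LocallyOfFiniteType.isLocallyNoetherian p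
  obtain ⟨US, hUS, hsU, -⟩ := exists_isAffineOpen_mem_and_subset (X := S) (x := p x) (U := ⊤) trivial
  obtain ⟨UT, hUT, htU, -⟩ := exists_isAffineOpen_mem_and_subset (X := T) (x := q y) (U := ⊤) trivial
  obtain ⟨UX, hUX, hxU, eX⟩ := exists_isAffineOpen_mem_and_subset (X := X) (x := x) (U := p ⁻¹ᵁ US) hsU
  obtain ⟨UY, hUY, hyU, eY⟩ := exists_isAffineOpen_mem_and_subset (X := Y) (x := y) (U := q ⁻¹ᵁ UT) htU
  haveI : IsNoetherianRing Γ(S, US) := IsLocallyNoetherian.component_noetherian ⟨US, hUS⟩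
  haveI : IsNoetherianRing Γ(X, UX) := IsLocallyNoetherian.component_noetherian ⟨UX, hUX⟩
  haveI : Algebra.FiniteType ℤ Γ(T, UT) := by
    let f := specULiftZIsTerminal.from T
    have h := (f.finiteType_appLE (isAffineOpen_top _) hUT (show UT ≤ f ⁻¹ᵁ ⊤ from le_top)).comp
      (RingHom.FiniteType.of_surjective ((Scheme.ΓSpecIso (CommRingCat.of (ULift.{u} ℤ))).inv.hom.comp
        (ULift.ringEquiv.{0, u} (R := ℤ)).symm.toRingHom)
        ((ConcreteCategory.bijective_of_isIso (Scheme.ΓSpecIso (CommRingCat.of (ULift.{u} ℤ))).inv).2.comp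
          (ULift.ringEquiv.{0, u} (R := ℤ)).symm.surjective))
    exact RingHom.finiteType_algebraMap.1 (by convert h using 1; exact RingHom.ext_int _ _)
  haveI : IsNoetherianRing Γ(T, UT) := Algebra.FiniteType.isNoetherianRing ℤ Γ(T, UT)
  letI : Algebra Γ(S, US) Γ(X, UX) := (p.appLE US UX eX).hom.toAlgebra
  letI : Algebra Γ(T, UT) Γ(Y, UY) := (q.appLE UT UY eY).hom.toAlgebra
  haveI : Algebra.FiniteType Γ(S, US) Γ(X, UX) := p.finiteType_appLE hUS hUX eX
  haveI : Algebra.FiniteType Γ(T, UT) Γ(Y, UY) := q.finiteType_appLE hUT hUY eY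
  let L : Type u := S.presheaf.stalk (p x)
  letI : Algebra Γ(S, US) L := S.presheaf.algebra_section_stalk (U := US) ⟨p x, hsU⟩
  haveI hlocS : IsLocalization.AtPrime L (hUS.primeIdealOf ⟨p x, hsU⟩).asIdeal := hUS.isLocalization_stalk _
  let M : Type u := X.presheaf.stalk x
  letI : Algebra Γ(X, UX) M := X.presheaf.algebra_section_stalk (U := UX) ⟨x, hxU⟩
  haveI hlocX : IsLocalization.AtPrime M (hUX.primeIdealOf ⟨x, hxU⟩).asIdeal := hUX.isLocalization_stalk _
  haveI : IsNoetherianRing L :=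
    IsLocalization.isNoetherianRing (hUS.primeIdealOf ⟨p x, hsU⟩).asIdeal.primeCompl _ inferInstance
  haveI : IsNoetherianRing M :=
    IsLocalization.isNoetherianRing (hUX.primeIdealOf ⟨x, hxU⟩).asIdeal.primeCompl _ inferInstance
  let K : Type u := AdicCompletion (maximalIdeal L) L
  haveI : IsNoetherianRing K := Compl.isNoetherianRing_adicCompletion _ (IsNoetherian.noetherian _)
  haveI : IsScalarTower Γ(S, US) L K := IsScalarTower.of_algebraMap_eq' rfl
  have hreg : CAlg.IsRegularHom Γ(S, US) K :=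
    FlatDepth.isRegularHom_comp Γ(S, US) L K
      (GRing6.isRegularHom_isLocalization _ _ (hUS.primeIdealOf ⟨p x, hsU⟩).asIdeal.primeCompl)
      (GRing6.isRegularHom_adicCompletion _ hG _)
  letI : Algebra Γ(T, UT) K := (σ.comp (T.presheaf.germ UT (q y) htU).hom).toAlgebra
  have hτ : Spec.map (CommRingCat.ofHom σ) ≫ T.fromSpecStalk (q y) =
      Spec.map (CommRingCat.ofHom (algebraMap Γ(T, UT) K)) ≫ hUT.fromSpec := by
    rw [← hUT.fromSpecStalk_eq_fromSpecStalk htU, IsAffineOpen.fromSpecStalk, ← Spec.map_comp_assoc]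
    rfl
  obtain ⟨j, hj, hjfst, hjsnd, hrange⟩ := NbhdH7.exists_pullback_chart q hUT hUY eY K rfl _ hτ
  haveI := hj
  obtain ⟨y', rfl⟩ := hrange yσ (by rw [hyσ]; exact hyU)
  let Z := pullback q (Spec.map (CommRingCat.ofHom σ) ≫ T.fromSpecStalk (q y))
  haveI : LocallyOfFiniteType (pullback.snd q (Spec.map (CommRingCat.ofHom σ) ≫ T.fromSpecStalk (q y))) :=
    inferInstance
  let Q' := j ≫ pullback.snd q (Spec.map (CommRingCat.ofHom σ) ≫ T.fromSpecStalk (q y))
  haveI : IsLocallyNoetherian (Spec (CommRingCat.of K)) := inferInstance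
  haveI : IsLocallyNoetherian Z :=
    LocallyOfFiniteType.isLocallyNoetherian (pullback.snd q (Spec.map (CommRingCat.ofHom σ) ≫ T.fromSpecStalk (q y)))
  let N' : Type u := Z.presheaf.stalk (j y')
  let ρK : K →+* AdicCompletion (maximalIdeal N') N' :=
    ((algebraMap N' (AdicCompletion (maximalIdeal N') N')).comp
      ((pullback.snd q (Spec.map (CommRingCat.ofHom σ) ≫ T.fromSpecStalk (q y))).stalkMap (j y')).hom).comp
      (((Spec (CommRingCat.of K)).presheaf.germ ⊤
        ((pullback.snd q (Spec.map (CommRingCat.ofHom σ) ≫ T.fromSpecStalk (q y))) (j y')) trivial).hom.comp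
        (Scheme.ΓSpecIso (CommRingCat.of K)).inv.hom)
  let G : K →+* AdicCompletion (maximalIdeal M) M := φ.symm.toRingHom.comp ρK
  have hGa : ∀ a, G (algebraMap L K a) = algebraMap M _ ((p.stalkMap x).hom a) := fun a =>
    (congrArg φ.symm (RingHom.congr_fun hφ a).symm).trans (φ.symm_apply_apply _)
  have hsp : ∀ a, (p.stalkMap x).hom (algebraMap Γ(S, US) L a) =
      algebraMap Γ(X, UX) M (algebraMap Γ(S, US) Γ(X, UX) a) := fun a => by
    have h2 : S.presheaf.germ US (p x) hsU ≫ p.stalkMap x = p.appLE US UX eX ≫ X.presheaf.germ UX x hxU := by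
      simp [Scheme.Hom.appLE]
    exact ConcreteCategory.congr_hom h2 a
  obtain ⟨θ, hθ⟩ := NbhdH7.exists_tensor_hom (A := Γ(S, US)) (B := K) (C := Γ(X, UX)) G
    ((algebraMap M (AdicCompletion (maximalIdeal M) M)).comp (algebraMap Γ(X, UX) M))
    fun a => ((congrArg G (IsScalarTower.algebraMap_apply Γ(S, US) L K a)).trans (hGa _)).trans
      (congrArg (algebraMap M _) (hsp a))
  let x' : Spec (CommRingCat.of (K ⊗[Γ(S, US)] Γ(X, UX))) :=
    ⟨(maximalIdeal (AdicCompletion (maximalIdeal M) M)).comap θ, Ideal.IsPrime.comap θ⟩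
  let P' : Spec (CommRingCat.of (K ⊗[Γ(S, US)] Γ(X, UX))) ⟶ Spec (CommRingCat.of K) :=
    Spec.map (CommRingCat.ofHom Algebra.TensorProduct.includeLeftRingHom)
  haveI : LocallyOfFiniteType P' :=
    HasRingHomProperty.Spec_iff.2 (RingHom.finiteType_algebraMap.2 (inferInstance :
      Algebra.FiniteType K (K ⊗[Γ(S, US)] Γ(X, UX))))
  haveI : LocallyOfFiniteType Q' := inferInstanceAs (LocallyOfFiniteType (_ ≫ _))
  haveI : IsLocallyNoetherian (Spec (CommRingCat.of (K ⊗[Γ(S, US)] Γ(X, UX)))) :=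
    LocallyOfFiniteType.isLocallyNoetherian P'
  haveI : IsLocallyNoetherian (Spec (CommRingCat.of (K ⊗[Γ(T, UT)] Γ(Y, UY)))) :=
    LocallyOfFiniteType.isLocallyNoetherian Q'
  let O : Type u := (Spec (CommRingCat.of (K ⊗[Γ(S, US)] Γ(X, UX)))).presheaf.stalk x'
  letI : Algebra (K ⊗[Γ(S, US)] Γ(X, UX)) O := (NbhdH7.toSt x').toAlgebra
  haveI : ((maximalIdeal (AdicCompletion (maximalIdeal M) M)).comap θ).IsPrime := x'.2
  haveI : IsLocalization.AtPrime O ((maximalIdeal (AdicCompletion (maximalIdeal M) M)).comap θ) :=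
    NbhdH7.isLocalization_toSt x'
  obtain ⟨e1, -, he1⟩ := NbhdH7.exists_cplEquiv_baseChange (A := Γ(S, US)) (C := Γ(X, UX)) (L := L) (M := M)
    (hUS.primeIdealOf ⟨p x, hsU⟩).asIdeal.primeCompl (hUX.primeIdealOf ⟨x, hxU⟩).asIdeal.primeCompl
    (p.stalkMap x).hom hsp G hGa θ hθ (O := O)
  have hjs := ConcreteCategory.bijective_of_isIso (j.stalkMap y')
  obtain ⟨e2, he2⟩ := NbhdH7.exists_cplEquiv (j.stalkMap y').hom (RingHom.Flat.of_bijective hjs)
    (Weight.map_maximalIdeal_stalkMap j y') fun z => by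
      obtain ⟨c, hc⟩ := hjs.2 z
      exact ⟨c, by rw [show (j.stalkMap y').hom c = z from hc, sub_self]; exact zero_mem _⟩
  let φ' := e2.symm.trans (φ.symm.trans e1)
  have hGm : ∀ k, G k ∈ maximalIdeal (AdicCompletion (maximalIdeal M) M) ↔ k ∈ maximalIdeal K := fun k => by
    refine ⟨fun h hu => h (hu.map G), fun h => ?_⟩
    rw [CplLocH7.maximalIdeal_cpl] at h
    refine (Ideal.map_le_iff_le_comap.2 (fun a ha => ?_) : (maximalIdeal L).map (algebraMap L K) ≤
      (maximalIdeal (AdicCompletion (maximalIdeal M) M)).comap G) h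
    show G (algebraMap L K a) ∈ maximalIdeal _
    rw [hGa]
    exact map_nonunit (algebraMap M _) _ (map_nonunit (p.stalkMap x).hom _ ha)
  have hθl : ∀ k, θ (k ⊗ₜ 1) = G k := fun k => by rw [hθ, map_one, mul_one]
  have hxy : P' x' = Q' y' := by
    refine PrimeSpectrum.ext ?_
    rw [show Q' y' = closedPoint K from hyσc]
    refine Ideal.ext fun k => ?_
    show θ (k ⊗ₜ 1) ∈ maximalIdeal _ ↔ _
    rw [hθl, hGm]
    rfl
  have hGK : CAlg.IsGRing ((Spec (CommRingCat.of K)).presheaf.stalk (P' x')) := by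
    letI := (NbhdH7.toSt (P' x')).toAlgebra
    haveI := NbhdH7.isLocalization_toSt (P' x')
    haveI : (P' x').asIdeal.IsPrime := (P' x').2
    haveI : IsAdicComplete (maximalIdeal K) K := inferInstance
    exact GRing6.isGRing_of_isLocalization K _ (P' x').asIdeal.primeCompl (Groth.Agent.S0598.result K)
  have hφ' : φ'.toRingHom.comp ((algebraMap _ (AdicCompletion _ _)).comp
      ((Q'.stalkMap y').hom.comp ((Spec (CommRingCat.of K)).presheaf.stalkCongr (Inseparable.of_eq hxy)).hom.hom)) =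
      (algebraMap O (AdicCompletion (maximalIdeal O) O)).comp (P'.stalkMap x').hom := by
    letI := (NbhdH7.toSt (P' x')).toAlgebra
    haveI : (P' x').asIdeal.IsPrime := (P' x').2
    haveI := NbhdH7.isLocalization_toSt (P' x')
    refine IsLocalization.ringHom_ext (P' x').asIdeal.primeCompl (RingHom.ext fun k => ?_)
    have hc : ((Spec (CommRingCat.of K)).presheaf.stalkCongr (Inseparable.of_eq hxy)).hom.hom
        (NbhdH7.toSt (P' x') k) = NbhdH7.toSt (Q' y') k :=
      ConcreteCategory.congr_hom ((Spec (CommRingCat.of K)).presheaf.germ_stalkSpecializes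
        (U := ⊤) trivial (Inseparable.of_eq hxy).ge) ((Scheme.ΓSpecIso (CommRingCat.of K)).inv.hom k)
    show e1 (φ.symm (e2.symm (algebraMap _ _ ((Q'.stalkMap y').hom
      (((Spec (CommRingCat.of K)).presheaf.stalkCongr (Inseparable.of_eq hxy)).hom.hom (NbhdH7.toSt (P' x') k)))))) =
      algebraMap O _ ((P'.stalkMap x').hom (NbhdH7.toSt (P' x') k))
    have hq2 : (Q'.stalkMap y').hom (NbhdH7.toSt (Q' y') k) = (j.stalkMap y').hom
        (((pullback.snd q (Spec.map (CommRingCat.ofHom σ) ≫ T.fromSpecStalk (q y))).stalkMap (j y')).hom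
          (NbhdH7.toSt (Q' y') k)) :=
      ConcreteCategory.congr_hom (Scheme.Hom.stalkMap_comp j
        (pullback.snd q (Spec.map (CommRingCat.ofHom σ) ≫ T.fromSpecStalk (q y))) y') (NbhdH7.toSt (Q' y') k)
    have hp2 : (P'.stalkMap x').hom (NbhdH7.toSt (P' x') k) =
        NbhdH7.toSt x' ((Algebra.TensorProduct.includeLeftRingHom : K →+* K ⊗[Γ(S, US)] Γ(X, UX)) k) :=
      NbhdH7.stalkMap_toSt (Algebra.TensorProduct.includeLeftRingHom : K →+* K ⊗[Γ(S, US)] Γ(X, UX)) x' k
    refine Eq.trans ?_ (congrArg (algebraMap O (AdicCompletion (maximalIdeal O) O)) hp2.symm)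
    refine (congrArg (fun z => e1 (φ.symm (e2.symm (algebraMap
      ((Spec (CommRingCat.of (K ⊗[Γ(T, UT)] Γ(Y, UY)))).presheaf.stalk y')
      (AdicCompletion (maximalIdeal _) _) z)))) ((congrArg (Q'.stalkMap y').hom hc).trans hq2)).trans ?_
    refine (congrArg (fun z => e1 (φ.symm z)) ((congrArg e2.symm (he2 _).symm).trans (e2.symm_apply_apply _))).trans ?_
    refine Eq.trans ?_ (he1 k)
    have hz : G k = φ.symm (algebraMap N' _ (((pullback.snd q (Spec.map (CommRingCat.ofHom σ) ≫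
        T.fromSpecStalk (q y))).stalkMap (j y')).hom (((Spec (CommRingCat.of K)).presheaf.germ ⊤
        ((pullback.snd q (Spec.map (CommRingCat.ofHom σ) ≫ T.fromSpecStalk (q y))) (j y')) trivial).hom
        ((Scheme.ΓSpecIso (CommRingCat.of K)).inv.hom k)))) := by
      simp only [G, ρK, RingHom.comp_apply]
      rfl
    rw [hz]
    refine congrArg e1 (congrArg φ.symm (congrArg (algebraMap N' (AdicCompletion (maximalIdeal N') N')) ?_))
    refine congrArg ((pullback.snd q (Spec.map (CommRingCat.ofHom σ) ≫ T.fromSpecStalk (q y))).stalkMap (j y')).hom ?_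
    rfl
  obtain ⟨U, u, e, heu, f, hfu, he, hebij, hf, hfbij, hfe, -⟩ :=
    Groth.Agent.S7203.result P' Q' x' y' hxy hGK φ' hφ' 1 le_rfl
  obtain ⟨D0, hD0, huD, -⟩ := exists_isAffineOpen_mem_and_subset (X := U) (x := u) (U := ⊤) trivial
  let i : Spec Γ(U, D0) ⟶ U := hD0.fromSpec
  let u0 : Spec Γ(U, D0) := hD0.primeIdealOf ⟨u, huD⟩
  have hiu : i u0 = u := hD0.fromSpec_primeIdealOf ⟨u, huD⟩
  let ε := Spec.preimage (i ≫ e)
  let ζ := Spec.preimage (i ≫ f)
  have hε : Spec.map ε = i ≫ e := Spec.map_preimage _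
  have hζ : Spec.map ζ = i ≫ f := Spec.map_preimage _
  haveI := he
  haveI := hf
  have hE : ∀ {Z : Scheme.{u}} (g : U ⟶ Z) (m : Spec Γ(U, D0) ⟶ Z), m = i ≫ g → Etale g → Etale m := by
    rintro Z g m rfl hg
    infer_instance
  have hbij : ∀ {Z : Scheme.{u}} (g : U ⟶ Z) (m : Spec Γ(U, D0) ⟶ Z), m = i ≫ g →
      Function.Bijective (g.residueFieldMap u) → Function.Bijective (m.residueFieldMap u0) := by
    rintro Z g m rfl hg
    refine NbhdH7.bijective_residueFieldMap_of_comp_iso i g u0 ?_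
    rw [hiu]
    exact hg
  have hpe : Spec.map (CommRingCat.ofHom ε.hom) u0 = x' := by
    rw [CommRingCat.ofHom_hom, hε, Scheme.Hom.comp_apply, hiu, heu]
  have hpf : Spec.map (CommRingCat.ofHom ζ.hom) u0 = y' := by
    rw [CommRingCat.ofHom_hom, hζ, Scheme.Hom.comp_apply, hiu, hfu]
  have hcomm : ∀ k, ε.hom (k ⊗ₜ 1) = ζ.hom (k ⊗ₜ 1) := by
    have h : Spec.map ε ≫ P' = Spec.map ζ ≫ Spec.map (CommRingCat.ofHom
        (Algebra.TensorProduct.includeLeftRingHom : K →+* K ⊗[Γ(T, UT)] Γ(Y, UY))) := by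
      rw [← hjsnd, hε, hζ, Category.assoc, Category.assoc]
      exact congrArg (i ≫ ·) hfe.symm
    rw [← Spec.map_comp, ← Spec.map_comp] at h
    exact fun k => ConcreteCategory.congr_hom (Spec.map_injective h) k
  have hres : ∀ z, NbhdH7.resAt u0 z = 0 ↔ z ∈ u0.asIdeal := fun z =>
    RingHom.mem_ker.symm.trans (iff_of_eq (congrArg (z ∈ ·) (NbhdH7.ker_resAt u0)))
  have hxe : ∀ z, NbhdH7.resAt u0 (ε.hom z) = 0 ↔ θ z ∈ maximalIdeal _ := fun z => (hres _).trans
    (iff_of_eq (congrArg (fun w : Spec (CommRingCat.of (K ⊗[Γ(S, US)] Γ(X, UX))) => z ∈ w.asIdeal) hpe))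
  have hyf : ∀ z, NbhdH7.resAt u0 (ζ.hom z) = 0 ↔ z ∈ y'.asIdeal := fun z => (hres _).trans
    (iff_of_eq (congrArg (fun w : Spec (CommRingCat.of (K ⊗[Γ(T, UT)] Γ(Y, UY))) => z ∈ w.asIdeal) hpf))
  refine NbhdH7.exists_nbhd p q hUS hUX eX hUT hUY eY x y hxU hyU hsU htU rfl rfl (L := L)
    (hUS.primeIdealOf ⟨p x, hsU⟩).asIdeal.primeCompl hreg rfl (fun a => ?_) ε.hom ζ.hom
    (HasRingHomProperty.Spec_iff.1 (hE e _ hε he)) (HasRingHomProperty.Spec_iff.1 (hE f _ hζ hf)) hcomm
    (NbhdH7.resAt u0) (fun k hk => (hxe _).2 (by rw [hθl]; exact (hGm k).2 hk))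
    (NbhdH7.closure_range_resAt ε.hom u0 (hbij e _ ((congrArg Spec.map (CommRingCat.ofHom_hom ε)).trans hε) hebij))
    (NbhdH7.closure_range_resAt ζ.hom u0 (hbij f _ ((congrArg Spec.map (CommRingCat.ofHom_hom ζ)).trans hζ) hfbij))
    (fun c => ?_) fun c => ?_
  · exact ⟨fun h hu => h (hu.map σ), fun h => map_nonunit σ _ h⟩
  · rw [hxe, hθ, map_one, one_mul]
    exact ⟨fun h hu => h (hu.map (algebraMap M (AdicCompletion (maximalIdeal M) M))), fun h => map_nonunit (algebraMap M _) _ h⟩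
  · rw [hyf]
    have h1 : (Spec.map (CommRingCat.ofHom (Algebra.TensorProduct.includeRight :
        Γ(Y, UY) →ₐ[Γ(T, UT)] K ⊗[Γ(T, UT)] Γ(Y, UY)).toRingHom)) y' = hUY.primeIdealOf ⟨y, hyU⟩ := by
      refine hUY.fromSpec.isOpenEmbedding.injective ?_
      rw [hUY.fromSpec_primeIdealOf, ← Scheme.Hom.comp_apply, ← hjfst]
      exact hyσ
    letI := Y.presheaf.algebra_section_stalk (U := UY) ⟨y, hyU⟩
    haveI : IsLocalization.AtPrime (Y.presheaf.stalk y) (hUY.primeIdealOf ⟨y, hyU⟩).asIdeal :=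
      hUY.isLocalization_stalk _
    refine (iff_of_eq (congrArg (fun w : Spec Γ(Y, UY) => c ∈ w.asIdeal) h1)).trans ?_
    exact (iff_of_eq (congrArg (c ∈ ·) (IsLocalization.AtPrime.under_maximalIdeal (Y.presheaf.stalk y)
      (hUY.primeIdealOf ⟨y, hyU⟩).asIdeal).symm))

end Groth.Agent.S7238
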