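import Groth.Statements.S7241
import Groth.Agent.Lib.RelAmple18.Ops
import Groth.Agent.Lib.VeryAmple11.FTGen
import Groth.Agent.Lib.CohFound.ModQuot
import Groth.Agent.Lib.TensorMod.QCohTensor

set_option autoImplicit false
set_option backward.isDefEq.respectTransparency false
universe u
open CategoryTheory CategoryTheory.Limits AlgebraicGeometry
attribute [local instance] HasDerivedCategory.standard
open Perf

namespace Groth.Agent.S7241

/-- Let f : X ⟶ Y be a morphism of schemes whose target Y is quasi-compact, quasi-separated, and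
satisfies the resolution property (every quasi-coherent O_Y-module of finite type is a quotient of a
finite locally free O_Y-module), and suppose there is an f-ample invertible O_X-module L (f
quasi-compact and L ample on the preimage of every affine open of Y). Then X has the resolution
property. -/
theorem result {X Y : Scheme.{u}} (f : X ⟶ Y) [CompactSpace ↥Y] [QuasiSeparatedSpace ↥Y]
    (hY : PerfAux.HasResolutionProperty Y) (L : X.Modules) (hL : RelAmple.IsRelAmple f L) :
    PerfAux.HasResolutionProperty X := by
  intro M hM hMf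
  haveI := hL.1
  haveI := Groth.Agent.RA.isSeparated_of_isRelAmple f hL
  have hLi := Groth.Agent.RA.isInvertible_of_isRelAmple f hL
  obtain ⟨m₀, hm⟩ := Groth.Agent.VA11.exists_ft_epi_of_isRelAmple f L hLi hL M hM hMf
  obtain ⟨F, φ, hFq, hFf, hφ⟩ := hm m₀ le_rfl
  obtain ⟨E, π, hE, hπ⟩ := hY F hFq hFf
  haveI := hφ
  haveI := hπ
  have hP : PicF.IsInvertible (CohB1.tensorPow L m₀) := Groth.Agent.M2.isInvertible_tensorPow hLi m₀
  haveI := Groth.Agent.CohFound.epi_tensorMap ((Scheme.Modules.pullback f).map π ≫ φ)
    (Groth.Agent.M2.dualMod (CohB1.tensorPow L m₀))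
  exact ⟨_, Groth.Agent.M2.tensorMap ((Scheme.Modules.pullback f).map π ≫ φ) (𝟙 (Groth.Agent.M2.dualMod (CohB1.tensorPow L m₀))) ≫
      (Groth.Agent.M2.tensorAssoc M _ _ ≪≫
        Groth.Agent.M2.tensorIso (Iso.refl M) (Groth.Agent.M2.tensorComm _ _ ≪≫ Groth.Agent.M2.dualTensorIso hP) ≪≫
          Groth.Agent.M2.tensorRUnit M).hom,
    Groth.Agent.M2.isFinLocFree_tensor (Groth.Agent.M2.isFinLocFree_pullback f hE)
      (Groth.Agent.M2.isFinLocFree_of_isInvertible (Groth.Agent.M2.isInvertible_dualMod hP)), inferInstance⟩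

end Groth.Agent.S7241
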