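import Groth.Statements.S7242
import Groth.Agent.Lib.DeligneExt9.Res
-- import your own Groth.Agent.* helpers here

set_option autoImplicit false
universe u
open CategoryTheory CategoryTheory.Limits AlgebraicGeometry
attribute [local instance] HasDerivedCategory.standard
open Perf

namespace Groth.Agent.S7242

/-- Let X be a scheme, X = U_1 ∪ … ∪ U_m a finite covering by affine opens, and I_1, …, I_m
quasi-coherent ideal sheaves of finite type with V(I_j) = X ∖ U_j as sets. Then X has the resolution
property (every quasi-coherent O_X-module of finite type is a quotient of a finite locally free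
O_X-module) if and only if, for every j, the ideal sheaf I_j regarded as an O_X-module is a quotient
of a finite locally free O_X-module. -/
theorem result (X : Scheme.{u}) {m : ℕ} (U : Fin m → X.Opens)
    (hUaff : ∀ j, IsAffineOpen (U j)) (hcov : ⨆ j, U j = ⊤) (I : Fin m → X.IdealSheafData)
    (hIft : ∀ j, CohB1.IsFT (ClSub.idealMod (I j))) (hIsupp : ∀ j, ((I j).support : Set ↥X) = (U j : Set ↥X)ᶜ) :
    PerfAux.HasResolutionProperty X ↔
      ∀ j, ∃ (E : X.Modules) (π : E ⟶ ClSub.idealMod (I j)), FlatMod.IsFinLocFree E ∧ Epi π := by
  exact ⟨fun h j => h _ (M2.isQCoh_idealMod (I j)) (hIft j),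
    DeligneExt9.hasResolutionProperty_of_boundary U hUaff hcov I hIft hIsupp⟩

end Groth.Agent.S7242
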