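import Groth.Statements.S7251
import Groth.Agent.Lib.DQC.Pull

set_option autoImplicit false
set_option linter.style.haveILetI false
set_option backward.isDefEq.respectTransparency false
universe u
open CategoryTheory CategoryTheory.Limits AlgebraicGeometry
attribute [local instance] HasDerivedCategory.standard
open Perf

namespace Groth.Agent.S7251

/-- Let f : X ⟶ Y be a quasi-compact and quasi-separated morphism of schemes. Assume Rf_* exists and
sends D_QCoh(O_X) into D_QCoh(O_Y), let an adjunction Lf^* ⊣ Rf_* be given as data, and assume the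
inclusion functors D_QCoh ⥤ D have (chosen) right adjoints DQ_X and DQ_Y. Then Rf_* ∘ DQ_X = DQ_Y ∘
Rf_*: for every K ∈ D(O_X) the comparison map Rf_*(DQ_X K) ⟶ DQ_Y(Rf_* K) in D_QCoh(O_Y),
corresponding under the adjunction to Rf_* applied to the counit DQ_X K ⟶ K, is an isomorphism. -/
theorem result {X Y : Scheme.{u}} (f : X ⟶ Y) [QuasiCompact f] [QuasiSeparated f]
    [DCoh.HasRpush f] (h : DCoh.RpushPreservesQCoh f) [DCoh.HasLpull f] (adj : DCoh.Lpull f ⊣ DCoh.Rpush f)
    [(ObjectProperty.ι (DCoh.IsQCohD (X := X))).IsLeftAdjoint] [(ObjectProperty.ι (DCoh.IsQCohD (X := Y))).IsLeftAdjoint]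
    (K : DCoh.D X) :
    IsIso ((Adjunction.ofIsLeftAdjoint (ObjectProperty.ι (DCoh.IsQCohD (X := Y)))).homEquiv
      (⟨(DCoh.Rpush f).obj (((ObjectProperty.ι (DCoh.IsQCohD (X := X))).rightAdjoint.obj K).obj),
        h _ (((ObjectProperty.ι (DCoh.IsQCohD (X := X))).rightAdjoint.obj K).property)⟩ : DCoh.DQCoh Y)
      ((DCoh.Rpush f).obj K)
      ((DCoh.Rpush f).map ((Adjunction.ofIsLeftAdjoint (ObjectProperty.ι (DCoh.IsQCohD (X := X)))).counit.app K))) := by
  set aY := Adjunction.ofIsLeftAdjoint (ObjectProperty.ι (DCoh.IsQCohD (X := Y))) with haY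
  set aX := Adjunction.ofIsLeftAdjoint (ObjectProperty.ι (DCoh.IsQCohD (X := X))) with haX
  set P : DCoh.DQCoh Y := ⟨(DCoh.Rpush f).obj (((ObjectProperty.ι (DCoh.IsQCohD (X := X))).rightAdjoint.obj K).obj),
    h _ (((ObjectProperty.ι (DCoh.IsQCohD (X := X))).rightAdjoint.obj K).property)⟩ with hP
  set ψ : P.obj ⟶ (DCoh.Rpush f).obj K := (DCoh.Rpush f).map (aX.counit.app K) with hψ
  have key : ∀ G : DCoh.DQCoh Y, Function.Bijective
      (fun u : G ⟶ P => u ≫ aY.homEquiv P ((DCoh.Rpush f).obj K) ψ) := by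
    intro G
    let G' : DCoh.DQCoh X := ⟨(DCoh.Lpull f).obj G.obj, Groth.Agent.DQC.isQCohD_lpull f G.property⟩
    let e₁ : (G ⟶ P) ≃ (G.obj ⟶ P.obj) :=
      (ObjectProperty.fullyFaithfulι (DCoh.IsQCohD (X := Y))).homEquiv
    let e₂ : (G' ⟶ (ObjectProperty.ι (DCoh.IsQCohD (X := X))).rightAdjoint.obj K) ≃
        (G'.obj ⟶ ((ObjectProperty.ι (DCoh.IsQCohD (X := X))).rightAdjoint.obj K).obj) :=
      (ObjectProperty.fullyFaithfulι (DCoh.IsQCohD (X := X))).homEquiv
    have heq : (fun u : G ⟶ P => u ≫ aY.homEquiv P ((DCoh.Rpush f).obj K) ψ) =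
        fun u => aY.homEquiv G ((DCoh.Rpush f).obj K) (adj.homEquiv G.obj K
          ((aX.homEquiv G' K).symm (e₂.symm ((adj.homEquiv G.obj _).symm (e₁ u))))) := by
      funext u
      rw [← Adjunction.homEquiv_naturality_left]
      congr 1
      have : (aX.homEquiv G' K).symm (e₂.symm ((adj.homEquiv G.obj _).symm (e₁ u))) =
          (adj.homEquiv G.obj _).symm (e₁ u) ≫ aX.counit.app K := by
        rw [Adjunction.homEquiv_counit]
        congr 1
      rw [this]
      refine Eq.trans ?_ (adj.homEquiv_naturality_right ((adj.homEquiv G.obj _).symm (e₁ u))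
        (aX.counit.app K)).symm
      rw [Equiv.apply_symm_apply]
      rfl
    rw [heq]
    exact (aY.homEquiv _ _).bijective.comp ((adj.homEquiv _ _).bijective.comp
      ((aX.homEquiv G' K).symm.bijective.comp (e₂.symm.bijective.comp
        ((adj.homEquiv G.obj _).symm.bijective.comp e₁.bijective))))
  obtain ⟨v, hv⟩ := (key _).2 (𝟙 _)
  refine ⟨v, (key _).1 ?_, hv⟩
  show (_ ≫ v) ≫ _ = 𝟙 P ≫ _
  rw [Category.assoc, show v ≫ aY.homEquiv P _ ψ = 𝟙 _ from hv, Category.comp_id, Category.id_comp]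

end Groth.Agent.S7251
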