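import Groth.Statements.S7252
import Groth.Agent.Lib.LocEq9.Basic

set_option autoImplicit false
set_option linter.style.haveILetI false
set_option backward.isDefEq.respectTransparency false
universe u
open CategoryTheory CategoryTheory.Limits AlgebraicGeometry
attribute [local instance] HasDerivedCategory.standard
open Perf

namespace Groth.Agent.S7252

/-- Let X be a scheme, U ⊆ X an open subscheme and T = X ∖ U. Assume that, locally on X, T is the
vanishing set of no more than c functions from O_X: every point of X has an open neighbourhood V and
finitely many, at most c, sections of O_X over V whose common zero locus meets V exactly in T ∩ V.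
Then the local cohomology sheaves ℋ^i_T(F) (the right derived functors, computed with injective
resolutions, of the sheaf of sections with support in T, F ↦ ker(F → j_*(F|_U))) vanish for every i
> c and every quasi-coherent O_X-module F. -/
theorem result {X : Scheme.{u}} (U : X.Opens) [HasInjectiveResolutions X.Modules]
    (c : ℕ) (hT : ∀ x : X, ∃ (V : X.Opens) (fs : Finset Γ(X, V)), x ∈ V ∧ fs.card ≤ c ∧
      X.zeroLocus (U := V) (↑fs : Set Γ(X, V)) ∩ (V : Set ↥X) = (U : Set ↥X)ᶜ ∩ (V : Set ↥X))
    (F : X.Modules) (hF : Coh.IsQCoh F) (i : ℕ) (hi : c < i) :
    IsZero (((DCoh.gammaZ U.ι).rightDerived i).obj F) := by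
  haveI : F.IsQuasicoherent := hF
  exact LocEq9.isZero_HZshM U c hT F i hi

end Groth.Agent.S7252
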