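import Groth.Statements.S7254
import Groth.Agent.Lib.RFBd9.Basic
import Groth.Agent.Lib.CohFound.ModulesInst

set_option autoImplicit false
set_option linter.style.haveILetI false
set_option backward.isDefEq.respectTransparency false
universe u
open CategoryTheory CategoryTheory.Limits AlgebraicGeometry
attribute [local instance] HasDerivedCategory.standard
open Perf

namespace Groth.Agent.S7254

/-- Let X be a scheme, F an additive functor from O_X-modules to abelian groups and N ≥ 0 an integer
such that F commutes with countable direct products and RᵖF(G) = 0 (right derived functors computed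
with injective resolutions) for every p ≥ N and every quasi-coherent O_X-module G. Assume the total
right derived functor RF : D(O_X) ⥤ D(Ab) exists. If E ∈ D(O_X) has quasi-coherent cohomology
sheaves and Hⁱ(E) = 0 for i ∉ [a, b], then Hⁱ(RF(E)) = 0 for i ∉ [a, b + N - 1]. -/
theorem result {X : Scheme.{u}} (F : X.Modules ⥤ AddCommGrpCat.{u}) [F.Additive]
    [PreservesLimitsOfShape (Discrete ℕ) F] [HasInjectiveResolutions X.Modules] (N : ℕ)
    (hF : ∀ G : X.Modules, Coh.IsQCoh G → ∀ p : ℕ, N ≤ p → IsZero ((F.rightDerived p).obj G))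
    [(F.mapHomotopyCategory (ComplexShape.up ℤ) ⋙ DerivedCategory.Qh).HasRightDerivedFunctor (HomotopyCategory.quasiIso X.Modules (ComplexShape.up ℤ))]
    (E : DCoh.D X) (hE : DCoh.IsQCohD E) (a b : ℤ) (hab : ∀ i : ℤ, i < a ∨ b < i → IsZero (DCoh.HD E i))
    (i : ℤ) (hi : i < a ∨ b + N - 1 < i) :
    IsZero ((DerivedCategory.homologyFunctor AddCommGrpCat.{u} i).obj
      (((F.mapHomotopyCategory (ComplexShape.up ℤ) ⋙ DerivedCategory.Qh).totalRightDerived DerivedCategory.Qh
        (HomotopyCategory.quasiIso X.Modules (ComplexShape.up ℤ))).obj E)) := by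
  haveI : HasExt.{u + 1} AddCommGrpCat.{u} := HasExt.standard _
  haveI : IsGrothendieckAbelian.{u} X.Modules :=
    Groth.Agent.CohFound.isGrothendieckAbelian_sheafOfModules X.ringCatSheaf
  let α := (F.mapHomotopyCategory (ComplexShape.up ℤ) ⋙ DerivedCategory.Qh).totalRightDerivedUnit DerivedCategory.Qh
    (HomotopyCategory.quasiIso X.Modules (ComplexShape.up ℤ))
  have hq : ∀ {M N : X.Modules}, (M ≅ N) → Coh.IsQCoh M → Coh.IsQCoh N :=
    fun e h => (SheafOfModules.isQuasicoherent X.ringCatSheaf).prop_of_iso e h
  rcases le_or_gt a b with h | h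
  · haveI hge : E.IsGE a := (DerivedCategory.isGE_iff E a).2 fun j hj => hab j (Or.inl hj)
    exact Groth.Agent.RFBd9.isZero_bdd α Groth.Agent.KInjLib.enoughKInj_of_grothendieck (P := fun M => Coh.IsQCoh M)
      hq N hF i (b - a + 1).toNat a E hge ((DerivedCategory.isLE_iff E _).2 fun j hj => hab j (by omega))
      (fun q => hE q) (by omega)
  · exact Groth.Agent.RFBd9.isZero_bdd α Groth.Agent.KInjLib.enoughKInj_of_grothendieck (P := fun M => Coh.IsQCoh M)
      hq N hF i 0 (i + 1) E ((DerivedCategory.isGE_iff E _).2 fun j _ => hab j (by omega))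
      ((DerivedCategory.isLE_iff E _).2 fun j _ => hab j (by omega)) (fun q => hE q) (Or.inl (by omega))

end Groth.Agent.S7254
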