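import Groth.Statements.S7255
import Groth.Agent.Lib.DQBd9.Main

set_option autoImplicit false
set_option linter.style.haveILetI false
set_option backward.isDefEq.respectTransparency false
universe u
open CategoryTheory CategoryTheory.Limits AlgebraicGeometry
attribute [local instance] HasDerivedCategory.standard
open Perf

namespace Groth.Agent.S7255

/-- Let X be a quasi-compact and quasi-separated scheme and let DQ_X be the (chosen) right adjoint of
the inclusion D_QCoh(O_X) ⥤ D(O_X). Assuming the derived global sections functors RΓ(U, -) exist on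
D(O_U) for the opens U of X, there is an integer N = N(X) ≥ 0 with the following property: if K ∈
D(O_X) satisfies Hⁱ(U, K|_U) = 0 for every affine open U ⊆ X and every i ∉ [a, b], then the
cohomology sheaves Hⁱ(DQ_X(K)) are zero for i ∉ [a, b + N]. -/
theorem result (X : Scheme.{u}) [CompactSpace ↥X] [QuasiSeparatedSpace ↥X]
    [(ObjectProperty.ι (DCoh.IsQCohD (X := X))).IsLeftAdjoint] [∀ U : X.Opens, DCoh.HasRΓ (U : Scheme.{u})] :
    ∃ N : ℕ, ∀ (K : DCoh.D X) (a b : ℤ),
      (∀ U : X.Opens, IsAffineOpen U → ∀ i : ℤ, (i < a ∨ b < i) →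
        IsZero ((DerivedCategory.homologyFunctor AddCommGrpCat.{u} i).obj
          ((DCoh.RΓ (U : Scheme.{u})).obj ((DCoh.restrictD U.ι).obj K)))) →
      ∀ i : ℤ, (i < a ∨ b + (N : ℤ) < i) →
        IsZero (DCoh.HD (((ObjectProperty.ι (DCoh.IsQCohD (X := X))).rightAdjoint.obj K).obj) i) := by
  let adj := Adjunction.ofIsLeftAdjoint (ObjectProperty.ι (DCoh.IsQCohD (X := X)))
  have hdq : ∀ M : DCoh.D X, DQBd9.IsDQ (N := (((ObjectProperty.ι (DCoh.IsQCohD (X := X))).rightAdjoint).obj M).obj)
      (adj.counit.app M) := fun M => by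
    refine ⟨ObjectProperty.FullSubcategory.property _, fun G hG => ?_⟩
    let G' : ObjectProperty.FullSubcategory (DCoh.IsQCohD (X := X)) := ⟨G, hG⟩
    have : (fun u : G ⟶ _ => u ≫ adj.counit.app M) =
        (adj.homEquiv G' M).symm ∘ ((ObjectProperty.fullyFaithfulι (DCoh.IsQCohD (X := X))).homEquiv).symm := by
      funext u
      rw [Function.comp_apply, Adjunction.homEquiv_counit]
      rfl
    refine Eq.mpr (congrArg Function.Bijective this) ?_
    exact (adj.homEquiv G' M).symm.bijective.comp (Equiv.bijective _)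
  obtain ⟨N, hN⟩ := DQBd9.bd_main X (fun M => ⟨_, _, hdq M⟩)
  refine ⟨N, fun K a b hK => ?_⟩
  obtain ⟨hGE, hLE⟩ := hN K a b (fun U hU i hi =>
    DQBd9.subsingleton_hom_of_rGamma _ i (hK U hU i hi)) _ _ (hdq K)
  exact fun i hi => hi.elim (fun h => DerivedCategory.isZero_of_isGE _ a i h)
    (fun h => DerivedCategory.isZero_of_isLE _ (b + N) i h)

end Groth.Agent.S7255
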