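import Groth.Statements.S7256
import Groth.Agent.Lib.RelPCS8.TorTensor

set_option autoImplicit false
universe u
open CategoryTheory CategoryTheory.Limits AlgebraicGeometry
attribute [local instance] HasDerivedCategory.standard
open Perf

namespace Groth.Agent.S7256

open Groth.Agent Groth.Agent.RelPCS8
set_option backward.isDefEq.respectTransparency false


/-- Let S be a Noetherian scheme, f : X ⟶ S locally of finite type and E ∈ D(O_X), represented by a
cochain complex F, such that (1) E is bounded with coherent cohomology sheaves, (2) the support of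
every Hⁱ(E) is proper over S, and (3) viewed in D(f⁻¹O_S), the object E is of finite tor dimension
(stalkwise form: there is one interval [a, b] such that at every point of X the complex of stalks of
F has tor amplitude in [a, b] over the local ring of S). Assuming Rf_* exists, Rf_*E is a perfect
object of D(O_S). -/
theorem result {X S : Scheme.{u}} [IsNoetherian S]
    (f : X ⟶ S) [LocallyOfFiniteType f] [DCoh.HasRpush f] (F : CochainComplex X.Modules ℤ)
    (hcoh : DCoh.IsCohD (DCoh.toD X F)) (hbdd : ∃ a b : ℤ, ∀ i : ℤ, (i < a ∨ b < i) → IsZero (DCoh.HD (DCoh.toD X F) i))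
    (hsupp : ∀ i : ℤ, ClSub.IsProperOver f (CohB1.support (DCoh.HD (DCoh.toD X F) i)))
    (htor : DerSch.HasFiniteTorAmplitude f F) :
    DCoh.IsPerfect ((DCoh.Rpush f).obj (DCoh.toD X F)) := by
  obtain ⟨a, b, hz⟩ := hbdd
  obtain ⟨a', b', ht⟩ := htor
  haveI : (DCoh.toD X F).IsGE a := (DerivedCategory.isGE_iff _ a).2 fun i hi => hz i (Or.inl hi)
  haveI : (DCoh.toD X F).IsLE b := (DerivedCategory.isLE_iff _ b).2 fun i hi => hz i (Or.inr hi)
  refine TorTensor.isPerfect_rpush_of_support f (DCoh.toD X F) hcoh
    (⋃ i : ↥(Finset.Icc a b), CohB1.support (DCoh.HD (DCoh.toD X F) i.1))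
    (ClSub24.isProperOver_iUnion f _ fun i => hsupp i.1) ?_ (fun x => ⟨⊤, a', b', trivial, fun x' _ => ?_⟩) a b
  · intro i x hx
    by_cases h : i ∈ Finset.Icc a b
    · exact Set.mem_iUnion.2 ⟨⟨i, h⟩, hx⟩
    · exfalso
      rw [Finset.mem_Icc] at h
      have h0 := (DerSch.stalkFunctor X x).map_isZero (hz i (by omega))
      exact hx (show Subsingleton _ from ModuleCat.subsingleton_of_isZero h0)
  · exact StalkTor.hasTorAmplitudeIn_congr
      (((DerSch.stalkOver f x').mapDerivedCategoryFactors.app F).symm) (ht x')


end Groth.Agent.S7256
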