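import Groth.Statements.S7258
import Groth.Agent.S1110
import Groth.Agent.Lib.DeligneExt9.Res
import Groth.Agent.Lib.ModDesc13.Basic
import Groth.Agent.Lib.ModLimH13.LocFree
import Groth.Agent.Lib.QcOpenIdeal19
import Groth.Agent.Lib.ConormalBC19.Basic
-- import your own Groth.Agent.* helpers here

set_option autoImplicit false
set_option maxHeartbeats 1600000
set_option backward.isDefEq.respectTransparency false
universe u
open CategoryTheory AlgebraicGeometry
open Perf

namespace Groth.Agent.S7258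

open ModLimH13

theorem isFT_idealMod' {S : Scheme.{u}} {J : S.IdealSheafData} (h : BlowUp.IsFiniteTypeIdeal J) :
    CohB1.IsFT (ClSub.idealMod J) := by
  refine M1.isFT_of_finite_sections (M2.isQCoh_idealMod J) fun U hU => ?_
  let ι : Γ(ClSub.idealMod J, U) →ₗ[Γ(S, U)] Γ(S, U) :=
    { toFun := M2.idealIncl J
      map_add' := M2.idealIncl_add J
      map_smul' := fun r a => M2.idealIncl_smul J r a }
  have hι : LinearMap.range ι = (J.ideal ⟨U, hU⟩ : Submodule Γ(S, U) Γ(S, U)) :=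
    SetLike.coe_injective (M2.range_idealIncl J ⟨U, hU⟩)
  haveI : Module.Finite Γ(S, U) (LinearMap.range ι) := by
    rw [hι]
    exact Module.Finite.iff_fg.2 (h ⟨U, hU⟩)
  exact Module.Finite.equiv (LinearEquiv.ofInjective ι (M2.idealIncl_injective J U)).symm

variable {I : Type u} [SmallCategory I] [IsCofiltered I] {D : I ⥤ Scheme.{u}} {c : Limits.Cone D}
  (hc : Limits.IsLimit c) [∀ (i j : I) (a : i ⟶ j), IsAffineHom (D.map a)]

include hc in
/-- A map that is epi on the limit is epi at a later stage. -/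
theorem exists_epi {k : I} [CompactSpace (D.obj k)] {F G : (D.obj k).Modules} (hFq : Coh.IsQCoh F)
    (hGq : Coh.IsQCoh G) (hG : CohB1.IsFT G) (f : F ⟶ G)
    (h : Epi ((Scheme.Modules.pullback (c.π.app k)).map f)) :
    ∃ (l : I) (α : l ⟶ k), Epi ((Scheme.Modules.pullback (D.map α)).map f) := by
  have hCq : Coh.IsQCoh (Limits.cokernel f) := M1.isQCoh_cokernel hFq hGq f
  haveI := hGq
  haveI := hCq
  obtain ⟨l, α, hl⟩ := exists_map_eq hc hG (Limits.cokernel.π f) 0 ((epi_map_iff _ f).1 h)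
  exact ⟨l, α, (epi_map_iff _ f).2 hl⟩

include hc in
/-- A finite locally free cover of a pulled back module comes from a stage. -/
theorem exists_stage_cover {i₀ : I} [∀ i, CompactSpace (D.obj i)] [∀ i, QuasiSeparatedSpace (D.obj i)]
    (N : (D.obj i₀).Modules) (hNq : Coh.IsQCoh N) (hN : CohB1.IsFT N)
    (E : c.pt.Modules) (hE : FlatMod.IsFinLocFree E)
    (π : E ⟶ (Scheme.Modules.pullback (c.π.app i₀)).obj N) [Epi π] :
    ∃ (l : I) (α : l ⟶ i₀) (F : (D.obj l).Modules) (σ : F ⟶ (Scheme.Modules.pullback (D.map α)).obj N),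
      FlatMod.IsFinLocFree F ∧ Epi σ := by
  haveI : Coh.IsQCoh E := M2.isQCoh_of_isFinLocFree hE
  obtain ⟨k, φ, F₁, hF₁q, hF₁, ⟨e⟩⟩ := ModDesc13.exists_module_descend hc (i₀ := i₀) E
    (M1.isFP_of_isFinLocFree hE)
  haveI := hF₁q
  obtain ⟨k', ψ, hF₂⟩ := (isFinLocFree_iff_eventually hc hF₁).1 (M2.isFinLocFree_of_iso e.symm hE)
  let F₂ := (Scheme.Modules.pullback (D.map ψ)).obj F₁
  haveI : Coh.IsQCoh F₂ := M2.isQCoh_of_isFinLocFree hF₂
  let N₂ := (Scheme.Modules.pullback (D.map (ψ ≫ φ))).obj N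
  haveI : Coh.IsQCoh N₂ := M1.isQCoh_pullback _ hNq
  let e₂ : (Scheme.Modules.pullback (c.π.app k')).obj F₂ ≅ E :=
    (cmp (c.π.app k') (D.map ψ) (c.w ψ)).app F₁ ≪≫ e
  let h : (Scheme.Modules.pullback (c.π.app k')).obj F₂ ⟶ (Scheme.Modules.pullback (c.π.app k')).obj N₂ :=
    e₂.hom ≫ π ≫ ((cmp (c.π.app k') (D.map (ψ ≫ φ)) (c.w (ψ ≫ φ))).app N).inv
  haveI : Epi h := inferInstanceAs (Epi (e₂.hom ≫ π ≫
    ((cmp (c.π.app k') (D.map (ψ ≫ φ)) (c.w (ψ ≫ φ))).app N).inv))
  obtain ⟨m, γ, hm, hmeq⟩ := exists_hom_descend hc h (M1.isFP_of_isFinLocFree hF₂)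
  have hep : Epi ((Scheme.Modules.pullback (c.π.app m)).map hm) := by
    have e1 : (Scheme.Modules.pullback (c.π.app m)).map hm =
        ((cmp (c.π.app m) (D.map γ) (c.w γ)).app F₂).hom ≫ h ≫
          ((cmp (c.π.app m) (D.map γ) (c.w γ)).app N₂).inv := by
      rw [← hmeq]
      simp
    rw [e1]
    exact @epi_comp _ _ _ _ _ _ inferInstance _ (@epi_comp _ _ _ _ _ _ inferInstance _ inferInstance)
  obtain ⟨l, δ, hl⟩ := exists_epi hc (M1.isQCoh_pullback _ (M := F₂) inferInstance)
    (M1.isQCoh_pullback _ (M := N₂) inferInstance) (M1.isFT_pullback _ (M1.isFT_pullback _ hN)) hm hep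
  refine ⟨l, δ ≫ γ ≫ ψ ≫ φ, _, (Scheme.Modules.pullback (D.map δ)).map hm ≫
    ((cmp (D.map δ) (D.map γ) (D.map_comp δ γ).symm).app N₂).hom ≫
    ((cmp (D.map (δ ≫ γ)) (D.map (ψ ≫ φ)) (show D.map (δ ≫ γ) ≫ D.map (ψ ≫ φ) = D.map (δ ≫ γ ≫ ψ ≫ φ) by
      rw [← D.map_comp, Category.assoc])).app N).hom,
    M2.isFinLocFree_pullback _ (M2.isFinLocFree_pullback _ hF₂), ?_⟩
  exact @epi_comp _ _ _ _ _ _ hl _ (@epi_comp _ _ _ _ _ _ inferInstance _ inferInstance)

/-- Let X = lim X_i, where the X_i form a cofiltered diagram of quasi-compact, quasi-separated schemes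
and every transition map X_i → X_j is affine. The resolution property (every quasi-coherent
O_X-module of finite type is a quotient of a finite locally free O_X-module) holds for X if and only
if X_i has the resolution property for some index i. -/
theorem result {I : Type u} [SmallCategory I] [IsCofiltered I]
    (D : I ⥤ Scheme.{u}) (c : Limits.Cone D) (hc : Limits.IsLimit c)
    [∀ (i j : I) (a : i ⟶ j), IsAffineHom (D.map a)] [∀ i, CompactSpace ↥(D.obj i)]
    [∀ i, QuasiSeparatedSpace ↥(D.obj i)] :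
    PerfAux.HasResolutionProperty c.pt ↔ ∃ i : I, PerfAux.HasResolutionProperty (D.obj i) := by
  constructor
  · intro hX
    classical
    obtain ⟨i₀⟩ := IsCofiltered.nonempty (C := I)
    obtain ⟨Us, -, hUs⟩ := exists_finset_affine_cover (⊤ : (D.obj i₀).Opens) isCompact_univ
    let U : Fin Us.card → (D.obj i₀).Opens := fun j => (Us.equivFin.symm j).1.1
    have hU : ∀ j, IsAffineOpen (U j) := fun j => (Us.equivFin.symm j).1.2
    choose J hJ hJs using fun j => QcOpenIdeal19.exists_support_eq_compl (D.obj i₀) (U j) (hU j).isCompact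
    have hJft : ∀ j, CohB1.IsFT (ClSub.idealMod (J j)) := fun j => isFT_idealMod' (hJ j)
    have hstage : ∀ j, ∃ (l : I) (α : l ⟶ i₀) (F : (D.obj l).Modules)
        (σ : F ⟶ (Scheme.Modules.pullback (D.map α)).obj (ClSub.idealMod (J j))),
        FlatMod.IsFinLocFree F ∧ Epi σ := fun j => by
      obtain ⟨E, π, hE, hπ⟩ := hX ((Scheme.Modules.pullback (c.π.app i₀)).obj (ClSub.idealMod (J j)))
        (M1.isQCoh_pullback _ (M2.isQCoh_idealMod _)) (M1.isFT_pullback _ (hJft j))
      haveI := hπ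
      exact exists_stage_cover hc _ (M2.isQCoh_idealMod _) (hJft j) E hE π
    obtain ⟨l, β, hl⟩ := exists_common (j := i₀) (Finset.univ : Finset (Fin Us.card))
      (fun j k α => ∃ (F : (D.obj k).Modules)
        (σ : F ⟶ (Scheme.Modules.pullback (D.map α)).obj (ClSub.idealMod (J j))),
        FlatMod.IsFinLocFree F ∧ Epi σ)
      (fun j k k' α β ⟨F, σ, hF, hσ⟩ => by
        haveI := hσ
        haveI := (Scheme.Modules.pullbackPushforwardAdjunction (D.map β)).leftAdjoint_preservesColimits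
        exact ⟨_, (Scheme.Modules.pullback (D.map β)).map σ ≫
          ((cmp (D.map β) (D.map α) (D.map_comp β α).symm).app (ClSub.idealMod (J j))).hom,
          M2.isFinLocFree_pullback _ hF, @epi_comp _ _ _ _ _ _ inferInstance _ inferInstance⟩)
      (fun j _ => hstage j)
    refine ⟨l, DeligneExt9.hasResolutionProperty_of_boundary (fun j => D.map β ⁻¹ᵁ U j)
      (fun j => (hU j).preimage _) ?_ (fun j => (J j).comap (D.map β))
      (fun j => isFT_idealMod' (EffCartier.isFiniteTypeIdeal_comap (hJ j) _)) (fun j => ?_) fun j => ?_⟩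
    · refine top_le_iff.1 fun x _ => ?_
      obtain ⟨W, hW, hxW⟩ := hUs ((D.map β) x) trivial
      refine TopologicalSpace.Opens.mem_iSup.2 ⟨Us.equivFin ⟨W, hW⟩, ?_⟩
      change (D.map β) x ∈ (Us.equivFin.symm (Us.equivFin ⟨W, hW⟩)).1.1
      rw [Equiv.symm_apply_apply]
      exact hxW
    · rw [Scheme.IdealSheafData.support_comap, TopologicalSpace.Closeds.coe_preimage, hJs j,
        Set.preimage_compl]
      rfl
    · obtain ⟨F, σ, hF, hσ⟩ := hl j (Finset.mem_univ j)
      haveI := hσ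
      haveI := ConormalBC19.epi_psi (D.map β) (J j) ((J j).comap (D.map β)) ((J j).le_map_comap _) fun x => by
        obtain ⟨W, hW, hxW, -⟩ :=
          exists_isAffineOpen_mem_and_subset (U := (⊤ : (D.obj i₀).Opens)) (x := D.map β x) trivial
        exact ⟨⟨W, hW⟩, hxW, fun V e => (EffCartier.comap_ideal (J j) (D.map β) ⟨W, hW⟩ V e).le⟩
      exact ⟨F, σ ≫ ConormalBC19.psi (D.map β) (J j) ((J j).comap (D.map β)) ((J j).le_map_comap _), hF,
        inferInstance⟩
  · rintro ⟨i, hi⟩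
    haveI := AlgebraicGeometry.isAffineHom_π_app D c hc i
    exact S1110.result (c.π.app i) hi

end Groth.Agent.S7258
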