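import Groth.Statements.S7264
import Groth.Agent.Lib.DGen9.RelLocal
import Groth.Agent.Lib.DBC9.Good

set_option autoImplicit false
set_option linter.style.haveILetI false
set_option backward.isDefEq.respectTransparency false
universe u
open CategoryTheory CategoryTheory.Limits AlgebraicGeometry
attribute [local instance] HasDerivedCategory.standard
open Perf

namespace Groth.Agent.S7264

/-- (1) ⇔ (2) in the affine case to which the proof reduces: let R → A be flat and of finite
presentation, f : X = Spec A ⟶ S = Spec R, M ∈ D(A) and E = M~ ∈ D(O_X) (tilde recorded as exact),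
so that RΓ(X, E) = M. Then E is S-perfect (pseudo-coherent, and locally on X represented by a
bounded complex of O_X-modules flat over S) if and only if M is R-perfect (pseudo-coherent as a
complex of A-modules and of finite tor dimension as a complex of R-modules). -/
theorem result (R A : Type u) [CommRing R] [CommRing A] [Algebra R A]
    [Module.Flat R A] [Algebra.FinitePresentation R A]
    [PreservesFiniteLimits (tilde.functor (CommRingCat.of A))] (M : Dual.D A) :
    ((∀ m : ℤ, DCoh.IsPseudoCoherentD m ((DCoh.tildeD (CommRingCat.of A)).obj M)) ∧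
      DCoh.LocHasFiniteRelTorDim (Spec.map (CommRingCat.ofHom (algebraMap R A))) ((DCoh.tildeD (CommRingCat.of A)).obj M)) ↔
    Dual2.IsRelPerfect R A M := by
  let A' := CommRingCat.of A
  let φ : CommRingCat.of R ⟶ A' := CommRingCat.ofHom (algebraMap R A)
  let i := 𝟙 (Spec (CommRingCat.of R))
  let j := 𝟙 (Spec A')
  let K := (DCoh.tildeD A').obj M
  let eM : (Groth.Agent.DPerf.tildeDD A').obj M ≅ (Groth.Agent.DPerf.resD j).obj K :=
    ((Groth.Agent.DBC9.lPId _).app K).symm ≪≫ (Groth.Agent.DMon9.lPRes j).app K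
  have w : j ≫ Spec.map φ = Spec.map φ ≫ i := by rw [Category.id_comp, Category.comp_id]
  have hφ : φ.hom.Flat := RingHom.flat_algebraMap_iff.2 inferInstance
  refine ⟨fun h => ⟨(Groth.Agent.DMod.pc'_iff M).2 fun m => (Groth.Agent.DPerf.pc_tilde_iff (R := A') m M).1 (h.1 m), ?_⟩, fun h => ?_⟩
  · exact Groth.Agent.RelT.exists_torAmp_of_loc (Spec.map φ) i j φ w h.2 M eM
  · obtain ⟨hp, a, b, hab⟩ := h
    refine ⟨fun m => (Groth.Agent.DPerf.pc_tilde_iff (R := A') m M).2 ((Groth.Agent.DMod.pc'_iff M).1 hp m), fun x => ?_⟩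
    exact ⟨j.opensRange, a, b, ⟨x, rfl⟩, fun F' ⟨eF⟩ =>
      Groth.Agent.RelT.hasRel_of_torAmp (Spec.map φ) i j φ hφ w M eM hab F' eF⟩

end Groth.Agent.S7264
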