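import Groth.Statements.S7266
import Groth.Agent.Lib.DGen9.Step
import Groth.Agent.Lib.DGen9.FromOpen

set_option autoImplicit false
set_option linter.style.haveILetI false
set_option backward.isDefEq.respectTransparency false
universe u
open CategoryTheory CategoryTheory.Limits AlgebraicGeometry
attribute [local instance] HasDerivedCategory.standard
open Perf

namespace Groth.Agent.S7266

/-- Let X be a scheme written as X = U ∪ V with U, V open, where V is affine and both U and the
intersection U ∩ V are quasi-compact. Suppose approximation by perfect complexes is valid on U; it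
is then also valid on X. Here 'approximation by perfect complexes holds on Y' means: for every
closed T ⊆ Y with retrocompact complement there is an integer r such that for every m ∈ ℤ and every
(m - r)-pseudo-coherent E ∈ D(O_Y) with quasi-coherent cohomology sheaves and Hⁱ(E) supported on T
for i ≥ m - r, there are a perfect P ∈ D(O_Y) supported on T and P ⟶ E inducing isomorphisms on Hⁱ
for i > m and a surjection on Hᵐ. -/
theorem result {X : Scheme.{u}} (U V : X.Opens)
    (hU : IsCompact (U : Set ↥X)) (hV : IsAffineOpen V) (hUV : IsCompact ((U ⊓ V : X.Opens) : Set ↥X)) (hcov : U ⊔ V = ⊤)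
    (hAU : (∀ (T : Set ↥(U : Scheme.{u})), IsClosed T → IsRetrocompact Tᶜ → ∃ r : ℤ, ∀ (m : ℤ) (E : DCoh.D (U : Scheme.{u})), DCoh.IsQCohD E →
        DCoh.IsPseudoCoherentD (m - r) E → (∀ i : ℤ, m - r ≤ i → CohB1.support (DCoh.HD E i) ⊆ T) →
        ∃ (P : DCoh.D (U : Scheme.{u})) (α : P ⟶ E), DCoh.IsPerfect P ∧ (∀ i : ℤ, CohB1.support (DCoh.HD P i) ⊆ T) ∧
          (∀ i : ℤ, m < i → IsIso ((DerivedCategory.homologyFunctor _ i).map α)) ∧
          Epi ((DerivedCategory.homologyFunctor _ m).map α))) :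
    (∀ (T : Set ↥X), IsClosed T → IsRetrocompact Tᶜ → ∃ r : ℤ, ∀ (m : ℤ) (E : DCoh.D X), DCoh.IsQCohD E →
        DCoh.IsPseudoCoherentD (m - r) E → (∀ i : ℤ, m - r ≤ i → CohB1.support (DCoh.HD E i) ⊆ T) →
        ∃ (P : DCoh.D X) (α : P ⟶ E), DCoh.IsPerfect P ∧ (∀ i : ℤ, CohB1.support (DCoh.HD P i) ⊆ T) ∧
          (∀ i : ℤ, m < i → IsIso ((DerivedCategory.homologyFunctor _ i).map α)) ∧
          Epi ((DerivedCategory.homologyFunctor _ m).map α)) := by
  haveI : CompactSpace U := isCompact_iff_compactSpace.1 hU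
  haveI := DGen9.quasiCompact_ι_of_cover hV hcov hUV
  intro T hT hTr
  obtain ⟨r₀, hr₀⟩ := hAU (U.ι ⁻¹' T) (hT.preimage U.ι.continuous) (by
    intro W hW hWo
    refine U.ι.isOpenEmbedding.isInducing.isCompact_iff.2 ?_
    rw [← Set.preimage_compl, Set.image_preimage_inter]
    exact hTr (hW.image U.ι.continuous) (U.ι.isOpenEmbedding.isOpenMap _ hWo))
  have hUVc : IsCompact (V.ι ⁻¹' (U : Set X)) := by
    refine V.ι.isOpenEmbedding.isInducing.isCompact_iff.2 ?_
    rwa [Set.image_preimage_eq_inter_range, show Set.range V.ι = (V : Set X) from Scheme.Opens.range_ι V]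
  have hTV : IsCompact (V.ι ⁻¹' T)ᶜ := by
    refine V.ι.isOpenEmbedding.isInducing.isCompact_iff.2 ?_
    rw [← Set.preimage_compl, Set.image_preimage_eq_inter_range,
      show Set.range V.ι = (V : Set X) from Scheme.Opens.range_ι V]
    exact hTr hV.isCompact V.2
  obtain ⟨r, hr⟩ := DGen9.approx_step hUVc hV hcov hT hTV ⟨r₀, fun m E hE hpc hs => by
    obtain ⟨P, α, hP, hPT, h₁, h₂⟩ := hr₀ m E hE hpc hs
    exact ⟨P, α, hP, hPT, DGen9.approxMap_of_isIso_epi h₁ h₂⟩⟩
  refine ⟨r, fun m E hE hpc hs => ?_⟩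
  obtain ⟨P, α, hP, hPT, hα⟩ := hr m E hE hpc hs
  exact ⟨P, α, hP, hPT, fun i hi => hα.isIso_map i hi, (hα m le_rfl).1⟩

end Groth.Agent.S7266
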