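import Groth.Statements.S7267
import Groth.Agent.Lib.RgZ9.Scheme

set_option autoImplicit false
set_option linter.style.haveILetI false
set_option backward.isDefEq.respectTransparency false
universe u
open CategoryTheory CategoryTheory.Limits AlgebraicGeometry
attribute [local instance] HasDerivedCategory.standard
open Perf

namespace Groth.Agent.S7267

/-- Let A be a ring, f_1, …, f_c ∈ A, M an A-module, X = Spec A, Z = V(f_1, …, f_c) and U = X ∖ Z.
Assume the unbounded right derived functor RΓ_Z of the sheaf of sections with support in Z exists
(tilde recorded as exact). Then the complex of quasi-coherent O_X-modules associated with the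
extended alternating Čech complex M ⟶ ⊕ M_{f_{i₀}} ⟶ ⊕ M_{f_{i₀}f_{i₁}} ⟶ … ⟶ M_{f_1⋯f_c} represents
RΓ_Z(M~) in D(O_X). (Existence of an isomorphism only; the extended alternating Čech complex is the
iterated mapping-cocone model, whose terms are isomorphic to the displayed sums of localisations.) -/
theorem result (A : Type u) [CommRing A] (fs : List A) (M : ModuleCat.{u} A)
    [PreservesFiniteLimits (tilde.functor (CommRingCat.of A))]
    [CxOX.HasRgammaZ (LocCoh.puncturedOpen A (Ideal.span {a | a ∈ fs})).ι] :
    Nonempty ((DCoh.tildeD (CommRingCat.of A)).obj (DRing.toD (DerCA.extCech M fs)) ≅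
      (CxOX.RgammaZ (LocCoh.puncturedOpen A (Ideal.span {a | a ∈ fs})).ι).obj
        ((DCoh.tildeD (CommRingCat.of A)).obj (Dual.inD A M))) := by
  exact Groth.Agent.RgZ9.nonempty_cech_iso fs M

end Groth.Agent.S7267
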