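import Groth.Statements.S7275
import Groth.Agent.Lib.DGen9.RelFlatFP
import Groth.Agent.Lib.RelPCS8.Chart

set_option autoImplicit false
set_option linter.style.haveILetI false
set_option backward.isDefEq.respectTransparency false
universe u
open CategoryTheory CategoryTheory.Limits AlgebraicGeometry
attribute [local instance] HasDerivedCategory.standard
open Perf

namespace Groth.Agent.S7275

/-- Let f : X ⟶ S be flat and locally of finite presentation and E ∈ D(O_X). Then E is S-perfect
(pseudo-coherent, and locally on X represented by a bounded complex of O_X-modules flat over S) if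
and only if E satisfies the alternative definition of relative perfectness: locally on X, E becomes
isomorphic in the derived category to a bounded complex whose terms are O_X-modules of finite
presentation that are S-flat (every point has an open neighbourhood V such that the restriction to V
of any representing complex is isomorphic in D(O_V) to such a complex). -/
theorem result {X S : Scheme.{u}} (f : X ⟶ S)
    [Flat f] [LocallyOfFinitePresentation f] (E : DCoh.D X) :
    ((∀ m : ℤ, DCoh.IsPseudoCoherentD m E) ∧ DCoh.LocHasFiniteRelTorDim f E) ↔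
      ∀ x : X, ∃ V : X.Opens, x ∈ V ∧ ∀ F : CochainComplex X.Modules ℤ, Nonempty (DCoh.toD X F ≅ E) →
        ∃ (G : CochainComplex (V : Scheme.{u}).Modules ℤ) (a b : ℤ), DCoh.VanishesOutside G a b ∧
          (∀ i : ℤ, CohB1.IsFP (G.X i) ∧ FlatMod.IsFlatOver (V.ι ≫ f) (G.X i)) ∧
          Nonempty (DerivedCategory.Q.obj ((DCoh.restrictCx V).obj F) ≅ DerivedCategory.Q.obj G) := by
  constructor
  · intro hE x
    obtain ⟨R, A, i, hi, j, hj, φ, hx, w, hφ⟩ := Groth.Agent.RelT.exists_chart f x
    exact ⟨j.opensRange, hx, fun F ⟨eF⟩ =>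
      Groth.Agent.RelT.exists_fp_flat_model f i j φ (hφ inferInstance) w hE F eF⟩
  · intro h
    let F₀ := DerivedCategory.Q.objPreimage E
    let e₀ : DCoh.toD X F₀ ≅ E := DerivedCategory.Q.objObjPreimageIso E
    refine ⟨fun m => Groth.Agent.DPerf.isPseudoCoherentD_of_approx (Groth.Agent.RelPCS8.approx_of_cover fun x => ?_),
      fun x => ?_⟩
    · obtain ⟨V, hxV, hV⟩ := h x
      obtain ⟨G, a, b, hv, hG, ⟨e⟩⟩ := hV F₀ ⟨e₀⟩
      exact ⟨_, V.ι, inferInstance, by rw [Scheme.Opens.range_ι]; exact hxV,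
        (Groth.Agent.RelT.approx_of_fp_flat_complex (V.ι ≫ f) G a b hv hG m).of_iso
          (e.symm ≪≫ ((Groth.Agent.DPerf.resFac V.ι).app F₀).symm ≪≫ (Groth.Agent.DPerf.resD V.ι).mapIso e₀)⟩
    · obtain ⟨V, hxV, hV⟩ := h x
      obtain ⟨G, a, b, hv, hG, ⟨e⟩⟩ := hV F₀ ⟨e₀⟩
      exact ⟨V, a, b, hxV, fun F' ⟨e'⟩ => ⟨G, hv, fun i => (hG i).2, ⟨e.symm ≪≫
        ((Groth.Agent.DPerf.resFac V.ι).app F₀).symm ≪≫ (Groth.Agent.DPerf.resD V.ι).mapIso (e₀ ≪≫ e'.symm) ≪≫
        (Groth.Agent.DPerf.resFac V.ι).app F'⟩⟩⟩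

end Groth.Agent.S7275
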