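import Groth.Statements.S7278
import Groth.Agent.Lib.DGen9.RelLocal

set_option autoImplicit false
set_option linter.style.haveILetI false
set_option backward.isDefEq.respectTransparency false
universe u
open CategoryTheory CategoryTheory.Limits AlgebraicGeometry Opposite
attribute [local instance] HasDerivedCategory.standard
open Perf

namespace Groth.Agent.S7278

/-- Let f : X ⟶ S be flat and locally of finite presentation and E an object of D(O_X) with
quasi-coherent cohomology sheaves (tilde recorded as exact). For affine opens U ⊆ X and V ⊆ S with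
f(U) ⊆ V, say that E is algebraically perfect on U over V when every M ∈ D(Γ(U, O_X)) whose
associated object M~ on Spec Γ(U, O_X) is isomorphic to the restriction E|_U (transported along U ≅
Spec Γ(U, O_X)) is Γ(V, O_S)-perfect: pseudo-coherent as a complex of Γ(U, O_X)-modules and of
finite tor dimension over Γ(V, O_S) through f^♯ (such M exist and are unique up to isomorphism,
namely RΓ(U, E)). Then: E is S-perfect (pseudo-coherent, and locally on X represented by a bounded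
complex of O_X-modules flat over S) if and only if E is algebraically perfect on every affine open U
over every affine open V with U ⊆ f⁻¹V; and E is S-perfect as soon as this holds for the members
U_ij of affine open coverings f⁻¹V_i = ⋃ U_ij attached to an affine open covering S = ⋃ V_i. -/
theorem result {X S : Scheme.{u}} (f : X ⟶ S) [Flat f] [LocallyOfFinitePresentation f]
    [∀ R : CommRingCat.{u}, PreservesFiniteLimits (tilde.functor R)]
    (E : DCoh.D X) (hE : DCoh.IsQCohD E) :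
    (((∀ m : ℤ, DCoh.IsPseudoCoherentD m E) ∧ DCoh.LocHasFiniteRelTorDim f E) ↔
      ∀ (U : X.Opens) (hU : IsAffineOpen U) (V : S.Opens) (hV : IsAffineOpen V) (hUV : U ≤ f ⁻¹ᵁ V)
        (M : DerivedCategory (ModuleCat.{u} Γ(X, U))),
        Nonempty ((DCoh.restrictD hU.isoSpec.inv).obj ((DCoh.restrictD U.ι).obj E) ≅ (DCoh.tildeD Γ(X, U)).obj M) →
          @Dual2.IsRelPerfect Γ(S, V) Γ(X, U) _ _ (f.appLE V U hUV).hom.toAlgebra M) ∧
    (∀ (ι : Type u) (V : ι → S.Opens) (hV : ∀ i, IsAffineOpen (V i)) (hVcov : ⨆ i, V i = ⊤)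
        (κ : ι → Type u) (U : ∀ i, κ i → X.Opens) (hU : ∀ i j, IsAffineOpen (U i j))
        (hUV : ∀ i j, U i j ≤ f ⁻¹ᵁ V i) (hUcov : ∀ i, ⨆ j, U i j = f ⁻¹ᵁ V i),
        (∀ (i : ι) (j : κ i) (M : DerivedCategory (ModuleCat.{u} Γ(X, U i j))),
          Nonempty ((DCoh.restrictD (hU i j).isoSpec.inv).obj ((DCoh.restrictD (U i j).ι).obj E) ≅
              (DCoh.tildeD Γ(X, U i j)).obj M) →
            @Dual2.IsRelPerfect Γ(S, V i) Γ(X, U i j) _ _ (f.appLE (V i) (U i j) (hUV i j)).hom.toAlgebra M) →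
        (∀ m : ℤ, DCoh.IsPseudoCoherentD m E) ∧ DCoh.LocHasFiniteRelTorDim f E) := by
  have iso : ∀ {U : X.Opens} (hU : IsAffineOpen U),
      Nonempty ((DCoh.restrictD hU.isoSpec.inv).obj ((DCoh.restrictD U.ι).obj E) ≅
        (Groth.Agent.DPerf.resD hU.fromSpec).obj E) := fun {U} hU =>
    ⟨(Groth.Agent.DPerf.resDComp U.ι hU.isoSpec.inv).app E ≪≫
      (Groth.Agent.RelPCS8.resDCongr (IsAffineOpen.isoSpec_inv_ι hU)).app E⟩
  have back : ∀ (ι : Type u) (V : ι → S.Opens) (hV : ∀ i, IsAffineOpen (V i)) (hVcov : ⨆ i, V i = ⊤)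
        (κ : ι → Type u) (U : ∀ i, κ i → X.Opens) (hU : ∀ i j, IsAffineOpen (U i j))
        (hUV : ∀ i j, U i j ≤ f ⁻¹ᵁ V i) (hUcov : ∀ i, ⨆ j, U i j = f ⁻¹ᵁ V i),
        (∀ (i : ι) (j : κ i) (M : DerivedCategory (ModuleCat.{u} Γ(X, U i j))),
          Nonempty ((DCoh.restrictD (hU i j).isoSpec.inv).obj ((DCoh.restrictD (U i j).ι).obj E) ≅
              (DCoh.tildeD Γ(X, U i j)).obj M) →
            @Dual2.IsRelPerfect Γ(S, V i) Γ(X, U i j) _ _ (f.appLE (V i) (U i j) (hUV i j)).hom.toAlgebra M) →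
        (∀ m : ℤ, DCoh.IsPseudoCoherentD m E) ∧ DCoh.LocHasFiniteRelTorDim f E := by
    intro ι V hV hVcov κ U hU hUV hUcov h
    refine Groth.Agent.RelT.relPerf_of_charts f E fun x => ?_
    obtain ⟨i, hi⟩ := TopologicalSpace.Opens.mem_iSup.1 (show f x ∈ ⨆ i, V i by rw [hVcov]; trivial)
    obtain ⟨j, hj⟩ := TopologicalSpace.Opens.mem_iSup.1 (show x ∈ ⨆ j, U i j by rw [hUcov]; exact hi)
    obtain ⟨M, ⟨eM⟩⟩ := Groth.Agent.RelT.exists_chartModule (hU i j).fromSpec hE
    obtain ⟨e⟩ := iso (hU i j)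
    exact ⟨_, _, (hV i).fromSpec, inferInstance, (hU i j).fromSpec, inferInstance, f.appLE (V i) (U i j) (hUV i j), M,
      f.flat_appLE (hV i) (hU i j) (hUV i j), by rw [IsAffineOpen.opensRange_fromSpec]; exact hj,
      (IsAffineOpen.SpecMap_appLE_fromSpec f (hV i) (hU i j) (hUV i j)).symm, ⟨eM⟩, h i j M ⟨e ≪≫ eM.symm⟩⟩
  refine ⟨⟨fun hK U hU V hV hUV M ⟨eM⟩ => ?_, fun h => ?_⟩, back⟩
  · obtain ⟨e⟩ := iso hU
    exact Groth.Agent.RelT.isRelPerfect_chart f hV.fromSpec hU.fromSpec _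
      (IsAffineOpen.SpecMap_appLE_fromSpec f hV hU hUV).symm hK M (eM.symm ≪≫ e)
  · refine back S.affineOpens (fun i => i.1) (fun i => i.2) (iSup_affineOpens_eq_top S)
      (fun i => {U : X.affineOpens // U.1 ≤ f ⁻¹ᵁ i.1}) (fun i U => U.1.1) (fun i U => U.1.2) (fun i U => U.2)
      (fun i => ?_) fun i U M hM => h _ U.1.2 _ i.2 U.2 M hM
    refine le_antisymm (iSup_le fun U => U.2) fun x hx => ?_
    obtain ⟨W, hW, hxW, hWV⟩ := exists_isAffineOpen_mem_and_subset (X := X) (x := x) (U := f ⁻¹ᵁ i.1) hx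
    exact TopologicalSpace.Opens.mem_iSup.2 ⟨⟨⟨W, hW⟩, hWV⟩, hxW⟩

end Groth.Agent.S7278
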