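import Groth.Statements.S7280
import Groth.Agent.Lib.DGam9.Basic
import Groth.Agent.Lib.DGam9.Sigma
import Groth.Agent.Lib.DPush.Coprod
import Groth.Agent.Lib.DQC.Pull

set_option autoImplicit false
set_option linter.style.haveILetI false
set_option backward.isDefEq.respectTransparency false
universe u
open CategoryTheory CategoryTheory.Limits AlgebraicGeometry
attribute [local instance] HasDerivedCategory.standard
open Perf

namespace Groth.Agent.S7280

/-- Let X be a scheme, j : U ⟶ X an open immersion which is quasi-compact, and T = X ∖ U (a closed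
subset with retrocompact complement). Assuming the unbounded derived functor RΓ_T = i_* RH_T of
sections with support in T exists on D(O_X): for every family Eᵢ of objects of D_QCoh(O_X) indexed
by a small type whose direct sums ∐ Eᵢ and ∐ RΓ_T(Eᵢ) exist in D(O_X), the canonical map ∐ RΓ_T(Eᵢ)
⟶ RΓ_T(∐ Eᵢ) is an isomorphism. (The published statement is RH_T(⊕ Eᵢ) = ⊕ RH_T(Eᵢ) in D(i⁻¹O_X) for
the inclusion i : T → X; since i_* identifies D(i⁻¹O_X) with the objects of D(O_X) supported on T
and commutes with direct sums, this is the same assertion for i_* RH_T = RΓ_T.) -/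
theorem result {U X : Scheme.{u}} (j : U ⟶ X) [IsOpenImmersion j] [QuasiCompact j]
    [CxOX.HasRgammaZ j] {ι : Type u} (E : ι → DCoh.D X) (hE : ∀ i, DCoh.IsQCohD (E i)) [HasCoproduct E]
    [HasCoproduct (fun i => (CxOX.RgammaZ j).obj (E i))] :
    IsIso (Sigma.desc (fun i => (CxOX.RgammaZ j).map (Sigma.ι E i))) := by
  haveI := DBC9.hasRpush j
  obtain ⟨_, _⟩ := DPush.exists_commShift_isTriangulated j
  let G := fun i => (CxOX.RgammaZ j).obj (E i)
  let R := fun i => (DCoh.Rpush j).obj ((DPerf.resD j).obj (E i))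
  haveI : HasCoproduct R := DPush.hasCoproduct_D R
  haveI : HasCoproduct fun i => (DPerf.resD j).obj (E i) := DPush.hasCoproduct_D _
  have hT : ∀ i, ∃ (b : E i ⟶ R i) (c : R i ⟶ (G i)⟦(1 : ℤ)⟧),
      Pretriangulated.Triangle.mk ((CxOX.RgammaZToId j).app (E i)) b c ∈ Pretriangulated.distinguishedTriangles := fun i => (DGam9.exists_triangle j (E i)).2
  choose b c hbc using hT
  haveI : HasCoproduct fun i => (Pretriangulated.Triangle.mk ((CxOX.RgammaZToId j).app (E i)) (b i) (c i)).obj₁ :=
    (inferInstance : HasCoproduct fun i => (CxOX.RgammaZ j).obj (E i))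
  haveI : HasCoproduct fun i => (Pretriangulated.Triangle.mk ((CxOX.RgammaZToId j).app (E i)) (b i) (c i)).obj₂ :=
    (inferInstance : HasCoproduct E)
  haveI : HasCoproduct fun i => (Pretriangulated.Triangle.mk ((CxOX.RgammaZToId j).app (E i)) (b i) (c i)).obj₃ :=
    (inferInstance : HasCoproduct R)
  obtain ⟨b', c', hT'⟩ := DGam9.exists_sigma_triangle
    (fun i => Pretriangulated.Triangle.mk ((CxOX.RgammaZToId j).app (E i)) (b i) (c i)) hbc
  haveI := DPush.isIso_sigmaDesc j (fun i => (DPerf.resD j).obj (E i)) fun W hW m x =>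
    DPush.finFac_classes_qcoh j _ (fun i => DQC.isQCohD_resD j (hE i)) hW m x
  let e := asIso (Sigma.desc fun i => (DCoh.Rpush j).map (Sigma.ι (fun i => (DPerf.resD j).obj (E i)) i))
  refine DGam9.isIso_factor j ?_ hT' e _ ?_
  · exact DGam9.isZero_resD_sigma j G fun i => (DGam9.exists_triangle j (E i)).1
  · refine Sigma.hom_ext _ _ fun i => ?_
    rw [Sigma.ι_desc_assoc]
    exact ((CxOX.RgammaZToId j).naturality (Sigma.ι E i)).trans (Limits.Sigma.ι_map (fun i => (Pretriangulated.Triangle.mk ((CxOX.RgammaZToId j).app (E i)) (b i) (c i)).mor₁) i).symm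

end Groth.Agent.S7280
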