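import Groth.Statements.S7281
import Groth.Agent.Lib.DGen9.ResProp

set_option autoImplicit false
set_option linter.style.haveILetI false
set_option backward.isDefEq.respectTransparency false
universe u
open CategoryTheory CategoryTheory.Limits AlgebraicGeometry
attribute [local instance] HasDerivedCategory.standard
open Perf

namespace Groth.Agent.S7281

/-- Let X be a scheme that is quasi-compact, quasi-separated and has the resolution property, and let F
be a cochain complex of quasi-coherent O_X-modules, zero in all sufficiently negative degrees, whose
image in D(O_X) is perfect. Then some bounded complex E whose terms are finite locally free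
O_X-modules admits a quasi-isomorphism of complexes E ⟶ F (a chain map inducing isomorphisms on all
cohomology sheaves, not merely an isomorphism in the derived category). -/
theorem result (X : Scheme.{u}) [CompactSpace ↥X]
    [QuasiSeparatedSpace ↥X] (hX : PerfAux.HasResolutionProperty X) (F : CochainComplex X.Modules ℤ)
    (hFb : ∃ a : ℤ, ∀ n : ℤ, n < a → IsZero (F.X n)) (hFq : ∀ n : ℤ, Coh.IsQCoh (F.X n))
    (hF : DCoh.IsPerfect (DCoh.toD X F)) :
    ∃ (E : CochainComplex X.Modules ℤ) (φ : E ⟶ F), DCoh.IsStrictlyPerfect E ∧ QuasiIso φ := by
  obtain ⟨a, ha⟩ := hFb
  exact DGen9.exists_strictlyPerfect_qis hX F a ha hFq hF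

end Groth.Agent.S7281
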