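import Groth.Statements.S7283
import Groth.Agent.Lib.FFInfty25.Main

set_option autoImplicit false
universe u
open Pi1

namespace Groth.Agent.S7283

open AlgebraicGeometry CategoryTheory CategoryTheory.Limits in
/-- Let X be a scheme and U a dense open subscheme such that every quasi-compact open subset of X has
finitely many irreducible components and, for every point x of the complement of U and every strict
henselization R of the local ring at x, the punctured spectrum of R is connected. Then restriction
of finite etale covers from X to U is fully faithful. -/
theorem result {X : Scheme.{u}} (U : X.Opens)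
    (hU : Dense (U : Set X))
    (hirr : ∀ V : X.Opens, IsCompact (V : Set X) → (irreducibleComponents ↥V).Finite)
    (hsh : ∀ x : X, x ∉ U → ∀ (R : Type u) [CommRing R] [IsLocalRing R] [Algebra (X.presheaf.stalk x) R]
      [IsLocalHom (algebraMap (X.presheaf.stalk x) R)] [Hensel.IsStrictHenselization (X.presheaf.stalk x) R],
      ConnectedSpace (FEt.puncturedSpec R : Scheme.{u})) :
    (FEt.restrict U.ι).Full ∧ (FEt.restrict U.ι).Faithful := by
  exact FFInfty25.fullyFaithful U hU hsh fun g _ _ D hD _ _ z hz =>
    FFInfty25.gen_of_finite_components hirr g D hD z hz

end Groth.Agent.S7283
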