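import Groth.Statements.S7292
import Groth.Agent.Lib.HTopLim9.Main
import Groth.Agent.Lib.VRefine5.Main
import Groth.Agent.S7468

set_option backward.isDefEq.respectTransparency false
set_option backward.isDefEq.respectTransparency.types false
set_option linter.style.haveILetI false
set_option autoImplicit false
open CategoryTheory CategoryTheory.Limits AlgebraicGeometry Opposite
universe w u
open HTop

namespace Groth.Agent.S7292

/-- Let f be a morphism of affine schemes from X to Y. The following are equivalent: (1) the one-member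
family given by f is a standard V covering; (2) X (with f) is the limit, as a scheme over Y, of a
cofiltered system of affine schemes X_i over Y such that each one-member family X_i over Y is a ph
covering; (3) the same with each X_i over Y an h covering. -/
theorem result {X Y : Scheme.{u}} [IsAffine X] [IsAffine Y] (f : X ⟶ Y) :
    List.TFAE
      [HTop.IsStandardV (PreZeroHypercover.singleton.{w} f),
       ∃ (I : Type u) (_ : SmallCategory I) (_ : IsCofiltered I) (D : I ⥤ Over Y) (c : Cone D)
          (_ : IsLimit ((Over.forget Y).mapCone c)) (_ : c.pt ≅ Over.mk f),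
          (∀ i, IsAffine (D.obj i).left) ∧ ∀ i, HTop.IsPhCover (PreZeroHypercover.singleton.{w} (D.obj i).hom),
       ∃ (I : Type u) (_ : SmallCategory I) (_ : IsCofiltered I) (D : I ⥤ Over Y) (c : Cone D)
          (_ : IsLimit ((Over.forget Y).mapCone c)) (_ : c.pt ≅ Over.mk f),
          (∀ i, IsAffine (D.obj i).left) ∧ ∀ i, HTop.IsHCover (PreZeroHypercover.singleton.{w} (D.obj i).hom)] := by
  tfae_have 1 → 3 := by
    intro h
    obtain ⟨I, i₁, i₂, D, c, hc, hpt, haff, hlfp⟩ := HTopLim9.exists_system f
    haveI := haff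
    refine ⟨I, i₁, i₂, D, c, hc, eqToIso hpt, haff, fun i => ⟨fun _ => hlfp i, ?_⟩⟩
    refine HTop26.IsStandardV.isVCover ((Groth.Agent.S7291.result D c hc).1 ?_ i)
    rw [hpt]
    exact h
  tfae_have 3 → 2 := by
    rintro ⟨I, i₁, i₂, D, c, hc, e, haff, hcov⟩
    refine ⟨I, i₁, i₂, D, c, hc, e, haff, fun i => ⟨fun k => ?_, fun U => ?_⟩⟩
    · haveI := (hcov i).1 k
      infer_instance
    haveI : IsAffine ((U : Y.Opens) : Scheme.{u}) := U.2
    obtain ⟨P, q, n, V, hq, hqs, -, hVa, hsup, href⟩ :=
      VRefine5.exists_refinement (U : Y.Opens).ι _ (hcov i).1 (hcov i).2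
    refine ⟨{ I₀ := Fin n, X := fun j => (V j).toScheme, f := fun j => (V j).ι ≫ q },
      ⟨inferInstance, inferInstanceAs (Finite (Fin n)), fun j => hVa j,
        P, q, fun j => (V j).ι, hq, hqs, fun j => inferInstance, fun j => rfl, fun x => ?_⟩, fun j => ?_⟩
    · obtain ⟨j, hj⟩ := TopologicalSpace.Opens.mem_iSup.1 (show x ∈ ⨆ j, V j from hsup ▸ TopologicalSpace.Opens.mem_top x)
      exact ⟨j, ⟨x, hj⟩, rfl⟩
    · obtain ⟨k, h, hh⟩ := href j
      exact ⟨k, h, hh.trans (Category.assoc _ _ _).symm⟩
  tfae_have 2 → 1 := by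
    rintro ⟨I, i₁, i₂, D, c, hc, e, haff, hcov⟩
    haveI := haff
    have hstd : ∀ i, IsStandardV (PreZeroHypercover.singleton.{w} (D.obj i).hom) := fun i =>
      ⟨inferInstance, inferInstanceAs (Finite PUnit), fun _ => haff i,
        HTop26.IsVCover.hasValLift fun U => by
          obtain ⟨F, hF, hR⟩ := (hcov i).2 U
          exact ⟨F, Groth.Agent.S7468.result F hF, hR⟩⟩
    have hV := ((Groth.Agent.S7291.result D c hc).2 hstd).lift
    refine ⟨inferInstance, inferInstanceAs (Finite PUnit), fun _ => inferInstanceAs (IsAffine X), ?_⟩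
    intro V _ _ g
    obtain ⟨W, h1, h2, φ, hφ, j, g', hg'⟩ := hV V g
    refine ⟨W, h1, h2, φ, hφ, PUnit.unit, g' ≫ e.hom.left, ?_⟩
    show (g' ≫ e.hom.left) ≫ f = _
    rw [Category.assoc, show e.hom.left ≫ f = c.pt.hom from Over.w e.hom]
    exact hg'
  tfae_finish

end Groth.Agent.S7292
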