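import Groth.Statements.S7294
import Groth.Agent.Lib.LamFin24.Main

set_option autoImplicit false
open CategoryTheory CategoryTheory.Limits AlgebraicGeometry Opposite
universe u
open EtShriek

namespace Groth.Agent.S7294

/-- Let k be an algebraically closed field, Λ a Noetherian ring, X a scheme separated and of finite type
over k of dimension at most 1, and L a constructible sheaf of Λ-modules on the small etale site of X
whose underlying abelian sheaf is torsion. Then the compactly supported cohomology modules H^q_c(X,
L) are finitely generated Λ-modules; concretely, for every open immersion j of X into a scheme P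
proper over k, compatible with the structure maps and with P of dimension at most 1, and every q,
the Λ-module H^q(P, j_! L) is finitely generated. (The published statement does not mention P; its
proof computes H^q_c through such a compactification of dimension at most 1, which is the form
stated here.) -/
theorem result (Λ : Type) [CommRing Λ] [IsNoetherianRing Λ]
    (k : Type u) [Field k] [IsAlgClosed k] {X P : Scheme.{u}}
    (f : X ⟶ Spec (CommRingCat.of k)) [IsSeparated f] [LocallyOfFiniteType f] [QuasiCompact f]
    (hdim : topologicalKrullDim ↥X ≤ 1) (L : EtLam.Sheaf Λ X) (hL : EtLam.IsConstructible L)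
    (hLt : EtCoh.IsTorsion L.carrier)
    (j : X ⟶ P) [IsOpenImmersion j] (b : P ⟶ Spec (CommRingCat.of k)) [IsProper b] (hj : j ≫ b = f)
    (hdimP : topologicalKrullDim ↥P ≤ 1) (q : ℕ) :
    Module.Finite Λ (EtCoh.H P (FinFr.extZeroLam j L).carrier q) := by
  exact Groth.Agent.LamFin24.finite_H_extZero b hdimP j L hL hLt q

end Groth.Agent.S7294
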