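import Groth.Statements.S7299
import Groth.Agent.Lib.RatPow18.Main
import Groth.Agent.Lib.RatPow18.Birat
import Groth.Agent.Lib.RegRat32.Fibres

set_option autoImplicit false
universe u
open CategoryTheory CategoryTheory.Limits AlgebraicGeometry
open Resolve

namespace Groth.Agent.S7299

/-- Let (A, m) be a local normal Nagata domain of dimension two defining a rational singularity, f : X →
Spec A a proper morphism from an integral normal scheme which is an isomorphism over some nonempty
open, and suppose the closed fibre, with ideal sheaf I = m O_X, is an effective Cartier divisor.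
Then for every n ≥ 0, H^1(X, I^n) = 0 and H^0(X, I^n) = m^n: an element of A, viewed as a global
function on X, lies in I^n on every affine open if and only if it belongs to m^n. -/
theorem result (A : Type u) [CommRing A] [IsDomain A] [IsLocalRing A] [IsNoetherianRing A]
    [IsIntegrallyClosed A] (hN : CAlg.IsNagata A) (hdim : ringKrullDim A = 2) (hA : Curv2.IsRationalSing A)
    (X : Scheme.{u}) (f : X ⟶ Spec (CommRingCat.of A)) [IsProper f] [IsIntegral X] (hXn : Pi1.IsNormalScheme X)
    (hbir : ∃ U : (Spec (CommRingCat.of A)).Opens, (U : Set (Spec (CommRingCat.of A))).Nonempty ∧ IsIso (f ∣_ U))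
    (hE : BlowUp.IsEffCartierIdeal ((Curv2.idealSheaf A (IsLocalRing.maximalIdeal A)).comap f)) (n : ℕ) :
    Subsingleton (Coh.HH X (ClSub.idealMod (((Curv2.idealSheaf A (IsLocalRing.maximalIdeal A)).comap f) ^ n)) 1) ∧
      ∀ a : A, (∀ U : X.affineOpens,
          Coh.resTop X (Opposite.op U.1) (Coh.toGlobal f a) ∈ (((Curv2.idealSheaf A (IsLocalRing.maximalIdeal A)).comap f) ^ n).ideal U) ↔
        a ∈ IsLocalRing.maximalIdeal A ^ n := by
  haveI : CompactSpace X := QuasiCompact.compactSpace_of_compactSpace f
  haveI : QuasiSeparatedSpace X := quasiSeparatedSpace_of_quasiSeparated f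
  have hO := hA X f inferInstance inferInstance hXn hbir
  have hH2 : ∀ N : X.Modules, Coh.IsQCoh N → Subsingleton (Coh.HH X N 2) :=
    fun N hN => RegRat.subsingleton_HH_two_le A hdim.le X f hbir N hN 2 le_rfl
  refine ⟨RegRat.subsingleton_HH_one_of_gg X hO hH2 _ (M2.isQCoh_idealMod _)
    (RatPow18.isGloballyGenerated_idealMod f _ n), fun a => ⟨fun h => ?_, fun h U => RatPow18.ρU_mem f h U⟩⟩
  obtain ⟨c, hc⟩ := RatPow18.exists_principal_cov f (IsLocalRing.maximalIdeal A) hE
  obtain ⟨p, hp⟩ := RatPow18.exists_closedPoint f hbir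
  refine RatPow18.mem_pow_of_inPow f c hc hO hH2 (RatPow18.bijective_toGlobal f hbir) hp n a fun b => ?_
  have hU : IsAffineOpen _ := c.aff 0 b
  exact (RatPow18.powIdeal_ideal f _ n ⟨_, hU⟩).le (h ⟨_, hU⟩)

end Groth.Agent.S7299
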