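import Groth.Statements.S7304
import Groth.Agent.Lib.BlowUp3.SpecIdeal
import Groth.Agent.Lib.FormalH7.CplRing
import Groth.Agent.Lib.BlowUp26.Basic
import Groth.Agent.Lib.AdmOpen4.TwoSided
import Groth.Agent.Lib.BlowUpExist.Glue
-- import your own Groth.Agent.* helpers here

set_option autoImplicit false
set_option backward.isDefEq.respectTransparency false
universe u
open CategoryTheory CategoryTheory.Limits AlgebraicGeometry
open Resolve Groth.Agent

namespace Groth.Agent.S7304

/-- Let (A, m) be a Noetherian local ring with m-adic completion A^, and U ⊂ Spec A, U^ ⊂ Spec A^ the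
punctured spectra. If c : Y → Spec A^ is a U^-admissible blowing up (a blowing up in a
quasi-coherent ideal of finite type whose support misses U^), then there is a U-admissible blowing
up b : X → Spec A such that Y is isomorphic, over Spec A^, to the base change of X to Spec A^. -/
theorem result (A : Type u) [CommRing A] [IsLocalRing A] [IsNoetherianRing A]
    (Y : Scheme.{u}) (c : Y ⟶ Spec (CommRingCat.of (Curv2.cpl A)))
    (J : (Spec (CommRingCat.of (Curv2.cpl A))).IdealSheafData)
    (hJ : BlowUp.IsAdmissibleFor (FEt.puncturedSpec (Curv2.cpl A)) J) (hc : BlowUp.IsBlowUp c J) :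
    ∃ (I : (Spec (CommRingCat.of A)).IdealSheafData) (X : Scheme.{u}) (b : X ⟶ Spec (CommRingCat.of A)),
      BlowUp.IsAdmissibleFor (FEt.puncturedSpec A) I ∧ BlowUp.IsBlowUp b I ∧
      ∃ e : Y ≅ Curv2.bcCpl A b, e.hom ≫ Curv2.bcCplSnd A b = c := by
  classical
  set m := IsLocalRing.maximalIdeal A
  set φ : A →+* Curv2.cpl A := algebraMap A (Curv2.cpl A) with hφ
  have hm : IsLocalRing.maximalIdeal (Curv2.cpl A) = m.map φ :=
    AdicCompletion.maximalIdeal_eq_map
  let Jt : Ideal (Curv2.cpl A) :=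
    (J.ideal ⟨⊤, isAffineOpen_top _⟩).map (Scheme.ΓSpecIso (CommRingCat.of (Curv2.cpl A))).hom.hom
  have hJt : Curv2.idealSheaf (Curv2.cpl A) Jt = J := by
    apply Scheme.IdealSheafData.ext_of_isAffine
    rw [BlowUp3.idealSheaf_ideal_top]
    show ((J.ideal ⟨⊤, isAffineOpen_top _⟩).map _).map _ = _
    rw [Ideal.map_map, ← CommRingCat.hom_comp, Iso.hom_inv_id, CommRingCat.hom_id, Ideal.map_id]
  have hrad : m.map φ ≤ Jt.radical := by
    rw [← hm, Ideal.radical_eq_sInf]
    refine le_sInf fun p hp => ?_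
    haveI : p.IsPrime := hp.2
    have h1 : (⟨p, hp.2⟩ : PrimeSpectrum (Curv2.cpl A)) ∈ (J.support : Set (Spec (CommRingCat.of (Curv2.cpl A)))) := by
      rw [← hJt]; exact (BlowUp3.mem_support_idealSheaf Jt ⟨p, hp.2⟩).2 hp.1
    have h2 : (⟨p, hp.2⟩ : PrimeSpectrum (Curv2.cpl A)) = IsLocalRing.closedPoint (Curv2.cpl A) :=
      Classical.byContradiction fun hne => Set.disjoint_left.1 hJ.2 h1 hne
    exact le_of_eq (congrArg PrimeSpectrum.asIdeal h2).symm
  obtain ⟨n, hn⟩ := Ideal.exists_pow_le_of_le_radical_of_fg hrad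
    (Ideal.FG.map (IsNoetherian.noetherian m) φ)
  rw [← Ideal.map_pow] at hn
  have hle : m ^ n ≤ Jt.comap φ := Ideal.map_le_iff_le_comap.1 hn
  have hmap : (Jt.comap φ).map φ = Jt := by
    refine le_antisymm Ideal.map_comap_le fun x hx => ?_
    obtain ⟨a, ha⟩ := Ideal.Quotient.mk_surjective (AdicCompletion.evalₐ m n x)
    have hk : x - φ a ∈ RingHom.ker (AdicCompletion.evalₐ m n).toRingHom := by
      rw [RingHom.mem_ker, map_sub, sub_eq_zero]
      show AdicCompletion.evalₐ m n x = AdicCompletion.evalₐ m n (algebraMap A _ a)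
      rw [AlgHom.commutes, ← ha]; rfl
    rw [FormalH7.ker_evalₐ_eq_map m (IsNoetherian.noetherian m) n] at hk
    have ha' : a ∈ Jt.comap φ := by
      show φ a ∈ Jt
      have := Jt.sub_mem hx (hn hk)
      rwa [sub_sub_cancel] at this
    have := Ideal.add_mem _ (Ideal.mem_map_of_mem φ ha') (Ideal.map_mono hle hk)
    rwa [add_sub_cancel] at this
  let I := Curv2.idealSheaf A (Jt.comap φ)
  have hI : I.comap (Spec.map (CommRingCat.ofHom φ)) = J := by
    rw [BlowUp3.comap_idealSheaf, hmap, hJt]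
  haveI : Flat (Spec.map (CommRingCat.ofHom φ)) := by
    haveI : Module.Flat A (Curv2.cpl A) := AdicCompletion.flat_of_isNoetherian _
    exact Flat.SpecMap_iff.2 (RingHom.flat_algebraMap_iff.2 ‹_›)
  refine ⟨I, _, BlowUpExist.ChartIdx.blowUpHom I, ⟨?_, ?_⟩, BlowUpExist.ChartIdx.isBlowUp_blowUpHom, ?_⟩
  · intro U
    haveI : IsNoetherianRing Γ(Spec (CommRingCat.of A), U.1) :=
      IsLocallyNoetherian.component_noetherian U
    exact IsNoetherian.noetherian _
  · refine Set.disjoint_left.2 fun q hq hqU => hqU ?_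
    have h1 := (BlowUp3.mem_support_idealSheaf (Jt.comap φ) q).1 hq
    have h2 : m ≤ q.asIdeal := q.2.le_of_pow_le (hle.trans h1)
    exact PrimeSpectrum.ext ((IsLocalRing.maximalIdeal.isMaximal A).eq_of_le q.2.ne_top h2).symm
  · have hb := BlowUp26.isBlowUp_flat_baseChange (Spec.map (CommRingCat.ofHom φ))
      (BlowUpExist.ChartIdx.isBlowUp_blowUpHom (C := I))
    rw [hI] at hb
    obtain ⟨e, he, hec⟩ := AdmOpen4.exists_iso_of_isBlowUp hc hb
    refine ⟨asIso e ≪≫ pullbackSymmetry _ _, ?_⟩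
    show (e ≫ (pullbackSymmetry _ _).hom) ≫ pullback.snd _ _ = c
    rw [Category.assoc, pullbackSymmetry_hom_comp_snd, hec]

end Groth.Agent.S7304
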