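import Groth.Statements.S7308
import Groth.Agent.Lib.PointBlowUp32.Universal

set_option autoImplicit false
universe u
open CategoryTheory CategoryTheory.Limits AlgebraicGeometry
open Resolve

namespace Groth.Agent.S7308

/-- Let X be a Noetherian scheme and ι : E → X a closed immersion which is an exceptional curve of the
first kind. A contraction of E, if it exists, is unique up to unique isomorphism: for contractions
b₁ : X → X₁ and b₂ : X → X₂ of E there is a unique isomorphism e : X₁ ≅ X₂ with b₁ ≫ e = b₂. -/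
theorem result {E X X₁ X₂ : Scheme.{u}} [IsNoetherian X] (ι : E ⟶ X) [IsClosedImmersion ι]
    (hE : Models.IsExcCurve ι) (b₁ : X ⟶ X₁) (hb₁ : Models.IsContractionOf ι b₁) (b₂ : X ⟶ X₂) (hb₂ : Models.IsContractionOf ι b₂) :
    ∃! e : X₁ ≅ X₂, b₁ ≫ e.hom = b₂ := by
  have hr : ∀ {Z : Scheme.{u}} (b : X ⟶ Z), Models.IsContractionOf ι b → ∃ z, ∀ w, b (ι w) = z := by
    rintro Z b ⟨-, -, y, -, hy, -⟩
    refine ⟨y, fun w => ?_⟩
    have h : (ι ≫ b) w ∈ Set.range ((ι ≫ b).base : E → Z) := ⟨w, rfl⟩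
    rw [hy] at h
    exact h
  obtain ⟨z₁, hz₁⟩ := hr b₁ hb₁
  obtain ⟨z₂, hz₂⟩ := hr b₂ hb₂
  obtain ⟨p, hp, hpu⟩ := Groth.Agent.PointBlowUp.contraction_universal ι hE b₁ hb₁ b₂ z₂ hz₂
  obtain ⟨q, hq, -⟩ := Groth.Agent.PointBlowUp.contraction_universal ι hE b₂ hb₂ b₁ z₁ hz₁
  have h₁ : p ≫ q = 𝟙 X₁ :=
    (Groth.Agent.PointBlowUp.contraction_universal ι hE b₁ hb₁ b₁ z₁ hz₁).unique
      (show b₁ ≫ p ≫ q = b₁ by rw [← Category.assoc, hp, hq]) (Category.comp_id _)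
  have h₂ : q ≫ p = 𝟙 X₂ :=
    (Groth.Agent.PointBlowUp.contraction_universal ι hE b₂ hb₂ b₂ z₂ hz₂).unique
      (show b₂ ≫ q ≫ p = b₂ by rw [← Category.assoc, hq, hp]) (Category.comp_id _)
  exact ⟨⟨p, q, h₁, h₂⟩, hp, fun e he => Iso.ext (hpu e.hom he)⟩

end Groth.Agent.S7308
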