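import Groth.Statements.S7321
import Groth.Agent.S1600
import Groth.Agent.Lib.NormFin18.Generic
import Groth.Agent.Lib.NormFin18.Birational
import Groth.Agent.Lib.DVRVal.Curve
import Groth.Agent.Lib.AlgSpDecent.DimMor
import Groth.Agent.Lib.VB17.Setup
-- import your own Groth.Agent.* helpers here

set_option autoImplicit false
universe u
set_option linter.style.haveILetI false
set_option backward.isDefEq.respectTransparency.types false
open CategoryTheory CategoryTheory.Limits AlgebraicGeometry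
open Resolve

namespace Groth.Agent.S7321

theorem generic_mem_of_nonempty {Y : Scheme.{u}} [IsIntegral Y] {V : Y.Opens} (hV : (V : Set Y).Nonempty) :
    genericPoint Y ∈ V :=
  (genericPoint_spec Y).mem_open_set_iff V.isOpen |>.2 (by simpa using hV)

/-- A resolution is an alteration. -/
theorem alteration_of_resolution {X Y : Scheme.{u}} [IsIntegral Y] {g : X ⟶ Y} (hp : IsProper g) (hX : IsIntegral X)
    {V : Y.Opens} (hV : (V : Set Y).Nonempty) (hiso : IsIso (g ∣_ V)) : Curv2.IsAlteration g := by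
  haveI := hp; haveI := hX; haveI := hiso
  refine ⟨hp, hX, inferInstance, ⟨?_⟩, V, hV, inferInstance⟩
  obtain ⟨x, hx⟩ : ∃ x, g x = genericPoint Y := by
    obtain ⟨a, ha⟩ := (g ∣_ V).surjective ⟨_, generic_mem_of_nonempty hV⟩
    refine ⟨a.1, ?_⟩
    have := congrArg V.ι ha
    rw [← Scheme.Hom.comp_apply, morphismRestrict_ι, Scheme.Hom.comp_apply] at this
    exact this
  intro y
  have h : closure {genericPoint Y} ⊆ closure (Set.range g) :=
    closure_mono (Set.singleton_subset_iff.2 ⟨x, hx⟩)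
  exact h (by rw [genericPoint_closure]; trivial)

/-- An alteration restricts to an affine open, seen as a spectrum. -/
theorem alteration_affine {X Y : Scheme.{u}} {g : X ⟶ Y} (hg : Curv2.IsAlteration g) {V : Y.Opens}
    (hV : IsAffineOpen V) (hne : (V : Set Y).Nonempty) :
    Curv2.IsAlteration ((g ∣_ V) ≫ hV.isoSpec.hom) := by
  obtain ⟨hp, hX, hY, hd, V0, hV0, hfin⟩ := hg
  haveI := hp; haveI := hX; haveI := hY; haveI := hd; haveI := hfin
  have hξ := generic_mem_of_nonempty hne
  haveI : Nonempty V := ⟨⟨_, hξ⟩⟩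
  haveI : Nonempty ↥(g ⁻¹ᵁ V) := by
    obtain ⟨y, hy⟩ := g.denseRange.exists_mem_open V.isOpen hne
    exact ⟨⟨y, hy⟩⟩
  haveI : Nonempty ↥((g ⁻¹ᵁ V : X.Opens) : Scheme) := ‹Nonempty ↥(g ⁻¹ᵁ V)›
  haveI : IsIntegral (V : Scheme) := isIntegral_of_isOpenImmersion V.ι
  haveI : IsIntegral (g ⁻¹ᵁ V : Scheme) := isIntegral_of_isOpenImmersion (g ⁻¹ᵁ V).ι
  haveI : IsDomain Γ(Y, V) := IsIntegral.component_integral _
  refine ⟨inferInstance, inferInstance, inferInstance, ?_, hV.isoSpec.inv ⁻¹ᵁ (V.ι ⁻¹ᵁ V0), ?_, ?_⟩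
  · haveI : IsDominant (g ∣_ V) := IsZariskiLocalAtTarget.restrict hd V
    infer_instance
  · refine ⟨hV.isoSpec.hom ⟨_, hξ⟩, ?_⟩
    show V.ι (hV.isoSpec.inv (hV.isoSpec.hom ⟨_, hξ⟩)) ∈ V0
    rw [← Scheme.Hom.comp_apply hV.isoSpec.hom hV.isoSpec.inv, Iso.hom_inv_id]
    exact generic_mem_of_nonempty hV0
  · rw [morphismRestrict_comp]
    haveI h1 : IsFinite (g ∣_ (V ⊓ V0)) := by
      haveI := IsZariskiLocalAtTarget.restrict (P := @IsFinite) hfin (V0.ι ⁻¹ᵁ V)
      refine (MorphismProperty.arrow_mk_iso_iff @IsFinite ?_).1 this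
      refine morphismRestrictRestrict g V0 (V0.ι ⁻¹ᵁ V) ≪≫ eqToIso ?_
      rw [Scheme.Hom.image_preimage_eq_opensRange_inf, Scheme.Opens.opensRange_ι, inf_comm]
    haveI h2 : IsFinite ((g ∣_ V) ∣_ (hV.isoSpec.hom ⁻¹ᵁ (hV.isoSpec.inv ⁻¹ᵁ (V.ι ⁻¹ᵁ V0)))) := by
      have e : hV.isoSpec.hom ⁻¹ᵁ (hV.isoSpec.inv ⁻¹ᵁ (V.ι ⁻¹ᵁ V0)) = V.ι ⁻¹ᵁ V0 := by
        rw [← Scheme.Hom.comp_preimage, Iso.hom_inv_id, Scheme.Hom.id_preimage]
      refine (MorphismProperty.arrow_mk_iso_iff @IsFinite (morphismRestrictEq (g ∣_ V) e)).2 ?_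
      refine (MorphismProperty.arrow_mk_iso_iff @IsFinite ?_).1 h1
      refine (morphismRestrictRestrict g V (V.ι ⁻¹ᵁ V0) ≪≫ eqToIso ?_).symm
      rw [Scheme.Hom.image_preimage_eq_opensRange_inf, Scheme.Opens.opensRange_ι]
    haveI h3 : IsIso (hV.isoSpec.hom ∣_ (hV.isoSpec.inv ⁻¹ᵁ (V.ι ⁻¹ᵁ V0))) :=
      IsZariskiLocalAtTarget.restrict (P := MorphismProperty.isomorphisms Scheme)
        (inferInstanceAs (IsIso hV.isoSpec.hom)) _
    exact MorphismProperty.comp_mem @IsFinite _ _ h2 inferInstance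

/-- Finiteness of the normalization from N-1 on affine opens. -/
theorem isFinite_normalizationι (Y : Scheme.{u}) [IsIntegral Y]
    [QuasiCompact (Y.fromSpecStalk (genericPoint Y))] [QuasiSeparated (Y.fromSpecStalk (genericPoint Y))]
    (h : ∀ V : Y.Opens, IsAffineOpen V → ∀ _ : Nonempty V,
      letI : IsDomain Γ(Y, V) := IsIntegral.component_integral _
      CAlg.IsN1 Γ(Y, V)) : IsFinite (Curv2.normalizationι Y) := by
  refine NormFin18.isFinite_fromNormalization_of_finite (X := Y) (K := Y.functionField)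
    (φ := RingHom.id Y.functionField) (g := Y.fromSpecStalk (genericPoint Y)) (by simp) fun V hne hA => ?_
  haveI : Nonempty V := ⟨⟨_, generic_mem_of_nonempty hne⟩⟩
  haveI : IsDomain Γ(Y, V) := IsIntegral.component_integral _
  haveI := functionField_isFractionRing_of_isAffineOpen Y V hA
  haveI : Module.Finite Γ(Y, V) (integralClosure Γ(Y, V) (FractionRing Γ(Y, V))) := h V hA inferInstance
  exact Module.Finite.equiv (AlgEquiv.mapIntegralClosure
    (FractionRing.algEquiv Γ(Y, V) Y.functionField)).toLinearEquiv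

end Groth.Agent.S7321

namespace Groth.Agent.S7321

/-- Let Y be an integral Noetherian scheme of dimension one. Then (1) there is an alteration X → Y with
X regular, if and only if (2) Y has a resolution of singularities, i.e. a proper morphism X → Y from
an integral regular scheme which is an isomorphism over a nonempty open of Y; and (2) holds if and
only if (4) the normalization morphism of Y is finite. (A further equivalent condition, a finite
sequence of blowings up in closed points ending in a regular scheme, is stated separately. The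
quasi-compactness and quasi-separatedness binders on Spec K(Y) → Y always hold; they are needed only
to form the normalization.) -/
theorem result (Y : Scheme.{u}) [IsIntegral Y] [IsNoetherian Y]
    (hdim : topologicalKrullDim Y = 1)
    [QuasiCompact (Y.fromSpecStalk (genericPoint Y))] [QuasiSeparated (Y.fromSpecStalk (genericPoint Y))] :
    ((∃ (X : Scheme.{u}) (g : X ⟶ Y), Curv2.IsAlteration g ∧ ∀ x : X, IsRegularLocalRing (X.presheaf.stalk x)) ↔
      (∃ (X : Scheme.{u}) (g : X ⟶ Y), IsProper g ∧ IsIntegral X ∧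
        (∃ V : Y.Opens, (V : Set Y).Nonempty ∧ IsIso (g ∣_ V)) ∧ ∀ x : X, IsRegularLocalRing (X.presheaf.stalk x))) ∧
    ((∃ (X : Scheme.{u}) (g : X ⟶ Y), IsProper g ∧ IsIntegral X ∧
        (∃ V : Y.Opens, (V : Set Y).Nonempty ∧ IsIso (g ∣_ V)) ∧ ∀ x : X, IsRegularLocalRing (X.presheaf.stalk x)) ↔
      IsFinite (Curv2.normalizationι Y)) := by
  haveI : IsLocallyNoetherian Y := inferInstance
  have h24 : (∃ (X : Scheme.{u}) (g : X ⟶ Y), IsProper g ∧ IsIntegral X ∧
      (∃ V : Y.Opens, (V : Set Y).Nonempty ∧ IsIso (g ∣_ V)) ∧ ∀ x : X, IsRegularLocalRing (X.presheaf.stalk x)) →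
      ∃ (X : Scheme.{u}) (g : X ⟶ Y), Curv2.IsAlteration g ∧ ∀ x : X, IsRegularLocalRing (X.presheaf.stalk x) := by
    rintro ⟨X, g, hp, hX, ⟨V, hV, hiso⟩, hreg⟩
    exact ⟨X, g, alteration_of_resolution hp hX hV hiso, hreg⟩
  have h14 : (∃ (X : Scheme.{u}) (g : X ⟶ Y), Curv2.IsAlteration g ∧ ∀ x : X, IsRegularLocalRing (X.presheaf.stalk x)) →
      IsFinite (Curv2.normalizationι Y) := by
    rintro ⟨X, g, hg, hreg⟩
    refine isFinite_normalizationι Y fun V hA hne => ?_
    haveI : IsDomain Γ(Y, V) := IsIntegral.component_integral _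
    haveI : IsNoetherianRing Γ(Y, V) := IsLocallyNoetherian.component_noetherian ⟨V, hA⟩
    refine (S1600.result _ _ _ (alteration_affine hg hA (by obtain ⟨⟨x, hx⟩⟩ := hne; exact ⟨x, hx⟩)) fun x => ?_).1
    haveI := hreg ((g ⁻¹ᵁ V).ι x)
    exact IsRegularLocalRing.of_ringEquiv (asIso ((g ⁻¹ᵁ V).ι.stalkMap x)).commRingCatIsoToRingEquiv
  have h42 : IsFinite (Curv2.normalizationι Y) →
      ∃ (X : Scheme.{u}) (g : X ⟶ Y), IsProper g ∧ IsIntegral X ∧
        (∃ V : Y.Opens, (V : Set Y).Nonempty ∧ IsIso (g ∣_ V)) ∧ ∀ x : X, IsRegularLocalRing (X.presheaf.stalk x) := by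
    intro hfin
    haveI : IsFinite (Y.fromSpecStalk (genericPoint Y)).fromNormalization := hfin
    have hid : Y.fromSpecStalk (genericPoint Y) =
        Spec.map (CommRingCat.ofHom (RingHom.id Y.functionField)) ≫ Y.fromSpecStalk (genericPoint Y) := by simp
    obtain ⟨hI, hN⟩ := CurveNF.isIntegral_and_normal (K := Y.functionField) hid
    refine ⟨Curv2.normalization Y, Curv2.normalizationι Y, inferInstance, hI,
      NormFin18.exists_isIso_restrict hid, fun x => ?_⟩
    haveI := hI
    haveI : IsLocallyNoetherian (Curv2.normalization Y) :=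
      LocallyOfFiniteType.isLocallyNoetherian (Curv2.normalizationι Y)
    haveI : IsDomain ((Curv2.normalization Y).presheaf.stalk x) := (hN x).1
    haveI : IsIntegrallyClosed ((Curv2.normalization Y).presheaf.stalk x) := (hN x).2
    refine DVRVal.isRegularLocalRing_of_normal _ ?_
    refine (VB17.ringKrullDim_stalk_le_topologicalKrullDim x).trans ?_
    refine (AlgSpDecent.topologicalKrullDim_le_of_lqf (Curv2.normalizationι Y)).trans ?_
    rw [hdim]
  exact ⟨⟨fun h => h42 (h14 h), h24⟩, ⟨fun h => h14 (h24 h), h42⟩⟩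
end Groth.Agent.S7321
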