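import Groth.Statements.S7324
import Groth.Agent.Lib.BlowPic10.Basic
import Groth.Agent.Lib.PointBlowUp32.Local
import Groth.Agent.Lib.BlowUpFib6.Basic
import Groth.Agent.Lib.TensorMod.InvCrit
import Groth.Agent.Lib.RelMin32.Factor

set_option autoImplicit false
set_option maxHeartbeats 1000000
set_option linter.style.haveILetI false
set_option backward.isDefEq.respectTransparency false
set_option backward.isDefEq.respectTransparency.types false
universe u
open CategoryTheory CategoryTheory.Limits AlgebraicGeometry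
open Resolve

namespace Groth.Agent.S7324

open TopologicalSpace Groth.Agent

noncomputable local instance instLawPB (Y : Scheme.{u}) : PicGrp.Law Y := M2.law Y

theorem eq_one_of_local {Z : Scheme.{u}} (z : Z) (hz : ∀ U : Z.Opens, z ∈ U → U = ⊤) (c : PicLoc.PicSet Z) : c = 1 := by
  obtain ⟨M, hM, rfl⟩ := PicGrp.exists_eq_cls c
  refine (PicGrp.cls_eq_one_iff hM).2 ?_
  obtain ⟨U, hzU, ⟨e⟩⟩ := hM z
  obtain rfl := hz U hzU
  let t := (⊤ : Z.Opens).ι
  haveI : IsIso t := Scheme.topIso Z |>.isIso_hom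
  exact ⟨((Scheme.Modules.pullbackId _).app M).symm ≪≫
    ((Scheme.Modules.pullbackCongr (IsIso.inv_hom_id t)).app M).symm ≪≫
    ((Scheme.Modules.pullbackComp (inv t) t).app M).symm ≪≫
    (Scheme.Modules.pullback (inv t)).mapIso (((Scheme.Modules.restrictFunctorIsoPullback t).app M).symm ≪≫ e) ≪≫
    DMon9.pullOne (inv t)⟩

theorem pow_eq_one_iff {X : Scheme.{u}} {L : X.Modules} (hL : PicF.IsInvertible L) (n : ℕ) :
    PicGrp.cls L hL ^ n = 1 ↔ Nonempty (CohB1.tensorPow L n ≅ Coh.structureModule X) := by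
  rw [← PicGrp.cl_eq_cl_iff, ← PicGrp.cls_pow_val hL n, ← PicGrp.one_val]
  exact Subtype.ext_iff

theorem cl_pow_iff {X : Scheme.{u}} {F L : X.Modules} (hF : PicF.IsInvertible F) (hL : PicF.IsInvertible L) (n : ℕ)
    (h : PicGrp.cls F hF = PicGrp.cls L hL ^ n) : Nonempty (F ≅ CohB1.tensorPow L n) := by
  rw [← PicGrp.cl_eq_cl_iff, ← PicGrp.cls_pow_val hL n, ← h, PicGrp.cls_val]

/-- Let (A, m) be a regular local ring of dimension two and b : X → Spec A the blowing up in m, with
exceptional divisor E, ideal sheaf I = O_X(-E), and M = O_X(E) an inverse of I for the tensor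
product. Then Pic(X) = Z generated by O_X(E): every invertible O_X-module is isomorphic to I^{⊗ n}
or to M^{⊗ n} for some n ≥ 0, and I^{⊗ n} is not isomorphic to O_X for n ≥ 1. -/
theorem result (A : Type u) [CommRing A] [IsRegularLocalRing A] (hA : ringKrullDim A = 2)
    (X : Scheme.{u}) (b : X ⟶ Spec (CommRingCat.of A)) (hb : BlowUp.IsBlowUp b (Curv2.idealSheaf A (IsLocalRing.maximalIdeal A)))
    (M : X.Modules) (hM : ClSub.IsInverseOf M (ClSub.idealMod (BlowUp.exceptional b (Curv2.idealSheaf A (IsLocalRing.maximalIdeal A))))) :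
    (∀ L : X.Modules, PicF.IsInvertible L → ∃ n : ℕ,
      Nonempty (L ≅ CohB1.tensorPow (ClSub.idealMod (BlowUp.exceptional b (Curv2.idealSheaf A (IsLocalRing.maximalIdeal A)))) n) ∨
        Nonempty (L ≅ CohB1.tensorPow M n)) ∧
    ∀ n : ℕ, 1 ≤ n →
      IsEmpty (CohB1.tensorPow (ClSub.idealMod (BlowUp.exceptional b (Curv2.idealSheaf A (IsLocalRing.maximalIdeal A)))) n ≅
        Coh.structureModule X) := by
  classical
  haveI : IsDomain A := (Groth.Agent.RelMin.isDomain_normal (A := A)).1
  have hc : IsClosed ({IsLocalRing.closedPoint A} : Set (Spec (CommRingCat.of A))) :=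
    IsLocalRing.isClosed_singleton_closedPoint A
  have hS : ∀ p : Spec (CommRingCat.of A), IsRegularLocalRing ((Spec (CommRingCat.of A)).presheaf.stalk p) := fun p => by
    haveI := Groth.Agent.RegLoc.isRegularLocalRing_localization A (p : PrimeSpectrum A).asIdeal
    exact IsRegularLocalRing.of_ringEquiv (AlgebraicGeometry.Spec.stalkIso (CommRingCat.of A) p).symm.commRingCatIsoToRingEquiv
  haveI := hS (IsLocalRing.closedPoint A)
  have hd : ringKrullDim ((Spec (CommRingCat.of A)).presheaf.stalk (IsLocalRing.closedPoint A)) = 2 := by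
    rw [ringKrullDim_eq_of_ringEquiv (AlgebraicGeometry.Spec.stalkIso (CommRingCat.of A) (IsLocalRing.closedPoint A)).commRingCatIsoToRingEquiv,
      show ringKrullDim (CommRingCat.of (Localization.AtPrime (IsLocalRing.closedPoint A).asIdeal)) =
        (IsLocalRing.closedPoint A).asIdeal.height from IsLocalization.AtPrime.ringKrullDim_eq_height _ _]
    show ((IsLocalRing.maximalIdeal A).height : WithBot ℕ∞) = 2
    rw [IsLocalRing.maximalIdeal_height_eq_ringKrullDim, hA]
  have hI : Curv2.idealSheaf A (IsLocalRing.maximalIdeal A) = PointBlowUp.ptIdeal hc := by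
    rw [← PointBlowUp.ker_residue, RedSepLib.ker_eq_vanishingIdeal]
    refine congrArg Scheme.IdealSheafData.vanishingIdeal (Closeds.ext ?_)
    show closure (Set.range (Spec.map (CommRingCat.ofHom (IsLocalRing.residue A)))) = {IsLocalRing.closedPoint A}
    have : Set.range (Spec.map (CommRingCat.ofHom (IsLocalRing.residue A))) = {IsLocalRing.closedPoint A} := by
      ext p
      constructor
      · rintro ⟨v, rfl⟩
        rw [Subsingleton.elim v (IsLocalRing.closedPoint (IsLocalRing.ResidueField A))]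
        exact IsLocalRing.comap_closedPoint (IsLocalRing.residue A)
      · rintro rfl
        exact ⟨IsLocalRing.closedPoint (IsLocalRing.ResidueField A), IsLocalRing.comap_closedPoint (IsLocalRing.residue A)⟩
    rw [this, hc.closure_eq]
  rw [hI] at hb hM ⊢
  let E := BlowUp.exceptional b (PointBlowUp.ptIdeal hc)
  obtain ⟨e, -, -⟩ := PointBlowUp.exceptional_point hc hd b hb
  haveI := RegExt.isIntegral_projSpace 1 ((Spec (CommRingCat.of A)).residueField (IsLocalRing.closedPoint A))
  haveI : Nonempty X := ⟨E.subschemeι (e.hom (genericPoint _))⟩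
  obtain ⟨hint, -, -⟩ := BlowUpFib6.isIntegral_of_isBlowUp hb
  haveI := hint
  haveI : IsProper b := PointBlowUp.isProper hc hb
  haveI : IsLocallyNoetherian X := LocallyOfFiniteType.isLocallyNoetherian b
  haveI : CompactSpace X := QuasiCompact.compactSpace_of_compactSpace b
  haveI : IsNoetherian X := {}
  have hEi : PicF.IsInvertible (ClSub.idealMod E) := M2.isInvertible_idealMod E hb.1
  obtain ⟨eM⟩ := hM
  have hMi : PicF.IsInvertible M := M2.isInvertible_of_tensor_iso_unit M _ eM
  have hMc : PicGrp.cls M hMi = (NumConn10.icl hb.1)⁻¹ :=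
    (PicGrp.cls_inv_eq_cls hEi hMi ⟨M2.tensorComm _ _ ≪≫ eM⟩).symm
  refine ⟨fun L hL => ?_, fun n hn => ⟨fun i => ?_⟩⟩
  · obtain ⟨a, z, hz⟩ := BlowPic10.exists_decomp hc hd b hb hS (PicGrp.cls L hL)
    have ha : a = 1 := eq_one_of_local (IsLocalRing.closedPoint A) (fun U hU => top_le_iff.1 fun (p : PrimeSpectrum A) _ =>
      ((PrimeSpectrum.le_iff_specializes p (IsLocalRing.closedPoint A)).1 (IsLocalRing.le_maximalIdeal p.isPrime.ne_top)).mem_open
        U.2 hU) a
    rw [ha, map_one, one_mul] at hz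
    obtain ⟨n, rfl | rfl⟩ := Int.eq_nat_or_neg z
    · rw [zpow_natCast] at hz
      exact ⟨n, Or.inl (cl_pow_iff hL hEi n hz)⟩
    · rw [zpow_neg, zpow_natCast, ← inv_pow, ← hMc] at hz
      exact ⟨n, Or.inr (cl_pow_iff hL hMi n hz)⟩
  · obtain ⟨j, -, -, hdet⟩ := BlowPic10.exists_curve_detect hc hd b hb
    have h := hdet n (by
      rw [zpow_natCast, show NumConn10.icl hb.1 ^ n = 1 from (pow_eq_one_iff hEi n).2 ⟨i⟩, map_one])
    omega

end Groth.Agent.S7324
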