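import Groth.Statements.S7325
import Groth.Agent.S0234
import Groth.Agent.S2821
import Groth.Agent.Lib.BlowPic10.Basic
import Groth.Agent.Lib.PointBlowUp32.Universal
import Groth.Agent.Lib.EdgeOne28.Inj
import Groth.Agent.Lib.Kunneth22.Proj
import Groth.Agent.Lib.FinCondH13.Components
import Groth.Agent.Lib.LiftFib11.Near
import Groth.Agent.Lib.PicPn.Family
import Groth.Agent.Lib.Twist.UniversalExist
import Groth.Agent.Lib.BlowUpFib6.Basic
import Groth.Agent.Lib.RedSep.Basic

set_option autoImplicit false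
set_option maxHeartbeats 1000000
set_option linter.style.haveILetI false
set_option backward.isDefEq.respectTransparency false
set_option backward.isDefEq.respectTransparency.types false
universe u
open CategoryTheory CategoryTheory.Limits AlgebraicGeometry
open Resolve

namespace Groth.Agent.S7325

open TopologicalSpace Groth.Agent Groth.Agent.M1
open Groth.Agent.BlowPic10 (exists_generic_exceptional exists_cls_eq_zpow)

noncomputable local instance instLawS7325 (Y : Scheme.{u}) : PicGrp.Law Y := M2.law Y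

theorem comap_ptIdeal {Y : Scheme.{u}} (W : Y.Opens) {y : ↥W} (hy : IsClosed ({(y : Y)} : Set Y))
    (hy0 : IsClosed ({y} : Set W)) : (PointBlowUp.ptIdeal hy).comap W.ι = PointBlowUp.ptIdeal (Y := W.toScheme) hy0 := by
  let I := PointBlowUp.ptIdeal hy
  let p := pullback.fst W.ι I.subschemeι
  haveI : IsReduced I.subscheme := RedSepLib.isReduced_vanishingIdeal_subscheme _
  haveI : IsReduced (pullback W.ι I.subschemeι) := isReduced_of_isOpenImmersion (pullback.snd W.ι I.subschemeι)
  show p.ker = _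
  rw [SchImage.ker_eq_vanishingIdeal p]
  refine congrArg Scheme.IdealSheafData.vanishingIdeal (Closeds.ext ?_)
  show closure (Set.range p) = {y}
  have hr : Set.range p = {y} := by
    show Set.range (pullback.fst W.ι I.subschemeι) = _
    rw [Scheme.Pullback.range_fst, Scheme.IdealSheafData.range_subschemeι, PointBlowUp.coe_support_ptIdeal hy]
    ext z
    exact ⟨fun h => Subtype.ext h, fun h => congrArg Subtype.val h⟩
  rw [hr, hy0.closure_eq]

/-- A trivialisation of a restriction gives a generator. -/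
theorem exists_isGen_of_iso {Y X : Scheme.{u}} (j : Y ⟶ X) [IsOpenImmersion j] (L : X.Modules)
    (ι : L.restrict j ≅ Coh.structureModule Y) : ∃ g : Γ(L, j ''ᵁ ⊤), Twist.IsGen L (j ''ᵁ ⊤) g := by
  let g' : Γ(L.restrict j, ⊤) := ι.inv.app ⊤ (one ⊤)
  refine ⟨g', fun V hV => ?_⟩
  obtain ⟨W, rfl⟩ : ∃ W : Y.Opens, j ''ᵁ W = V :=
    ⟨j ⁻¹ᵁ V, by
      rw [Scheme.Hom.image_preimage_eq_opensRange_inf, inf_eq_right]
      exact hV.trans (Scheme.Hom.image_top_eq_opensRange j).le⟩
  have hb : Function.Bijective (ι.inv.app W) := (ConcreteCategory.isIso_iff_bijective _).1 inferInstance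
  have key : ∀ r : Γ(X, j ''ᵁ W), r • mres L hV g' =
      ι.inv.app W ((j.appIso W).hom r : Γ(Coh.structureModule Y, W)) := fun r => by
    rw [show ((j.appIso W).hom r : Γ(Coh.structureModule Y, W)) = (j.appIso W).hom r • one W from
      (mul_one _).symm, Scheme.Modules.Hom.app_smul, ← mres_one (le_top : W ≤ ⊤), app_mres]
    show _ = ((j.appIso W).inv ((j.appIso W).hom r) : Γ(X, j ''ᵁ W)) • mres L (Scheme.Hom.image_mono _ le_top) g'
    rw [Iso.hom_inv_id_apply]
  simp only [key]
  exact hb.comp ((ConcreteCategory.isIso_iff_bijective (j.appIso W).hom).1 inferInstance)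

/-- On a small integral neighbourhood, a class trivial on the exceptional curve comes from below. -/
theorem exists_descend_near {X Y : Scheme.{u}} [IsIntegral Y] [IsNoetherian Y] {y : Y} (hy : IsClosed ({y} : Set Y))
    [IsRegularLocalRing (Y.presheaf.stalk y)] (hdim : ringKrullDim (Y.presheaf.stalk y) = 2) (π : X ⟶ Y)
    (hπ : BlowUp.IsBlowUp π (PointBlowUp.ptIdeal hy)) {M : X.Modules} (hM : PicF.IsInvertible M)
    (htriv : ∀ j : CohB1.ProjSpace 1 (Y.residueField y) ⟶ X, (∀ z, π (j z) = y) →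
      Nonempty ((Scheme.Modules.pullback j).obj M ≅ Coh.structureModule _)) :
    ∃ L : Y.Modules, PicF.IsInvertible L ∧ Nonempty ((Scheme.Modules.pullback π).obj L ≅ M) := by
  haveI : IsProper π := PointBlowUp.isProper hy hπ
  obtain ⟨j, hj, hjr, hdet⟩ := BlowPic10.exists_curve_detect hy hdim π hπ
  haveI := RegExt.isIntegral_projSpace 1 (Y.residueField y)
  haveI : Nonempty X := ⟨j (genericPoint _)⟩
  obtain ⟨hint, -, -⟩ := BlowUpFib6.isIntegral_of_isBlowUp hπ
  haveI := hint
  haveI : IsLocallyNoetherian X := LocallyOfFiniteType.isLocallyNoetherian π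
  haveI : CompactSpace X := QuasiCompact.compactSpace_of_compactSpace π
  haveI : IsNoetherian X := {}
  obtain ⟨η, hη, hE⟩ := exists_generic_exceptional hy hdim π hπ
  let E := BlowUp.exceptional π (PointBlowUp.ptIdeal hy)
  let U : X.Opens := E.support.compl
  let V : Y.Opens := ⟨{y}ᶜ, hy.isOpen_compl⟩
  have hUV : U = π ⁻¹ᵁ V := by
    ext z
    show ¬ z ∈ E.support ↔ π z ≠ y
    rw [PointBlowUp.mem_support_exceptional hy π z]
  haveI := PointBlowUp.isIso_restrict hy hπ
  let M₁ := (Scheme.Modules.restrictFunctor (π ⁻¹ᵁ V).ι).obj M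
  let MV := (Scheme.Modules.pullback (inv (π ∣_ V))).obj M₁
  have hMV : PicF.IsInvertible MV := Twist.isInvertible_pullback _
    (M2.isInvertible_of_iso ((Scheme.Modules.restrictFunctorIsoPullback _).app M).symm (Twist.isInvertible_pullback _ hM))
  obtain ⟨L, hL, ⟨eL⟩⟩ := Groth.Agent.S0234.result Y V MV hMV fun x hx => by
    obtain rfl : x = y := not_not.1 hx
    exact (Groth.Agent.S2821.result _).2
  let W := (Scheme.Modules.pullback π).obj L
  have hW : PicF.IsInvertible W := Twist.isInvertible_pullback π hL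
  obtain ⟨eU⟩ : Nonempty ((Scheme.Modules.restrictFunctor U.ι).obj M ≅ (Scheme.Modules.restrictFunctor U.ι).obj W) := by
    rw [hUV]
    refine ⟨?_⟩
    symm
    exact (Scheme.Modules.restrictFunctorIsoPullback _).app W ≪≫ (Scheme.Modules.pullbackComp (π ⁻¹ᵁ V).ι π).app L ≪≫
      (Scheme.Modules.pullbackCongr (morphismRestrict_ι π V).symm).app L ≪≫
      ((Scheme.Modules.pullbackComp (π ∣_ V) V.ι).app L).symm ≪≫
      (Scheme.Modules.pullback (π ∣_ V)).mapIso (((Scheme.Modules.restrictFunctorIsoPullback V.ι).app L).symm ≪≫ eL) ≪≫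
      (Scheme.Modules.pullbackComp (π ∣_ V) (inv (π ∣_ V))).app M₁ ≪≫
      (Scheme.Modules.pullbackCongr (IsIso.hom_inv_id (π ∣_ V))).app M₁ ≪≫
      (Scheme.Modules.pullbackId _).app M₁
  obtain ⟨D, hD, ⟨eD⟩⟩ := M2.exists_inverse hW
  obtain ⟨n, hn⟩ := exists_cls_eq_zpow hη hπ.1 hE (M2.isInvertible_tensor hM hD)
    (M2.restrictTensorIso U.ι M D ≪≫ M2.tensorIso eU (Iso.refl _) ≪≫ (M2.restrictTensorIso U.ι W D).symm ≪≫
      (Scheme.Modules.restrictFunctor U.ι).mapIso eD)
  rw [← AlgEquiv22.cls_tensor hM hD, ← PicGrp.cls_inv_eq_cls hW hD ⟨eD⟩, mul_inv_eq_iff_eq_mul, mul_comm] at hn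
  have hz : ∀ z, π (j z) = y := fun z => by
    have h : j z ∈ (E.support : Set X) := hjr.le ⟨z, rfl⟩
    exact (PointBlowUp.mem_support_exceptional hy π _).1 h
  have hMj : BlowPic10.pbc j (PicGrp.cls M hM) = 1 := by
    rw [PicGrp.pullHom_cls, PicGrp.cls_eq_one_iff]
    exact htriv j hz
  have hWj : BlowPic10.pbc j (PicGrp.cls W hW) = 1 := by
    rw [show PicGrp.cls W hW = BlowPic10.pbc π (PicGrp.cls L hL) from (PicGrp.pullHom_cls _ _ _ _).symm,
      ← BlowPic10.pbc_comp, hj, BlowPic10.pbc_comp]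
    haveI : Subsingleton (Spec (Y.residueField y)) := inferInstanceAs (Subsingleton (PrimeSpectrum (Y.residueField y)))
    haveI : Nonempty (Spec (Y.residueField y)) := inferInstanceAs (Nonempty (PrimeSpectrum (Y.residueField y)))
    exact (congrArg (BlowPic10.pbc (CohB1.ProjSpace.toSpec 1 (Y.residueField y)))
      (BlowPic10.eq_one_of_subsingleton _)).trans (map_one _)
  rw [hn, map_mul, hWj, one_mul] at hMj
  rw [hdet n hMj, zpow_zero, mul_one] at hn
  exact ⟨L, hL, (PicGrp.cls_eq_cls_iff hW hM).1 hn.symm⟩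

/-- Let X be a Noetherian scheme, ι : E → X a closed immersion which is an exceptional curve of the
first kind, and b : X → X' a contraction of E. Then pullback along b is injective on isomorphism
classes of invertible modules, and an invertible O_X-module L is the pullback of some invertible
O_{X'}-module if and only if ι^* L ≅ O_E. (The published statement is a split short exact sequence 0
→ Pic(X') → Pic(X) → Z → 0 whose second map is the degree on E; this row states the injectivity of
the first map and the description of its image, and does not restate the degree map or the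
splitting.) -/
theorem result {E X X' : Scheme.{u}} [IsNoetherian X] (ι : E ⟶ X) [IsClosedImmersion ι]
    (hE : Models.IsExcCurve ι) (b : X ⟶ X') (hb : Models.IsContractionOf ι b) :
    (∀ L₁ L₂ : X'.Modules, PicF.IsInvertible L₁ → PicF.IsInvertible L₂ →
      Nonempty ((Scheme.Modules.pullback b).obj L₁ ≅ (Scheme.Modules.pullback b).obj L₂) → Nonempty (L₁ ≅ L₂)) ∧
    ∀ L : X.Modules, PicF.IsInvertible L →
      ((∃ L' : X'.Modules, PicF.IsInvertible L' ∧ Nonempty ((Scheme.Modules.pullback b).obj L' ≅ L)) ↔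
        Nonempty ((Scheme.Modules.pullback ι).obj L ≅ Coh.structureModule E)) := by
  obtain ⟨hN, hp, y, hy, hr, hreg, hdim, hbl⟩ := hb
  haveI := hN
  haveI := hp
  haveI := hreg
  have h0 : ∀ V : X'.Opens, Function.Bijective (b.app V) := fun V =>
    Groth.Agent.PointBlowUp.bijective_app b hy hbl hdim V
  haveI : IsIso (ClSub.unitToPush b) := Groth.Agent.EdgeOne28.isIso_unitToPush_of_isIso_app b fun V =>
    (ConcreteCategory.isIso_iff_bijective _).2 (h0 V)
  have hpp : ∀ L : X'.Modules, PicF.IsInvertible L →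
      Nonempty ((Scheme.Modules.pushforward b).obj ((Scheme.Modules.pullback b).obj L) ≅ L) := fun L hL => by
    obtain ⟨L', hL', ⟨e⟩⟩ := M2.exists_inverse hL
    exact ⟨(Scheme.Modules.pushforward b).mapIso (M2.tensorLUnit _).symm ≪≫
      ((Kunneth22.projIso b e).app (Coh.structureModule X)).symm ≪≫
      (M2.tensorR L).mapIso (asIso (ClSub.unitToPush b)).symm ≪≫ M2.tensorLUnit L⟩
  refine ⟨fun L₁ L₂ h₁ h₂ ⟨e⟩ => ?_, fun L hL => ⟨?_, ?_⟩⟩
  · obtain ⟨a₁⟩ := hpp L₁ h₁
    obtain ⟨a₂⟩ := hpp L₂ h₂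
    exact ⟨a₁.symm ≪≫ (Scheme.Modules.pushforward b).mapIso e ≪≫ a₂⟩
  · rintro ⟨L', hL', ⟨e⟩⟩
    obtain ⟨-, k, hk, eP, -⟩ := hE
    haveI := Groth.Agent.RegExt.isIntegral_projSpace 1 k
    haveI : IsReduced E := isReduced_of_isOpenImmersion eP.inv
    have hsub : Set.range (ι ≫ b) ⊆ ((PointBlowUp.ptIdeal hy).support : Set X') := by
      rw [PointBlowUp.coe_support_ptIdeal hy]
      exact hr.le
    haveI := PointBlowUp.isClosedImmersion_residue hy
    have hker : (X'.fromSpecResidueField y).ker ≤ (ι ≫ b).ker := by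
      rw [PointBlowUp.ker_fromSpecResidueField hy]
      have h : (PointBlowUp.ptIdeal hy).comap (ι ≫ b) = ⊥ := by
        rw [← Scheme.IdealSheafData.support_eq_top_iff, Scheme.IdealSheafData.support_comap]
        exact SetLike.coe_injective (Set.eq_univ_of_forall fun z => hsub ⟨z, rfl⟩)
      rw [← Scheme.IdealSheafData.map_bot, ← h]
      exact Scheme.IdealSheafData.le_map_comap _ _
    let φ := IsClosedImmersion.lift (X'.fromSpecResidueField y) (ι ≫ b) hker
    have hφ : φ ≫ X'.fromSpecResidueField y = ι ≫ b := IsClosedImmersion.lift_fac _ _ _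
    let L₀ := (Scheme.Modules.pullback (X'.fromSpecResidueField y)).obj L'
    haveI : Subsingleton (Spec (X'.residueField y)) := inferInstanceAs (Subsingleton (PrimeSpectrum (X'.residueField y)))
    haveI : Nonempty (Spec (X'.residueField y)) := inferInstanceAs (Nonempty (PrimeSpectrum (X'.residueField y)))
    have hL₀ : PicF.IsInvertible L₀ := Twist.isInvertible_pullback _ hL'
    obtain ⟨e₀⟩ := (PicGrp.cls_eq_one_iff hL₀).1 (BlowPic10.eq_one_of_subsingleton _)
    exact ⟨(Scheme.Modules.pullback ι).mapIso e.symm ≪≫ (Scheme.Modules.pullbackComp ι b).app L' ≪≫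
      (Scheme.Modules.pullbackCongr hφ.symm).app L' ≪≫
      ((Scheme.Modules.pullbackComp φ (X'.fromSpecResidueField y)).app L').symm ≪≫
      (Scheme.Modules.pullback φ).mapIso e₀ ≪≫ DMon9.pullOne φ⟩
  · rintro ⟨et⟩
    obtain ⟨η, hη, hηc, hpts⟩ := PointBlowUp.exists_eta hy hbl hdim
    have hrange : b ⁻¹' {y} ⊆ Set.range ι := by
      obtain ⟨-, k, hk, eP, -⟩ := hE
      obtain ⟨g, hg, -⟩ := PointBlowUp.P1_points k
      let j := eP.hom ≫ ι
      have hjy : b (j g) = y := hr.le ⟨eP.hom g, rfl⟩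
      have hjne : ¬ IsClosed ({j g} : Set X) := fun h => hg (by
        have := h.preimage j.continuous
        rwa [← Set.image_singleton, Set.preimage_image_eq _ j.isClosedEmbedding.injective] at this)
      have hjg : j g = η := (hpts _ hjy).2.resolve_right hjne
      intro x hx
      refine ((hpts x hx).1).mem_closed ι.isClosedEmbedding.isClosed_range ?_
      rw [← hjg]
      exact ⟨eP.hom g, rfl⟩
    have key : ∀ s : X', ∃ (U : X'.Opens) (σ : Γ(L, b ⁻¹ᵁ U)), s ∈ U ∧ Twist.IsGen L (b ⁻¹ᵁ U) σ := by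
      intro s
      by_cases hs : s = y
      · subst hs
        haveI : IsDomain (X'.presheaf.stalk s) := (Groth.Agent.S2821.result _).1
        obtain ⟨W, hsW, hWi⟩ := FinCondH13.exists_integral_nhd s
        haveI := hWi
        have hy0 : IsClosed ({⟨s, hsW⟩} : Set W) := by
          have := hy.preimage W.ι.continuous
          convert this
          ext z
          exact ⟨fun h => congrArg Subtype.val h, fun h => Subtype.ext h⟩
        let π := b ∣_ W
        have hπ : BlowUp.IsBlowUp π (PointBlowUp.ptIdeal (Y := W.toScheme) hy0) := by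
          rw [← comap_ptIdeal W (y := ⟨s, hsW⟩) hy hy0]
          exact BlowUpExist.isBlowUp_restrict hbl W
        haveI : IsRegularLocalRing (X'.presheaf.stalk (W.ι ⟨s, hsW⟩)) :=
          (inferInstance : IsRegularLocalRing (X'.presheaf.stalk s))
        haveI : CompactSpace (W : Scheme.{u}) := isCompact_iff_compactSpace.1 (TopologicalSpace.NoetherianSpace.isCompact _)
        haveI : IsLocallyNoetherian (W : Scheme.{u}) := inferInstance
        haveI : IsNoetherian (W : Scheme.{u}) := ⟨⟩
        let es := asIso (W.ι.stalkMap ⟨s, hsW⟩)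
        haveI : IsRegularLocalRing ((W : Scheme.{u}).presheaf.stalk ⟨s, hsW⟩) :=
          IsRegularLocalRing.of_ringEquiv es.commRingCatIsoToRingEquiv
        have hd0 : ringKrullDim ((W : Scheme.{u}).presheaf.stalk ⟨s, hsW⟩) = 2 :=
          (ringKrullDim_eq_of_ringEquiv es.commRingCatIsoToRingEquiv).symm.trans hdim
        let M := (Scheme.Modules.pullback (b ⁻¹ᵁ W).ι).obj L
        have hM : PicF.IsInvertible M := Twist.isInvertible_pullback _ hL
        obtain ⟨N, hN, ⟨eN⟩⟩ := exists_descend_near hy0 hd0 π hπ hM fun j hj => by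
          haveI := Groth.Agent.RegExt.isIntegral_projSpace 1 ((W : Scheme.{u}).residueField ⟨s, hsW⟩)
          let i := j ≫ (b ⁻¹ᵁ W).ι
          have hi : Set.range i ⊆ Set.range ι := by
            rintro _ ⟨z, rfl⟩
            refine hrange ?_
            show b ((b ⁻¹ᵁ W).ι (j z)) = s
            rw [← Scheme.Hom.comp_apply, ← morphismRestrict_ι, Scheme.Hom.comp_apply, hj z]
            rfl
          have hker : ι.ker ≤ i.ker := by
            have h : ι.ker.comap i = ⊥ := by
              rw [← Scheme.IdealSheafData.support_eq_top_iff, Scheme.IdealSheafData.support_comap]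
              refine SetLike.coe_injective (Set.eq_univ_of_forall fun z => ?_)
              show i z ∈ (ι.ker.support : Set X)
              rw [Scheme.Hom.support_ker]
              exact subset_closure (hi ⟨z, rfl⟩)
            exact (Scheme.IdealSheafData.le_map_comap _ _).trans
              ((congrArg (fun I => Scheme.IdealSheafData.map I i) h).trans (Scheme.IdealSheafData.map_bot i)).le
          let φ := IsClosedImmersion.lift ι i hker
          have hφ : φ ≫ ι = j ≫ (b ⁻¹ᵁ W).ι := IsClosedImmersion.lift_fac _ _ _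
          exact ⟨(Scheme.Modules.pullbackComp j (b ⁻¹ᵁ W).ι).app L ≪≫ (Scheme.Modules.pullbackCongr hφ.symm).app L ≪≫
            ((Scheme.Modules.pullbackComp φ ι).app L).symm ≪≫ (Scheme.Modules.pullback φ).mapIso et ≪≫ DMon9.pullOne φ⟩
        obtain ⟨D, hsD, ⟨eD⟩⟩ := hN ⟨s, hsW⟩
        let D' := W.ι ''ᵁ D
        let i := (π ⁻¹ᵁ D).ι ≫ (b ⁻¹ᵁ W).ι
        obtain ⟨σ, hσ⟩ := exists_isGen_of_iso i L ((Scheme.Modules.restrictFunctorIsoPullback i).app L ≪≫
          ((Scheme.Modules.pullbackComp (π ⁻¹ᵁ D).ι (b ⁻¹ᵁ W).ι).app L).symm ≪≫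
          (Scheme.Modules.pullback (π ⁻¹ᵁ D).ι).mapIso eN.symm ≪≫
          (Scheme.Modules.pullbackComp (π ⁻¹ᵁ D).ι π).app N ≪≫
          (Scheme.Modules.pullbackCongr (morphismRestrict_ι π D).symm).app N ≪≫
          ((Scheme.Modules.pullbackComp (π ∣_ D) D.ι).app N).symm ≪≫
          (Scheme.Modules.pullback (π ∣_ D)).mapIso (((Scheme.Modules.restrictFunctorIsoPullback D.ι).app N).symm ≪≫ eD) ≪≫
          DMon9.pullOne _)
        have hle : b ⁻¹ᵁ D' ≤ i ''ᵁ ⊤ := by
          intro z hz
          obtain ⟨w, hw, hwz⟩ := (hz : b z ∈ W.ι ''ᵁ D)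
          have hzW : z ∈ b ⁻¹ᵁ W := show b z ∈ W from hwz ▸ w.2
          refine ⟨⟨⟨z, hzW⟩, show π ⟨z, hzW⟩ ∈ D from ?_⟩, trivial, rfl⟩
          have : π ⟨z, hzW⟩ = w := Subtype.ext ((morphismRestrict_base_coe b W ⟨z, hzW⟩).trans hwz.symm)
          exact this ▸ hw
        exact ⟨D', mres L hle σ, ⟨⟨s, hsW⟩, hsD, rfl⟩, hσ.mres hle⟩
      · haveI := PointBlowUp.isIso_restrict hy hbl
        haveI : Surjective (b ∣_ (⟨{y}ᶜ, hy.isOpen_compl⟩ : X'.Opens)) := inferInstance
        obtain ⟨⟨x, hxV⟩, hx⟩ := (b ∣_ (⟨{y}ᶜ, hy.isOpen_compl⟩ : X'.Opens)).surjective ⟨s, hs⟩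
        have hbx : b x = s := (morphismRestrict_base_coe b _ ⟨x, hxV⟩).symm.trans (congrArg Subtype.val hx)
        obtain ⟨D, g, hxD, hg⟩ := ProjUP.exists_isGen_of_invertible hL x
        obtain ⟨U, -, hsU, hle⟩ := LiftFib11.exists_preimage_le b D s ⊤ trivial fun z hz => by
          rwa [← PointBlowUp.eq_of_ne hy hbl (a := x) (b := z) (hbx.symm ▸ hs) (hbx.trans hz.symm)]
        exact ⟨U, mres L hle g, hsU, hg.mres hle⟩
    choose U σ hsU hσ using key
    obtain ⟨N, hN, ⟨e⟩⟩ := PicPn.exists_descend b h0 (L := L) U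
      (top_le_iff.1 fun s _ => Opens.mem_iSup.2 ⟨s, hsU s⟩) σ hσ
    exact ⟨N, hN, ⟨e.symm⟩⟩

end Groth.Agent.S7325
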