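import Groth.Statements.S7326
import Groth.Agent.Lib.ArInter.Tw

set_option autoImplicit false
universe u
open CategoryTheory CategoryTheory.Limits AlgebraicGeometry
open Models

namespace Groth.Agent.S7326

/-- Let R be a discrete valuation ring with fraction field K, C a smooth proper curve over K with H^0(C,
O_C) = K, X a regular proper model of C, Γ_1, …, Γ_n the irreducible components of the closed fibre
with multiplicities m_i, d = gcd(m_i), and D = Σ (m_i/d) Γ_i the effective Cartier divisor with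
ideal sheaf I_D = Π I(Γ_i)^{m_i/d}. Then O_X(D) (any L with L ⊗ I_D ≅ O_X) has order dividing d in
Pic(X), i.e. L^{⊗ d} ≅ O_X, and the conormal sheaf I_D|_D, an invertible O_D-module, has order
dividing d in Pic(D). -/
theorem result (R : Type u) [CommRing R] [IsDomain R] [IsDiscreteValuationRing R]
    (C X : Scheme.{u}) (f : C ⟶ Spec (CommRingCat.of (FractionRing R))) (p : X ⟶ Spec (CommRingCat.of R))
    (hC : Curve.IsSmoothProperCurve (FractionRing R) C f) (hH0 : IsIso f.appTop)
    (hX : Models.IsRegularProperModel R X p C f)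
    {n : ℕ} (Γ : Fin n → ArSurf.VertComp R (Over.mk p)) (hΓ : Models.IsComponentList R (Over.mk p) Γ)
    (L : X.Modules)
    (hL : ClSub.IsInverseOf L (ClSub.idealMod (∏ i, (Γ i).ι.ker ^ (Models.mult R (Over.mk p) (Γ i) / Models.multGcd R (Over.mk p) Γ)))) :
    Nonempty (CohB1.tensorPow L (Models.multGcd R (Over.mk p) Γ) ≅ Coh.structureModule X) ∧
      Nonempty (CohB1.tensorPow ((Scheme.Modules.pullback
          (∏ i, (Γ i).ι.ker ^ (Models.mult R (Over.mk p) (Γ i) / Models.multGcd R (Over.mk p) Γ)).subschemeι).obj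
          (ClSub.idealMod (∏ i, (Γ i).ι.ker ^ (Models.mult R (Over.mk p) (Γ i) / Models.multGcd R (Over.mk p) Γ))))
          (Models.multGcd R (Over.mk p) Γ) ≅
        Coh.structureModule (∏ i, (Γ i).ι.ker ^ (Models.mult R (Over.mk p) (Γ i) / Models.multGcd R (Over.mk p) Γ)).subscheme) := by
  have hS := Groth.Agent.ArInter.isSurf_of_model hC hX
  have hE := fun i => Groth.Agent.ArInter.isEffCartierIdeal_component hS.pre hX.2.2 hΓ i
  obtain ⟨π, hπ⟩ := IsDiscreteValuationRing.exists_irreducible R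
  obtain ⟨a, Q, hZ, hQ, -, hno⟩ := Groth.Agent.ArInter.exists_decomp hS.pre hπ Γ hE hΓ.1
  obtain rfl := Groth.Agent.ArInter.eq_top_of_cover hS.pre hπ Γ hE
    (Groth.Agent.ArInter.cover_of_isComponentList hΓ) hZ hQ hno
  have hm := Groth.Agent.ArInter.mult_eq hS.pre hπ Γ hE hΓ.1 hZ hno
  rw [Groth.Agent.SecDiv.mul_top'] at hZ
  let d := Models.multGcd R (Over.mk p) Γ
  let b : Fin n → ℕ := fun i => Models.mult R (Over.mk p) (Γ i) / d
  let D : X.IdealSheafData := ∏ i, (Γ i).ι.ker ^ b i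
  have hD : BlowUp.IsEffCartierIdeal D :=
    Groth.Agent.ArInter.isEffCartierIdeal_finsetProd (X := Over.mk p) _ b hE Finset.univ
  have hpow : D ^ d = Groth.Agent.ArInter.fibreIdeal (Over.mk p) π := by
    rw [hZ, ← Finset.prod_pow]
    refine Finset.prod_congr rfl fun i _ => ?_
    have hdvd : d ∣ Models.mult R (Over.mk p) (Γ i) := Finset.gcd_dvd (Finset.mem_univ i)
    rw [← pow_mul, show b i * d = a i from (Nat.div_mul_cancel hdvd).trans (hm i)]
  obtain ⟨f₀⟩ := Groth.Agent.ArInter.nonempty_idealMod_fibreIdeal hS.pre hπ.ne_zero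
  obtain ⟨j⟩ := Groth.Agent.CurveCoh17.nonempty_idealMod_pow hD d
  let eD : CohB1.tensorPow (ClSub.idealMod D) d ≅ Coh.structureModule X :=
    j ≪≫ eqToIso (congrArg ClSub.idealMod hpow) ≪≫ f₀.symm
  obtain ⟨e⟩ := Groth.Agent.ArInter.isInverseOf_pow hD hL d
  exact ⟨⟨(Groth.Agent.M2.tensorRUnit _).symm ≪≫
      Groth.Agent.M2.tensorIso (Iso.refl _) (f₀ ≪≫ eqToIso (congrArg ClSub.idealMod hpow.symm)) ≪≫ e⟩,
    ⟨(Groth.Agent.M2.pullTensorPowIso D.subschemeι (ClSub.idealMod D) d).symm ≪≫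
      (Scheme.Modules.pullback D.subschemeι).mapIso eD ≪≫ PicLoc.pullbackStructureIso D.subschemeι⟩⟩

end Groth.Agent.S7326
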