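import Groth.Statements.S7327
import Groth.Agent.Lib.NormRed14.OffFibre
import Groth.Agent.Lib.NormFin18.Generic

set_option autoImplicit false
set_option backward.isDefEq.respectTransparency false
universe u
open CategoryTheory CategoryTheory.Limits AlgebraicGeometry TensorProduct
open Resolve

namespace Groth.Agent.S7327

/-- The local rings of `Spec C` agree with those of a scheme into which it maps by an open immersion. -/
theorem isDomain_localization_of_isOpenImmersion {Y : Scheme.{u}} {C : Type u} [CommRing C]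
    (w : Spec (CommRingCat.of C) ⟶ Y) [IsOpenImmersion w] (P : Ideal C) [P.IsPrime]
    (h : IsDomain (Y.presheaf.stalk (w (⟨P, inferInstance⟩ : PrimeSpectrum C)))) :
    IsDomain (Localization.AtPrime P) := by
  let p : Spec (CommRingCat.of C) := (⟨P, inferInstance⟩ : PrimeSpectrum C)
  have e₁ : Y.presheaf.stalk (w p) ≅ (Spec (CommRingCat.of C)).presheaf.stalk p := asIso (w.stalkMap p)
  let e₂ : Localization.AtPrime P ≃+* (Spec (CommRingCat.of C)).presheaf.stalk p :=
    (StructureSheaf.stalkIso C (⟨P, inferInstance⟩ : PrimeSpectrum C)).toRingEquiv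
  haveI : IsDomain (Y.presheaf.stalk (w p)) := h
  exact (e₂.trans e₁.commRingCatIsoToRingEquiv.symm).toMulEquiv.isDomain

/-- Let (A, m) be a Noetherian local ring with completion A^, f : X → Spec A a morphism locally of
finite type with X integral, and Y = X ×_{Spec A} Spec(A^). If the complement of the closed fibre in Y
is normal, then the normalization morphism of X is finite. -/
theorem result (A : Type u) [CommRing A] [IsLocalRing A] [IsNoetherianRing A]
    (X : Scheme.{u}) [IsIntegral X] (f : X ⟶ Spec (CommRingCat.of A)) [LocallyOfFiniteType f]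
    [QuasiCompact (X.fromSpecStalk (genericPoint X))] [QuasiSeparated (X.fromSpecStalk (genericPoint X))]
    (hY : ∀ y : ↥(Curv2.bcCpl A f), (Curv2.bcCplSnd A f).base y ≠ IsLocalRing.closedPoint (Curv2.cpl A) →
      IsDomain ((Curv2.bcCpl A f).presheaf.stalk y) ∧ IsIntegrallyClosed ((Curv2.bcCpl A f).presheaf.stalk y)) :
    IsFinite (Curv2.normalizationι X) := by
  have hg : X.fromSpecStalk (genericPoint X) =
      Spec.map (CommRingCat.ofHom (RingHom.id X.functionField)) ≫ X.fromSpecStalk (genericPoint X) := by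
    rw [CommRingCat.ofHom_id, Spec.map_id]; exact (Category.id_comp _).symm
  let g : Spec (CommRingCat.of X.functionField) ⟶ X := X.fromSpecStalk (genericPoint X)
  haveI : QuasiCompact g := ‹QuasiCompact (X.fromSpecStalk (genericPoint X))›
  haveI : QuasiSeparated g := ‹QuasiSeparated (X.fromSpecStalk (genericPoint X))›
  refine Groth.Agent.NormFin18.isFinite_fromNormalization_of_finite (g := g) hg fun V hV hA => ?_
  haveI hne : Nonempty V := ⟨⟨_, Groth.Agent.CurveNF.generic_mem hV⟩⟩
  haveI := functionField_isFractionRing_of_isAffineOpen X V hA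
  let a : CommRingCat.of A ⟶ Γ(Spec (CommRingCat.of A), ⊤) := (Scheme.ΓSpecIso (CommRingCat.of A)).inv
  letI : Algebra A Γ(X, V) := ((f.appLE ⊤ V le_top).hom.comp a.hom).toAlgebra
  haveI : Algebra.FiniteType A Γ(X, V) :=
    (f.finiteType_appLE (isAffineOpen_top _) hA le_top).comp
      (RingHom.FiniteType.of_surjective _
        (Scheme.ΓSpecIso (CommRingCat.of A)).commRingCatIsoToRingEquiv.symm.surjective)
  have hf : hA.fromSpec ≫ f = Spec.map (CommRingCat.ofHom (algebraMap A Γ(X, V))) := by
    rw [← IsAffineOpen.SpecMap_appLE_fromSpec f (isAffineOpen_top _) hA le_top, IsAffineOpen.fromSpec_top,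
      Scheme.isoSpec_Spec_inv, ← Spec.map_comp]
    rfl
  let q := Spec.map (CommRingCat.ofHom (algebraMap A (Curv2.cpl A)))
  let w₀ : pullback (Spec.map (CommRingCat.ofHom (algebraMap A Γ(X, V)))) q ⟶ pullback f q :=
    pullback.map _ _ _ _ hA.fromSpec (𝟙 _) (𝟙 _) (by rw [Category.comp_id, hf])
      (by rw [Category.comp_id, Category.id_comp])
  haveI : IsOpenImmersion w₀ :=
    MorphismProperty.pullbackMap (P := @IsOpenImmersion) (f := Spec.map (CommRingCat.ofHom (algebraMap A Γ(X, V))))
      (g := q) (inferInstanceAs (IsOpenImmersion hA.fromSpec)) (inferInstanceAs (IsOpenImmersion (𝟙 _)))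
      hf.symm (Category.id_comp _).symm
  let w := (pullbackSpecIso A Γ(X, V) (Curv2.cpl A)).inv ≫ w₀
  refine Groth.Agent.NormRed14.finite_integralClosure_of_offFibre A Γ(X, V) (fun P _ ⟨t, htm, htP⟩ => ?_)
    X.functionField
  let p : Spec (CommRingCat.of (Γ(X, V) ⊗[A] Curv2.cpl A)) := (⟨P, inferInstance⟩ : PrimeSpectrum _)
  refine isDomain_localization_of_isOpenImmersion w P (hY (w p) fun hcl => htP ?_).1
  have hws : w ≫ Curv2.bcCplSnd A f =
      Spec.map (CommRingCat.ofHom ((Algebra.TensorProduct.includeRight :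
        Curv2.cpl A →ₐ[A] Γ(X, V) ⊗[A] Curv2.cpl A).toRingHom)) := by
    rw [Category.assoc, pullback.lift_snd, Category.comp_id, pullbackSpecIso_inv_snd]
    rfl
  have h1 : (Curv2.bcCplSnd A f).base (w p) = (Spec.map (CommRingCat.ofHom
      ((Algebra.TensorProduct.includeRight :
        Curv2.cpl A →ₐ[A] Γ(X, V) ⊗[A] Curv2.cpl A).toRingHom))).base p := by
    rw [← hws]; rfl
  have ht : algebraMap A (Curv2.cpl A) t ∈ IsLocalRing.maximalIdeal (Curv2.cpl A) := by
    have h := Groth.Agent.CplLocH7.maximalIdeal_cpl A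
    rw [h]; exact Ideal.mem_map_of_mem _ htm
  rw [← AlgHom.commutes (Algebra.TensorProduct.includeRight :
    Curv2.cpl A →ₐ[A] Γ(X, V) ⊗[A] Curv2.cpl A) t]
  have h2 : IsLocalRing.maximalIdeal (Curv2.cpl A) = P.comap ((Algebra.TensorProduct.includeRight :
      Curv2.cpl A →ₐ[A] Γ(X, V) ⊗[A] Curv2.cpl A).toRingHom) :=
    congrArg PrimeSpectrum.asIdeal (hcl.symm.trans h1)
  rw [h2] at ht
  exact ht

end Groth.Agent.S7327
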