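import Groth.Statements.S7338
import Groth.Agent.Lib.ModR1_32.Main
import Groth.Agent.Lib.RelMin32.Basic
import Groth.Agent.Lib.Fibration13.Basic

set_option autoImplicit false
set_option maxHeartbeats 1000000
set_option linter.style.haveILetI false
set_option backward.isDefEq.respectTransparency false
universe u
open CategoryTheory CategoryTheory.Limits AlgebraicGeometry
open Resolve

namespace Groth.Agent.S7338

/-- Let (A, m) be a Noetherian normal local domain of dimension two, and X, X' integral schemes proper
over Spec A, each an isomorphism over some nonempty open of Spec A (modifications), with X normal,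
and g : X' → X a morphism over Spec A. Then R^1 g_* O_{X'} is generated by global sections and its
support is a finite set of closed points of X, and there is a short exact sequence 0 → H^1(X, O_X) →
H^1(X', O_{X'}) → H^0(X, R^1 g_* O_{X'}) → 0, recorded here as the additivity of A-lengths. (R^1 g_*
is the right derived functor of g_* on O-modules; that O_{X'}-modules have injective resolutions is
carried as an instance hypothesis.) -/
theorem result (A : Type u) [CommRing A] [IsDomain A] [IsLocalRing A] [IsNoetherianRing A]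
    [IsIntegrallyClosed A] (hdim : ringKrullDim A = 2)
    (X X' : Scheme.{u}) [X.Over (Spec (CommRingCat.of A))] [X'.Over (Spec (CommRingCat.of A))]
    [IsProper (X ↘ Spec (CommRingCat.of A))] [IsProper (X' ↘ Spec (CommRingCat.of A))] [IsIntegral X] [IsIntegral X']
    (hX : ∃ U : (Spec (CommRingCat.of A)).Opens, (U : Set (Spec (CommRingCat.of A))).Nonempty ∧ IsIso ((X ↘ Spec (CommRingCat.of A)) ∣_ U))
    (hX' : ∃ U : (Spec (CommRingCat.of A)).Opens, (U : Set (Spec (CommRingCat.of A))).Nonempty ∧ IsIso ((X' ↘ Spec (CommRingCat.of A)) ∣_ U))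
    (hXn : Pi1.IsNormalScheme X) (g : X' ⟶ X) (hg : g ≫ (X ↘ Spec (CommRingCat.of A)) = X' ↘ Spec (CommRingCat.of A))
    [HasInjectiveResolutions X'.Modules] :
    Curv2.IsGloballyGenerated ((Coh.Rpush g 1).obj (Coh.structureModule X')) ∧
      {x : X | Nontrivial (((Coh.Rpush g 1).obj (Coh.structureModule X')).presheaf.stalk x)}.Finite ∧
      (∀ x : X, Nontrivial (((Coh.Rpush g 1).obj (Coh.structureModule X')).presheaf.stalk x) → IsClosed ({x} : Set X)) ∧
      Module.length A (Coh.HH X' (Coh.structureModule X') 1) =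
        Module.length A (Coh.HH X (Coh.structureModule X) 1) +
          Module.length A (Coh.HH X ((Coh.Rpush g 1).obj (Coh.structureModule X')) 0) := by
  obtain ⟨U, hU, hiso⟩ := hX
  obtain ⟨U', hU', hiso'⟩ := hX'
  haveI := hiso; haveI := hiso'
  let f : X ⟶ Spec (CommRingCat.of A) := X ↘ Spec (CommRingCat.of A)
  haveI : IsLocallyNoetherian X := LocallyOfFiniteType.isLocallyNoetherian f
  haveI : CompactSpace X := QuasiCompact.compactSpace_of_compactSpace f
  haveI : AlgebraicGeometry.IsNoetherian X := {}
  haveI : IsProper g := by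
    haveI : IsProper (g ≫ f) := by rw [hg]; infer_instance
    exact IsProper.of_comp g f
  let V : X.Opens := f ⁻¹ᵁ (U ⊓ U')
  have hV : (V : Set X).Nonempty := by
    refine ⟨genericPoint X, show f (genericPoint X) ∈ U ⊓ U' from ?_⟩
    rw [NormBlow.map_generic f hU]
    exact ⟨CurveBlowUp.generic_mem hU, CurveBlowUp.generic_mem hU'⟩
  haveI : IsIso (g ∣_ V) := by
    haveI : IsIso ((X' ↘ Spec (CommRingCat.of A)) ∣_ (U ⊓ U')) := CurveBlowUp.isIso_restrict_of_le _ inf_le_right
    haveI : IsIso (f ∣_ (U ⊓ U')) := CurveBlowUp.isIso_restrict_of_le f inf_le_left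
    haveI : IsIso ((g ≫ f) ∣_ (U ⊓ U')) := by rw [hg]; infer_instance
    have e := morphismRestrict_comp g f (U ⊓ U')
    haveI : IsIso ((g ∣_ V) ≫ (f ∣_ (U ⊓ U'))) := e ▸ ‹IsIso ((g ≫ f) ∣_ (U ⊓ U'))›
    exact IsIso.of_isIso_comp_right _ (f ∣_ (U ⊓ U'))
  have hd : ∀ s : Spec (CommRingCat.of A), ringKrullDim ((Spec (CommRingCat.of A)).presheaf.stalk s) ≤ 2 := fun s =>
    (VB17.ringKrullDim_stalk_le_topologicalKrullDim s).trans
      ((PrimeSpectrum.topologicalKrullDim_eq_ringKrullDim A).trans_le hdim.le)
  have hdimX : ∀ x : X, ringKrullDim (X.presheaf.stalk x) ≤ 2 := fun x => by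
    obtain ⟨c, hc, hcc⟩ := (isClosed_closure (s := ({x} : Set X))).exists_closed_singleton ⟨x, subset_closure rfl⟩
    by_cases hxc : x = c
    · subst hxc
      exact NormBlow.dim_closed_le f hU hcc hd
    · exact (DivDesc12.ringKrullDim_stalk_lt (specializes_iff_mem_closure.2 hc) hxc).le.trans (NormBlow.dim_closed_le f hU hcc hd)
  have hηX : ¬ IsClosed ({genericPoint X} : Set X) := fun hc => by
    have hcl := f.isClosedMap _ hc
    rw [Set.image_singleton, NormBlow.map_generic f hU] at hcl
    have hall : ∀ s : Spec (CommRingCat.of A), s = genericPoint (Spec (CommRingCat.of A)) := fun s =>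
      (genericPoint_specializes s).mem_closed hcl rfl
    have h1 : IsLocalRing.maximalIdeal A = ⊥ :=
      congrArg PrimeSpectrum.asIdeal
        ((hall ⟨IsLocalRing.maximalIdeal A, inferInstance⟩).trans (hall ⟨⊥, Ideal.isPrime_bot⟩).symm)
    have h0 := ringKrullDim_eq_zero_of_isField ((IsLocalRing.isField_iff_maximalIdeal_eq).2 h1)
    rw [hdim] at h0
    exact absurd h0 (by norm_num)
  let P := Scheme.Modules.pushforward g
  let S : ShortComplex X'.Modules :=
    ShortComplex.mk (Injective.ι (Coh.structureModule X')) (cokernel.π _) (cokernel.condition _)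
  have hS : S.ShortExact :=
    { exact := ShortComplex.exact_of_g_is_cokernel _ (cokernelIsCokernel _)
      mono_f := inferInstanceAs (Mono (Injective.ι (Coh.structureModule X')))
      epi_g := inferInstanceAs (Epi (cokernel.π (Injective.ι (Coh.structureModule X')))) }
  have hI : Injective S.X₂ := inferInstanceAs (Injective (Injective.under (Coh.structureModule X')))
  haveI := hI
  haveI : PreservesLimitsOfSize.{0, 0} P :=
    (Scheme.Modules.pullbackPushforwardAdjunction g).rightAdjoint_preservesLimits
  haveI : P.Additive := inferInstance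
  obtain ⟨e⟩ := FormalModH7.nonempty_rightDerived_one_iso_cokernel (G := P) hS
    (Functor.isZero_rightDerived_obj_injective_succ P 0 S.X₂)
  let R := cokernel (P.map S.g)
  have hbad : ∀ x, x ∉ ModR1.bad g → Subsingleton ↑(R.presheaf.stalk x) := fun x hx =>
    ModR1.subsingleton_stalk g hV hdimX hS (RegRat.isQCoh_structureModule X') hx
  have hfin := ModR1.finite_bad g hV hdimX hηX
  have hgg := ModR1.isGloballyGenerated_of_finite_support R (ModR1.bad g) hfin (fun x hx => hx.1) hbad
  have hsupp : ∀ x, Nontrivial (((Coh.Rpush g 1).obj (Coh.structureModule X')).presheaf.stalk x) →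
      x ∈ ModR1.bad g := fun x hx => by
    by_contra hxb
    haveI := hx
    exact not_subsingleton _
      (@Equiv.subsingleton _ _ (((Scheme.Modules.toPresheaf X) ⋙ TopCat.Presheaf.stalkFunctor _ x).mapIso e).addCommGroupIsoToAddEquiv.toEquiv
        (hbad x hxb) :
        Subsingleton ↑(((Coh.Rpush g 1).obj (Coh.structureModule X')).presheaf.stalk x))
  -- `g_* O = O`
  obtain ⟨hgen, hbir⟩ := RelMin.birational_of_restrict g hV
  haveI := hbir
  have hspec : g.base (genericPoint X') ⤳ genericPoint X := specializes_of_eq hgen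
  have hb : ∀ T : X.Opens, Function.Bijective (g.app T) := fun T =>
    Fibration13.bijective_app_of_birational g hXn hspec (by
      rw [CohIII.stalkToFunctionField, RingHom.coe_comp]
      haveI : IsIso (X.presheaf.stalkSpecializes hspec) :=
        (X.presheaf.stalkCongr (.of_eq hgen.symm)).isIso_hom
      exact (ConcreteCategory.bijective_of_isIso (g.stalkMap (genericPoint X'))).comp
        (ConcreteCategory.bijective_of_isIso (X.presheaf.stalkSpecializes hspec))) T
  haveI : IsIso (ClSub.unitToPush g) := Twist.isIso_of_bijective_app _ fun T => hb T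
  let eO : Coh.structureModule X ≅ P.obj S.X₁ := asIso (ClSub.unitToPush g)
  have hH2 : Subsingleton (Coh.HH X (P.obj S.X₁) 2) := by
    haveI := RegRat.subsingleton_HH_two_le A hdim.le X f ⟨U, hU, hiso⟩ (Coh.structureModule X)
      (RegRat.isQCoh_structureModule X) 2 le_rfl
    exact (CurveCoh17.hequiv A eO 2).symm.toEquiv.subsingleton
  obtain ⟨ι, p, hp⟩ := hgg
  refine ⟨⟨ι, p ≫ e.inv, epi_comp _ _⟩, hfin.subset hsupp, fun x hx => (hsupp x hx).1, ?_⟩
  rw [ModR1.length_eq g A hg hS rfl hI hH2, (CurveCoh17.hequiv A eO 1).length_eq,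
    (CurveCoh17.hequiv A e 0).length_eq]

end Groth.Agent.S7338
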