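import Groth.Statements.S7339
import Groth.Agent.S0844
import Groth.Agent.Lib.BlowPic10.Basic
import Groth.Agent.Lib.CMReg18.Proj
import Groth.Agent.Lib.CMReg18.Vanish
import Groth.Agent.Lib.CurveCoh17.Twist
import Groth.Agent.Lib.PicPn.Main
import Groth.Agent.Lib.AffStratVan4.Support
import Groth.Agent.Lib.PBK5.Basic
import Groth.Agent.Lib.LiftFib11.HomLift
import Groth.Agent.Lib.Kunneth22.Proj
import Groth.Agent.Lib.HypSq10.Curve
import Groth.Agent.Lib.AlgEquiv22.Basic

set_option autoImplicit false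
set_option maxHeartbeats 1000000
set_option linter.style.haveILetI false
set_option backward.isDefEq.respectTransparency false
set_option backward.isDefEq.respectTransparency.types false
universe u
open CategoryTheory CategoryTheory.Limits AlgebraicGeometry
open Resolve

namespace Groth.Agent.S7339

open Groth.Agent
open Groth.Agent.HypSq10 (cls_pow_eq)

noncomputable local instance instLawS7339 (Y : Scheme.{u}) : PicGrp.Law Y := M2.law Y

theorem cls_twist {R : Type u} [Field R] (a : ℤ) :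
    PicGrp.cls _ ((CMReg18.projData R 1).inv a) = PicGrp.cls _ ((CMReg18.projData R 1).inv 1) ^ a := by
  let D := CMReg18.projData R 1
  let φ : Multiplicative ℤ →* PicLoc.PicSet (CohB1.ProjSpace 1 R) :=
    { toFun := fun n => PicGrp.cls _ (D.inv n.toAdd)
      map_one' := by
        show PicGrp.cls _ (D.inv 0) = 1
        rw [(PicGrp.cls_eq_cls_iff (D.inv 0) (PicLoc.isInvertible_structureModule _)).2 ⟨D.zero⟩,
          PicGrp.cls_structureModule_eq_one]
      map_mul' := fun i j => by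
        show PicGrp.cls _ (D.inv (i.toAdd + j.toAdd)) = PicGrp.cls _ (D.inv i.toAdd) * PicGrp.cls _ (D.inv j.toAdd)
        rw [AlgEquiv22.cls_tensor]
        exact (PicGrp.cls_eq_cls_iff (D.inv _) (M2.isInvertible_tensor (D.inv i.toAdd) (D.inv j.toAdd))).2
          ⟨(D.add _ _).symm⟩ }
  have h := map_zpow φ (Multiplicative.ofAdd 1) a
  rw [show (Multiplicative.ofAdd (1 : ℤ)) ^ a = Multiplicative.ofAdd a from by rw [← ofAdd_zsmul, smul_eq_mul, mul_one]] at h
  exact h

theorem eq_of_cls {R : Type u} [Field R] {a b : ℤ}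
    (h : PicGrp.cls _ ((CMReg18.projData R 1).inv a) = PicGrp.cls _ ((CMReg18.projData R 1).inv b)) : a = b := by
  obtain ⟨φ⟩ := (PicGrp.cls_eq_cls_iff _ _).1 h
  exact PicPn.twist_injective (R := R) Nat.one_pos φ

/-- An isomorphism of projective lines pulls `O(1)` back to `O(1)`. -/
theorem nonempty_pullback_one {k k' : Type u} [Field k] [Field k'] (φ : CohB1.ProjSpace 1 k ≅ CohB1.ProjSpace 1 k') :
    Nonempty ((Scheme.Modules.pullback φ.hom).obj (Twist.twistProjSpace 1 k' 1) ≅ Twist.twistProjSpace 1 k 1) := by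
  let D := CMReg18.projData k 1
  let D' := CMReg18.projData k' 1
  obtain ⟨d, ⟨a⟩⟩ := PicPn.exists_iso_twist (n := 1) (R := k) (Twist.isInvertible_pullback φ.hom (D'.inv 1))
  obtain ⟨d', ⟨a'⟩⟩ := PicPn.exists_iso_twist (n := 1) (R := k') (Twist.isInvertible_pullback φ.inv (D.inv 1))
  have h1 : BlowPic10.pbc φ.hom (PicGrp.cls _ (D'.inv 1)) = PicGrp.cls _ (D.inv 1) ^ d := by
    rw [PicGrp.pullHom_cls, ← cls_twist]
    exact (PicGrp.cls_eq_cls_iff _ _).2 ⟨a⟩
  have h2 : BlowPic10.pbc φ.inv (PicGrp.cls _ (D.inv 1)) = PicGrp.cls _ (D'.inv 1) ^ d' := by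
    rw [PicGrp.pullHom_cls, ← cls_twist]
    exact (PicGrp.cls_eq_cls_iff _ _).2 ⟨a'⟩
  have h3 := congrArg (BlowPic10.pbc φ.inv) h1
  rw [map_zpow, h2, ← BlowPic10.pbc_comp, φ.inv_hom_id, ← zpow_mul, ← cls_twist, PicGrp.pullHom_cls] at h3
  have hdd : d' * d = 1 := (eq_of_cls (((PicGrp.cls_eq_cls_iff _ _).2
    ⟨(Scheme.Modules.pullbackId _).app (D'.O 1)⟩).symm.trans h3)).symm
  rcases Int.eq_one_or_neg_one_of_mul_eq_one hdd with rfl | rfl
  · obtain rfl : d = 1 := by omega
    exact ⟨a⟩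
  · obtain rfl : d = -1 := by omega
    exfalso
    have h0 := Groth.Agent.S0844.result k 1 (-1) 0 (fun h => absurd h.2 (by decide)) (fun h => absurd h.1 (by decide))
    have hs := PBK5.subsingleton_HH_iso φ.inv _ 0 h0
    have e : (Scheme.Modules.pullback φ.inv).obj (Twist.twistProjSpace 1 k (-1)) ≅ D'.O 1 :=
      (Scheme.Modules.pullback φ.inv).mapIso a.symm ≪≫ (Scheme.Modules.pullbackComp φ.inv φ.hom).app _ ≪≫
        (Scheme.Modules.pullbackCongr φ.inv_hom_id).app _ ≪≫ (Scheme.Modules.pullbackId _).app _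
    haveI hs1 : Subsingleton (Coh.HH _ (D'.O 1) 0) := LiftFib11.subsingleton_HH_of_iso e hs
    have hsub : Subsingleton Γ(D'.O 1, (⊤ : (CohB1.ProjSpace 1 k').Opens)) := (CurveCoh17.hh0 (D'.O 1)).symm.toEquiv.subsingleton
    haveI := RegExt.isIntegral_projSpace 1 k'
    obtain ⟨j, hj⟩ := D'.gen (genericPoint (CohB1.ProjSpace 1 k'))
    have hz : D'.sec j = 0 := by
      show M1.secHom _ = 0
      let q : Γ(D'.O 1, (⊤ : (CohB1.ProjSpace 1 k').Opens)) :=
        Twist.gsec (CohB1.polyGrading 1 k') (d := 1) ⟨MvPolynomial.X j, ProjSpace.X_mem' 1 k' j⟩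
      exact (congrArg M1.secHom (hsub.elim q ((0 : D'.O 1 ⟶ D'.O 1).app ⊤ q))).trans
        ((M1.secHom_comp q (0 : D'.O 1 ⟶ D'.O 1)).symm.trans comp_zero)
    rw [hz, Amp.mem_genLocus_iff (D'.inv 1),
      show Amp.gval (0 : Coh.structureModule (CohB1.ProjSpace 1 k') ⟶ D'.O 1) = 0 from rfl, Amp.gm, map_zero] at hj
    exact one_ne_zero (hj.1 ((smul_zero (1 : (CohB1.ProjSpace 1 k').presheaf.stalk _)).trans (smul_zero 0).symm))

/-- Let X be a Noetherian scheme, ι : E → X a closed immersion which is an exceptional curve of the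
first kind, with ideal sheaf I and M = O_X(E) an inverse of I for the tensor product, and L an
invertible O_X-module whose pullback to E ≅ P^1_k (for some field k and isomorphism e : P^1_k ≅ E)
is isomorphic to O(n). If H^1(X, L) = 0 and n ≥ 0, then H^1(X, L(iE)) = 0 for 0 ≤ i ≤ n + 1, where
L(iE) = L ⊗ M^{⊗ i}. (The published statement also asserts, for n ≤ 0, that H^1(X, L) → H^1(X, L(E))
is injective; this row states only the vanishing for n ≥ 0.) -/
theorem result {E X : Scheme.{u}} [IsNoetherian X] (ι : E ⟶ X) [IsClosedImmersion ι]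
    (hE : Models.IsExcCurve ι) (M : X.Modules) (hM : ClSub.IsInverseOf M (ClSub.idealMod ι.ker))
    (L : X.Modules) (hL : PicF.IsInvertible L)
    (k : Type u) [Field k] (e : CohB1.ProjSpace 1 k ≅ E) (n : ℕ)
    (hn : Nonempty ((Scheme.Modules.pullback (e.hom ≫ ι)).obj L ≅ Twist.twistProjSpace 1 k (n : ℤ)))
    (h1 : Subsingleton (Coh.HH X L 1)) (i : ℕ) (hi : i ≤ n + 1) :
    Subsingleton (Coh.HH X (CohB1.tensorMod L (CohB1.tensorPow M i)) 1) := by
  classical
  obtain ⟨hI, k', hk', e', ⟨eI'⟩⟩ := hE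
  obtain ⟨eφ⟩ := nonempty_pullback_one (e ≪≫ e'.symm)
  obtain ⟨eM⟩ := hM
  obtain ⟨eL⟩ := hn
  let c := e.hom ≫ ι
  have hc : (e ≪≫ e'.symm).hom ≫ (e'.hom ≫ ι) = c := by simp [c]
  have eI : (Scheme.Modules.pullback c).obj (ClSub.idealMod ι.ker) ≅ Twist.twistProjSpace 1 k 1 :=
    (Scheme.Modules.pullbackCongr hc.symm).app _ ≪≫ ((Scheme.Modules.pullbackComp _ _).app _).symm ≪≫
      (Scheme.Modules.pullback _).mapIso eI' ≪≫ eφ
  have hIi : PicF.IsInvertible (ClSub.idealMod ι.ker) := M2.isInvertible_idealMod _ hI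
  have hMi : PicF.IsInvertible M := M2.isInvertible_of_tensor_iso_unit M _ eM
  have hMc : PicGrp.cls M hMi = (PicGrp.cls _ hIi)⁻¹ :=
    (PicGrp.cls_inv_eq_cls hIi hMi ⟨M2.tensorComm _ _ ≪≫ eM⟩).symm
  let T := PicGrp.cls _ ((CMReg18.projData k 1).inv 1)
  have hcI : BlowPic10.pbc c (PicGrp.cls _ hIi) = T := by
    rw [PicGrp.pullHom_cls]
    exact (PicGrp.cls_eq_cls_iff _ _).2 ⟨eI⟩
  have hcL : BlowPic10.pbc c (PicGrp.cls L hL) = T ^ (n : ℤ) := by
    rw [PicGrp.pullHom_cls, ← cls_twist]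
    exact (PicGrp.cls_eq_cls_iff _ _).2 ⟨eL⟩
  let g : CohB1.ProjSpace 1 k ⟶ ι.ker.subscheme := e.hom ≫ ι.toImage
  have hg : g ≫ ι.ker.subschemeι = c := by simp [g, c]
  letI : X.Over (Spec (CommRingCat.of (ULift.{u} ℤ))) := ⟨specULiftZIsTerminal.from X⟩
  induction i with
  | zero =>
    exact LiftFib11.subsingleton_HH_of_iso (M2.tensorRUnit L).symm h1
  | succ i ih =>
    let N := CohB1.tensorMod L (CohB1.tensorPow M (i + 1))
    have hP := M2.isInvertible_tensorPow hMi (i + 1)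
    have hN : PicF.IsInvertible N := M2.isInvertible_tensor hL hP
    have hPi := M2.isInvertible_tensorPow hMi i
    obtain ⟨e1⟩ := (PicGrp.cls_eq_cls_iff (M2.isInvertible_tensor hL hPi) (M2.isInvertible_tensor hIi hN)).1 (by
      rw [← AlgEquiv22.cls_tensor hL hPi, ← AlgEquiv22.cls_tensor hIi hN, ← AlgEquiv22.cls_tensor hL hP,
        cls_pow_eq hMi, cls_pow_eq hMi, hMc, pow_succ]
      rw [mul_left_comm (PicGrp.cls _ hIi) (PicGrp.cls L hL),
        mul_left_comm (PicGrp.cls _ hIi) ((PicGrp.cls _ hIi)⁻¹ ^ i), mul_inv_cancel, mul_one])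
    have hX1 : Subsingleton (Coh.HH X (CohB1.tensorMod (ClSub.idealMod ι.ker) N) 1) :=
      LiftFib11.subsingleton_HH_of_iso e1 (ih (by omega))
    have hq : Subsingleton (Coh.HH X (CohB1.tensorMod (ClSub.quotMod ι.ker) N) 1) := by
      let s := ι.ker.subschemeι
      obtain ⟨N', hN', ⟨eN⟩⟩ := M2.exists_inverse hN
      let P := (Scheme.Modules.pullback s).obj N
      have hPv : PicF.IsInvertible P := Twist.isInvertible_pullback s hN
      refine LiftFib11.subsingleton_HH_of_iso ((Kunneth22.projIso s eN).app (Coh.structureModule _) ≪≫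
        (Scheme.Modules.pushforward s).mapIso (M2.tensorLUnit _)).symm ?_
      refine AffStratVan4.subsingleton_HH_push s P (Twist.isQCoh_of_isInvertible hPv) 1 ?_
      have hgP : BlowPic10.pbc g (PicGrp.cls P hPv) = T ^ ((n : ℤ) - (i + 1 : ℕ)) := by
        rw [show PicGrp.cls P hPv = BlowPic10.pbc s (PicGrp.cls N hN) from (PicGrp.pullHom_cls _ _ _ _).symm,
          ← BlowPic10.pbc_comp, hg, show PicGrp.cls N hN = _ from (AlgEquiv22.cls_tensor hL hP).symm, map_mul,
          cls_pow_eq hMi, map_pow, hMc, map_inv, hcI, hcL, zpow_sub, zpow_natCast T (i + 1), inv_pow]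
      rw [PicGrp.pullHom_cls, ← cls_twist] at hgP
      obtain ⟨eP⟩ := (PicGrp.cls_eq_cls_iff _ _).1 hgP
      have h0 := Groth.Agent.S0844.result k 1 ((n : ℤ) - (i + 1 : ℕ)) 1 (fun h => absurd h.1 (by decide))
        (fun h => by have := h.2; push_cast at this; omega)
      haveI : IsIso g := inferInstance
      have h1 := PBK5.subsingleton_HH_iso (inv g) _ 1 h0
      exact LiftFib11.subsingleton_HH_of_iso ((Scheme.Modules.pullback (inv g)).mapIso eP.symm ≪≫
        (Scheme.Modules.pullbackComp (inv g) g).app P ≪≫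
        (Scheme.Modules.pullbackCongr (IsIso.inv_hom_id g)).app P ≪≫ (Scheme.Modules.pullbackId _).app P) h1
    exact LiftFib11.subsingleton_HH_of_iso (M2.tensorLUnit N)
      (CMReg18.van₂ (ULift.{u} ℤ) (CurveCoh17.twistSES hN ι.ker) hX1 hq)

end Groth.Agent.S7339
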