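import Groth.Statements.S7341
import Groth.Agent.Lib.NumType.Chain
import Mathlib.Tactic.FinCases

set_option autoImplicit false
open Finset
open Models Models.NumericalType

namespace Groth.Agent.S7341

open Groth.Agent.NumType

/-- Classification of proper subgraphs which are chains of three vertices: let T be a numerical type on
n > 3 indices and i, j, k distinct (-2)-indices with a_ij > 0 and a_jk > 0. Then a_ik = 0 and, up to
reversing the order of i, j, k, one of the following holds for some integer w: (A3) w_i = w_j = w_k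
= w, a_ij = a_jk = w, with 2 m_i ≥ m_j, 2 m_j ≥ m_i + m_k, 2 m_k ≥ m_j; (C3) w_i = w_j = w, w_k =
2w, a_ij = w, a_jk = 2w, with 2 m_i ≥ m_j, 2 m_j ≥ m_i + 2 m_k, 2 m_k ≥ m_j; (B3) w_i = w_j = 2w,
w_k = w, a_ij = a_jk = 2w, with 2 m_i ≥ m_j, 2 m_j ≥ m_i + m_k, m_k ≥ m_j. -/
theorem result {n : ℕ} (T : Models.NumericalType n) (hn : 3 < n) (i j k : Fin n)
    (hij : i ≠ j) (hjk : j ≠ k) (hik : i ≠ k) (hi : T.IsMinusTwo i) (hj : T.IsMinusTwo j) (hk : T.IsMinusTwo k)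
    (h1 : 0 < T.a i j) (h2 : 0 < T.a j k) :
    T.a i k = 0 ∧ ∃ (i' k' : Fin n) (w : ℤ), ((i' = i ∧ k' = k) ∨ (i' = k ∧ k' = i)) ∧
      ((T.w i' = w ∧ T.w j = w ∧ T.w k' = w ∧ T.a i' j = w ∧ T.a j k' = w ∧
          T.m j ≤ 2 * T.m i' ∧ T.m i' + T.m k' ≤ 2 * T.m j ∧ T.m j ≤ 2 * T.m k') ∨
        (T.w i' = w ∧ T.w j = w ∧ T.w k' = 2 * w ∧ T.a i' j = w ∧ T.a j k' = 2 * w ∧
          T.m j ≤ 2 * T.m i' ∧ T.m i' + 2 * T.m k' ≤ 2 * T.m j ∧ T.m j ≤ 2 * T.m k') ∨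
        (T.w i' = 2 * w ∧ T.w j = 2 * w ∧ T.w k' = w ∧ T.a i' j = 2 * w ∧ T.a j k' = 2 * w ∧
          T.m j ≤ 2 * T.m i' ∧ T.m i' + T.m k' ≤ 2 * T.m j ∧ T.m j ≤ T.m k')) := by
  let v : Fin 3 ↪ Fin n := ⟨![i, j, k], by
    intro a b e
    fin_cases a <;> fin_cases b <;> first | rfl | simp_all⟩
  have hv : ∀ a, T.IsMinusTwo (v a) := by intro a; fin_cases a <;> assumption
  have hz : T.a i k = 0 := forest_zero v hn hv ({(0, 1), (1, 2)} : Finset (Fin 3 × Fin 3))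
    (by simp only [Finset.forall_mem_insert, Finset.mem_singleton, forall_eq]; exact ⟨⟨by decide, h1.ne'⟩, by decide, h2.ne'⟩)
    (by decide) 0 2 (by decide) (by decide)
  have d1 := simple_or_double hn h1 h2 hik hi hj hk
  have d2 := simple_or_double hn (a_symm T j k ▸ h2) (a_symm T i j ▸ h1) hik.symm hk hj hi
  have hnot : Simple T i j ∨ Simple T k j := by
    by_contra hs
    push Not at hs
    refine C_false (T := T) 2 le_rfl hn (fun a => v a) v.injective hv ?_ ?_ ?_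
    · intro a b e
      fin_cases a <;> fin_cases b <;> first | assumption | simp_all
    · intro a b ha hb
      obtain rfl : a = 0 := Fin.ext ha
      obtain rfl : b = 1 := Fin.ext hb
      exact str_two_of_not_simple h1 hs.1
    · intro a b ha hb
      obtain rfl : a = 1 := Fin.ext (show a.val = 1 by omega)
      obtain rfl : b = 2 := Fin.ext hb
      exact (str_two_of_not_simple (a_symm T j k ▸ h2) hs.2).symm
  refine ⟨hz, ?_⟩
  obtain ⟨x, y, hxy, hx, hy, hxj, hyj, hsx, hdy⟩ : ∃ x y, ((x = i ∧ y = k) ∨ (x = k ∧ y = i)) ∧ T.IsMinusTwo x ∧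
      T.IsMinusTwo y ∧ x ≠ j ∧ y ≠ j ∧ Simple T x j ∧ (Simple T y j ∨ Double y j T) := by
    rcases hnot with h | h
    · exact ⟨i, k, Or.inl ⟨rfl, rfl⟩, hi, hk, hij, hjk.symm, h, d2⟩
    · exact ⟨k, i, Or.inr ⟨rfl, rfl⟩, hk, hi, hjk.symm, hij, h, d1⟩
  have hne : x ≠ y := by
    rcases hxy with ⟨rfl, rfl⟩ | ⟨rfl, rfl⟩
    · exact hik
    · exact hik.symm
  have hwx := T.w_pos x
  have hwy := T.w_pos y
  have r0 := row1 hx hxj
  have r1 := row2 hj hxj.symm hyj.symm hne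
  have r2 := row1 hy hyj
  rw [← a_symm T x j] at r1
  simp only [a_symm T j y] at r1
  obtain ⟨A1, W1⟩ := hsx
  rcases hdy with ⟨A2, W2⟩ | ⟨A2, W2⟩ | ⟨A2, W2⟩
  · rw [W1] at W2
    rw [← W2] at A2
    simp only [A1, A2, W1, ← W2] at r0 r1 r2
    exact ⟨x, y, T.w x, hxy, Or.inl ⟨rfl, W1, W2.symm, A1, (a_symm T j y).trans A2,
      by nlinarith, by nlinarith, by nlinarith⟩⟩
  · rw [W1] at W2
    simp only [A1, A2, W1, W2] at r0 r1 r2
    exact ⟨x, y, T.w y, hxy, Or.inr (Or.inr ⟨W2, W1.trans W2, rfl, A1.trans W2, (a_symm T j y).trans A2,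
      by nlinarith, by nlinarith, by nlinarith⟩)⟩
  · rw [W1] at W2
    rw [W2] at A2
    simp only [A1, A2, W1, W2] at r0 r1 r2
    exact ⟨x, y, T.w x, hxy, Or.inr (Or.inl ⟨rfl, W1, W2, A1, (a_symm T j y).trans A2,
      by nlinarith, by nlinarith, by nlinarith⟩)⟩

end Groth.Agent.S7341
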