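import Groth.Statements.S7346
import Groth.Agent.Lib.NumType.Chain
import Mathlib.Tactic.FinCases

set_option autoImplicit false
open Finset
open Models Models.NumericalType

namespace Groth.Agent.S7346

open Groth.Agent.NumType

/-- Classification of proper subgraphs of type D4 (one vertex joined to three others): let T be a
numerical type on n > 4 indices and i_1, …, i_4 distinct (-2)-indices with a_{12}, a_{13}, a_{14}
nonzero. Then for some integer w all w_{i_j} equal w, these intersection numbers equal w, all other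
a_{i_j i_k} (j ≠ k) vanish, and 2 m_1 ≥ m_2 + m_3 + m_4, 2 m_2 ≥ m_1, 2 m_3 ≥ m_1, 2 m_4 ≥ m_1. -/
theorem result {n : ℕ} (T : Models.NumericalType n) (hn : 4 < n)
    (v : Fin 4 ↪ Fin n) (hv : ∀ j, T.IsMinusTwo (v j)) (h01 : T.a (v 0) (v 1) ≠ 0) (h02 : T.a (v 0) (v 2) ≠ 0) (h03 : T.a (v 0) (v 3) ≠ 0) :
    ∃ w : ℤ, (∀ j : Fin 4, T.w (v j) = w) ∧
      T.a (v 0) (v 1) = w ∧
      T.a (v 0) (v 2) = w ∧
      T.a (v 0) (v 3) = w ∧
      T.a (v 1) (v 2) = 0 ∧
      T.a (v 1) (v 3) = 0 ∧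
      T.a (v 2) (v 3) = 0 ∧
      T.m (v 1) + T.m (v 2) + T.m (v 3) ≤ 2 * T.m (v 0) ∧
      T.m (v 0) ≤ 2 * T.m (v 1) ∧
      T.m (v 0) ≤ 2 * T.m (v 2) ∧
      T.m (v 0) ≤ 2 * T.m (v 3) := by
  have P : ∀ {a b : Fin 4}, a ≠ b → T.a (v a) (v b) ≠ 0 → 0 < T.a (v a) (v b) := fun h h' => pos_of_ne T (v.injective.ne h) h'
  obtain ⟨f0, g0⟩ := fork_simple (T := T) 3 (by norm_num) (by omega) (fun i => v (![1, 0, 2, 3] i))
    (v.injective.comp (by decide)) (fun _ => hv _)
    (fun i j e e' => by fin_cases i <;> fin_cases j <;> simp_all (config := { decide := true }) <;> first | exact P (by decide) (by assumption) | (rw [a_symm T]; exact P (by decide) (by assumption)))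
    (fun i j e e' => by fin_cases i <;> fin_cases j <;> simp_all (config := { decide := true }) <;> first | exact P (by decide) (by assumption) | (rw [a_symm T]; exact P (by decide) (by assumption)))
  have e01 : Simple T (v 0) (v 1) := (f0 0 1 (by decide) (by decide)).symm
  have e02 : Simple T (v 0) (v 2) := f0 1 2 (by decide) (by decide)
  have e03 : Simple T (v 0) (v 3) := g0 1 3 (by decide) (by decide)
  have r0 := row3 (hv 0) (v.injective.ne (by decide : (0 : Fin 4) ≠ 1)) (v.injective.ne (by decide : (0 : Fin 4) ≠ 2)) (v.injective.ne (by decide : (0 : Fin 4) ≠ 3)) (v.injective.ne (by decide : (1 : Fin 4) ≠ 2)) (v.injective.ne (by decide : (1 : Fin 4) ≠ 3)) (v.injective.ne (by decide : (2 : Fin 4) ≠ 3))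
  have r1 := row1 (hv 1) (v.injective.ne (by decide : (1 : Fin 4) ≠ 0))
  have r2 := row1 (hv 2) (v.injective.ne (by decide : (2 : Fin 4) ≠ 0))
  have r3 := row1 (hv 3) (v.injective.ne (by decide : (3 : Fin 4) ≠ 0))
  have hz := forest_zero v (by omega) hv ({(0, 1), (0, 2), (0, 3)} : Finset (Fin 4 × Fin 4))
    (by simp only [Finset.forall_mem_insert, Finset.mem_singleton, forall_eq]; exact ⟨⟨by decide, h01⟩, ⟨by decide, h02⟩, ⟨by decide, h03⟩⟩) (by decide)
  obtain ⟨a01, w01⟩ := e01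
  obtain ⟨a02, w02⟩ := e02
  obtain ⟨a03, w03⟩ := e03
  simp only [← a_symm T (v 0) (v 1), ← a_symm T (v 0) (v 2), ← a_symm T (v 0) (v 3)] at r0 r1 r2 r3
  simp only [a01, a02, a03, w01, w02, w03] at r0 r1 r2 r3
  have hw0 := T.w_pos (v 0)
  refine ⟨T.w (v 0), ?_, ?_⟩
  · intro j; fin_cases j <;> simp only [w01, w02, w03] <;> simp [w01, w02, w03]
  simp only [a01, a02, a03, w01, w02, w03]
  repeat' apply And.intro
  all_goals first | rfl | exact trivial | exact hz _ _ (by decide) (by decide) | nlinarith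

end Groth.Agent.S7346
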