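import Groth.Statements.S7347
import Groth.Agent.Lib.NumType.Chain
import Mathlib.Tactic.FinCases

set_option autoImplicit false
open Finset
open Models Models.NumericalType

namespace Groth.Agent.S7347

open Groth.Agent.NumType

/-- Classification of proper subgraphs of type D5 (a chain i_1 i_2 i_3 with i_4 and i_5 both joined to
i_3): let T be a numerical type on n > 5 indices and i_1, …, i_5 distinct (-2)-indices with a_{12},
a_{23}, a_{34}, a_{35} nonzero. Then for some integer w all w_{i_j} equal w, these intersection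
numbers equal w, all other a_{i_j i_k} (j ≠ k) vanish, and 2 m_1 ≥ m_2, 2 m_2 ≥ m_1 + m_3, 2 m_3 ≥
m_2 + m_4 + m_5, 2 m_4 ≥ m_3, 2 m_5 ≥ m_3. -/
theorem result {n : ℕ} (T : Models.NumericalType n) (hn : 5 < n)
    (v : Fin 5 ↪ Fin n) (hv : ∀ j, T.IsMinusTwo (v j)) (h01 : T.a (v 0) (v 1) ≠ 0) (h12 : T.a (v 1) (v 2) ≠ 0) (h23 : T.a (v 2) (v 3) ≠ 0) (h24 : T.a (v 2) (v 4) ≠ 0) :
    ∃ w : ℤ, (∀ j : Fin 5, T.w (v j) = w) ∧
      T.a (v 0) (v 1) = w ∧
      T.a (v 1) (v 2) = w ∧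
      T.a (v 2) (v 3) = w ∧
      T.a (v 2) (v 4) = w ∧
      T.a (v 0) (v 2) = 0 ∧
      T.a (v 0) (v 3) = 0 ∧
      T.a (v 0) (v 4) = 0 ∧
      T.a (v 1) (v 3) = 0 ∧
      T.a (v 1) (v 4) = 0 ∧
      T.a (v 3) (v 4) = 0 ∧
      T.m (v 1) ≤ 2 * T.m (v 0) ∧
      T.m (v 0) + T.m (v 2) ≤ 2 * T.m (v 1) ∧
      T.m (v 1) + T.m (v 3) + T.m (v 4) ≤ 2 * T.m (v 2) ∧
      T.m (v 2) ≤ 2 * T.m (v 3) ∧
      T.m (v 2) ≤ 2 * T.m (v 4) := by
  have P : ∀ {a b : Fin 5}, a ≠ b → T.a (v a) (v b) ≠ 0 → 0 < T.a (v a) (v b) := fun h h' => pos_of_ne T (v.injective.ne h) h'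
  obtain ⟨f0, g0⟩ := fork_simple (T := T) 4 (by norm_num) (by omega) (fun i => v (![0, 1, 2, 3, 4] i))
    (v.injective.comp (by decide)) (fun _ => hv _)
    (fun i j e e' => by fin_cases i <;> fin_cases j <;> simp_all (config := { decide := true }) <;> first | exact P (by decide) (by assumption) | (rw [a_symm T]; exact P (by decide) (by assumption)))
    (fun i j e e' => by fin_cases i <;> fin_cases j <;> simp_all (config := { decide := true }) <;> first | exact P (by decide) (by assumption) | (rw [a_symm T]; exact P (by decide) (by assumption)))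
  have e01 : Simple T (v 0) (v 1) := f0 0 1 (by decide) (by decide)
  have e12 : Simple T (v 1) (v 2) := f0 1 2 (by decide) (by decide)
  have e23 : Simple T (v 2) (v 3) := f0 2 3 (by decide) (by decide)
  have e24 : Simple T (v 2) (v 4) := g0 2 4 (by decide) (by decide)
  have r0 := row1 (hv 0) (v.injective.ne (by decide : (0 : Fin 5) ≠ 1))
  have r1 := row2 (hv 1) (v.injective.ne (by decide : (1 : Fin 5) ≠ 0)) (v.injective.ne (by decide : (1 : Fin 5) ≠ 2)) (v.injective.ne (by decide : (0 : Fin 5) ≠ 2))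
  have r2 := row3 (hv 2) (v.injective.ne (by decide : (2 : Fin 5) ≠ 1)) (v.injective.ne (by decide : (2 : Fin 5) ≠ 3)) (v.injective.ne (by decide : (2 : Fin 5) ≠ 4)) (v.injective.ne (by decide : (1 : Fin 5) ≠ 3)) (v.injective.ne (by decide : (1 : Fin 5) ≠ 4)) (v.injective.ne (by decide : (3 : Fin 5) ≠ 4))
  have r3 := row1 (hv 3) (v.injective.ne (by decide : (3 : Fin 5) ≠ 2))
  have r4 := row1 (hv 4) (v.injective.ne (by decide : (4 : Fin 5) ≠ 2))
  have hz := forest_zero v (by omega) hv ({(0, 1), (1, 2), (2, 3), (2, 4)} : Finset (Fin 5 × Fin 5))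
    (by simp only [Finset.forall_mem_insert, Finset.mem_singleton, forall_eq]; exact ⟨⟨by decide, h01⟩, ⟨by decide, h12⟩, ⟨by decide, h23⟩, ⟨by decide, h24⟩⟩) (by decide)
  obtain ⟨a01, w01⟩ := e01
  obtain ⟨a12, w12⟩ := e12
  obtain ⟨a23, w23⟩ := e23
  obtain ⟨a24, w24⟩ := e24
  simp only [← a_symm T (v 0) (v 1), ← a_symm T (v 1) (v 2), ← a_symm T (v 2) (v 3), ← a_symm T (v 2) (v 4)] at r0 r1 r2 r3 r4
  simp only [a01, a12, a23, a24, w01, w12, w23, w24] at r0 r1 r2 r3 r4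
  have hw0 := T.w_pos (v 0)
  refine ⟨T.w (v 0), ?_, ?_⟩
  · intro j; fin_cases j <;> simp only [w01, w12, w23, w24] <;> simp [w01, w12, w23, w24]
  simp only [a01, a12, a23, a24, w01, w12, w23, w24]
  repeat' apply And.intro
  all_goals first | rfl | exact trivial | exact hz _ _ (by decide) (by decide) | nlinarith

end Groth.Agent.S7347
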