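import Groth.Statements.S7348
import Groth.Agent.Lib.NumType.Chain
import Mathlib.Tactic.FinCases

set_option autoImplicit false
open Finset
open Models Models.NumericalType

namespace Groth.Agent.S7348

open Groth.Agent.NumType

/-- Classification of proper subgraphs of type E6 (a chain i_1 … i_5 with i_6 joined to i_3): let T be a
numerical type on n > 6 indices and i_1, …, i_6 distinct (-2)-indices with a_{12}, a_{23}, a_{34},
a_{45}, a_{36} nonzero. Then for some integer w all w_{i_j} equal w, these intersection numbers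
equal w, all other a_{i_j i_k} (j ≠ k) vanish, and 2 m_1 ≥ m_2, 2 m_2 ≥ m_1 + m_3, 2 m_3 ≥ m_2 + m_4
+ m_6, 2 m_4 ≥ m_3 + m_5, 2 m_5 ≥ m_4, 2 m_6 ≥ m_3. (The published list of inequalities has 2 m_5 ≥
m_3 where the intersection matrix gives 2 m_5 ≥ m_4; the former fails for the extended E8
configuration of multiplicities 4, 5, 6, 4, 2 with 3 attached to the third vertex, so 2 m_5 ≥ m_4 is
stated.) -/
theorem result {n : ℕ} (T : Models.NumericalType n) (hn : 6 < n)
    (v : Fin 6 ↪ Fin n) (hv : ∀ j, T.IsMinusTwo (v j)) (h01 : T.a (v 0) (v 1) ≠ 0) (h12 : T.a (v 1) (v 2) ≠ 0) (h23 : T.a (v 2) (v 3) ≠ 0) (h34 : T.a (v 3) (v 4) ≠ 0) (h25 : T.a (v 2) (v 5) ≠ 0) :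
    ∃ w : ℤ, (∀ j : Fin 6, T.w (v j) = w) ∧
      T.a (v 0) (v 1) = w ∧
      T.a (v 1) (v 2) = w ∧
      T.a (v 2) (v 3) = w ∧
      T.a (v 3) (v 4) = w ∧
      T.a (v 2) (v 5) = w ∧
      T.a (v 0) (v 2) = 0 ∧
      T.a (v 0) (v 3) = 0 ∧
      T.a (v 0) (v 4) = 0 ∧
      T.a (v 0) (v 5) = 0 ∧
      T.a (v 1) (v 3) = 0 ∧
      T.a (v 1) (v 4) = 0 ∧
      T.a (v 1) (v 5) = 0 ∧
      T.a (v 2) (v 4) = 0 ∧
      T.a (v 3) (v 5) = 0 ∧
      T.a (v 4) (v 5) = 0 ∧
      T.m (v 1) ≤ 2 * T.m (v 0) ∧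
      T.m (v 0) + T.m (v 2) ≤ 2 * T.m (v 1) ∧
      T.m (v 1) + T.m (v 3) + T.m (v 5) ≤ 2 * T.m (v 2) ∧
      T.m (v 2) + T.m (v 4) ≤ 2 * T.m (v 3) ∧
      T.m (v 3) ≤ 2 * T.m (v 4) ∧
      T.m (v 2) ≤ 2 * T.m (v 5) := by
  have P : ∀ {a b : Fin 6}, a ≠ b → T.a (v a) (v b) ≠ 0 → 0 < T.a (v a) (v b) := fun h h' => pos_of_ne T (v.injective.ne h) h'
  obtain ⟨f0, g0⟩ := fork_simple (T := T) 4 (by norm_num) (by omega) (fun i => v (![0, 1, 2, 3, 5] i))
    (v.injective.comp (by decide)) (fun _ => hv _)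
    (fun i j e e' => by fin_cases i <;> fin_cases j <;> simp_all (config := { decide := true }) <;> first | exact P (by decide) (by assumption) | (rw [a_symm T]; exact P (by decide) (by assumption)))
    (fun i j e e' => by fin_cases i <;> fin_cases j <;> simp_all (config := { decide := true }) <;> first | exact P (by decide) (by assumption) | (rw [a_symm T]; exact P (by decide) (by assumption)))
  obtain ⟨f1, g1⟩ := fork_simple (T := T) 4 (by norm_num) (by omega) (fun i => v (![4, 3, 2, 1, 5] i))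
    (v.injective.comp (by decide)) (fun _ => hv _)
    (fun i j e e' => by fin_cases i <;> fin_cases j <;> simp_all (config := { decide := true }) <;> first | exact P (by decide) (by assumption) | (rw [a_symm T]; exact P (by decide) (by assumption)))
    (fun i j e e' => by fin_cases i <;> fin_cases j <;> simp_all (config := { decide := true }) <;> first | exact P (by decide) (by assumption) | (rw [a_symm T]; exact P (by decide) (by assumption)))
  have e01 : Simple T (v 0) (v 1) := f0 0 1 (by decide) (by decide)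
  have e12 : Simple T (v 1) (v 2) := f0 1 2 (by decide) (by decide)
  have e23 : Simple T (v 2) (v 3) := f0 2 3 (by decide) (by decide)
  have e34 : Simple T (v 3) (v 4) := (f1 0 1 (by decide) (by decide)).symm
  have e25 : Simple T (v 2) (v 5) := g0 2 4 (by decide) (by decide)
  have r0 := row1 (hv 0) (v.injective.ne (by decide : (0 : Fin 6) ≠ 1))
  have r1 := row2 (hv 1) (v.injective.ne (by decide : (1 : Fin 6) ≠ 0)) (v.injective.ne (by decide : (1 : Fin 6) ≠ 2)) (v.injective.ne (by decide : (0 : Fin 6) ≠ 2))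
  have r2 := row3 (hv 2) (v.injective.ne (by decide : (2 : Fin 6) ≠ 1)) (v.injective.ne (by decide : (2 : Fin 6) ≠ 3)) (v.injective.ne (by decide : (2 : Fin 6) ≠ 5)) (v.injective.ne (by decide : (1 : Fin 6) ≠ 3)) (v.injective.ne (by decide : (1 : Fin 6) ≠ 5)) (v.injective.ne (by decide : (3 : Fin 6) ≠ 5))
  have r3 := row2 (hv 3) (v.injective.ne (by decide : (3 : Fin 6) ≠ 2)) (v.injective.ne (by decide : (3 : Fin 6) ≠ 4)) (v.injective.ne (by decide : (2 : Fin 6) ≠ 4))
  have r4 := row1 (hv 4) (v.injective.ne (by decide : (4 : Fin 6) ≠ 3))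
  have r5 := row1 (hv 5) (v.injective.ne (by decide : (5 : Fin 6) ≠ 2))
  have hz := forest_zero v (by omega) hv ({(0, 1), (1, 2), (2, 3), (3, 4), (2, 5)} : Finset (Fin 6 × Fin 6))
    (by simp only [Finset.forall_mem_insert, Finset.mem_singleton, forall_eq]; exact ⟨⟨by decide, h01⟩, ⟨by decide, h12⟩, ⟨by decide, h23⟩, ⟨by decide, h34⟩, ⟨by decide, h25⟩⟩) (by decide)
  obtain ⟨a01, w01⟩ := e01
  obtain ⟨a12, w12⟩ := e12
  obtain ⟨a23, w23⟩ := e23
  obtain ⟨a34, w34⟩ := e34
  obtain ⟨a25, w25⟩ := e25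
  simp only [← a_symm T (v 0) (v 1), ← a_symm T (v 1) (v 2), ← a_symm T (v 2) (v 3), ← a_symm T (v 3) (v 4), ← a_symm T (v 2) (v 5)] at r0 r1 r2 r3 r4 r5
  simp only [a01, a12, a23, a34, a25, w01, w12, w23, w34, w25] at r0 r1 r2 r3 r4 r5
  have hw0 := T.w_pos (v 0)
  refine ⟨T.w (v 0), ?_, ?_⟩
  · intro j; fin_cases j <;> simp only [w01, w12, w23, w34, w25] <;> simp [w01, w12, w23, w34, w25]
  simp only [a01, a12, a23, a34, a25, w01, w12, w23, w34, w25]
  repeat' apply And.intro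
  all_goals first | rfl | exact trivial | exact hz _ _ (by decide) (by decide) | nlinarith

end Groth.Agent.S7348
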