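import Groth.Statements.S7349
import Groth.Agent.Lib.NumType.Chain
import Mathlib.Tactic.FinCases

set_option autoImplicit false
open Finset
open Models Models.NumericalType

namespace Groth.Agent.S7349

open Groth.Agent.NumType

/-- Classification of proper subgraphs of type E7 (a chain i_1 … i_6 with i_7 joined to i_4): let T be a
numerical type on n > 7 indices and i_1, …, i_7 distinct (-2)-indices with a_{12}, a_{23}, a_{34},
a_{45}, a_{56}, a_{47} nonzero. Then for some integer w all w_{i_j} equal w, these intersection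
numbers equal w, all other a_{i_j i_k} (j ≠ k) vanish, and 2 m_1 ≥ m_2, 2 m_2 ≥ m_1 + m_3, 2 m_3 ≥
m_2 + m_4, 2 m_4 ≥ m_3 + m_5 + m_7, 2 m_5 ≥ m_4 + m_6, 2 m_6 ≥ m_5, 2 m_7 ≥ m_4. -/
theorem result {n : ℕ} (T : Models.NumericalType n) (hn : 7 < n)
    (v : Fin 7 ↪ Fin n) (hv : ∀ j, T.IsMinusTwo (v j)) (h01 : T.a (v 0) (v 1) ≠ 0) (h12 : T.a (v 1) (v 2) ≠ 0) (h23 : T.a (v 2) (v 3) ≠ 0) (h34 : T.a (v 3) (v 4) ≠ 0) (h45 : T.a (v 4) (v 5) ≠ 0) (h36 : T.a (v 3) (v 6) ≠ 0) :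
    ∃ w : ℤ, (∀ j : Fin 7, T.w (v j) = w) ∧
      T.a (v 0) (v 1) = w ∧
      T.a (v 1) (v 2) = w ∧
      T.a (v 2) (v 3) = w ∧
      T.a (v 3) (v 4) = w ∧
      T.a (v 4) (v 5) = w ∧
      T.a (v 3) (v 6) = w ∧
      T.a (v 0) (v 2) = 0 ∧
      T.a (v 0) (v 3) = 0 ∧
      T.a (v 0) (v 4) = 0 ∧
      T.a (v 0) (v 5) = 0 ∧
      T.a (v 0) (v 6) = 0 ∧
      T.a (v 1) (v 3) = 0 ∧
      T.a (v 1) (v 4) = 0 ∧
      T.a (v 1) (v 5) = 0 ∧
      T.a (v 1) (v 6) = 0 ∧
      T.a (v 2) (v 4) = 0 ∧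
      T.a (v 2) (v 5) = 0 ∧
      T.a (v 2) (v 6) = 0 ∧
      T.a (v 3) (v 5) = 0 ∧
      T.a (v 4) (v 6) = 0 ∧
      T.a (v 5) (v 6) = 0 ∧
      T.m (v 1) ≤ 2 * T.m (v 0) ∧
      T.m (v 0) + T.m (v 2) ≤ 2 * T.m (v 1) ∧
      T.m (v 1) + T.m (v 3) ≤ 2 * T.m (v 2) ∧
      T.m (v 2) + T.m (v 4) + T.m (v 6) ≤ 2 * T.m (v 3) ∧
      T.m (v 3) + T.m (v 5) ≤ 2 * T.m (v 4) ∧
      T.m (v 4) ≤ 2 * T.m (v 5) ∧
      T.m (v 3) ≤ 2 * T.m (v 6) := by
  have P : ∀ {a b : Fin 7}, a ≠ b → T.a (v a) (v b) ≠ 0 → 0 < T.a (v a) (v b) := fun h h' => pos_of_ne T (v.injective.ne h) h'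
  obtain ⟨f0, g0⟩ := fork_simple (T := T) 5 (by norm_num) (by omega) (fun i => v (![0, 1, 2, 3, 4, 6] i))
    (v.injective.comp (by decide)) (fun _ => hv _)
    (fun i j e e' => by fin_cases i <;> fin_cases j <;> simp_all (config := { decide := true }) <;> first | exact P (by decide) (by assumption) | (rw [a_symm T]; exact P (by decide) (by assumption)))
    (fun i j e e' => by fin_cases i <;> fin_cases j <;> simp_all (config := { decide := true }) <;> first | exact P (by decide) (by assumption) | (rw [a_symm T]; exact P (by decide) (by assumption)))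
  obtain ⟨f1, g1⟩ := fork_simple (T := T) 4 (by norm_num) (by omega) (fun i => v (![5, 4, 3, 2, 6] i))
    (v.injective.comp (by decide)) (fun _ => hv _)
    (fun i j e e' => by fin_cases i <;> fin_cases j <;> simp_all (config := { decide := true }) <;> first | exact P (by decide) (by assumption) | (rw [a_symm T]; exact P (by decide) (by assumption)))
    (fun i j e e' => by fin_cases i <;> fin_cases j <;> simp_all (config := { decide := true }) <;> first | exact P (by decide) (by assumption) | (rw [a_symm T]; exact P (by decide) (by assumption)))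
  have e01 : Simple T (v 0) (v 1) := f0 0 1 (by decide) (by decide)
  have e12 : Simple T (v 1) (v 2) := f0 1 2 (by decide) (by decide)
  have e23 : Simple T (v 2) (v 3) := f0 2 3 (by decide) (by decide)
  have e34 : Simple T (v 3) (v 4) := f0 3 4 (by decide) (by decide)
  have e45 : Simple T (v 4) (v 5) := (f1 0 1 (by decide) (by decide)).symm
  have e36 : Simple T (v 3) (v 6) := g0 3 5 (by decide) (by decide)
  have r0 := row1 (hv 0) (v.injective.ne (by decide : (0 : Fin 7) ≠ 1))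
  have r1 := row2 (hv 1) (v.injective.ne (by decide : (1 : Fin 7) ≠ 0)) (v.injective.ne (by decide : (1 : Fin 7) ≠ 2)) (v.injective.ne (by decide : (0 : Fin 7) ≠ 2))
  have r2 := row2 (hv 2) (v.injective.ne (by decide : (2 : Fin 7) ≠ 1)) (v.injective.ne (by decide : (2 : Fin 7) ≠ 3)) (v.injective.ne (by decide : (1 : Fin 7) ≠ 3))
  have r3 := row3 (hv 3) (v.injective.ne (by decide : (3 : Fin 7) ≠ 2)) (v.injective.ne (by decide : (3 : Fin 7) ≠ 4)) (v.injective.ne (by decide : (3 : Fin 7) ≠ 6)) (v.injective.ne (by decide : (2 : Fin 7) ≠ 4)) (v.injective.ne (by decide : (2 : Fin 7) ≠ 6)) (v.injective.ne (by decide : (4 : Fin 7) ≠ 6))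
  have r4 := row2 (hv 4) (v.injective.ne (by decide : (4 : Fin 7) ≠ 3)) (v.injective.ne (by decide : (4 : Fin 7) ≠ 5)) (v.injective.ne (by decide : (3 : Fin 7) ≠ 5))
  have r5 := row1 (hv 5) (v.injective.ne (by decide : (5 : Fin 7) ≠ 4))
  have r6 := row1 (hv 6) (v.injective.ne (by decide : (6 : Fin 7) ≠ 3))
  have hz := forest_zero v (by omega) hv ({(0, 1), (1, 2), (2, 3), (3, 4), (4, 5), (3, 6)} : Finset (Fin 7 × Fin 7))
    (by simp only [Finset.forall_mem_insert, Finset.mem_singleton, forall_eq]; exact ⟨⟨by decide, h01⟩, ⟨by decide, h12⟩, ⟨by decide, h23⟩, ⟨by decide, h34⟩, ⟨by decide, h45⟩, ⟨by decide, h36⟩⟩) (by decide)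
  obtain ⟨a01, w01⟩ := e01
  obtain ⟨a12, w12⟩ := e12
  obtain ⟨a23, w23⟩ := e23
  obtain ⟨a34, w34⟩ := e34
  obtain ⟨a45, w45⟩ := e45
  obtain ⟨a36, w36⟩ := e36
  simp only [← a_symm T (v 0) (v 1), ← a_symm T (v 1) (v 2), ← a_symm T (v 2) (v 3), ← a_symm T (v 3) (v 4), ← a_symm T (v 4) (v 5), ← a_symm T (v 3) (v 6)] at r0 r1 r2 r3 r4 r5 r6
  simp only [a01, a12, a23, a34, a45, a36, w01, w12, w23, w34, w45, w36] at r0 r1 r2 r3 r4 r5 r6
  have hw0 := T.w_pos (v 0)
  refine ⟨T.w (v 0), ?_, ?_⟩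
  · intro j; fin_cases j <;> simp only [w01, w12, w23, w34, w45, w36] <;> simp [w01, w12, w23, w34, w45, w36]
  simp only [a01, a12, a23, a34, a45, a36, w01, w12, w23, w34, w45, w36]
  repeat' apply And.intro
  all_goals first | rfl | exact trivial | exact hz _ _ (by decide) (by decide) | nlinarith

end Groth.Agent.S7349
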