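import Groth.Statements.S7351
import Groth.Agent.Lib.NumType.Chain
import Mathlib.Tactic.FinCases

set_option autoImplicit false
open Finset
open Models Models.NumericalType

namespace Groth.Agent.S7351

open Groth.Agent.NumType

/-- Let T be a numerical type on n > 5 indices. There do not exist five distinct (-2)-indices h, i, j,
k, l with a_hi > 0, a_hj > 0, a_hk > 0 and a_hl > 0. -/
theorem result {n : ℕ} (T : Models.NumericalType n) (hn : 5 < n)
    (v : Fin 5 ↪ Fin n) (hv : ∀ j, T.IsMinusTwo (v j))
    (h01 : 0 < T.a (v 0) (v 1)) (h02 : 0 < T.a (v 0) (v 2)) (h03 : 0 < T.a (v 0) (v 3)) (h04 : 0 < T.a (v 0) (v 4)) : False := by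
  refine diagram_false (T := T) (fun i => v i) v.injective inferInstance (by simpa using hn) hv (symE rD4)
    (symE_self _) (str_symE _ _ fun i j hij h => ?_) cD4 cD4_pos cD4_le
  fin_cases i <;> fin_cases j <;> simp_all (config := { decide := true }) [rD4, edgesR] <;>
    refine str_one ?_ <;> first | assumption | exact pos_of_ne T (v.injective.ne (by decide)) (by first | assumption | (rw [a_symm T]; assumption))

end Groth.Agent.S7351
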