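import Groth.Statements.S7352
import Groth.Agent.Lib.NumType.Chain
import Mathlib.Tactic.FinCases

set_option autoImplicit false
open Finset
open Models Models.NumericalType

namespace Groth.Agent.S7352

open Groth.Agent.NumType

/-- Classification of proper subgraphs which are chains of four vertices: let T be a numerical type on n
> 4 indices and i_1, …, i_4 distinct (-2)-indices with a_{i_j i_{j+1}} nonzero for j < 4. Then
a_{i_j i_l} = 0 for |j - l| ≥ 2 and, after possibly reversing the order of the indices, for some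
integer w one of the following holds: (A4) w = (w, w, w, w), consecutive a = (w, w, w), with 2m_1 ≥
m_2, 2m_2 ≥ m_1 + m_3, 2m_3 ≥ m_2 + m_4, 2m_4 ≥ m_3; (C4) w = (w, w, w, 2w), consecutive a = (w, w,
2w), with 2m_1 ≥ m_2, 2m_2 ≥ m_1 + m_3, 2m_3 ≥ m_2 + 2m_4, 2m_4 ≥ m_3; (B4) w = (2w, 2w, 2w, w),
consecutive a = (2w, 2w, 2w), with 2m_1 ≥ m_2, 2m_2 ≥ m_1 + m_3, 2m_3 ≥ m_2 + m_4, m_4 ≥ m_3; (F4) w
= (w, w, 2w, 2w), consecutive a = (w, 2w, 2w), with 2m_1 ≥ m_2, 2m_2 ≥ m_1 + 2m_3, 2m_3 ≥ m_2 + m_4,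
2m_4 ≥ m_3. -/
theorem result {n : ℕ} (T : Models.NumericalType n) (hn : 4 < n)
    (v : Fin 4 ↪ Fin n) (hv : ∀ j, T.IsMinusTwo (v j)) (h01 : T.a (v 0) (v 1) ≠ 0) (h12 : T.a (v 1) (v 2) ≠ 0) (h23 : T.a (v 2) (v 3) ≠ 0) :
    (T.a (v 0) (v 2) = 0 ∧ T.a (v 0) (v 3) = 0 ∧ T.a (v 1) (v 3) = 0) ∧
    ∃ (u : Fin 4 → Fin n) (w : ℤ), ((∀ j, u j = v j) ∨ (∀ j, u j = v (Fin.rev j))) ∧
      ((T.w (u 0) = w ∧ T.w (u 1) = w ∧ T.w (u 2) = w ∧ T.w (u 3) = w ∧ T.a (u 0) (u 1) = w ∧ T.a (u 1) (u 2) = w ∧ T.a (u 2) (u 3) = w ∧ T.m (u 1) ≤ 2 * T.m (u 0) ∧ T.m (u 0) + T.m (u 2) ≤ 2 * T.m (u 1) ∧ T.m (u 1) + T.m (u 3) ≤ 2 * T.m (u 2) ∧ T.m (u 2) ≤ 2 * T.m (u 3)) ∨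
      (T.w (u 0) = w ∧ T.w (u 1) = w ∧ T.w (u 2) = w ∧ T.w (u 3) = 2 * w ∧ T.a (u 0) (u 1) = w ∧ T.a (u 1) (u 2) = w ∧ T.a (u 2) (u 3) = 2 * w ∧ T.m (u 1) ≤ 2 * T.m (u 0) ∧ T.m (u 0) + T.m (u 2) ≤ 2 * T.m (u 1) ∧ T.m (u 1) + 2 * T.m (u 3) ≤ 2 * T.m (u 2) ∧ T.m (u 2) ≤ 2 * T.m (u 3)) ∨
      (T.w (u 0) = 2 * w ∧ T.w (u 1) = 2 * w ∧ T.w (u 2) = 2 * w ∧ T.w (u 3) = w ∧ T.a (u 0) (u 1) = 2 * w ∧ T.a (u 1) (u 2) = 2 * w ∧ T.a (u 2) (u 3) = 2 * w ∧ T.m (u 1) ≤ 2 * T.m (u 0) ∧ T.m (u 0) + T.m (u 2) ≤ 2 * T.m (u 1) ∧ T.m (u 1) + T.m (u 3) ≤ 2 * T.m (u 2) ∧ T.m (u 2) ≤ T.m (u 3)) ∨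
      (T.w (u 0) = w ∧ T.w (u 1) = w ∧ T.w (u 2) = 2 * w ∧ T.w (u 3) = 2 * w ∧ T.a (u 0) (u 1) = w ∧ T.a (u 1) (u 2) = 2 * w ∧ T.a (u 2) (u 3) = 2 * w ∧ T.m (u 1) ≤ 2 * T.m (u 0) ∧ T.m (u 0) + 2 * T.m (u 2) ≤ 2 * T.m (u 1) ∧ T.m (u 1) + T.m (u 3) ≤ 2 * T.m (u 2) ∧ T.m (u 2) ≤ 2 * T.m (u 3))) := by
  have P : ∀ i j : Fin 4, j.val = i.val + 1 → 0 < T.a (v i) (v j) := fun i j h => by
    refine pos_of_ne T (v.injective.ne (Fin.ne_of_val_ne (by omega))) ?_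
    fin_cases i <;> fin_cases j <;> first | assumption | simp_all | (simp at h; omega)
  have hz := forest_zero v (by omega) hv ({(0, 1), (1, 2), (2, 3)} : Finset (Fin 4 × Fin 4))
    (by simp only [Finset.forall_mem_insert, Finset.mem_singleton, forall_eq]; exact ⟨⟨by decide, h01⟩, ⟨by decide, h12⟩, by decide, h23⟩) (by decide)
  refine ⟨?_, ?_⟩
  · repeat' apply And.intro
    all_goals exact hz _ _ (by decide) (by decide)
  have n01 := v.injective.ne (show (0 : Fin 4) ≠ 1 by decide)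
  have n02 := v.injective.ne (show (0 : Fin 4) ≠ 2 by decide)
  have n12 := v.injective.ne (show (1 : Fin 4) ≠ 2 by decide)
  have n13 := v.injective.ne (show (1 : Fin 4) ≠ 3 by decide)
  have n23 := v.injective.ne (show (2 : Fin 4) ≠ 3 by decide)
  have p01 := P 0 1 rfl
  have p12 := P 1 2 rfl
  have p23 := P 2 3 rfl
  have d01 := simple_or_double (by omega) p01 p12 n02 (hv _) (hv _) (hv _)
  have d12 := simple_or_double (by omega) p12 p23 n13 (hv _) (hv _) (hv _)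
  by_cases hmid : Simple T (v 1) (v 2)
  · obtain ⟨u, hu, hinj, hum, h01s, h12s, hl⟩ : ∃ u : Fin 4 → Fin n, ((∀ j, u j = v j) ∨ (∀ j, u j = v (Fin.rev j))) ∧
        Function.Injective u ∧ (∀ i, T.IsMinusTwo (u i)) ∧ Simple T (u 0) (u 1) ∧ Simple T (u 1) (u 2) ∧
        (Simple T (u 2) (u 3) ∨ Double (u 2) (u 3) T) := by
      rcases chain_ends (T := T) 4 (by omega) hn (fun i => v i) v.injective hv P with h | h
      · exact ⟨fun i => v i, Or.inl fun _ => rfl, v.injective, hv, h 0 1 rfl rfl, hmid,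
          chain_end_edge (T := T) 4 (by omega) hn (fun i => v i) v.injective hv P 2 3 rfl rfl⟩
      · exact ⟨fun i => v (Fin.rev i), Or.inr fun _ => rfl, v.injective.comp Fin.rev_injective, fun _ => hv _,
          (h 2 3 rfl rfl).symm, hmid.symm,
          chain_end_edge (T := T) 4 (by omega) hn (fun i => v (Fin.rev i)) (v.injective.comp Fin.rev_injective) (fun _ => hv _)
            (fun i j e => by rw [a_symm T]; exact P _ _ (by simp [Fin.val_rev]; omega)) 2 3 rfl rfl⟩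
    have hw0 := T.w_pos (u 0)
    have hw3 := T.w_pos (u 3)
    have r0 := row1 (hum 0) (hinj.ne (show (0 : Fin 4) ≠ 1 by decide))
    have r3 := row1 (hum 3) (hinj.ne (show (3 : Fin 4) ≠ 2 by decide))
    have r1 := row2 (hum 1) (hinj.ne (show (1 : Fin 4) ≠ 0 by decide)) (hinj.ne (show (1 : Fin 4) ≠ 2 by decide)) (hinj.ne (show (0 : Fin 4) ≠ 2 by decide))
    have r2 := row2 (hum 2) (hinj.ne (show (2 : Fin 4) ≠ 1 by decide)) (hinj.ne (show (2 : Fin 4) ≠ 3 by decide)) (hinj.ne (show (1 : Fin 4) ≠ 3 by decide))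
    simp only [← a_symm T (u 0) (u 1), ← a_symm T (u 1) (u 2), ← a_symm T (u 2) (u 3)] at r0 r1 r2 r3
    obtain ⟨A1, W1⟩ := h01s
    obtain ⟨A2, W2⟩ := h12s
    rw [W1] at A2 W2
    rcases hl with ⟨A3, W3⟩ | ⟨A3, W3⟩ | ⟨A3, W3⟩
    · rw [W2] at A3 W3
      simp only [A1, A2, A3, W1, W2, W3] at r0 r1 r2 r3
      exact ⟨u, T.w (u 0), hu, Or.inl ⟨rfl, W1, W2, W3, A1, A2, A3, by nlinarith, by nlinarith, by nlinarith, by nlinarith⟩⟩
    · rw [W2] at A3 W3
      simp only [A1, A2, A3, W1, W2, W3] at r0 r1 r2 r3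
      exact ⟨u, T.w (u 0), hu, Or.inr (Or.inl ⟨rfl, W1, W2, W3, A1, A2, A3, by nlinarith, by nlinarith, by nlinarith, by nlinarith⟩)⟩
    · rw [W3] at A3
      rw [W2] at W3
      simp only [A1, A2, A3, W1, W2, W3] at r0 r1 r2 r3
      exact ⟨u, T.w (u 3), hu, Or.inr (Or.inr (Or.inl ⟨W3, W1.trans W3, W2.trans W3, rfl, A1.trans W3, A2.trans W3, A3,
        by nlinarith, by nlinarith, by nlinarith, by nlinarith⟩))⟩
  · have hd := d12.resolve_left hmid
    have s01 : Simple T (v 0) (v 1) := by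
      by_contra hs
      refine C_false (T := T) 2 le_rfl (by omega) ![v 0, v 1, v 2] ?_ ?_ ?_ ?_ ?_
      · intro a b e
        fin_cases a <;> fin_cases b <;> first | rfl | simp_all
      · intro a; fin_cases a <;> exact hv _
      · intro a b e
        fin_cases a <;> fin_cases b <;> first | assumption | simp_all
      · intro a b ha hb
        obtain rfl : a = 0 := Fin.ext ha
        obtain rfl : b = 1 := Fin.ext hb
        exact str_two_of_not_simple p01 hs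
      · intro a b ha hb
        obtain rfl : a = 1 := Fin.ext (show a.val = 1 by omega)
        obtain rfl : b = 2 := Fin.ext hb
        exact str_two_of_not_simple p12 hmid
    have s23 : Simple T (v 2) (v 3) := by
      by_contra hs
      refine C_false (T := T) 2 le_rfl (by omega) ![v 1, v 2, v 3] ?_ ?_ ?_ ?_ ?_
      · intro a b e
        fin_cases a <;> fin_cases b <;> first | rfl | simp_all
      · intro a; fin_cases a <;> exact hv _
      · intro a b e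
        fin_cases a <;> fin_cases b <;> first | assumption | simp_all
      · intro a b ha hb
        obtain rfl : a = 0 := Fin.ext ha
        obtain rfl : b = 1 := Fin.ext hb
        exact str_two_of_not_simple p12 hmid
      · intro a b ha hb
        obtain rfl : a = 1 := Fin.ext (show a.val = 1 by omega)
        obtain rfl : b = 2 := Fin.ext hb
        exact str_two_of_not_simple p23 hs
    have hw0 := T.w_pos (v 0)
    have hw3 := T.w_pos (v 3)
    have r0 := row1 (hv 0) n01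
    have r3 := row1 (hv 3) n23.symm
    have r1 := row2 (hv 1) n01.symm n12 n02
    have r2 := row2 (hv 2) n12.symm n23 n13
    simp only [← a_symm T (v 0) (v 1), ← a_symm T (v 1) (v 2), ← a_symm T (v 2) (v 3)] at r0 r1 r2 r3
    obtain ⟨A1, W1⟩ := s01
    obtain ⟨A3, W3⟩ := s23
    rcases hd with ⟨A2, W2⟩ | ⟨A2, W2⟩
    · rw [W1] at A2 W2
      rw [W2] at A3 W3
      simp only [A1, A2, A3, W1, W2, W3] at r0 r1 r2 r3
      exact ⟨fun i => v i, T.w (v 0), Or.inl fun _ => rfl, Or.inr (Or.inr (Or.inr ⟨rfl, W1, W2, W3, A1, A2, A3,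
        by nlinarith, by nlinarith, by nlinarith, by nlinarith⟩))⟩
    · rw [W2] at A2
      rw [W1] at W2
      rw [← W3] at A2 W2 A3
      simp only [A1, A2, A3, W1, W2, ← W3] at r0 r1 r2 r3
      refine ⟨fun i => v (Fin.rev i), T.w (v 3), Or.inr fun _ => rfl, Or.inr (Or.inr (Or.inr ?_))⟩
      have e0 : Fin.rev (0 : Fin 4) = 3 := rfl
      have e1 : Fin.rev (1 : Fin 4) = 2 := rfl
      have e2 : Fin.rev (2 : Fin 4) = 1 := rfl
      have e3 : Fin.rev (3 : Fin 4) = 0 := rfl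
      simp only [e0, e1, e2, e3, ← a_symm T (v 0) (v 1), ← a_symm T (v 1) (v 2), ← a_symm T (v 2) (v 3)]
      exact ⟨trivial, W3.symm, W1.trans W2, W2, A3, A2, A1.trans W2, by nlinarith, by nlinarith, by nlinarith, by nlinarith⟩

end Groth.Agent.S7352
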