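import Groth.Statements.S7353
import Groth.Agent.Lib.NumType.Chain
import Mathlib.Tactic.FinCases

set_option autoImplicit false
open Finset
open Models Models.NumericalType

namespace Groth.Agent.S7353

open Groth.Agent.NumType

/-- Classification of proper subgraphs which are chains of five vertices: let T be a numerical type on n
> 5 indices and i_1, …, i_5 distinct (-2)-indices with a_{i_j i_{j+1}} nonzero for j < 5. Then
a_{i_j i_l} = 0 for |j - l| ≥ 2 and, after possibly reversing the order of the indices, for some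
integer w one of the following holds: (A5) w = (w, w, w, w, w), consecutive a = (w, w, w, w), with
2m_1 ≥ m_2, 2m_2 ≥ m_1 + m_3, 2m_3 ≥ m_2 + m_4, 2m_4 ≥ m_3 + m_5, 2m_5 ≥ m_4; (C5) w = (w, w, w, w,
2w), consecutive a = (w, w, w, 2w), with 2m_1 ≥ m_2, 2m_2 ≥ m_1 + m_3, 2m_3 ≥ m_2 + m_4, 2m_4 ≥ m_3
+ 2m_5, 2m_5 ≥ m_4; (B5) w = (2w, 2w, 2w, 2w, w), consecutive a = (2w, 2w, 2w, 2w), with 2m_1 ≥ m_2,
2m_2 ≥ m_1 + m_3, 2m_3 ≥ m_2 + m_4, 2m_4 ≥ m_3 + m_5, m_5 ≥ m_4. (The inequalities are those given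
by the rows Σ_l a_{kl} m_l = 0 of the displayed matrices; the published text has 2m_3 ≥ m_2 + 2m_4
and 2m_4 ≥ m_3 + m_5 in case C5 and m_4 ≥ m_3 in case B5, of which the first does not follow — for
the numerical type with six indices, weights (1,1,1,1,2,1), chain intersection numbers (1,1,1,2)
plus a_{16} = 1, a_{66} = -1 and multiplicities (2,2,2,2,1,2) one has 2m_3 = 4 < m_2 + 2m_4 = 6 — so
the matrix inequalities are stated.) -/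
theorem result {n : ℕ} (T : Models.NumericalType n) (hn : 5 < n)
    (v : Fin 5 ↪ Fin n) (hv : ∀ j, T.IsMinusTwo (v j)) (h01 : T.a (v 0) (v 1) ≠ 0) (h12 : T.a (v 1) (v 2) ≠ 0) (h23 : T.a (v 2) (v 3) ≠ 0) (h34 : T.a (v 3) (v 4) ≠ 0) :
    (T.a (v 0) (v 2) = 0 ∧ T.a (v 0) (v 3) = 0 ∧ T.a (v 0) (v 4) = 0 ∧ T.a (v 1) (v 3) = 0 ∧ T.a (v 1) (v 4) = 0 ∧ T.a (v 2) (v 4) = 0) ∧
    ∃ (u : Fin 5 → Fin n) (w : ℤ), ((∀ j, u j = v j) ∨ (∀ j, u j = v (Fin.rev j))) ∧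
      ((T.w (u 0) = w ∧ T.w (u 1) = w ∧ T.w (u 2) = w ∧ T.w (u 3) = w ∧ T.w (u 4) = w ∧ T.a (u 0) (u 1) = w ∧ T.a (u 1) (u 2) = w ∧ T.a (u 2) (u 3) = w ∧ T.a (u 3) (u 4) = w ∧ T.m (u 1) ≤ 2 * T.m (u 0) ∧ T.m (u 0) + T.m (u 2) ≤ 2 * T.m (u 1) ∧ T.m (u 1) + T.m (u 3) ≤ 2 * T.m (u 2) ∧ T.m (u 2) + T.m (u 4) ≤ 2 * T.m (u 3) ∧ T.m (u 3) ≤ 2 * T.m (u 4)) ∨
      (T.w (u 0) = w ∧ T.w (u 1) = w ∧ T.w (u 2) = w ∧ T.w (u 3) = w ∧ T.w (u 4) = 2 * w ∧ T.a (u 0) (u 1) = w ∧ T.a (u 1) (u 2) = w ∧ T.a (u 2) (u 3) = w ∧ T.a (u 3) (u 4) = 2 * w ∧ T.m (u 1) ≤ 2 * T.m (u 0) ∧ T.m (u 0) + T.m (u 2) ≤ 2 * T.m (u 1) ∧ T.m (u 1) + T.m (u 3) ≤ 2 * T.m (u 2) ∧ T.m (u 2) + 2 * T.m (u 4) ≤ 2 * T.m (u 3) ∧ T.m (u 3) ≤ 2 * T.m (u 4)) ∨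
      (T.w (u 0) = 2 * w ∧ T.w (u 1) = 2 * w ∧ T.w (u 2) = 2 * w ∧ T.w (u 3) = 2 * w ∧ T.w (u 4) = w ∧ T.a (u 0) (u 1) = 2 * w ∧ T.a (u 1) (u 2) = 2 * w ∧ T.a (u 2) (u 3) = 2 * w ∧ T.a (u 3) (u 4) = 2 * w ∧ T.m (u 1) ≤ 2 * T.m (u 0) ∧ T.m (u 0) + T.m (u 2) ≤ 2 * T.m (u 1) ∧ T.m (u 1) + T.m (u 3) ≤ 2 * T.m (u 2) ∧ T.m (u 2) + T.m (u 4) ≤ 2 * T.m (u 3) ∧ T.m (u 3) ≤ T.m (u 4))) := by
  have P : ∀ i j : Fin 5, j.val = i.val + 1 → 0 < T.a (v i) (v j) := fun i j h => by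
    refine pos_of_ne T (v.injective.ne (Fin.ne_of_val_ne (by omega))) ?_
    fin_cases i <;> fin_cases j <;> first | assumption | simp_all | (simp at h; omega)
  have hz := forest_zero v (by omega) hv ({(0, 1), (1, 2), (2, 3), (3, 4)} : Finset (Fin 5 × Fin 5))
    (by simp only [Finset.forall_mem_insert, Finset.mem_singleton, forall_eq]; exact ⟨⟨by decide, h01⟩, ⟨by decide, h12⟩, ⟨by decide, h23⟩, by decide, h34⟩) (by decide)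
  obtain ⟨u, hu, hinj, hum, hup, hint, hlast⟩ := chain_oriented (T := T) 5 le_rfl hn (fun i => v i) v.injective hv P
  obtain ⟨w, hw⟩ := chain_shape (T := T) 5 (by omega) u hint hlast
  refine ⟨?_, u, w, hu, ?_⟩
  · repeat' apply And.intro
    all_goals exact hz _ _ (by decide) (by decide)
  have hw0 := T.w_pos (u 0)
  have hw4 := T.w_pos (u 4)
  have r0 := row1 (hum 0) (hinj.ne (show (0 : Fin 5) ≠ 1 by decide))
  have r4 := row1 (hum 4) (hinj.ne (show (4 : Fin 5) ≠ 3 by decide))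
  have r1 := row2 (hum 1) (hinj.ne (show (1 : Fin 5) ≠ 0 by decide)) (hinj.ne (show (1 : Fin 5) ≠ 2 by decide)) (hinj.ne (show (0 : Fin 5) ≠ 2 by decide))
  have r2 := row2 (hum 2) (hinj.ne (show (2 : Fin 5) ≠ 1 by decide)) (hinj.ne (show (2 : Fin 5) ≠ 3 by decide)) (hinj.ne (show (1 : Fin 5) ≠ 3 by decide))
  have r3 := row2 (hum 3) (hinj.ne (show (3 : Fin 5) ≠ 2 by decide)) (hinj.ne (show (3 : Fin 5) ≠ 4 by decide)) (hinj.ne (show (2 : Fin 5) ≠ 4 by decide))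
  simp only [← a_symm T (u 0) (u 1), ← a_symm T (u 1) (u 2), ← a_symm T (u 2) (u 3), ← a_symm T (u 3) (u 4)] at r0 r1 r2 r3 r4
  rcases hw with ⟨W, A⟩ | ⟨W, W', A, A'⟩ | ⟨W, W', A⟩
  · simp only [W 0, W 1, W 2, W 3, W 4, A 0 1 rfl, A 1 2 rfl, A 2 3 rfl, A 3 4 rfl] at r0 r1 r2 r3 r4 hw0 hw4
    exact Or.inl ⟨W 0, W 1, W 2, W 3, W 4, A 0 1 rfl, A 1 2 rfl, A 2 3 rfl, A 3 4 rfl,
      by nlinarith, by nlinarith, by nlinarith, by nlinarith, by nlinarith⟩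
  · simp only [W 0 (by decide), W 1 (by decide), W 2 (by decide), W 3 (by decide), W' 4 rfl,
      A 0 1 rfl (by decide), A 1 2 rfl (by decide), A 2 3 rfl (by decide), A' 3 4 rfl rfl] at r0 r1 r2 r3 r4 hw0 hw4
    exact Or.inr (Or.inl ⟨W 0 (by decide), W 1 (by decide), W 2 (by decide), W 3 (by decide), W' 4 rfl,
      A 0 1 rfl (by decide), A 1 2 rfl (by decide), A 2 3 rfl (by decide), A' 3 4 rfl rfl,
      by nlinarith, by nlinarith, by nlinarith, by nlinarith, by nlinarith⟩)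
  · simp only [W 0 (by decide), W 1 (by decide), W 2 (by decide), W 3 (by decide), W' 4 rfl,
      A 0 1 rfl, A 1 2 rfl, A 2 3 rfl, A 3 4 rfl] at r0 r1 r2 r3 r4 hw0 hw4
    exact Or.inr (Or.inr ⟨W 0 (by decide), W 1 (by decide), W 2 (by decide), W 3 (by decide), W' 4 rfl,
      A 0 1 rfl, A 1 2 rfl, A 2 3 rfl, A 3 4 rfl,
      by nlinarith, by nlinarith, by nlinarith, by nlinarith, by nlinarith⟩)

end Groth.Agent.S7353
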