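import Groth.Statements.S7354
import Groth.Agent.Lib.NumType.Chain
import Mathlib.Tactic.FinCases

set_option autoImplicit false
open Finset
open Models Models.NumericalType

namespace Groth.Agent.S7354

open Groth.Agent.NumType

/-- Let T be a numerical type on n indices, t > 5 with n > t, and i_1, …, i_t distinct (-2)-indices with
a_{i_j i_{j+1}} nonzero for j = 1, …, t - 1. Then, after possibly reversing the order of the
indices, for some integer w either (A) w_{i_1} = … = w_{i_t} = w and a_{i_j i_{j+1}} = w for all j;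
or (C) w_{i_1} = … = w_{i_{t-1}} = w, w_{i_t} = 2w, a_{i_j i_{j+1}} = w for j < t - 1 and a_{i_{t-1}
i_t} = 2w; or (B) w_{i_1} = … = w_{i_{t-1}} = 2w, w_{i_t} = w and a_{i_j i_{j+1}} = 2w for all j;
and in every case a_{i_j i_k} = 0 whenever k > j + 1. -/
theorem result {n : ℕ} (T : Models.NumericalType n) (t : ℕ) (ht : 5 < t) (hn : t < n)
    (v : Fin t ↪ Fin n) (hv : ∀ j, T.IsMinusTwo (v j))
    (hchain : ∀ j j' : Fin t, j'.val = j.val + 1 → T.a (v j) (v j') ≠ 0) :
    ∃ (u : Fin t → Fin n) (w : ℤ), ((∀ j, u j = v j) ∨ (∀ j, u j = v (Fin.rev j))) ∧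
      (∀ j k : Fin t, j.val + 1 < k.val → T.a (u j) (u k) = 0) ∧
      ((∀ j : Fin t, T.w (u j) = w) ∧ (∀ j j' : Fin t, j'.val = j.val + 1 → T.a (u j) (u j') = w) ∨
        ((∀ j : Fin t, j.val + 1 < t → T.w (u j) = w) ∧ (∀ j : Fin t, j.val + 1 = t → T.w (u j) = 2 * w) ∧
          (∀ j j' : Fin t, j'.val = j.val + 1 → j'.val + 1 < t → T.a (u j) (u j') = w) ∧
          (∀ j j' : Fin t, j'.val = j.val + 1 → j'.val + 1 = t → T.a (u j) (u j') = 2 * w)) ∨
        ((∀ j : Fin t, j.val + 1 < t → T.w (u j) = 2 * w) ∧ (∀ j : Fin t, j.val + 1 = t → T.w (u j) = w) ∧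
          (∀ j j' : Fin t, j'.val = j.val + 1 → T.a (u j) (u j') = 2 * w))) := by
  classical
  have hne : ∀ a b : Fin t, a.val ≠ b.val → v a ≠ v b := fun a b h e => h (congrArg Fin.val (v.injective e))
  have hpos : ∀ i j : Fin t, j.val = i.val + 1 → 0 < T.a (v i) (v j) :=
    fun i j h => pos_of_ne T (hne _ _ (by omega)) (hchain i j h)
  obtain ⟨u, hu, hinj, hum, hup, hint, hlast⟩ := chain_oriented (T := T) t (by omega) hn (fun i => v i) v.injective hv hpos
  obtain ⟨w, hw⟩ := chain_shape (T := T) t (by omega) u hint hlast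
  refine ⟨u, w, hu, fun j k hjk => ?_, hw⟩
  let f : Fin (t - 1) → Fin t × Fin t := fun e => (⟨e.val, by omega⟩, ⟨e.val + 1, by omega⟩)
  refine forest_zero ⟨u, hinj⟩ hn hum (Finset.univ.image f) ?_ ?_ j k (by rw [Fin.lt_def]; omega) ?_
  · intro p hp
    obtain ⟨e, -, rfl⟩ := Finset.mem_image.1 hp
    exact ⟨by simp [f, Fin.lt_def], (hup _ _ rfl).ne'⟩
  · have hf : Function.Injective f := by
      intro a b e
      simp [f, Prod.ext_iff, Fin.ext_iff] at e
      exact Fin.ext e
    rw [Finset.card_image_of_injective _ hf, Finset.card_univ, Fintype.card_fin]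
    omega
  · intro hmem
    obtain ⟨e, -, he⟩ := Finset.mem_image.1 hmem
    simp [f, Prod.ext_iff, Fin.ext_iff] at he
    omega

end Groth.Agent.S7354
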