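import Groth.Statements.S7355
import Groth.Agent.Lib.NumType.Chain
import Mathlib.Tactic.FinCases

set_option autoImplicit false
open Finset
open Models Models.NumericalType

namespace Groth.Agent.S7355

open Groth.Agent.NumType

/-- Classification of proper subgraphs of type D: let T be a numerical type on n indices, t > 4 with n >
t + 1, and i_1, …, i_{t+1} distinct (-2)-indices such that a_{i_j i_{j+1}} is nonzero for j = 1, …,
t - 1 and a_{i_{t-1} i_{t+1}} is nonzero. Then for some integer w one has w_{i_1} = … = w_{i_{t+1}}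
= w, a_{i_j i_{j+1}} = w for j < t, a_{i_{t-1} i_{t+1}} = w, and a_{i_j i_k} = 0 for all other pairs
j ≠ k. -/
theorem result {n : ℕ} (T : Models.NumericalType n) (t : ℕ) (ht : 4 < t) (hn : t + 1 < n)
    (v : Fin (t + 1) ↪ Fin n) (hv : ∀ j, T.IsMinusTwo (v j))
    (hchain : ∀ j j' : Fin (t + 1), j'.val = j.val + 1 → j'.val < t → T.a (v j) (v j') ≠ 0)
    (hbranch : ∀ j j' : Fin (t + 1), j.val + 2 = t → j'.val = t → T.a (v j) (v j') ≠ 0) :
    ∃ w : ℤ, (∀ j : Fin (t + 1), T.w (v j) = w) ∧
      (∀ j j' : Fin (t + 1), j'.val = j.val + 1 → j'.val < t → T.a (v j) (v j') = w) ∧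
      (∀ j j' : Fin (t + 1), j.val + 2 = t → j'.val = t → T.a (v j) (v j') = w) ∧
      (∀ j k : Fin (t + 1), j.val < k.val → ¬ (k.val = j.val + 1 ∧ k.val < t) → ¬ (j.val + 2 = t ∧ k.val = t) →
        T.a (v j) (v k) = 0) := by
  have hne : ∀ a b : Fin (t + 1), a.val ≠ b.val → v a ≠ v b := fun a b h e => h (congrArg Fin.val (v.injective e))
  have hc' : ∀ i j : Fin (t + 1), j.val = i.val + 1 → j.val < t → 0 < T.a (v i) (v j) :=
    fun i j h h' => pos_of_ne T (hne _ _ (by omega)) (hchain i j h h')
  have hb' : ∀ i j : Fin (t + 1), i.val + 2 = t → j.val = t → 0 < T.a (v i) (v j) :=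
    fun i j h h' => pos_of_ne T (hne _ _ (by omega)) (hbranch i j h h')
  obtain ⟨s1, s2⟩ := fork_simple (T := T) t (by omega) hn (fun i => v i) v.injective hv hc' hb'
  let w := T.w (v ⟨0, by omega⟩)
  have hw : ∀ j : Fin (t + 1), j.val < t → T.w (v j) = w := by
    intro ⟨j, hj⟩
    induction j with
    | zero => intro _; rfl
    | succ k ih =>
      intro hk
      rw [(s1 ⟨k, by omega⟩ ⟨k + 1, hj⟩ rfl hk).2]
      exact ih (by omega) (by simp at hk ⊢; omega)
  refine ⟨w, fun j => ?_, fun j j' h h' => ?_, fun j j' h h' => ?_, fun j k hjk h1 h2 => ?_⟩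
  · rcases Nat.lt_or_ge j.val t with h | h
    · exact hw j h
    · rw [(s2 ⟨t - 2, by omega⟩ j (by simp; omega) (by omega)).2]
      exact hw _ (by simp; omega)
  · rw [(s1 j j' h h').1, hw j (by omega)]
  · rw [(s2 j j' h h').1, hw j (by omega)]
  · classical
    let f : Fin t → Fin (t + 1) × Fin (t + 1) := fun e =>
      if e.val + 1 < t then (⟨e.val, by omega⟩, ⟨e.val + 1, by omega⟩) else (⟨t - 2, by omega⟩, ⟨t, by omega⟩)
    refine forest_zero v (by omega) hv (Finset.univ.image f) ?_ ?_ j k hjk ?_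
    · intro p hp
      obtain ⟨e, -, rfl⟩ := Finset.mem_image.1 hp
      simp only [f]
      split_ifs with he
      · exact ⟨by simp [Fin.lt_def], hchain _ _ rfl he⟩
      · exact ⟨by simp [Fin.lt_def]; omega, hbranch _ _ (by simp; omega) rfl⟩
    · have hf : Function.Injective f := by
        intro a b e
        simp only [f] at e
        split_ifs at e with ha hb hb <;> simp [Prod.ext_iff, Fin.ext_iff] at e <;> apply Fin.ext <;> omega
      rw [Finset.card_image_of_injective _ hf, Finset.card_univ, Fintype.card_fin]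
    · intro hmem
      obtain ⟨e, -, he⟩ := Finset.mem_image.1 hmem
      simp only [f] at he
      split_ifs at he with he' <;> simp [Prod.ext_iff, Fin.ext_iff] at he <;> omega

end Groth.Agent.S7355
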