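import Groth.Statements.S7357
import Groth.Agent.Lib.DeRhamH7.BaseChange
import Mathlib.RingTheory.Kaehler.Basic
import Mathlib.Algebra.TrivSqZeroExt.Basic

set_option autoImplicit false
universe u
open Polynomial
open Resolve

namespace Groth.Agent.S7357

open TensorProduct

section alt
variable {S M W : Type u} [CommRing S] [AddCommGroup M] [Module S M] [AddCommGroup W] [Module S W]
variable {n : ℕ} (f : M [⋀^Fin n]→ₗ[S] W) (d : M)

/-- with `d` in slot `i`, adding multiples of `d` elsewhere does not matter -/
lemma alt_shift (w : Fin n → M) (c : Fin n → S) (i : Fin n) :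
    f (Function.update (fun j => w j + c j • d) i d) = f (Function.update w i d) := by
  classical
  suffices h : ∀ s : Finset (Fin n),
      f (Function.update (s.piecewise (fun j => w j + c j • d) w) i d) = f (Function.update w i d) by
    simpa using h Finset.univ
  intro s
  induction s using Finset.induction with
  | empty => simp
  | @insert a s ha ih =>
    rw [Finset.piecewise_insert]
    by_cases hai : a = i
    · subst hai; rwa [Function.update_idem]
    · rw [Function.update_comm hai, f.map_update_add, f.map_update_smul]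
      have h0 : f (Function.update (Function.update (s.piecewise (fun j => w j + c j • d) w) i d) a d) = 0 :=
        f.map_eq_zero_of_eq _ (i := a) (j := i)
          (by simp [Function.update_of_ne (Ne.symm hai)]) hai
      rw [h0, smul_zero, add_zero]
      rw [show Function.update (Function.update (s.piecewise (fun j => w j + c j • d) w) i d) a (w a) =
          Function.update (s.piecewise (fun j => w j + c j • d) w) i d by
        rw [Function.update_comm (Ne.symm hai)]
        congr 1
        rw [← Finset.piecewise_eq_of_notMem s (fun j => w j + c j • d) w ha, Function.update_eq_self]]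
      exact ih

variable {N : Type u} [AddCommGroup N] [Module S N]

/-- `Ψ v = f (w + s d) - f w`. -/
noncomputable def psi : (M × S) [⋀^Fin n]→ₗ[S] W :=
  f.compLinearMap (LinearMap.fst S M S + (LinearMap.snd S M S).smulRight d) -
    f.compLinearMap (LinearMap.fst S M S)

lemma psi_apply (v : Fin n → M × S) :
    psi f d v = f (fun j => (v j).1 + (v j).2 • d) - f (fun j => (v j).1) := rfl

lemma psi_update_eq_zero (v : Fin n → M × S) (i : Fin n) :
    psi f d (Function.update v i (d, 0)) = 0 := by
  classical
  have h1 : (fun j => (Function.update v i (d, 0) j).1 + (Function.update v i (d, 0) j).2 • d) =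
      Function.update (fun j => (v j).1 + (v j).2 • d) i d := by
    ext j
    by_cases h : j = i
    · subst h; simp
    · simp [Function.update_of_ne h]
  have h2 : (fun j => (Function.update v i (d, 0) j).1) = Function.update (fun j => (v j).1) i d := by
    ext j
    by_cases h : j = i
    · subst h; simp
    · simp [Function.update_of_ne h]
  rw [psi_apply, h1, h2, alt_shift, sub_self]

lemma psi_congr (v v' : Fin n → M × S)
    (h : ∀ j, v' j - v j ∈ Submodule.span S {((d, 0) : M × S)}) : psi f d v' = psi f d v := by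
  classical
  choose c hc using fun j => Submodule.mem_span_singleton.mp (h j)
  suffices ∀ s : Finset (Fin n), psi f d (s.piecewise v' v) = psi f d v by simpa using this Finset.univ
  intro s
  induction s using Finset.induction with
  | empty => simp
  | @insert a s ha ih =>
    rw [Finset.piecewise_insert, show v' a = v a + c a • (d, 0) by rw [hc]; abel,
      (psi f d).map_update_add, (psi f d).map_update_smul, psi_update_eq_zero, smul_zero, add_zero,
      show v a = s.piecewise v' v a from (Finset.piecewise_eq_of_notMem _ _ _ ha).symm,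
      Function.update_eq_self]
    exact ih

/-- `psi` on the quotient. -/
noncomputable def psiQ : ((M × S) ⧸ Submodule.span S {((d, 0) : M × S)}) [⋀^Fin n]→ₗ[S] W where
  toFun v := psi f d fun j => (v j).out
  map_update_add' := by
    intro _ v i x y
    rw [psi_congr f d (Function.update (fun j => (v j).out) i (x.out + y.out)) _ (fun j => ?_),
      (psi f d).map_update_add]
    · congr 1 <;> congr 1 <;> ext1 j <;> (by_cases h : j = i) <;>
        first | (subst h; simp) | simp [Function.update_of_ne h]
    · rw [← Submodule.Quotient.eq, Submodule.Quotient.mk_out]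
      by_cases h : j = i
      · subst h; simp [Submodule.Quotient.mk_out]
      · simp [Function.update_of_ne h]
  map_update_smul' := by
    intro _ v i c x
    rw [psi_congr f d (Function.update (fun j => (v j).out) i (c • x.out)) _ (fun j => ?_),
      (psi f d).map_update_smul]
    · congr 2; ext1 j; by_cases h : j = i
      · subst h; simp
      · simp [Function.update_of_ne h]
    · rw [← Submodule.Quotient.eq, Submodule.Quotient.mk_out]
      by_cases h : j = i
      · subst h; simp [Submodule.Quotient.mk_out]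
      · simp [Function.update_of_ne h]
  map_eq_zero_of_eq' v i j h hij := (psi f d).map_eq_zero_of_eq _ (congrArg Quotient.out h) hij

lemma psiQ_mk (v : Fin n → M × S) :
    psiQ f d (fun j => Submodule.Quotient.mk (v j)) = psi f d v :=
  psi_congr f d v _ fun j => by
    rw [← Submodule.Quotient.eq, Submodule.Quotient.mk_out]

end alt

set_option maxHeartbeats 1000000 in
/-- Let p be a prime number, Λ → R a ring map with R of characteristic p, a ∈ R and S = R[x]/(x^p - a).
For every t ≥ 0 there is a canonical R-linear map Tr : Ω^{t+1}_{S/Λ} → Ω^{t+1}_{R/Λ} with η_1 ∧ … ∧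
η_t ∧ x^i dx ↦ 0 for 0 ≤ i ≤ p - 2 and η_1 ∧ … ∧ η_t ∧ x^{p-1} dx ↦ η_1 ∧ … ∧ η_t ∧ da (η_j ∈
Ω_{R/Λ}, pulled back to Ω_{S/Λ}), and Tr annihilates the image of S ⊗_R Ω^{t+1}_{R/Λ} →
Ω^{t+1}_{S/Λ}. (Existence of such a map is asserted; R-linearity is written through the R-action on
S.) -/
theorem result (p : ℕ) [Fact p.Prime] (Λ R : Type u) [CommRing Λ] [CommRing R] [Algebra Λ R]
    [CharP Λ p] [CharP R p] (a : R) (t : ℕ) :
    ∃ Tr : (⋀[AdjoinRoot (X ^ p - C a : R[X])]^(t + 1) (Ω[AdjoinRoot (X ^ p - C a : R[X])⁄Λ])) →+ (⋀[R]^(t + 1) (Ω[R⁄Λ])),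
      (∀ (r : R) (ω : ⋀[AdjoinRoot (X ^ p - C a : R[X])]^(t + 1) (Ω[AdjoinRoot (X ^ p - C a : R[X])⁄Λ])),
        Tr (algebraMap R (AdjoinRoot (X ^ p - C a : R[X])) r • ω) = r • Tr ω) ∧
      (∀ (η : Fin t → Ω[R⁄Λ]) (i : ℕ), i + 2 ≤ p →
        Tr (exteriorPower.ιMulti _ (t + 1) (Fin.snoc (fun j => KaehlerDifferential.map Λ Λ R (AdjoinRoot (X ^ p - C a : R[X])) (η j))
          (AdjoinRoot.root (X ^ p - C a) ^ i • KaehlerDifferential.D Λ _ (AdjoinRoot.root (X ^ p - C a))))) = 0) ∧
      (∀ (η : Fin t → Ω[R⁄Λ]),
        Tr (exteriorPower.ιMulti _ (t + 1) (Fin.snoc (fun j => KaehlerDifferential.map Λ Λ R (AdjoinRoot (X ^ p - C a : R[X])) (η j))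
          (AdjoinRoot.root (X ^ p - C a) ^ (p - 1) • KaehlerDifferential.D Λ _ (AdjoinRoot.root (X ^ p - C a))))) =
          exteriorPower.ιMulti R (t + 1) (Fin.snoc η (KaehlerDifferential.D Λ R a))) ∧
      (∀ (s : AdjoinRoot (X ^ p - C a : R[X])) (η : Fin (t + 1) → Ω[R⁄Λ]),
        Tr (s • exteriorPower.ιMulti _ (t + 1) (fun j => KaehlerDifferential.map Λ Λ R (AdjoinRoot (X ^ p - C a : R[X])) (η j))) = 0) := by
  classical
  have hp : 0 < p := (Fact.out : p.Prime).pos
  set h : R[X] := X ^ p - C a with hh
  let S := AdjoinRoot h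
  let Ω := Ω[R⁄Λ]
  let W := ⋀[R]^(t + 1) Ω
  have hmon : h.Monic := monic_X_pow_sub_C _ hp.ne'
  let pb := AdjoinRoot.powerBasis' hmon
  haveI : Nontrivial R := CharP.nontrivial_of_char_ne_one (Fact.out : p.Prime).ne_one
  have hdim : pb.dim = p := by simp [pb, hh]
  let f : (S ⊗[R] Ω) [⋀^Fin (t + 1)]→ₗ[S] S ⊗[R] W :=
    ((Groth.Agent.DeRhamH7.bcEquiv R S Ω (t + 1)).symm : _ →ₗ[S] _).compAlternatingMap
      (exteriorPower.ιMulti S (t + 1))
  let d : S ⊗[R] Ω := (1 : S) ⊗ₜ KaehlerDifferential.D Λ R a
  let Q := ((S ⊗[R] Ω) × S) ⧸ Submodule.span S {((d, 0) : (S ⊗[R] Ω) × S)}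
  let π : ((S ⊗[R] Ω) × S) →ₗ[S] Q := Submodule.mkQ _
  -- the ring map into the square zero extension
  let r₀ : R →+* TrivSqZeroExt S Q :=
    { toFun := fun r => TrivSqZeroExt.inl (algebraMap R S r) +
        TrivSqZeroExt.inr (π ((1 : S) ⊗ₜ KaehlerDifferential.D Λ R r, 0))
      map_one' := by
        ext
        · simp
        · simp [Prod.mk_zero_zero]
      map_mul' := fun x y => by
        ext
        · simp
        · simp only [TrivSqZeroExt.snd_add, TrivSqZeroExt.snd_inl, TrivSqZeroExt.snd_inr, zero_add,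
            TrivSqZeroExt.snd_mul, TrivSqZeroExt.fst_add, TrivSqZeroExt.fst_inl, TrivSqZeroExt.fst_inr,
            add_zero, op_smul_eq_smul, ← map_smul, ← map_add]
          congr 1
          ext
          · simp only [Derivation.leibniz, tmul_add, tmul_smul, Prod.smul_fst, Prod.fst_add,
              algebraMap_smul]
          · simp
      map_zero' := by
        ext
        · simp
        · simp [Prod.mk_zero_zero]
      map_add' := fun x y => by
        ext
        · simp
        · simp only [TrivSqZeroExt.snd_add, TrivSqZeroExt.snd_inl, TrivSqZeroExt.snd_inr, zero_add]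
          rw [map_add (KaehlerDifferential.D Λ R), tmul_add]
          refine (zero_add _).trans ((congrArg π ?_).trans ((map_add π _ _).trans
            (congrArg₂ (· + ·) (zero_add _).symm (zero_add _).symm)))
          simp }
  let z : TrivSqZeroExt S Q := TrivSqZeroExt.inl (AdjoinRoot.root h) + TrivSqZeroExt.inr (π (0, 1))
  have hroot : AdjoinRoot.root h ^ p = algebraMap R S a := by
    have := AdjoinRoot.eval₂_root h
    rw [hh, eval₂_sub, eval₂_X_pow, eval₂_C, sub_eq_zero] at this
    exact this
  have hpS : (p : S) = 0 := by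
    rw [← map_natCast (algebraMap R S) p, CharP.cast_eq_zero, map_zero]
  have hz : h.eval₂ r₀ z = 0 := by
    show (X ^ p - C a : R[X]).eval₂ r₀ z = 0
    rw [eval₂_sub, eval₂_X_pow, eval₂_C, sub_eq_zero]
    ext
    · rw [TrivSqZeroExt.fst_pow]
      simp [z, r₀, hroot]
    · rw [TrivSqZeroExt.snd_pow]
      simp only [z, r₀, RingHom.coe_mk, MonoidHom.coe_mk, OneHom.coe_mk, TrivSqZeroExt.fst_add,
        TrivSqZeroExt.fst_inl, TrivSqZeroExt.fst_inr, TrivSqZeroExt.snd_add, TrivSqZeroExt.snd_inl,
        TrivSqZeroExt.snd_inr, add_zero, zero_add]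
      rw [← Nat.cast_smul_eq_nsmul S, hpS, zero_smul]
      exact ((Submodule.Quotient.mk_eq_zero _).mpr (Submodule.mem_span_singleton_self _)).symm
  let τ : S →+* TrivSqZeroExt S Q := AdjoinRoot.lift r₀ z hz
  have hτr : ∀ r, τ (algebraMap R S r) = r₀ r := fun r => AdjoinRoot.lift_of hz
  have hτx : τ (AdjoinRoot.root h) = z := AdjoinRoot.lift_root hz
  have hfst : ∀ s, (τ s).fst = s := by
    intro s
    have e : ((TrivSqZeroExt.fstHom ℕ S Q).toRingHom.comp τ) = RingHom.id S := by
      apply AdjoinRoot.ringHom_ext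
      · ext r
        show (τ (algebraMap R S r)).fst = _
        rw [hτr]
        simp [r₀]
        rfl
      · show (τ (AdjoinRoot.root h)).fst = _
        rw [hτx]
        simp [z]
        rfl
    exact RingHom.congr_fun e s
  haveI : IsScalarTower Λ S Q := inferInstance
  have hΛ : ∀ l, (τ (algebraMap Λ S l)).snd = 0 := fun l => by
    rw [IsScalarTower.algebraMap_apply Λ R S, hτr]
    simp [r₀, Prod.mk_zero_zero]
  let δ : Derivation Λ S Q := Derivation.mk'
    { toFun := fun s => (τ s).snd
      map_add' := fun x y => by simp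
      map_smul' := fun l x => by
        rw [Algebra.smul_def, map_mul, TrivSqZeroExt.snd_mul, hΛ, hfst, hfst, op_smul_eq_smul,
          smul_zero, add_zero, algebraMap_smul]
        rfl }
    (fun x y => by
      show (τ (x * y)).snd = x • (τ y).snd + y • (τ x).snd
      rw [map_mul, TrivSqZeroExt.snd_mul, hfst, hfst, op_smul_eq_smul])
  let E : Ω[S⁄Λ] →ₗ[S] Q := δ.liftKaehlerDifferential
  have hEmap : ∀ η : Ω, E (KaehlerDifferential.map Λ Λ R S η) = π ((1 : S) ⊗ₜ η, 0) := by
    intro η
    have hη : η ∈ Submodule.span R (Set.range (KaehlerDifferential.D Λ R)) := by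
      rw [KaehlerDifferential.span_range_derivation]; trivial
    induction hη using Submodule.span_induction with
    | mem x hx =>
      obtain ⟨r, rfl⟩ := hx
      rw [KaehlerDifferential.map_D, Derivation.liftKaehlerDifferential_comp_D]
      show (τ (algebraMap R S r)).snd = _
      rw [hτr]
      simp [r₀]
    | zero => simp [Prod.mk_zero_zero]
    | add x y _ _ hx hy =>
      rw [map_add, map_add, hx, hy, tmul_add, ← map_add, Prod.mk_add_mk, add_zero]
    | smul r x _ hx =>
      rw [LinearMap.map_smul, ← algebraMap_smul S r (KaehlerDifferential.map Λ Λ R S x), map_smul, hx,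
        ← map_smul]
      congr 1
      rw [Prod.smul_mk, smul_zero, algebraMap_smul, tmul_smul]
  have hEx : ∀ i : ℕ, E (AdjoinRoot.root h ^ i • KaehlerDifferential.D Λ S (AdjoinRoot.root h)) =
      π (0, AdjoinRoot.root h ^ i) := by
    intro i
    rw [map_smul, Derivation.liftKaehlerDifferential_comp_D]
    show AdjoinRoot.root h ^ i • (τ (AdjoinRoot.root h)).snd = _
    rw [hτx]
    simp only [z, TrivSqZeroExt.snd_add, TrivSqZeroExt.snd_inl, TrivSqZeroExt.snd_inr, zero_add,
      ← map_smul, Prod.smul_mk, smul_zero, smul_eq_mul, mul_one]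
  let Φ := exteriorPower.alternatingMapLinearEquiv ((psiQ f d).compLinearMap E)
  let j : Fin pb.dim := ⟨p - 1, by omega⟩
  let P : S ⊗[R] W →ₗ[R] W := (TensorProduct.lid R W).toLinearMap ∘ₗ
    LinearMap.rTensor W (pb.basis.coord j)
  refine ⟨P.toAddMonoidHom.comp Φ.toAddMonoidHom, fun r ω => ?_, ?_, ?_, ?_⟩
  · show P (Φ (algebraMap R S r • ω)) = r • P (Φ ω)
    rw [map_smul, algebraMap_smul, map_smul]
  all_goals
    have key : ∀ v : Fin (t + 1) → Ω[S⁄Λ], ∀ w : Fin (t + 1) → (S ⊗[R] Ω) × S, (∀ k, E (v k) = π (w k)) →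
        P.toAddMonoidHom.comp Φ.toAddMonoidHom (exteriorPower.ιMulti S (t + 1) v) =
          P (psi f d w) := by
      intro v w hvw
      show P (Φ _) = _
      rw [exteriorPower.alternatingMapLinearEquiv_apply_ιMulti, AlternatingMap.compLinearMap_apply,
        ← psiQ_mk]
      congr 2
      exact funext hvw
    have hf : ∀ m : Fin (t + 1) → Ω, f (fun k => (1 : S) ⊗ₜ m k) =
        (1 : S) ⊗ₜ exteriorPower.ιMulti R (t + 1) m := by
      intro m
      show (Groth.Agent.DeRhamH7.bcEquiv R S Ω (t + 1)).symm _ = _
      rw [LinearEquiv.symm_apply_eq]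
      show _ = Groth.Agent.DeRhamH7.bcMap R S Ω (t + 1) _
      rw [Groth.Agent.DeRhamH7.bcMap_tmul, one_smul]
      rfl
    have hdx : ∀ (η : Fin t → Ω) (i : ℕ),
        P.toAddMonoidHom.comp Φ.toAddMonoidHom (exteriorPower.ιMulti S (t + 1)
          (Fin.snoc (fun k => KaehlerDifferential.map Λ Λ R S (η k))
            (AdjoinRoot.root h ^ i • KaehlerDifferential.D Λ S (AdjoinRoot.root h)))) =
          pb.basis.coord j (AdjoinRoot.root h ^ i) •
            exteriorPower.ιMulti R (t + 1) (Fin.snoc η (KaehlerDifferential.D Λ R a)) := by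
      intro η i
      rw [key _ (Fin.snoc (fun k => ((1 : S) ⊗ₜ η k, 0)) (0, AdjoinRoot.root h ^ i)) (fun k => by
        induction k using Fin.lastCases with
        | last => simp only [Fin.snoc_last, hEx]
        | cast k => simp only [Fin.snoc_castSucc, hEmap])]
      rw [psi_apply]
      have e1 : f (fun k => (Fin.snoc (α := fun _ => (S ⊗[R] Ω) × S) (fun k => ((1 : S) ⊗ₜ η k, 0))
          (0, AdjoinRoot.root h ^ i) k).1) = 0 :=
        f.map_coord_zero (Fin.last t) (by simp)
      have e2 : (fun k => (Fin.snoc (α := fun _ => (S ⊗[R] Ω) × S) (fun k => ((1 : S) ⊗ₜ η k, 0))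
          (0, AdjoinRoot.root h ^ i) k).1 + (Fin.snoc (α := fun _ => (S ⊗[R] Ω) × S) (fun k => ((1 : S) ⊗ₜ η k, 0))
          (0, AdjoinRoot.root h ^ i) k).2 • d) =
          Function.update (fun k => (1 : S) ⊗ₜ[R] (Fin.snoc (α := fun _ => Ω) η (KaehlerDifferential.D Λ R a) k))
            (Fin.last t) (AdjoinRoot.root h ^ i • d) := by
        ext1 k
        induction k using Fin.lastCases with
        | last => simp
        | cast k => simp [Function.update_of_ne (Fin.castSucc_lt_last k).ne]
      rw [e1, sub_zero, e2, f.map_update_smul]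
      rw [show Function.update (fun k => (1 : S) ⊗ₜ[R] (Fin.snoc (α := fun _ => Ω) η (KaehlerDifferential.D Λ R a) k))
          (Fin.last t) d = fun k => (1 : S) ⊗ₜ[R] (Fin.snoc (α := fun _ => Ω) η (KaehlerDifferential.D Λ R a) k) by
        rw [Function.update_eq_self_iff]; simp [d], hf, TensorProduct.smul_tmul', smul_eq_mul, mul_one]
      simp only [P, LinearMap.coe_comp, Function.comp_apply, LinearEquiv.coe_coe,
        LinearMap.rTensor_tmul, TensorProduct.lid_tmul]
  · intro η i hi
    rw [hdx]
    have hb : AdjoinRoot.root h ^ i = pb.basis ⟨i, by omega⟩ := by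
      rw [pb.basis_eq_pow]; rfl
    rw [hb, Module.Basis.coord_apply, Module.Basis.repr_self, Finsupp.single_apply,
      if_neg (fun e => by have := congrArg Fin.val e; simp only [j] at this; omega), zero_smul]
  · intro η
    rw [hdx]
    have hb : AdjoinRoot.root h ^ (p - 1) = pb.basis j := by
      rw [pb.basis_eq_pow]; rfl
    rw [hb, Module.Basis.coord_apply, Module.Basis.repr_self, Finsupp.single_eq_same, one_smul]
  · intro s η
    show P (Φ (s • _)) = 0
    rw [map_smul, exteriorPower.alternatingMapLinearEquiv_apply_ιMulti,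
      AlternatingMap.compLinearMap_apply]
    have : (fun k => E (KaehlerDifferential.map Λ Λ R S (η k))) =
        fun k => Submodule.Quotient.mk ((((1 : S) ⊗ₜ η k, 0)) : (S ⊗[R] Ω) × S) := funext fun k => hEmap _
    rw [show ((psiQ f d) fun i => E ((fun k => KaehlerDifferential.map Λ Λ R S (η k)) i)) = 0 by
      rw [this, psiQ_mk, psi_apply]; simp]
    simp

end Groth.Agent.S7357
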