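import Groth.Statements.S7362
import Groth.Agent.Lib.NumType.Classify

set_option autoImplicit false
open Finset
open Models Models.NumericalType

namespace Groth.Agent.S7362

open Groth.Agent.NumType

set_option maxHeartbeats 1000000

/-- Genus one classification: case n = 2: let T be a minimal numerical type of genus 1 on two indices.
Then for some ordering i, j of the indices and some integers m, w, either m_i = m_j = m, a_ii = a_jj
= -2w, a_ij = 2w, w_i = w_j = w, g_i = g_j = 0; or m_i = 2m, m_j = m, a_ii = -2w, a_ij = 4w, a_jj =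
-8w, w_i = w, w_j = 4w, g_i = g_j = 0. Only the classification direction is stated. -/
theorem result (T : Models.NumericalType 2) (hmin : T.IsMinimal) (hg : T.genus = 1) :
    ∃ (i j : Fin 2) (m w : ℤ), i ≠ j ∧ T.g i = 0 ∧ T.g j = 0 ∧
      ((T.m i = m ∧ T.m j = m ∧ T.a i i = -2 * w ∧ T.a i j = 2 * w ∧ T.a j j = -2 * w ∧ T.w i = w ∧ T.w j = w) ∨
        (T.m i = 2 * m ∧ T.m j = m ∧ T.a i i = -2 * w ∧ T.a i j = 4 * w ∧ T.a j j = -8 * w ∧ T.w i = w ∧ T.w j = 4 * w)) := by
  have hall := isMinusTwo_of_genus_one hmin hg (by norm_num)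
  have r0 := Groth.Agent.NumType.row_sum T 0
  have r1 := Groth.Agent.NumType.row_sum T 1
  rw [Fin.sum_univ_two, (hall 0).2] at r0
  rw [Fin.sum_univ_two, (hall 1).2, a_symm T 1 0] at r1
  have hm0 := T.m_pos 0
  have hm1 := T.m_pos 1
  have hw0 := T.w_pos 0
  have hw1 := T.w_pos 1
  have hp : 0 < T.a 0 1 := by nlinarith
  obtain ⟨k, l, hk, hl, e1, e2⟩ := exists_mul T 0 1 hp
  have hkm : k * T.m 1 = 2 * T.m 0 := mul_left_cancel₀ hw0.ne' (by rw [e1] at r0; linarith)
  have hlm : l * T.m 0 = 2 * T.m 1 := mul_left_cancel₀ hw1.ne' (by rw [e2] at r1; linarith)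
  have hkl : k * l = 4 := by
    have : k * l * T.m 1 = 4 * T.m 1 := by
      calc k * l * T.m 1 = l * (k * T.m 1) := by ring
        _ = 2 * (l * T.m 0) := by rw [hkm]; ring
        _ = 4 * T.m 1 := by rw [hlm]; ring
    exact mul_right_cancel₀ hm1.ne' this
  have hk4 : k ≤ 4 := by nlinarith
  have hl4 : l ≤ 4 := by nlinarith
  have hd0 := (hall 0).2
  have hd1 := (hall 1).2
  have hs := a_symm T 1 0
  interval_cases k <;> interval_cases l <;> first
    | omega
    | (refine ⟨1, 0, T.m 0, T.w 1, by decide, (hall 1).1, (hall 0).1, Or.inr ⟨?_, ?_, ?_, ?_, ?_, ?_, ?_⟩⟩ <;> omega)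
    | (refine ⟨0, 1, T.m 0, T.w 0, by decide, (hall 0).1, (hall 1).1, Or.inl ⟨?_, ?_, ?_, ?_, ?_, ?_, ?_⟩⟩ <;> omega)
    | (refine ⟨0, 1, T.m 1, T.w 0, by decide, (hall 0).1, (hall 1).1, Or.inr ⟨?_, ?_, ?_, ?_, ?_, ?_, ?_⟩⟩ <;> omega)

end Groth.Agent.S7362
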