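import Groth.Statements.S7363
import Groth.Agent.Lib.NumType.Classify

set_option autoImplicit false
open Finset
open Models Models.NumericalType

namespace Groth.Agent.S7363

open Groth.Agent.NumType

set_option maxHeartbeats 1000000

/-- Genus one classification: case n = 3: let T be a minimal numerical type of genus 1 on three indices.
Then all g = 0 and, for some ordering i, j, k of the indices and some integers m, w, the data (m; a;
w) is one of: (m,m,m; a_ii = a_jj = a_kk = -2w, a_ij = a_ik = a_jk = w; w,w,w); (m,2m,m; a_ii = -2w,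
a_ij = w, a_ik = 0, a_jj = -2w, a_jk = 3w, a_kk = -6w; w,w,3w); (m,2m,3m; a_ii = -6w, a_ij = 3w,
a_ik = 0, a_jj = -6w, a_jk = 3w, a_kk = -2w; 3w,3w,w); (2m,2m,m; a_ii = -2w, a_ij = 2w, a_ik = 0,
a_jj = -4w, a_jk = 4w, a_kk = -8w; w,2w,4w); (m,m,m; a_ii = -2w, a_ij = 2w, a_ik = 0, a_jj = -4w,
a_jk = 2w, a_kk = -2w; w,2w,w); (m,2m,m; a_ii = -4w, a_ij = 2w, a_ik = 0, a_jj = -2w, a_jk = 2w,
a_kk = -4w; 2w,w,2w). Only the classification direction is stated. -/
theorem result (T : Models.NumericalType 3) (hmin : T.IsMinimal) (hg : T.genus = 1) :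
    ∃ (i j k : Fin 3) (m w : ℤ), i ≠ j ∧ j ≠ k ∧ i ≠ k ∧ T.g i = 0 ∧ T.g j = 0 ∧ T.g k = 0 ∧
      ((T.m i = m ∧ T.m j = m ∧ T.m k = m ∧ T.a i i = -2 * w ∧ T.a j j = -2 * w ∧ T.a k k = -2 * w ∧
          T.a i j = w ∧ T.a i k = w ∧ T.a j k = w ∧ T.w i = w ∧ T.w j = w ∧ T.w k = w) ∨
        (T.m i = m ∧ T.m j = 2 * m ∧ T.m k = m ∧ T.a i i = -2 * w ∧ T.a i j = w ∧ T.a i k = 0 ∧ T.a j j = -2 * w ∧
          T.a j k = 3 * w ∧ T.a k k = -6 * w ∧ T.w i = w ∧ T.w j = w ∧ T.w k = 3 * w) ∨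
        (T.m i = m ∧ T.m j = 2 * m ∧ T.m k = 3 * m ∧ T.a i i = -6 * w ∧ T.a i j = 3 * w ∧ T.a i k = 0 ∧ T.a j j = -6 * w ∧
          T.a j k = 3 * w ∧ T.a k k = -2 * w ∧ T.w i = 3 * w ∧ T.w j = 3 * w ∧ T.w k = w) ∨
        (T.m i = 2 * m ∧ T.m j = 2 * m ∧ T.m k = m ∧ T.a i i = -2 * w ∧ T.a i j = 2 * w ∧ T.a i k = 0 ∧ T.a j j = -4 * w ∧
          T.a j k = 4 * w ∧ T.a k k = -8 * w ∧ T.w i = w ∧ T.w j = 2 * w ∧ T.w k = 4 * w) ∨
        (T.m i = m ∧ T.m j = m ∧ T.m k = m ∧ T.a i i = -2 * w ∧ T.a i j = 2 * w ∧ T.a i k = 0 ∧ T.a j j = -4 * w ∧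
          T.a j k = 2 * w ∧ T.a k k = -2 * w ∧ T.w i = w ∧ T.w j = 2 * w ∧ T.w k = w) ∨
        (T.m i = m ∧ T.m j = 2 * m ∧ T.m k = m ∧ T.a i i = -4 * w ∧ T.a i j = 2 * w ∧ T.a i k = 0 ∧ T.a j j = -2 * w ∧
          T.a j k = 2 * w ∧ T.a k k = -4 * w ∧ T.w i = 2 * w ∧ T.w j = w ∧ T.w k = 2 * w)) := by
  have hall := isMinusTwo_of_genus_one hmin hg (by norm_num)
  have hg0 : ∀ i, T.g i = 0 := fun i => (hall i).1
  rcases classify (by norm_num) hall with ⟨σ, m, w, h⟩ | ⟨σ, m, w, h | h | h⟩ | ⟨h4, σ, m, w, h | h⟩ | ⟨h5, σ, m, w, h⟩ | ⟨h7, h⟩ | ⟨h8, h⟩ | ⟨h9, h⟩ | ⟨h5, h⟩ | ⟨h3, h⟩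
  · obtain ⟨c0, c1, c2, c3, c4⟩ := h
    refine ⟨σ 0, σ 1, σ 2, m, w, σ.injective.ne (by decide), σ.injective.ne (by decide), σ.injective.ne (by decide), hg0 _, hg0 _, hg0 _, Or.inl (?_)⟩
    repeat' apply And.intro
    all_goals first | exact c0 _ | exact c1 _ | exact c2 _ _ (by decide) (by decide) | (rw [a_symm T]; exact c2 _ _ (by decide) (by decide)) | exact c3 _ _ (by decide) (by decide) | (rw [a_symm T]; exact c3 _ _ (by decide) (by decide)) | exact c4 _ _ (by decide) (by decide) (by decide) | (rw [a_symm T]; exact c4 _ _ (by decide) (by decide) (by decide)) | (rw [(hall _).2]; first | (rw [c1 _]; all_goals ring1))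
  · obtain ⟨c0, c1, c2, c3, c4, c5, c6, c7⟩ := h
    refine ⟨σ 0, σ 1, σ 2, m, w, σ.injective.ne (by decide), σ.injective.ne (by decide), σ.injective.ne (by decide), hg0 _, hg0 _, hg0 _, Or.inr (Or.inr (Or.inr (Or.inl (?_))))⟩
    repeat' apply And.intro
    all_goals first | exact c0 _ (by decide) | exact c1 _ (by decide) | exact c2 _ (by decide) | exact c3 _ (by decide) | exact c4 _ (by decide) | exact c5 _ _ (by decide) (by decide) | (rw [a_symm T]; exact c5 _ _ (by decide) (by decide)) | exact c6 _ _ (by decide) (by decide) | (rw [a_symm T]; exact c6 _ _ (by decide) (by decide)) | exact c7 _ _ (by decide) (by decide) (by decide) | (rw [a_symm T]; exact c7 _ _ (by decide) (by decide) (by decide)) | (rw [(hall _).2]; first | (rw [c2 _ (by decide)]; all_goals ring1) | (rw [c3 _ (by decide)]; all_goals ring1) | (rw [c4 _ (by decide)]; all_goals ring1))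
  · obtain ⟨c0, c1, c2, c3, c4, c5⟩ := h
    refine ⟨σ 0, σ 1, σ 2, m, w, σ.injective.ne (by decide), σ.injective.ne (by decide), σ.injective.ne (by decide), hg0 _, hg0 _, hg0 _, Or.inr (Or.inr (Or.inr (Or.inr (Or.inl (?_)))))⟩
    repeat' apply And.intro
    all_goals first | exact c0 _ | exact c1 _ (by decide) | exact c2 _ (by decide) | exact c3 _ (by decide) | exact c4 _ _ (by decide) (by decide) | (rw [a_symm T]; exact c4 _ _ (by decide) (by decide)) | exact c5 _ _ (by decide) (by decide) | (rw [a_symm T]; exact c5 _ _ (by decide) (by decide)) | (rw [(hall _).2]; first | (rw [c1 _ (by decide)]; all_goals ring1) | (rw [c2 _ (by decide)]; all_goals ring1) | (rw [c3 _ (by decide)]; all_goals ring1))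
  · obtain ⟨c0, c1, c2, c3, c4, c5, c6, c7, c8, c9⟩ := h
    refine ⟨σ 0, σ 1, σ 2, m, w, σ.injective.ne (by decide), σ.injective.ne (by decide), σ.injective.ne (by decide), hg0 _, hg0 _, hg0 _, Or.inr (Or.inr (Or.inr (Or.inr (Or.inr (?_)))))⟩
    repeat' apply And.intro
    all_goals first | exact c0 _ (by decide) | exact c1 _ (by decide) | exact c2 _ (by decide) | exact c3 _ (by decide) | exact c4 _ (by decide) | exact c5 _ (by decide) | exact c6 _ _ (by decide) (by decide) | (rw [a_symm T]; exact c6 _ _ (by decide) (by decide)) | exact c7 _ _ (by decide) (by decide) | (rw [a_symm T]; exact c7 _ _ (by decide) (by decide)) | exact c8 _ _ (by decide) (by decide) | (rw [a_symm T]; exact c8 _ _ (by decide) (by decide)) | exact c9 _ _ (by decide) (by decide) (by decide) (by decide) | (rw [a_symm T]; exact c9 _ _ (by decide) (by decide) (by decide) (by decide)) | (rw [(hall _).2]; first | (rw [c3 _ (by decide)]; all_goals ring1) | (rw [c4 _ (by decide)]; all_goals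 ring1) | (rw [c5 _ (by decide)]; all_goals ring1))
  · omega
  · omega
  · omega
  · omega
  · omega
  · omega
  · omega
  · obtain ⟨σ, hE, hm⟩ := h
    have hne : ∀ a b : Fin 3, a.val < b.val → σ a ≠ σ b := fun a b h e => h.ne (congrArg Fin.val (σ.injective e))
    have e01 := edge_one (T := T) (hne 0 1 (by decide)) (by rw [hE _ _ (by decide)]; simp [rG2, edgesR])
    have e12 := edge_three (T := T) (hne 1 2 (by decide)) (by rw [hE _ _ (by decide)]; simp [rG2, edgesR])
    obtain ⟨e01x, e01w⟩ := e01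
    rcases e12 with ⟨e12x, e12w⟩ | ⟨e12x, e12w⟩
    · have W0 : T.w (σ 0) = T.w (σ 0) := by omega
      have W1 : T.w (σ 1) = T.w (σ 0) := by omega
      have W2 : T.w (σ 2) = 3 * T.w (σ 0) := by omega
      have hp : 0 < T.w (σ 0) := T.w_pos _
      have M0 : T.m (σ 0) = T.m (σ 0) := rfl
      have M1 : T.m (σ 1) = 2 * T.m (σ 0) := by
        have h := hm 1 0
        simp [W1, W0] at h
        exact eq_mul_of_sq (c := 2) (T.m_pos _) (T.m_pos _) hp (by norm_num) (by linarith)
      have M2 : T.m (σ 2) = 1 * T.m (σ 0) := by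
        have h := hm 2 0
        simp [W2, W0] at h
        first
          | exact eq_mul_of_sq (c := 1) (T.m_pos _) (T.m_pos _) hp one_pos (by linarith)
          | (rw [one_mul]; exact (pow_left_inj₀ (T.m_pos _).le (T.m_pos _).le two_ne_zero).1 (h.resolve_right hp.ne'))
      refine ⟨σ 0, σ 1, σ 2, T.m (σ 0), T.w (σ 0), σ.injective.ne (by decide), σ.injective.ne (by decide), σ.injective.ne (by decide), hg0 _, hg0 _, hg0 _, Or.inr (Or.inl (?_))⟩
      repeat' apply And.intro
      all_goals first | exact M0 | exact M1 | exact M2 | linarith [M2] | exact W0 | exact W1 | exact W2 | exact edge_zero (by rw [hE _ _ (by decide)]; simp [rG2, edgesR]) | (rw [a_symm T]; exact edge_zero (by rw [hE _ _ (by decide)]; simp [rG2, edgesR])) | (rw [(hall _).2, W0]; all_goals ring1) | (rw [(hall _).2, W1]; all_goals ring1) | (rw [(hall _).2, W2]; all_goals ring1) | (rw [e01x]; all_goals omega) | (rw [a_symm T, e01x]; all_goals omega) | (rw [e12x]; all_goals omega) | (rw [a_symm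 T, e12x]; all_goals omega)
    · have W0 : T.w (σ 0) = 3 * T.w (σ 2) := by omega
      have W1 : T.w (σ 1) = 3 * T.w (σ 2) := by omega
      have W2 : T.w (σ 2) = T.w (σ 2) := by omega
      have hp : 0 < T.w (σ 2) := T.w_pos _
      have M0 : T.m (σ 0) = T.m (σ 0) := rfl
      have M1 : T.m (σ 1) = 2 * T.m (σ 0) := by
        have h := hm 1 0
        simp [W1, W0] at h
        exact eq_mul_of_sq (c := 2) (T.m_pos _) (T.m_pos _) hp (by norm_num) (by linarith)
      have M2 : T.m (σ 2) = 3 * T.m (σ 0) := by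
        have h := hm 2 0
        simp [W2, W0] at h
        exact eq_mul_of_sq (c := 3) (T.m_pos _) (T.m_pos _) hp (by norm_num) (by linarith)
      refine ⟨σ 0, σ 1, σ 2, T.m (σ 0), T.w (σ 2), σ.injective.ne (by decide), σ.injective.ne (by decide), σ.injective.ne (by decide), hg0 _, hg0 _, hg0 _, Or.inr (Or.inr (Or.inl (?_)))⟩
      repeat' apply And.intro
      all_goals first | exact M0 | exact M1 | exact M2 | exact W0 | exact W1 | exact W2 | exact edge_zero (by rw [hE _ _ (by decide)]; simp [rG2, edgesR]) | (rw [a_symm T]; exact edge_zero (by rw [hE _ _ (by decide)]; simp [rG2, edgesR])) | (rw [(hall _).2, W0]; all_goals ring1) | (rw [(hall _).2, W1]; all_goals ring1) | (rw [(hall _).2, W2]; all_goals ring1) | (rw [e01x]; all_goals omega) | (rw [a_symm T, e01x]; all_goals omega) | (rw [e12x]; all_goals omega) | (rw [a_symm T, e12x]; all_goals omega)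

end Groth.Agent.S7363
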