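import Groth.Statements.S7365
import Groth.Agent.Lib.NumType.Classify

set_option autoImplicit false
open Finset
open Models Models.NumericalType

namespace Groth.Agent.S7365

open Groth.Agent.NumType

set_option maxHeartbeats 1000000

/-- Genus one classification: case n = 5: let T be a minimal numerical type of genus 1 on 5 indices.
Then all g_i = 0 and, for some permutation σ of the indices and some integers m, w, the
multiplicities, weights and intersection matrix (m_{σ(i)}, w_{σ(i)}, a_{σ(i)σ(j)}) are those of one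
of the following 9 types: [five cycle] m = (m, m, m, m, m), w = (w, w, w, w, w), a = (-2 * w w 0 0 w
/ w -2 * w w 0 0 / 0 w -2 * w w 0 / 0 0 w -2 * w w / w 0 0 w -2 * w); [equal equal up equal] m = (m,
2 * m, 3 * m, 2 * m, m), w = (w, w, w, 2 * w, 2 * w), a = (-2 * w w 0 0 0 / w -2 * w w 0 0 / 0 w -2
* w 2 * w 0 / 0 0 2 * w -4 * w 2 * w / 0 0 0 2 * w -4 * w); [equal equal down equal] m = (m, 2 * m,
3 * m, 4 * m, 2 * m), w = (2 * w, 2 * w, 2 * w, w, w), a = (-4 * w 2 * w 0 0 0 / 2 * w -4 * w 2 * w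
0 0 / 0 2 * w -4 * w 2 * w 0 / 0 0 2 * w -2 * w w / 0 0 0 w -2 * w); [up equal equal up] m = (2 * m,
2 * m, 2 * m, 2 * m, m), w = (w, 2 * w, 2 * w, 2 * w, 4 * w), a = (-2 * w 2 * w 0 0 0 / 2 * w -4 * w
2 * w 0 0 / 0 2 * w -4 * w 2 * w 0 / 0 0 2 * w -4 * w 4 * w / 0 0 0 4 * w -8 * w); [up equal equal
down] m = (m, m, m, m, m), w = (w, 2 * w, 2 * w, 2 * w, w), a = (-2 * w 2 * w 0 0 0 / 2 * w -4 * w 2
* w 0 0 / 0 2 * w -4 * w 2 * w 0 / 0 0 2 * w -4 * w 2 * w / 0 0 0 2 * w -2 * w); [down equal equal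
up] m = (m, 2 * m, 2 * m, 2 * m, m), w = (2 * w, w, w, w, 2 * w), a = (-4 * w 2 * w 0 0 0 / 2 * w -2
* w w 0 0 / 0 w -2 * w w 0 / 0 0 w -2 * w 2 * w / 0 0 0 2 * w -4 * w); [quadruple] m = (2 * m, m, m,
m, m), w = (w, w, w, w, w), a = (-2 * w w w w w / w -2 * w 0 0 0 / w 0 -2 * w 0 0 / w 0 0 -2 * w 0 /
w 0 0 0 -2 * w); [triple extended up] m = (m, 2 * m, 2 * m, m, m), w = (2 * w, w, w, w, w), a = (-4
* w 2 * w 0 0 0 / 2 * w -2 * w w 0 0 / 0 w -2 * w w w / 0 0 w -2 * w 0 / 0 0 w 0 -2 * w); [triple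
extended down] m = (2 * m, 2 * m, 2 * m, m, m), w = (w, 2 * w, 2 * w, 2 * w, 2 * w), a = (-2 * w 2 *
w 0 0 0 / 2 * w -4 * w 2 * w 0 0 / 0 2 * w -4 * w 2 * w 2 * w / 0 0 2 * w -4 * w 0 / 0 0 2 * w 0 -4
* w). Only the classification direction is stated. -/
theorem result (T : Models.NumericalType 5) (hmin : T.IsMinimal) (hg : T.genus = 1) :
    (∀ i, T.g i = 0) ∧ ∃ (σ : Equiv.Perm (Fin 5)) (m w : ℤ),
      ((T.m (σ 0) = m ∧ T.m (σ 1) = m ∧ T.m (σ 2) = m ∧ T.m (σ 3) = m ∧ T.m (σ 4) = m ∧ T.w (σ 0) = w ∧ T.w (σ 1) = w ∧ T.w (σ 2) = w ∧ T.w (σ 3) = w ∧ T.w (σ 4) = w ∧ T.a (σ 0) (σ 0) = -2 * w ∧ T.a (σ 0) (σ 1) = w ∧ T.a (σ 0) (σ 2) = 0 ∧ T.a (σ 0) (σ 3) = 0 ∧ T.a (σ 0) (σ 4) = w ∧ T.a (σ 1) (σ 1) = -2 * w ∧ T.a (σ 1) (σ 2) = w ∧ T.a (σ 1) (σ 3) = 0 ∧ T.a (σ 1) (σ 4) = 0 ∧ T.a (σ 2) (σ 2) = -2 * w ∧ T.a (σ 2) (σ 3) = w ∧ T.a (σ 2) (σ 4) = 0 ∧ T.a (σ 3) (σ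 3) = -2 * w ∧ T.a (σ 3) (σ 4) = w ∧ T.a (σ 4) (σ 4) = -2 * w) ∨
      (T.m (σ 0) = m ∧ T.m (σ 1) = 2 * m ∧ T.m (σ 2) = 3 * m ∧ T.m (σ 3) = 2 * m ∧ T.m (σ 4) = m ∧ T.w (σ 0) = w ∧ T.w (σ 1) = w ∧ T.w (σ 2) = w ∧ T.w (σ 3) = 2 * w ∧ T.w (σ 4) = 2 * w ∧ T.a (σ 0) (σ 0) = -2 * w ∧ T.a (σ 0) (σ 1) = w ∧ T.a (σ 0) (σ 2) = 0 ∧ T.a (σ 0) (σ 3) = 0 ∧ T.a (σ 0) (σ 4) = 0 ∧ T.a (σ 1) (σ 1) = -2 * w ∧ T.a (σ 1) (σ 2) = w ∧ T.a (σ 1) (σ 3) = 0 ∧ T.a (σ 1) (σ 4) = 0 ∧ T.a (σ 2) (σ 2) = -2 * w ∧ T.a (σ 2) (σ 3) = 2 * w ∧ T.a (σ 2) (σ 4) = 0 ∧ T.a (σ 3) (σ 3) = -4 * w ∧ T.a (σ 3) (σ 4) = 2 * w ∧ T.a (σ 4) (σ 4) = -4 * w) ∨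
      (T.m (σ 0) = m ∧ T.m (σ 1) = 2 * m ∧ T.m (σ 2) = 3 * m ∧ T.m (σ 3) = 4 * m ∧ T.m (σ 4) = 2 * m ∧ T.w (σ 0) = 2 * w ∧ T.w (σ 1) = 2 * w ∧ T.w (σ 2) = 2 * w ∧ T.w (σ 3) = w ∧ T.w (σ 4) = w ∧ T.a (σ 0) (σ 0) = -4 * w ∧ T.a (σ 0) (σ 1) = 2 * w ∧ T.a (σ 0) (σ 2) = 0 ∧ T.a (σ 0) (σ 3) = 0 ∧ T.a (σ 0) (σ 4) = 0 ∧ T.a (σ 1) (σ 1) = -4 * w ∧ T.a (σ 1) (σ 2) = 2 * w ∧ T.a (σ 1) (σ 3) = 0 ∧ T.a (σ 1) (σ 4) = 0 ∧ T.a (σ 2) (σ 2) = -4 * w ∧ T.a (σ 2) (σ 3) = 2 * w ∧ T.a (σ 2) (σ 4) = 0 ∧ T.a (σ 3) (σ 3) = -2 * w ∧ T.a (σ 3) (σ 4) = w ∧ T.a (σ 4) (σ 4) = -2 * w) ∨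
      (T.m (σ 0) = 2 * m ∧ T.m (σ 1) = 2 * m ∧ T.m (σ 2) = 2 * m ∧ T.m (σ 3) = 2 * m ∧ T.m (σ 4) = m ∧ T.w (σ 0) = w ∧ T.w (σ 1) = 2 * w ∧ T.w (σ 2) = 2 * w ∧ T.w (σ 3) = 2 * w ∧ T.w (σ 4) = 4 * w ∧ T.a (σ 0) (σ 0) = -2 * w ∧ T.a (σ 0) (σ 1) = 2 * w ∧ T.a (σ 0) (σ 2) = 0 ∧ T.a (σ 0) (σ 3) = 0 ∧ T.a (σ 0) (σ 4) = 0 ∧ T.a (σ 1) (σ 1) = -4 * w ∧ T.a (σ 1) (σ 2) = 2 * w ∧ T.a (σ 1) (σ 3) = 0 ∧ T.a (σ 1) (σ 4) = 0 ∧ T.a (σ 2) (σ 2) = -4 * w ∧ T.a (σ 2) (σ 3) = 2 * w ∧ T.a (σ 2) (σ 4) = 0 ∧ T.a (σ 3) (σ 3) = -4 * w ∧ T.a (σ 3) (σ 4) = 4 * w ∧ T.a (σ 4) (σ 4) = -8 * w) ∨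
      (T.m (σ 0) = m ∧ T.m (σ 1) = m ∧ T.m (σ 2) = m ∧ T.m (σ 3) = m ∧ T.m (σ 4) = m ∧ T.w (σ 0) = w ∧ T.w (σ 1) = 2 * w ∧ T.w (σ 2) = 2 * w ∧ T.w (σ 3) = 2 * w ∧ T.w (σ 4) = w ∧ T.a (σ 0) (σ 0) = -2 * w ∧ T.a (σ 0) (σ 1) = 2 * w ∧ T.a (σ 0) (σ 2) = 0 ∧ T.a (σ 0) (σ 3) = 0 ∧ T.a (σ 0) (σ 4) = 0 ∧ T.a (σ 1) (σ 1) = -4 * w ∧ T.a (σ 1) (σ 2) = 2 * w ∧ T.a (σ 1) (σ 3) = 0 ∧ T.a (σ 1) (σ 4) = 0 ∧ T.a (σ 2) (σ 2) = -4 * w ∧ T.a (σ 2) (σ 3) = 2 * w ∧ T.a (σ 2) (σ 4) = 0 ∧ T.a (σ 3) (σ 3) = -4 * w ∧ T.a (σ 3) (σ 4) = 2 * w ∧ T.a (σ 4) (σ 4) = -2 * w) ∨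
      (T.m (σ 0) = m ∧ T.m (σ 1) = 2 * m ∧ T.m (σ 2) = 2 * m ∧ T.m (σ 3) = 2 * m ∧ T.m (σ 4) = m ∧ T.w (σ 0) = 2 * w ∧ T.w (σ 1) = w ∧ T.w (σ 2) = w ∧ T.w (σ 3) = w ∧ T.w (σ 4) = 2 * w ∧ T.a (σ 0) (σ 0) = -4 * w ∧ T.a (σ 0) (σ 1) = 2 * w ∧ T.a (σ 0) (σ 2) = 0 ∧ T.a (σ 0) (σ 3) = 0 ∧ T.a (σ 0) (σ 4) = 0 ∧ T.a (σ 1) (σ 1) = -2 * w ∧ T.a (σ 1) (σ 2) = w ∧ T.a (σ 1) (σ 3) = 0 ∧ T.a (σ 1) (σ 4) = 0 ∧ T.a (σ 2) (σ 2) = -2 * w ∧ T.a (σ 2) (σ 3) = w ∧ T.a (σ 2) (σ 4) = 0 ∧ T.a (σ 3) (σ 3) = -2 * w ∧ T.a (σ 3) (σ 4) = 2 * w ∧ T.a (σ 4) (σ 4) = -4 * w) ∨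
      (T.m (σ 0) = 2 * m ∧ T.m (σ 1) = m ∧ T.m (σ 2) = m ∧ T.m (σ 3) = m ∧ T.m (σ 4) = m ∧ T.w (σ 0) = w ∧ T.w (σ 1) = w ∧ T.w (σ 2) = w ∧ T.w (σ 3) = w ∧ T.w (σ 4) = w ∧ T.a (σ 0) (σ 0) = -2 * w ∧ T.a (σ 0) (σ 1) = w ∧ T.a (σ 0) (σ 2) = w ∧ T.a (σ 0) (σ 3) = w ∧ T.a (σ 0) (σ 4) = w ∧ T.a (σ 1) (σ 1) = -2 * w ∧ T.a (σ 1) (σ 2) = 0 ∧ T.a (σ 1) (σ 3) = 0 ∧ T.a (σ 1) (σ 4) = 0 ∧ T.a (σ 2) (σ 2) = -2 * w ∧ T.a (σ 2) (σ 3) = 0 ∧ T.a (σ 2) (σ 4) = 0 ∧ T.a (σ 3) (σ 3) = -2 * w ∧ T.a (σ 3) (σ 4) = 0 ∧ T.a (σ 4) (σ 4) = -2 * w) ∨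
      (T.m (σ 0) = m ∧ T.m (σ 1) = 2 * m ∧ T.m (σ 2) = 2 * m ∧ T.m (σ 3) = m ∧ T.m (σ 4) = m ∧ T.w (σ 0) = 2 * w ∧ T.w (σ 1) = w ∧ T.w (σ 2) = w ∧ T.w (σ 3) = w ∧ T.w (σ 4) = w ∧ T.a (σ 0) (σ 0) = -4 * w ∧ T.a (σ 0) (σ 1) = 2 * w ∧ T.a (σ 0) (σ 2) = 0 ∧ T.a (σ 0) (σ 3) = 0 ∧ T.a (σ 0) (σ 4) = 0 ∧ T.a (σ 1) (σ 1) = -2 * w ∧ T.a (σ 1) (σ 2) = w ∧ T.a (σ 1) (σ 3) = 0 ∧ T.a (σ 1) (σ 4) = 0 ∧ T.a (σ 2) (σ 2) = -2 * w ∧ T.a (σ 2) (σ 3) = w ∧ T.a (σ 2) (σ 4) = w ∧ T.a (σ 3) (σ 3) = -2 * w ∧ T.a (σ 3) (σ 4) = 0 ∧ T.a (σ 4) (σ 4) = -2 * w) ∨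
      (T.m (σ 0) = 2 * m ∧ T.m (σ 1) = 2 * m ∧ T.m (σ 2) = 2 * m ∧ T.m (σ 3) = m ∧ T.m (σ 4) = m ∧ T.w (σ 0) = w ∧ T.w (σ 1) = 2 * w ∧ T.w (σ 2) = 2 * w ∧ T.w (σ 3) = 2 * w ∧ T.w (σ 4) = 2 * w ∧ T.a (σ 0) (σ 0) = -2 * w ∧ T.a (σ 0) (σ 1) = 2 * w ∧ T.a (σ 0) (σ 2) = 0 ∧ T.a (σ 0) (σ 3) = 0 ∧ T.a (σ 0) (σ 4) = 0 ∧ T.a (σ 1) (σ 1) = -4 * w ∧ T.a (σ 1) (σ 2) = 2 * w ∧ T.a (σ 1) (σ 3) = 0 ∧ T.a (σ 1) (σ 4) = 0 ∧ T.a (σ 2) (σ 2) = -4 * w ∧ T.a (σ 2) (σ 3) = 2 * w ∧ T.a (σ 2) (σ 4) = 2 * w ∧ T.a (σ 3) (σ 3) = -4 * w ∧ T.a (σ 3) (σ 4) = 0 ∧ T.a (σ 4) (σ 4) = -4 * w)) := by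
  have hall := isMinusTwo_of_genus_one hmin hg (by norm_num)
  have hg0 : ∀ i, T.g i = 0 := fun i => (hall i).1
  rcases classify (by norm_num) hall with ⟨σ, m, w, h⟩ | ⟨σ, m, w, h | h | h⟩ | ⟨-, σ, m, w, h | h⟩ | ⟨h5, σ, m, w, h⟩ | ⟨h7, h⟩ | ⟨h8, h⟩ | ⟨h9, h⟩ | ⟨h5, h⟩ | ⟨h3, h⟩
  · obtain ⟨c0, c1, c2, c3, c4⟩ := h
    refine ⟨hg0, σ, m, w, Or.inl (?_)⟩
    repeat' apply And.intro
    all_goals first | exact c0 _ | exact c1 _ | exact c2 _ _ (by decide) (by decide) | (rw [a_symm T]; exact c2 _ _ (by decide) (by decide)) | exact c3 _ _ (by decide) (by decide) | (rw [a_symm T]; exact c3 _ _ (by decide) (by decide)) | exact c4 _ _ (by decide) (by decide) (by decide) | (rw [a_symm T]; exact c4 _ _ (by decide) (by decide) (by decide)) | (rw [(hall _).2]; first | (rw [c1 _]; all_goals ring1))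
  · obtain ⟨c0, c1, c2, c3, c4, c5, c6, c7⟩ := h
    refine ⟨hg0, σ, m, w, Or.inr (Or.inr (Or.inr (Or.inl (?_))))⟩
    repeat' apply And.intro
    all_goals first | exact c0 _ (by decide) | exact c1 _ (by decide) | exact c2 _ (by decide) | exact c3 _ (by decide) | exact c4 _ (by decide) | exact c5 _ _ (by decide) (by decide) | (rw [a_symm T]; exact c5 _ _ (by decide) (by decide)) | exact c6 _ _ (by decide) (by decide) | (rw [a_symm T]; exact c6 _ _ (by decide) (by decide)) | exact c7 _ _ (by decide) (by decide) (by decide) | (rw [a_symm T]; exact c7 _ _ (by decide) (by decide) (by decide)) | (rw [(hall _).2]; first | (rw [c2 _ (by decide)]; all_goals ring1) | (rw [c3 _ (by decide)]; all_goals ring1) | (rw [c4 _ (by decide)]; all_goals ring1))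
  · obtain ⟨c0, c1, c2, c3, c4, c5⟩ := h
    refine ⟨hg0, σ, m, w, Or.inr (Or.inr (Or.inr (Or.inr (Or.inl (?_)))))⟩
    repeat' apply And.intro
    all_goals first | exact c0 _ | exact c1 _ (by decide) | exact c2 _ (by decide) | exact c3 _ (by decide) | exact c4 _ _ (by decide) (by decide) | (rw [a_symm T]; exact c4 _ _ (by decide) (by decide)) | exact c5 _ _ (by decide) (by decide) | (rw [a_symm T]; exact c5 _ _ (by decide) (by decide)) | (rw [(hall _).2]; first | (rw [c1 _ (by decide)]; all_goals ring1) | (rw [c2 _ (by decide)]; all_goals ring1) | (rw [c3 _ (by decide)]; all_goals ring1))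
  · obtain ⟨c0, c1, c2, c3, c4, c5, c6, c7, c8, c9⟩ := h
    refine ⟨hg0, σ, m, w, Or.inr (Or.inr (Or.inr (Or.inr (Or.inr (Or.inl (?_))))))⟩
    repeat' apply And.intro
    all_goals first | exact c0 _ (by decide) | exact c1 _ (by decide) | exact c2 _ (by decide) | exact c3 _ (by decide) | exact c4 _ (by decide) | exact c5 _ (by decide) | exact c6 _ _ (by decide) (by decide) | (rw [a_symm T]; exact c6 _ _ (by decide) (by decide)) | exact c7 _ _ (by decide) (by decide) | (rw [a_symm T]; exact c7 _ _ (by decide) (by decide)) | exact c8 _ _ (by decide) (by decide) | (rw [a_symm T]; exact c8 _ _ (by decide) (by decide)) | exact c9 _ _ (by decide) (by decide) (by decide) (by decide) | (rw [a_symm T]; exact c9 _ _ (by decide) (by decide) (by decide) (by decide)) | (rw [(hall _).2]; first | (rw [c3 _ (by decide)]; all_goals ring1) | (rw [c4 _ (by decide)];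 all_goals ring1) | (rw [c5 _ (by decide)]; all_goals ring1))
  · obtain ⟨c0, c1, c2, c3, c4, c5, c6, c7, c8⟩ := h
    refine ⟨hg0, σ, m, w, Or.inr (Or.inr (Or.inr (Or.inr (Or.inr (Or.inr (Or.inr (Or.inl (?_))))))))⟩
    repeat' apply And.intro
    all_goals first | exact c0 _ (by decide) | exact c1 _ (by decide) | exact c2 _ (by decide) | exact c3 _ (by decide) | exact c4 _ (by decide) | exact c5 _ _ (by decide) (by decide) | (rw [a_symm T]; exact c5 _ _ (by decide) (by decide)) | exact c6 _ _ (by decide) (by decide) | (rw [a_symm T]; exact c6 _ _ (by decide) (by decide)) | exact c7 _ _ (by decide) (by decide) | (rw [a_symm T]; exact c7 _ _ (by decide) (by decide)) | exact c8 _ _ (by decide) (by decide) (by decide) (by decide) | (rw [a_symm T]; exact c8 _ _ (by decide) (by decide) (by decide) (by decide)) | (rw [(hall _).2]; first | (rw [c3 _ (by decide)];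 all_goals ring1) | (rw [c4 _ (by decide)]; all_goals ring1))
  · obtain ⟨c0, c1, c2, c3, c4, c5, c6⟩ := h
    refine ⟨hg0, σ, m, w, Or.inr (Or.inr (Or.inr (Or.inr (Or.inr (Or.inr (Or.inr (Or.inr (?_))))))))⟩
    repeat' apply And.intro
    all_goals first | exact c0 _ (by decide) | exact c1 _ (by decide) | exact c2 _ (by decide) | exact c3 _ (by decide) | exact c4 _ _ (by decide) (by decide) | (rw [a_symm T]; exact c4 _ _ (by decide) (by decide)) | exact c5 _ _ (by decide) (by decide) | (rw [a_symm T]; exact c5 _ _ (by decide) (by decide)) | exact c6 _ _ (by decide) (by decide) (by decide) | (rw [a_symm T]; exact c6 _ _ (by decide) (by decide) (by decide)) | (rw [(hall _).2]; first | (rw [c2 _ (by decide)]; all_goals ring1) | (rw [c3 _ (by decide)]; all_goals ring1))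
  · obtain ⟨c0, c1, c2, c3, c4, c5, c6, c7, c8⟩ := h
    let π : Equiv.Perm (Fin 5) := ⟨![2,0,1,3,4], ![1,2,0,3,4], by decide, by decide⟩
    refine ⟨hg0, π.trans σ, m, w, Or.inr (Or.inr (Or.inr (Or.inr (Or.inr (Or.inr (Or.inl (?_)))))))⟩
    simp only [Equiv.trans_apply]
    repeat' apply And.intro
    all_goals first | exact c0 _ (by decide) | exact c1 _ (by decide) | exact c2 _ (by decide) | exact c3 _ | exact c4 _ _ (by decide) (by decide) | (rw [a_symm T]; exact c4 _ _ (by decide) (by decide)) | exact c5 _ _ (by decide) (by decide) | (rw [a_symm T]; exact c5 _ _ (by decide) (by decide)) | exact c6 _ _ (by decide) (by decide) | (rw [a_symm T]; exact c6 _ _ (by decide) (by decide)) | exact c7 _ _ (by decide) (by decide) | (rw [a_symm T]; exact c7 _ _ (by decide) (by decide)) | exact c8 _ _ (by decide) (by decide) (by decide) (by decide) (by decide)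 | (rw [a_symm T]; exact c8 _ _ (by decide) (by decide) (by decide) (by decide) (by decide)) | (rw [(hall _).2]; first | (rw [c3 _]; all_goals ring1))
  · omega
  · omega
  · omega
  · obtain ⟨σ, hE, hm⟩ := h
    have hne : ∀ a b : Fin 5, a.val < b.val → σ a ≠ σ b := fun a b h e => h.ne (congrArg Fin.val (σ.injective e))
    have e01 := edge_one (T := T) (hne 0 1 (by decide)) (by rw [hE _ _ (by decide)]; simp [rF4, edgesR])
    have e12 := edge_one (T := T) (hne 1 2 (by decide)) (by rw [hE _ _ (by decide)]; simp [rF4, edgesR])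
    have e23 := edge_two (T := T) (hne 2 3 (by decide)) (by rw [hE _ _ (by decide)]; simp [rF4, edgesR])
    have e34 := edge_one (T := T) (hne 3 4 (by decide)) (by rw [hE _ _ (by decide)]; simp [rF4, edgesR])
    obtain ⟨e01x, e01w⟩ := e01
    obtain ⟨e12x, e12w⟩ := e12
    obtain ⟨e34x, e34w⟩ := e34
    rcases e23 with ⟨e23x, e23w⟩ | ⟨e23x, e23w⟩
    · have W0 : T.w (σ 0) = T.w (σ 0) := by omega
      have W1 : T.w (σ 1) = T.w (σ 0) := by omega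
      have W2 : T.w (σ 2) = T.w (σ 0) := by omega
      have W3 : T.w (σ 3) = 2 * T.w (σ 0) := by omega
      have W4 : T.w (σ 4) = 2 * T.w (σ 0) := by omega
      have hp : 0 < T.w (σ 0) := T.w_pos _
      have M0 : T.m (σ 0) = T.m (σ 0) := rfl
      have M1 : T.m (σ 1) = 2 * T.m (σ 0) := by
        have h := hm 1 0
        simp [W1, W0] at h
        exact eq_mul_of_sq (c := 2) (T.m_pos _) (T.m_pos _) hp (by norm_num) (by linarith)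
      have M2 : T.m (σ 2) = 3 * T.m (σ 0) := by
        have h := hm 2 0
        simp [W2, W0] at h
        exact eq_mul_of_sq (c := 3) (T.m_pos _) (T.m_pos _) hp (by norm_num) (by linarith)
      have M3 : T.m (σ 3) = 2 * T.m (σ 0) := by
        have h := hm 3 0
        simp [W3, W0] at h
        exact eq_mul_of_sq (c := 2) (T.m_pos _) (T.m_pos _) hp (by norm_num) (by linarith)
      have M4 : T.m (σ 4) = 1 * T.m (σ 0) := by
        have h := hm 4 0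
        simp [W4, W0] at h
        first
          | exact eq_mul_of_sq (c := 1) (T.m_pos _) (T.m_pos _) hp one_pos (by linarith)
          | (rw [one_mul]; exact (pow_left_inj₀ (T.m_pos _).le (T.m_pos _).le two_ne_zero).1 (h.resolve_right hp.ne'))
      refine ⟨hg0, σ, T.m (σ 0), T.w (σ 0), Or.inr (Or.inl (?_))⟩
      repeat' apply And.intro
      all_goals first | exact M0 | exact M1 | exact M2 | exact M3 | exact M4 | linarith [M4] | exact W0 | exact W1 | exact W2 | exact W3 | exact W4 | exact edge_zero (by rw [hE _ _ (by decide)]; simp [rF4, edgesR]) | (rw [a_symm T]; exact edge_zero (by rw [hE _ _ (by decide)]; simp [rF4, edgesR])) | (rw [(hall _).2, W0]; all_goals ring1) | (rw [(hall _).2, W1]; all_goals ring1) | (rw [(hall _).2, W2]; all_goals ring1) | (rw [(hall _).2, W3]; all_goals ring1) | (rw [(hall _).2, W4]; all_goals ring1) | (rw [e01x];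 all_goals omega) | (rw [a_symm T, e01x]; all_goals omega) | (rw [e12x]; all_goals omega) | (rw [a_symm T, e12x]; all_goals omega) | (rw [e23x]; all_goals omega) | (rw [a_symm T, e23x]; all_goals omega) | (rw [e34x]; all_goals omega) | (rw [a_symm T, e34x]; all_goals omega)
    · have W0 : T.w (σ 0) = 2 * T.w (σ 3) := by omega
      have W1 : T.w (σ 1) = 2 * T.w (σ 3) := by omega
      have W2 : T.w (σ 2) = 2 * T.w (σ 3) := by omega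
      have W3 : T.w (σ 3) = T.w (σ 3) := by omega
      have W4 : T.w (σ 4) = T.w (σ 3) := by omega
      have hp : 0 < T.w (σ 3) := T.w_pos _
      have M0 : T.m (σ 0) = T.m (σ 0) := rfl
      have M1 : T.m (σ 1) = 2 * T.m (σ 0) := by
        have h := hm 1 0
        simp [W1, W0] at h
        exact eq_mul_of_sq (c := 2) (T.m_pos _) (T.m_pos _) hp (by norm_num) (by linarith)
      have M2 : T.m (σ 2) = 3 * T.m (σ 0) := by
        have h := hm 2 0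
        simp [W2, W0] at h
        exact eq_mul_of_sq (c := 3) (T.m_pos _) (T.m_pos _) hp (by norm_num) (by linarith)
      have M3 : T.m (σ 3) = 4 * T.m (σ 0) := by
        have h := hm 3 0
        simp [W3, W0] at h
        exact eq_mul_of_sq (c := 4) (T.m_pos _) (T.m_pos _) hp (by norm_num) (by linarith)
      have M4 : T.m (σ 4) = 2 * T.m (σ 0) := by
        have h := hm 4 0
        simp [W4, W0] at h
        exact eq_mul_of_sq (c := 2) (T.m_pos _) (T.m_pos _) hp (by norm_num) (by linarith)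
      refine ⟨hg0, σ, T.m (σ 0), T.w (σ 3), Or.inr (Or.inr (Or.inl (?_)))⟩
      repeat' apply And.intro
      all_goals first | exact M0 | exact M1 | exact M2 | exact M3 | exact M4 | exact W0 | exact W1 | exact W2 | exact W3 | exact W4 | exact edge_zero (by rw [hE _ _ (by decide)]; simp [rF4, edgesR]) | (rw [a_symm T]; exact edge_zero (by rw [hE _ _ (by decide)]; simp [rF4, edgesR])) | (rw [(hall _).2, W0]; all_goals ring1) | (rw [(hall _).2, W1]; all_goals ring1) | (rw [(hall _).2, W2]; all_goals ring1) | (rw [(hall _).2, W3]; all_goals ring1) | (rw [(hall _).2, W4]; all_goals ring1) | (rw [e01x]; all_goals omega) | (rw [a_symm T, e01x]; all_goals omega) | (rw [e12x]; all_goals omega) | (rw [a_symm T, e12x]; all_goals omega) | (rw [e23x]; all_goals omega) | (rw [a_symm T, e23x]; all_goals omega) | (rw [e34x]; all_goals omega) | (rw [a_symm T, e34x];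 all_goals omega)
  · omega

end Groth.Agent.S7365
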