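import Groth.Statements.S7368
import Groth.Agent.Lib.NumType.Classify

set_option autoImplicit false
open Finset
open Models Models.NumericalType

namespace Groth.Agent.S7368

open Groth.Agent.NumType

set_option maxHeartbeats 1000000

/-- Genus one classification: case n = 7: let T be a minimal numerical type of genus 1 on 7 indices.
Then all g_i = 0 and, for some permutation σ of the indices and some integers m, w, the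
multiplicities, weights and intersection matrix (m_{σ(i)}, w_{σ(i)}, a_{σ(i)σ(j)}) are those of one
of the following 8 types: [cycle] m = (m, m, m, m, m, m, m), w = (w, w, w, w, w, w, w), a = (-2 * w
w 0 0 0 0 w / w -2 * w w 0 0 0 0 / 0 w -2 * w w 0 0 0 / 0 0 w -2 * w w 0 0 / 0 0 0 w -2 * w w 0 / 0
0 0 0 w -2 * w w / w 0 0 0 0 w -2 * w); [up chain equal up] m = (2 * m, 2 * m, 2 * m, 2 * m, 2 * m,
2 * m, m), w = (w, 2 * w, 2 * w, 2 * w, 2 * w, 2 * w, 4 * w), a = (-2 * w 2 * w 0 0 0 0 0 / 2 * w -4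
* w 2 * w 0 0 0 0 / 0 2 * w -4 * w 2 * w 0 0 0 / 0 0 2 * w -4 * w 2 * w 0 0 / 0 0 0 2 * w -4 * w 2 *
w 0 / 0 0 0 0 2 * w -4 * w 4 * w / 0 0 0 0 0 4 * w -8 * w); [up chain equal down] m = (m, m, m, m,
m, m, m), w = (w, 2 * w, 2 * w, 2 * w, 2 * w, 2 * w, w), a = (-2 * w 2 * w 0 0 0 0 0 / 2 * w -4 * w
2 * w 0 0 0 0 / 0 2 * w -4 * w 2 * w 0 0 0 / 0 0 2 * w -4 * w 2 * w 0 0 / 0 0 0 2 * w -4 * w 2 * w 0
/ 0 0 0 0 2 * w -4 * w 2 * w / 0 0 0 0 0 2 * w -2 * w); [down chain equal up] m = (m, 2 * m, 2 * m,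
2 * m, 2 * m, 2 * m, m), w = (2 * w, w, w, w, w, w, 2 * w), a = (-4 * w 2 * w 0 0 0 0 0 / 2 * w -2 *
w w 0 0 0 0 / 0 w -2 * w w 0 0 0 / 0 0 w -2 * w w 0 0 / 0 0 0 w -2 * w w 0 / 0 0 0 0 w -2 * w 2 * w
/ 0 0 0 0 0 2 * w -4 * w); [D extended up] m = (m, 2 * m, 2 * m, 2 * m, 2 * m, m, m), w = (2 * w, w,
w, w, w, w, w), a = (-4 * w 2 * w 0 0 0 0 0 / 2 * w -2 * w w 0 0 0 0 / 0 w -2 * w w 0 0 0 / 0 0 w -2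
* w w 0 0 / 0 0 0 w -2 * w w w / 0 0 0 0 w -2 * w 0 / 0 0 0 0 w 0 -2 * w); [D extended down] m = (2
* m, 2 * m, 2 * m, 2 * m, 2 * m, m, m), w = (w, 2 * w, 2 * w, 2 * w, 2 * w, 2 * w, 2 * w), a = (-2 *
w 2 * w 0 0 0 0 0 / 2 * w -4 * w 2 * w 0 0 0 0 / 0 2 * w -4 * w 2 * w 0 0 0 / 0 0 2 * w -4 * w 2 * w
0 0 / 0 0 0 2 * w -4 * w 2 * w 2 * w / 0 0 0 0 2 * w -4 * w 0 / 0 0 0 0 2 * w 0 -4 * w); [double
triple] m = (m, m, 2 * m, 2 * m, 2 * m, m, m), w = (w, w, w, w, w, w, w), a = (-2 * w 0 w 0 0 0 0 /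
0 -2 * w w 0 0 0 0 / w w -2 * w w 0 0 0 / 0 0 w -2 * w w 0 0 / 0 0 0 w -2 * w w w / 0 0 0 0 w -2 * w
0 / 0 0 0 0 w 0 -2 * w); [E6 completed] m = (m, 2 * m, 3 * m, m, 2 * m, m, 2 * m), w = (w, w, w, w,
w, w, w), a = (-2 * w w 0 0 0 0 0 / w -2 * w w 0 0 0 0 / 0 w -2 * w 0 w 0 w / 0 0 0 -2 * w w 0 0 / 0
0 w w -2 * w 0 0 / 0 0 0 0 0 -2 * w w / 0 0 w 0 0 w -2 * w). Only the classification direction is
stated. (In the family with weights (w, 2w, …, 2w, w) the consecutive intersection numbers are 2w,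
as divisibility by the weights forces; the published list prints w there, and omits m_{n-2} = 2m in
the two D-type families.) -/
theorem result (T : Models.NumericalType 7) (hmin : T.IsMinimal) (hg : T.genus = 1) :
    (∀ i, T.g i = 0) ∧ ∃ (σ : Equiv.Perm (Fin 7)) (m w : ℤ),
      ((T.m (σ 0) = m ∧ T.m (σ 1) = m ∧ T.m (σ 2) = m ∧ T.m (σ 3) = m ∧ T.m (σ 4) = m ∧ T.m (σ 5) = m ∧ T.m (σ 6) = m ∧ T.w (σ 0) = w ∧ T.w (σ 1) = w ∧ T.w (σ 2) = w ∧ T.w (σ 3) = w ∧ T.w (σ 4) = w ∧ T.w (σ 5) = w ∧ T.w (σ 6) = w ∧ T.a (σ 0) (σ 0) = -2 * w ∧ T.a (σ 0) (σ 1) = w ∧ T.a (σ 0) (σ 2) = 0 ∧ T.a (σ 0) (σ 3) = 0 ∧ T.a (σ 0) (σ 4) = 0 ∧ T.a (σ 0) (σ 5) = 0 ∧ T.a (σ 0) (σ 6) = w ∧ T.a (σ 1) (σ 1) = -2 * w ∧ T.a (σ 1) (σ 2) = w ∧ T.a (σ 1) (σ 3) = 0 ∧ T.a (σ 1) (σ 4) = 0 ∧ T.a (σ 1) (σ 5) = 0 ∧ T.a (σ 1) (σ 6) = 0 ∧ T.a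 (σ 2) (σ 2) = -2 * w ∧ T.a (σ 2) (σ 3) = w ∧ T.a (σ 2) (σ 4) = 0 ∧ T.a (σ 2) (σ 5) = 0 ∧ T.a (σ 2) (σ 6) = 0 ∧ T.a (σ 3) (σ 3) = -2 * w ∧ T.a (σ 3) (σ 4) = w ∧ T.a (σ 3) (σ 5) = 0 ∧ T.a (σ 3) (σ 6) = 0 ∧ T.a (σ 4) (σ 4) = -2 * w ∧ T.a (σ 4) (σ 5) = w ∧ T.a (σ 4) (σ 6) = 0 ∧ T.a (σ 5) (σ 5) = -2 * w ∧ T.a (σ 5) (σ 6) = w ∧ T.a (σ 6) (σ 6) = -2 * w) ∨
      (T.m (σ 0) = 2 * m ∧ T.m (σ 1) = 2 * m ∧ T.m (σ 2) = 2 * m ∧ T.m (σ 3) = 2 * m ∧ T.m (σ 4) = 2 * m ∧ T.m (σ 5) = 2 * m ∧ T.m (σ 6) = m ∧ T.w (σ 0) = w ∧ T.w (σ 1) = 2 * w ∧ T.w (σ 2) = 2 * w ∧ T.w (σ 3) = 2 * w ∧ T.w (σ 4) = 2 * w ∧ T.w (σ 5) = 2 * w ∧ T.w (σ 6) = 4 * w ∧ T.a (σ 0) (σ 0) = -2 * w ∧ T.a (σ 0) (σ 1) = 2 * w ∧ T.a (σ 0) (σ 2) = 0 ∧ T.a (σ 0) (σ 3) = 0 ∧ T.a (σ 0) (σ 4) = 0 ∧ T.a (σ 0) (σ 5) = 0 ∧ T.a (σ 0) (σ 6) = 0 ∧ T.a (σ 1) (σ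 1) = -4 * w ∧ T.a (σ 1) (σ 2) = 2 * w ∧ T.a (σ 1) (σ 3) = 0 ∧ T.a (σ 1) (σ 4) = 0 ∧ T.a (σ 1) (σ 5) = 0 ∧ T.a (σ 1) (σ 6) = 0 ∧ T.a (σ 2) (σ 2) = -4 * w ∧ T.a (σ 2) (σ 3) = 2 * w ∧ T.a (σ 2) (σ 4) = 0 ∧ T.a (σ 2) (σ 5) = 0 ∧ T.a (σ 2) (σ 6) = 0 ∧ T.a (σ 3) (σ 3) = -4 * w ∧ T.a (σ 3) (σ 4) = 2 * w ∧ T.a (σ 3) (σ 5) = 0 ∧ T.a (σ 3) (σ 6) = 0 ∧ T.a (σ 4) (σ 4) = -4 * w ∧ T.a (σ 4) (σ 5) = 2 * w ∧ T.a (σ 4) (σ 6) = 0 ∧ T.a (σ 5) (σ 5) = -4 * w ∧ T.a (σ 5) (σ 6) = 4 * w ∧ T.a (σ 6) (σ 6) = -8 * w) ∨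
      (T.m (σ 0) = m ∧ T.m (σ 1) = m ∧ T.m (σ 2) = m ∧ T.m (σ 3) = m ∧ T.m (σ 4) = m ∧ T.m (σ 5) = m ∧ T.m (σ 6) = m ∧ T.w (σ 0) = w ∧ T.w (σ 1) = 2 * w ∧ T.w (σ 2) = 2 * w ∧ T.w (σ 3) = 2 * w ∧ T.w (σ 4) = 2 * w ∧ T.w (σ 5) = 2 * w ∧ T.w (σ 6) = w ∧ T.a (σ 0) (σ 0) = -2 * w ∧ T.a (σ 0) (σ 1) = 2 * w ∧ T.a (σ 0) (σ 2) = 0 ∧ T.a (σ 0) (σ 3) = 0 ∧ T.a (σ 0) (σ 4) = 0 ∧ T.a (σ 0) (σ 5) = 0 ∧ T.a (σ 0) (σ 6) = 0 ∧ T.a (σ 1) (σ 1) = -4 * w ∧ T.a (σ 1) (σ 2) = 2 * w ∧ T.a (σ 1) (σ 3) = 0 ∧ T.a (σ 1) (σ 4) = 0 ∧ T.a (σ 1) (σ 5) = 0 ∧ T.a (σ 1) (σ 6) = 0 ∧ T.a (σ 2) (σ 2) = -4 * w ∧ T.a (σ 2) (σ 3) = 2 * w ∧ T.a (σ 2) (σ 4) = 0 ∧ T.a (σ 2) (σ 5) = 0 ∧ T.a (σ 2) (σ 6) = 0 ∧ T.a (σ 3) (σ 3) = -4 * w ∧ T.a (σ 3) (σ 4) = 2 * w ∧ T.a (σ 3) (σ 5) = 0 ∧ T.a (σ 3) (σ 6) = 0 ∧ T.a (σ 4) (σ 4) = -4 * w ∧ T.a (σ 4)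 (σ 5) = 2 * w ∧ T.a (σ 4) (σ 6) = 0 ∧ T.a (σ 5) (σ 5) = -4 * w ∧ T.a (σ 5) (σ 6) = 2 * w ∧ T.a (σ 6) (σ 6) = -2 * w) ∨
      (T.m (σ 0) = m ∧ T.m (σ 1) = 2 * m ∧ T.m (σ 2) = 2 * m ∧ T.m (σ 3) = 2 * m ∧ T.m (σ 4) = 2 * m ∧ T.m (σ 5) = 2 * m ∧ T.m (σ 6) = m ∧ T.w (σ 0) = 2 * w ∧ T.w (σ 1) = w ∧ T.w (σ 2) = w ∧ T.w (σ 3) = w ∧ T.w (σ 4) = w ∧ T.w (σ 5) = w ∧ T.w (σ 6) = 2 * w ∧ T.a (σ 0) (σ 0) = -4 * w ∧ T.a (σ 0) (σ 1) = 2 * w ∧ T.a (σ 0) (σ 2) = 0 ∧ T.a (σ 0) (σ 3) = 0 ∧ T.a (σ 0) (σ 4) = 0 ∧ T.a (σ 0) (σ 5) = 0 ∧ T.a (σ 0) (σ 6) = 0 ∧ T.a (σ 1) (σ 1) = -2 * w ∧ T.a (σ 1) (σ 2) = w ∧ T.a (σ 1) (σ 3) = 0 ∧ T.a (σ 1) (σ 4) = 0 ∧ T.a (σ 1) (σ 5) = 0 ∧ T.a (σ 1) (σ 6) = 0 ∧ T.a (σ 2) (σ 2) = -2 * w ∧ T.a (σ 2) (σ 3) = w ∧ T.a (σ 2) (σ 4) = 0 ∧ T.a (σ 2) (σ 5) = 0 ∧ T.a (σ 2) (σ 6) = 0 ∧ T.a (σ 3) (σ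 3) = -2 * w ∧ T.a (σ 3) (σ 4) = w ∧ T.a (σ 3) (σ 5) = 0 ∧ T.a (σ 3) (σ 6) = 0 ∧ T.a (σ 4) (σ 4) = -2 * w ∧ T.a (σ 4) (σ 5) = w ∧ T.a (σ 4) (σ 6) = 0 ∧ T.a (σ 5) (σ 5) = -2 * w ∧ T.a (σ 5) (σ 6) = 2 * w ∧ T.a (σ 6) (σ 6) = -4 * w) ∨
      (T.m (σ 0) = m ∧ T.m (σ 1) = 2 * m ∧ T.m (σ 2) = 2 * m ∧ T.m (σ 3) = 2 * m ∧ T.m (σ 4) = 2 * m ∧ T.m (σ 5) = m ∧ T.m (σ 6) = m ∧ T.w (σ 0) = 2 * w ∧ T.w (σ 1) = w ∧ T.w (σ 2) = w ∧ T.w (σ 3) = w ∧ T.w (σ 4) = w ∧ T.w (σ 5) = w ∧ T.w (σ 6) = w ∧ T.a (σ 0) (σ 0) = -4 * w ∧ T.a (σ 0) (σ 1) = 2 * w ∧ T.a (σ 0) (σ 2) = 0 ∧ T.a (σ 0) (σ 3) = 0 ∧ T.a (σ 0) (σ 4) = 0 ∧ T.a (σ 0) (σ 5) = 0 ∧ T.a (σ 0) (σ 6) = 0 ∧ T.a (σ 1) (σ 1) = -2 * w ∧ T.a (σ 1) (σ 2) = w ∧ T.a (σ 1) (σ 3) = 0 ∧ T.a (σ 1) (σ 4) = 0 ∧ T.a (σ 1) (σ 5) = 0 ∧ T.a (σ 1) (σ 6) = 0 ∧ T.a (σ 2) (σ 2) = -2 *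 w ∧ T.a (σ 2) (σ 3) = w ∧ T.a (σ 2) (σ 4) = 0 ∧ T.a (σ 2) (σ 5) = 0 ∧ T.a (σ 2) (σ 6) = 0 ∧ T.a (σ 3) (σ 3) = -2 * w ∧ T.a (σ 3) (σ 4) = w ∧ T.a (σ 3) (σ 5) = 0 ∧ T.a (σ 3) (σ 6) = 0 ∧ T.a (σ 4) (σ 4) = -2 * w ∧ T.a (σ 4) (σ 5) = w ∧ T.a (σ 4) (σ 6) = w ∧ T.a (σ 5) (σ 5) = -2 * w ∧ T.a (σ 5) (σ 6) = 0 ∧ T.a (σ 6) (σ 6) = -2 * w) ∨
      (T.m (σ 0) = 2 * m ∧ T.m (σ 1) = 2 * m ∧ T.m (σ 2) = 2 * m ∧ T.m (σ 3) = 2 * m ∧ T.m (σ 4) = 2 * m ∧ T.m (σ 5) = m ∧ T.m (σ 6) = m ∧ T.w (σ 0) = w ∧ T.w (σ 1) = 2 * w ∧ T.w (σ 2) = 2 * w ∧ T.w (σ 3) = 2 * w ∧ T.w (σ 4) = 2 * w ∧ T.w (σ 5) = 2 * w ∧ T.w (σ 6) = 2 * w ∧ T.a (σ 0) (σ 0) = -2 * w ∧ T.a (σ 0) (σ 1) = 2 * w ∧ T.a (σ 0) (σ 2) = 0 ∧ T.a (σ 0) (σ 3) = 0 ∧ T.a (σ 0) (σ 4) = 0 ∧ T.a (σ 0) (σ 5) = 0 ∧ T.a (σ 0) (σ 6) = 0 ∧ T.a (σ 1) (σ 1) = -4 * w ∧ T.a (σ 1)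 (σ 2) = 2 * w ∧ T.a (σ 1) (σ 3) = 0 ∧ T.a (σ 1) (σ 4) = 0 ∧ T.a (σ 1) (σ 5) = 0 ∧ T.a (σ 1) (σ 6) = 0 ∧ T.a (σ 2) (σ 2) = -4 * w ∧ T.a (σ 2) (σ 3) = 2 * w ∧ T.a (σ 2) (σ 4) = 0 ∧ T.a (σ 2) (σ 5) = 0 ∧ T.a (σ 2) (σ 6) = 0 ∧ T.a (σ 3) (σ 3) = -4 * w ∧ T.a (σ 3) (σ 4) = 2 * w ∧ T.a (σ 3) (σ 5) = 0 ∧ T.a (σ 3) (σ 6) = 0 ∧ T.a (σ 4) (σ 4) = -4 * w ∧ T.a (σ 4) (σ 5) = 2 * w ∧ T.a (σ 4) (σ 6) = 2 * w ∧ T.a (σ 5) (σ 5) = -4 * w ∧ T.a (σ 5) (σ 6) = 0 ∧ T.a (σ 6) (σ 6) = -4 * w) ∨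
      (T.m (σ 0) = m ∧ T.m (σ 1) = m ∧ T.m (σ 2) = 2 * m ∧ T.m (σ 3) = 2 * m ∧ T.m (σ 4) = 2 * m ∧ T.m (σ 5) = m ∧ T.m (σ 6) = m ∧ T.w (σ 0) = w ∧ T.w (σ 1) = w ∧ T.w (σ 2) = w ∧ T.w (σ 3) = w ∧ T.w (σ 4) = w ∧ T.w (σ 5) = w ∧ T.w (σ 6) = w ∧ T.a (σ 0) (σ 0) = -2 * w ∧ T.a (σ 0) (σ 1) = 0 ∧ T.a (σ 0) (σ 2) = w ∧ T.a (σ 0) (σ 3) = 0 ∧ T.a (σ 0) (σ 4) = 0 ∧ T.a (σ 0) (σ 5) = 0 ∧ T.a (σ 0) (σ 6) = 0 ∧ T.a (σ 1) (σ 1) = -2 * w ∧ T.a (σ 1) (σ 2) = w ∧ T.a (σ 1) (σ 3) = 0 ∧ T.a (σ 1) (σ 4) = 0 ∧ T.a (σ 1) (σ 5) = 0 ∧ T.a (σ 1) (σ 6) = 0 ∧ T.a (σ 2) (σ 2) = -2 * w ∧ T.a (σ 2) (σ 3) = w ∧ T.a (σ 2) (σ 4) = 0 ∧ T.a (σ 2) (σ 5) = 0 ∧ T.a (σ 2) (σ 6) = 0 ∧ T.a (σ 3) (σ 3) = -2 * w ∧ T.a (σ 3) (σ 4) = w ∧ T.a (σ 3) (σ 5) = 0 ∧ T.a (σ 3) (σ 6) = 0 ∧ T.a (σ 4) (σ 4) = -2 * w ∧ T.a (σ 4) (σ 5) = w ∧ T.a (σ 4)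 (σ 6) = w ∧ T.a (σ 5) (σ 5) = -2 * w ∧ T.a (σ 5) (σ 6) = 0 ∧ T.a (σ 6) (σ 6) = -2 * w) ∨
      (T.m (σ 0) = m ∧ T.m (σ 1) = 2 * m ∧ T.m (σ 2) = 3 * m ∧ T.m (σ 3) = m ∧ T.m (σ 4) = 2 * m ∧ T.m (σ 5) = m ∧ T.m (σ 6) = 2 * m ∧ T.w (σ 0) = w ∧ T.w (σ 1) = w ∧ T.w (σ 2) = w ∧ T.w (σ 3) = w ∧ T.w (σ 4) = w ∧ T.w (σ 5) = w ∧ T.w (σ 6) = w ∧ T.a (σ 0) (σ 0) = -2 * w ∧ T.a (σ 0) (σ 1) = w ∧ T.a (σ 0) (σ 2) = 0 ∧ T.a (σ 0) (σ 3) = 0 ∧ T.a (σ 0) (σ 4) = 0 ∧ T.a (σ 0) (σ 5) = 0 ∧ T.a (σ 0) (σ 6) = 0 ∧ T.a (σ 1) (σ 1) = -2 * w ∧ T.a (σ 1) (σ 2) = w ∧ T.a (σ 1) (σ 3) = 0 ∧ T.a (σ 1) (σ 4) = 0 ∧ T.a (σ 1) (σ 5) = 0 ∧ T.a (σ 1) (σ 6) = 0 ∧ T.a (σ 2) (σ 2) = -2 * w ∧ T.a (σ 2) (σ 3) = 0 ∧ T.a (σ 2) (σ 4) = w ∧ T.a (σ 2) (σ 5) = 0 ∧ T.a (σ 2) (σ 6) = w ∧ T.a (σ 3) (σ 3) = -2 * w ∧ T.a (σ 3) (σ 4) = w ∧ T.a (σ 3)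 (σ 5) = 0 ∧ T.a (σ 3) (σ 6) = 0 ∧ T.a (σ 4) (σ 4) = -2 * w ∧ T.a (σ 4) (σ 5) = 0 ∧ T.a (σ 4) (σ 6) = 0 ∧ T.a (σ 5) (σ 5) = -2 * w ∧ T.a (σ 5) (σ 6) = w ∧ T.a (σ 6) (σ 6) = -2 * w)) := by
  have hall := isMinusTwo_of_genus_one hmin hg (by norm_num)
  have hg0 : ∀ i, T.g i = 0 := fun i => (hall i).1
  rcases classify (by norm_num) hall with ⟨σ, m, w, h⟩ | ⟨σ, m, w, h | h | h⟩ | ⟨-, σ, m, w, h | h⟩ | ⟨h5, σ, m, w, h⟩ | ⟨h7, h⟩ | ⟨h8, h⟩ | ⟨h9, h⟩ | ⟨h5, h⟩ | ⟨h3, h⟩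
  · obtain ⟨c0, c1, c2, c3, c4⟩ := h
    refine ⟨hg0, σ, m, w, Or.inl (?_)⟩
    repeat' apply And.intro
    all_goals first | exact c0 _ | exact c1 _ | exact c2 _ _ (by decide) (by decide) | (rw [a_symm T]; exact c2 _ _ (by decide) (by decide)) | exact c3 _ _ (by decide) (by decide) | (rw [a_symm T]; exact c3 _ _ (by decide) (by decide)) | exact c4 _ _ (by decide) (by decide) (by decide) | (rw [a_symm T]; exact c4 _ _ (by decide) (by decide) (by decide)) | (rw [(hall _).2]; first | (rw [c1 _]; all_goals ring1))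
  · obtain ⟨c0, c1, c2, c3, c4, c5, c6, c7⟩ := h
    refine ⟨hg0, σ, m, w, Or.inr (Or.inl (?_))⟩
    repeat' apply And.intro
    all_goals first | exact c0 _ (by decide) | exact c1 _ (by decide) | exact c2 _ (by decide) | exact c3 _ (by decide) | exact c4 _ (by decide) | exact c5 _ _ (by decide) (by decide) | (rw [a_symm T]; exact c5 _ _ (by decide) (by decide)) | exact c6 _ _ (by decide) (by decide) | (rw [a_symm T]; exact c6 _ _ (by decide) (by decide)) | exact c7 _ _ (by decide) (by decide) (by decide) | (rw [a_symm T]; exact c7 _ _ (by decide) (by decide) (by decide)) | (rw [(hall _).2]; first | (rw [c2 _ (by decide)]; all_goals ring1) | (rw [c3 _ (by decide)]; all_goals ring1) | (rw [c4 _ (by decide)]; all_goals ring1))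
  · obtain ⟨c0, c1, c2, c3, c4, c5⟩ := h
    refine ⟨hg0, σ, m, w, Or.inr (Or.inr (Or.inl (?_)))⟩
    repeat' apply And.intro
    all_goals first | exact c0 _ | exact c1 _ (by decide) | exact c2 _ (by decide) | exact c3 _ (by decide) | exact c4 _ _ (by decide) (by decide) | (rw [a_symm T]; exact c4 _ _ (by decide) (by decide)) | exact c5 _ _ (by decide) (by decide) | (rw [a_symm T]; exact c5 _ _ (by decide) (by decide)) | (rw [(hall _).2]; first | (rw [c1 _ (by decide)]; all_goals ring1) | (rw [c2 _ (by decide)]; all_goals ring1) | (rw [c3 _ (by decide)]; all_goals ring1))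
  · obtain ⟨c0, c1, c2, c3, c4, c5, c6, c7, c8, c9⟩ := h
    refine ⟨hg0, σ, m, w, Or.inr (Or.inr (Or.inr (Or.inl (?_))))⟩
    repeat' apply And.intro
    all_goals first | exact c0 _ (by decide) | exact c1 _ (by decide) | exact c2 _ (by decide) | exact c3 _ (by decide) | exact c4 _ (by decide) | exact c5 _ (by decide) | exact c6 _ _ (by decide) (by decide) | (rw [a_symm T]; exact c6 _ _ (by decide) (by decide)) | exact c7 _ _ (by decide) (by decide) | (rw [a_symm T]; exact c7 _ _ (by decide) (by decide)) | exact c8 _ _ (by decide) (by decide) | (rw [a_symm T]; exact c8 _ _ (by decide) (by decide)) | exact c9 _ _ (by decide) (by decide) (by decide) (by decide) | (rw [a_symm T]; exact c9 _ _ (by decide) (by decide) (by decide) (by decide)) | (rw [(hall _).2]; first | (rw [c3 _ (by decide)]; all_goals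 ring1) | (rw [c4 _ (by decide)]; all_goals ring1) | (rw [c5 _ (by decide)]; all_goals ring1))
  · obtain ⟨c0, c1, c2, c3, c4, c5, c6, c7, c8⟩ := h
    refine ⟨hg0, σ, m, w, Or.inr (Or.inr (Or.inr (Or.inr (Or.inl (?_)))))⟩
    repeat' apply And.intro
    all_goals first | exact c0 _ (by decide) | exact c1 _ (by decide) | exact c2 _ (by decide) | exact c3 _ (by decide) | exact c4 _ (by decide) | exact c5 _ _ (by decide) (by decide) | (rw [a_symm T]; exact c5 _ _ (by decide) (by decide)) | exact c6 _ _ (by decide) (by decide) | (rw [a_symm T]; exact c6 _ _ (by decide) (by decide)) | exact c7 _ _ (by decide) (by decide) | (rw [a_symm T]; exact c7 _ _ (by decide) (by decide)) | exact c8 _ _ (by decide) (by decide) (by decide) (by decide) | (rw [a_symm T]; exact c8 _ _ (by decide) (by decide) (by decide)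 (by decide)) | (rw [(hall _).2]; first | (rw [c3 _ (by decide)]; all_goals ring1) | (rw [c4 _ (by decide)]; all_goals ring1))
  · obtain ⟨c0, c1, c2, c3, c4, c5, c6⟩ := h
    refine ⟨hg0, σ, m, w, Or.inr (Or.inr (Or.inr (Or.inr (Or.inr (Or.inl (?_))))))⟩
    repeat' apply And.intro
    all_goals first | exact c0 _ (by decide) | exact c1 _ (by decide) | exact c2 _ (by decide) | exact c3 _ (by decide) | exact c4 _ _ (by decide) (by decide) | (rw [a_symm T]; exact c4 _ _ (by decide) (by decide)) | exact c5 _ _ (by decide) (by decide) | (rw [a_symm T]; exact c5 _ _ (by decide) (by decide)) | exact c6 _ _ (by decide) (by decide) (by decide) | (rw [a_symm T]; exact c6 _ _ (by decide) (by decide) (by decide)) | (rw [(hall _).2]; first | (rw [c2 _ (by decide)]; all_goals ring1) | (rw [c3 _ (by decide)];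 all_goals ring1))
  · obtain ⟨c0, c1, c2, c3, c4, c5, c6, c7, c8⟩ := h
    refine ⟨hg0, σ, m, w, Or.inr (Or.inr (Or.inr (Or.inr (Or.inr (Or.inr (Or.inl (?_)))))))⟩
    repeat' apply And.intro
    all_goals first | exact c0 _ (by decide) | exact c1 _ (by decide) | exact c2 _ (by decide) | exact c3 _ | exact c4 _ _ (by decide) (by decide) | (rw [a_symm T]; exact c4 _ _ (by decide) (by decide)) | exact c5 _ _ (by decide) (by decide) | (rw [a_symm T]; exact c5 _ _ (by decide) (by decide)) | exact c6 _ _ (by decide) (by decide) | (rw [a_symm T]; exact c6 _ _ (by decide) (by decide)) | exact c7 _ _ (by decide) (by decide) | (rw [a_symm T]; exact c7 _ _ (by decide) (by decide)) | exact c8 _ _ (by decide) (by decide) (by decide) (by decide) (by decide) | (rw [a_symm T]; exact c8 _ _ (by decide) (by decide)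 (by decide) (by decide) (by decide)) | (rw [(hall _).2]; first | (rw [c3 _]; all_goals ring1))
  · obtain ⟨σ, hE, hm⟩ := h
    have hne : ∀ a b : Fin 7, a.val < b.val → σ a ≠ σ b := fun a b h e => h.ne (congrArg Fin.val (σ.injective e))
    have e01 := edge_one (T := T) (hne 0 1 (by decide)) (by rw [hE _ _ (by decide)]; simp [rE6, edgesR])
    have e12 := edge_one (T := T) (hne 1 2 (by decide)) (by rw [hE _ _ (by decide)]; simp [rE6, edgesR])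
    have e34 := edge_one (T := T) (hne 3 4 (by decide)) (by rw [hE _ _ (by decide)]; simp [rE6, edgesR])
    have e24 := edge_one (T := T) (hne 2 4 (by decide)) (by rw [hE _ _ (by decide)]; simp [rE6, edgesR])
    have e56 := edge_one (T := T) (hne 5 6 (by decide)) (by rw [hE _ _ (by decide)]; simp [rE6, edgesR])
    have e26 := edge_one (T := T) (hne 2 6 (by decide)) (by rw [hE _ _ (by decide)]; simp [rE6, edgesR])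
    obtain ⟨e01x, e01w⟩ := e01
    obtain ⟨e12x, e12w⟩ := e12
    obtain ⟨e34x, e34w⟩ := e34
    obtain ⟨e24x, e24w⟩ := e24
    obtain ⟨e56x, e56w⟩ := e56
    obtain ⟨e26x, e26w⟩ := e26
    have W0 : T.w (σ 0) = T.w (σ 0) := by omega
    have W1 : T.w (σ 1) = T.w (σ 0) := by omega
    have W2 : T.w (σ 2) = T.w (σ 0) := by omega
    have W3 : T.w (σ 3) = T.w (σ 0) := by omega
    have W4 : T.w (σ 4) = T.w (σ 0) := by omega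
    have W5 : T.w (σ 5) = T.w (σ 0) := by omega
    have W6 : T.w (σ 6) = T.w (σ 0) := by omega
    have hp : 0 < T.w (σ 0) := T.w_pos _
    have M0 : T.m (σ 0) = T.m (σ 0) := rfl
    have M1 : T.m (σ 1) = 2 * T.m (σ 0) := by
      have h := hm 1 0
      simp [W1, W0] at h
      exact eq_mul_of_sq (c := 2) (T.m_pos _) (T.m_pos _) hp (by norm_num) (by linarith)
    have M2 : T.m (σ 2) = 3 * T.m (σ 0) := by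
      have h := hm 2 0
      simp [W2, W0] at h
      exact eq_mul_of_sq (c := 3) (T.m_pos _) (T.m_pos _) hp (by norm_num) (by linarith)
    have M3 : T.m (σ 3) = 1 * T.m (σ 0) := by
      have h := hm 3 0
      simp [W3, W0] at h
      first
        | exact eq_mul_of_sq (c := 1) (T.m_pos _) (T.m_pos _) hp one_pos (by linarith)
        | (rw [one_mul]; exact (pow_left_inj₀ (T.m_pos _).le (T.m_pos _).le two_ne_zero).1 (h.resolve_right hp.ne'))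
    have M4 : T.m (σ 4) = 2 * T.m (σ 0) := by
      have h := hm 4 0
      simp [W4, W0] at h
      exact eq_mul_of_sq (c := 2) (T.m_pos _) (T.m_pos _) hp (by norm_num) (by linarith)
    have M5 : T.m (σ 5) = 1 * T.m (σ 0) := by
      have h := hm 5 0
      simp [W5, W0] at h
      first
        | exact eq_mul_of_sq (c := 1) (T.m_pos _) (T.m_pos _) hp one_pos (by linarith)
        | (rw [one_mul]; exact (pow_left_inj₀ (T.m_pos _).le (T.m_pos _).le two_ne_zero).1 (h.resolve_right hp.ne'))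
    have M6 : T.m (σ 6) = 2 * T.m (σ 0) := by
      have h := hm 6 0
      simp [W6, W0] at h
      exact eq_mul_of_sq (c := 2) (T.m_pos _) (T.m_pos _) hp (by norm_num) (by linarith)
    refine ⟨hg0, σ, T.m (σ 0), T.w (σ 0), Or.inr (Or.inr (Or.inr (Or.inr (Or.inr (Or.inr (Or.inr (?_)))))))⟩
    repeat' apply And.intro
    all_goals first | exact M0 | exact M1 | exact M2 | exact M3 | exact M4 | exact M5 | exact M6 | linarith [M3] | linarith [M5] | exact W0 | exact W1 | exact W2 | exact W3 | exact W4 | exact W5 | exact W6 | exact edge_zero (by rw [hE _ _ (by decide)]; simp [rE6, edgesR]) | (rw [a_symm T]; exact edge_zero (by rw [hE _ _ (by decide)]; simp [rE6, edgesR])) | (rw [(hall _).2, W0]; all_goals ring1) | (rw [(hall _).2, W1]; all_goals ring1) | (rw [(hall _).2, W2]; all_goals ring1) | (rw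 [(hall _).2, W3]; all_goals ring1) | (rw [(hall _).2, W4]; all_goals ring1) | (rw [(hall _).2, W5]; all_goals ring1) | (rw [(hall _).2, W6]; all_goals ring1) | (rw [e01x]; all_goals omega) | (rw [a_symm T, e01x]; all_goals omega) | (rw [e12x]; all_goals omega) | (rw [a_symm T, e12x]; all_goals omega) | (rw [e34x]; all_goals omega) | (rw [a_symm T, e34x]; all_goals omega) | (rw [e24x]; all_goals omega) | (rw [a_symm T, e24x]; all_goals omega) | (rw [e56x]; all_goals omega) | (rw [a_symm T, e56x]; all_goals omega) | (rw [e26x]; all_goals omega) | (rw [a_symm T, e26x]; all_goals omega)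
  · omega
  · omega
  · omega
  · omega

end Groth.Agent.S7368
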