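import Groth.Statements.S7372
import Groth.Agent.S7321
import Groth.Agent.Lib.CurveBlowUp32.Main
-- import your own Groth.Agent.* helpers here

set_option autoImplicit false
universe u
set_option linter.style.haveILetI false
set_option backward.isDefEq.respectTransparency.types false
open CategoryTheory CategoryTheory.Limits AlgebraicGeometry
open Resolve

namespace Groth.Agent.S7372

/-- Let Y be an integral Noetherian scheme of dimension one. Then Y has a resolution of singularities (a
proper morphism X → Y from an integral scheme with regular local rings which is an isomorphism over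
a nonempty open of Y) if and only if there is a finite sequence of blowings up in closed points Y_n
→ Y_{n-1} → … → Y_1 → Y with Y_n regular (all local rings regular). -/
theorem result (Y : Scheme.{u}) [IsIntegral Y] [IsNoetherian Y]
    (hdim : topologicalKrullDim Y = 1) :
    (∃ (X : Scheme.{u}) (g : X ⟶ Y), IsProper g ∧ IsIntegral X ∧
        (∃ V : Y.Opens, (V : Set Y).Nonempty ∧ IsIso (g ∣_ V)) ∧ ∀ x : X, IsRegularLocalRing (X.presheaf.stalk x)) ↔
      ∃ (Y' : Scheme.{u}) (g : Y' ⟶ Y), Resolve.IsPtBlowupSeq g ∧ ∀ y : Y', IsRegularLocalRing (Y'.presheaf.stalk y) := by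
  constructor
  · intro hres
    haveI : QuasiCompact (Y.fromSpecStalk (genericPoint Y)) := by
      haveI : CompactSpace (Spec (Y.presheaf.stalk (genericPoint Y))) := inferInstance
      infer_instance
    haveI : QuasiSeparated (Y.fromSpecStalk (genericPoint Y)) := inferInstance
    haveI hfin : IsFinite (Y.fromSpecStalk (genericPoint Y)).fromNormalization := (S7321.result Y hdim).2.1 hres
    have hid : Y.fromSpecStalk (genericPoint Y) =
        Spec.map (CommRingCat.ofHom (RingHom.id Y.functionField)) ≫ Y.fromSpecStalk (genericPoint Y) := by simp
    obtain ⟨hI, hN⟩ := CurveNF.isIntegral_and_normal (K := Y.functionField) hid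
    haveI := hI
    refine CurveBlowUp.exists_seq (ν := (Y.fromSpecStalk (genericPoint Y)).fromNormalization) (fun n => ?_)
      (CurveNF.fromNormalization_genericPoint (K := Y.functionField) hid) hdim
    haveI : IsLocallyNoetherian (Y.fromSpecStalk (genericPoint Y)).normalization :=
      LocallyOfFiniteType.isLocallyNoetherian (Y.fromSpecStalk (genericPoint Y)).fromNormalization
    haveI := (hN n).1
    haveI := (hN n).2
    haveI := DVRVal.valuationRing_of_normal ((Y.fromSpecStalk (genericPoint Y)).normalization.presheaf.stalk n)
      ((VB17.ringKrullDim_stalk_le_topologicalKrullDim n).trans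
        ((AlgSpDecent.topologicalKrullDim_le_of_lqf (Y.fromSpecStalk (genericPoint Y)).fromNormalization).trans
          hdim.le))
    have e : ValuationRing ((Y.fromSpecStalk (genericPoint Y)).normalization.presheaf.stalk n) ↔
        IsPrincipalIdealRing ((Y.fromSpecStalk (genericPoint Y)).normalization.presheaf.stalk n) :=
      (tfae_of_isNoetherianRing_of_isLocalRing_of_isDomain _).out 1 0
    exact e.1 inferInstance
  · rintro ⟨Y', g, hg, hreg⟩
    obtain ⟨hp, hI, hV⟩ := CurveBlowUp.of_seq hg (CurveBlowUp.not_isClosed_generic hdim)
    exact ⟨Y', g, hp, hI, hV, hreg⟩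

end Groth.Agent.S7372
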