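import Groth.Statements.S7378
import Groth.Agent.Lib.NormBlow32.Apply

set_option autoImplicit false
universe u
open CategoryTheory CategoryTheory.Limits AlgebraicGeometry
open Resolve

namespace Groth.Agent.S7378

/-- Let S be a scheme, p : X → S with X an integral Noetherian Nagata scheme of dimension two, q : Y → S
proper, and f : U → Y an S-morphism defined on a dense open U ⊂ X (an S-rational map from X to Y).
Then there exist a finite sequence of normalized blowings up in closed points g : X_n → … → X_1 →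
X_0 = X^ν, X^ν → X the normalization, and an S-morphism f_n : X_n → Y which agrees with f on the
inverse image of U. (The quasi-compactness and quasi-separatedness binders on Spec K(X) → X always
hold.) -/
theorem result {S : Scheme.{u}} (X Y : Scheme.{u}) (p : X ⟶ S) (q : Y ⟶ S) [IsProper q]
    [IsIntegral X] [IsNoetherian X] (hN : ∀ V : X.affineOpens, CAlg.IsNagata Γ(X, V.1)) (hdim : topologicalKrullDim X = 2)
    [QuasiCompact (X.fromSpecStalk (genericPoint X))] [QuasiSeparated (X.fromSpecStalk (genericPoint X))]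
    (U : X.Opens) (hU : Dense (U : Set X)) (f : (U : Scheme.{u}) ⟶ Y) (hf : f ≫ q = U.ι ≫ p) :
    ∃ (Xn : Scheme.{u}) (g : Xn ⟶ Curv2.normalization X) (fn : Xn ⟶ Y), Resolve.IsNormPtBlowupSeq g ∧
      fn ≫ q = (g ≫ Curv2.normalizationι X) ≫ p ∧
      ((g ≫ Curv2.normalizationι X) ⁻¹ᵁ U).ι ≫ fn = ((g ≫ Curv2.normalizationι X) ∣_ U) ≫ f := by
  have hne : (U : Set X).Nonempty := hU.nonempty
  obtain ⟨Y0, hY0, f0, r, hproper, hiso, hr, hag⟩ := NormBlow.exists_graph_extend p q U hne f hf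
  haveI := hY0; haveI := hproper; haveI := hiso
  obtain ⟨Xn, g, hg, h, hh⟩ := NormBlow.exists_dominate_modification X hN hdim f0 hne
  refine ⟨Xn, g, h ≫ r, hg, by rw [Category.assoc, hr, ← Category.assoc, hh], ?_⟩
  rw [← hh]
  have hr' : Set.range (((h ≫ f0) ⁻¹ᵁ U).ι ≫ h) ⊆ Set.range (f0 ⁻¹ᵁ U).ι := by
    rintro _ ⟨w, rfl⟩
    rw [Scheme.Opens.range_ι]
    exact w.2
  let k : (((h ≫ f0) ⁻¹ᵁ U : Xn.Opens) : Scheme.{u}) ⟶ ((f0 ⁻¹ᵁ U : Y0.Opens) : Scheme.{u}) :=
    IsOpenImmersion.lift (f0 ⁻¹ᵁ U).ι (((h ≫ f0) ⁻¹ᵁ U).ι ≫ h) hr'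
  have hk : k ≫ (f0 ⁻¹ᵁ U).ι = ((h ≫ f0) ⁻¹ᵁ U).ι ≫ h := IsOpenImmersion.lift_fac _ _ _
  have hkf : k ≫ (f0 ∣_ U) = (h ≫ f0) ∣_ U := by
    rw [← cancel_mono U.ι, Category.assoc, morphismRestrict_ι, ← Category.assoc, hk, Category.assoc,
      morphismRestrict_ι]
  rw [← Category.assoc, ← hk, Category.assoc, hag, ← Category.assoc, hkf]

end Groth.Agent.S7378
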