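import Groth.Statements.S7380
import Groth.Agent.Lib.LimH13.IdealSys
import Groth.Agent.Lib.LimH13.ClosedStage

set_option autoImplicit false
universe u
open CategoryTheory AlgebraicGeometry
open Lim

namespace Groth.Agent.S7380

set_option backward.isDefEq.respectTransparency false
set_option backward.isDefEq.respectTransparency.types false


/-- Let `f : X → S` be locally of finite type with `X` quasi-compact and quasi-separated and `S`
quasi-separated. Then, in the category of schemes over `S`, `X` is the limit of a nonempty directed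
inverse system of schemes `X_i → S` of finite presentation (locally of finite presentation,
quasi-compact and quasi-separated), each `X_i` being a quasi-compact and quasi-separated scheme,
whose transition morphisms are closed immersions. -/
theorem result {X S : Scheme.{u}}
    (f : X ⟶ S) [LocallyOfFiniteType f] [CompactSpace X] [QuasiSeparatedSpace X] [QuasiSeparatedSpace S] :
    ∃ (I : Type u) (_ : Preorder I) (_ : IsDirected I (fun a b => a ≤ b)) (_ : Nonempty I)
      (D : Iᵒᵖ ⥤ Over S) (c : Limits.Cone D) (_ : Limits.IsLimit c),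
      (∀ i, LocallyOfFinitePresentation (D.obj i).hom ∧ QuasiCompact (D.obj i).hom ∧
        QuasiSeparated (D.obj i).hom ∧ CompactSpace (D.obj i).left ∧ QuasiSeparatedSpace (D.obj i).left) ∧
      (∀ (i j : Iᵒᵖ) (a : i ⟶ j), IsClosedImmersion (D.map a).left) ∧
      Nonempty (c.pt ≅ Over.mk f) := by

  obtain ⟨X', f', j, h1, h2, h3, h4, h5, h6, h7, -⟩ := LimH13.exists_closed_stage f
  haveI : IsFiltered (LimH13.FGIdx j.ker) :=
    haveI := LimH13.isDirected_fgIdx j.ker
    isFiltered_of_directed_le_nonempty _
  haveI : IsConnected (LimH13.FGIdx j.ker)ᵒᵖ := IsCofiltered.isConnected _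
  refine ⟨LimH13.FGIdx j.ker, inferInstance, LimH13.isDirected_fgIdx _, inferInstance,
    LimH13.fgDiag j.ker ⋙ Over.map f', (Over.map f').mapCone (LimH13.fgCone j), ?_, fun i => ?_,
    fun a b h => LimH13.isClosedImmersion_fgDiag_map _ h, ⟨eqToIso ?_⟩⟩
  · refine Limits.isLimitOfReflects (Over.forget S) ?_
    exact Limits.isLimitOfPreserves (Over.forget X') (LimH13.isLimitFGCone j)
  · obtain ⟨hc, hfp⟩ := LimH13.fgDiag_props j.ker i
    change LocallyOfFinitePresentation (((LimH13.fgDiag j.ker).obj i).hom ≫ f') ∧
      QuasiCompact (((LimH13.fgDiag j.ker).obj i).hom ≫ f') ∧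
      QuasiSeparated (((LimH13.fgDiag j.ker).obj i).hom ≫ f') ∧
      CompactSpace ((LimH13.fgDiag j.ker).obj i).left ∧
      QuasiSeparatedSpace ((LimH13.fgDiag j.ker).obj i).left
    exact ⟨inferInstance, inferInstance, inferInstance,
      QuasiCompact.compactSpace_of_compactSpace ((LimH13.fgDiag j.ker).obj i).hom,
      quasiSeparatedSpace_of_quasiSeparated ((LimH13.fgDiag j.ker).obj i).hom⟩
  · change Over.mk (j ≫ f') = Over.mk f
    rw [h7]

end Groth.Agent.S7380
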