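import Groth.Statements.S7384
import Groth.Agent.Lib.LimH13.ArrowModel

set_option autoImplicit false
universe u
open CategoryTheory AlgebraicGeometry
open Lim

namespace Groth.Agent.S7384

/-- Let `f : X → S` be a morphism of quasi-compact quasi-separated schemes. Then `f` is a limit of
morphisms `f_i : X_i → S_i` indexed by a nonempty directed set: there are inverse systems `X_i`,
`S_i` of quasi-compact schemes locally of finite type over `ℤ` with affine transition morphisms, a
compatible family of morphisms `f_i`, and limit cones identified with `X` and `S` compatibly with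
`f`. -/
theorem result {X S : Scheme.{u}} (f : X ⟶ S) [CompactSpace X]
    [QuasiSeparatedSpace X] [CompactSpace S] [QuasiSeparatedSpace S] :
    ∃ (I : Type u) (_ : Preorder I) (_ : IsDirected I (fun a b => a ≤ b)) (_ : Nonempty I)
      (DX DS : Iᵒᵖ ⥤ Scheme.{u}) (φ : DX ⟶ DS)
      (cX : Limits.Cone DX) (cS : Limits.Cone DS) (_ : Limits.IsLimit cX) (_ : Limits.IsLimit cS)
      (eX : cX.pt ≅ X) (eS : cS.pt ≅ S),
      (∀ (i j : Iᵒᵖ) (a : i ⟶ j), IsAffineHom (DX.map a) ∧ IsAffineHom (DS.map a)) ∧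
      (∀ i, CompactSpace (DX.obj i) ∧ CompactSpace (DS.obj i) ∧
        LocallyOfFiniteType (Limits.IsTerminal.from specULiftZIsTerminal (DX.obj i)) ∧
        LocallyOfFiniteType (Limits.IsTerminal.from specULiftZIsTerminal (DS.obj i))) ∧
      (∀ i, cX.π.app i ≫ φ.app i = eX.hom ≫ f ≫ eS.inv ≫ cS.π.app i) := by
  obtain ⟨Y, g, hYc, hY, hg⟩ := LimH13.hasZModel S
  obtain ⟨W, hWc, w, h, hW, hw, hfg⟩ := LimH13.exists_compatible_model f hY g
  haveI := hY.quasiSeparatedSpace
  haveI := hW.quasiSeparatedSpace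
  haveI := hY.isLocallyNoetherian
  refine ⟨LimH13.Pairs f g w h, inferInstance, LimH13.isDirected_pairs hfg, LimH13.nonempty_pairs hfg,
    LimH13.diagX, LimH13.diagS, LimH13.diagHom, LimH13.coneX, LimH13.coneS, LimH13.isLimitConeX hfg,
    LimH13.isLimitConeS hfg, Iso.refl _, Iso.refl _,
    fun i j a => ⟨LimH13.SubAlg.isAffineHom_affDiag_map w
        ((LimH13.monotone_snd (f := f) (g := g) (w := w) (h := h)).functor.op.map a),
      LimH13.SubAlg.isAffineHom_affDiag_map g
        ((LimH13.monotone_fst (f := f) (g := g) (w := w) (h := h)).functor.op.map a)⟩,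
    fun i => ⟨LimH13.SubAlg.compactSpace_affDiag w _, LimH13.SubAlg.compactSpace_affDiag g _, ?_, ?_⟩,
    fun i => ?_⟩
  · exact @LimH13.LFTZ.of_comp _ _ hW i.unop.1.2.alg.π (LimH13.SubAlg.locallyOfFiniteType_π i.unop.1.2.ft)
  · exact @LimH13.LFTZ.of_comp _ _ hY i.unop.1.1.alg.π (LimH13.SubAlg.locallyOfFiniteType_π i.unop.1.1.ft)
  · refine (LimH13.cone_comp i).trans ?_
    simp only [Iso.refl_hom, Iso.refl_inv]
    exact ((Category.id_comp _).trans (congrArg _ (Category.id_comp _))).symm

end Groth.Agent.S7384
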