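import Groth.Statements.S7387
import Mathlib.AlgebraicGeometry.Limits
import Mathlib.AlgebraicGeometry.Morphisms.Separated

set_option backward.isDefEq.respectTransparency.types false

set_option autoImplicit false
universe u
open CategoryTheory AlgebraicGeometry
open Mor
open CategoryTheory.Limits TopologicalSpace

namespace Groth.Agent.S7387

/-- A quasi-compact scheme has a dense open subscheme which is separated. -/
theorem result (X : Scheme.{u}) [CompactSpace X] :
    ∃ V : X.Opens, Dense (V : Set X) ∧ (V : Scheme.{u}).IsSeparated := by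
  classical
  obtain ⟨n, U, hU, hcov⟩ : ∃ (n : ℕ) (U : Fin n → X.Opens), (∀ i, IsAffineOpen (U i)) ∧ ∀ x : X, ∃ i, x ∈ U i := by
    let 𝒰 := X.affineCover.finiteSubcover
    let e := Fintype.equivFin 𝒰.I₀
    refine ⟨_, fun i => (𝒰.f (e.symm i)).opensRange, fun i => isAffineOpen_opensRange _, fun x => ⟨e (𝒰.idx x), ?_⟩⟩
    show x ∈ (𝒰.f (e.symm (e (𝒰.idx x)))).opensRange
    rw [e.symm_apply_apply]
    exact 𝒰.covers x
  let W : Fin n → X.Opens := fun i =>
    U i ⊓ ⟨(closure (⋃ (j : Fin n) (_ : j < i), (U j : Set X)))ᶜ, isClosed_closure.isOpen_compl⟩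
  have hWU : ∀ i, W i ≤ U i := fun i => inf_le_left
  have hdW : ∀ i j, i < j → Disjoint (W i : Set X) (W j) := fun i j hij => Set.disjoint_left.2 fun x hi hj =>
    hj.2 (subset_closure (Set.mem_iUnion₂.2 ⟨i, hij, hi.1⟩))
  have hdW' : ∀ i j, i ≠ j → Disjoint (W i : Set X) (W j) := fun i j hij =>
    hij.lt_or_gt.elim (hdW i j) fun h => (hdW j i h).symm
  let V : X.Opens := ⨆ i, W i
  refine ⟨V, ?_, ?_⟩
  · rw [dense_iff_inter_open]
    intro O hO hne
    obtain ⟨y, hy⟩ := hne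
    obtain ⟨i₀, hi₀⟩ := hcov y
    let S := Finset.univ.filter fun i => (O ∩ (U i : Set X)).Nonempty
    have hS : S.Nonempty := ⟨i₀, Finset.mem_filter.2 ⟨Finset.mem_univ _, y, hy, hi₀⟩⟩
    obtain ⟨z, hzO, hzU⟩ := (Finset.mem_filter.1 (S.min'_mem hS)).2
    refine ⟨z, hzO, Opens.mem_iSup.2 ⟨S.min' hS, hzU, fun hz => ?_⟩⟩
    obtain ⟨w, hwO, hw⟩ := mem_closure_iff.1 hz O hO hzO
    obtain ⟨j, hj, hwj⟩ := Set.mem_iUnion₂.1 hw
    exact (S.min'_le j (Finset.mem_filter.2 ⟨Finset.mem_univ _, w, hwO, hwj⟩)).not_gt hj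
  · have hle : ∀ i, W i ≤ V := fun i => le_iSup W i
    let α : ∀ i, (W i : Scheme.{u}) ⟶ V := fun i => X.homOfLE (hle i)
    have hr : ∀ i, (α i).opensRange = V.ι ⁻¹ᵁ W i := fun i => Scheme.opensRange_homOfLE (hle i)
    obtain ⟨hc⟩ := nonempty_isColimit_cofanMk_of α
      (by
        refine eq_top_iff.2 fun x _ => ?_
        obtain ⟨i, hi⟩ := Opens.mem_iSup.1 x.2
        exact Opens.mem_iSup.2 ⟨i, by rw [hr]; exact hi⟩)
      (fun i j hij => by
        show Disjoint (α i).opensRange (α j).opensRange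
        rw [hr, hr, disjoint_iff, eq_bot_iff]
        exact fun x hx => Set.disjoint_left.1 (hdW' i j hij) hx.1 hx.2)
    haveI : ∀ i, IsAffine (U i : Scheme.{u}) := hU
    let β : ∀ i, (W i : Scheme.{u}) ⟶ ∐ fun i => (U i : Scheme.{u}) := fun i =>
      X.homOfLE (hWU i) ≫ Sigma.ι (fun i => (U i : Scheme.{u})) i
    haveI : IsOpenImmersion (Sigma.desc β) := isOpenImmersion_sigmaDesc _ β fun i j hij =>
      Set.disjoint_left.2 fun x hxi hxj => by
        obtain ⟨a, rfl⟩ := hxi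
        obtain ⟨b, hb⟩ := hxj
        have := disjoint_opensRange_sigmaι (fun i => (U i : Scheme.{u})) i j hij
        rw [disjoint_iff, eq_bot_iff] at this
        exact this (show β i a ∈ _ from ⟨⟨X.homOfLE (hWU i) a, rfl⟩, ⟨X.homOfLE (hWU j) b, hb⟩⟩)
    let g : (V : Scheme.{u}) ⟶ ∐ fun i => (U i : Scheme.{u}) :=
      (hc.coconePointUniqueUpToIso (coproductIsCoproduct _)).hom ≫ Sigma.desc β
    exact ⟨by rw [← terminal.comp_from g]; infer_instance⟩

end Groth.Agent.S7387
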