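import Groth.Statements.S7391
import Groth.Agent.Lib.ProjLoc12.Geo

set_option backward.isDefEq.respectTransparency.types false

set_option autoImplicit false
universe u
open CategoryTheory AlgebraicGeometry
open Opposite
open Mor

namespace Groth.Agent.S7391

/-- Let `F` be a quasi-coherent `O_X`-module on a scheme `X`. Then `F(U)` is a projective
`O_X(U)`-module for every affine open `U` (that is, `F` is locally projective) if and only if `X`
has a covering by affine opens `U_i` with `F(U_i)` projective over `O_X(U_i)`. -/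
theorem result (X : Scheme.{u}) (F : X.Modules) [Coh.IsQCoh F] :
    (∀ U : X.Opens, IsAffineOpen U → Module.Projective (X.ringCatSheaf.obj.obj (op U)) (F.val.obj (op U))) ↔
      ∃ (I : Type u) (U : I → X.Opens), (⨆ i, U i) = ⊤ ∧ ∀ i, IsAffineOpen (U i) ∧
        Module.Projective (X.ringCatSheaf.obj.obj (op (U i))) (F.val.obj (op (U i))) := by
  refine ⟨fun h => ?_, fun ⟨I, U, hcov, hU⟩ V hV => ?_⟩
  · refine ⟨{U : X.Opens // IsAffineOpen U}, fun U => U.1, ?_, fun U => ⟨U.2, h U.1 U.2⟩⟩
    refine top_le_iff.1 fun x _ => ?_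
    obtain ⟨V, hV, hx, -⟩ := exists_isAffineOpen_mem_and_subset (x := x) (U := (⊤ : X.Opens)) trivial
    exact TopologicalSpace.Opens.mem_iSup.2 ⟨⟨V, hV⟩, hx⟩
  · refine ProjLoc12.projective_of_pointwise F (fun x => ?_) hV
    obtain ⟨i, hi⟩ := TopologicalSpace.Opens.mem_iSup.1 (show x ∈ ⨆ i, U i by rw [hcov]; trivial)
    exact ⟨U i, (hU i).1, hi, (hU i).2⟩

end Groth.Agent.S7391
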