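import Groth.Statements.S7393
import Groth.Agent.Lib.GRing6.Permanence
import Groth.Agent.Lib.PropsStalk1.Basic
-- import your own Groth.Agent.* helpers here

set_option autoImplicit false
set_option backward.isDefEq.respectTransparency false
universe u
open CategoryTheory AlgebraicGeometry
open Mor

namespace Groth.Agent.S7393

/-- A scheme `X` is a G-scheme (every point has an affine open neighbourhood whose coordinate ring is a
G-ring) if and only if `X` is locally Noetherian and, for every closed point `x`, the completion map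
of the local ring `O_{X,x} → O_{X,x}^∧` is a regular ring map. -/
theorem result (X : Scheme.{u}) :
    (∀ x : X, ∃ U : X.Opens, x ∈ U ∧ IsAffineOpen U ∧ CAlg.IsGRing Γ(X, U)) ↔
      IsLocallyNoetherian X ∧ ∀ x : X, IsClosed ({x} : Set X) →
        CAlg.IsRegularHom (X.presheaf.stalk x)
          (AdicCompletion (IsLocalRing.maximalIdeal (X.presheaf.stalk x)) (X.presheaf.stalk x)) := by
  constructor
  · intro h
    have hN : IsLocallyNoetherian X := by
      choose V hxV hV hG using h
      refine (isLocallyNoetherian_iff_of_iSup_eq_top (S := fun x : X => (⟨V x, hV x⟩ : X.affineOpens)) ?_).2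
        fun x => (hG x).1
      exact top_le_iff.1 fun x _ => TopologicalSpace.Opens.mem_iSup.2 ⟨x, hxV x⟩
    refine ⟨hN, fun x _ => ?_⟩
    obtain ⟨U, hxU, hU, hG⟩ := h x
    haveI := IsLocallyNoetherian.component_noetherian ⟨U, hU⟩
    letI : Algebra Γ(X, U) (X.presheaf.stalk x) := X.presheaf.algebra_section_stalk ⟨x, hxU⟩
    haveI : IsLocalization (hU.primeIdealOf ⟨x, hxU⟩).asIdeal.primeCompl (X.presheaf.stalk x) :=
      hU.isLocalization_stalk ⟨x, hxU⟩
    exact GRing12.isRegularHom_cpl_of_equiv (Localization.AtPrime (hU.primeIdealOf ⟨x, hxU⟩).asIdeal) _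
      (IsLocalization.algEquiv (hU.primeIdealOf ⟨x, hxU⟩).asIdeal.primeCompl (X.presheaf.stalk x) _).toRingEquiv
      (hG.2 _)
  · rintro ⟨hN, hcl⟩ x
    obtain ⟨U, hU, hxU, -⟩ := exists_isAffineOpen_mem_and_subset (x := x) (U := ⊤) trivial
    haveI := IsLocallyNoetherian.component_noetherian ⟨U, hU⟩
    refine ⟨U, hxU, hU, GRing6.isGRing_of_maximal _ fun m hm => ?_⟩
    obtain ⟨y, huy, hy⟩ := PropsStalk1.exists_closed_specialization (hU.fromSpec ⟨m, hm.isPrime⟩)
    let u := hU.fromSpec ⟨m, hm.isPrime⟩
    have huU : u ∈ U := hU.range_fromSpec.subset ⟨⟨m, hm.isPrime⟩, rfl⟩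
    have hB : CAlg.IsGRing (X.presheaf.stalk y) := by
      refine GRing6.isGRing_of_maximal _ fun m' hm' => ?_
      have hunit : ∀ s ∈ m'.primeCompl, IsUnit s := fun s hs => by
        by_contra hu
        exact hs ((IsLocalRing.eq_maximalIdeal hm').symm ▸ (IsLocalRing.mem_maximalIdeal s).mpr hu)
      exact GRing12.isRegularHom_cpl_of_equiv (X.presheaf.stalk y) _
        (IsLocalization.atUnits (X.presheaf.stalk y) m'.primeCompl hunit
          (S := Localization.AtPrime m')).toRingEquiv.symm (hcl y hy)
    letI := (DivDesc12.sp huy).toAlgebra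
    haveI := LocFact12.isLocalization_sp huy
    have hu := GRing12.isRegularHom_cpl_of_equiv (Localization.AtPrime (DivDesc12.primeAt huy)) (X.presheaf.stalk u)
      (IsLocalization.algEquiv (DivDesc12.primeAt huy).primeCompl (X.presheaf.stalk u) _).toRingEquiv (hB.2 _)
    letI : Algebra Γ(X, U) (X.presheaf.stalk u) := X.presheaf.algebra_section_stalk ⟨u, huU⟩
    have hpm : hU.primeIdealOf ⟨u, huU⟩ = ⟨m, hm.isPrime⟩ :=
      hU.fromSpec.isOpenEmbedding.injective (hU.fromSpec_primeIdealOf ⟨u, huU⟩)
    have h1 := hU.isLocalization_stalk ⟨u, huU⟩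
    rw [hpm] at h1
    haveI : IsLocalization m.primeCompl (X.presheaf.stalk u) := h1
    exact GRing12.isRegularHom_cpl_of_equiv (X.presheaf.stalk u) _
      (IsLocalization.algEquiv m.primeCompl (Localization.AtPrime m) (X.presheaf.stalk u)).toRingEquiv hu

end Groth.Agent.S7393
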