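import Groth.Statements.S7394
import Mathlib

set_option autoImplicit false
universe u
open CategoryTheory AlgebraicGeometry
open Lim

namespace Groth.Agent.S7394

set_option backward.isDefEq.respectTransparency false
set_option backward.isDefEq.respectTransparency.types false

theorem big_field {κ : Type u} [Field κ] {I : Type u} (L : I → Type u) [∀ i, Field (L i)]
    [∀ i, Algebra κ (L i)] :
    ∃ (Ω : Type u) (_ : Field Ω) (_ : Algebra κ Ω), ∀ i, Nonempty (L i →ₐ[κ] Ω) := by
  let B := MvPolynomial (Σ i, L i) κ
  refine ⟨AlgebraicClosure (FractionRing B), inferInstance, inferInstance, fun i => ?_⟩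
  obtain ⟨s, hs⟩ := exists_isTranscendenceBasis κ (L i)
  let x : s → L i := Subtype.val
  let y : s → AlgebraicClosure (FractionRing B) :=
    fun b => algebraMap B (AlgebraicClosure (FractionRing B)) (MvPolynomial.X ⟨i, b.1⟩)
  have hy : AlgebraicIndependent κ y := by
    have h0 : AlgebraicIndependent κ (fun b : s => (MvPolynomial.X (⟨i, b.1⟩ : Σ i, L i) : B)) :=
      (MvPolynomial.algebraicIndependent_X (Σ i, L i) κ).comp _ fun a b h => Subtype.ext (by simpa using h)
    refine h0.map' (f := (IsScalarTower.toAlgHom κ B (AlgebraicClosure (FractionRing B)))) ?_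
    change Function.Injective (algebraMap B (AlgebraicClosure (FractionRing B)))
    rw [IsScalarTower.algebraMap_eq B (FractionRing B) (AlgebraicClosure (FractionRing B))]
    exact (algebraMap (FractionRing B) (AlgebraicClosure (FractionRing B))).injective.comp
      (IsFractionRing.injective B (FractionRing B))
  have := IsTranscendenceBasis.isAlgebraic_field (x := x) hs
  let φ : IntermediateField.adjoin κ (Set.range x) →ₐ[κ] AlgebraicClosure (FractionRing B) :=
    (IsFractionRing.liftAlgHom (K := FractionRing (MvPolynomial s κ))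
      (algebraicIndependent_iff_injective_aeval.1 hy)).comp hs.1.reprField
  obtain ⟨ψ, -⟩ := IsAlgClosed.surjective_domRestrict_of_isAlgebraic (K := κ)
    (L := IntermediateField.adjoin κ (Set.range x)) (E := L i) φ
  exact ⟨ψ⟩


/-- Let `S` be a scheme and `T_i → S`, `i ∈ I`, surjective affine morphisms. Then any product of the
`T_i` in the category of schemes over `S` maps surjectively onto `S`. -/
theorem result {S : Scheme.{u}} {I : Type u} (T : I → Over S)
    (hT : ∀ i, IsAffineHom (T i).hom ∧ Surjective (T i).hom) (c : Limits.Fan T) (hc : Limits.IsLimit c) :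
    Surjective c.pt.hom := by

  refine ⟨fun s => ?_⟩
  have hsurj : ∀ i, ∃ t, (T i).hom t = s := fun i => (hT i).2.surj s
  choose t ht using hsurj
  have hspec : ∀ i, ∃ φ : S.residueField s ⟶ (T i).left.residueField (t i),
      Spec.map φ ≫ S.fromSpecResidueField s = (T i).left.fromSpecResidueField (t i) ≫ (T i).hom := by
    intro i
    have := ht i
    subst this
    exact ⟨(T i).hom.residueFieldMap (t i), Scheme.Hom.SpecMap_residueFieldMap_fromSpecResidueField _ _⟩
  choose φ hφ using hspec
  letI : ∀ i, Algebra (S.residueField s) ((T i).left.residueField (t i)) := fun i => (φ i).hom.toAlgebra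
  obtain ⟨Ω, _, _, hΩ⟩ := big_field (κ := S.residueField s) (fun i => (T i).left.residueField (t i))
  have ψ := hΩ
  let b : Spec (CommRingCat.of Ω) ⟶ S :=
    Spec.map (CommRingCat.ofHom (algebraMap (S.residueField s) Ω)) ≫ S.fromSpecResidueField s
  let g : ∀ i, Over.mk b ⟶ T i := fun i => Over.homMk
    (Spec.map (CommRingCat.ofHom (ψ i).some.toRingHom) ≫ (T i).left.fromSpecResidueField (t i)) (by
      rw [Category.assoc, ← hφ i, ← Category.assoc, ← Spec.map_comp]
      change _ = Spec.map _ ≫ _
      congr 2
      ext r
      exact (ψ i).some.commutes r)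
  let m := hc.lift (Limits.Fan.mk (Over.mk b) g)
  refine ⟨m.left (IsLocalRing.closedPoint Ω), ?_⟩
  rw [← Scheme.Hom.comp_apply, show m.left ≫ c.pt.hom = b from Over.w m]
  exact Scheme.fromSpecResidueField_apply s _

end Groth.Agent.S7394
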