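import Groth.Statements.S7396
import Groth.Agent.Lib.LimH13.FiniteFP
import Groth.Agent.Lib.LimH13.ClosedStage

set_option autoImplicit false
universe u
open CategoryTheory AlgebraicGeometry
open Lim

namespace Groth.Agent.S7396

set_option backward.isDefEq.respectTransparency false
set_option backward.isDefEq.respectTransparency.types false


/-- Let `f : X → S` be finite with `S` quasi-compact and quasi-separated. Then there are a morphism `f'
: X' → S` which is finite and of finite presentation and a closed immersion `X → X'` over `S`. -/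
theorem result {X S : Scheme.{u}} (f : X ⟶ S) [IsFinite f]
    [CompactSpace S] [QuasiSeparatedSpace S] :
    ∃ (X' : Scheme.{u}) (f' : X' ⟶ S) (j : X ⟶ X'), IsFinite f' ∧ LocallyOfFinitePresentation f' ∧
      IsClosedImmersion j ∧ j ≫ f' = f := by

  haveI : CompactSpace X := QuasiCompact.compactSpace_of_compactSpace f
  haveI : QuasiSeparatedSpace X := quasiSeparatedSpace_of_quasiSeparated f
  obtain ⟨X', f', j, h1, h2, h3, h4, h5, h6, h7, -⟩ := LimH13.exists_closed_stage f
  haveI : IsIntegralHom (j ≫ f') := by rw [h7]; infer_instance
  obtain ⟨J₁, hJ₁, hle, hfin⟩ := LimH13.exists_ifg_finite f' j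
  haveI := LimH13.locallyOfFinitePresentation_subschemeι hJ₁
  refine ⟨J₁.subscheme, J₁.subschemeι ≫ f', IsClosedImmersion.lift J₁.subschemeι j
    (by rw [Scheme.IdealSheafData.ker_subschemeι]; exact hle), hfin, inferInstance,
    LimH13.isClosedImmersion_lift j _ _, ?_⟩
  rw [← Category.assoc, IsClosedImmersion.lift_fac, h7]

end Groth.Agent.S7396
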