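import Groth.Statements.S7397
import Mathlib.Tactic.Ring
import Mathlib.Tactic.Linarith


set_option autoImplicit false
universe u
open Mor

namespace Groth.Agent.S7397

/-- Let `A ⊆ B` be a ring extension and `b ∈ B`, `b ∉ A`, with `b^n, b^(n+1) ∈ A` for some `n ≥ 2`. Then
some `b' ∈ B` with `b' ∉ A` has `b'^2 ∈ A` and `b'^3 ∈ A`. -/
theorem result {B : Type u} [CommRing B] (A : Subring B) (b : B) (hb : b ∉ A)
    (n : ℕ) (hn : 2 ≤ n) (h1 : b ^ n ∈ A) (h2 : b ^ (n + 1) ∈ A) :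
    ∃ b' : B, b' ∉ A ∧ b' ^ 2 ∈ A ∧ b' ^ 3 ∈ A := by
  classical
  obtain ⟨m, hm, hmax⟩ : ∃ m, b ^ m ∉ A ∧ ∀ j, b ^ j ∉ A → j ≤ m := by
    have key : ∀ j, b ^ j ∉ A → j ≤ n * n := by
      intro j hj
      by_contra hlt
      apply hj
      have hnpos : 0 < n := by omega
      have hq : j % n ≤ j / n := by
        have h3 : j % n < n := Nat.mod_lt _ hnpos
        have h4 : n ≤ j / n := (Nat.le_div_iff_mul_le hnpos).2 (by nlinarith)
        omega
      have : j = n * (j / n - j % n) + (n + 1) * (j % n) := by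
        obtain ⟨c, hc⟩ := Nat.le.dest hq
        conv_lhs => rw [← Nat.div_add_mod j n, ← hc]
        rw [← hc, Nat.add_sub_cancel_left]
        ring
      rw [this, pow_add, pow_mul, pow_mul]
      exact mul_mem (pow_mem h1 _) (pow_mem h2 _)
    refine ⟨Nat.findGreatest (fun j => b ^ j ∉ A) (n * n), ?_, fun j hj => ?_⟩
    · exact Nat.findGreatest_spec (P := fun j => b ^ j ∉ A) (m := 1) (by nlinarith) (by simpa using hb)
    · exact Nat.le_findGreatest (key j hj) hj
  have hm1 : 1 ≤ m := hmax 1 (by simpa using hb)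
  refine ⟨b ^ m, hm, ?_, ?_⟩ <;> rw [← pow_mul] <;> by_contra hc <;> have := hmax _ hc <;> omega

end Groth.Agent.S7397
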