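import Groth.Statements.S7399
import Groth.Agent.Lib.UnivHomeo.Main


set_option autoImplicit false
universe u
open CategoryTheory AlgebraicGeometry
open Mor

namespace Groth.Agent.S7399

/-- Let `A ⊆ B` be a proper ring extension inducing a universal homeomorphism `Spec B → Spec A`. Then
either there is `b ∈ B`, `b ∉ A`, with `b^2, b^3 ∈ A`, or there are a prime number `p` and `b ∈ B`,
`b ∉ A`, with `p b, b^p ∈ A`. (Here `A → B` is an injective, non-surjective ring map and membership
in `A` means membership in its image.) -/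
theorem result {A B : Type u} [CommRing A] [CommRing B]
    (φ : A →+* B) (hinj : Function.Injective φ) (hns : ¬ Function.Surjective φ)
    (hU : FlatMor.IsUnivHomeo (Spec.map (CommRingCat.ofHom φ))) :
    (∃ b : B, b ∉ φ.range ∧ b ^ 2 ∈ φ.range ∧ b ^ 3 ∈ φ.range) ∨
      ∃ (p : ℕ) (b : B), p.Prime ∧ b ∉ φ.range ∧ (p : B) * b ∈ φ.range ∧ b ^ p ∈ φ.range := by
  letI := φ.toAlgebra
  obtain ⟨h₁, h₂, h₃⟩ := (UH.isUnivHomeo_Spec_iff_of_injective φ hinj).mp hU
  haveI : Algebra.IsIntegral A B := ⟨h₁⟩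
  exact UH.exists_sq_cube_or_prime hinj hns h₂ h₃

end Groth.Agent.S7399
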