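import Groth.Statements.S7402
import Groth.Agent.Lib.UnivHomeo.Main


set_option autoImplicit false
universe u
open CategoryTheory AlgebraicGeometry
open Polynomial
open Mor

namespace Groth.Agent.S7402

/-- Let `A` be a ring and `x, y ∈ A` with `x^3 = y^2`. Then `A → B = A[t]/(t^2 - x, t^3 - y)` induces a
universal homeomorphism on spectra and isomorphisms on residue fields. -/
theorem result (A : Type u) [CommRing A] (x y : A) (h : x ^ 3 = y ^ 2) :
    FlatMor.IsUnivHomeo (Spec.map (CommRingCat.ofHom (algebraMap A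
      (A[X] ⧸ Ideal.span ({X ^ 2 - C x, X ^ 3 - C y} : Set A[X]))))) ∧
    ∀ q : Spec (CommRingCat.of (A[X] ⧸ Ideal.span ({X ^ 2 - C x, X ^ 3 - C y} : Set A[X]))),
      Function.Surjective ((Spec.map (CommRingCat.ofHom (algebraMap A
        (A[X] ⧸ Ideal.span ({X ^ 2 - C x, X ^ 3 - C y} : Set A[X]))))).residueFieldMap q) := by
  let I : Ideal (Polynomial A) :=
    Ideal.span ({Polynomial.X ^ 2 - Polynomial.C x, Polynomial.X ^ 3 - Polynomial.C y} : Set (Polynomial A))
  let t : Polynomial A ⧸ I := Ideal.Quotient.mk I Polynomial.X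
  have h2 : t ^ 2 = algebraMap A _ x := by
    rw [← map_pow]; exact Ideal.Quotient.eq.mpr (Ideal.subset_span (Or.inl rfl))
  have h3 : t ^ 3 = algebraMap A _ y := by
    rw [← map_pow]; exact Ideal.Quotient.eq.mpr (Ideal.subset_span (Or.inr rfl))
  have hT : UH.HasTowers A (Polynomial A ⧸ I) UH.StepSC :=
    UH.hasTowers_singleton t (UH.adjoin_mk_X I)
      ⟨Algebra.mem_bot.mpr ⟨x, h2.symm⟩, Algebra.mem_bot.mpr ⟨y, h3.symm⟩⟩
  have hP := hT.mono fun _ _ => UH.stepP_of_stepSC
  refine ⟨(UH.isUnivHomeo_Spec_iff _).mpr ⟨(UH.isIntegral_of_hasTowers hP).isIntegral,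
    UH.rad_inj2_of_universallyInjective _ (UH.universallyInjective_of_hasTowers hP),
    UH.surjective_of_algClosed _ fun K _ _ g => ?_⟩,
    (UH.forall_residueFieldMap_surjective_iff _).mpr (UH.res_of_hasTowers hT)⟩
  have hxy : g x ^ 3 = g y ^ 2 := by rw [← map_pow, ← map_pow, h]
  obtain ⟨r, hr2, hr3⟩ : ∃ r : K, r ^ 2 = g x ∧ r ^ 3 = g y := by
    by_cases h0 : g x = 0
    · refine ⟨0, by simp [h0], ?_⟩
      rw [h0, zero_pow three_ne_zero] at hxy
      simp [eq_zero_of_pow_eq_zero hxy.symm]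
    · refine ⟨g y / g x, ?_, ?_⟩
      · rw [div_pow, ← hxy, pow_succ (g x) 2, mul_div_cancel_left₀ _ (pow_ne_zero 2 h0)]
      · rw [div_pow, hxy, pow_succ (g y) 2, mul_div_cancel_left₀ _ (fun hy => h0 ?_)]
        exact eq_zero_of_pow_eq_zero (hxy.trans hy)
  refine ⟨Ideal.Quotient.lift I (Polynomial.eval₂RingHom g r) ?_, RingHom.ext fun a => ?_⟩
  · intro q hq
    have : I ≤ RingHom.ker (Polynomial.eval₂RingHom g r) := by
      rw [Ideal.span_le]
      rintro _ (rfl | rfl) <;> simp [RingHom.mem_ker, hr2, hr3]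
    exact this hq
  · exact Polynomial.eval₂_C g r

end Groth.Agent.S7402
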