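import Groth.Statements.S7403
import Groth.Agent.Lib.UnivHomeo.Main


set_option autoImplicit false
universe u
open CategoryTheory AlgebraicGeometry
open Polynomial
open Mor

namespace Groth.Agent.S7403

/-- Let `A` be a ring, `p` a prime number and `x, y ∈ A` with `p^p x = y^p`. Then `A → B = A[t]/(t^p -
x, p t - y)` induces a universal homeomorphism on spectra. -/
theorem result (A : Type u) [CommRing A] (p : ℕ) (hp : p.Prime) (x y : A)
    (h : (p : A) ^ p * x = y ^ p) :
    FlatMor.IsUnivHomeo (Spec.map (CommRingCat.ofHom (algebraMap A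
      (A[X] ⧸ Ideal.span ({X ^ p - C x, C (p : A) * X - C y} : Set A[X]))))) := by
  let I : Ideal (Polynomial A) :=
    Ideal.span ({Polynomial.X ^ p - Polynomial.C x, Polynomial.C (p : A) * Polynomial.X - Polynomial.C y} : Set (Polynomial A))
  let t : Polynomial A ⧸ I := Ideal.Quotient.mk I Polynomial.X
  have h1 : t ^ p = algebraMap A _ x := by
    rw [← map_pow]; exact Ideal.Quotient.eq.mpr (Ideal.subset_span (Or.inl rfl))
  have h2 : (p : Polynomial A ⧸ I) * t = algebraMap A _ y := by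
    rw [← map_natCast (Ideal.Quotient.mk I), ← map_mul, ← map_natCast Polynomial.C]
    exact Ideal.Quotient.eq.mpr (Ideal.subset_span (Or.inr rfl))
  have hT : UH.HasTowers A (Polynomial A ⧸ I) UH.StepP :=
    UH.hasTowers_singleton t (UH.adjoin_mk_X I)
      (Or.inr ⟨p, hp, Algebra.mem_bot.mpr ⟨y, h2.symm⟩, Algebra.mem_bot.mpr ⟨x, h1.symm⟩⟩)
  refine (UH.isUnivHomeo_Spec_iff _).mpr ⟨(UH.isIntegral_of_hasTowers hT).isIntegral,
    UH.rad_inj2_of_universallyInjective _ (UH.universallyInjective_of_hasTowers hT),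
    UH.surjective_of_algClosed _ fun K _ _ g => ?_⟩
  have hxy : (p : K) ^ p * g x = g y ^ p := by
    rw [← map_natCast g, ← map_pow, ← map_pow, ← map_mul, h]
  obtain ⟨r, hr1, hr2⟩ : ∃ r : K, r ^ p = g x ∧ (p : K) * r = g y := by
    by_cases h0 : (p : K) = 0
    · obtain ⟨r, hr⟩ := IsAlgClosed.exists_pow_nat_eq (g x) hp.pos
      refine ⟨r, hr, ?_⟩
      rw [h0, zero_pow hp.ne_zero, zero_mul] at hxy
      rw [h0, zero_mul, eq_zero_of_pow_eq_zero hxy.symm]
    · exact ⟨g y / p, by rw [div_pow, ← hxy, mul_div_cancel_left₀ _ (pow_ne_zero p h0)],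
        mul_div_cancel₀ _ h0⟩
  refine ⟨Ideal.Quotient.lift I (Polynomial.eval₂RingHom g r) ?_, RingHom.ext fun a => ?_⟩
  · intro q hq
    have : I ≤ RingHom.ker (Polynomial.eval₂RingHom g r) := by
      rw [Ideal.span_le]
      rintro _ (rfl | rfl) <;> simp [RingHom.mem_ker, hr1, hr2]
    exact this hq
  · exact Polynomial.eval₂_C g r

end Groth.Agent.S7403
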