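import Groth.Statements.S7404
import Groth.Agent.Lib.UnivHomeo.Main


set_option autoImplicit false
universe u
open CategoryTheory AlgebraicGeometry
open Mor

namespace Groth.Agent.S7404

/-- Let `A → B` be a ring map and `B' ⊆ B` an `A`-subalgebra, with `f : Spec B → Spec A` and `f' : Spec
B' → Spec A` the induced morphisms. Each of the following properties passes from `f` to `f'`: being
a universal homeomorphism; being a universal homeomorphism with trivial residue field extensions;
being universally closed; being both universally closed and universally injective. -/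
theorem result {A B : Type u} [CommRing A] [CommRing B] [Algebra A B]
    (B' : Subalgebra A B) :
    (FlatMor.IsUnivHomeo (Spec.map (CommRingCat.ofHom (algebraMap A B))) →
      FlatMor.IsUnivHomeo (Spec.map (CommRingCat.ofHom (algebraMap A B')))) ∧
    ((FlatMor.IsUnivHomeo (Spec.map (CommRingCat.ofHom (algebraMap A B))) ∧
      ∀ x : Spec (CommRingCat.of B),
        Function.Surjective ((Spec.map (CommRingCat.ofHom (algebraMap A B))).residueFieldMap x)) →
      FlatMor.IsUnivHomeo (Spec.map (CommRingCat.ofHom (algebraMap A B'))) ∧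
      ∀ x : Spec (CommRingCat.of B'),
        Function.Surjective ((Spec.map (CommRingCat.ofHom (algebraMap A B'))).residueFieldMap x)) ∧
    (UniversallyClosed (Spec.map (CommRingCat.ofHom (algebraMap A B))) →
      UniversallyClosed (Spec.map (CommRingCat.ofHom (algebraMap A B')))) ∧
    (UniversallyClosed (Spec.map (CommRingCat.ofHom (algebraMap A B))) →
      UniversallyInjective (Spec.map (CommRingCat.ofHom (algebraMap A B))) →
      UniversallyClosed (Spec.map (CommRingCat.ofHom (algebraMap A B'))) ∧
      UniversallyInjective (Spec.map (CommRingCat.ofHom (algebraMap A B')))) := by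
  have hu : ∀ φ : A →+* B, UniversallyClosed (Spec.map (CommRingCat.ofHom φ)) → φ.IsIntegral :=
    fun φ h => IsIntegralHom.SpecMap_iff.mp
      (IsIntegralHom.iff_universallyClosed_and_isAffineHom.mpr ⟨h, inferInstance⟩)
  have hc : Algebra.IsIntegral A B → UniversallyClosed (Spec.map (CommRingCat.ofHom (algebraMap A B'))) := by
    intro hi
    haveI : IsIntegralHom (Spec.map (CommRingCat.ofHom (algebraMap A B'))) :=
      IsIntegralHom.SpecMap_iff.mpr (UH.integral_subalgebra B').isIntegral
    infer_instance
  have hh : FlatMor.IsUnivHomeo (Spec.map (CommRingCat.ofHom (algebraMap A B))) →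
      FlatMor.IsUnivHomeo (Spec.map (CommRingCat.ofHom (algebraMap A B'))) := by
    intro h
    obtain ⟨hi, ⟨h1, h2⟩, h3⟩ := (UH.isUnivHomeo_Spec_iff _).mp h
    haveI : Algebra.IsIntegral A B := ⟨hi⟩
    refine (UH.isUnivHomeo_Spec_iff _).mpr ⟨(UH.integral_subalgebra B').isIntegral,
      ⟨UH.inj2_subalgebra B' h1, UH.rad_subalgebra B' h2⟩, fun q hq => ?_⟩
    obtain ⟨Q, hQ, e⟩ := h3 q hq
    exact ⟨Q.comap B'.val.toRingHom, Ideal.comap_isPrime _ _, e⟩
  refine ⟨hh, fun ⟨h, hr⟩ => ⟨hh h, ?_⟩, fun h => hc ⟨hu _ h⟩, fun h hi => ⟨hc ⟨hu _ h⟩, ?_⟩⟩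
  · haveI : Algebra.IsIntegral A B := ⟨((UH.isUnivHomeo_Spec_iff _).mp h).1⟩
    exact (UH.forall_residueFieldMap_surjective_iff _).mpr
      (UH.res_subalgebra B' ((UH.forall_residueFieldMap_surjective_iff _).mp hr))
  · haveI : Algebra.IsIntegral A B := ⟨hu _ h⟩
    obtain ⟨h1, h2⟩ := UH.rad_inj2_of_universallyInjective _ hi
    exact UH.universallyInjective_of_inj2_rad _ (UH.inj2_subalgebra B' h1) (UH.rad_subalgebra B' h2)

end Groth.Agent.S7404
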