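import Groth.Statements.S7405
import Groth.Agent.Lib.UnivHomeo.Colim


set_option autoImplicit false
universe u
open CategoryTheory AlgebraicGeometry
open Mor

namespace Groth.Agent.S7405

/-- Let `A` be a ring and `B` the colimit of a filtered diagram `j ↦ B_j` of `A`-algebras. Each of the
following properties, when it holds for every `Spec B_j → Spec A`, holds for `Spec B → Spec A`:
being a universal homeomorphism; being a universal homeomorphism with trivial residue field
extensions; being universally closed; being both universally closed and universally injective. -/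
theorem result (A : CommRingCat.{u}) {J : Type u} [SmallCategory J]
    [IsFiltered J] (F : J ⥤ Under A) (c : Limits.Cocone F) (hc : Limits.IsColimit c) :
    ((∀ j, FlatMor.IsUnivHomeo (Spec.map (F.obj j).hom)) → FlatMor.IsUnivHomeo (Spec.map c.pt.hom)) ∧
    ((∀ j, FlatMor.IsUnivHomeo (Spec.map (F.obj j).hom) ∧
        ∀ x : Spec (F.obj j).right, Function.Surjective ((Spec.map (F.obj j).hom).residueFieldMap x)) →
      FlatMor.IsUnivHomeo (Spec.map c.pt.hom) ∧
        ∀ x : Spec c.pt.right, Function.Surjective ((Spec.map c.pt.hom).residueFieldMap x)) ∧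
    ((∀ j, UniversallyClosed (Spec.map (F.obj j).hom)) → UniversallyClosed (Spec.map c.pt.hom)) ∧
    ((∀ j, UniversallyClosed (Spec.map (F.obj j).hom) ∧ UniversallyInjective (Spec.map (F.obj j).hom)) →
      UniversallyClosed (Spec.map c.pt.hom) ∧ UniversallyInjective (Spec.map c.pt.hom)) := by
  have hUI : (∀ j, UniversallyInjective (Spec.map (F.obj j).hom)) →
      UniversallyInjective (Spec.map c.pt.hom) := fun h =>
    UH.universallyInjective_of_field c.pt.hom.hom fun K _ => UH.field_colim hc h K
  have hUC : (∀ j, UniversallyClosed (Spec.map (F.obj j).hom)) → UniversallyClosed (Spec.map c.pt.hom) :=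
    fun h => UH.universallyClosed_of_integral _
      (UH.integral_colim hc fun j => UH.integral_of_universallyClosed _ (h j))
  have hH : (∀ j, FlatMor.IsUnivHomeo (Spec.map (F.obj j).hom)) → FlatMor.IsUnivHomeo (Spec.map c.pt.hom) := by
    intro h
    refine (UH.isUnivHomeo_iff c.pt.hom.hom).mpr
      ⟨UH.integral_colim hc fun j => ((UH.isUnivHomeo_iff (F.obj j).hom.hom).mp (h j)).1,
        hUI fun j => UH.universallyInjective_of_isUnivHomeo (h j), ?_⟩
    exact (UH.surjective_iff c.pt.hom.hom).mpr (UH.over_colim hc fun j =>
      (UH.surjective_iff (F.obj j).hom.hom).mp (UH.surjective_of_isUnivHomeo (h j)))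
  exact ⟨hH, fun h => ⟨hH fun j => (h j).1,
      (UH.forall_residueFieldMap_surjective_iff c.pt.hom.hom).mpr (UH.res_colim hc fun j =>
        (UH.forall_residueFieldMap_surjective_iff (F.obj j).hom.hom).mp (h j).2)⟩,
    hUC, fun h => ⟨hUC fun j => (h j).1, hUI fun j => (h j).2⟩⟩

end Groth.Agent.S7405
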