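import Groth.Statements.S7413
import Groth.Agent.Lib.ProjLoc12.Geo
import Groth.Agent.Lib.PullSect12.Basic

set_option backward.isDefEq.respectTransparency.types false

set_option autoImplicit false
universe u
open CategoryTheory AlgebraicGeometry
open Opposite
open Mor

namespace Groth.Agent.S7413

/-- Let `f : X → Y` be a morphism of schemes and `G` a quasi-coherent, locally projective `O_Y`-module
(projective sections over every affine open). Then `f^* G` is locally projective on `X`. -/
theorem result {X Y : Scheme.{u}} (f : X ⟶ Y) (G : Y.Modules) [Coh.IsQCoh G]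
    (hG : ∀ V : Y.Opens, IsAffineOpen V → Module.Projective (Y.ringCatSheaf.obj.obj (op V)) (G.val.obj (op V)))
    (U : X.Opens) (hU : IsAffineOpen U) :
    Module.Projective (X.ringCatSheaf.obj.obj (op U)) (((Scheme.Modules.pullback f).obj G).val.obj (op U)) := by
  haveI : Coh.IsQCoh ((Scheme.Modules.pullback f).obj G) := M1.isQCoh_pullback f inferInstance
  refine ProjLoc12.projective_of_pointwise _ (fun x => ?_) hU
  obtain ⟨W, hW, hxW, -⟩ :=
    exists_isAffineOpen_mem_and_subset (x := f x) (U := (⊤ : Y.Opens)) trivial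
  obtain ⟨V, hV, hxV, hle⟩ := exists_isAffineOpen_mem_and_subset (x := x) (U := f ⁻¹ᵁ W) hxW
  refine ⟨V, hV, hxV, ?_⟩
  letI := (f.appLE W V hle).hom.toAlgebra
  letI := PullBC11.baseModule (g := f) ((Scheme.Modules.pullback f).obj G) (U := W) hle
  haveI : IsScalarTower Γ(Y, W) Γ(X, V) Γ((Scheme.Modules.pullback f).obj G, V) :=
    IsScalarTower.of_algebraMap_smul fun _ _ => rfl
  haveI : Module.Projective Γ(Y, W) Γ(G, W) := hG W hW
  exact @ProjLoc12.projective_of_isBaseChange _ _ _ _ _ _ _ _ _ _ _ _ _ _ (PullSect12.isBC_unit f G hW hV hle) (hG W hW)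

end Groth.Agent.S7413
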