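import Groth.Statements.S7414
import Groth.Agent.Lib.GRing12.Basic

set_option autoImplicit false
universe u
open CategoryTheory AlgebraicGeometry
open Mor

namespace Groth.Agent.S7414

/-- A scheme `X` is a G-scheme (every point has an affine open neighbourhood with G-ring coordinate
ring) if and only if `O_X(U)` is a G-ring for every affine open `U ⊆ X`. -/
theorem result (X : Scheme.{u}) :
    (∀ x : X, ∃ U : X.Opens, x ∈ U ∧ IsAffineOpen U ∧ CAlg.IsGRing Γ(X, U)) ↔
      ∀ U : X.Opens, IsAffineOpen U → CAlg.IsGRing Γ(X, U) := by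
  constructor
  · intro h U hU
    have : IsLocallyNoetherian X := by
      choose V hxV hV hG using h
      refine (isLocallyNoetherian_iff_of_iSup_eq_top (S := fun x : X => (⟨V x, hV x⟩ : X.affineOpens)) ?_).2
        fun x => (hG x).1
      exact top_le_iff.1 fun x _ => TopologicalSpace.Opens.mem_iSup.2 ⟨x, hxV x⟩
    refine ⟨IsLocallyNoetherian.component_noetherian ⟨U, hU⟩, fun p hp => ?_⟩
    obtain ⟨V, hxV, hV, hG⟩ := h (hU.fromSpec ⟨p, hp⟩)
    exact GRing12.isRegularHom_cpl_of_point hU hV p _ rfl hxV hG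
  · intro h x
    obtain ⟨U, hU, hxU, -⟩ := exists_isAffineOpen_mem_and_subset (x := x) (U := ⊤) trivial
    exact ⟨U, hxU, hU, h U hU⟩


end Groth.Agent.S7414
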