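import Groth.Statements.S7416
-- import your own Groth.Agent.* helpers here

set_option autoImplicit false
set_option backward.isDefEq.respectTransparency.types false
universe u
open CategoryTheory AlgebraicGeometry
open Mor

namespace Groth.Agent.S7416

/-- Let `U`, `V` be affine schemes and `W → U`, `W → V` open immersions. Then every `w ∈ W` has an open
neighbourhood `W' ⊆ W` whose images in `U` and in `V` are standard opens `D(f) ⊆ U`, `D(g) ⊆ V` (in
particular `W'` is affine). -/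
theorem result {U V W : Scheme.{u}} [IsAffine U]
    [IsAffine V] (i : W ⟶ U) (j : W ⟶ V) [IsOpenImmersion i] [IsOpenImmersion j] (w : W) :
    ∃ (W' : W.Opens) (f : Γ(U, ⊤)) (g : Γ(V, ⊤)), w ∈ W' ∧ i ''ᵁ W' = U.basicOpen f ∧ j ''ᵁ W' = V.basicOpen g := by
  have key : ∀ {U : Scheme.{u}} [IsAffine U] (i : W ⟶ U) [IsOpenImmersion i],
      ∃ W₁ : W.Opens, IsAffineOpen W₁ ∧ w ∈ W₁ ∧
        ∀ a : Γ(W, W₁), ∃ f : Γ(U, ⊤), i ''ᵁ W.basicOpen a = U.basicOpen f := by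
    intro U _ i _
    obtain ⟨f, hf, hw⟩ := (isAffineOpen_top U).exists_basicOpen_le (V := i.opensRange) ⟨i w, ⟨w, rfl⟩⟩ trivial
    have hi : i ''ᵁ (i ⁻¹ᵁ U.basicOpen f) = U.basicOpen f := by
      rw [i.image_preimage_eq_opensRange_inf, inf_eq_right.2 hf]
    refine ⟨i ⁻¹ᵁ U.basicOpen f, ?_, hw, fun a => ?_⟩
    · rw [← i.isAffineOpen_iff_of_isOpenImmersion, hi]
      exact (isAffineOpen_top U).basicOpen f
    · obtain ⟨f', hf'⟩ := (isAffineOpen_top U).basicOpen_basicOpen_is_basicOpen f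
        (U.presheaf.map (eqToHom hi.symm).op ((i.appIso _).inv a))
      refine ⟨f', ?_⟩
      rw [hf', Scheme.basicOpen_res_eq, ← Scheme.image_basicOpen]
  obtain ⟨W₁, h₁, hw₁, H₁⟩ := key i
  obtain ⟨W₂, h₂, hw₂, H₂⟩ := key j
  obtain ⟨a, b, e, hw⟩ := exists_basicOpen_le_affine_inter h₁ h₂ w ⟨hw₁, hw₂⟩
  obtain ⟨f, hf⟩ := H₁ a
  obtain ⟨g, hg⟩ := H₂ b
  exact ⟨W.basicOpen a, f, g, hw, hf, e ▸ hg⟩

end Groth.Agent.S7416
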