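import Groth.Statements.S7425
import Groth.Agent.Lib.Seminormal26.Glue
-- import your own Groth.Agent.* helpers here

set_option autoImplicit false
universe u
open CategoryTheory AlgebraicGeometry
open HTop

namespace Groth.Agent.S7425

/-- Let `ν : X^awn → X` be an absolute weak normalization and `π : Y → X` a universal homeomorphism.
Then `Y` is absolutely weakly normal exactly when the induced morphism `h : X^awn → Y` over `X` is
an isomorphism. -/
theorem result {X X' Y : Scheme.{u}} (ν : X' ⟶ X)
    (hν : HTop.IsAWNormalization ν) (π : Y ⟶ X) (hπ : FlatMor.IsUnivHomeo π) (h : X' ⟶ Y) (hh : h ≫ π = ν) :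
    IsIso h ↔ HTop.IsAWN Y := by
  have hX' := SN26.normalScheme_of_isAWNormalization hν
  haveI := hX'.isReduced
  have hh' : SN26.GoodHom False h :=
    SN26.goodHom_top (SN26.goodHom_false_iff.2 hπ) (by rw [hh]; exact SN26.goodHom_false_iff.2 hν.1)
  refine ⟨fun _ => SN26.normalScheme_false_iff.1 (hX'.of_isOpenImmersion (inv h)), fun hY => ?_⟩
  exact SN26.isIso_of_good hh' (SN26.normalScheme_false_iff.2 hY)

end Groth.Agent.S7425
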