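import Groth.Statements.S7426
import Groth.Agent.Lib.Seminormal26.Glue
-- import your own Groth.Agent.* helpers here

set_option autoImplicit false
universe u
open CategoryTheory AlgebraicGeometry
open HTop

namespace Groth.Agent.S7426

/-- For a scheme `X` the following are equivalent: `X` is absolutely weakly normal; `X^awn → X` is an
isomorphism (equivalently, the identity of `X` is an absolute weak normalization); every universal
homeomorphism `Y → X` with `Y` reduced is an isomorphism. -/
theorem result (X : Scheme.{u}) :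
    (HTop.IsAWN X ↔ HTop.IsAWNormalization (𝟙 X)) ∧
    (HTop.IsAWN X ↔ ∀ (Y : Scheme.{u}) (π : Y ⟶ X), FlatMor.IsUnivHomeo π → AlgebraicGeometry.IsReduced Y → IsIso π) := by
  refine ⟨⟨fun hX => ?_, fun h => SN26.normalScheme_false_iff.1 (SN26.normalScheme_of_isAWNormalization h)⟩,
    ⟨fun hX Y π hπ _ => SN26.isIso_of_good (SN26.goodHom_false_iff.2 hπ) (SN26.normalScheme_false_iff.2 hX),
      fun h => ?_⟩⟩
  · exact ⟨(SN26.goodHom_id X (r := False)).1, fun Y π hπ =>
      SN26.isFinal_of_normal _ (SN26.normalScheme_false_iff.2 hX) (SN26.goodHom_false_iff.2 hπ)⟩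
  · obtain ⟨X', ν, hν, hX'⟩ := SN26.exists_normalization False X
    haveI := h X' ν hν.1 hX'.isReduced
    exact SN26.normalScheme_false_iff.1 (hX'.of_isOpenImmersion (inv ν))

end Groth.Agent.S7426
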