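import Groth.Statements.S7428
import Groth.Agent.Lib.WeakNorm12.Basic


set_option autoImplicit false
universe u
open CategoryTheory AlgebraicGeometry
open Mor

namespace Groth.Agent.S7428

/-- Let `A → B` be a ring map with `Spec B → Spec A` dominant. Then some `A`-subalgebra `B' ⊆ B` has
`Spec B' → Spec A` a universal homeomorphism with trivial residue field extensions and contains the
image of `C → B` for every `A`-algebra `C` with an `A`-algebra map `C → B` such that `Spec C → Spec
A` is a universal homeomorphism with trivial residue field extensions. (Trivial residue field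
extensions: every residue field map of the morphism of spectra is surjective. The test algebras `C`
range over the universe of `A` and `B`.) -/
theorem result {A B : Type u} [CommRing A] [CommRing B] [Algebra A B]
    [IsDominant (Spec.map (CommRingCat.ofHom (algebraMap A B)))] :
    ∃ B' : Subalgebra A B, (FlatMor.IsUnivHomeo (Spec.map (CommRingCat.ofHom (algebraMap A B'))) ∧
      ∀ x : Spec (CommRingCat.of B'),
        Function.Surjective ((Spec.map (CommRingCat.ofHom (algebraMap A B'))).residueFieldMap x)) ∧
      ∀ (C : Type u) [CommRing C] [Algebra A C] (g : C →ₐ[A] B),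
        FlatMor.IsUnivHomeo (Spec.map (CommRingCat.ofHom (algebraMap A C))) →
        (∀ x : Spec (CommRingCat.of C),
          Function.Surjective ((Spec.map (CommRingCat.ofHom (algebraMap A C))).residueFieldMap x)) →
        g.range ≤ B' := by
  let W := UnivHomeoRing26.wn A (integralClosure A B)
  haveI : Algebra.IsIntegral A W := ⟨UnivHomeoRing26.isIntegral_subalgebra W⟩
  let D := (WeakNorm12.resSub A W).map W.val
  have hD : D ≤ W := by
    rintro _ ⟨x, -, rfl⟩
    exact x.2
  refine ⟨D.map (integralClosure A B).val, ⟨WeakNorm12.isUnivHomeo_map D hD, ?_⟩, ?_⟩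
  · rw [UH.forall_residueFieldMap_surjective_iff]
    exact WeakNorm12.res_of_equiv
      (((WeakNorm12.resSub A W).equivMapOfInjective W.val Subtype.val_injective).trans
        (D.equivMapOfInjective _ Subtype.val_injective)) WeakNorm12.res_resSub
  · intro C _ _ g hC hres
    obtain ⟨g', hg⟩ := WeakNorm12.exists_factor g hC
    refine WeakNorm12.range_le_map g g' hg _ ?_
    have hW : g'.range ≤ W := WeakNorm12.range_le_wn g' (WeakNorm12.pts_of_univHomeo hC)
    let g'' : C →ₐ[A] W := g'.codRestrict W fun c => hW ⟨c, rfl⟩
    have h2 := WeakNorm12.range_le_resSub g'' ((UH.forall_residueFieldMap_surjective_iff _).1 hres)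
    rintro _ ⟨c, rfl⟩
    exact ⟨g'' c, h2 ⟨c, rfl⟩, rfl⟩


end Groth.Agent.S7428
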