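import Groth.Statements.S7431
import Mathlib

set_option autoImplicit false
universe u
open CategoryTheory AlgebraicGeometry
open Lim

namespace Groth.Agent.S7431

/-- Let `B' = B ×_R R'` be a cartesian square of rings with maps `s : B → R`, `t : R' → R`, and let `W'
= D(f_1) ∪ … ∪ D(f_n) ⊆ Spec R'` with `t(f_i) = s(g_i)` for elements `g_i ∈ B` such that `B_{g_i} →
R_{s(g_i)}` is an isomorphism for each `i`. Then the composite `W' → Spec R' → Spec B'`, the second
map coming from `B' → R'`, is an open immersion. -/
theorem result {B B' R R' : Type u} [CommRing B] [CommRing B']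
    [CommRing R] [CommRing R'] (s : B →+* R) (t : R' →+* R) (p : B' →+* B) (q : B' →+* R')
    (hsq : IsPullback (CommRingCat.ofHom p) (CommRingCat.ofHom q) (CommRingCat.ofHom s) (CommRingCat.ofHom t))
    {n : ℕ} (f : Fin n → R') (g : Fin n → B) (hfg : ∀ i, t (f i) = s (g i))
    (hiso : ∀ i, Function.Bijective (Localization.awayMap s (g i))) :
    IsOpenImmersion (Scheme.Opens.ι (X := Spec (CommRingCat.of R')) (⨆ i, PrimeSpectrum.basicOpen (f i)) ≫
      Spec.map (CommRingCat.ofHom q)) := by
  have hP := CategoryTheory.Limits.Types.isPullback_iff _ _ _ _ |>.1 (hsq.map (forget CommRingCat))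
  obtain ⟨hw, hext, hex⟩ := hP
  have hst : ∀ x, s (p x) = t (q x) := fun x => CategoryTheory.ConcreteCategory.congr_hom hw x
  have hh : ∀ i, ∃ h : B', p h = g i ∧ q h = f i := fun i => hex (g i) (f i) (hfg i).symm
  choose h hp hq using hh
  have hbij : ∀ i, Function.Bijective (Localization.awayMap q (h i)) := by
    intro i
    constructor
    · rw [Localization.awayMap_injective_iff]
      intro x hx
      have h1 : s (p x) = 0 := by rw [hst, hx, map_zero]
      obtain ⟨n, hn⟩ := Localization.awayMap_injective_iff.1 (hiso i).1 (p x) h1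
      refine ⟨n, hext _ _ ⟨?_, ?_⟩⟩
      · show p (h i ^ n * x) = p 0
        rw [map_mul, map_pow, hp, hn, map_zero]
      · show q (h i ^ n * x) = q 0
        rw [map_mul, hx, mul_zero, map_zero]
    · rw [Localization.awayMap_surjective_iff]
      intro r
      obtain ⟨b, m, hb⟩ := Localization.awayMap_surjective_iff.1 (hiso i).2 (t r)
      obtain ⟨x, hx1, hx2⟩ := hex b (f i ^ m * r) (show s b = t (f i ^ m * r) by rw [map_mul, map_pow, hfg]; exact hb)
      exact ⟨x, m, by rw [hq]; exact hx2⟩
  set W : (Spec (CommRingCat.of R')).Opens := ⨆ i, PrimeSpectrum.basicOpen (f i) with hW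
  refine IsZariskiLocalAtTarget.of_range_subset_iSup (P := @IsOpenImmersion)
    (fun i => (PrimeSpectrum.basicOpen (h i) : (Spec (CommRingCat.of B')).Opens)) ?_ fun i => ?_
  · rintro _ ⟨w, rfl⟩
    obtain ⟨i, hi⟩ := TopologicalSpace.Opens.mem_iSup.1 w.2
    refine TopologicalSpace.Opens.mem_iSup.2 ⟨i, ?_⟩
    show ¬ h i ∈ Ideal.comap q _
    rw [Ideal.mem_comap, hq]
    exact hi
  · let F := W.ι ≫ Spec.map (CommRingCat.ofHom q)
    let D : (Spec (CommRingCat.of B')).Opens := PrimeSpectrum.basicOpen (h i)
    show IsOpenImmersion (F ∣_ D)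
    let V := F ⁻¹ᵁ D
    haveI hbiso : IsIso (CommRingCat.ofHom (Localization.awayMap q (h i))) :=
      (ConcreteCategory.isIso_iff_bijective _).2 (hbij i)
    let a := Spec.map (CommRingCat.ofHom (algebraMap R' (Localization.Away (q (h i)))))
    let b := Spec.map (CommRingCat.ofHom (algebraMap B' (Localization.Away (h i))))
    haveI : IsOpenImmersion a := IsOpenImmersion.of_isLocalization (q (h i))
    haveI : IsOpenImmersion b := IsOpenImmersion.of_isLocalization (h i)
    have hcomm : a ≫ Spec.map (CommRingCat.ofHom q) =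
        Spec.map (CommRingCat.ofHom (Localization.awayMap q (h i))) ≫ b := by
      simp only [a, b, ← Spec.map_comp, ← CommRingCat.ofHom_comp]
      congr 2
      exact (IsLocalization.map_comp _).symm
    have hr : Set.range (V.ι ≫ W.ι) ⊆ Set.range a := by
      rintro _ ⟨w, rfl⟩
      have h2 : q (h i) ∉ (W.ι w.1).asIdeal := w.2
      have h3 : Set.range a = (↑(PrimeSpectrum.basicOpen (q (h i))) : Set (PrimeSpectrum R')) :=
        PrimeSpectrum.localization_away_comap_range (Localization.Away (q (h i))) (q (h i))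
      rw [h3]
      exact h2
    let l := IsOpenImmersion.lift a (V.ι ≫ W.ι) hr
    haveI : IsOpenImmersion (l ≫ a) := by rw [IsOpenImmersion.lift_fac]; infer_instance
    haveI : IsOpenImmersion l := IsOpenImmersion.of_comp l a
    haveI : IsOpenImmersion ((F ∣_ D) ≫ D.ι) := by
      rw [morphismRestrict_ι]
      show IsOpenImmersion (V.ι ≫ W.ι ≫ Spec.map (CommRingCat.ofHom q))
      rw [← Category.assoc, ← IsOpenImmersion.lift_fac a (V.ι ≫ W.ι) hr, Category.assoc, hcomm]
      infer_instance
    exact IsOpenImmersion.of_comp _ D.ι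

end Groth.Agent.S7431
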