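import Groth.Statements.S7435
import Groth.Agent.Lib.BddFib19.Basic

set_option autoImplicit false
universe u
open CategoryTheory AlgebraicGeometry
open BddFib

namespace Groth.Agent.S7435

/-- If `f` is finite locally free of degree `d`, then `d` bounds the degrees of the fibres of `f`. -/
theorem result {X Y : Scheme.{u}} (f : X ⟶ Y) (d : ℕ) (hf : Mor2.IsFinLocFreeOfDeg d f) :
    BddFib.FibreDegLE f d := by
  rw [BddFib19.fibreDegLE_iff]
  intro K _ g
  obtain ⟨⟨h1, h2, h3⟩, hd⟩ := hf
  haveI := h1; haveI := h2
  exact ⟨inferInstance, fun s => by rw [Scheme.Hom.finrank_pullback_snd, hd]⟩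

end Groth.Agent.S7435
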