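import Groth.Statements.S7439
import Groth.Agent.Lib.BddFib19.Basic

set_option autoImplicit false
universe u
open CategoryTheory AlgebraicGeometry
open BddFib

namespace Groth.Agent.S7439

/-- Every immersion has universally bounded fibres, with `1` as a bound for the degrees of its fibres. -/
theorem result {X Y : Scheme.{u}} (f : X ⟶ Y) [IsImmersion f] :
    BddFib.FibreDegLE f 1 := by
  rw [BddFib19.fibreDegLE_iff]
  intro K _ g
  haveI : Subsingleton ↥(Spec (CommRingCat.of K)) := inferInstanceAs (Subsingleton (PrimeSpectrum K))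
  haveI : IsImmersion (Limits.pullback.snd f g) := inferInstance
  haveI : IsClosedImmersion (Limits.pullback.snd f g) := .of_isPreimmersion _ (isClosed_discrete _)
  rcases isEmpty_or_nonempty ↥(Limits.pullback f g) with he | hne
  · exact AlgSpDecent.finLE_zero_of_isEmpty _
  haveI : Surjective (Limits.pullback.snd f g) := ⟨fun s => ⟨hne.some, Subsingleton.elim _ _⟩⟩
  haveI := isIso_of_isClosedImmersion_of_surjective (Limits.pullback.snd f g)
  have h1 : AlgSpDecent.FinLE 1 (Spec.map (CommRingCat.ofHom (algebraMap K K))) :=
    AlgSpDecent.finLE_spec_iff.2 ⟨inferInstance, le_of_eq (Module.finrank_self K)⟩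
  refine BddFib19.finLE_of_iso (asIso (Limits.pullback.snd f g)) ?_ h1
  rw [show CommRingCat.ofHom (algebraMap K K) = 𝟙 (CommRingCat.of K) from rfl, Spec.map_id, asIso_hom, Category.comp_id]

end Groth.Agent.S7439
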