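import Groth.Statements.S7440
import Groth.Agent.Lib.BddFib19.Basic

set_option autoImplicit false
universe u
open CategoryTheory AlgebraicGeometry
open BddFib

namespace Groth.Agent.S7440

/-- Let `f : X → Y` be étale and `n ≥ 0`. If for every field `k` and every `Spec k → Y` the base change
`X_k = Spec k ×_Y X` has finitely many, and at most `n`, points, then `n` bounds the degrees of the
fibres of `f`. (The converse implication holds for every morphism of schemes, étale or not, and is
not restated here.) -/
theorem result {X Y : Scheme.{u}} (f : X ⟶ Y) [Etale f] (n : ℕ)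
    (h : ∀ (k : Type u) [Field k] (g : Spec (CommRingCat.of k) ⟶ Y),
      Finite ↥(Limits.pullback f g) ∧ Nat.card ↥(Limits.pullback f g) ≤ n) :
    BddFib.FibreDegLE f n := by
  rw [BddFib19.fibreDegLE_iff]
  intro K _ g
  let L := AlgebraicClosure K
  refine AlgSpDecent.finLE_of_fieldExt
    (IsPullback.of_hasPullback (Limits.pullback.snd f g) (Spec.map (CommRingCat.ofHom (algebraMap K L)))) ?_
  obtain ⟨hfin, hcard⟩ := h L (Spec.map (CommRingCat.ofHom (algebraMap K L)) ≫ g)
  let e := Limits.pullbackLeftPullbackSndIso f g (Spec.map (CommRingCat.ofHom (algebraMap K L)))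
  refine BddFib19.finLE_of_iso e (c := Limits.pullback.snd f _) (by simp [e]) ?_
  haveI := hfin
  refine AlgSpDecent.finLE_of_forall_affine fun W hW => ?_
  haveI : IsAffine W.toScheme := hW
  haveI : Etale (W.ι ≫ Limits.pullback.snd f (Spec.map (CommRingCat.ofHom (algebraMap K L)) ≫ g)) := inferInstance
  obtain ⟨B, _, _, e', he'⟩ := AlgSpDecent.exists_spec_form
    (W.ι ≫ Limits.pullback.snd f (Spec.map (CommRingCat.ofHom (algebraMap K L)) ≫ g))
  rw [← he', AlgSpDecent.finLE_iso_comp_iff, AlgSpDecent.finLE_spec_iff]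
  haveI : Etale (Spec.map (CommRingCat.ofHom (algebraMap L B))) := by
    rw [(Iso.eq_inv_comp e').2 he']; infer_instance
  haveI : Algebra.Etale L B := RingHom.etale_algebraMap.1 ((HasRingHomProperty.Spec_iff (P := @Etale)).1 ‹_›)
  obtain ⟨I, hI, Ai, hF, hA, φ, hφ⟩ := Algebra.Etale.iff_exists_algEquiv_prod L B |>.1 inferInstance
  haveI := hI
  haveI : ∀ i, Module.Finite L (Ai i) := fun i => (hφ i).1
  refine ⟨Module.Finite.equiv φ.toLinearEquiv.symm, ?_⟩
  haveI : Fintype I := Fintype.ofFinite I
  rw [φ.toLinearEquiv.finrank_eq, Module.finrank_pi_fintype L]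
  have h1 : ∀ i, Module.finrank L (Ai i) = 1 := fun i => by
    rw [← Module.finrank_self L]
    exact (LinearEquiv.ofBijective (Algebra.linearMap L (Ai i))
      (IsAlgClosed.algebraMap_bijective_of_isIntegral)).finrank_eq.symm
  simp only [h1, Finset.sum_const, Finset.card_univ, smul_eq_mul, mul_one]
  refine le_trans ?_ hcard
  rw [← Nat.card_eq_fintype_card]
  let pr : I → PrimeSpectrum B := fun i =>
    ⟨RingHom.ker ((Pi.evalRingHom Ai i).comp φ.toRingEquiv.toRingHom), RingHom.ker_isPrime _⟩
  have hpr : Function.Injective pr := by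
    intro i j hij
    by_contra hne
    classical
    have hmem : φ.symm (Pi.single i 1) ∈ (pr j).asIdeal := by
      simp [pr, RingHom.mem_ker, Pi.single_eq_of_ne (Ne.symm hne)]
    rw [← hij] at hmem
    simp [pr, RingHom.mem_ker] at hmem
  exact Nat.card_le_card_of_injective (fun i => W.ι (e'.inv (pr i)))
    ((W.ι.isOpenEmbedding.injective.comp e'.inv.homeomorph.injective).comp hpr)

end Groth.Agent.S7440
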