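import Groth.Statements.S7446
import Groth.Agent.Lib.BddFib19.Basic

set_option autoImplicit false
universe u
open CategoryTheory AlgebraicGeometry
open BddFib

namespace Groth.Agent.S7446

set_option backward.isDefEq.respectTransparency.types false in
theorem residueDegree_eq {k : Type u} [Field k] {T : Scheme.{u}} (c : T ⟶ Spec (CommRingCat.of k)) (x : T)
    (φ : CommRingCat.of k ⟶ T.residueField x) (h : T.fromSpecResidueField x ≫ c = Spec.map φ) :
    c.residueDegree x = @Module.finrank k (T.residueField x) _ _ (φ.hom.toAlgebra.toModule) := by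
  have hm : (c x).asIdeal.IsMaximal := by
    rw [(Ideal.eq_bot_of_prime (c x).asIdeal : (c x).asIdeal = ⊥)]
    exact Ideal.bot_isMaximal
  let j : CommRingCat.of k ⟶ (Spec (CommRingCat.of k)).residueField (c x) :=
    CommRingCat.ofHom (algebraMap k (c x).asIdeal.ResidueField) ≫
      (Scheme.Spec.residueFieldIso (CommRingCat.of k) (c x)).inv
  have hj : Function.Bijective j := by
    refine ⟨(CommRingCat.Hom.hom j).injective, ?_⟩
    have hs : Function.Surjective (algebraMap k (c x).asIdeal.ResidueField) := by
      haveI := hm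
      rw [IsScalarTower.algebraMap_eq k (k ⧸ (c x).asIdeal)]
      exact (Ideal.bijective_algebraMap_quotient_residueField _).2.comp Ideal.Quotient.mk_surjective
    exact (ConcreteCategory.bijective_of_isIso
      (Scheme.Spec.residueFieldIso (CommRingCat.of k) (c x)).inv).2.comp hs
  have hφ : φ = j ≫ c.residueFieldMap x := by
    apply Spec.map_injective
    rw [← h, Spec.map_comp]
    have e : Spec.map j = (Spec (CommRingCat.of k)).fromSpecResidueField (c x) := by
      rw [← Scheme.Spec.map_residueFieldIso_inv_eq_fromSpecResidueField, ← Spec.map_comp]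
    rw [e, Scheme.Hom.SpecMap_residueFieldMap_fromSpecResidueField]
  rw [Scheme.Hom.residueDegree]
  symm
  refine @Algebra.finrank_eq_of_equiv_equiv k (T.residueField x) _ _ φ.hom.toAlgebra _ _ _ _
    (c.residueFieldMap x).hom.toAlgebra (RingEquiv.ofBijective j.hom hj) (RingEquiv.refl _) ?_
  ext a
  exact congrArg (fun f => f a) hφ.symm

/-- When every fibre of `f : X → Y` has degree at most `n`, then for every field `k` and every `Spec k →
Y`, writing `X_k = {x_1, …, x_t}`, one has `Σ_i [κ(x_i) : k] ≤ n`. (Residue degrees are taken along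
`X_k → Spec k`; `X_k` is finite, so the sum is a finite sum.) -/
theorem result {X Y : Scheme.{u}} (f : X ⟶ Y) (n : ℕ) (hf : BddFib.FibreDegLE f n)
    (k : Type u) [Field k] (g : Spec (CommRingCat.of k) ⟶ Y) :
    Finite ↥(Limits.pullback f g) ∧
      ∑ᶠ x : ↥(Limits.pullback f g), (Limits.pullback.snd f g).residueDegree x ≤ n := by
  have h := (BddFib19.fibreDegLE_iff f n).1 hf k g
  refine ⟨h.discrete.1, ?_⟩
  haveI := h.isAffine
  set T := Limits.pullback f g
  set c := Limits.pullback.snd f g
  obtain ⟨B, _, _, e, he, hB, hle⟩ := AlgSpDecent.exists_spec_form' h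
  haveI : IsArtinianRing B := IsArtinianRing.of_finite k B
  haveI : Fintype (MaximalSpectrum B) := Fintype.ofFinite _
  let ev : MaximalSpectrum B ≃ T :=
    (IsArtinianRing.primeSpectrumEquivMaximalSpectrum (R := B)).symm.trans e.inv.homeomorph.toEquiv
  haveI := h.discrete.1
  haveI : Fintype T := Fintype.ofFinite _
  rw [finsum_eq_sum_of_fintype, ← ev.sum_comp]
  haveI : IsOpenImmersion e.inv := inferInstance
  have key : ∀ m : MaximalSpectrum B, c.residueDegree (ev m) = Module.finrank k (B ⧸ m.asIdeal) := by
    intro m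
    let p : ↥(Spec (CommRingCat.of B)) := (⟨m.asIdeal, m.isMaximal.isPrime⟩ : PrimeSpectrum B)
    have hp : ev m = e.inv p := rfl
    rw [hp]
    let ψ : CommRingCat.of k ⟶ T.residueField (e.inv p) :=
      CommRingCat.ofHom (algebraMap k p.asIdeal.ResidueField) ≫
        (Scheme.Spec.residueFieldIso (CommRingCat.of B) p).inv ≫ inv (e.inv.residueFieldMap p)
    rw [residueDegree_eq c (e.inv p) ψ]
    · haveI := m.isMaximal
      symm
      refine @Algebra.finrank_eq_of_equiv_equiv k (B ⧸ m.asIdeal) _ _ _ _ _ _ _ ψ.hom.toAlgebra (RingEquiv.refl k)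
        ((RingEquiv.ofBijective (algebraMap (B ⧸ p.asIdeal) p.asIdeal.ResidueField)
          (Ideal.bijective_algebraMap_quotient_residueField _)).trans
        (((Scheme.Spec.residueFieldIso (CommRingCat.of B) p).symm ≪≫
          (asIso (e.inv.residueFieldMap p)).symm).commRingCatIsoToRingEquiv)) ?_
      ext a
      show ψ a = _
      rw [show ψ a = inv (e.inv.residueFieldMap p) ((Scheme.Spec.residueFieldIso (CommRingCat.of B) p).inv
          (algebraMap k p.asIdeal.ResidueField a)) from rfl,
        IsScalarTower.algebraMap_apply k (B ⧸ p.asIdeal) p.asIdeal.ResidueField]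
      rfl
    · have hc : c = e.hom ≫ Spec.map (CommRingCat.ofHom (algebraMap k B)) := he.symm
      have hr : T.fromSpecResidueField (e.inv p) =
          Spec.map (inv (e.inv.residueFieldMap p)) ≫ (Spec (CommRingCat.of B)).fromSpecResidueField p ≫ e.inv := by
        rw [← Scheme.Hom.SpecMap_residueFieldMap_fromSpecResidueField, ← Spec.map_comp_assoc, IsIso.hom_inv_id,
          Spec.map_id, Category.id_comp]
      rw [hc, hr, ← Scheme.Spec.map_residueFieldIso_inv_eq_fromSpecResidueField]
      simp only [ψ, Category.assoc, Iso.inv_hom_id_assoc, Spec.map_comp,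
        IsScalarTower.algebraMap_eq k B p.asIdeal.ResidueField, CommRingCat.ofHom_comp]
  simp only [key]
  refine le_trans ?_ hle
  rw [← Module.finrank_pi_fintype k]
  exact LinearMap.finrank_le_finrank_of_surjective
    (f := (IsScalarTower.toAlgHom k B _).toLinearMap (R := k))
    (fun x => by
      choose y hy using fun m => Ideal.Quotient.mk_surjective (x m)
      obtain ⟨r, hr⟩ := Ideal.exists_forall_sub_mem_ideal (I := fun m : MaximalSpectrum B => m.asIdeal)
        (fun i j hij => MaximalSpectrum.isCoprime_of_ne hij) y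
      exact ⟨r, funext fun m => ((Ideal.Quotient.eq).2 (hr m)).trans (hy m)⟩)

end Groth.Agent.S7446
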