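import Groth.Statements.S7448
import Groth.Agent.Lib.CohFound.RelVan
import Groth.Agent.Lib.ModM1.Push

set_option autoImplicit false
universe u
open Lim

namespace Groth.Agent.S7448

set_option backward.isDefEq.respectTransparency false
set_option backward.isDefEq.respectTransparency.types false
set_option linter.style.haveILetI false

open AlgebraicGeometry CategoryTheory CategoryTheory.Limits Opposite TopologicalSpace Groth.Agent.CohFound

theorem subsingleton_hc_preimage {X Y : Scheme.{u}} (f : X ⟶ Y) [QuasiCompact f] [QuasiSeparated f]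
    [QuasiSeparatedSpace X] {V : Y.Opens} (hV : IsAffineOpen V) (i : ℕ)
    (hvan : ∀ M : X.Modules, Coh.IsQCoh M → IsZero ((Coh.RpushAb f i).obj (Coh.toAb M)))
    (N : ((f ⁻¹ᵁ V : X.Opens) : Scheme.{u}).Modules) (hN : Coh.IsQCoh N) :
    Subsingleton (Hc ((abF (f ⁻¹ᵁ V : X.Opens).toScheme).obj N) i ⊤) := by
  let j := (f ⁻¹ᵁ V).ι
  haveI : CompactSpace (f ⁻¹ᵁ V : X.Opens).toScheme :=
    isCompact_iff_compactSpace.mp (QuasiCompact.isCompact_preimage _ V.isOpen hV.isCompact)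
  haveI : QuasiCompact j := quasiCompact_of_compactSpace j
  let M := (Scheme.Modules.pushforward j).obj N
  have hM : Coh.IsQCoh M := M1.isQCoh_push j hN
  obtain ⟨e⟩ := nonempty_sections_rpushAb f hM i hV
  have hz : IsZero (((CohTop.Rpush (f.base : sp X ⟶ sp Y) i).obj ((abF X).obj M))) := hvan M hM
  have hz' : IsZero (((CohTop.Rpush (f.base : sp X ⟶ sp Y) i).obj ((abF X).obj M)).obj.obj (op V)) :=
    ((evaluation _ _).obj (op V)).map_isZero ((sheafToPresheaf _ _).map_isZero hz)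
  haveI := AddCommGrpCat.subsingleton_of_isZero hz'
  have h1 : Subsingleton (Hc ((abF X).obj M) i (f ⁻¹ᵁ V)) := e.symm.injective.subsingleton
  obtain ⟨e'⟩ := nonempty_hc_abF_restrict j M i (⊤ : (f ⁻¹ᵁ V : X.Opens).toScheme.Opens)
  have h2 : Subsingleton (Hc ((abF X).obj M) i (j ''ᵁ ⊤)) := by
    rw [Scheme.Opens.ι_image_top]; exact h1
  exact subsingleton_hc_of_iso (asIso ((Scheme.Modules.restrictAdjunction j).counit.app N)) i ⊤
    e'.injective.subsingleton


open AlgebraicGeometry CategoryTheory in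
/-- Let `f : X → Y` be a morphism with `X`, `Y` quasi-compact and quasi-separated, and `d ≥ 0` such that
`R^i f_* F = 0` for all `i > d` and all quasi-coherent `F`. Then for every cartesian square with
base change `f' : X' → Y'` of `f`, `R^i f'_* F' = 0` for all `i > d` and all quasi-coherent
`O_{X'}`-modules `F'`. -/
theorem result {X Y X' Y' : Scheme.{u}} (f : X ⟶ Y) [CompactSpace X]
    [QuasiSeparatedSpace X] [CompactSpace Y] [QuasiSeparatedSpace Y] (d : ℕ)
    (hvan : ∀ (M : X.Modules) (i : ℕ), Coh.IsQCoh M → d < i → Limits.IsZero ((Coh.RpushAb f i).obj (Coh.toAb M)))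
    (g : Y' ⟶ Y) (f' : X' ⟶ Y') (g' : X' ⟶ X) (sq : IsPullback g' f' f g) (M' : X'.Modules) [Coh.IsQCoh M']
    (i : ℕ) (hi : d < i) : Limits.IsZero ((Coh.RpushAb f' i).obj (Coh.toAb M')) := by
  haveI : QuasiCompact f := quasiCompact_of_compactSpace f
  haveI : QuasiSeparated f := inferInstance
  haveI : QuasiCompact f' := MorphismProperty.of_isPullback sq ‹_›
  haveI : QuasiSeparated f' := MorphismProperty.of_isPullback sq ‹_›
  let ι : Type u := {W : Y'.affineOpens // ∃ V : Y.affineOpens, W.1 ≤ g ⁻¹ᵁ V.1}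
  refine isZero_rpushAb_of_cover f' M' ‹_› (fun W : ι => W.1.1) (fun W => W.1.2) (fun y => ?_) i ?_
  · obtain ⟨V, hV, hyV, -⟩ := exists_isAffineOpen_mem_and_subset (X := Y) (x := g y) (U := ⊤) trivial
    obtain ⟨W, hW, hyW, hWV⟩ := exists_isAffineOpen_mem_and_subset (X := Y') (x := y) (U := g ⁻¹ᵁ V) hyV
    exact ⟨⟨⟨W, hW⟩, ⟨V, hV⟩, hWV⟩, hyW⟩
  rintro ⟨⟨W, hW⟩, ⟨V, hV⟩, hWV⟩
  have hUY : f' ⁻¹ᵁ W = g' ⁻¹ᵁ (f ⁻¹ᵁ V) ⊓ f' ⁻¹ᵁ W := by
    refine (inf_eq_right.2 ?_).symm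
    intro x hx
    change f (g' x) ∈ V
    rw [← Scheme.Hom.comp_apply, sq.w, Scheme.Hom.comp_apply]
    exact hWV hx
  have H := Scheme.Hom.isPullback_resLE sq (US := V) (UT := W) (UX := f ⁻¹ᵁ V) hWV le_rfl hUY
  haveI : IsAffine W.toScheme := hW
  haveI : IsAffine V.toScheme := hV
  let a : (f' ⁻¹ᵁ W : X'.Opens).toScheme ⟶ (f ⁻¹ᵁ V : X.Opens).toScheme :=
    g'.resLE (f ⁻¹ᵁ V) (f' ⁻¹ᵁ W) (hUY.le.trans inf_le_left)
  haveI : IsAffineHom a := MorphismProperty.of_isPullback H.flip inferInstance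
  haveI : (M'.restrict (f' ⁻¹ᵁ W).ι).IsQuasicoherent := M1.isQCoh_restrict ‹_› _
  obtain ⟨e⟩ := nonempty_hc_push_isAffineHom a (M'.restrict (f' ⁻¹ᵁ W).ι) i ⊤
  haveI := subsingleton_hc_preimage f hV i (fun M hM => hvan M i hM hi)
    ((Scheme.Modules.pushforward a).obj (M'.restrict (f' ⁻¹ᵁ W).ι)) (M1.isQCoh_push a inferInstance)
  exact e.symm.injective.subsingleton

end Groth.Agent.S7448
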