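import Groth.Statements.S7449
import Groth.Agent.Lib.NagataCurve13.Basic
import Groth.Agent.Lib.DVRVal.AffineSpace
import Groth.Agent.Lib.DVRVal.Curve

set_option autoImplicit false
universe u
open CategoryTheory CategoryTheory.Limits AlgebraicGeometry
open Lim

namespace Groth.Agent.S7449

set_option linter.style.haveILetI false
set_option backward.isDefEq.respectTransparency false
set_option backward.isDefEq.respectTransparency.types false


/-- Let `S` be a Nagata scheme, `X`, `Y` locally of finite type over `S` and `f : X → Y` a quasi-compact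
morphism over `S`. Then `f` is universally closed if and only if for every commutative diagram `U →
X`, `C → Y` over `S` where `C` is a normal integral scheme of finite type over `S`, `c ∈ C` is a
closed point whose local ring `A = O_{C,c}` has dimension `1` and `U = C ∖ {c}`, there is a morphism
`Spec A → X` making the square `Spec K → X`, `Spec A → Y` (with `K = Frac A`, `Spec K → X` through
`U`, `Spec A → Y` through `C`) commute. -/
theorem result (S : Scheme.{u}) (hS : ∀ W : S.affineOpens, CAlg.IsNagata Γ(S, W))
    {X Y : Scheme.{u}} (p : X ⟶ S) (q : Y ⟶ S) [LocallyOfFiniteType p] [LocallyOfFiniteType q] (f : X ⟶ Y)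
    (hf : f ≫ q = p) [QuasiCompact f] :
    UniversallyClosed f ↔
      ∀ (C : Scheme.{u}) (r : C ⟶ S) [IsIntegral C] [LocallyOfFiniteType r] [QuasiCompact r],
        (∀ x : C, IsIntegrallyClosed (C.presheaf.stalk x)) →
        ∀ (c : C), IsClosed ({c} : Set C) → ringKrullDim (C.presheaf.stalk c) = 1 →
        ∀ (U : C.Opens), (U : Set C) = {c}ᶜ →
        ∀ (u : (U : Scheme.{u}) ⟶ X) (g : C ⟶ Y), g ≫ q = r → u ≫ f = U.ι ≫ g →
        ∀ (k : Spec (CommRingCat.of (FractionRing (C.presheaf.stalk c))) ⟶ (U : Scheme.{u})),
          k ≫ U.ι = Spec.map (CommRingCat.ofHom (algebraMap (C.presheaf.stalk c)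
            (FractionRing (C.presheaf.stalk c)))) ≫ C.fromSpecStalk c →
        ∃ l : Spec (C.presheaf.stalk c) ⟶ X, l ≫ f = C.fromSpecStalk c ≫ g ∧
          Spec.map (CommRingCat.ofHom (algebraMap (C.presheaf.stalk c) (FractionRing (C.presheaf.stalk c)))) ≫ l =
            k ≫ u := by
  haveI := NagataCurve13.isLocallyNoetherian_of_nagata hS
  constructor
  · intro h C r _ _ _ hnorm c _ hdim U _ u g _ hu k hk
    haveI : IsLocallyNoetherian C := LocallyOfFiniteType.isLocallyNoetherian r
    haveI := hnorm c
    haveI : ValuationRing (C.presheaf.stalk c) := DVRVal.valuationRing_of_normal _ hdim.le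
    have hex : ValuativeCriterion.Existence f := by
      have : (ValuativeCriterion.Existence ⊓ @QuasiCompact : MorphismProperty Scheme.{u}) f :=
        UniversallyClosed.eq_valuativeCriterion ▸ h
      exact this.1
    obtain ⟨⟨⟨l, h1, h2⟩⟩⟩ := hex ⟨C.presheaf.stalk c, FractionRing (C.presheaf.stalk c), k ≫ u,
      C.fromSpecStalk c ≫ g, ⟨by rw [Category.assoc, hu, reassoc_of% hk]⟩⟩
    exact ⟨l, h2, h1⟩
  · intro H
    refine DVRVal.universallyClosed_of_affineSpace f fun n => ?_
    let a := 𝔸(ULift.{u} (Fin n); Y) ↘ Y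
    haveI : LocallyOfFiniteType f := by
      haveI : LocallyOfFiniteType (f ≫ q) := hf.symm ▸ inferInstance
      exact locallyOfFiniteType_of_comp f q
    haveI : LocallyOfFiniteType (pullback.snd f a) := MorphismProperty.pullback_snd _ _ inferInstance
    refine NagataCurve13.isClosedMap_of_curveLift hS (a ≫ q) (pullback.snd f a) ?_
    intro C r _ _ _ hnorm c hc hdim U hU v g hg hv k hk
    obtain ⟨l, h1, h2⟩ := H C r hnorm c hc hdim U hU (v ≫ pullback.fst f a) (g ≫ a)
      (by rw [Category.assoc]; exact hg) (by rw [Category.assoc, pullback.condition, reassoc_of% hv]) k hk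
    refine ⟨pullback.lift l (C.fromSpecStalk c ≫ g) (by rw [h1, Category.assoc]), pullback.lift_snd _ _ _,
      pullback.hom_ext ?_ ?_⟩
    · rw [Category.assoc, pullback.lift_fst, h2, Category.assoc]
    · rw [Category.assoc, pullback.lift_snd, Category.assoc, hv, reassoc_of% hk]

end Groth.Agent.S7449
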