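import Groth.Statements.S7450
import Groth.Agent.Lib.NagataCurve13.Basic
import Groth.Agent.Lib.DVRVal.Curve

set_option autoImplicit false
universe u
open CategoryTheory CategoryTheory.Limits AlgebraicGeometry
open Lim

namespace Groth.Agent.S7450

set_option linter.style.haveILetI false
set_option backward.isDefEq.respectTransparency false
set_option backward.isDefEq.respectTransparency.types false


/-- Assume `S` is a Nagata scheme and `f : X → Y` is a morphism over `S` between schemes `X`, `Y` that
are locally of finite type over `S`. Then `f` is separated exactly when the following holds. Take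
any normal integral scheme `C` of finite type over `S` and a closed point `c ∈ C` such that the
local ring `A = O_{C,c}` is one-dimensional, put `U = C ∖ {c}`, and consider any commutative diagram
of `S`-schemes formed by `U → X` and `C → Y`. Then at most one morphism `Spec A → X` makes the
square with `Spec K → X` and `Spec A → Y` commute. -/
theorem result (S : Scheme.{u}) (hS : ∀ W : S.affineOpens, CAlg.IsNagata Γ(S, W))
    {X Y : Scheme.{u}} (p : X ⟶ S) (q : Y ⟶ S) [LocallyOfFiniteType p] [LocallyOfFiniteType q] (f : X ⟶ Y)
    (hf : f ≫ q = p) :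
    IsSeparated f ↔
      ∀ (C : Scheme.{u}) (r : C ⟶ S) [IsIntegral C] [LocallyOfFiniteType r] [QuasiCompact r],
        (∀ x : C, IsIntegrallyClosed (C.presheaf.stalk x)) →
        ∀ (c : C), IsClosed ({c} : Set C) → ringKrullDim (C.presheaf.stalk c) = 1 →
        ∀ (U : C.Opens), (U : Set C) = {c}ᶜ →
        ∀ (u : (U : Scheme.{u}) ⟶ X) (g : C ⟶ Y), g ≫ q = r → u ≫ f = U.ι ≫ g →
        ∀ (k : Spec (CommRingCat.of (FractionRing (C.presheaf.stalk c))) ⟶ (U : Scheme.{u})),
          k ≫ U.ι = Spec.map (CommRingCat.ofHom (algebraMap (C.presheaf.stalk c)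
            (FractionRing (C.presheaf.stalk c)))) ≫ C.fromSpecStalk c →
        ∀ l l' : Spec (C.presheaf.stalk c) ⟶ X,
          l ≫ f = C.fromSpecStalk c ≫ g →
          Spec.map (CommRingCat.ofHom (algebraMap (C.presheaf.stalk c) (FractionRing (C.presheaf.stalk c)))) ≫ l =
            k ≫ u →
          l' ≫ f = C.fromSpecStalk c ≫ g →
          Spec.map (CommRingCat.ofHom (algebraMap (C.presheaf.stalk c) (FractionRing (C.presheaf.stalk c)))) ≫ l' =
            k ≫ u → l = l' := by
  haveI := NagataCurve13.isLocallyNoetherian_of_nagata hS
  constructor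
  · intro h C r _ _ _ _ c _ _ U _ u g _ _ k _ l l' h1 h2 h1' h2'
    haveI : IsDominant (Spec.map (CommRingCat.ofHom
        (algebraMap (C.presheaf.stalk c) (FractionRing (C.presheaf.stalk c))))) := by
      refine ⟨?_⟩
      exact (PrimeSpectrum.denseRange_comap_iff_ker_le_nilRadical _).2
        (by
          change RingHom.ker (algebraMap (C.presheaf.stalk c) (FractionRing (C.presheaf.stalk c))) ≤ _
          rw [(RingHom.injective_iff_ker_eq_bot _).1 (IsFractionRing.injective _ _)]; exact bot_le)
    haveI : IsReduced (Spec (C.presheaf.stalk c)) := inferInstance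
    exact ext_of_isDominant_of_isSeparated f (h1.trans h1'.symm) _ (h2.trans h2'.symm)
  · intro H
    haveI : IsLocallyNoetherian Y := LocallyOfFiniteType.isLocallyNoetherian q
    haveI : IsLocallyNoetherian X := LocallyOfFiniteType.isLocallyNoetherian p
    haveI : LocallyOfFiniteType f := by
      haveI : LocallyOfFiniteType (f ≫ q) := hf.symm ▸ inferInstance
      exact locallyOfFiniteType_of_comp f q
    haveI : LocallyOfFiniteType (pullback.diagonal f) := by
      haveI : LocallyOfFiniteType (pullback.diagonal f ≫ pullback.fst f f) := by
        rw [pullback.diagonal_fst]; infer_instance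
      exact locallyOfFiniteType_of_comp _ (pullback.fst f f)
    haveI : QuasiSeparated f := inferInstance
    have key : NagataCurve13.CurveLift (pullback.fst f f ≫ p) (pullback.diagonal f) := by
      intro C r _ _ _ hnorm c hc hdim U hU u g hg hu k hk
      have hu1 := congrArg (· ≫ pullback.fst f f) hu
      have hu2 := congrArg (· ≫ pullback.snd f f) hu
      simp only [Category.assoc, pullback.diagonal_fst, pullback.diagonal_snd, Category.comp_id] at hu1 hu2
      have e := H C r hnorm c hc hdim U hU u (g ≫ pullback.fst f f ≫ f)
        (by rw [Category.assoc, Category.assoc, hf]; exact hg) (by rw [hu1, Category.assoc, Category.assoc])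
        k hk (C.fromSpecStalk c ≫ g ≫ pullback.fst f f) (C.fromSpecStalk c ≫ g ≫ pullback.snd f f)
        (by simp only [Category.assoc]) (by rw [← reassoc_of% hk, ← hu1])
        (by simp only [Category.assoc, pullback.condition]) (by rw [← reassoc_of% hk, ← hu2])
      refine ⟨C.fromSpecStalk c ≫ g ≫ pullback.fst f f, pullback.hom_ext ?_ ?_, ?_⟩
      · simp only [Category.assoc, pullback.diagonal_fst, Category.comp_id]
      · simp only [Category.assoc, pullback.diagonal_snd, Category.comp_id]
        exact e
      · rw [← reassoc_of% hk, ← hu1]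
    exact ⟨.of_isPreimmersion _
      (NagataCurve13.isClosedMap_of_curveLift hS _ (pullback.diagonal f) key).isClosed_range⟩

end Groth.Agent.S7450
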