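import Groth.Statements.S7451
import Mathlib.FieldTheory.Minpoly.Field
import Mathlib.RingTheory.MvPolynomial.Basic
import Mathlib.Analysis.Complex.Polynomial.Basic
import Mathlib.RingTheory.Jacobson.Ring
import Mathlib.FieldTheory.Finite.Basic
import Mathlib.RingTheory.Spectrum.Prime.Noetherian
import Mathlib.Algebra.MvPolynomial.Equiv

set_option backward.isDefEq.respectTransparency.types false

set_option autoImplicit false
universe u
open CategoryTheory AlgebraicGeometry
open Desc

namespace Groth.Agent.S7451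

open MvPolynomial

variable {k : Type u} [Field k] {n : ℕ} (Z : Set (PrimeSpectrum (MvPolynomial (Fin n) k)))

/-- The point with coordinates `a` lies in `Z`. -/
def InZ {K : Type u} [Field K] [Algebra k K] (a : Fin n → K) : Prop :=
  (⟨RingHom.ker (aeval (R := k) a), RingHom.ker_isPrime _⟩ : PrimeSpectrum (MvPolynomial (Fin n) k)) ∈ Z

variable {Z}

theorem inZ_iff (hZ : IsClosed Z) {K : Type u} [Field K] [Algebra k K] (a : Fin n → K) :
    InZ Z a ↔ ∀ f ∈ PrimeSpectrum.vanishingIdeal Z, aeval a f = 0 := by
  conv_lhs => rw [InZ, ← hZ.closure_eq, ← PrimeSpectrum.zeroLocus_vanishingIdeal_eq_closure, PrimeSpectrum.mem_zeroLocus]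
  rfl

section
variable (hst : ∀ (K : Type u) [Field K] [Algebra k K] (a : Fin n → K), InZ Z a →
  ∀ i j : Fin n, i ≠ j → ∀ d : ℕ, InZ Z (Function.update a i (a i + a j ^ d)))

include hst

theorem line_aux (hZ : IsClosed Z) {K : Type u} [Field K] [Algebra k K] {a : Fin n → K} (ha : InZ Z a)
    {i l : Fin n} (hil : l ≠ i) (hi : Function.Injective fun d : ℕ => a i ^ d) (c : K) :
    InZ Z (Function.update a l c) := by
  rw [inZ_iff hZ]
  intro f hf
  let G : Polynomial K := aeval (fun j => if j = l then Polynomial.C (a l) + Polynomial.X else Polynomial.C (a j)) f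
  have hG : ∀ t : K, Polynomial.aeval t G = aeval (Function.update a l (a l + t)) f := fun t => by
    rw [← AlgHom.restrictScalars_apply k (Polynomial.aeval t), comp_aeval_apply]
    congr 2
    funext j
    rcases eq_or_ne j l with rfl | hj
    · simp
    · simp [hj]
  have hG0 : G = 0 := by
    refine Polynomial.eq_zero_of_infinite_isRoot G
      ((Set.infinite_range_of_injective hi).mono ?_)
    rintro _ ⟨d, rfl⟩
    show Polynomial.IsRoot G (a i ^ d)
    rw [Polynomial.IsRoot.def, ← Polynomial.coe_aeval_eq_eval, hG]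
    exact (inZ_iff hZ _).1 (hst K a ha l i hil d) f hf
  have h := hG (c - a l)
  rw [hG0, map_zero, add_sub_cancel] at h
  exact h.symm

theorem eq_empty_of_nontorsion (hZ : IsClosed Z) (hZ' : Z ≠ Set.univ) {K : Type u} [Field K] [Algebra k K]
    (hn : 2 ≤ n) {a : Fin n → K} (ha : InZ Z a) {j : Fin n} (hj : Function.Injective fun d : ℕ => a j ^ d) :
    False := by
  classical
  obtain ⟨i, hij⟩ : ∃ i : Fin n, i ≠ j := by
    haveI : Nontrivial (Fin n) := Fin.nontrivial_iff_two_le.2 hn
    exact exists_ne j
  let L := FractionRing (MvPolynomial (Fin n) K)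
  let X' : Fin n → L := fun l => algebraMap (MvPolynomial (Fin n) K) L (X l)
  let φ : K →ₐ[k] L := ((IsScalarTower.toAlgHom K (MvPolynomial (Fin n) K) L).comp
    (IsScalarTower.toAlgHom K K (MvPolynomial (Fin n) K))).restrictScalars k
  have hφ : Function.Injective φ := φ.toRingHom.injective
  have hX : ∀ l, Function.Injective fun d : ℕ => X' l ^ d := fun l d e hde => by
    have h1 : (X l : MvPolynomial (Fin n) K) ^ d = X l ^ e :=
      IsFractionRing.injective (MvPolynomial (Fin n) K) L (by rw [map_pow, map_pow]; exact hde)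
    have h2 := congrArg (aeval (fun _ => (Polynomial.X : Polynomial K))) h1
    simp only [map_pow, aeval_X] at h2
    simpa using congrArg Polynomial.natDegree h2
  let b : Finset (Fin n) → Fin n → L := fun S l => if l ∈ S then X' l else φ (a l)
  have key : ∀ S : Finset (Fin n), InZ Z (b (insert i S)) := by
    intro S
    induction S using Finset.induction_on with
    | empty =>
      have h0 : InZ Z (fun l => φ (a l)) := by
        rw [inZ_iff hZ]
        intro f hf
        rw [← comp_aeval_apply, (inZ_iff hZ a).1 ha f hf, map_zero]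
      have h1 := line_aux hst hZ h0 (i := j) (l := i) hij (fun d e hde => hj (hφ (by simpa using hde))) (X' i)
      convert h1 using 1
      funext l
      rcases eq_or_ne l i with rfl | hl
      · simp [b]
      · simp [b, hl]
    | insert l S hl ih =>
      rcases eq_or_ne l i with rfl | hli
      · simpa using ih
      · have h1 := line_aux hst hZ ih (i := i) (l := l) hli (fun d e hde => hX i (by simpa [b] using hde)) (X' l)
        convert h1 using 1
        funext m
        rcases eq_or_ne m l with rfl | hm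
        · simp [b]
        · simp [b, hm]
  refine hZ' (Set.eq_univ_of_forall fun x => ?_)
  rw [← hZ.closure_eq, ← PrimeSpectrum.zeroLocus_vanishingIdeal_eq_closure, PrimeSpectrum.mem_zeroLocus]
  intro f hf
  have h1 := (inZ_iff hZ _).1 (key Finset.univ) f hf
  have h2 : b (insert i Finset.univ) = X' := funext fun l => by simp [b]
  rw [h2, show X' = fun l => IsScalarTower.toAlgHom k (MvPolynomial (Fin n) K) L (X l) from rfl, ← comp_aeval_apply] at h1
  have h3 : aeval (R := k) (X : Fin n → MvPolynomial (Fin n) K) f = 0 :=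
    IsFractionRing.injective (MvPolynomial (Fin n) K) L (h1.trans (map_zero _).symm)
  have h4 : MvPolynomial.map (algebraMap k K) f = 0 := by
    have h5 : ∀ g : MvPolynomial (Fin n) k, MvPolynomial.map (algebraMap k K) g =
        aeval (R := k) (X : Fin n → MvPolynomial (Fin n) K) g := fun g => by
      induction g using MvPolynomial.induction_on with
      | C r => simp [MvPolynomial.algebraMap_apply]
      | add p q hp hq => simp [hp, hq]
      | mul_X p i hp => simp [hp]
    rw [h5, h3]
  rw [map_eq_zero_iff _ (MvPolynomial.map_injective _ (algebraMap k K).injective)] at h4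
  rw [h4]
  exact x.asIdeal.zero_mem

theorem eq_zero_or_pow_eq_one (hZ : IsClosed Z) (hZ' : Z ≠ Set.univ) (hn : 2 ≤ n) {K : Type u} [Field K]
    [Algebra k K] {a : Fin n → K} (ha : InZ Z a) (j : Fin n) : a j = 0 ∨ ∃ N, 0 < N ∧ a j ^ N = 1 := by
  by_contra! hc
  refine eq_empty_of_nontorsion hst hZ hZ' hn ha (j := j) fun d e hde => ?_
  wlog hle : d ≤ e generalizing d e
  · exact (this e d hde.symm (le_of_not_ge hle)).symm
  by_contra hne
  refine hc.2 (e - d) (by omega) ?_
  have h1 : a j ^ d * a j ^ (e - d) = a j ^ d * 1 := by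
    rw [← pow_add, Nat.add_sub_cancel' hle, mul_one]; exact hde.symm
  exact mul_left_cancel₀ (pow_ne_zero _ hc.1) h1

omit hst in
theorem not_torsion_add_three {K : Type u} [Field K] [CharZero K] (x : K) (hx : x = 0 ∨ ∃ N, 0 < N ∧ x ^ N = 1)
    (hy : x + 3 = 0 ∨ ∃ N, 0 < N ∧ (x + 3) ^ N = 1) : False := by
  have hint : IsIntegral ℚ x := by
    rcases hx with rfl | ⟨N, hN, hxN⟩
    · exact isIntegral_zero
    · exact IsIntegral.of_pow hN (by rw [hxN]; exact isIntegral_one)
  obtain ⟨z, hz⟩ := IsAlgClosed.exists_aeval_eq_zero ℂ (minpoly ℚ x) (minpoly.degree_pos hint).ne'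
  have tr : ∀ q : Polynomial ℚ, Polynomial.aeval x q = 0 → Polynomial.aeval z q = 0 := fun q hq => by
    obtain ⟨r, rfl⟩ := minpoly.dvd ℚ x hq
    rw [map_mul, hz, zero_mul]
  have h1 : ‖z‖ ≤ 1 := by
    rcases hx with rfl | ⟨N, hN, hxN⟩
    · have : z = 0 := by
        have h := tr Polynomial.X (by simp)
        rwa [Polynomial.aeval_X] at h
      simp [this]
    · have hzN : z ^ N = 1 := by
        have h := tr (Polynomial.X ^ N - 1) (by simp [hxN])
        rw [map_sub, map_pow, Polynomial.aeval_X, map_one] at h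
        exact sub_eq_zero.1 h
      exact (Complex.norm_eq_one_of_pow_eq_one hzN hN.ne').le
  have h2 : ‖z + 3‖ ≤ 1 := by
    rcases hy with h | ⟨N, hN, hxN⟩
    · have : z + 3 = 0 := by
        have h' := tr (Polynomial.X + Polynomial.C (3 : ℚ)) (by simpa using h)
        rw [map_add, Polynomial.aeval_X, Polynomial.aeval_C, map_ofNat] at h'
        exact h'
      simp [this]
    · have hzN : (z + 3) ^ N = 1 := by
        have h := tr ((Polynomial.X + Polynomial.C (3 : ℚ)) ^ N - 1) (by simp [hxN])
        rw [map_sub, map_pow, map_add, Polynomial.aeval_X, Polynomial.aeval_C, map_ofNat, map_one] at h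
        exact sub_eq_zero.1 h
      exact (Complex.norm_eq_one_of_pow_eq_one hzN hN.ne').le
  have h3 := norm_sub_le (z + 3) z
  norm_num at h3
  linarith

omit hst in
theorem exists_pow_prime_pow_eq {K : Type u} [Field K] (p : ℕ) [Fact p.Prime] [CharP K p] (x : K)
    (hx : x = 0 ∨ ∃ N, 0 < N ∧ x ^ N = 1) : ∃ m : ℕ, 0 < m ∧ x ^ p ^ m = x := by
  have hp : p.Prime := Fact.out
  rcases hx with rfl | ⟨N, hN, hxN⟩
  · exact ⟨1, one_pos, zero_pow (by simp [hp.ne_zero])⟩
  · obtain ⟨a, N', hN', rfl⟩ := Nat.exists_eq_pow_mul_and_not_dvd hN.ne' p hp.ne_one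
    have h1 : x ^ N' = 1 := by
      rw [mul_comm, pow_mul] at hxN
      haveI : ExpChar K p := ExpChar.prime hp
      exact iterateFrobenius_inj K p a (by simp only [iterateFrobenius_def]; rw [hxN, one_pow])
    have hN0 : 0 < N' := Nat.pos_of_ne_zero fun h => hN' (h ▸ dvd_zero p)
    refine ⟨Nat.totient N', Nat.totient_pos.2 hN0, ?_⟩
    have h2 : p ^ Nat.totient N' ≡ 1 [MOD N'] :=
      Nat.ModEq.pow_totient ((hp.coprime_iff_not_dvd).2 hN')
    obtain ⟨t, ht⟩ := (Nat.modEq_iff_dvd' (Nat.one_le_pow _ _ hp.pos)).1 h2.symm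
    rw [show p ^ Nat.totient N' = 1 + N' * t by have := Nat.one_le_pow (Nat.totient N') p hp.pos; omega,
      pow_add, pow_mul, h1, one_pow, pow_one, mul_one]

end

/-- Let `k` be a field and `n ≥ 2`. For `i ≠ j` and `d ≥ 0` let `T_{i,j,d}` be the automorphism of
`𝔸^n_k` given by `x_i ↦ x_i + x_j^d` and fixing the other coordinates. Let `W ⊆ 𝔸^n_k` be a nonempty
open subscheme with `T_{i,j,d}⁻¹(W) = W` for all `i, j, d`. Then either `W = 𝔸^n_k`, or `k` has
prime characteristic `p` and the complement `𝔸^n_k ∖ W` consists of finitely many closed points,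
each of whose coordinates `a` in the residue field satisfies `a^(p^m) = a` for some `m ≥ 1`
(equivalently, is algebraic over `𝔽_p`). -/
theorem result (k : Type u) [Field k] (n : ℕ) (hn : 2 ≤ n)
    (W : (Spec (CommRingCat.of (MvPolynomial (Fin n) k))).Opens)
    (hW : (W : Set ↥(Spec (CommRingCat.of (MvPolynomial (Fin n) k)))).Nonempty)
    (hinv : ∀ (i j : Fin n), i ≠ j → ∀ d : ℕ,
      (Spec.map (CommRingCat.ofHom (MvPolynomial.aeval (R := k)
        (Function.update MvPolynomial.X i (MvPolynomial.X i + MvPolynomial.X j ^ d) :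
          Fin n → MvPolynomial (Fin n) k)).toRingHom)) ⁻¹ᵁ W = W) :
    W = ⊤ ∨ ∃ p : ℕ, p.Prime ∧ CharP k p ∧ ((W : Set ↥(Spec (CommRingCat.of (MvPolynomial (Fin n) k))))ᶜ).Finite ∧
      ∀ x : ↥(Spec (CommRingCat.of (MvPolynomial (Fin n) k))),
        x ∉ (W : Set ↥(Spec (CommRingCat.of (MvPolynomial (Fin n) k)))) →
        IsClosed ({x} : Set ↥(Spec (CommRingCat.of (MvPolynomial (Fin n) k)))) ∧ ∀ i : Fin n, ∃ m : ℕ, 0 < m ∧
          (algebraMap (MvPolynomial (Fin n) k) x.asIdeal.ResidueField (MvPolynomial.X i)) ^ (p ^ m) =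
            algebraMap (MvPolynomial (Fin n) k) x.asIdeal.ResidueField (MvPolynomial.X i) := by
  classical
  set Z : Set (PrimeSpectrum (MvPolynomial (Fin n) k)) := (W.carrier : Set (PrimeSpectrum (MvPolynomial (Fin n) k)))ᶜ with hZdef
  have hZc : IsClosed Z := W.2.isClosed_compl
  have hZu : Z ≠ Set.univ := fun h => by
    obtain ⟨w, hw⟩ := hW
    exact (h ▸ Set.mem_univ w : w ∈ Z) hw
  have hst : ∀ (K : Type u) [Field K] [Algebra k K] (a : Fin n → K), InZ Z a →
      ∀ i j : Fin n, i ≠ j → ∀ d : ℕ, InZ Z (Function.update a i (a i + a j ^ d)) := by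
    intro K _ _ a ha i j hij d
    let v : Fin n → MvPolynomial (Fin n) k :=
      Function.update MvPolynomial.X i (MvPolynomial.X i + MvPolynomial.X j ^ d)
    let T := MvPolynomial.aeval (R := k) v
    let P : PrimeSpectrum (MvPolynomial (Fin n) k) := ⟨RingHom.ker (MvPolynomial.aeval (R := k) a), RingHom.ker_isPrime _⟩
    have hT : (MvPolynomial.aeval (R := k) a).comp T =
        MvPolynomial.aeval (Function.update a i (a i + a j ^ d)) := MvPolynomial.algHom_ext fun l => by
      rcases eq_or_ne l i with rfl | hl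
      · simp [T, v]
      · simp [T, v, hl]
    intro hmem
    refine ha ?_
    show P ∈ W.carrier
    rw [← hinv i j hij d]
    show PrimeSpectrum.comap T.toRingHom P ∈ W.carrier
    have hPT : PrimeSpectrum.comap T.toRingHom P = ⟨RingHom.ker (MvPolynomial.aeval (R := k)
        (Function.update a i (a i + a j ^ d))), RingHom.ker_isPrime _⟩ := by
      refine PrimeSpectrum.ext ?_
      show (RingHom.ker (MvPolynomial.aeval (R := k) a)).comap T.toRingHom = _
      rw [← hT]
      rfl
    rw [hPT]
    exact hmem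
  have hpt : ∀ x ∈ Z, InZ Z (fun i => algebraMap (MvPolynomial (Fin n) k) x.asIdeal.ResidueField (MvPolynomial.X i)) := by
    intro x hx
    rw [inZ_iff hZc]
    intro f hf
    have h1 : MvPolynomial.aeval (R := k) (fun i => algebraMap (MvPolynomial (Fin n) k) x.asIdeal.ResidueField
        (MvPolynomial.X i)) = IsScalarTower.toAlgHom k (MvPolynomial (Fin n) k) x.asIdeal.ResidueField :=
      MvPolynomial.algHom_ext fun i => by simp
    rw [h1, IsScalarTower.toAlgHom_apply, Ideal.algebraMap_residueField_eq_zero]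
    exact (PrimeSpectrum.mem_vanishingIdeal Z f).1 hf x hx
  by_cases hZe : Z = ∅
  · refine Or.inl (TopologicalSpace.Opens.ext ?_)
    exact Set.compl_empty_iff.1 hZe
  refine Or.inr ?_
  obtain ⟨x₀, hx₀⟩ := Set.nonempty_iff_ne_empty.2 hZe
  have hclosed : ∀ x ∈ Z, IsClosed ({x} : Set (PrimeSpectrum (MvPolynomial (Fin n) k))) := by
    intro x hx
    rw [PrimeSpectrum.isClosed_singleton_iff_isMaximal]
    have hint : ∀ z : MvPolynomial (Fin n) k ⧸ x.asIdeal, IsIntegral k z := fun z => by
      obtain ⟨f, rfl⟩ := Ideal.Quotient.mk_surjective z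
      induction f using MvPolynomial.induction_on with
      | C r => exact isIntegral_algebraMap
      | add f g hf hg => rw [map_add]; exact hf.add hg
      | mul_X f i hf =>
        rw [map_mul]
        refine hf.mul ?_
        have hinj : Function.Injective (algebraMap (MvPolynomial (Fin n) k ⧸ x.asIdeal) x.asIdeal.ResidueField) :=
          x.asIdeal.injective_algebraMap_quotient_residueField
        rcases eq_zero_or_pow_eq_one hst hZc hZu hn (hpt x hx) i with h | ⟨N, hN, hh⟩
        · have : Ideal.Quotient.mk x.asIdeal (MvPolynomial.X i) = 0 := hinj (by rw [map_zero]; exact h)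
          rw [this]; exact isIntegral_zero
        · have : Ideal.Quotient.mk x.asIdeal (MvPolynomial.X i) ^ N = 1 := hinj (by
            rw [map_pow, map_one]; exact hh)
          exact IsIntegral.of_pow hN (this ▸ isIntegral_one)
    haveI : Algebra.IsIntegral k (MvPolynomial (Fin n) k ⧸ x.asIdeal) := ⟨hint⟩
    haveI := x.2
    exact Ideal.Quotient.maximal_of_isField _ (isField_of_isIntegral_of_isField' (Field.toIsField k))
  obtain ⟨p, hp⟩ := CharP.exists k
  rcases CharP.char_is_prime_or_zero k p with hpp | rfl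
  · haveI : Fact p.Prime := ⟨hpp⟩
    refine ⟨p, hpp, hp, ?_, fun x hx => ⟨hclosed x hx, fun i => ?_⟩⟩
    · obtain ⟨S, hS1, hSc, hSi, hS⟩ := TopologicalSpace.NoetherianSpace.exists_finite_set_isClosed_irreducible hZc
      show Z.Finite
      rw [hS]
      refine Set.Finite.sUnion hS1 fun t ht => ?_
      have hg := (hSi t ht).isGenericPoint_genericPoint (hSc t ht)
      have hmem : (hSi t ht).genericPoint ∈ Z := hS ▸ Set.mem_sUnion.2 ⟨t, ht, hg.mem⟩
      rw [← hg.def, (hclosed _ hmem).closure_eq]
      exact Set.finite_singleton _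
    · haveI : CharP x.asIdeal.ResidueField p :=
        charP_of_injective_algebraMap (algebraMap k x.asIdeal.ResidueField).injective p
      exact exists_pow_prime_pow_eq p _ (eq_zero_or_pow_eq_one hst hZc hZu hn (hpt x hx) i)
  · haveI : CharZero k := CharP.charP_to_charZero k
    exfalso
    let K := x₀.asIdeal.ResidueField
    haveI : CharZero K := charZero_of_injective_algebraMap (algebraMap k K).injective
    let i : Fin n := ⟨0, by omega⟩
    let j : Fin n := ⟨1, by omega⟩
    have hij : i ≠ j := by simp [i, j, Fin.ext_iff]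
    let a := fun l => algebraMap (MvPolynomial (Fin n) k) K (MvPolynomial.X l)
    have h3 : ∀ c : ℕ, InZ Z (Function.update a i (a i + c)) := fun c => by
      induction c with
      | zero => simpa using hpt x₀ hx₀
      | succ c ih =>
        have := hst K _ ih i j hij 0
        simpa [Function.update_idem, add_assoc] using this
    refine not_torsion_add_three (a i) (eq_zero_or_pow_eq_one hst hZc hZu hn (hpt x₀ hx₀) i) ?_
    simpa using eq_zero_or_pow_eq_one hst hZc hZu hn (h3 3) i

end Groth.Agent.S7451
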