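import Groth.Statements.S7453
import Groth.Agent.Lib.GrpdB.Section
import Groth.Agent.S1886

set_option autoImplicit false
universe u
open CategoryTheory CategoryTheory.Limits AlgebraicGeometry
open Grpd

namespace Groth.Agent.S7453

/-- Let (U, R, s, t, c) be a groupoid scheme over S with U the spectrum of a field. Then R is a
separated scheme. (A groupoid scheme carries U, R, s, t, c, e, i over S with the groupoid axioms on
T-points; c is defined on the fibre product of s and t and sends a pair (a, b) with s(a) = t(b) to a
composed with b.) -/
theorem result (S : Scheme.{u}) (G : Grpd.GroupoidScheme S) (k : Type u) [Field k] (eU : G.U ≅ Spec (CommRingCat.of k)) : G.R.IsSeparated := by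
  have hsec : G.eStab ≫ G.stabilizerToU = 𝟙 _ := pullback.lift_snd _ _ _
  have h0 : IsClosedImmersion (eU.inv ≫ G.eStab) :=
    Groth.Agent.GrpdB.isClosedImmersion_of_section (G.stabilizerToU ≫ eU.hom) _ (by
      rw [Category.assoc, reassoc_of% hsec, Iso.inv_hom_id])
  have he : IsClosedImmersion G.eStab := by
    rw [← eU.hom_inv_id_assoc G.eStab]; infer_instance
  have h := (Groth.Agent.S1886.result S G).1
  have hj : IsSeparated G.j := h.1.2 (h.2.2 he)
  have : IsAffine G.U := IsAffine.of_isIso eU.hom
  let m := pullback.lift (pullback.fst G.pU G.pU) (pullback.snd G.pU G.pU) (terminal.hom_ext _ _) (f := terminal.from G.U) (g := terminal.from G.U)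
  have hm1 : m ≫ pullback.fst _ _ = pullback.fst G.pU G.pU := pullback.lift_fst _ _ _
  have hm2 : m ≫ pullback.snd _ _ = pullback.snd G.pU G.pU := pullback.lift_snd _ _ _
  have : Mono m := ⟨fun a b hab => pullback.hom_ext
    (by rw [← hm1, ← Category.assoc, hab, Category.assoc]) (by rw [← hm2, ← Category.assoc, hab, Category.assoc])⟩
  constructor
  rw [show terminal.from G.R = G.j ≫ m ≫ pullback.fst (terminal.from G.U) (terminal.from G.U) ≫ terminal.from G.U from
    terminal.hom_ext _ _]
  infer_instance

end Groth.Agent.S7453
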