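import Groth.Statements.S7456
import Groth.Agent.Lib.GrpdB.Calc
import Groth.Agent.Lib.GrpdB.Topology

set_option autoImplicit false
universe u
open CategoryTheory CategoryTheory.Limits AlgebraicGeometry
open Grpd

namespace Groth.Agent.S7456

/-- Let (U, R, s, t, c) be a groupoid scheme over S. For every subset W of U, the subset t(s^{-1}(W)) is
set-theoretically R-invariant: its preimages under s and t coincide. If moreover s and t are open
maps and quasi-compact, then U is covered by R-invariant quasi-compact open subsets. (The published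
statement also asserts that this set is open when W is open and s, t are open maps; this row omits
that clause.) (A groupoid scheme carries U, R, s, t, c, e, i over S with the groupoid axioms on
T-points; c is defined on the fibre product of s and t and sends a pair (a, b) with s(a) = t(b) to a
composed with b.) -/
theorem result (S : Scheme.{u}) (G : Grpd.GroupoidScheme S) : (∀ W : Set G.U, ⇑G.s ⁻¹' (⇑G.t '' (⇑G.s ⁻¹' W)) = ⇑G.t ⁻¹' (⇑G.t '' (⇑G.s ⁻¹' W))) ∧ (IsOpenMap ⇑G.s → IsOpenMap ⇑G.t → QuasiCompact G.s → QuasiCompact G.t → ∀ u : G.U, ∃ W : G.U.Opens, IsCompact (W : Set G.U) ∧ u ∈ W ∧ G.s ⁻¹ᵁ W = G.t ⁻¹ᵁ W) := by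
  refine ⟨Groth.Agent.GrpdB.saturation_invariant, fun hs ht qs qt u => ?_⟩
  obtain ⟨V, hV, huV, -⟩ := exists_isAffineOpen_mem_and_subset (show u ∈ (⊤ : G.U.Opens) from trivial)
  refine ⟨⟨⇑G.t '' (⇑G.s ⁻¹' V), ht _ (V.2.preimage G.s.continuous)⟩,
    (G.s.isCompact_preimage hV.isCompact).image G.t.continuous, Groth.Agent.GrpdB.subset_saturation _ huV,
    TopologicalSpace.Opens.ext (Groth.Agent.GrpdB.saturation_invariant _)⟩

end Groth.Agent.S7456
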