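import Groth.Statements.S7457
import Groth.Agent.Lib.GrpdB.Calc
import Groth.Agent.Lib.GrpdB.Topology

set_option autoImplicit false
universe u
open CategoryTheory CategoryTheory.Limits AlgebraicGeometry
open Grpd

namespace Groth.Agent.S7457

/-- Let (U, R, s, t, c) be a groupoid scheme over S. Let φ : R x_(t,U,t) R -> R x_(s,U,t) R be the
morphism sending a pair (a, b) with the same target to (a, a^{-1} composed with b), that is, the
morphism whose first component is the first projection and whose second component is c applied to (i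
composed after the first projection, second projection). Then φ is an isomorphism and composed with
c it gives the second projection. Moreover the square with sides c, the second projection R
x_(s,U,t) R -> R, s and s is cartesian. (A groupoid scheme carries U, R, s, t, c, e, i over S with
the groupoid axioms on T-points; c is defined on the fibre product of s and t and sends a pair (a,
b) with s(a) = t(b) to a composed with b.) -/
theorem result (S : Scheme.{u}) (G : Grpd.GroupoidScheme S) : (∀ φ : pullback G.t G.t ⟶ pullback G.s G.t, φ ≫ pullback.fst G.s G.t = pullback.fst G.t G.t → φ ≫ pullback.snd G.s G.t = pullback.lift (pullback.fst G.t G.t ≫ G.i) (pullback.snd G.t G.t) ((Category.assoc _ _ _).trans ((congrArg (fun x => pullback.fst G.t G.t ≫ x) G.i_s).trans pullback.condition)) ≫ G.c → IsIso φ ∧ φ ≫ G.c = pullback.snd G.t G.t) ∧ IsPullback G.c (pullback.snd G.s G.t) G.s G.s := by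
  refine ⟨fun φ hφ₁ hφ₂ => ?_, ?_⟩
  · set a := pullback.fst G.t G.t with ha
    set b := pullback.snd G.t G.t with hb
    have hab : a ≫ G.t = b ≫ G.t := pullback.condition
    have hφ₂' : φ ≫ pullback.snd G.s G.t = Groth.Agent.GrpdB.cmp G (Groth.Agent.GrpdB.inv' a) b ((Groth.Agent.GrpdB.inv_s a).trans hab) := hφ₂
    set p := pullback.fst G.s G.t
    set q := pullback.snd G.s G.t
    have hpq : p ≫ G.s = q ≫ G.t := pullback.condition
    have hc : G.c = Groth.Agent.GrpdB.cmp G p q hpq := by
      rw [Groth.Agent.GrpdB.cmp, show pullback.lift p q hpq = 𝟙 _ by apply pullback.hom_ext <;> simp [p, q], Category.id_comp]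
    have hφc : φ ≫ G.c = b := by
      rw [hc, Groth.Agent.GrpdB.comp_cmp]
      exact (Groth.Agent.GrpdB.cmp_congr hφ₁ hφ₂' _).trans (Groth.Agent.GrpdB.cancel_left' a b hab)
    refine ⟨⟨⟨pullback.lift p G.c (by rw [hc, Groth.Agent.GrpdB.cmp_t]), ?_, ?_⟩⟩, hφc⟩
    · apply pullback.hom_ext
      · rw [Category.assoc, pullback.lift_fst, hφ₁, Category.id_comp]
      · rw [Category.assoc, pullback.lift_snd, hφc, Category.id_comp]
    · apply pullback.hom_ext
      · rw [Category.assoc, hφ₁, pullback.lift_fst, Category.id_comp]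
      · rw [Category.assoc, hφ₂', Groth.Agent.GrpdB.comp_cmp, Category.id_comp]
        refine (Groth.Agent.GrpdB.cmp_congr (show _ = Groth.Agent.GrpdB.inv' p from ?_) ((pullback.lift_snd _ _ _).trans hc) _).trans
          (Groth.Agent.GrpdB.cancel_left p q hpq)
        rw [← Category.assoc, pullback.lift_fst]
  · set p := pullback.fst G.s G.t
    set q := pullback.snd G.s G.t
    have hpq : p ≫ G.s = q ≫ G.t := pullback.condition
    have hc : G.c = Groth.Agent.GrpdB.cmp G p q hpq := by
      rw [Groth.Agent.GrpdB.cmp, show pullback.lift p q hpq = 𝟙 _ by apply pullback.hom_ext <;> simp [p, q], Category.id_comp]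
    have w : G.c ≫ G.s = q ≫ G.s := by rw [hc, Groth.Agent.GrpdB.cmp_s]
    refine ⟨⟨w⟩, ⟨PullbackCone.IsLimit.mk w
      (fun s => pullback.lift (Groth.Agent.GrpdB.cmp G s.fst (Groth.Agent.GrpdB.inv' s.snd) (s.condition.trans (Groth.Agent.GrpdB.inv_t _).symm)) s.snd
        ((Groth.Agent.GrpdB.cmp_s _ _ _).trans (Groth.Agent.GrpdB.inv_s _))) (fun s => ?_) (fun s => pullback.lift_snd _ _ _)
      fun s m h1 h2 => ?_⟩⟩
    · rw [hc, Groth.Agent.GrpdB.comp_cmp]
      exact (Groth.Agent.GrpdB.cmp_congr (pullback.lift_fst _ _ _) (pullback.lift_snd _ _ _) _).trans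
        (Groth.Agent.GrpdB.cancel_right' _ _ s.condition)
    · apply pullback.hom_ext
      · rw [pullback.lift_fst]
        have hm : (m ≫ p) ≫ G.s = (m ≫ q) ≫ G.t := by rw [Category.assoc, Category.assoc, hpq]
        refine (Groth.Agent.GrpdB.cancel_right (m ≫ p) (m ≫ q) hm).symm.trans (Groth.Agent.GrpdB.cmp_congr ?_ (congrArg (· ≫ G.i) h2) _)
        rw [← Groth.Agent.GrpdB.comp_cmp m p q hpq, ← hc, h1]
      · rw [h2, pullback.lift_snd]

end Groth.Agent.S7457
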