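import Groth.Statements.S7458


set_option autoImplicit false
universe u
open CategoryTheory MonoidalCategory CartesianMonoidalCategory MonObj GrpObj AlgebraicGeometry
open GrpSch

namespace Groth.Agent.S7458

/-- The shear automorphism of `A ⊗ G` attached to a point `ψ : A ⟶ G`. -/
noncomputable def shearIso {C : Type*} [Category C] [CartesianMonoidalCategory C] {A G : C} [GrpObj G]
    (ψ : A ⟶ G) : A ⊗ G ≅ A ⊗ G where
  hom := lift (fst A G) ((fst A G ≫ ψ) * snd A G)
  inv := lift (fst A G) ((fst A G ≫ ψ)⁻¹ * snd A G)
  hom_inv_id := by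
    apply CartesianMonoidalCategory.hom_ext <;>
      simp [comp_mul, GrpObj.comp_inv]
  inv_hom_id := by
    apply CartesianMonoidalCategory.hom_ext <;>
      simp [comp_mul, GrpObj.comp_inv]

theorem shearIso_snd {C : Type*} [Category C] [CartesianMonoidalCategory C] {A G : C} [GrpObj G] (ψ : A ⟶ G) :
    ψ ▷ G ≫ μ[G] = (shearIso ψ).hom ≫ snd A G := by
  rw [shearIso, lift_snd, Hom.mul_def]
  congr 1
  apply CartesianMonoidalCategory.hom_ext <;> simp

/-- For a group scheme G over a scheme S, a scheme T flat over S and a morphism ψ : T -> G over S, the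
map T x_S G -> G sending (t, g) to the product ψ(t)·g is a flat morphism; taking T = G and ψ the
identity, the multiplication G x_S G -> G is flat whenever G is flat over S. -/
theorem result (S : Scheme.{u}) (G : Over S) [GrpObj G] : (∀ (T : Over S) (ψ : T ⟶ G), Flat T.hom → Flat (ψ ▷ G ≫ μ[G]).left) ∧ (Flat G.hom → Flat μ[G].left) := by
  have key : ∀ (T : Over S) (ψ : T ⟶ G), Flat T.hom → Flat (ψ ▷ G ≫ μ[G]).left := by
    intro T ψ hT
    haveI := hT
    haveI : IsIso (shearIso ψ).hom.left := inferInstanceAs (IsIso ((Over.forget _).map (shearIso ψ).hom))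
    haveI : Flat (snd T G).left := by dsimp; infer_instance
    rw [shearIso_snd, Over.comp_left]
    infer_instance
  refine ⟨key, fun hG => ?_⟩
  have := key G (𝟙 G) hG
  rwa [MonoidalCategory.id_whiskerRight, Category.id_comp] at this

end Groth.Agent.S7458
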