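import Groth.Statements.S7459
import Groth.Agent.Lib.AbRigid.Shear
import Mathlib.AlgebraicGeometry.Morphisms.UniversallyOpen

set_option autoImplicit false
universe u
open CategoryTheory MonoidalCategory CartesianMonoidalCategory MonObj GrpObj AlgebraicGeometry
open GrpSch

namespace Groth.Agent.S7459

/-- Let G be a group scheme over a field k, W an open subscheme of G and f : T -> G a morphism of
schemes (T becomes a k-scheme through f). Then the image of the composition T x_k W -> G x_k G -> G,
the second map being the multiplication, is open. -/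
theorem result (K : Type u) [Field K] (G : Over (Spec (CommRingCat.of K))) [GrpObj G] (W : G.left.Opens) (T : Scheme.{u}) (f : T ⟶ G.left) : IsOpen (Set.range ⇑(((Over.homMk f rfl : Over.mk (f ≫ G.hom) ⟶ G) ⊗ₘ (Over.homMk W.ι rfl : Over.mk (W.ι ≫ G.hom) ⟶ G)) ≫ μ[G]).left) := by
  set Tk : Over (Spec (CommRingCat.of K)) := Over.mk (f ≫ G.hom) with hTk
  set Wk : Over (Spec (CommRingCat.of K)) := Over.mk (W.ι ≫ G.hom) with hWk
  set ψ : Tk ⟶ G := Over.homMk f rfl with hψ
  set w : Wk ⟶ G := Over.homMk W.ι rfl with hw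
  have e : (ψ ⊗ₘ w) ≫ μ[G] = (Tk ◁ w) ≫ (AbRigid.shear ψ).hom ≫ snd Tk G := by
    rw [← AbRigid.shear_hom_snd, MonoidalCategory.tensorHom_def', Category.assoc]
  haveI : IsIso (AbRigid.shear ψ).hom.left := inferInstanceAs (IsIso ((Over.forget _).map (AbRigid.shear ψ).hom))
  haveI : IsOpenImmersion w.left := inferInstanceAs (IsOpenImmersion W.ι)
  haveI : IsOpenImmersion (Tk ◁ w).left :=
    MorphismProperty.of_isPullback ((AbRigid.isPullback_whiskerLeft w Tk).map (Over.forget _)) ‹IsOpenImmersion w.left›
  have h1 : IsOpenMap (snd Tk G).left := by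
    show IsOpenMap (Limits.pullback.snd Tk.hom G.hom)
    exact (Limits.pullback.snd Tk.hom G.hom).isOpenMap
  refine IsOpenMap.isOpen_range ?_
  rw [e, Over.comp_left, Over.comp_left, Scheme.Hom.comp_base, Scheme.Hom.comp_base]
  exact (h1.comp (AbRigid.shear ψ).hom.left.isOpenEmbedding.isOpenMap).comp (Tk ◁ w).left.isOpenEmbedding.isOpenMap

end Groth.Agent.S7459
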