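import Groth.Statements.S7460
import Mathlib

set_option autoImplicit false
set_option linter.style.haveILetI false
set_option backward.isDefEq.respectTransparency.types false
universe u
open CategoryTheory CategoryTheory.Limits AlgebraicGeometry
open GrpSch

namespace Groth.Agent.S7460

variable {k : Type u} [Field k] {A : Type u} [CommRing A] [Algebra k A]
  (hA : ∀ s : Finset A, ∃ (B : Subalgebra k A) (n : ℕ), (↑s : Set A) ⊆ (B : Set A) ∧ Nonempty (B ≃ₐ[k] (Fin n → k)))
include hA

theorem surjective_algebraMap (P : Ideal A) [P.IsPrime] : Function.Surjective (algebraMap k (A ⧸ P)) := fun x => by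
  obtain ⟨a, rfl⟩ := Ideal.Quotient.mk_surjective x
  obtain ⟨B, n, hB, ⟨e⟩⟩ := hA {a}
  let b : B := ⟨a, hB (by simp)⟩
  have h0 : (∏ i, (b - algebraMap k B (e b i))) = 0 := e.injective (by
    rw [map_prod, map_zero]
    funext j
    rw [Finset.prod_apply]
    exact Finset.prod_eq_zero (Finset.mem_univ j) (by simp))
  have h1 : (∏ i, (a - algebraMap k A (e b i))) ∈ P := by
    have := congrArg B.val h0
    rw [map_prod, map_zero] at this
    simp only [map_sub, AlgHom.commutes] at this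
    exact this ▸ P.zero_mem
  obtain ⟨i, -, hi⟩ := Ideal.IsPrime.prod_mem_iff.1 h1
  exact ⟨e b i, (Ideal.Quotient.eq.2 hi).symm⟩

theorem exists_idempotent (a : A) : ∃ c : A, a * (a * c) = a := by
  obtain ⟨B, n, hB, ⟨e⟩⟩ := hA {a}
  let b : B := ⟨a, hB (by simp)⟩
  refine ⟨(e.symm fun i => (e b i)⁻¹).1, ?_⟩
  have h : b * (b * e.symm fun i => (e b i)⁻¹) = b := e.injective (by
    rw [map_mul, map_mul, e.apply_symm_apply]
    funext i
    by_cases h : e b i = 0 <;> simp [h])
  exact congrArg B.val h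

theorem isClopen_basicOpen (a : A) : IsClopen (PrimeSpectrum.basicOpen a : Set (PrimeSpectrum A)) := by
  obtain ⟨c, hc⟩ := exists_idempotent hA a
  refine ⟨?_, (PrimeSpectrum.basicOpen a).2⟩
  have : (PrimeSpectrum.basicOpen a : Set (PrimeSpectrum A)) = PrimeSpectrum.zeroLocus {1 - a * c} := by
    ext P
    simp only [SetLike.mem_coe, PrimeSpectrum.mem_basicOpen, PrimeSpectrum.mem_zeroLocus, Set.singleton_subset_iff]
    refine ⟨fun h => (P.2.mem_or_mem (show a * (1 - a * c) ∈ P.asIdeal by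
      rw [mul_sub, mul_one, hc, sub_self]; exact P.asIdeal.zero_mem)).resolve_left h, fun h h' => ?_⟩
    refine (Ideal.ne_top_iff_one _).1 P.2.ne_top ?_
    simpa using P.asIdeal.add_mem h (P.asIdeal.mul_mem_right c h')
  rw [this]
  exact PrimeSpectrum.isClosed_zeroLocus _

theorem eq_of_forall_clopen {P Q : PrimeSpectrum A}
    (h : ∀ N : Set (PrimeSpectrum A), IsClopen N → P ∈ N → Q ∈ N) : P = Q := by
  ext a
  by_cases hP : a ∈ P.asIdeal
  · exact iff_of_true hP (not_not.1 fun hQ => h _ (isClopen_basicOpen hA a).compl (fun hh => hh hP) hQ)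
  · exact iff_of_false hP (h _ (isClopen_basicOpen hA a) hP)

end Groth.Agent.S7460

namespace Groth.Agent.S7460

/-- Let k be a field and A a k-algebra such that every finite subset of A is contained in a k-subalgebra
isomorphic to a finite product of copies of k (that is, A is a directed colimit of finite products
of copies of k). Let X be a scheme over k. Then the map from the underlying space of Spec A x_k X to
the product of the underlying spaces of Spec A and X, given by the two projections, is a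
homeomorphism. -/
theorem result (k : Type u) [Field k] (A : Type u) [CommRing A] [Algebra k A] (hA : ∀ s : Finset A, ∃ (B : Subalgebra k A) (n : ℕ), (↑s : Set A) ⊆ (B : Set A) ∧ Nonempty (B ≃ₐ[k] (Fin n → k))) (X : Scheme.{u}) (f : X ⟶ Spec (CommRingCat.of k)) : IsHomeomorph (fun p : ↑(pullback (Spec.map (CommRingCat.ofHom (algebraMap k A))) f) => (pullback.fst (Spec.map (CommRingCat.ofHom (algebraMap k A))) f p, pullback.snd (Spec.map (CommRingCat.ofHom (algebraMap k A))) f p)) := by
  let φ : Spec (CommRingCat.of A) ⟶ Spec (CommRingCat.of k) := Spec.map (CommRingCat.ofHom (algebraMap k A))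
  show IsHomeomorph fun p : ↑(pullback φ f) => (pullback.fst φ f p, pullback.snd φ f p)
  -- the slice over a point of the profinite spectrum
  have hslice : ∀ P : PrimeSpectrum A, ∃ σ : X ⟶ pullback φ f,
      σ ≫ pullback.snd φ f = 𝟙 X ∧ Set.range σ = pullback.fst φ f ⁻¹' {P} := fun P => by
    let ρ : A →+* k := ((RingEquiv.ofBijective (algebraMap k (A ⧸ P.asIdeal))
      ⟨(algebraMap k (A ⧸ P.asIdeal)).injective, surjective_algebraMap hA P.asIdeal⟩).symm.toRingHom).comp (Ideal.Quotient.mk _)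
    have hρ : CommRingCat.ofHom (algebraMap k A) ≫ CommRingCat.ofHom ρ = 𝟙 _ := CommRingCat.hom_ext (RingHom.ext fun x => by
      show ρ (algebraMap k A x) = x
      simp only [ρ, RingHom.comp_apply]
      exact RingEquiv.symm_apply_apply _ x)
    let s : Spec (CommRingCat.of k) ⟶ Spec (CommRingCat.of A) := Spec.map (CommRingCat.ofHom ρ)
    have hs : s ≫ φ = 𝟙 _ := by rw [← Spec.map_comp, hρ, Spec.map_id]
    have hsr : Set.range s = {P} := by
      refine Set.ext fun Q => ⟨?_, fun hQ => ⟨(⊥ : PrimeSpectrum k), ?_⟩⟩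
      · rintro ⟨z, rfl⟩
        refine PrimeSpectrum.ext ?_
        show Ideal.comap ρ z.asIdeal = P.asIdeal
        rw [Ideal.eq_bot_of_prime z.asIdeal]
        ext a
        simp only [Ideal.mem_comap, Ideal.mem_bot, ρ, RingHom.comp_apply]
        exact (map_eq_zero_iff _ (RingEquiv.injective _)).trans Ideal.Quotient.eq_zero_iff_mem
      · rw [Set.mem_singleton_iff.1 hQ]
        refine PrimeSpectrum.ext ?_
        show Ideal.comap ρ ⊥ = P.asIdeal
        ext a
        simp only [Ideal.mem_comap, Ideal.mem_bot, ρ, RingHom.comp_apply]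
        exact (map_eq_zero_iff _ (RingEquiv.injective _)).trans Ideal.Quotient.eq_zero_iff_mem
    let m : pullback (𝟙 (Spec (CommRingCat.of k))) f ⟶ pullback φ f :=
      pullback.map _ _ _ _ s (𝟙 X) (𝟙 _) (by rw [hs, Category.comp_id]) (by simp)
    refine ⟨pullback.lift f (𝟙 X) (by simp) ≫ m, by simp only [m, Category.assoc, pullback.map, pullback.lift_snd, Category.comp_id], ?_⟩
    have : Surjective (pullback.lift f (𝟙 X) (by simp) : X ⟶ pullback (𝟙 (Spec (CommRingCat.of k))) f) := by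
      have e : (pullback.lift f (𝟙 X) (by simp) : X ⟶ pullback (𝟙 (Spec (CommRingCat.of k))) f) = inv (pullback.snd _ _) :=
        (IsIso.eq_inv_of_inv_hom_id (pullback.lift_snd _ _ _))
      rw [e]; infer_instance
    rw [Scheme.Hom.comp_base, TopCat.coe_comp, Set.range_comp, (Surjective.surj (f := pullback.lift f (𝟙 X) _)).range_eq,
      Set.image_univ]
    refine (Scheme.Pullback.range_map _ _ _ _ _ _ (𝟙 _) _ _).trans ?_
    rw [hsr]
    exact Set.inter_eq_left.2 fun z _ => ⟨_, rfl⟩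
  have hinj : Function.Injective fun p : ↑(pullback φ f) => (pullback.fst φ f p, pullback.snd φ f p) := fun p q hpq => by
    obtain ⟨h1, h2⟩ := Prod.mk.inj hpq
    obtain ⟨σ, hσ, hr⟩ := hslice (pullback.fst φ f p)
    obtain ⟨x, rfl⟩ := hr.ge (show p ∈ _ from rfl)
    obtain ⟨y, rfl⟩ := hr.ge (show q ∈ _ from h1.symm)
    rw [← Scheme.Hom.comp_apply, ← Scheme.Hom.comp_apply, hσ] at h2
    exact congrArg σ h2
  refine (IsHomeomorph.mk ?_ ?_ ⟨hinj, ?_⟩)
  · exact (pullback.fst φ f).continuous.prodMk (pullback.snd φ f).continuous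
  · intro W hW
    rw [isOpen_iff_forall_mem_open]
    rintro _ ⟨p, hp, rfl⟩
    haveI : IsIntegralHom φ := IsIntegralHom.SpecMap_iff.2 (fun a => by
      obtain ⟨B, n, hB, ⟨e⟩⟩ := hA {a}
      haveI : Module.Finite k B := Module.Finite.equiv e.symm.toLinearEquiv
      exact (IsIntegral.of_finite k (⟨a, hB (by simp)⟩ : B)).map B.val)
    haveI : IsIntegralHom (pullback.snd φ f) := MorphismProperty.pullback_snd _ _ ‹_›
    let P := pullback.fst φ f p
    let K : Set ↑(pullback φ f) := pullback.snd φ f ⁻¹' {pullback.snd φ f p}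
    have hK : IsCompact K := by
      rw [show K = Set.range ((pullback.snd φ f).fiberι (pullback.snd φ f p)) from ((pullback.snd φ f).range_fiberι _).symm]
      exact isCompact_range ((pullback.snd φ f).fiberι _).continuous
    let ι := {N : Set (PrimeSpectrum A) // IsClopen N ∧ P ∈ N}
    obtain ⟨N, hN⟩ : ∃ N : ι, K ∩ (pullback.fst φ f ⁻¹' N.1 ∩ Wᶜ) = ∅ := by
      haveI : Nonempty ι := ⟨⟨Set.univ, isClopen_univ, trivial⟩⟩
      refine hK.elim_directed_family_closed (fun N : ι => pullback.fst φ f ⁻¹' N.1 ∩ Wᶜ)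
        (fun N => (N.2.1.1.preimage (pullback.fst φ f).continuous).inter hW.isClosed_compl) ?_ ?_
      · refine Set.eq_empty_iff_forall_notMem.2 fun q ⟨hqK, hq⟩ => ?_
        simp only [Set.mem_iInter] at hq
        have h1 : P = pullback.fst φ f q := eq_of_forall_clopen hA fun N h h' => (hq ⟨N, h, h'⟩).1
        exact (hq ⟨Set.univ, isClopen_univ, trivial⟩).2 ((hinj (Prod.ext h1 (Set.mem_singleton_iff.1 hqK).symm) : p = q) ▸ hp)
      · rintro ⟨N₁, h₁, h₁'⟩ ⟨N₂, h₂, h₂'⟩
        exact ⟨⟨N₁ ∩ N₂, h₁.inter h₂, h₁', h₂'⟩, fun q hq => ⟨hq.1.1, hq.2⟩, fun q hq => ⟨hq.1.2, hq.2⟩⟩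
    refine ⟨N.1 ×ˢ (pullback.snd φ f '' (pullback.fst φ f ⁻¹' N.1 ∩ Wᶜ))ᶜ, ?_, ?_, N.2.2, ?_⟩
    · rintro ⟨Q, y⟩ ⟨hQ, hy⟩
      obtain ⟨σ, hσ, hr⟩ := hslice Q
      have h1 : pullback.snd φ f (σ y) = y := by rw [← Scheme.Hom.comp_apply, hσ]; rfl
      have h2 : pullback.fst φ f (σ y) = Q := hr.le ⟨y, rfl⟩
      exact ⟨σ y, not_not.1 fun h => hy ⟨σ y, ⟨show pullback.fst φ f (σ y) ∈ N.1 by rw [h2]; exact hQ, h⟩, h1⟩, Prod.ext h2 h1⟩
    · exact N.2.1.2.prod ((pullback.snd φ f).isClosedMap _ ((N.2.1.1.preimage (pullback.fst φ f).continuous).inter hW.isClosed_compl)).isOpen_compl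
    · rintro ⟨q, hq, he⟩
      exact Set.eq_empty_iff_forall_notMem.1 hN q ⟨he, hq⟩
  · rintro ⟨Q, y⟩
    obtain ⟨σ, hσ, hr⟩ := hslice Q
    exact ⟨σ y, Prod.ext (hr.le ⟨y, rfl⟩) (by show pullback.snd φ f (σ y) = y; rw [← Scheme.Hom.comp_apply, hσ]; rfl)⟩

end Groth.Agent.S7460
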