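import Groth.Statements.S7461
import Groth.Agent.Lib.GrpQuot.Rank

set_option autoImplicit false
universe u
open CategoryTheory CategoryTheory.Limits AlgebraicGeometry
open Grpd

namespace Groth.Agent.S7461

/-- Let (U, R, s, t, c) be a groupoid scheme over S with s and t finite locally free. Then U is a
disjoint union of R-invariant open subschemes U_r, r = 1, 2, 3, ..., such that s and t restricted
over U_r are finite locally free of rank r. Here the decomposition is indexed by all natural numbers
with U_0 empty, R-invariance of U_r means s^{-1}(U_r) = t^{-1}(U_r), and 'finite locally free of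
rank r' means finite, flat, locally of finite presentation with rank function constant equal to r.
(A groupoid scheme carries U, R, s, t, c, e, i over S with the groupoid axioms on T-points; c is
defined on the fibre product of s and t and sends a pair (a, b) with s(a) = t(b) to a composed with
b.) -/
theorem result (S : Scheme.{u}) (G : Grpd.GroupoidScheme S) [IsFinite G.s] [Flat G.s] [LocallyOfFinitePresentation G.s] [IsFinite G.t] [Flat G.t] [LocallyOfFinitePresentation G.t] : ∃ V : ℕ → G.U.Opens, V 0 = ⊥ ∧ (∀ r r', r ≠ r' → Disjoint (V r) (V r')) ∧ (⨆ r, V r) = ⊤ ∧ ∀ r, G.s ⁻¹ᵁ V r = G.t ⁻¹ᵁ V r ∧ Mor2.IsFinLocFreeOfDeg r (G.s ∣_ V r) ∧ Mor2.IsFinLocFreeOfDeg r (G.t ∣_ V r) := by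
  refine ⟨GrpQuot.rankLocus G, GrpQuot.rankLocus_zero G, fun r r' hne => ?_, ?_, fun r => ⟨?_, ?_, ?_⟩⟩
  · refine disjoint_iff.2 (TopologicalSpace.Opens.ext (Set.eq_empty_of_forall_notMem fun u hu => hne ?_))
    exact (hu.1 : G.s.finrank u = r).symm.trans hu.2
  · exact eq_top_iff.2 fun u _ => TopologicalSpace.Opens.mem_iSup.2 ⟨G.s.finrank u, rfl⟩
  · ext x
    show G.s.finrank (G.s x) = r ↔ G.s.finrank (G.t x) = r
    rw [GrpQuot.finrank_s_invariant G x]
  · refine ⟨⟨inferInstance, inferInstance, inferInstance⟩, fun y => ?_⟩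
    rw [Scheme.Hom.finrank_of_isPullback _ _ _ _ (isPullback_morphismRestrict G.s _).flip y]
    exact y.2
  · refine ⟨⟨inferInstance, inferInstance, inferInstance⟩, fun y => ?_⟩
    rw [Scheme.Hom.finrank_of_isPullback _ _ _ _ (isPullback_morphismRestrict G.t _).flip y, GrpQuot.finrank_t G]
    exact y.2

end Groth.Agent.S7461
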