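import Groth.Statements.S7463
import Groth.Agent.Lib.GrpQuot.Field

set_option autoImplicit false
universe u
open CategoryTheory CategoryTheory.Limits AlgebraicGeometry
open Grpd

namespace Groth.Agent.S7463

/-- Consider a groupoid scheme (U, R, s, t, c) over S in which U is the spectrum of a field, and write Z
for the closure of the image of the morphism j = (t, s) : R -> U x_S U. Then, set-theoretically,
pr_02 carries Z x_(pr_1,U,pr_0) Z into Z: given the morphism pr_02 from (U x_S U) x_(pr_1,U,pr_0) (U
x_S U) to U x_S U, whose components are pr_0 of the first factor and pr_1 of the second, any point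
both of whose projections land in Z is mapped to a point of Z. (A groupoid scheme consists of U, R,
s, t, c, e, i over S satisfying the groupoid axioms on T-points; c is defined on the fibre product
of s and t and takes a pair (a, b) with s(a) = t(b) to the composite of a with b.) -/
theorem result (S : Scheme.{u}) (G : Grpd.GroupoidScheme S) (k : Type u) [Field k] (eU : G.U ≅ Spec (CommRingCat.of k)) (pr02 : pullback (pullback.snd G.pU G.pU) (pullback.fst G.pU G.pU) ⟶ pullback G.pU G.pU) (h0 : pr02 ≫ pullback.fst G.pU G.pU = pullback.fst (pullback.snd G.pU G.pU) (pullback.fst G.pU G.pU) ≫ pullback.fst G.pU G.pU) (h1 : pr02 ≫ pullback.snd G.pU G.pU = pullback.snd (pullback.snd G.pU G.pU) (pullback.fst G.pU G.pU) ≫ pullback.snd G.pU G.pU) (p : ↑(pullback (pullback.snd G.pU G.pU) (pullback.fst G.pU G.pU))) (h₁ : pullback.fst (pullback.snd G.pU G.pU) (pullback.fst G.pU G.pU) p ∈ closure (Set.range ⇑G.j)) (h₂ : pullback.snd (pullback.snd G.pU G.pU) (pullback.fst G.pU G.pU) p ∈ closure (Set.range ⇑G.j)) : pr02 p ∈ closure (Set.range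 ⇑G.j) := by
  refine map_mem_closure pr02.continuous (GrpQuot.mem_closure_prod eU _ _ p h₁ h₂) fun z hz => ?_
  have hj₁ : G.s = G.j ≫ pullback.snd G.pU G.pU := GrpdB.j_snd.symm
  have hj₂ : G.t = G.j ≫ pullback.fst G.pU G.pU := GrpdB.j_fst.symm
  let M : pullback G.s G.t ⟶ pullback (pullback.snd G.pU G.pU) (pullback.fst G.pU G.pU) :=
    pullback.map G.s G.t _ _ G.j G.j (𝟙 _) (by rw [Category.comp_id, ← hj₁]) (by rw [Category.comp_id, ← hj₂])
  have hz' : z ∈ Set.range M := by rw [Scheme.Pullback.range_map]; exact hz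
  obtain ⟨w, rfl⟩ := hz'
  have e : M ≫ pr02 = G.c ≫ G.j := by
    apply pullback.hom_ext
    · rw [Category.assoc, h0, ← Category.assoc, pullback.lift_fst, Category.assoc, ← hj₂, Category.assoc, ← hj₂,
        GrpQuot.c_eq G, GrpdB.cmp_t]
    · rw [Category.assoc, h1, ← Category.assoc, pullback.lift_snd, Category.assoc, ← hj₁, Category.assoc, ← hj₁,
        GrpQuot.c_s G]
  exact ⟨G.c w, by rw [← Scheme.Hom.comp_apply, ← e]; rfl⟩

end Groth.Agent.S7463
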