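import Groth.Statements.S7464
import Groth.Agent.Lib.GrpdB.Calc
import Mathlib.AlgebraicGeometry.Morphisms.QuasiFinite
import Groth.Agent.Lib.GrpdB.Topology

set_option autoImplicit false
universe u
open CategoryTheory CategoryTheory.Limits AlgebraicGeometry
open Grpd

namespace Groth.Agent.S7464

/-- Let (U, R, s, t, c) be a groupoid scheme over S with s and t finite, and let u, u' be distinct
points of U in the same orbit, say u = s(r) and u' = t(r). Then u' does not lie in the closure of u.
(The published statement calls u, u' points of R; this row takes them to be points of U, as the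
orbit condition and the proof require.) (A groupoid scheme carries U, R, s, t, c, e, i over S with
the groupoid axioms on T-points; c is defined on the fibre product of s and t and sends a pair (a,
b) with s(a) = t(b) to a composed with b.) -/
theorem result (S : Scheme.{u}) (G : Grpd.GroupoidScheme S) [IsFinite G.s] [IsFinite G.t] (r : G.R) (hne : G.s r ≠ G.t r) : ¬ (G.s r ⤳ G.t r) := by
  intro hsp
  set x := G.s r
  let O := ⇑G.t '' (⇑G.s ⁻¹' {x})
  have hO : O.Finite := (G.s.finite_preimage_singleton x).image _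
  have step : ∀ z ∈ O, ∃ z' ∈ O, z ⤳ z' ∧ z ≠ z' := by
    rintro _ ⟨ρ, hρ, rfl⟩
    obtain ⟨ρ', h1, h2⟩ := G.s.isClosedMap.specializingMap (show G.s ρ ⤳ G.t r from (show G.s ρ = x from hρ) ▸ hsp)
    obtain ⟨z, h3, h4⟩ := Groth.Agent.GrpdB.exists_comp_point ρ' r h2
    refine ⟨G.t ρ', ⟨z, h4, h3⟩, h1.map G.t.continuous, fun he => ?_⟩
    have := (G.t.isDiscrete_preimage_singleton (G.t ρ)).to_subtype
    have hh : (⟨ρ, rfl⟩ : ↥(⇑G.t ⁻¹' {G.t ρ})) ⤳ ⟨ρ', he.symm⟩ :=
      (Topology.IsInducing.subtypeVal.specializes_iff).1 h1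
    have : ρ = ρ' := congrArg Subtype.val hh.eq
    exact hne ((show G.s ρ = x from hρ).symm.trans ((congrArg G.s this).trans h2))
  let := specializationOrder G.U
  obtain ⟨z, hz⟩ := hO.exists_minimal ⟨G.t r, r, rfl, rfl⟩
  obtain ⟨z', hz', hzz', hne'⟩ := step z hz.1
  exact hne' (le_antisymm (hz.2 hz' hzz') hzz')

end Groth.Agent.S7464
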