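import Groth.Statements.S7474
import Groth.Agent.Lib.HTop26.Site
-- import your own Groth.Agent.* helpers here

set_option autoImplicit false
universe w u
open HTop

namespace Groth.Agent.S7474

open CategoryTheory CategoryTheory.Limits AlgebraicGeometry in
/-- A presheaf F of sets on the category of all schemes has the sheaf property for every V covering
family exactly when F is a sheaf for the Zariski topology and has the sheaf property for each
standard V covering. -/
theorem result (F : Scheme.{u}ᵒᵖ ⥤ Type w) : HTop.IsVSheaf F ↔ (Presieve.IsSheaf Scheme.zariskiTopology F ∧ ∀ (T : Scheme.{u}) (E : PreZeroHypercover.{u} T), HTop.IsStandardV E → Presieve.IsSheafFor F E.presieve₀) := by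
  constructor
  · intro hF
    exact ⟨HTop26.zariski_of_isVSheaf hF, fun T E hE => hF _ ((HTop.presieve₀_mem_vPrecoverage_iff E).mpr (HTop26.IsStandardV.isVCover hE))⟩
  · rintro ⟨hz, hs⟩
    refine HTop26.isVSheaf_of hz fun U E hE => HTop26.mem_topOf_of_affine hz _ fun Z _ g => ?_
    have hE' := HTop26.isStandardV_reindex (HTop26.isStandardV_pullback₁ g hE) (Equiv.ulift.{u} (α := E.I₀))
    have := hs Z _ hE'
    rw [PreZeroHypercover.presieve₀_reindex] at this
    rw [HTop26.pullback_generate_presieve₀, ← Presieve.isSheafFor_iff_generate]
    exact this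

end Groth.Agent.S7474
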