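import Groth.Statements.S7475
import Groth.Agent.Lib.HTop26.Site
-- import your own Groth.Agent.* helpers here

set_option autoImplicit false
universe w u
open HTop

namespace Groth.Agent.S7475

open CategoryTheory CategoryTheory.Limits AlgebraicGeometry in
/-- Variant with a single arrow: a presheaf of sets on all schemes has the sheaf property for every V
covering family exactly when it is a Zariski sheaf and has the sheaf property for every morphism V
-> U of affine schemes that on its own forms a standard V covering. -/
theorem result (F : Scheme.{u}ᵒᵖ ⥤ Type w) : HTop.IsVSheaf F ↔ (Presieve.IsSheaf Scheme.zariskiTopology F ∧ ∀ (U V : Scheme.{u}) (f : V ⟶ U), HTop.IsStandardV (PreZeroHypercover.singleton f) → Presieve.IsSheafFor F (Presieve.singleton f)) := by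
  constructor
  · intro hF
    refine ⟨HTop26.zariski_of_isVSheaf hF, fun U V f hf => ?_⟩
    have := hF _ ((HTop.presieve₀_mem_vPrecoverage_iff _).mpr (HTop26.IsStandardV.isVCover hf))
    rwa [PreZeroHypercover.presieve₀_singleton] at this
  · rintro ⟨hz, hs⟩
    refine HTop26.isVSheaf_of hz fun U E hE => ?_
    let E' : PreZeroHypercover.{u} U := E.reindex (Equiv.ulift.{u} (α := E.I₀))
    have hE' : HTop.IsStandardV E' := HTop26.isStandardV_reindex hE _
    have := hE'.finite_index
    have := hE'.isAffine_obj
    have := hE.isAffine
    have hd : HTop.IsStandardV (PreZeroHypercover.singleton (Sigma.desc E'.f)) :=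
      ⟨hE.isAffine, inferInstanceAs (Finite PUnit), fun _ => inferInstanceAs (IsAffine (∐ E'.X)),
        HTop26.HasValLift.of_refines hE'.lift fun j => ⟨PUnit.unit, Sigma.ι E'.X j, (Sigma.ι_desc _ _).trans (Category.comp_id _).symm⟩⟩
    have hmem : Sieve.generate E'.presieve₀ ∈ HTop26.topOf F U := by
      refine HTop26.presieve₀_mem_topOf_of_sigmaDesc hz E' (HTop26.mem_topOf_of_affine hz _ fun Z _ g => ?_)
      rw [HTop26.pullback_generate_singleton, ← Presieve.isSheafFor_iff_generate]
      exact hs _ _ _ (HTop26.isStandardV_pullback₁ g hd)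
    have heq : E'.presieve₀ = E.presieve₀ := PreZeroHypercover.presieve₀_reindex _ _
    rwa [heq] at hmem

end Groth.Agent.S7475
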