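import Groth.Statements.S7484
import Groth.Agent.Lib.SchDesc12.FiniteOrbit


set_option autoImplicit false
open CategoryTheory CategoryTheory.Limits AlgebraicGeometry
universe u
open Desc

namespace Groth.Agent.S7484

/-- Let p : X -> Y be a surjective finite locally free morphism and d a positive integer such that for
every algebraically closed field k and every k-point of Y there are at most d k-points of X over it.
Let V be a scheme over X such that any d points of V (not necessarily distinct) lying over one point
of Y are contained in an affine open of V. Then every descent datum on V relative to p is effective.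
(Descent data are taken in functor-of-points form.) -/
theorem result {X Y : Scheme.{u}} (p : X ⟶ Y) [Surjective p] [IsFinite p] [Flat p] [LocallyOfFinitePresentation p] (d : ℕ) (hd : 0 < d) (hfib : ∀ (k : Type u) [Field k] [IsAlgClosed k] (y : Spec (CommRingCat.of k) ⟶ Y), Set.encard {x : Spec (CommRingCat.of k) ⟶ X | x ≫ p = y} ≤ d) (D : Desc.SchDD p) (hV : ∀ (y : Y) (v : Fin d → ↑(D.obj.left)), (∀ i, p (D.obj.hom (v i)) = y) → ∃ U : D.obj.left.Opens, IsAffineOpen U ∧ ∀ i, v i ∈ U) : ∃ W : Over Y, Nonempty ((Desc.toDD p).obj W ≅ D) := by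
  let E := (Desc.SchDDFam.ofSchDD.{u} p).obj D
  refine SchDesc12.exists_iso_of_isEffective D
    (SchDesc12.isEffective_of_orbit_affine E fun v => ?_)
  classical
  have hfin := SchDesc12.finite_orbit E v
  have hcard : hfin.toFinset.card ≤ d := by
    have h := SchDesc12.encard_orbit_le E d hfib v
    rw [hfin.encard_eq_coe_toFinset_card] at h
    exact_mod_cast h
  let w : Fin d → ↑(D.obj.left) := fun i =>
    if h : i.1 < hfin.toFinset.card then (hfin.toFinset.equivFin.symm ⟨i.1, h⟩).1 else v
  obtain ⟨U, hU, hmem⟩ := hV (p (D.obj.hom v)) w fun i => by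
    refine SchDesc12.Rel.map_eq E ?_
    show w i ∈ SchDesc12.orbit E v
    by_cases h : i.1 < hfin.toFinset.card
    · rw [show w i = _ from dif_pos h]
      exact hfin.mem_toFinset.1 (hfin.toFinset.equivFin.symm _).2
    · rw [show w i = _ from dif_neg h]
      exact SchDesc12.Rel.refl E v
  refine ⟨U, hU, fun v' hv' => ?_⟩
  have hv'' : v' ∈ hfin.toFinset := hfin.mem_toFinset.2 hv'
  let j := hfin.toFinset.equivFin ⟨v', hv''⟩
  have := hmem ⟨j.1, j.2.trans_le hcard⟩
  rw [show w ⟨j.1, j.2.trans_le hcard⟩ = _ from dif_pos j.2] at this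
  rw [show (⟨j.1, j.2⟩ : Fin _) = j from rfl, Equiv.symm_apply_apply] at this
  exact this

end Groth.Agent.S7484
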