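import Groth.Statements.S7486
import Groth.Agent.Lib.GrpQuot.Affine
import Mathlib.LinearAlgebra.TensorProduct.Basis

set_option autoImplicit false
universe u
open CategoryTheory CategoryTheory.Limits AlgebraicGeometry
open Grpd

namespace Groth.Agent.S7486

open TensorProduct

/-- `B` with the algebra structure through the target. -/
def ViaT {A B : Type u} [CommRing A] [CommRing B] (_t : A →+* B) : Type u := B

noncomputable instance {A B : Type u} [CommRing A] [CommRing B] (t : A →+* B) : CommRing (ViaT t) :=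
  inferInstanceAs (CommRing B)

noncomputable instance {A B : Type u} [CommRing A] [CommRing B] (t : A →+* B) : Algebra A (ViaT t) :=
  (RingHom.toAlgebra t : Algebra A B)

variable {A B : Type u} [CommRing A] [CommRing B] [Algebra A B] (t : A →+* B) {I : Type u}
  (x : I → A) (b : Module.Basis I A B) (hb : ∀ i, b i = t (x i))
  (hmul : ∀ {L : Type u} [CommRing L] (φ ψ : B →+* L), φ.comp (algebraMap A B) = ψ.comp t →
    ∃ μ : B →+* L, μ.comp (algebraMap A B) = ψ.comp (algebraMap A B) ∧ μ.comp t = φ.comp t)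

include hb hmul in
theorem coeff_invariant (a : A) (i : I) :
    algebraMap A B (b.repr (t a) i) = t (b.repr (t a) i) := by
  classical
  set c := b.repr (t a)
  let ψ : B →+* ViaT t ⊗[A] B := (Algebra.TensorProduct.includeLeftRingHom : ViaT t →+* ViaT t ⊗[A] B)
  let φ : B →+* ViaT t ⊗[A] B := (Algebra.TensorProduct.includeRight : B →ₐ[A] ViaT t ⊗[A] B).toRingHom
  have hc : φ.comp (algebraMap A B) = ψ.comp t := RingHom.ext fun r ↦ by
    show (Algebra.TensorProduct.includeRight : B →ₐ[A] ViaT t ⊗[A] B) (algebraMap A B r) = _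
    rw [AlgHom.commutes]
    rfl
  obtain ⟨μ, hμs, hμt⟩ := hmul φ ψ hc
  have hta : t a = c.sum fun i r ↦ algebraMap A B r * t (x i) := by
    conv_lhs => rw [← b.linearCombination_repr (t a), Finsupp.linearCombination_apply]
    refine Finsupp.sum_congr fun i _ ↦ ?_
    rw [hb, Algebra.smul_def]
  have e1 : φ (t a) = c.sum fun i r ↦ ψ (t r) * φ (t (x i)) := by
    rw [hta, map_finsuppSum]
    refine Finsupp.sum_congr fun i _ ↦ ?_
    rw [map_mul, ← RingHom.comp_apply φ, hc, RingHom.comp_apply]
  have e2 : φ (t a) = c.sum fun i r ↦ ψ (algebraMap A B r) * φ (t (x i)) := by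
    rw [← RingHom.comp_apply φ, ← hμt, RingHom.comp_apply, hta, map_finsuppSum]
    refine Finsupp.sum_congr fun i _ ↦ ?_
    rw [map_mul, ← RingHom.comp_apply μ, hμs, ← RingHom.comp_apply μ, hμt]
    rfl
  let d : I →₀ ViaT t := Finsupp.onFinset c.support
    (fun i ↦ ((algebraMap A B (c i) - t (c i) : B) : ViaT t)) fun i hi ↦ by
      rw [Finsupp.mem_support_iff]
      intro h0
      refine hi ?_
      show (algebraMap A B (c i) - t (c i) : B) = 0
      rw [h0, map_zero, map_zero, sub_zero]
  have hd : (d.sum fun i r ↦ r ⊗ₜ[A] b i) = 0 := by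
    refine (Finsupp.onFinset_sum (g := fun i (r : ViaT t) ↦ r ⊗ₜ[A] b i) _
      (fun i ↦ zero_tmul (ViaT t) (b i))).trans ?_
    have h3 := e2.symm.trans e1
    rw [Finsupp.sum, Finsupp.sum, ← sub_eq_zero, ← Finset.sum_sub_distrib] at h3
    refine Eq.trans (Finset.sum_congr rfl fun i _ ↦ ?_) h3
    rw [← sub_mul, ← map_sub, hb]
    show _ = ((show ViaT t from (algebraMap A B (c i) - t (c i) : B)) ⊗ₜ[A] (1 : B)) *
      ((1 : ViaT t) ⊗ₜ[A] t (x i))
    rw [Algebra.TensorProduct.tmul_mul_tmul, mul_one, one_mul]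
  have h0 : d i = 0 := by rw [TensorProduct.sum_tmul_basis_right_eq_zero b d hd]; rfl
  exact sub_eq_zero.1 h0

variable (C : Subring A) (hC : ∀ a, a ∈ C ↔ algebraMap A B a = t a)
  (one : B →+* A) (one_s : ∀ a, one (algebraMap A B a) = a) (one_t : ∀ a, one (t a) = a)

include hb hmul hC one_s one_t in
theorem exists_basis : ∃ bC : Module.Basis I C A, ∀ i, bC i = x i := by
  classical
  refine ⟨Module.Basis.mk (v := x) ?_ ?_, fun i ↦ Module.Basis.mk_apply _ _ i⟩
  · rw [linearIndependent_iff]
    intro l hl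
    have h := congrArg t hl
    rw [map_zero, Finsupp.linearCombination_apply, map_finsuppSum] at h
    let l' : I →₀ A := l.mapRange Subtype.val rfl
    have h' : Finsupp.linearCombination A b l' = 0 := by
      rw [Finsupp.linearCombination_apply, Finsupp.sum_mapRange_index (fun i ↦ zero_smul A (b i))]
      refine Eq.trans (Finsupp.sum_congr fun i _ ↦ ?_) h
      rw [hb, Algebra.smul_def, (hC _).1 (l i).2, ← map_mul]
      rfl
    have := linearIndependent_iff.1 b.linearIndependent l' h'
    ext i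
    exact congrArg (fun f ↦ f i) this
  · intro a _
    have hta := b.linearCombination_repr (t a)
    have h := congrArg one hta
    rw [one_t, Finsupp.linearCombination_apply, map_finsuppSum] at h
    rw [← h]
    refine Submodule.sum_mem _ fun i _ ↦ ?_
    show one ((b.repr (t a)) i • b i) ∈ _
    rw [hb, Algebra.smul_def, map_mul, one_s, one_t]
    exact Submodule.smul_mem _ (⟨_, (hC _).2 (coeff_invariant t x b hb hmul a i)⟩ : C)
      (Submodule.subset_span ⟨i, rfl⟩)

include hb in
theorem bijective_phi (bC : Module.Basis I C A) (hbC : ∀ i, bC i = x i)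
    (φ : A ⊗[C] A →+ B) (hφ : ∀ a a', φ (a ⊗ₜ[C] a') = t a * algebraMap A B a') :
    Function.Bijective φ := by
  classical
  let E := TensorProduct.equivFinsuppOfBasisLeft (N := A) bC
  have key : ∀ z, φ z = b.repr.symm (E z) := by
    intro z
    obtain ⟨f, rfl⟩ := E.symm.surjective z
    rw [LinearEquiv.apply_symm_apply, TensorProduct.equivFinsuppOfBasisLeft_symm_apply,
      map_finsuppSum, b.repr_symm_apply, Finsupp.linearCombination_apply]
    refine Finsupp.sum_congr fun i _ ↦ ?_
    rw [hφ, hbC, hb, Algebra.smul_def, mul_comm]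
  rw [show (φ : A ⊗[C] A → B) = b.repr.symm ∘ E from funext key]
  exact b.repr.symm.bijective.comp E.bijective

/-- Let (U, R, s, t, c) be a groupoid scheme over S with U = Spec A and R = Spec B affine (A, B the
rings of global functions), and let x_i, i in I, be elements of A such that B is free as an A-module
through s^# with basis the elements t^#(x_i). Let C be the subring of R-invariant functions (those a
with s^#(a) = t^#(a)). Then the x_i form a basis of A as a C-module, and the C-linear map A (x)_C A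
-> B sending a (x) a' to t^#(a) s^#(a') is bijective (B carries the C-module structure through s^#).
(A groupoid scheme carries U, R, s, t, c, e, i over S with the groupoid axioms on T-points; c is
defined on the fibre product of s and t and sends a pair (a, b) with s(a) = t(b) to a composed with
b.) -/
theorem result (S : Scheme.{u}) (G : Grpd.GroupoidScheme S) [IsAffine G.U] [IsAffine G.R] (I : Type u) (x : I → Γ(G.U, ⊤)) (hB : letI := G.s.appTop.hom.toAlgebra; ∃ b : Module.Basis I Γ(G.U, ⊤) Γ(G.R, ⊤), ∀ i, b i = G.t.appTop.hom (x i)) : (∃ b : Module.Basis I G.invariants Γ(G.U, ⊤), ∀ i, b i = x i) ∧ (letI := (G.s.appTop.hom.comp G.invariants.subtype).toAlgebra; ∀ φ : TensorProduct G.invariants Γ(G.U, ⊤) Γ(G.U, ⊤) →ₗ[G.invariants] Γ(G.R, ⊤), (∀ a a' : Γ(G.U, ⊤), φ (a ⊗ₜ[G.invariants] a') = G.t.appTop.hom a * G.s.appTop.hom a') → Function.Bijective φ) := by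
  open Groth.Agent.GrpQuot in
  letI : Algebra Γ(G.U, ⊤) Γ(G.R, ⊤) := G.s.appTop.hom.toAlgebra
  obtain ⟨b, hb⟩ := hB
  have hmul : ∀ {L : Type u} [CommRing L] (φ ψ : Γ(G.R, ⊤) →+* L),
      φ.comp (algebraMap Γ(G.U, ⊤) Γ(G.R, ⊤)) = ψ.comp G.t.appTop.hom →
      ∃ μ : Γ(G.R, ⊤) →+* L, μ.comp (algebraMap Γ(G.U, ⊤) Γ(G.R, ⊤)) =
        ψ.comp (algebraMap Γ(G.U, ⊤) Γ(G.R, ⊤)) ∧ μ.comp G.t.appTop.hom = φ.comp G.t.appTop.hom :=
    fun φ ψ h => ⟨Groth.Agent.GrpQuot.mulR G φ ψ h, Groth.Agent.GrpQuot.mulR_s G φ ψ h,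
      Groth.Agent.GrpQuot.mulR_t G φ ψ h⟩
  have one_s : ∀ a, G.e.appTop.hom (G.s.appTop.hom a) = a := fun a => by
    rw [← RingHom.comp_apply, Groth.Agent.GrpQuot.appTop_comp_hom, G.e_s,
      Groth.Agent.GrpQuot.appTop_id_hom]; rfl
  have one_t : ∀ a, G.e.appTop.hom (G.t.appTop.hom a) = a := fun a => by
    rw [← RingHom.comp_apply, Groth.Agent.GrpQuot.appTop_comp_hom, G.e_t,
      Groth.Agent.GrpQuot.appTop_id_hom]; rfl
  obtain ⟨bC, hbC⟩ := exists_basis G.t.appTop.hom x b hb hmul G.invariants (fun a => Iff.rfl)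
    G.e.appTop.hom one_s one_t
  refine ⟨⟨bC, hbC⟩, ?_⟩
  intro φ hφ
  exact bijective_phi G.t.appTop.hom x b hb G.invariants bC hbC φ.toAddMonoidHom hφ

end Groth.Agent.S7486
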