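import Groth.Statements.S7487
import Groth.Agent.Lib.GrpQuot.InvariantBC
import Groth.Agent.Lib.GrpQuot.Affine

set_option autoImplicit false
universe u
open CategoryTheory CategoryTheory.Limits AlgebraicGeometry
open Grpd

namespace Groth.Agent.S7487

open TensorProduct
set_option linter.style.haveILetI false

theorem flat_invariants {A B : Type u} [CommRing A] [CommRing B] (C : Subring A) (s t : A →+* B)
    (hC : ∀ a, a ∈ C ↔ s a = t a) [Algebra C B] (halg : ∀ c : C, algebraMap C B c = s c)
    (C' : Type u) [CommRing C'] [Algebra C C'] [Module.Flat C C']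
    (sT tT : A ⊗[C] C' →ₐ[C] B ⊗[C] C') (hsT : ∀ a c, sT (a ⊗ₜ c) = s a ⊗ₜ c)
    (htT : ∀ a c, tT (a ⊗ₜ c) = t a ⊗ₜ c) :
    Function.Injective (Algebra.TensorProduct.includeRight : C' →ₐ[C] A ⊗[C] C') ∧
      ∀ f, sT f = tT f → f ∈ Set.range (Algebra.TensorProduct.includeRight : C' →ₐ[C] A ⊗[C] C') := by
  let D₀ : A →ₗ[C] B :=
    { toFun := fun a => s a - t a
      map_add' := fun a b => by rw [map_add, map_add, add_sub_add_comm]
      map_smul' := fun c a => by
        rw [Algebra.smul_def, Algebra.smul_def, halg, map_mul, map_mul, RingHom.id_apply, mul_sub]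
        show s (c : A) * _ - t (c : A) * _ = _
        rw [← (hC c).1 c.2] }
  let inc := Algebra.linearMap C A
  have hex : Function.Exact inc D₀ := fun a => by
    refine ⟨fun h => ⟨⟨a, (hC a).2 (sub_eq_zero.1 h)⟩, rfl⟩, ?_⟩
    rintro ⟨c, rfl⟩
    exact sub_eq_zero.2 ((hC _).1 c.2)
  have hr := Module.Flat.rTensor_exact C' hex
  have key : ∀ z, inc.rTensor C' z =
      (Algebra.TensorProduct.includeRight : C' →ₐ[C] A ⊗[C] C') (TensorProduct.lid C C' z) := by
    intro z
    induction z using TensorProduct.induction_on with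
    | zero => simp
    | add x y hx hy => rw [map_add, map_add, map_add, hx, hy]
    | tmul r c =>
      rw [LinearMap.rTensor_tmul, TensorProduct.lid_tmul, Algebra.TensorProduct.includeRight_apply,
        TensorProduct.tmul_smul, TensorProduct.smul_tmul', Algebra.linearMap_apply, Algebra.smul_def,
        mul_one]
  have hinj : Function.Injective (inc.rTensor C') :=
    Module.Flat.rTensor_preserves_injective_linearMap inc Subtype.val_injective
  refine ⟨fun x y e => ?_, fun f hf => ?_⟩
  · have k1 := key ((TensorProduct.lid C C').symm x)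
    have k2 := key ((TensorProduct.lid C C').symm y)
    rw [LinearEquiv.apply_symm_apply] at k1 k2
    exact (TensorProduct.lid C C').symm.injective (hinj (k1.trans (e.trans k2.symm)))
  · have hD : ∀ g, D₀.rTensor C' g = sT g - tT g := by
      intro g
      induction g using TensorProduct.induction_on with
      | zero => simp
      | add x y hx hy => rw [map_add, map_add, map_add, hx, hy, add_sub_add_comm]
      | tmul a c => rw [LinearMap.rTensor_tmul, hsT, htT, ← TensorProduct.sub_tmul]; rfl
    obtain ⟨z, hz⟩ := (hr f).1 ((hD f).trans (sub_eq_zero.2 hf))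
    exact ⟨_, (key z).symm.trans hz⟩

/-- Let (U, R, s, t, c) be a groupoid scheme over S with U = Spec A and R = Spec B affine and s, t
finite locally free; let C be the subring of R-invariant functions of A and C -> C' a ring map. Put
A' = A (x)_C C' and B' = B (x)_C C' (B a C-algebra through s^#) and let C^1 be the subring of A'
where the two maps s^# (x) 1, t^# (x) 1 : A' -> B' agree; the structure map C' -> A' lands in C^1,
giving φ : C' -> C^1. Then: (a) for every f in C^1 there are n > 0 and a polynomial P over C' whose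
image in A'[x] is (x - f)^n; (b) every element of the kernel of φ is nilpotent; (c) if C -> C' is
flat then φ is bijective, that is C' -> A' is injective with image C^1. (The published statement
also asserts that the base change is again a groupoid scheme; this row omits that clause.) (A
groupoid scheme carries U, R, s, t, c, e, i over S with the groupoid axioms on T-points; c is
defined on the fibre product of s and t and sends a pair (a, b) with s(a) = t(b) to a composed with
b.) -/
theorem result (S : Scheme.{u}) (G : Grpd.GroupoidScheme S) [IsAffine G.U] [IsAffine G.R] [IsFinite G.s] [Flat G.s] [LocallyOfFinitePresentation G.s] [IsFinite G.t] [Flat G.t] [LocallyOfFinitePresentation G.t] (C' : Type u) [CommRing C'] [Algebra G.invariants C'] : letI : Algebra G.invariants Γ(G.R, ⊤) := (G.s.appTop.hom.comp G.invariants.subtype).toAlgebra; ∀ (sT tT : TensorProduct G.invariants Γ(G.U, ⊤) C' →ₐ[G.invariants] TensorProduct G.invariants Γ(G.R, ⊤) C'), (∀ (a : Γ(G.U, ⊤)) (c : C'), sT (a ⊗ₜ c) = G.s.appTop.hom a ⊗ₜ c) → (∀ (a : Γ(G.U, ⊤)) (c :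 C'), tT (a ⊗ₜ c) = G.t.appTop.hom a ⊗ₜ c) → (∀ f : TensorProduct G.invariants Γ(G.U, ⊤) C', sT f = tT f → ∃ (n : ℕ) (P : Polynomial C'), 0 < n ∧ Polynomial.map (Algebra.TensorProduct.includeRight : C' →ₐ[G.invariants] TensorProduct G.invariants Γ(G.U, ⊤) C').toRingHom P = (Polynomial.X - Polynomial.C f) ^ n) ∧ (∀ c : C', (Algebra.TensorProduct.includeRight : C' →ₐ[G.invariants] TensorProduct G.invariants Γ(G.U, ⊤) C') c = 0 → IsNilpotent c) ∧ (Module.Flat G.invariants C' → Function.Injective (Algebra.TensorProduct.includeRight : C' →ₐ[G.invariants] TensorProduct G.invariants Γ(G.U, ⊤) C') ∧ ∀ f : TensorProduct G.invariants Γ(G.U, ⊤) C', sT f = tT f → f ∈ Set.range (Algebra.TensorProduct.includeRight : C' →ₐ[G.invariants] TensorProduct G.invariants Γ(G.U, ⊤) C')) := by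
  intro sT tT hsT htT
  letI : Algebra Γ(G.U, ⊤) Γ(G.R, ⊤) := G.s.appTop.hom.toAlgebra
  letI : Algebra G.invariants Γ(G.R, ⊤) := (G.s.appTop.hom.comp G.invariants.subtype).toAlgebra
  haveI : IsScalarTower G.invariants Γ(G.U, ⊤) Γ(G.R, ⊤) := IsScalarTower.of_algebraMap_eq fun _ => rfl
  obtain ⟨h1, h2⟩ := Groth.Agent.GrpQuot.algebra_props G
  haveI := h1
  haveI := h2
  haveI := Groth.Agent.GrpQuot.isIntegral_invariants G
  refine ⟨fun f hf => Groth.Agent.GrpQuot.exists_pow_eq (Groth.Agent.GrpQuot.grpR G) G.invariants
      (fun a => Iff.rfl) C' sT tT hsT htT f hf,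
    fun c hc => Groth.Agent.GrpQuot.isNilpotent_of_includeRight_eq_zero Subtype.val_injective C' c hc,
    fun hflat => ?_⟩
  haveI := hflat
  exact flat_invariants G.invariants G.s.appTop.hom G.t.appTop.hom
    (fun a => Iff.rfl) (fun _ => rfl) C' sT tT hsT htT

end Groth.Agent.S7487
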