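import Groth.Statements.S7489
import Groth.Agent.Lib.GrpProfinite3.Main

set_option autoImplicit false
universe u
open CategoryTheory MonoidalCategory CartesianMonoidalCategory MonObj GrpObj AlgebraicGeometry
open GrpSch

namespace Groth.Agent.S7489

open CategoryTheory CategoryTheory.Limits AlgebraicGeometry MonoidalCategory CartesianMonoidalCategory

/-- Let k be an algebraically closed field and G a group scheme over k such that the underlying space of
G is Jacobson and every closed point of G is k-rational (the image of a section of G -> Spec k). Let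
A be a k-algebra such that every finite subset of A is contained in a k-subalgebra isomorphic to a
finite product of copies of k (A is a directed colimit of such algebras), and f : Spec A -> G a
morphism over k. Then there is an affine open U of G containing the image of f. -/
theorem result (k : Type u) [Field k] [IsAlgClosed k] (G : Over (Spec (CommRingCat.of k))) [GrpObj G] [JacobsonSpace G.left] (hrat : ∀ g : G.left, IsClosed ({g} : Set G.left) → ∃ x : Spec (CommRingCat.of k) ⟶ G.left, x ≫ G.hom = 𝟙 _ ∧ x (IsLocalRing.closedPoint k) = g) (A : Type u) [CommRing A] [Algebra k A] (hA : ∀ s : Finset A, ∃ (B : Subalgebra k A) (n : ℕ), (↑s : Set A) ⊆ (B : Set A) ∧ Nonempty (B ≃ₐ[k] (Fin n → k))) (f : Spec (CommRingCat.of A) ⟶ G.left) (hf : f ≫ G.hom = Spec.map (CommRingCat.ofHom (algebraMap k A))) : ∃ U : G.left.Opens, IsAffineOpen U ∧ Set.range ⇑f ⊆ (U : Set G.left) := by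
  classical
  have hint : Algebra.IsIntegral k A := ⟨fun a => by
    obtain ⟨B, n, hs, ⟨e⟩⟩ := hA {a}
    haveI : Module.Finite k B := Module.Finite.equiv e.symm.toLinearEquiv
    exact (Algebra.IsIntegral.isIntegral (⟨a, hs (by simp)⟩ : B)).map B.val⟩
  let T : Over (Spec (CommRingCat.of k)) := Over.mk (Spec.map (CommRingCat.ofHom (algebraMap k A)))
  haveI : IsIntegralHom T.hom := by
    show IsIntegralHom (Spec.map (CommRingCat.ofHom (algebraMap k A)))
    rw [IsIntegralHom.SpecMap_iff]
    exact fun a => Algebra.IsIntegral.isIntegral (R := k) a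
  haveI : CompactSpace T.left := inferInstanceAs (CompactSpace ↥(Spec (CommRingCat.of A)))
  have hrat' : ∀ g : G.left, IsClosed ({g} : Set G.left) →
      ∃ x : 𝟙_ (Over (Spec (CommRingCat.of k))) ⟶ G, GrpProf.pt x = g := fun g hg => by
    obtain ⟨x, hx, hxg⟩ := hrat g hg
    exact ⟨Over.homMk x hx, hxg⟩
  have hT : ∀ t : T.left, ∃ x : 𝟙_ (Over (Spec (CommRingCat.of k))) ⟶ T, GrpProf.pt x = t := fun t => by
    let p : PrimeSpectrum A := t
    have hb : Function.Bijective (algebraMap k (A ⧸ p.asIdeal)) :=
      IsAlgClosed.algebraMap_bijective_of_isIntegral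
    let e := RingEquiv.ofBijective (algebraMap k (A ⧸ p.asIdeal)) hb
    let φ : A →+* k := e.symm.toRingHom.comp (Ideal.Quotient.mk p.asIdeal)
    refine ⟨Over.homMk (Spec.map (CommRingCat.ofHom φ)) ?_, ?_⟩
    · show Spec.map (CommRingCat.ofHom φ) ≫ Spec.map (CommRingCat.ofHom (algebraMap k A)) =
        𝟙 (Spec (CommRingCat.of k))
      rw [← Spec.map_comp, ← CommRingCat.ofHom_comp,
        show φ.comp (algebraMap k A) = RingHom.id k from RingHom.ext fun c => e.symm_apply_apply c,
        CommRingCat.ofHom_id, Spec.map_id]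
    · refine PrimeSpectrum.ext ?_
      show Ideal.comap φ (IsLocalRing.closedPoint k).asIdeal = p.asIdeal
      ext a
      show φ a ∈ IsLocalRing.maximalIdeal k ↔ _
      rw [IsLocalRing.maximalIdeal_eq_bot, Ideal.mem_bot]
      show e.symm (Ideal.Quotient.mk p.asIdeal a) = 0 ↔ _
      rw [RingEquiv.map_eq_zero_iff, Ideal.Quotient.eq_zero_iff_mem]
  exact GrpProf.exists_affine_superset hrat' hT (Over.homMk f hf : T ⟶ G)

end Groth.Agent.S7489
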