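import Groth.Statements.S7493
import Groth.Agent.Lib.GrpQuot.AutExtend
import Mathlib.AlgebraicGeometry.Pullbacks
import Mathlib.AlgebraicGeometry.ResidueField

set_option autoImplicit false
universe u
open CategoryTheory CategoryTheory.Limits AlgebraicGeometry
open Grpd

namespace Groth.Agent.S7493

set_option backward.isDefEq.respectTransparency.types false

/-- A point split by a morphism to the spectrum of its field has the same residue field. -/
theorem isIso_residueFieldMap_of_comp {X Y Z : Scheme.{u}} (w : X ⟶ Y) (q : Y ⟶ Z) [IsIso (w ≫ q)] (x : X) :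
    IsIso (q.residueFieldMap (w x)) := by
  have h : IsIso (q.residueFieldMap (w x) ≫ w.residueFieldMap x) := by
    haveI : IsOpenImmersion (w ≫ q) := IsOpenImmersion.of_isIso (w ≫ q)
    rw [← Scheme.residueFieldMap_comp]; exact inferInstanceAs (IsIso (Scheme.Hom.residueFieldMap (w ≫ q) x))
  have hw : IsIso (w.residueFieldMap x) := by
    rw [ConcreteCategory.isIso_iff_bijective]
    refine ⟨(w.residueFieldMap x).hom.injective, fun y => ?_⟩
    obtain ⟨z, hz⟩ := ((ConcreteCategory.isIso_iff_bijective _).1 h).2 y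
    exact ⟨q.residueFieldMap (w x) z, hz⟩
  exact IsIso.of_isIso_comp_right (q.residueFieldMap (w x)) (w.residueFieldMap x)


/-- Let (U, R, s, t, c) be a groupoid scheme over S with U = Spec k for a field k, and let r be a point
of R. Then there exist a field extension k -> k' with k' algebraically closed and a point r' of the
restriction R' of R along g : U' = Spec k' -> U, that is R' = (U' x_(g,U,t) R) x_(s pr, U, g) U'
with t' the projection to the first factor U' and s' the projection to the last factor U', such that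
r' maps to r under R' -> R and both s' and t' induce isomorphisms on residue fields at r' (k' ->
κ(r') bijective). (A groupoid scheme carries U, R, s, t, c, e, i over S with the groupoid axioms on
T-points; c is defined on the fibre product of s and t and sends a pair (a, b) with s(a) = t(b) to a
composed with b.) -/
theorem result (S : Scheme.{u}) (G : Grpd.GroupoidScheme S) (k : Type u) [Field k] (eU : G.U ≅ Spec (CommRingCat.of k)) (r : G.R) : ∃ (k' : Type u) (_ : Field k') (_ : IsAlgClosed k') (_ : Algebra k k'), ∃ r' : ↑(pullback (pullback.snd (Spec.map (CommRingCat.ofHom (algebraMap k k')) ≫ eU.inv) G.t ≫ G.s) (Spec.map (CommRingCat.ofHom (algebraMap k k')) ≫ eU.inv)), (pullback.fst (pullback.snd (Spec.map (CommRingCat.ofHom (algebraMap k k')) ≫ eU.inv) G.t ≫ G.s) (Spec.map (CommRingCat.ofHom (algebraMap k k')) ≫ eU.inv) ≫ pullback.snd (Spec.map (CommRingCat.ofHom (algebraMap k k')) ≫ eU.inv) G.t) r' = r ∧ IsIso ((pullback.snd (pullback.snd (Spec.map (CommRingCat.ofHom (algebraMap k k')) ≫ eU.inv) G.t ≫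 G.s) (Spec.map (CommRingCat.ofHom (algebraMap k k')) ≫ eU.inv)).residueFieldMap r') ∧ IsIso ((pullback.fst (pullback.snd (Spec.map (CommRingCat.ofHom (algebraMap k k')) ≫ eU.inv) G.t ≫ G.s) (Spec.map (CommRingCat.ofHom (algebraMap k k')) ≫ eU.inv) ≫ pullback.fst (Spec.map (CommRingCat.ofHom (algebraMap k k')) ≫ eU.inv) G.t).residueFieldMap r') := by
  obtain ⟨K, _, _, ρ, hK₁, hK₂⟩ := GrpQuot.exists_large_extension (G.R.residueField r) k
  obtain ⟨p, hp⟩ : ∃ p : Spec (CommRingCat.of K) ⟶ G.R,
      p = Spec.map (CommRingCat.ofHom ρ) ≫ G.R.fromSpecResidueField r := ⟨_, rfl⟩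
  obtain ⟨i, hi⟩ := Spec.map_surjective (p ≫ G.s ≫ eU.hom)
  obtain ⟨j, hj⟩ := Spec.map_surjective (p ≫ G.t ≫ eU.hom)
  obtain ⟨β, hβ⟩ := GrpQuot.exists_aut_comp_eq hK₁ hK₂ i.hom j.hom
  let : Algebra k K := i.hom.toAlgebra
  let gk : Spec (CommRingCat.of K) ⟶ G.U := Spec.map (CommRingCat.ofHom (algebraMap k K)) ≫ eU.inv
  let b : Spec (CommRingCat.of K) ⟶ Spec (CommRingCat.of K) := Spec.map β.toCommRingCatIso.hom
  have hs : p ≫ G.s = gk := by
    show _ = Spec.map i ≫ eU.inv
    rw [hi]; simp
  have ht : b ≫ gk = p ≫ G.t := by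
    show Spec.map β.toCommRingCatIso.hom ≫ Spec.map i ≫ eU.inv = _
    rw [← Spec.map_comp_assoc, show i ≫ β.toCommRingCatIso.hom = j from CommRingCat.hom_ext hβ, hj]
    simp
  let w₁ : Spec (CommRingCat.of K) ⟶ pullback gk G.t := pullback.lift b p ht
  have hw₁ : w₁ ≫ pullback.snd gk G.t = p := pullback.lift_snd _ _ _
  let w : Spec (CommRingCat.of K) ⟶ pullback (pullback.snd gk G.t ≫ G.s) gk :=
    pullback.lift w₁ (𝟙 _) (by rw [Category.id_comp, ← Category.assoc, hw₁, hs])
  have hw : w ≫ pullback.fst (pullback.snd gk G.t ≫ G.s) gk = w₁ := pullback.lift_fst _ _ _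
  let c : Spec (CommRingCat.of K) := IsLocalRing.closedPoint K
  refine ⟨K, inferInstance, inferInstance, inferInstance, w c, ?_, ?_, ?_⟩
  · rw [← Scheme.Hom.comp_apply, reassoc_of% hw, hw₁, hp, Scheme.Hom.comp_apply]
    exact G.R.fromSpecResidueField_apply r _
  · have : IsIso (w ≫ pullback.snd (pullback.snd gk G.t ≫ G.s) gk) := by
      rw [pullback.lift_snd]; infer_instance
    exact isIso_residueFieldMap_of_comp w _ c
  · have : IsIso (w ≫ pullback.fst (pullback.snd gk G.t ≫ G.s) gk ≫ pullback.fst gk G.t) := by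
      rw [reassoc_of% hw, pullback.lift_fst]; infer_instance
    exact isIso_residueFieldMap_of_comp w _ c

end Groth.Agent.S7493
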