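import Groth.Statements.S7494


set_option autoImplicit false
universe u
open CategoryTheory MonoidalCategory CartesianMonoidalCategory MonObj GrpObj AlgebraicGeometry
open AlgGrp

namespace Groth.Agent.S7494

/-- Let G be a group scheme over S acting on a scheme X over S by a. The action is free, meaning that
for every scheme T over S and all T-points g of G and x of X with g · x = x one has g = 1, if and
only if the morphism G x_S X -> X x_S X, (g, x) ↦ (a(g, x), x), is a monomorphism of schemes. -/
theorem result {S : Scheme.{u}} (G X : Over S) [GrpObj G] (a : AlgGrp.Action G X) : (∀ (T : Over S) (g : T ⟶ G) (x : T ⟶ X), lift g x ≫ a.act = x → g = toUnit T ≫ η[G]) ↔ Mono (lift a.act (snd G X)).left := by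
  constructor
  · intro h
    have : Mono (lift a.act (snd G X)) := by
      refine ⟨fun {T} u v huv => ?_⟩
      have h1 : u ≫ a.act = v ≫ a.act := by simpa using congrArg (· ≫ fst X X) huv
      have h2 : u ≫ snd G X = v ≫ snd G X := by simpa using congrArg (· ≫ snd X X) huv
      set g := u ≫ fst G X
      set g' := v ≫ fst G X
      set x := u ≫ snd G X
      have hu : u = lift g x := by ext <;> simp [g, x]
      have hv : v = lift g' x := by ext <;> simp [g', x, h2]
      rw [hu, hv] at h1
      have mul : ∀ p q : T ⟶ G, lift (p * q) x ≫ a.act = lift p (lift q x ≫ a.act) ≫ a.act := by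
        intro p q
        have := congrArg (lift (lift p q) x ≫ ·) a.mul_act
        simpa [lift_whiskerRight_assoc, lift_lift_associator_hom_assoc, lift_whiskerLeft_assoc, Hom.mul_def] using this
      have one : lift (1 : T ⟶ G) x ≫ a.act = x := by
        have := congrArg (lift (toUnit T) x ≫ ·) a.one_act
        simpa [lift_whiskerRight_assoc, Hom.one_def] using this
      have hfix : lift (g'⁻¹ * g) x ≫ a.act = x := by
        rw [mul, h1, ← mul, inv_mul_cancel, one]
      have := h T _ x hfix
      have hgg : g = g' := by
        rw [← Hom.one_def, inv_mul_eq_one] at this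
        exact this.symm
      rw [hu, hv, hgg]
    exact ((Over.forget S).map_mono (lift a.act (snd G X)) :)
  · intro h T g x hgx
    have : Mono (lift a.act (snd G X)) := (Over.forget S).mono_of_mono_map h
    have one : lift (toUnit T ≫ η[G]) x ≫ a.act = x := by
      have := congrArg (lift (toUnit T) x ≫ ·) a.one_act
      simpa [lift_whiskerRight_assoc] using this
    have := (cancel_mono (lift a.act (snd G X))).mp (show lift g x ≫ lift a.act (snd G X) = lift (toUnit T ≫ η[G]) x ≫ lift a.act (snd G X) by ext <;> simp [hgx, one])
    simpa using congrArg (· ≫ fst G X) this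

end Groth.Agent.S7494
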