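import Groth.Statements.S7496
import Groth.Agent.Lib.HTop26.VCover
-- import your own Groth.Agent.* helpers here

set_option autoImplicit false
universe w u
open CategoryTheory CategoryTheory.Limits AlgebraicGeometry
open HTop

namespace Groth.Agent.S7496

/-- Let T be a quasi-separated scheme and {f_i : T_i -> T} a family of morphisms. Then every affine open
of T is the union of the images of finitely many quasi-compact opens of the T_i (the
quasi-compactness condition in the definition of an fpqc covering) if and only if for every point t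
of T there are finitely many quasi-compact opens U_j of members T_(i_j) such that the union of the
f_(i_j)(U_j) is a neighbourhood of t. (The published statement also asks every f_i to be flat, on
both sides, and lists two more equivalent forms of the quasi-compactness condition; this row omits
flatness, which plays no part in the equivalence, and states only the equivalence of the
quasi-compactness condition with the neighbourhood condition.) -/
theorem result {T : Scheme.{u}} [QuasiSeparatedSpace T] (E : PreZeroHypercover.{w} T) : QuasiCompactCover E ↔ ∀ t : T, ∃ (n : ℕ) (i : Fin n → E.I₀) (V : ∀ j, (E.X (i j)).Opens), (∀ j, IsCompact (V j : Set (E.X (i j)))) ∧ (⋃ j, ⇑(E.f (i j)) '' (V j : Set (E.X (i j)))) ∈ nhds t := by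
  constructor
  · intro hE t
    obtain ⟨U, hU, htU, -⟩ := TopologicalSpace.Opens.isBasis_iff_nbhd.mp T.isBasis_affineOpens (show t ∈ (⊤ : T.Opens) from trivial)
    obtain ⟨n, a, V, hV, heq⟩ := QuasiCompactCover.exists_isAffineOpen_of_isCompact E hU.isCompact
    exact ⟨n, a, V, fun j => (hV j).isCompact, heq ▸ U.2.mem_nhds htU⟩
  · intro h
    refine ⟨fun {U} hU => ?_⟩
    choose n i V hV hmem using h
    have hcov : (U : Set T) ⊆ ⋃ t : T, interior (⋃ j, (E.f (i t j)) '' (V t j : Set (E.X (i t j)))) :=
      fun t _ => Set.mem_iUnion.mpr ⟨t, mem_interior_iff_mem_nhds.mpr (hmem t)⟩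
    obtain ⟨s, hs⟩ := hU.isCompact.elim_finite_subcover _ (fun t => isOpen_interior) hcov
    refine .of_finite (κ := Σ t : s, Fin (n t.1)) (fun p => i p.1.1 p.2) (fun p => V p.1.1 p.2 ⊓ E.f (i p.1.1 p.2) ⁻¹ᵁ U) (fun p => ?_) ?_
    · have : CompactSpace (V p.1.1 p.2 : Scheme.{u}) := isCompact_iff_compactSpace.mp (hV _ _)
      have h1 := ((V p.1.1 p.2).ι ≫ E.f (i p.1.1 p.2)).isCompact_preimage hU.isCompact
      have h2 := h1.image (V p.1.1 p.2).ι.continuous
      convert h2 using 1
      ext x
      constructor
      · rintro ⟨hx, hxU⟩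
        exact ⟨⟨x, hx⟩, hxU, rfl⟩
      · rintro ⟨y, hy, rfl⟩
        exact ⟨y.2, hy⟩
    · refine subset_antisymm ?_ fun t ht => ?_
      · simp only [Set.iUnion_subset_iff]
        rintro p _ ⟨x, ⟨-, hx⟩, rfl⟩
        exact hx
      · obtain ⟨t', ht', htt⟩ := Set.mem_iUnion₂.mp (hs ht)
        obtain ⟨j, x, hx, hxt⟩ := Set.mem_iUnion.mp (interior_subset htt)
        exact Set.mem_iUnion.mpr ⟨⟨⟨t', ht'⟩, j⟩, x, ⟨hx, show E.f (i t' j) x ∈ U from hxt ▸ ht⟩, hxt⟩

end Groth.Agent.S7496
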