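import Groth.Statements.S7497
import Groth.Agent.Lib.HTop26.VCover
-- import your own Groth.Agent.* helpers here

set_option autoImplicit false
universe u
open CategoryTheory CategoryTheory.Limits AlgebraicGeometry
open HTop

namespace Groth.Agent.S7497

/-- Let {f_i : T_i -> T} be a family of flat morphisms of schemes and {g_j : S_j -> T} an fpqc covering
such that for every j the family of base changes {S_j x_T T_i -> S_j} is an fpqc covering. Then {f_i
: T_i -> T} is an fpqc covering. (fpqc coverings are Mathlib's: flat, jointly surjective, every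
affine open of the target covered by images of finitely many quasi-compact opens.) -/
theorem result {T : Scheme.{u}} (E : PreZeroHypercover.{u} T) (hflat : ∀ i, Flat (E.f i)) (𝒱 : Scheme.Cover Scheme.fpqcPrecoverage T) (hloc : ∀ j, (E.pullback₁ (𝒱.f j)).presieve₀ ∈ Scheme.fpqcPrecoverage (𝒱.X j)) : E.presieve₀ ∈ Scheme.fpqcPrecoverage T := by
  refine ⟨Scheme.presieve₀_mem_qcPrecoverage_iff.mpr ?_, (Scheme.presieve₀_mem_precoverage_iff _).mpr ⟨fun t => ?_, hflat⟩⟩
  · have : ∀ j, QuasiCompactCover (E.pullback₁ (𝒱.f j)) := fun j => Scheme.presieve₀_mem_qcPrecoverage_iff.mp (hloc j).1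
    have : QuasiCompactCover 𝒱.toPreZeroHypercover := Scheme.presieve₀_mem_qcPrecoverage_iff.mp 𝒱.mem₀.1
    let 𝒲 := QuasiCompactCover.ulift 𝒱.toPreZeroHypercover
    let φ := QuasiCompactCover.uliftHom 𝒱.toPreZeroHypercover
    have : ∀ j, QuasiCompactCover (E.pullback₁ (𝒲.f j)) := fun j => inferInstanceAs (QuasiCompactCover (E.pullback₁ (𝒱.f (φ.s₀ j))))
    exact QuasiCompactCover.of_hom (𝒱 := 𝒲.bind fun j => E.pullback₁ (𝒲.f j)) ⟨fun jk => jk.2, fun jk => pullback.snd (𝒲.f jk.1) (E.f jk.2), fun jk => pullback.condition.symm⟩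
  · obtain ⟨j, v, hv⟩ := 𝒱.forgetQc.exists_eq t
    obtain ⟨i, x, hx⟩ := ((Scheme.presieve₀_mem_precoverage_iff _).mp (hloc j).2).1 v
    refine ⟨i, pullback.snd (𝒱.f j) (E.f i) x, ?_⟩
    rw [← Scheme.Hom.comp_apply, ← pullback.condition, Scheme.Hom.comp_apply]
    exact (congrArg (𝒱.f j) hx).trans hv

end Groth.Agent.S7497
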