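import Groth.Statements.S7498
import Groth.Agent.Lib.GrpdB.Calc
import Mathlib.AlgebraicGeometry.PullbackCarrier

set_option autoImplicit false
universe u
open CategoryTheory CategoryTheory.Limits AlgebraicGeometry
open Grpd

namespace Groth.Agent.S7498

open Groth.Agent.GrpdB in
/-- Right translation by an arrow identifies fibres of the source. -/
theorem exists_translate {S T : Scheme.{u}} (G : Grpd.GroupoidScheme S) (α β : T ⟶ G.R) (h : α ≫ G.t = β ≫ G.t) :
    ∃ φ : pullback G.s (α ≫ G.s) ≅ pullback G.s (β ≫ G.s),
      φ.hom ≫ pullback.snd G.s (β ≫ G.s) = pullback.snd G.s (α ≫ G.s) ∧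
      pullback.lift α (𝟙 T) (by rw [Category.id_comp]) ≫ φ.hom ≫ pullback.fst G.s (β ≫ G.s) = β := by
  let γ := cmp G (inv' α) β ((inv_s α).trans h)
  have hγt : γ ≫ G.t = α ≫ G.s := (cmp_t _ _ _).trans (inv_t α)
  have hγs : γ ≫ G.s = β ≫ G.s := cmp_s _ _ _
  let fw : pullback G.s (α ≫ G.s) ⟶ pullback G.s (β ≫ G.s) :=
    pullback.lift (cmp G (pullback.fst _ _) (pullback.snd _ _ ≫ γ)
      (by rw [Category.assoc, hγt, pullback.condition])) (pullback.snd _ _)
      (by rw [cmp_s, Category.assoc, hγs])
  let bw : pullback G.s (β ≫ G.s) ⟶ pullback G.s (α ≫ G.s) :=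
    pullback.lift (cmp G (pullback.fst _ _) (inv' (pullback.snd _ _ ≫ γ))
      (by rw [inv_t, Category.assoc, hγs, pullback.condition])) (pullback.snd _ _)
      (by rw [cmp_s, inv_s, Category.assoc, hγt])
  refine ⟨⟨fw, bw, ?_, ?_⟩, pullback.lift_snd _ _ _, ?_⟩
  · apply pullback.hom_ext
    · rw [Category.assoc, pullback.lift_fst, comp_cmp, Category.id_comp]
      exact (cmp_congr (pullback.lift_fst _ _ _) (by rw [inv', inv', ← Category.assoc, ← Category.assoc, pullback.lift_snd]) _).trans
        (cancel_right _ _ _)
    · rw [Category.assoc, pullback.lift_snd, pullback.lift_snd, Category.id_comp]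
  · apply pullback.hom_ext
    · rw [Category.assoc, pullback.lift_fst, comp_cmp, Category.id_comp]
      exact (cmp_congr (pullback.lift_fst _ _ _) (by rw [← Category.assoc, pullback.lift_snd]) _).trans
        (cancel_right' _ _ (by rw [Category.assoc, hγs, pullback.condition]))
    · rw [Category.assoc, pullback.lift_snd, pullback.lift_snd, Category.id_comp]
  · show _ ≫ fw ≫ _ = β
    rw [pullback.lift_fst, comp_cmp]
    exact (cmp_congr (pullback.lift_fst _ _ _) (by rw [← Category.assoc, pullback.lift_snd, Category.id_comp]) _).trans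
      (cancel_left' α β h)


/-- Let (U, R, s, t, c) be a groupoid scheme over S and r, r' points of R with t(r) = t(r'); put u =
s(r), u' = s(r') and let F_u, F_u' be the scheme-theoretic fibres of s. Then there are a field k
which is a common extension of κ(u) and κ(u') (morphisms a, b : Spec k -> U with images u, u') and
an isomorphism of the base changes (F_u)_k and (F_u')_k over Spec k, which moreover can be chosen to
send some point lying over r to a point lying over r'. (The published statement also compares the
germs of s at r and at r' when s and t are flat or flat of finite presentation; this row omits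
that.) (A groupoid scheme carries U, R, s, t, c, e, i over S with the groupoid axioms on T-points; c
is defined on the fibre product of s and t and sends a pair (a, b) with s(a) = t(b) to a composed
with b.) -/
theorem result (S : Scheme.{u}) (G : Grpd.GroupoidScheme S) (r r' : G.R) (h : G.t r = G.t r') : ∃ (k : Type u) (_ : Field k) (a b : Spec (CommRingCat.of k) ⟶ G.U) (φ : pullback G.s a ≅ pullback G.s b) (p : ↑(pullback G.s a)), a (IsLocalRing.closedPoint k) = G.s r ∧ b (IsLocalRing.closedPoint k) = G.s r' ∧ φ.hom ≫ pullback.snd G.s b = pullback.snd G.s a ∧ pullback.fst G.s a p = r ∧ pullback.fst G.s b (φ.hom p) = r' := by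
  obtain ⟨z, hz₁, hz₂⟩ := Scheme.Pullback.exists_preimage_pullback r r' h
  let P := pullback G.t G.t
  let α := P.fromSpecResidueField z ≫ pullback.fst G.t G.t
  let β := P.fromSpecResidueField z ≫ pullback.snd G.t G.t
  have hab : α ≫ G.t = β ≫ G.t := by simp only [α, β, Category.assoc, pullback.condition]
  obtain ⟨φ, hφ₁, hφ₂⟩ := exists_translate G α β hab
  let q := pullback.lift α (𝟙 (Spec (P.residueField z))) (show α ≫ G.s = 𝟙 _ ≫ α ≫ G.s by rw [Category.id_comp])
  let c : ↑(Spec (P.residueField z)) := IsLocalRing.closedPoint (P.residueField z)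
  have hα : α c = r := by
    rw [Scheme.Hom.comp_apply, P.fromSpecResidueField_apply z c]; exact hz₁
  have hβ : β c = r' := by
    rw [Scheme.Hom.comp_apply, P.fromSpecResidueField_apply z c]; exact hz₂
  refine ⟨P.residueField z, inferInstance, α ≫ G.s, β ≫ G.s, φ, q c, ?_, ?_, hφ₁, ?_, ?_⟩
  · exact (Scheme.Hom.comp_apply α G.s c).trans (congrArg G.s hα)
  · exact (Scheme.Hom.comp_apply β G.s c).trans (congrArg G.s hβ)
  · have e : q ≫ pullback.fst _ _ = α := pullback.lift_fst _ _ _
    exact ((Scheme.Hom.comp_apply q _ c).symm.trans (congr($e c))).trans hα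
  · have := congr($(hφ₂) c)
    rw [hβ, Scheme.Hom.comp_apply, Scheme.Hom.comp_apply] at this
    exact this

end Groth.Agent.S7498
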