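import Groth.Statements.S7499
import Groth.Agent.Lib.ChevAff4.Main
import Groth.Agent.Lib.GrpdB.Calc

set_option autoImplicit false
universe u
open CategoryTheory CategoryTheory.Limits AlgebraicGeometry
open Grpd

namespace Groth.Agent.S7499

/-- Let (U, R, s, t, c) be a groupoid scheme over S with s and t integral, and g : U' -> U an integral
morphism such that every R-orbit of U meets the image of g. Let R' = (U' x_(g,U,t) R) x_(s pr, U, g)
U' be the restriction of R to U', with t' the projection to the first factor U' and s' the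
projection to the last. If u' is a point of U' contained in an affine open W' of U' with t'^{-1}(W')
= s'^{-1}(W'), then g(u') is contained in an affine open W of U with s^{-1}(W) = t^{-1}(W). (A
groupoid scheme carries U, R, s, t, c, e, i over S with the groupoid axioms on T-points; c is
defined on the fibre product of s and t and sends a pair (a, b) with s(a) = t(b) to a composed with
b.) -/
theorem result (S : Scheme.{u}) (G : Grpd.GroupoidScheme S) [IsIntegralHom G.s] [IsIntegralHom G.t] (U' : Scheme.{u}) (g : U' ⟶ G.U) [IsIntegralHom g] (horb : ∀ u : G.U, ∃ r : G.R, G.s r = u ∧ G.t r ∈ Set.range ⇑g) (u' : U') (W' : U'.Opens) (hW' : IsAffineOpen W') (hu' : u' ∈ W') (hinv : (pullback.fst (pullback.snd g G.t ≫ G.s) g ≫ pullback.fst g G.t) ⁻¹ᵁ W' = (pullback.snd (pullback.snd g G.t ≫ G.s) g) ⁻¹ᵁ W') : ∃ W : G.U.Opens, IsAffineOpen W ∧ g u' ∈ W ∧ G.s ⁻¹ᵁ W = G.t ⁻¹ᵁ W := by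
  have hC₁ : IsClosed (G.s ⁻¹' (g '' (W' : Set ↥U')ᶜ)) :=
    (g.isClosedMap _ W'.2.isClosed_compl).preimage G.s.continuous
  let W : G.U.Opens := ⟨(G.t '' (G.s ⁻¹' (g '' (W' : Set ↥U')ᶜ)))ᶜ, (G.t.isClosedMap _ hC₁).isOpen_compl⟩
  have hsat : G.s ⁻¹ᵁ W = G.t ⁻¹ᵁ W := TopologicalSpace.Opens.ext
    (congrArg (fun x : Set ↥G.R => xᶜ) (GrpdB.saturation_invariant _))
  have hgW : ∀ x, g x ∈ W ↔ x ∈ W' := by
    intro x
    constructor
    · intro hx
      by_contra hn
      exact hx (GrpdB.subset_saturation _ ⟨x, hn, rfl⟩)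
    · rintro hx ⟨r, ⟨z, hz, hzr⟩, hr⟩
      obtain ⟨p, hp1, hp2⟩ := Scheme.Pullback.exists_preimage_pullback (f := g) (g := G.t) x r hr.symm
      obtain ⟨q, hq1, hq2⟩ := Scheme.Pullback.exists_preimage_pullback (f := pullback.snd g G.t ≫ G.s)
        (g := g) p z (by rw [Scheme.Hom.comp_apply, hp2, hzr])
      refine hz ?_
      have h1 : (pullback.fst (pullback.snd g G.t ≫ G.s) g ≫ pullback.fst g G.t) q ∈ W' := by
        rw [Scheme.Hom.comp_apply, hq1, hp1]; exact hx
      have h2 : q ∈ (pullback.fst (pullback.snd g G.t ≫ G.s) g ≫ pullback.fst g G.t) ⁻¹ᵁ W' := h1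
      rw [hinv] at h2
      have h3 : pullback.snd (pullback.snd g G.t ≫ G.s) g q ∈ W' := h2
      rwa [hq2] at h3
  let h := pullback.snd g G.t ≫ G.s
  have hpre : h ⁻¹ᵁ W = pullback.fst g G.t ⁻¹ᵁ W' := by
    refine TopologicalSpace.Opens.ext (Set.ext fun p => ?_)
    show h p ∈ W ↔ pullback.fst g G.t p ∈ W'
    rw [← hgW, ← Scheme.Hom.comp_apply, pullback.condition, Scheme.Hom.comp_apply, Scheme.Hom.comp_apply]
    exact SetLike.ext_iff.1 hsat _
  have hP : IsAffineOpen (h ⁻¹ᵁ W) := by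
    rw [hpre]; exact hW'.preimage _
  haveI : IsAffine (h ⁻¹ᵁ W).toScheme := hP
  haveI : Surjective (h ∣_ W) := ⟨fun w => by
    obtain ⟨r, hr, x, hx⟩ := horb w.1
    obtain ⟨p, -, hp⟩ := Scheme.Pullback.exists_preimage_pullback (f := g) (g := G.t) x r hx
    have hpw : h p = w.1 := by rw [Scheme.Hom.comp_apply, hp, hr]
    refine ⟨⟨p, show h p ∈ W by rw [hpw]; exact w.2⟩, Subtype.ext ?_⟩
    show W.ι ((h ∣_ W) _) = w.1
    rw [← Scheme.Hom.comp_apply, morphismRestrict_ι]
    exact hpw⟩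
  haveI : IsIntegralHom h := inferInstanceAs (IsIntegralHom (pullback.snd g G.t ≫ G.s))
  haveI : IsIntegralHom (h ∣_ W) := IsZariskiLocalAtTarget.restrict ‹IsIntegralHom h› W
  exact ⟨W, (ChevAff4.isAffine_of_surjective (h ∣_ W) : IsAffine W.toScheme), (hgW u').2 hu', hsat⟩

end Groth.Agent.S7499
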