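import Groth.Statements.S7500
import Groth.Agent.Lib.GrpdB.Calc
import Groth.Agent.Lib.GrpdB.Topology

set_option autoImplicit false
universe u
open CategoryTheory CategoryTheory.Limits AlgebraicGeometry
open Grpd

namespace Groth.Agent.S7500

/-- Let (U, R, s, t, c) be a groupoid scheme over S and G -> U its stabilizer group scheme (the base
change of j = (t, s) along the diagonal). The action of G on R by composition, base changed to G_0 =
G x_(U, pr_0) (U x_S U), makes R a pseudo G_0-torsor over U x_S U. Concretely: let α : G x_(U, t) R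
-> R x_(s, U, t) R be the morphism with components (γ viewed in R, r) and β : G x_(U, t) R -> R
x_(j, U x_S U, j) R the morphism with components (c ∘ α, r); then β is an isomorphism. (A groupoid
scheme carries U, R, s, t, c, e, i over S with the groupoid axioms on T-points; c is defined on the
fibre product of s and t and sends a pair (a, b) with s(a) = t(b) to a composed with b.) -/
theorem result (S : Scheme.{u}) (G : Grpd.GroupoidScheme S) (α : pullback G.stabilizerToU G.t ⟶ pullback G.s G.t) (hα₁ : α ≫ pullback.fst G.s G.t = pullback.fst G.stabilizerToU G.t ≫ pullback.fst G.j G.diag) (hα₂ : α ≫ pullback.snd G.s G.t = pullback.snd G.stabilizerToU G.t) (β : pullback G.stabilizerToU G.t ⟶ pullback G.j G.j) (hβ₁ : β ≫ pullback.fst G.j G.j = α ≫ G.c) (hβ₂ : β ≫ pullback.snd G.j G.j = pullback.snd G.stabilizerToU G.t) : IsIso β := by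
  set γ := pullback.fst G.stabilizerToU G.t ≫ pullback.fst G.j G.diag with hγ
  set r := pullback.snd G.stabilizerToU G.t with hr
  set x := pullback.fst G.j G.j
  set y := pullback.snd G.j G.j
  have hxy : x ≫ G.j = y ≫ G.j := pullback.condition
  have ht : x ≫ G.t = y ≫ G.t := Groth.Agent.GrpdB.t_eq_of_comp_j hxy
  have hs : x ≫ G.s = y ≫ G.s := Groth.Agent.GrpdB.s_eq_of_comp_j hxy
  have hgr : γ ≫ G.s = r ≫ G.t := by
    rw [← hα₁, ← hα₂, Category.assoc, Category.assoc, pullback.condition]
  have hαc : α ≫ G.c = Groth.Agent.GrpdB.cmp G γ r hgr := by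
    rw [Groth.Agent.GrpdB.cmp, show pullback.lift γ r hgr = α from
      pullback.hom_ext ((pullback.lift_fst _ _ _).trans hα₁.symm) ((pullback.lift_snd _ _ _).trans hα₂.symm)]
  let g := Groth.Agent.GrpdB.cmp G x (Groth.Agent.GrpdB.inv' y) (hs.trans (Groth.Agent.GrpdB.inv_t y).symm)
  have hgs : g ≫ G.s = y ≫ G.t := (Groth.Agent.GrpdB.cmp_s _ _ _).trans (Groth.Agent.GrpdB.inv_s y)
  have hgt : g ≫ G.t = y ≫ G.t := (Groth.Agent.GrpdB.cmp_t _ _ _).trans ht
  let ψ : pullback G.j G.j ⟶ pullback G.stabilizerToU G.t :=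
    pullback.lift (pullback.lift g (y ≫ G.t) (Groth.Agent.GrpdB.lift_cond g _ hgt hgs)) y
      (by erw [pullback.lift_snd])
  have hψγ : ψ ≫ γ = g := by
    exact (Category.assoc _ _ _).symm.trans
      ((congrArg (· ≫ pullback.fst G.j G.diag) (pullback.lift_fst _ _ _)).trans (pullback.lift_fst _ _ _))
  have hψr : ψ ≫ r = y := pullback.lift_snd _ _ _
  have hβx : β ≫ x = Groth.Agent.GrpdB.cmp G γ r hgr := hβ₁.trans hαc
  refine ⟨⟨ψ, ?_, ?_⟩⟩
  · have hβg : β ≫ g = γ := by
      rw [Groth.Agent.GrpdB.comp_cmp]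
      exact (Groth.Agent.GrpdB.cmp_congr hβx (show β ≫ Groth.Agent.GrpdB.inv' y = Groth.Agent.GrpdB.inv' r by rw [← Category.assoc, hβ₂]) _).trans
        (Groth.Agent.GrpdB.cancel_right γ r hgr)
    apply pullback.hom_ext
    · apply pullback.hom_ext
      · exact (Category.assoc _ _ _).trans ((congrArg (β ≫ ·) ((Category.assoc _ _ _).trans hψγ)).trans
          (hβg.trans (congrArg (· ≫ pullback.fst G.j G.diag) (Category.id_comp _)).symm))
      · refine Eq.trans ?_ ((congrArg (· ≫ G.t) hβ₂).trans (pullback.condition.symm.trans (congrArg (· ≫ G.stabilizerToU) (Category.id_comp _).symm)))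
        refine (Category.assoc _ _ _).trans ?_
        refine ((congrArg (β ≫ ·) ((Category.assoc _ _ _).trans ?_))).trans (Category.assoc _ _ _).symm
        exact (Category.assoc _ _ _).symm.trans ((congrArg (· ≫ pullback.snd G.j G.diag) (pullback.lift_fst _ _ _)).trans (pullback.lift_snd _ _ _))
    · rw [Category.assoc, Category.id_comp]
      exact (congrArg (β ≫ ·) hψr).trans hβ₂
  · apply pullback.hom_ext
    · rw [Category.assoc, hβx, Groth.Agent.GrpdB.comp_cmp, Category.id_comp]
      exact (Groth.Agent.GrpdB.cmp_congr hψγ hψr _).trans (Groth.Agent.GrpdB.cancel_right' x y hs)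
    · rw [Category.assoc, hβ₂, hψr, Category.id_comp]

end Groth.Agent.S7500
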