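import Groth.Statements.S7502
import Groth.Agent.Lib.ModM1.Fpqc
import Groth.Agent.Lib.ModM1.FibreProd
import Groth.Agent.Lib.ModM1.Push
import Groth.Agent.Lib.ModLimH13.Flat
-- import your own Groth.Agent.* helpers here

set_option autoImplicit false
universe u
open CategoryTheory CategoryTheory.Limits AlgebraicGeometry
open Coh

namespace Groth.Agent.S7502

set_option linter.style.haveILetI false
set_option backward.isDefEq.respectTransparency.types false


/-- Let f : Y -> X be a morphism of schemes which is quasi-compact, quasi-separated, flat and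
surjective, with X and Y locally Noetherian. Let F be a quasi-coherent O_X-module, G a coherent
O_Y-module and φ : G -> f^*F an injective map of O_Y-modules. Then the O_X-module F ∩ f_*G, defined
as the fibre product of the adjunction unit F -> f_*f^*F with f_*φ : f_*G -> f_*f^*F, is coherent.
('Coherent' is quasi-coherent of finite type, the usual notion on locally Noetherian schemes.) -/
theorem result {X Y : Scheme.{u}} (f : Y ⟶ X) [QuasiCompact f] [QuasiSeparated f] [Flat f] [Surjective f] [IsLocallyNoetherian X] [IsLocallyNoetherian Y] (F : X.Modules) (hF : Coh.IsQCoh F) (G : Y.Modules) (hG : Coh.IsCoh G) (φ : G ⟶ (Scheme.Modules.pullback f).obj F) [Mono φ] : Coh.IsCoh (Limits.pullback ((Scheme.Modules.pullbackPushforwardAdjunction f).unit.app F) ((Scheme.Modules.pushforward f).map φ)) := by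
  let adj := Scheme.Modules.pullbackPushforwardAdjunction f
  let a := adj.unit.app F
  let b := (Scheme.Modules.pushforward f).map φ
  haveI : (Scheme.Modules.pushforward f).IsRightAdjoint := adj.isRightAdjoint
  haveI : Mono b := inferInstanceAs (Mono ((Scheme.Modules.pushforward f).map φ))
  haveI : Coh.IsQCoh F := hF
  have hfG : Coh.IsQCoh ((Scheme.Modules.pushforward f).obj G) := M1.isQCoh_push f hG.1
  have hP : Coh.IsQCoh (Limits.pullback a b) :=
    M1.isQCoh_fibreProd hF hfG (M1.isQCoh_push f (M1.isQCoh_pullback f hF)) a b
  let m := (adj.homEquiv _ _).symm (Limits.pullback.snd a b)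
  have hm : m ≫ φ = (Scheme.Modules.pullback f).map (Limits.pullback.fst a b) := by
    refine (adj.homEquiv _ _).injective ?_
    rw [Adjunction.homEquiv_naturality_right]
    rw [show (adj.homEquiv _ _) m = Limits.pullback.snd a b from Equiv.apply_symm_apply _ _]
    refine Limits.pullback.condition.symm.trans ?_
    rw [adj.homEquiv_unit]
    exact (adj.unit.naturality (Limits.pullback.fst a b))
  haveI : Mono (Limits.pullback.fst a b) := inferInstance
  haveI := ModLimH13.mono_pullback_map_of_flat f (Limits.pullback.fst a b)
  haveI : Mono (m ≫ φ) := by rw [hm]; infer_instance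
  haveI : Mono m := mono_of_mono m φ
  have hc := M1.isCoh_of_mono m hG (M1.isQCoh_pullback f hP)
  exact ⟨hP, M1.isFT_of_pullback_fpqc f hP hc.2⟩

end Groth.Agent.S7502
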