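import Groth.Statements.S7504
import Groth.Agent.Lib.GrpQuot.Rank
import Mathlib.AlgebraicGeometry.Morphisms.UniversallyOpen
import Mathlib.AlgebraicGeometry.Morphisms.Smooth
import Mathlib.AlgebraicGeometry.Sites.Etale
import Mathlib.AlgebraicGeometry.Sites.Fpqc

set_option autoImplicit false
universe u
open CategoryTheory CategoryTheory.Limits AlgebraicGeometry
open Grpd

namespace Groth.Agent.S7504

set_option backward.isDefEq.respectTransparency.types false

theorem exists_property (K : Precoverage Scheme.{u}) (hK : K = Scheme.zariskiPrecoverage ∨ K = Scheme.etalePrecoverage ∨ K = Scheme.precoverage @Smooth ∨ K = Scheme.fppfPrecoverage) :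
    ∃ Q : MorphismProperty Scheme.{u}, K = Scheme.precoverage Q ∧ Q.IsStableUnderComposition ∧
      IsZariskiLocalAtTarget Q ∧ @IsOpenImmersion ≤ Q ∧ Q ≤ @UniversallyOpen := by
  rcases hK with rfl | rfl | rfl | rfl
  · exact ⟨_, rfl, inferInstance, inferInstance, le_rfl, fun _ _ f (_ : IsOpenImmersion f) => inferInstance⟩
  · exact ⟨_, rfl, inferInstance, inferInstance, fun _ _ f (_ : IsOpenImmersion f) => inferInstance,
      fun _ _ f (_ : Etale f) => inferInstance⟩
  · exact ⟨_, rfl, inferInstance, inferInstance, fun _ _ f (_ : IsOpenImmersion f) => inferInstance,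
      fun _ _ f (_ : Smooth f) => inferInstance⟩
  · refine ⟨_, rfl, inferInstance, inferInstance, fun _ _ f (_ : IsOpenImmersion f) => ⟨inferInstance, inferInstance⟩, ?_⟩
    rintro _ _ f ⟨h1, h2⟩
    have : Flat f := h1
    have : LocallyOfFinitePresentation f := h2
    exact UniversallyOpen.of_flat f


/-- Let (U, R, s, t, c) be a groupoid scheme over S, let τ be the Zariski, étale, smooth or fppf
topology (given as the corresponding precoverage K on schemes), and let P be a property of scheme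
morphisms that is τ-local on the target. (The published statement also allows the syntomic topology,
which has no precoverage here; this row omits it.) Assume the one-arrow families {s : R -> U} and {t
: R -> U} are τ-coverings. If W is the largest open subscheme of U such that the restriction
s^{-1}(W) -> W of s has P (W has the property and contains every open with the property), then W is
R-invariant: s^{-1}(W) = t^{-1}(W). (A groupoid scheme carries U, R, s, t, c, e, i over S with the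
groupoid axioms on T-points; c is defined on the fibre product of s and t and sends a pair (a, b)
with s(a) = t(b) to a composed with b.) -/
theorem result (S : Scheme.{u}) (G : Grpd.GroupoidScheme S) (K : Precoverage Scheme.{u}) (hK : K = Scheme.zariskiPrecoverage ∨ K = Scheme.etalePrecoverage ∨ K = Scheme.precoverage @Smooth ∨ K = Scheme.fppfPrecoverage) (P : MorphismProperty Scheme.{u}) [P.IsLocalAtTarget K] (hs : Presieve.singleton G.s ∈ K G.U) (ht : Presieve.singleton G.t ∈ K G.U) (W : G.U.Opens) (hW : P (G.s ∣_ W)) (hmax : ∀ W' : G.U.Opens, P (G.s ∣_ W') → W' ≤ W) : G.s ⁻¹ᵁ W = G.t ⁻¹ᵁ W := by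
  obtain ⟨Q, rfl, hQc, hQl, hQi, hQo⟩ := exists_property K hK
  obtain ⟨hts, htQ⟩ := (Scheme.singleton_mem_precoverage_iff (P := Q) G.t).1 ht
  obtain ⟨-, hsQ⟩ := (Scheme.singleton_mem_precoverage_iff (P := Q) G.s).1 hs
  have : UniversallyOpen G.s := hQo _ hsQ
  -- the saturation
  let W' : G.U.Opens := ⟨G.s.base '' (G.t ⁻¹ᵁ W : Set G.R), G.s.isOpenMap _ (G.t ⁻¹ᵁ W).2⟩
  have hle : G.t ⁻¹ᵁ W ≤ G.s ⁻¹ᵁ W' := fun r hr => ⟨r, hr, rfl⟩
  let O := pullback.snd G.s G.t ⁻¹ᵁ (G.t ⁻¹ᵁ W)
  have hO₁ : O = pullback.fst G.s G.t ⁻¹ᵁ (G.s ⁻¹ᵁ W) ⊓ pullback.snd G.s G.t ⁻¹ᵁ (G.t ⁻¹ᵁ W) := by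
    rw [← Scheme.Hom.comp_preimage, pullback.condition, Scheme.Hom.comp_preimage, inf_idem]
  have hO₂ : O = G.c ⁻¹ᵁ (G.s ⁻¹ᵁ W') ⊓ pullback.snd G.s G.t ⁻¹ᵁ (G.t ⁻¹ᵁ W) := by
    rw [← Scheme.Hom.comp_preimage, GrpQuot.c_s G, Scheme.Hom.comp_preimage]
    exact (inf_eq_right.2 fun z hz => hle hz).symm
  have sqA := Scheme.Hom.isPullback_resLE (IsPullback.of_hasPullback G.s G.t) (US := W) (UT := G.t ⁻¹ᵁ W)
    (UX := G.s ⁻¹ᵁ W) le_rfl le_rfl hO₁
  have sqB := Scheme.Hom.isPullback_resLE (GrpQuot.isPullback_shear G) (US := W') (UT := G.t ⁻¹ᵁ W)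
    (UX := G.s ⁻¹ᵁ W') hle le_rfl hO₂
  have htW : Presieve.singleton (G.t.resLE W (G.t ⁻¹ᵁ W) le_rfl) ∈ Scheme.precoverage Q W.toScheme := by
    rw [Scheme.singleton_mem_precoverage_iff, Scheme.Hom.resLE_eq_morphismRestrict]
    refine ⟨fun w => ?_, IsZariskiLocalAtTarget.restrict (P := Q) htQ W⟩
    obtain ⟨r, hr⟩ := hts w.1
    exact ⟨⟨r, show G.t r ∈ W by rw [hr]; exact w.2⟩, Subtype.ext ((morphismRestrict_base_coe G.t W _).trans hr)⟩
  have hsW : Presieve.singleton (G.s.resLE W' (G.t ⁻¹ᵁ W) hle) ∈ Scheme.precoverage Q W'.toScheme := by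
    rw [Scheme.singleton_mem_precoverage_iff]
    refine ⟨?_, ?_⟩
    · rintro ⟨_, r, hr, rfl⟩
      exact ⟨⟨r, hr⟩, Subtype.ext (Scheme.Hom.coe_resLE_apply _ _ _)⟩
    · rw [Scheme.Hom.resLE]
      exact Q.comp_mem _ _ (hQi _ (inferInstanceAs (IsOpenImmersion _))) (IsZariskiLocalAtTarget.restrict (P := Q) hsQ W')
  have hPA : P ((pullback.snd G.s G.t).resLE (G.t ⁻¹ᵁ W) O (le_refl _)) := by
    rw [← sqA.isoPullback_hom_snd]
    refine MorphismProperty.RespectsIso.precomp P _ _ ?_
    exact MorphismProperty.IsLocalAtTarget.pullbackSnd htW ⟨⟩ (by rwa [Scheme.Hom.resLE_eq_morphismRestrict])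
  have hP' : P (G.s ∣_ W') := by
    refine MorphismProperty.IsLocalAtTarget.of_forall_pullbackSnd hsW fun {U g} _ hg => ?_
    cases hg
    have e : G.s ∣_ W' = G.s.resLE W' (G.s ⁻¹ᵁ W') le_rfl := (Scheme.Hom.resLE_eq_morphismRestrict G.s).symm
    generalize hf : G.s ∣_ W' = f' at *
    subst e
    rw [← sqB.isoPullback_inv_snd]
    exact MorphismProperty.RespectsIso.precomp P _ _ hPA
  have key : ∀ r, G.t r ∈ W → G.s r ∈ W := fun r hr => hmax W' hP' (hle hr)
  ext r
  refine ⟨fun hr => ?_, key r⟩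
  have h1 : G.t (G.i r) = G.s r := by rw [← Scheme.Hom.comp_apply, G.i_t]
  have h2 := key (G.i r) (show G.t (G.i r) ∈ W by rw [h1]; exact hr)
  rwa [← Scheme.Hom.comp_apply, G.i_s] at h2

end Groth.Agent.S7504
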