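import Groth.Statements.S7509
import Groth.Agent.Lib.GrpdSub19.Basic

set_option autoImplicit false
universe u
open CategoryTheory CategoryTheory.Limits AlgebraicGeometry
open Grpd

namespace Groth.Agent.S7509

/-- Let (U, R, s, t, c) be a groupoid scheme over S with U the spectrum of a field and R quasi-compact
(equivalently s, t quasi-compact), and let Z be the scheme-theoretic image of j = (t, s) : R -> U
x_S U. Then (U, Z, pr_0|_Z, pr_1|_Z, pr_02) is a groupoid scheme over S; stated as: there are a
groupoid scheme G' over S and a morphism of groupoid schemes φ : (U, R, s, t, c) -> G' which is an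
isomorphism on object schemes, such that j' : G'.R -> G'.U x_S G'.U is a closed immersion whose
kernel ideal sheaf equals the kernel ideal sheaf of j followed by the induced isomorphism U x_S U ->
G'.U x_S G'.U (so G'.R is the scheme-theoretic image of j, transported). (A groupoid scheme carries
U, R, s, t, c, e, i over S with the groupoid axioms on T-points; c is defined on the fibre product
of s and t and sends a pair (a, b) with s(a) = t(b) to a composed with b.) -/
theorem result (S : Scheme.{u}) (G : Grpd.GroupoidScheme S) (k : Type u) [Field k] (eU : G.U ≅ Spec (CommRingCat.of k)) [CompactSpace G.R] : ∃ (G' : Grpd.GroupoidScheme S) (φ : Grpd.GroupoidScheme.Hom G G'), IsIso φ.fU ∧ IsClosedImmersion G'.j ∧ G'.j.ker = (G.j ≫ pullback.map G.pU G.pU G'.pU G'.pU φ.fU φ.fU (𝟙 S) ((Category.comp_id _).trans φ.fU_over.symm) ((Category.comp_id _).trans φ.fU_over.symm)).ker := by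
  haveI : IsIso (GrpdSub19.toPair G).fU := (inferInstance : IsIso (𝟙 G.U))
  haveI : IsAffine G.U := IsAffine.of_isIso eU.hom
  haveI : IsSeparated G.pU := by
    haveI : IsSeparated (G.pU ≫ terminal.from S) := by rw [Subsingleton.elim (G.pU ≫ terminal.from S) (terminal.from G.U)]; infer_instance
    exact IsSeparated.of_comp G.pU (terminal.from S)
  haveI : QuasiCompact (G.j ≫ pullback.fst G.pU G.pU) := inferInstance
  haveI : QuasiCompact (GrpdSub19.toPair G).fR := QuasiCompact.of_comp G.j (pullback.fst G.pU G.pU)
  obtain ⟨d⟩ := GrpdSub19.nonempty_subData_image (GrpdSub19.toPair G) eU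
  refine ⟨GrpdSub19.sub d, GrpdSub19.factor d (GrpdSub19.toPair G) _ (GrpdSub19.toPair G).fR.toImage_imageι,
    (inferInstance : IsIso (𝟙 G.U)), ?_, ?_⟩
  all_goals have hj := GrpdSub19.j_sub d
  · rw [hj]
    exact (inferInstance : IsClosedImmersion (GrpdSub19.toPair G).fR.imageι)
  · rw [hj]
    refine (Scheme.IdealSheafData.ker_subschemeι _).trans (congrArg Scheme.Hom.ker ?_)
    refine (Category.comp_id _).symm.trans (congrArg (G.j ≫ ·) ?_)
    apply pullback.hom_ext
    · exact (Category.id_comp _).trans ((pullback.lift_fst _ _ _).trans (Category.comp_id _)).symm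
    · exact (Category.id_comp _).trans ((pullback.lift_snd _ _ _).trans (Category.comp_id _)).symm

end Groth.Agent.S7509
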