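import Groth.Statements.S7511
import Groth.Agent.Lib.HTop26.VCover
-- import your own Groth.Agent.* helpers here

set_option autoImplicit false
universe u
open CategoryTheory CategoryTheory.Limits AlgebraicGeometry
open HTop

namespace Groth.Agent.S7511

/-- Let {f_i : T_i -> T} be a family of morphisms of schemes (indexed by a type in the universe of T, so
that the coproduct exists). Then it is an fpqc covering if and only if the one-arrow family
consisting of the induced morphism from the coproduct of the T_i to T is an fpqc covering. -/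
theorem result {T : Scheme.{u}} (E : PreZeroHypercover.{u} T) : E.presieve₀ ∈ Scheme.fpqcPrecoverage T ↔ Presieve.singleton (Sigma.desc E.f) ∈ Scheme.fpqcPrecoverage T := by
  rw [← PreZeroHypercover.presieve₀_singleton.{u} (Sigma.desc E.f)]
  constructor
  · rintro ⟨hqc, hp⟩
    rw [Scheme.presieve₀_mem_qcPrecoverage_iff] at hqc
    rw [Scheme.presieve₀_mem_precoverage_iff] at hp
    refine ⟨Scheme.presieve₀_mem_qcPrecoverage_iff.mpr ?_, (Scheme.presieve₀_mem_precoverage_iff _).mpr ⟨fun t => ?_, fun _ => ?_⟩⟩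
    · exact QuasiCompactCover.of_hom (𝒱 := E) ⟨fun _ => PUnit.unit, fun i => Sigma.ι E.X i, fun i => Sigma.ι_desc _ _⟩
    · obtain ⟨i, x, hx⟩ := hp.1 t
      refine ⟨PUnit.unit, Sigma.ι E.X i x, ?_⟩
      show Sigma.desc E.f (Sigma.ι E.X i x) = t
      rw [← Scheme.Hom.comp_apply, Sigma.ι_desc]; exact hx
    · show Flat (Sigma.desc E.f)
      rw [IsZariskiLocalAtSource.iff_of_openCover (P := @Flat) (sigmaOpenCover E.X)]
      intro i
      show Flat (Sigma.ι E.X i ≫ Sigma.desc E.f)
      rw [Sigma.ι_desc]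
      exact hp.2 i
  · rintro ⟨hqc, hp⟩
    rw [Scheme.presieve₀_mem_qcPrecoverage_iff] at hqc
    rw [Scheme.presieve₀_mem_precoverage_iff] at hp
    have hflat : Flat (Sigma.desc E.f) := hp.2 PUnit.unit
    refine ⟨Scheme.presieve₀_mem_qcPrecoverage_iff.mpr ?_, (Scheme.presieve₀_mem_precoverage_iff _).mpr ⟨fun t => ?_, fun i => ?_⟩⟩
    · let G : ∀ j : (PreZeroHypercover.singleton.{u} (Sigma.desc E.f)).I₀, PreZeroHypercover.{u} ((PreZeroHypercover.singleton.{u} (Sigma.desc E.f)).X j) := fun _ => (sigmaOpenCover E.X).toPreZeroHypercover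
      have : ∀ j, QuasiCompactCover (G j) := fun _ => inferInstanceAs (QuasiCompactCover (sigmaOpenCover E.X).toPreZeroHypercover)
      refine QuasiCompactCover.of_hom (𝒱 := (PreZeroHypercover.singleton.{u} (Sigma.desc E.f)).bind G) ⟨fun jk => jk.2, fun jk => 𝟙 _, fun jk => ?_⟩
      exact (Category.id_comp _).trans (Sigma.ι_desc _ _).symm
    · obtain ⟨j, y₀, hy⟩ := hp.1 t
      let y : ↥(∐ E.X) := y₀
      obtain ⟨i, x, hx⟩ := (sigmaOpenCover E.X).exists_eq y
      let i' : E.I₀ := i
      let x' : E.X i' := x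
      refine ⟨i', x', ?_⟩
      rw [← Sigma.ι_desc E.f i', Scheme.Hom.comp_apply]
      exact (congrArg (Sigma.desc E.f) hx).trans hy
    · rw [← Sigma.ι_desc E.f i]
      infer_instance

end Groth.Agent.S7511
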