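import Groth.Statements.S7512
import Groth.Agent.Lib.HTop26.VCover
-- import your own Groth.Agent.* helpers here

set_option autoImplicit false
universe w u
open HTop

namespace Groth.Agent.S7512

open CategoryTheory CategoryTheory.Limits AlgebraicGeometry in
/-- Let {f_i : T_i -> T} be a family of flat morphisms of schemes. Assume that for every affine scheme Z
and every morphism h : Z -> T there is a standard fpqc covering of Z (a finite family of flat
morphisms Z_j -> Z with Z_j affine whose images cover Z) refining the family of base changes {T_i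
x_T Z -> Z} (every Z_j -> Z factors through some T_i compatibly with h). Then {f_i : T_i -> T} is an
fpqc covering (in Mathlib's sense). -/
theorem result {T : Scheme.{u}} (E : PreZeroHypercover.{w} T) (hflat : ∀ i, Flat (E.f i)) (href : ∀ (Z : Scheme.{u}) [IsAffine Z] (h : Z ⟶ T), ∃ F : PreZeroHypercover.{0} Z, Finite F.I₀ ∧ (∀ j, IsAffine (F.X j)) ∧ (∀ j, Flat (F.f j)) ∧ (∀ z : Z, ∃ (j : F.I₀) (x : F.X j), F.f j x = z) ∧ HTop.RefinesOver h F E) : E.presieve₀ ∈ Scheme.fpqcPrecoverage T := by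
  have href' : ∀ U : T.affineOpens, ∃ F : PreZeroHypercover.{0} ((U : T.Opens) : Scheme.{u}), Finite F.I₀ ∧ (∀ j, IsAffine (F.X j)) ∧ (∀ z : ((U : T.Opens) : Scheme.{u}), ∃ (j : F.I₀) (x : F.X j), F.f j x = z) ∧ HTop.RefinesOver (U : T.Opens).ι F E := fun U => by
    have : IsAffine ((U : T.Opens) : Scheme.{u}) := U.2
    obtain ⟨F, hfin, haff, -, hs, hR⟩ := href _ (U : T.Opens).ι
    exact ⟨F, hfin, haff, hs, hR⟩
  refine ⟨Scheme.presieve₀_mem_qcPrecoverage_iff.mpr ⟨fun {U} hU => ?_⟩, (Scheme.presieve₀_mem_precoverage_iff _).mpr ⟨fun t => ?_, hflat⟩⟩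
  · obtain ⟨F, hfin, haff, hs, hR⟩ := href' ⟨U, hU⟩
    choose i k hk using hR
    refine .of_comp (X := fun i => E.X i) (f := fun i => (E.f i : E.X i → T)) (a := i) (fun j => (F.f j ≫ U.ι : F.X j → T)) (fun j => k j) (fun j => (k j).continuous) (fun j => funext fun x => (congrArg (fun m : F.X j ⟶ T => m x) (hk j)).symm) (fun j => (E.f j).continuous) U.2 ?_
    refine .of_finite (κ := F.I₀) id (fun j => ⊤) (fun j => ?_) ?_
    · have := haff j
      exact isCompact_univ
    · refine subset_antisymm ?_ fun t ht => ?_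
      · simp only [Set.iUnion_subset_iff]
        rintro j _ ⟨x, -, rfl⟩
        exact (F.f j x).2
      · obtain ⟨j, x, hx⟩ := hs ⟨t, ht⟩
        exact Set.mem_iUnion.mpr ⟨j, x, trivial, congrArg (U.ι ·) hx⟩
  · obtain ⟨U, hU, htU, -⟩ := TopologicalSpace.Opens.isBasis_iff_nbhd.mp T.isBasis_affineOpens (show t ∈ (⊤ : T.Opens) from trivial)
    obtain ⟨F, hfin, haff, hs, hR⟩ := href' ⟨U, hU⟩
    obtain ⟨j, x, hx⟩ := hs ⟨t, htU⟩
    obtain ⟨i, k, hk⟩ := hR j
    refine ⟨i, k x, ?_⟩
    rw [← Scheme.Hom.comp_apply, hk, Scheme.Hom.comp_apply, hx]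
    rfl

end Groth.Agent.S7512
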