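import Groth.Statements.S7513
import Groth.Agent.Lib.GrpdFit19.Basic
import Groth.Agent.Lib.GrpQuot.Rank

set_option autoImplicit false
universe u
open CategoryTheory CategoryTheory.Limits AlgebraicGeometry
open Grpd

namespace Groth.Agent.S7513

/-- Let (U, R, s, t, c) be a groupoid scheme over S with s and t finite. Then there are closed
subschemes U = Z_0 ⊇ Z_1 ⊇ Z_2 ⊇ ..., each invariant under R, (given by quasi-coherent ideal sheaves
I_0 = 0 ≤ I_1 ≤ I_2 ≤ ...) with empty intersection such that for every r the restriction of s over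
the locally closed stratum Z_r minus Z_(r+1) (the open of the subscheme Z_r complementary to the
support of Z_(r+1)) is finite locally free of rank r + 1. R-invariance of Z_r is expressed as an
isomorphism between the pullbacks of s and of t along Z_r -> U compatible with the maps to R;
'finite locally free of rank n' is finite, flat, locally of finite presentation with constant rank
n. (A groupoid scheme carries U, R, s, t, c, e, i over S with the groupoid axioms on T-points; c is
defined on the fibre product of s and t and sends a pair (a, b) with s(a) = t(b) to a composed with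
b.) -/
theorem result (S : Scheme.{u}) (G : Grpd.GroupoidScheme S) [IsFinite G.s] [IsFinite G.t] : ∃ Z : ℕ → G.U.IdealSheafData, Z 0 = ⊥ ∧ Monotone Z ∧ (⋂ r, ((Z r).support : Set G.U)) = ∅ ∧ (∀ r, ∃ φ : pullback G.s (Z r).subschemeι ≅ pullback G.t (Z r).subschemeι, φ.hom ≫ pullback.fst G.t (Z r).subschemeι = pullback.fst G.s (Z r).subschemeι) ∧ ∀ r, Mor2.IsFinLocFreeOfDeg (r + 1) (pullback.snd G.s (((Z r).subschemeι ⁻¹ᵁ (Z (r + 1)).support.compl).ι ≫ (Z r).subschemeι)) := by
  refine ⟨GrpdFit19.fit G.s, GrpdFit19.fit_zero_of_section G.s G.e G.e_s, GrpdFit19.fit_mono G.s, ?_, fun r => ?_,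
    fun r => ?_⟩
  · refine Set.eq_empty_iff_forall_notMem.2 fun u hu => ?_
    obtain ⟨r, hr⟩ := GrpdFit19.exists_notMem_support G.s u
    exact hr (Set.mem_iInter.1 hu r)
  · set I := GrpdFit19.fit G.s r
    have hker : (pullback.fst G.t I.subschemeι).ker = (pullback.fst G.s I.subschemeι).ker := by
      rw [Scheme.IdealSheafData.ker_fst_of_isClosedImmersion, Scheme.IdealSheafData.ker_fst_of_isClosedImmersion,
        Scheme.IdealSheafData.ker_subschemeι,
        GrpdFit19.comap_fit G.s (IsPullback.of_hasPullback G.s G.t) r,
        GrpdFit19.comap_fit G.s (GrpQuot.isPullback_shear G) r]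
    let a := IsClosedImmersion.lift (pullback.fst G.t I.subschemeι) (pullback.fst G.s I.subschemeι) hker.le
    let b := IsClosedImmersion.lift (pullback.fst G.s I.subschemeι) (pullback.fst G.t I.subschemeι) hker.ge
    have ha : a ≫ pullback.fst G.t I.subschemeι = pullback.fst G.s I.subschemeι := IsClosedImmersion.lift_fac _ _ _
    have hb : b ≫ pullback.fst G.s I.subschemeι = pullback.fst G.t I.subschemeι := IsClosedImmersion.lift_fac _ _ _
    refine ⟨⟨a, b, ?_, ?_⟩, ha⟩
    · rw [← cancel_mono (pullback.fst G.s I.subschemeι), Category.assoc, hb, ha, Category.id_comp]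
    · rw [← cancel_mono (pullback.fst G.t I.subschemeι), Category.assoc, ha, hb, Category.id_comp]
  · set g := ((GrpdFit19.fit G.s r).subschemeι ⁻¹ᵁ (GrpdFit19.fit G.s (r + 1)).support.compl).ι ≫
      (GrpdFit19.fit G.s r).subschemeι with hg
    have H := IsPullback.of_hasPullback G.s g
    refine GrpdFit19.isFinLocFreeOfDeg (pullback.snd G.s g) ?_ ?_
    · rw [← GrpdFit19.comap_fit G.s H, hg, Scheme.IdealSheafData.comap_comp]
      have : (GrpdFit19.fit G.s r).comap (GrpdFit19.fit G.s r).subschemeι = ⊥ := by
        rw [← le_bot_iff, ← Scheme.IdealSheafData.le_map_iff_comap_le, Scheme.IdealSheafData.map_bot,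
          Scheme.IdealSheafData.ker_subschemeι]
      rw [this]
      exact le_bot_iff.1 ((Scheme.IdealSheafData.map_gc _).l_le bot_le)
    · rw [← GrpdFit19.comap_fit G.s H, ← Scheme.IdealSheafData.support_eq_bot_iff,
        Scheme.IdealSheafData.support_comap, ← SetLike.coe_set_eq, TopologicalSpace.Closeds.coe_bot,
        TopologicalSpace.Closeds.coe_preimage, Set.eq_empty_iff_forall_notMem]
      intro x hx
      rw [Set.mem_preimage, hg, Scheme.Hom.comp_apply] at hx
      exact x.2 hx

end Groth.Agent.S7513
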