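import Groth.Statements.S7514
import Mathlib.AlgebraicGeometry.Morphisms.FormallyUnramified
import Mathlib.FieldTheory.IsAlgClosed.AlgebraicClosure

set_option autoImplicit false
universe u
open CategoryTheory CategoryTheory.Limits AlgebraicGeometry
open Grpd

namespace Groth.Agent.S7514

set_option backward.isDefEq.respectTransparency.types false

/-- Let S be a scheme, U a scheme over S and j : R -> U x_S U a pre-relation, with t = pr_0 ∘ j and s =
pr_1 ∘ j. Assume (1) s and t are unramified (formally unramified and locally of finite type), (2)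
for every algebraically closed field k, the map from k-points of R to pairs of k-points of U is
injective with image an equivalence relation, and (3) there are morphisms e : U -> R, i : R -> R and
c : R x_(s,U,t) R -> R such that j ∘ e is the diagonal, j ∘ i is j followed by the flip of the two
factors, and j ∘ c is pr_02 ∘ (j x j) (the arrow c(a, b) has target t(a) and source s(b)). Then j is
an equivalence relation: j is a monomorphism and, for every scheme T, the relation 'there is a
T-point r of R with t ∘ r = a and s ∘ r = b' on T-points a, b of U is an equivalence relation. -/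
theorem result {S U R : Scheme.{u}} (pU : U ⟶ S) (j : R ⟶ pullback pU pU) [FormallyUnramified (j ≫ pullback.fst pU pU)] [LocallyOfFiniteType (j ≫ pullback.fst pU pU)] [FormallyUnramified (j ≫ pullback.snd pU pU)] [LocallyOfFiniteType (j ≫ pullback.snd pU pU)] (h₂ : ∀ (k : Type u) [Field k] [IsAlgClosed k], Function.Injective (fun r : Spec (CommRingCat.of k) ⟶ R => r ≫ j) ∧ Equivalence (fun a b : Spec (CommRingCat.of k) ⟶ U => ∃ r : Spec (CommRingCat.of k) ⟶ R, r ≫ j ≫ pullback.fst pU pU = a ∧ r ≫ j ≫ pullback.snd pU pU = b)) (e : U ⟶ R) (he : e ≫ j = pullback.lift (𝟙 U) (𝟙 U) rfl) (i : R ⟶ R) (hi : i ≫ j = j ≫ (pullbackSymmetry pU pU).hom) (c : pullback (j ≫ pullback.snd pU pU) (j ≫ pullback.fst pU pU) ⟶ R) (hc₁ : c ≫ j ≫ pullback.fst pU pU = pullback.fst (j ≫ pullback.snd pU pU) (j ≫ pullback.fst pU pU) ≫ j ≫ pullback.fst pU pU) (hc₂ : c ≫ j ≫ pullback.snd pU pU = pullback.snd (j ≫ pullback.snd pU pU) (j ≫ pullback.fst pU pU) ≫ j ≫ pullback.snd pU pU) : Mono j ∧ ∀ T : Scheme.{u}, Equivalence (fun a b : T ⟶ U => ∃ r : T ⟶ R, r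 ≫ j ≫ pullback.fst pU pU = a ∧ r ≫ j ≫ pullback.snd pU pU = b) := by
  haveI : FormallyUnramified j := FormallyUnramified.of_comp j (pullback.fst pU pU)
  haveI : LocallyOfFiniteType j := locallyOfFiniteType_of_comp j (pullback.fst pU pU)
  haveI hsu : Surjective (pullback.diagonal j) := ⟨fun z => by
    let K := AlgebraicClosure ((pullback j j).residueField z)
    let p : Spec (CommRingCat.of K) ⟶ pullback j j :=
      Spec.map (CommRingCat.ofHom (algebraMap ((pullback j j).residueField z) K)) ≫
        (pullback j j).fromSpecResidueField z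
    have hinj := (h₂ K).1
    have e1 : p ≫ pullback.fst j j = p ≫ pullback.snd j j :=
      hinj (by simp only [Category.assoc, pullback.condition])
    have e2 : p = (p ≫ pullback.fst j j) ≫ pullback.diagonal j := by
      apply pullback.hom_ext <;> simp [e1]
    obtain ⟨q⟩ : Nonempty ↥(Spec (CommRingCat.of K)) :=
      inferInstanceAs (Nonempty (PrimeSpectrum K))
    refine ⟨(p ≫ pullback.fst j j) q, ?_⟩
    rw [← Scheme.Hom.comp_apply, ← e2]
    simp only [p, Scheme.Hom.comp_apply]
    exact Scheme.fromSpecResidueField_apply _ _⟩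
  haveI : IsIso (pullback.diagonal j) := by
    haveI : Epi (pullback.diagonal j).base :=
      (TopCat.epi_iff_surjective _).2 hsu.surj
    exact IsOpenImmersion.isIso _
  haveI hm : Mono j := (pullback.isIso_diagonal_iff j).1 inferInstance
  refine ⟨hm, fun T => ⟨fun a => ⟨a ≫ e, ?_, ?_⟩, ?_, ?_⟩⟩
  · rw [Category.assoc, reassoc_of% he, pullback.lift_fst, Category.comp_id]
  · rw [Category.assoc, reassoc_of% he, pullback.lift_snd, Category.comp_id]
  · rintro a b ⟨r, rfl, rfl⟩
    refine ⟨r ≫ i, ?_, ?_⟩
    · rw [Category.assoc, reassoc_of% hi, pullbackSymmetry_hom_comp_fst]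
    · rw [Category.assoc, reassoc_of% hi, pullbackSymmetry_hom_comp_snd]
  · rintro a b d ⟨r, rfl, rfl⟩ ⟨r', h1, rfl⟩
    refine ⟨pullback.lift r r' h1.symm ≫ c, ?_, ?_⟩
    · rw [Category.assoc, hc₁, pullback.lift_fst_assoc]
    · rw [Category.assoc, hc₂, pullback.lift_snd_assoc]

end Groth.Agent.S7514
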