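import Groth.Statements.S7521
import Groth.Agent.Lib.SchDesc12.FiniteOrbit
import Groth.Agent.Lib.Ample18.Avoid


set_option autoImplicit false
open CategoryTheory CategoryTheory.Limits AlgebraicGeometry
universe u
open Desc

namespace Groth.Agent.S7521

/-- Let p : X -> Y be a surjective finite locally free morphism and V a scheme over X which has an
invertible module ample relative to V -> X. Then every descent datum on V relative to p is
effective. (A quasi-projective morphism V -> X, in particular a projective one, carries such a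
module.) (Descent data are taken in functor-of-points form.) -/
theorem result {X Y : Scheme.{u}} (p : X ⟶ Y) [Surjective p] [IsFinite p] [Flat p] [LocallyOfFinitePresentation p] (D : Desc.SchDD p) (L : D.obj.left.Modules) (hL : RelAmple.IsRelAmple D.obj.hom L) : ∃ W : Over Y, Nonempty ((Desc.toDD p).obj W ≅ D) := by
  let E := (Desc.SchDDFam.ofSchDD.{u} p).obj D
  refine SchDesc12.exists_iso_of_isEffective D
    (SchDesc12.isEffective_of_orbit_affine E fun v => ?_)
  obtain ⟨V₀, hV₀, hy, -⟩ :=
    exists_isAffineOpen_mem_and_subset (X := Y) (x := p (D.obj.hom v)) (U := ⊤) trivial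
  let O : D.obj.left.Opens := D.obj.hom ⁻¹ᵁ (p ⁻¹ᵁ V₀)
  have hsub : SchDesc12.orbit E v ⊆ (O : Set D.obj.left) := fun v' hv' => by
    show p (D.obj.hom v') ∈ V₀
    have h : p (D.obj.hom v') = p (D.obj.hom v) := SchDesc12.Rel.map_eq E hv'
    rw [h]
    exact hy
  obtain ⟨n, G, -, hG, -, hA⟩ := Amp.exists_affine_hasSec_finite (hL.2 ⟨p ⁻¹ᵁ V₀, hV₀.preimage p⟩)
    ((SchDesc12.finite_orbit E v).preimage (f := O.ι) O.ι.isOpenEmbedding.injective.injOn)
    (U := ⊤) fun _ _ => trivial
  exact ⟨O.ι ''ᵁ G, hA.image_of_isOpenImmersion O.ι,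
    fun v' hv' => ⟨⟨v', hsub hv'⟩, hG hv', rfl⟩⟩

end Groth.Agent.S7521
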