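import Groth.Statements.S7522


set_option autoImplicit false
universe u
open CategoryTheory CategoryTheory.Limits AlgebraicGeometry
open Grpd

namespace Groth.Agent.S7522

/-- Let S be a scheme, U a scheme over S and j : R -> U x_S U a pre-equivalence relation, that is a
morphism such that for every scheme T the image of the T-points of R in pairs of T-points of U is an
equivalence relation; write t = pr_0 ∘ j and s = pr_1 ∘ j. Then the relation on the points of U in
which x ∼ y when some point r of R has t(r) = x and s(r) = y is an equivalence relation. -/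
theorem result {S U R : Scheme.{u}} (pU : U ⟶ S) (j : R ⟶ pullback pU pU) (hj : ∀ T : Scheme.{u}, Equivalence (fun a b : T ⟶ U => ∃ r : T ⟶ R, r ≫ j ≫ pullback.fst pU pU = a ∧ r ≫ j ≫ pullback.snd pU pU = b)) : Equivalence (fun x y : ↥U => ∃ r : R, (j ≫ pullback.fst pU pU) r = x ∧ (j ≫ pullback.snd pU pU) r = y) := by
  refine ⟨fun x => ?_, fun {x y} h => ?_, fun {x y z} h₁ h₂ => ?_⟩
  · obtain ⟨r, h₁, h₂⟩ := (hj U).refl (𝟙 U)
    refine ⟨r x, ?_, ?_⟩
    · simpa using congrArg (fun g : U ⟶ U => g x) h₁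
    · simpa using congrArg (fun g : U ⟶ U => g x) h₂
  · obtain ⟨r, rfl, rfl⟩ := h
    obtain ⟨r', h₁, h₂⟩ := (hj R).symm (show ∃ q : R ⟶ R, q ≫ j ≫ pullback.fst pU pU = j ≫ pullback.fst pU pU ∧ q ≫ j ≫ pullback.snd pU pU = j ≫ pullback.snd pU pU from ⟨𝟙 R, by simp, by simp⟩)
    refine ⟨r' r, ?_, ?_⟩
    · simpa using congrArg (fun g : R ⟶ U => g r) h₁
    · simpa using congrArg (fun g : R ⟶ U => g r) h₂
  · obtain ⟨r₁, rfl, h₁'⟩ := h₁
    obtain ⟨r₂, h₂', rfl⟩ := h₂
    obtain ⟨p, hp₁, hp₂⟩ := Scheme.Pullback.exists_preimage_pullback (f := j ≫ pullback.snd pU pU) (g := j ≫ pullback.fst pU pU) r₁ r₂ (h₁'.trans h₂'.symm)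
    set a := pullback.fst (j ≫ pullback.snd pU pU) (j ≫ pullback.fst pU pU) with ha
    set b := pullback.snd (j ≫ pullback.snd pU pU) (j ≫ pullback.fst pU pU) with hb
    obtain ⟨r', hr₁, hr₂⟩ := (hj _).trans
      (show ∃ q, q ≫ j ≫ pullback.fst pU pU = a ≫ j ≫ pullback.fst pU pU ∧ q ≫ j ≫ pullback.snd pU pU = a ≫ j ≫ pullback.snd pU pU from ⟨a, rfl, rfl⟩)
      (show ∃ q, q ≫ j ≫ pullback.fst pU pU = a ≫ j ≫ pullback.snd pU pU ∧ q ≫ j ≫ pullback.snd pU pU = b ≫ j ≫ pullback.snd pU pU from ⟨b, pullback.condition.symm, rfl⟩)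
    refine ⟨r' p, ?_, ?_⟩
    · rw [← hp₁]; simpa [ha] using congrArg (fun g => g p) hr₁
    · rw [← hp₂]; simpa [hb] using congrArg (fun g => g p) hr₂

end Groth.Agent.S7522
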