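import Groth.Statements.S7523
import Groth.Agent.Lib.PtSet.Spectral

set_option autoImplicit false
universe u
open SpecSp

namespace Groth.Agent.S7523

/-- For a spectral map f : X → Y between spectral spaces, (1) f remains continuous once X and Y are both
given their constructible topologies, (2) every fibre of f is quasi-compact, and (3) f(X) is a
closed subset of Y for the constructible topology. -/
theorem result {X Y : Type u} [TopologicalSpace X] [TopologicalSpace Y]
    [SpectralSpace X] [SpectralSpace Y] (f : X → Y) (hf : IsSpectralMap f) :
    @Continuous X Y (constructibleTopology X) (constructibleTopology Y) f ∧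
    (∀ y : Y, IsCompact (f ⁻¹' {y})) ∧
    @IsClosed Y (constructibleTopology Y) (Set.range f) := by
  refine ⟨?_, fun y ↦ ?_, ?_⟩
  · exact @Continuous.mk X Y (constructibleTopology X) (constructibleTopology Y) f
      fun s hs ↦ Groth.Agent.PtSet.isOpen_patch_iff.2
        (Groth.Agent.PtSet.isOpen_toPatch_preimage hf (Groth.Agent.PtSet.isOpen_patch_iff.1 hs))
  · refine Groth.Agent.PtSet.isCompact_of_isClosed_toPatch
      (Groth.Agent.PtSet.isClosed_toPatch_preimage hf ?_)
    convert isClosed_singleton (x := WithTopology.toTopology (constructibleTopology Y) y) using 1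
    ext a
    exact (WithTopology.ofTopology_injective _).eq_iff (b := WithTopology.toTopology _ y)
  · rw [Groth.Agent.PtSet.isClosed_patch_iff]
    have h := Groth.Agent.PtSet.isClosed_toPatch_image hf (E := Set.univ) isClosed_univ
    rwa [Set.image_univ] at h

end Groth.Agent.S7523
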