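import Groth.Statements.S7524
import Groth.Agent.Lib.PtSet.Spectral

set_option autoImplicit false
universe u
open SpecSp

namespace Groth.Agent.S7524

/-- A continuous map f : X → Y of spectral spaces is spectral if and only if it is continuous when X and
Y both carry their constructible topologies. -/
theorem result {X Y : Type u} [TopologicalSpace X] [TopologicalSpace Y]
    [SpectralSpace X] [SpectralSpace Y] (f : X → Y) (hf : Continuous f) :
    IsSpectralMap f ↔ @Continuous X Y (constructibleTopology X) (constructibleTopology Y) f := by
  refine ⟨fun h ↦ ?_, fun h ↦ Groth.Agent.PtSet.isSpectralMap_of_patch hf fun U hU hUc ↦ ?_⟩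
  · exact @Continuous.mk X Y (constructibleTopology X) (constructibleTopology Y) f
      fun s hs ↦ Groth.Agent.PtSet.isOpen_patch_iff.2
        (Groth.Agent.PtSet.isOpen_toPatch_preimage h (Groth.Agent.PtSet.isOpen_patch_iff.1 hs))
  · refine Groth.Agent.PtSet.isClosed_patch_iff.1 ?_
    exact @IsClosed.preimage X Y (constructibleTopology X) (constructibleTopology Y) f h U
      (Groth.Agent.PtSet.isClosed_patch_iff.2 (Groth.Agent.PtSet.isClopen_toPatch hU hUc).1)

end Groth.Agent.S7524
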