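import Groth.Statements.S7527
import Groth.Agent.Lib.PtSet.Spectral

set_option autoImplicit false
universe u
open SpecSp

namespace Groth.Agent.S7527

/-- Let X be a spectral space and x, y ∈ X. Then either there is a third point specializing to both x
and y, or there are disjoint open neighbourhoods of x and of y. -/
theorem result {X : Type u} [TopologicalSpace X] [SpectralSpace X] (x y : X) :
    (∃ z : X, z ⤳ x ∧ z ⤳ y) ∨
    (∃ U V : Set X, IsOpen U ∧ IsOpen V ∧ x ∈ U ∧ y ∈ V ∧ Disjoint U V) := by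
  by_cases h : ∃ U V : Set X, IsOpen U ∧ IsOpen V ∧ x ∈ U ∧ y ∈ V ∧ Disjoint U V
  · exact .inr h
  left
  let I := {W : Set X // (IsOpen W ∧ IsCompact W) ∧ (x ∈ W ∨ y ∈ W)}
  have hfip : ∀ t : Finset I,
      (Set.univ ∩ ⋂ W ∈ t, Groth.Agent.PtSet.toPatch W.1).Nonempty := by
    intro t
    by_contra hne
    refine h ⟨⋂ W ∈ t, ⋂ (_ : x ∈ W.1), W.1, ⋂ W ∈ t, ⋂ (_ : y ∈ W.1), W.1,
      isOpen_biInter_finset fun W _ ↦ isOpen_iInter_of_finite fun _ ↦ W.2.1.1,
      isOpen_biInter_finset fun W _ ↦ isOpen_iInter_of_finite fun _ ↦ W.2.1.1,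
      by simp, by simp, Set.disjoint_left.2 fun a ha hb ↦ hne ⟨WithTopology.toTopology _ a, trivial,
        Set.mem_iInter₂.2 fun W hW ↦ ?_⟩⟩
    rcases W.2.2 with hx | hy
    · exact Set.mem_iInter.1 (Set.mem_iInter₂.1 ha W hW) hx
    · exact Set.mem_iInter.1 (Set.mem_iInter₂.1 hb W hW) hy
  obtain ⟨z, -, hz⟩ := isCompact_univ.inter_iInter_nonempty
    (fun W : I ↦ Groth.Agent.PtSet.toPatch W.1)
    (fun W ↦ (Groth.Agent.PtSet.isClopen_toPatch W.2.1.1 W.2.1.2).1) hfip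
  refine ⟨z.ofTopology, ?_, ?_⟩ <;>
  · refine specializes_iff_mem_closure.2 ?_
    rw [PrespectralSpace.isTopologicalBasis.mem_closure_iff]
    intro U hU hxU
    exact ⟨_, Set.mem_iInter.1 hz ⟨U, hU, by tauto⟩, rfl⟩

end Groth.Agent.S7527
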