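import Groth.Statements.S7528
import Groth.Agent.Lib.PtSet.Spectral

set_option autoImplicit false
universe u
open SpecSp

namespace Groth.Agent.S7528

/-- For a spectral space X the following are equivalent: (1) X is profinite, i.e. quasi-compact,
Hausdorff and totally disconnected (quasi-compactness being automatic); (2) X is Hausdorff; (3) X is
totally disconnected; (4) every quasi-compact open subset is closed; (5) there are no nontrivial
specializations between points; (6) every point is closed; (7) every point is the generic point of
an irreducible component; (8) the constructible topology coincides with the topology of X. -/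
theorem result (X : Type u) [tX : TopologicalSpace X] [SpectralSpace X] :
    List.TFAE [
      T2Space X ∧ TotallyDisconnectedSpace X,
      T2Space X,
      TotallyDisconnectedSpace X,
      ∀ U : Set X, IsOpen U → IsCompact U → IsClosed U,
      ∀ x y : X, x ⤳ y → x = y,
      ∀ x : X, IsClosed ({x} : Set X),
      ∀ x : X, closure ({x} : Set X) ∈ irreducibleComponents X,
      constructibleTopology X = tX] := by
  tfae_have 1 → 2 := fun h ↦ h.1
  tfae_have 1 → 3 := fun h ↦ h.2
  tfae_have 2 → 6 := fun _ _ ↦ isClosed_singleton
  tfae_have 3 → 6 := by
    intro h x
    refine closure_subset_iff_isClosed.1 ((isPreconnected_singleton.closure.subset_connectedComponent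
      (subset_closure rfl)).trans ?_)
    rw [connectedComponent_eq_singleton]
  tfae_have 6 → 5 := by
    intro h x y hxy
    have := specializes_iff_mem_closure.1 hxy
    rw [(h x).closure_eq] at this
    exact this.symm
  tfae_have 5 → 4 := by
    intro h U hU hUc
    refine Groth.Agent.PtSet.isClosed_of_toPatch (Groth.Agent.PtSet.isClopen_toPatch hU hUc).1 ?_
    intro a b hab ha
    exact h a b hab ▸ ha
  tfae_have 4 → 8 := by
    intro h
    refine le_antisymm ?_ (le_generateFrom ?_)
    · intro U hU
      exact Groth.Agent.PtSet.isOpen_patch_iff.2
        (hU.preimage Groth.Agent.PtSet.continuous_fromPatch)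
    · rintro U (hU | hU)
      · exact hU.1
      · simpa using (h Uᶜ hU.1.isOpen_compl hU.2).isOpen_compl
  tfae_have 8 → 1 := by
    intro h
    have hc : Continuous (WithTopology.toTopology (constructibleTopology X) :
        X → WithConstructibleTopology X) := by
      refine continuous_def.2 fun s hs ↦ ?_
      have := WithConstructibleTopology.isOpen_iff.1 hs
      change @IsOpen X tX (WithTopology.toTopology _ ⁻¹' s)
      generalize WithTopology.toTopology _ ⁻¹' s = S at this ⊢
      rwa [h] at this
    have hinj := WithTopology.toTopology_injective (constructibleTopology X)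
    refine ⟨T2Space.of_injective_continuous hinj hc, ⟨fun s _ hs x hx y hy ↦ hinj ?_⟩⟩
    exact (Groth.Agent.PtSet.totallyDisconnectedSpace_patch (X := X)).1
      (WithTopology.toTopology _ '' s) (Set.subset_univ _) (hs.image _ hc.continuousOn)
      ⟨x, hx, rfl⟩ ⟨y, hy, rfl⟩
  tfae_have 5 → 7 := by
    intro h x
    refine ⟨isIrreducible_singleton.closure, fun W hW hsub ↦ ?_⟩
    obtain ⟨η, hη⟩ := QuasiSober.sober hW.closure isClosed_closure
    have : η = x := h η x (hη.specializes (subset_closure (hsub (subset_closure rfl))))
    subst this
    exact subset_closure.trans hη.def.ge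
  tfae_have 7 → 5 := by
    intro h x y hxy
    have h1 : closure {y} ⊆ closure ({x} : Set X) := closure_minimal
      (Set.singleton_subset_iff.2 (specializes_iff_mem_closure.1 hxy)) isClosed_closure
    have h2 := (h y).2 isIrreducible_singleton.closure h1
    exact (hxy.antisymm (specializes_iff_mem_closure.2 (h2 (subset_closure rfl)))).eq
  tfae_finish

end Groth.Agent.S7528
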