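import Groth.Statements.S7529
import Groth.Agent.Lib.PtSet.Spectral

set_option autoImplicit false
universe u
open SpecSp

namespace Groth.Agent.S7529

/-- The product X × Y of two spectral spaces X and Y is a spectral space. -/
theorem result (X Y : Type u) [TopologicalSpace X] [TopologicalSpace Y]
    [SpectralSpace X] [SpectralSpace Y] : SpectralSpace (X × Y) := by
  refine Groth.Agent.PtSet.spectralSpace_of_patch
    (P := WithConstructibleTopology X × WithConstructibleTopology Y)
    (p := Prod.map WithTopology.ofTopology WithTopology.ofTopology)
    ((WithTopology.ofTopology_surjective _).prodMap (WithTopology.ofTopology_surjective _))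
    (PrespectralSpace.isTopologicalBasis.prod PrespectralSpace.isTopologicalBasis) ?_
  rintro _ ⟨U, hU, V, hV, rfl⟩
  exact (Groth.Agent.PtSet.isClopen_toPatch hU.1 hU.2).prod
    (Groth.Agent.PtSet.isClopen_toPatch hV.1 hV.2)

end Groth.Agent.S7529
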