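import Groth.Statements.S7530
import Groth.Agent.Lib.PtSet.Spectral

set_option autoImplicit false
universe u
open SpecSp

namespace Groth.Agent.S7530

/-- Let f : X → Y be a map of spectral spaces which is spectral and bijective, and assume that
generalizations lift along f or that specializations lift along f. Then f is a homeomorphism. -/
theorem result {X Y : Type u} [TopologicalSpace X] [TopologicalSpace Y]
    [SpectralSpace X] [SpectralSpace Y] (f : X → Y) (hf : IsSpectralMap f) (hb : Function.Bijective f)
    (hlift : GeneralizingMap f ∨ SpecializingMap f) :
    IsHomeomorph f := by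
  refine isHomeomorph_iff_continuous_isClosedMap_bijective.2 ⟨hf.continuous, ?_, hb⟩
  rcases hlift with hl | hl
  · intro C hC
    have h1 : IsOpen (f '' Cᶜ) := by
      refine Groth.Agent.PtSet.isOpen_of_toPatch ?_ (StableUnderGeneralization.image hl
        hC.isOpen_compl.stableUnderGeneralization)
      have := Groth.Agent.PtSet.isClosed_toPatch_image hf
        (E := C) (hC.preimage Groth.Agent.PtSet.continuous_fromPatch)
      rw [Set.image_compl_eq hb]
      exact this.isOpen_compl
    rw [Set.image_compl_eq hb] at h1
    exact isOpen_compl_iff.1 h1
  · exact fun C hC ↦ Groth.Agent.PtSet.isClosed_of_toPatch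
      (Groth.Agent.PtSet.isClosed_toPatch_image hf
        (hC.preimage Groth.Agent.PtSet.continuous_fromPatch))
      (StableUnderSpecialization.image hl hC.stableUnderSpecialization)

end Groth.Agent.S7530
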