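import Groth.Statements.S7532
import Groth.Agent.Lib.PtSet.Spectral

set_option autoImplicit false
universe u
open SpecSp

namespace Groth.Agent.S7532

/-- Let W be the two-point space with one closed and one non-closed point (here the Sierpiński topology
on Prop). A topological space X is spectral exactly when, for some index type I, X admits a
topological embedding into the power W^I whose image is a closed set for the constructible topology
on W^I. -/
theorem result (X : Type u) [TopologicalSpace X] :
    SpectralSpace X ↔ ∃ (I : Type u) (f : X → (I → Prop)),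
      Topology.IsEmbedding f ∧ @IsClosed (I → Prop) (constructibleTopology (I → Prop)) (Set.range f) := by
  have hpi : ∀ I : Type u, SpectralSpace (I → Prop) ∧
      (∀ i : I, IsOpen {s : I → Prop | s i}) ∧
      ∀ W : Set (I → Prop), IsOpen W → IsCompact W →
        IsClopen ((fun (g : I → Bool) (i : I) ↦ g i = true) ⁻¹' W) := by
    intro I
    haveI : T0Space (I → Prop) := by
      refine ⟨fun s t hst ↦ funext fun i ↦ propext ?_⟩
      exact hst.mem_open_iff ((continuous_Prop.1 (continuous_apply i)))
    have hp : Function.Surjective fun (g : I → Bool) (i : I) ↦ g i = true := fun s ↦ by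
      classical
      exact ⟨fun i ↦ decide (s i), funext fun i ↦ by simp⟩
    have hgen : (inferInstance : TopologicalSpace (I → Prop)) =
        TopologicalSpace.generateFrom (Set.range fun i ↦ {s : I → Prop | s i}) := by
      change (⨅ i, TopologicalSpace.induced _ _) = _
      simp only [sierpinskiSpace]
      simp only [induced_generateFrom_eq, ← generateFrom_iUnion]
      congr 1
      ext t
      simp only [Set.image_singleton, Set.mem_iUnion, Set.mem_singleton_iff, Set.mem_range]
      refine exists_congr fun i ↦ ?_
      rw [eq_comm]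
      exact Eq.congr_left (by ext; simp)
    have hsb := TopologicalSpace.isTopologicalBasis_of_subbasis hgen
    have hcl : ∀ V ∈ (fun f ↦ ⋂₀ f) '' {f : Set (Set (I → Prop)) | f.Finite ∧
        f ⊆ Set.range fun i ↦ {s : I → Prop | s i}},
        IsClopen ((fun (g : I → Bool) (i : I) ↦ g i = true) ⁻¹' V) := by
      rintro _ ⟨f, ⟨hf, hsub⟩, rfl⟩
      rw [Set.preimage_sInter]
      refine hf.isClopen_biInter fun t ht ↦ ?_
      obtain ⟨i, rfl⟩ := hsub ht
      exact (isClopen_discrete {true}).preimage (continuous_apply i)
    refine ⟨Groth.Agent.PtSet.spectralSpace_of_patch hp hsb hcl,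
      fun i ↦ continuous_Prop.1 (continuous_apply i), fun W hW hWc ↦ ?_⟩
    refine ⟨?_, hW.preimage (hsb.continuous_iff.2 fun V hV ↦ (hcl V hV).2)⟩
    obtain ⟨S, hS, hSW⟩ := hsb.open_eq_sUnion hW
    obtain ⟨S', hS'S, hS'f, hcov⟩ := hWc.elim_finite_subcover_image (b := S) (c := fun s ↦ s)
      (fun s hs ↦ hsb.isOpen (hS hs)) (by rw [hSW, Set.sUnion_eq_biUnion])
    have hWeq : W = ⋃₀ S' := by
      refine subset_antisymm (by rwa [Set.sUnion_eq_biUnion]) ?_
      rw [hSW]; exact Set.sUnion_subset_sUnion hS'S
    rw [hWeq, Set.preimage_sUnion]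
    exact hS'f.isClosed_biUnion fun s hs ↦ (hcl s (hS (hS'S hs))).1
  constructor
  · intro hX
    classical
    obtain ⟨hsI, hoI, hcI⟩ := hpi {U : Set X // IsOpen U ∧ IsCompact U}
    have hc : Continuous fun (x : X) (U : {U : Set X // IsOpen U ∧ IsCompact U}) ↦ x ∈ U.1 :=
      continuous_pi fun U ↦ continuous_Prop.2 U.2.1
    refine ⟨{U : Set X // IsOpen U ∧ IsCompact U}, fun x U ↦ x ∈ U.1, ?_, ?_⟩
    · refine ⟨⟨le_antisymm (continuous_iff_le_induced.1 hc) ?_⟩, fun x y h ↦ ?_⟩
      · conv_rhs => rw [(PrespectralSpace.isTopologicalBasis (X := X)).eq_generateFrom]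
        refine le_generateFrom fun U hU ↦ ?_
        exact isOpen_induced_iff.2 ⟨{s | s ⟨U, hU⟩}, hoI ⟨U, hU⟩, rfl⟩
      · by_contra hne
        obtain ⟨U, hU, hUc, hxy⟩ := Groth.Agent.PtSet.exists_compactOpen_separating hne
        have := congrFun h ⟨U, hU, hUc⟩
        simp only [eq_iff_iff] at this
        tauto
    · rw [Groth.Agent.PtSet.isClosed_patch_iff]
      have hg : Continuous fun (a : WithConstructibleTopology X)
          (U : {U : Set X // IsOpen U ∧ IsCompact U}) ↦ decide (a.ofTopology ∈ U.1) := by
        refine continuous_pi fun U ↦ continuous_discrete_rng.2 fun b ↦ ?_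
        have hU := Groth.Agent.PtSet.isClopen_toPatch U.2.1 U.2.2
        cases b
        · convert hU.1.isOpen_compl using 1
          ext a; simp
        · convert hU.2 using 1
          ext a; simp
      have hsp : IsSpectralMap fun (x : X) (U : {U : Set X // IsOpen U ∧ IsCompact U}) ↦
          x ∈ U.1 := by
        refine Groth.Agent.PtSet.isSpectralMap_of_patch hc fun W hW hWc ↦ ?_
        convert (hcI W hW hWc).1.preimage hg using 1
        ext a; simp
      have h := Groth.Agent.PtSet.isClosed_toPatch_image hsp (E := Set.univ) isClosed_univ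
      rwa [Set.image_univ] at h
  · rintro ⟨I, f, hf, hr⟩
    haveI := (hpi I).1
    haveI := Groth.Agent.PtSet.spectralSpace_of_isClosed_toPatch
      (Groth.Agent.PtSet.isClosed_patch_iff.1 hr)
    let e := hf.toHomeomorph
    haveI : CompactSpace X := e.symm.compactSpace
    exact e.isOpenEmbedding.spectralSpace

end Groth.Agent.S7532
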