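import Groth.Statements.S7535
import Groth.Agent.Lib.PtSet.SpectralLimit

set_option autoImplicit false
universe u
open CategoryTheory CategoryTheory.Limits
open SpecSp

namespace Groth.Agent.S7535

/-- Let j ↦ X_j be a cofiltered diagram of spectral spaces with spectral transition maps f_a, X its
limit with projections p_j, i an object, and E, F ⊆ X_i subsets, E constructibly closed and F
constructibly open in X_i. The inclusion p_i⁻¹(E) ⊆ p_i⁻¹(F) holds exactly when some morphism a : j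
→ i already gives f_a⁻¹(E) ⊆ f_a⁻¹(F). -/
theorem result {J : Type u} [SmallCategory J] [IsCofiltered J] (F : J ⥤ TopCat.{u})
    (hF : ∀ j, SpectralSpace (F.obj j))
    (hFm : ∀ {i j : J} (a : i ⟶ j), IsSpectralMap (F.map a : F.obj i → F.obj j))
    (c : Cone F) (hc : IsLimit c)
    (i : J) (E F' : Set (F.obj i)) (hE : @IsClosed (F.obj i) (constructibleTopology (F.obj i)) E)
    (hF' : @IsOpen (F.obj i) (constructibleTopology (F.obj i)) F') :
    (c.π.app i ⁻¹' E ⊆ c.π.app i ⁻¹' F') ↔ ∃ (j : J) (a : j ⟶ i), F.map a ⁻¹' E ⊆ F.map a ⁻¹' F' := by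
  constructor
  · intro h
    obtain ⟨j, a, hja⟩ := Groth.Agent.PtSet.exists_stage_preimage_empty hF hFm hc (i := i) (E \ F')
      (IsClosed.sdiff (Groth.Agent.PtSet.isClosed_patch_iff.1 hE)
        (Groth.Agent.PtSet.isOpen_patch_iff.1 hF'))
      (Set.eq_empty_of_forall_notMem fun x hx ↦ hx.2 (h hx.1))
    exact ⟨j, a, fun y hy ↦ by_contra fun hy' ↦ (Set.ext_iff.1 hja y).1 ⟨hy, hy'⟩⟩
  · rintro ⟨j, a, h⟩ x hx
    rw [Set.mem_preimage, ← Groth.Agent.PtSet.cone_w_apply a] at hx ⊢
    exact h hx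

end Groth.Agent.S7535
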