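import Groth.Statements.S7536
import Groth.Agent.Lib.PtSet.SpectralLimit
import Groth.Agent.Lib.PtSet.Constr

set_option autoImplicit false
universe u
open CategoryTheory CategoryTheory.Limits
open SpecSp

namespace Groth.Agent.S7536

/-- Let j ↦ X_j be a cofiltered diagram of spectral spaces with spectral transition maps and X its limit
with projections p_j. For every constructible E ⊆ X there are an object i and a constructible E_i ⊆
X_i with p_i⁻¹(E_i) = E; if E is open, resp. closed, then E_i may be chosen open, resp. closed. -/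
theorem result {J : Type u} [SmallCategory J] [IsCofiltered J] (F : J ⥤ TopCat.{u})
    (hF : ∀ j, SpectralSpace (F.obj j))
    (hFm : ∀ {i j : J} (a : i ⟶ j), IsSpectralMap (F.map a : F.obj i → F.obj j))
    (c : Cone F) (hc : IsLimit c)
    (E : Set c.pt) (hE : Topology.IsConstructible E) :
    (∃ (i : J) (Ei : Set (F.obj i)), Topology.IsConstructible Ei ∧ c.π.app i ⁻¹' Ei = E) ∧
    (IsOpen E → ∃ (i : J) (Ei : Set (F.obj i)), Topology.IsConstructible Ei ∧ IsOpen Ei ∧ c.π.app i ⁻¹' Ei = E) ∧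
    (IsClosed E → ∃ (i : J) (Ei : Set (F.obj i)), Topology.IsConstructible Ei ∧ IsClosed Ei ∧ c.π.app i ⁻¹' Ei = E) := by
  obtain ⟨hsp, hπ⟩ := Groth.Agent.PtSet.spectralSpace_limit hF hFm hc
  haveI : Nonempty J := IsCofiltered.nonempty
  have hopen : ∀ E : Set c.pt, IsOpen E → IsCompact E →
      ∃ (i : J) (Ei : Set (F.obj i)), Topology.IsConstructible Ei ∧ IsOpen Ei ∧
        c.π.app i ⁻¹' Ei = E := fun E ho hcE ↦ by
    obtain ⟨i, Ui, h1, h2, h3⟩ := Groth.Agent.PtSet.exists_stage_compactOpen hF hFm hc ho hcE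
    haveI := hF i
    exact ⟨i, Ui, h2.isConstructible h1, h1, h3⟩
  have hpull : ∀ {i k : J} (a : k ⟶ i) (W : Set (F.obj i)), Topology.IsConstructible W →
      Topology.IsConstructible (F.map a ⁻¹' W) ∧
        c.π.app k ⁻¹' (F.map a ⁻¹' W) = c.π.app i ⁻¹' W := fun {i k} a W hW ↦ by
    haveI := hF i; haveI := hF k
    refine ⟨hW.preimage (F.map a).hom.continuous fun s hs hsr ↦ ?_, ?_⟩
    · exact (hsr.isCompact.preimage_of_isOpen (hFm a) hs).isRetrocompact
        (hs.preimage (F.map a).hom.continuous)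
    · ext x; simp only [Set.mem_preimage, Groth.Agent.PtSet.cone_w_apply]
  refine ⟨?_, fun ho ↦ hopen E ho (Groth.Agent.PtSet.isRetrocompact_constructible hE).isCompact,
    fun hcl ↦ ?_⟩
  · induction hE using Topology.IsConstructible.empty_union_induction with
    | open_retrocompact U hU hUr =>
      obtain ⟨i, Ui, h1, -, h3⟩ := hopen U hU hUr.isCompact
      exact ⟨i, Ui, h1, h3⟩
    | union s _ t _ hs ht =>
      obtain ⟨i, A, hA, rfl⟩ := hs
      obtain ⟨j, B, hB, rfl⟩ := ht
      obtain ⟨k, a, b, -⟩ := IsCofilteredOrEmpty.cone_objs i j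
      exact ⟨k, _, (hpull a A hA).1.union (hpull b B hB).1,
        by rw [Set.preimage_union, (hpull a A hA).2, (hpull b B hB).2]⟩
    | compl s _ hs =>
      obtain ⟨i, A, hA, rfl⟩ := hs
      exact ⟨i, Aᶜ, hA.compl, rfl⟩
  · obtain ⟨i, Ei, h1, h2, h3⟩ := hopen Eᶜ hcl.isOpen_compl
      (Groth.Agent.PtSet.isRetrocompact_constructible hE.compl).isCompact
    exact ⟨i, Eiᶜ, h1.compl, h2.isClosed_compl, by rw [Set.preimage_compl, h3, compl_compl]⟩

end Groth.Agent.S7536
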