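import Groth.Statements.S7538
import Groth.Agent.Lib.PtSet.SpectralLimit

set_option autoImplicit false
universe u
open CategoryTheory CategoryTheory.Limits
open SpecSp

namespace Groth.Agent.S7538

/-- Let j ↦ X_j be a cofiltered diagram of spectral spaces with spectral transition maps f_a and X its
limit with projections p_j. (1) Any quasi-compact open U ⊆ X is p_i⁻¹(U_i) for some i and some
quasi-compact open U_i ⊆ X_i. (2) If U_i ⊆ X_i and U_j ⊆ X_j are quasi-compact opens with p_i⁻¹(U_i)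
⊆ p_j⁻¹(U_j), there are k and a : k → i, b : k → j with f_a⁻¹(U_i) ⊆ f_b⁻¹(U_j). (3) If U_i and
finitely many U_{l,i} are quasi-compact opens of X_i with p_i⁻¹(U_i) = ⋃_l p_i⁻¹(U_{l,i}), then
f_a⁻¹(U_i) = ⋃_l f_a⁻¹(U_{l,i}) for some a : j → i. (4) The same with intersections. -/
theorem result {J : Type u} [SmallCategory J] [IsCofiltered J] (F : J ⥤ TopCat.{u})
    (hF : ∀ j, SpectralSpace (F.obj j))
    (hFm : ∀ {i j : J} (a : i ⟶ j), IsSpectralMap (F.map a : F.obj i → F.obj j))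
    (c : Cone F) (hc : IsLimit c) :
    (∀ U : Set c.pt, IsOpen U → IsCompact U →
      ∃ (i : J) (Ui : Set (F.obj i)), IsOpen Ui ∧ IsCompact Ui ∧ c.π.app i ⁻¹' Ui = U) ∧
    (∀ (i j : J) (Ui : Set (F.obj i)) (Uj : Set (F.obj j)),
      IsOpen Ui → IsCompact Ui → IsOpen Uj → IsCompact Uj →
      c.π.app i ⁻¹' Ui ⊆ c.π.app j ⁻¹' Uj →
      ∃ (k : J) (a : k ⟶ i) (b : k ⟶ j), F.map a ⁻¹' Ui ⊆ F.map b ⁻¹' Uj) ∧
    (∀ (i : J) (n : ℕ) (Ui : Set (F.obj i)) (V : Fin n → Set (F.obj i)),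
      IsOpen Ui → IsCompact Ui → (∀ l, IsOpen (V l) ∧ IsCompact (V l)) →
      (c.π.app i ⁻¹' Ui = ⋃ l, c.π.app i ⁻¹' V l →
        ∃ (j : J) (a : j ⟶ i), F.map a ⁻¹' Ui = ⋃ l, F.map a ⁻¹' V l) ∧
      (c.π.app i ⁻¹' Ui = ⋂ l, c.π.app i ⁻¹' V l →
        ∃ (j : J) (a : j ⟶ i), F.map a ⁻¹' Ui = ⋂ l, F.map a ⁻¹' V l)) := by
  have hpull : ∀ {i k : J} (a : k ⟶ i) (W : Set (F.obj i)), IsOpen W → IsCompact W →
      IsClopen (Groth.Agent.PtSet.toPatch (F.map a ⁻¹' W)) := fun {i k} a W hW hWc ↦ by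
    haveI := hF k
    exact Groth.Agent.PtSet.isClopen_toPatch (hW.preimage (F.map a).hom.continuous)
      (hWc.preimage_of_isOpen (hFm a) hW)
  have heq : ∀ (i : J) (A B : Set (F.obj i)), IsClopen (Groth.Agent.PtSet.toPatch A) →
      IsClopen (Groth.Agent.PtSet.toPatch B) → c.π.app i ⁻¹' A = c.π.app i ⁻¹' B →
      ∃ (j : J) (a : j ⟶ i), F.map a ⁻¹' A = F.map a ⁻¹' B := by
    intro i A B hA hB h
    obtain ⟨j, a, hja⟩ := Groth.Agent.PtSet.exists_stage_preimage_empty hF hFm hc (i := i)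
      ((A \ B) ∪ (B \ A)) ((hA.inter hB.compl).union (hB.inter hA.compl)).1
      (by simp only [Set.preimage_union, Set.preimage_sdiff, h, Set.sdiff_self, Set.union_self])
    refine ⟨j, a, Set.ext fun y ↦ ?_⟩
    have := Set.ext_iff.1 hja y
    simp only [Set.mem_preimage, Set.mem_union, Set.mem_sdiff, Set.mem_empty_iff_false,
      iff_false] at this ⊢
    tauto
  refine ⟨fun U hU hUc ↦ Groth.Agent.PtSet.exists_stage_compactOpen hF hFm hc hU hUc, ?_, ?_⟩
  · intro i j Ui Uj hi hic hj hjc hsub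
    obtain ⟨l, p, q, -⟩ := IsCofilteredOrEmpty.cone_objs i j
    obtain ⟨k, e, hk⟩ := Groth.Agent.PtSet.exists_stage_preimage_empty hF hFm hc (i := l)
      (F.map p ⁻¹' Ui \ F.map q ⁻¹' Uj) ((hpull p Ui hi hic).inter (hpull q Uj hj hjc).compl).1 (by
        refine Set.eq_empty_of_forall_notMem fun x hx ↦ hx.2 ?_
        rw [Set.mem_preimage, Groth.Agent.PtSet.cone_w_apply]
        refine hsub ?_
        rw [Set.mem_preimage, ← Groth.Agent.PtSet.cone_w_apply p]
        exact hx.1)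
    refine ⟨k, e ≫ p, e ≫ q, fun y hy ↦ by_contra fun hy' ↦ (Set.ext_iff.1 hk y).1 ⟨?_, ?_⟩⟩
    · simpa using hy
    · simpa using hy'
  · intro i n Ui V hi hic hV
    haveI := hF i
    have hU := Groth.Agent.PtSet.isClopen_toPatch hi hic
    have hVl := fun l ↦ Groth.Agent.PtSet.isClopen_toPatch (hV l).1 (hV l).2
    constructor
    · intro h
      obtain ⟨j, a, hja⟩ := heq i Ui (⋃ l, V l) hU
        (by rw [Groth.Agent.PtSet.toPatch, Set.preimage_iUnion]
            exact isClopen_iUnion_of_finite hVl) (by rw [h, Set.preimage_iUnion])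
      exact ⟨j, a, by rw [hja, Set.preimage_iUnion]⟩
    · intro h
      obtain ⟨j, a, hja⟩ := heq i Ui (⋂ l, V l) hU
        (by rw [Groth.Agent.PtSet.toPatch, Set.preimage_iInter]
            exact isClopen_iInter_of_finite hVl) (by rw [h, Set.preimage_iInter])
      exact ⟨j, a, by rw [hja, Set.preimage_iInter]⟩

end Groth.Agent.S7538
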