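import Groth.Statements.S7539
import Groth.Agent.Lib.PtSet.Spectral

set_option autoImplicit false
universe u
open SpecSp

namespace Groth.Agent.S7539

/-- For a subset W of a spectral space X, these five conditions coincide: (1) W can be written as an
intersection of constructible subsets and is stable under generalization; (2) W is quasi-compact and
stable under generalization; (3) for some quasi-compact E ⊆ X, W consists exactly of the points that
specialize to a point of E; (4) W is the intersection of some family of quasi-compact opens; (5)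
there are a nonempty index set I and quasi-compact opens U_i with W = ⋂ U_i such that for all i, j
some U_k is contained in U_i ∩ U_j. -/
theorem result {X : Type u} [TopologicalSpace X] [SpectralSpace X] (W : Set X) :
    List.TFAE [
      (∃ S : Set (Set X), (∀ s ∈ S, Topology.IsConstructible s) ∧ W = ⋂₀ S) ∧ StableUnderGeneralization W,
      IsCompact W ∧ StableUnderGeneralization W,
      ∃ E : Set X, IsCompact E ∧ W = {x | ∃ e ∈ E, x ⤳ e},
      ∃ S : Set (Set X), (∀ s ∈ S, IsOpen s ∧ IsCompact s) ∧ W = ⋂₀ S,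
      ∃ (I : Type u) (_ : Nonempty I) (U : I → Set X), (∀ i, IsOpen (U i) ∧ IsCompact (U i)) ∧
        W = ⋂ i, U i ∧ ∀ i j, ∃ k, U k ⊆ U i ∩ U j] := by
  tfae_have 1 → 2 := by
    rintro ⟨⟨S, hS, rfl⟩, hg⟩
    refine ⟨Groth.Agent.PtSet.isCompact_of_isClosed_toPatch ?_, hg⟩
    rw [Groth.Agent.PtSet.toPatch, Set.preimage_sInter]
    exact isClosed_biInter fun s hs ↦
      (Groth.Agent.PtSet.isClopen_toPatch_of_isConstructible (hS s hs)).1
  tfae_have 2 → 3 := by
    rintro ⟨hc, hg⟩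
    exact ⟨W, hc, Set.ext fun x ↦ ⟨fun hx ↦ ⟨x, hx, specializes_rfl⟩,
      fun ⟨e, he, hxe⟩ ↦ hg hxe he⟩⟩
  tfae_have 3 → 4 := by
    rintro ⟨E, hE, rfl⟩
    refine ⟨{s | (IsOpen s ∧ IsCompact s) ∧ E ⊆ s}, fun s hs ↦ hs.1,
      subset_antisymm (fun x ⟨e, he, hxe⟩ s hs ↦ hxe.mem_open hs.1.1 (hs.2 he)) fun x hx ↦ ?_⟩
    by_contra h
    simp only [Set.mem_ofPred_eq, not_exists, not_and] at h
    have hEx : E ⊆ (closure {x})ᶜ := fun e he hmem ↦ h e he (specializes_iff_mem_closure.2 hmem)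
    obtain ⟨V, hVc, hVo, hEV, hVx⟩ := PrespectralSpace.exists_isCompact_and_isOpen_between hE
      isClosed_closure.isOpen_compl hEx
    exact hVx (hx V ⟨⟨hVo, hVc⟩, hEV⟩) (subset_closure rfl)
  tfae_have 4 → 5 := by
    rintro ⟨S, hS, rfl⟩
    have hfin : ∀ T : Set (Set X), T.Finite → T ⊆ S → IsOpen (⋂₀ T) ∧ IsCompact (⋂₀ T) := by
      intro T hT hTS
      exact ⟨hT.isOpen_sInter fun s hs ↦ (hS s (hTS hs)).1,
        QuasiSeparatedSpace.isCompact_sInter hT (fun s hs ↦ .inl (hS s (hTS hs)).1)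
          fun s hs ↦ (hS s (hTS hs)).2⟩
    refine ⟨{T : Set (Set X) // T.Finite ∧ T ⊆ S}, ⟨⟨∅, Set.finite_empty, Set.empty_subset _⟩⟩,
      fun T ↦ ⋂₀ T.1, fun T ↦ hfin T.1 T.2.1 T.2.2, ?_, fun T T' ↦
        ⟨⟨T.1 ∪ T'.1, T.2.1.union T'.2.1, Set.union_subset T.2.2 T'.2.2⟩,
          (Set.sInter_union _ _).subset⟩⟩
    refine subset_antisymm (Set.subset_iInter fun T ↦ Set.sInter_subset_sInter T.2.2) fun x hx s hs ↦ ?_
    exact Set.mem_iInter.1 hx ⟨{s}, Set.finite_singleton _, Set.singleton_subset_iff.2 hs⟩ s rfl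
  tfae_have 5 → 1 := by
    rintro ⟨I, _, U, hU, rfl, -⟩
    refine ⟨⟨Set.range U, ?_, (Set.sInter_range U).symm⟩,
      stableUnderGeneralization_iInter _ fun i ↦ (hU i).1.stableUnderGeneralization⟩
    rintro _ ⟨i, rfl⟩
    exact (hU i).2.isConstructible (hU i).1
  tfae_finish

end Groth.Agent.S7539
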