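import Groth.Statements.S7540
import Groth.Agent.Lib.PtSet.Spectral

set_option autoImplicit false
universe u
open SpecSp

namespace Groth.Agent.S7540

/-- Let X be a spectral space, I a nonempty index set and U_i ⊆ X quasi-compact opens such that for all
i, j some U_k lies in U_i ∩ U_j; put W = ⋂ U_i. Then every open subset of X containing W contains
some U_i. The published statement also asserts that W is spectral and is the limit of the U_i; this
row states the neighbourhood property. -/
theorem result {X : Type u} [TopologicalSpace X] [SpectralSpace X]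
    {I : Type u} [Nonempty I] (U : I → Set X) (hU : ∀ i, IsOpen (U i) ∧ IsCompact (U i))
    (hdir : ∀ i j, ∃ k, U k ⊆ U i ∩ U j) :
    ∀ V : Set X, IsOpen V → (⋂ i, U i) ⊆ V → ∃ i, U i ⊆ V := by
  intro V hV hsub
  by_contra hne
  push Not at hne
  obtain ⟨z, hzV, hz⟩ := (hV.isClosed_compl.preimage
    (Groth.Agent.PtSet.continuous_fromPatch (X := X))).isCompact.inter_iInter_nonempty
    (fun i ↦ Groth.Agent.PtSet.toPatch (U i))
    (fun i ↦ (Groth.Agent.PtSet.isClopen_toPatch (hU i).1 (hU i).2).1) (by
      intro t
      classical
      obtain ⟨k, hk⟩ : ∃ k, ∀ i ∈ t, U k ⊆ U i := by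
        induction t using Finset.induction_on with
        | empty => exact ⟨Classical.arbitrary I, by simp⟩
        | @insert a s _ ih =>
          obtain ⟨k, hk⟩ := ih
          obtain ⟨l, hl⟩ := hdir a k
          refine ⟨l, fun i hi ↦ ?_⟩
          rcases Finset.mem_insert.1 hi with rfl | hi
          · exact hl.trans Set.inter_subset_left
          · exact (hl.trans Set.inter_subset_right).trans (hk i hi)
      obtain ⟨a, ha, haV⟩ := Set.not_subset.1 (hne k)
      exact ⟨WithTopology.toTopology _ a, haV, Set.mem_iInter₂.2 fun i hi ↦ hk i hi ha⟩)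
  exact hzV (hsub (Set.mem_iInter.2 fun i ↦ Set.mem_iInter.1 hz i))

end Groth.Agent.S7540
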