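import Groth.Statements.S7541
import Groth.Agent.Lib.PtSet.Spectral

set_option autoImplicit false
universe u
open SpecSp

namespace Groth.Agent.S7541

/-- Let X be a spectral space, E ⊆ X a constructible subset and W the set of points of X that specialize
to a point of E. Then the subspace W minus E is a spectral space. (The description of W minus E as a
limit of the U_i minus E is not recorded here.) -/
theorem result {X : Type u} [TopologicalSpace X] [SpectralSpace X]
    (E : Set X) (hE : Topology.IsConstructible E) :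
    SpectralSpace ↥({x : X | ∃ e ∈ E, x ⤳ e} \ E) := by
  refine Groth.Agent.PtSet.spectralSpace_of_isClosed_toPatch ?_
  have h2 := Groth.Agent.PtSet.isClopen_toPatch_of_isConstructible hE
  have hEc : IsCompact E := Groth.Agent.PtSet.isCompact_of_isClosed_toPatch h2.1
  have h1 : IsClosed (Groth.Agent.PtSet.toPatch {x : X | ∃ e ∈ E, x ⤳ e}) := by
    have e : {x : X | ∃ e ∈ E, x ⤳ e} = ⋂₀ {s | (IsOpen s ∧ IsCompact s) ∧ E ⊆ s} := by
      refine subset_antisymm (fun x ⟨e, he, hxe⟩ s hs ↦ hxe.mem_open hs.1.1 (hs.2 he)) fun x hx ↦ ?_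
      by_contra h
      simp only [Set.mem_ofPred_eq, not_exists, not_and] at h
      have hEx : E ⊆ (closure {x})ᶜ := fun e he hmem ↦ h e he (specializes_iff_mem_closure.2 hmem)
      obtain ⟨V, hVc, hVo, hEV, hVx⟩ := PrespectralSpace.exists_isCompact_and_isOpen_between hEc
        isClosed_closure.isOpen_compl hEx
      exact hVx (hx V ⟨⟨hVo, hVc⟩, hEV⟩) (subset_closure rfl)
    rw [e, Groth.Agent.PtSet.toPatch, Set.preimage_sInter]
    exact isClosed_biInter fun s hs ↦ (Groth.Agent.PtSet.isClopen_toPatch hs.1.1 hs.1.2).1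
  exact h1.sdiff h2.2

end Groth.Agent.S7541
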