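import Groth.Statements.S7544
import Groth.Agent.Lib.PtSet.Constr

set_option autoImplicit false
universe u
open ConstrTop

namespace Groth.Agent.S7544

/-- Let X be a quasi-compact topological space whose quasi-compact opens form a basis and are closed
under pairwise intersection. Take T ⊆ X to be locally closed, quasi-compact, and with retrocompact
complement. Then T is constructible in X. -/
theorem result {X : Type u} [TopologicalSpace X]
    [CompactSpace X] [PrespectralSpace X] [QuasiSeparatedSpace X]
    (T : Set X) (hT : IsLocallyClosed T) (hTc : IsCompact T) (hTr : IsRetrocompact Tᶜ) :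
    Topology.IsConstructible T := by
  obtain ⟨V, F, hV, hF, rfl⟩ := hT
  obtain ⟨W, hWc, hWo, hTW, hWV⟩ :=
    PrespectralSpace.exists_isCompact_and_isOpen_between hTc hV Set.inter_subset_left
  have h1 : IsCompact ((V ∩ F)ᶜ ∩ W) := hTr hWc hWo
  have e : (V ∩ F)ᶜ ∩ W = W ∩ Fᶜ := by tauto_set
  rw [e] at h1
  rw [show V ∩ F = W \ (W ∩ Fᶜ) by tauto_set]
  exact (hWc.isConstructible hWo).sdiff (h1.isConstructible (hWo.inter hF.isOpen_compl))

end Groth.Agent.S7544
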