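import Groth.Statements.S7546
import Groth.Agent.Lib.PtSet.Constr

set_option autoImplicit false
universe u
open ConstrTop

namespace Groth.Agent.S7546

/-- Let X be a topological space, Z ⊆ X irreducible and E ⊆ X a finite union of locally closed subsets
(for instance a constructible set). Then E ∩ Z is dense in Z if and only if E ∩ Z contains a subset
of the form U ∩ Z, U open in X, which is dense in Z. If moreover ξ ∈ Z is a generic point of Z,
these conditions are equivalent to ξ ∈ E. -/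
theorem result {X : Type u} [TopologicalSpace X] (Z : Set X) (hZ : IsIrreducible Z)
    {n : ℕ} (L : Fin n → Set X) (hL : ∀ i, IsLocallyClosed (L i)) (E : Set X) (hE : E = ⋃ i, L i) :
    (Z ⊆ closure (E ∩ Z) ↔ ∃ U : Set X, IsOpen U ∧ U ∩ Z ⊆ E ∧ Z ⊆ closure (U ∩ Z)) ∧
    (∀ ξ : X, ξ ∈ Z → Z ⊆ closure {ξ} → (Z ⊆ closure (E ∩ Z) ↔ ξ ∈ E)) := by
  subst hE
  have h1 : Z ⊆ closure ((⋃ i, L i) ∩ Z) ↔
      ∃ U : Set X, IsOpen U ∧ U ∩ Z ⊆ ⋃ i, L i ∧ Z ⊆ closure (U ∩ Z) := by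
    constructor
    · intro h
      obtain ⟨i, -, hi⟩ := Groth.Agent.PtSet.exists_mem_subset_closure_inter hZ
        (Set.finite_univ (α := Fin n)) L (by simpa using h)
      obtain ⟨U, F, hU, hF, hUF⟩ := hL i
      rw [hUF] at hi
      have hZF : Z ⊆ F := hi.trans (closure_minimal (fun a ha ↦ ha.1.2) hF)
      refine ⟨U, hU, fun a ha ↦ Set.mem_iUnion.2 ⟨i, hUF.symm ▸ ⟨ha.1, hZF ha.2⟩⟩, ?_⟩
      exact hi.trans (closure_mono fun a ha ↦ ⟨ha.1.1, ha.2⟩)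
    · rintro ⟨U, -, hsub, hd⟩
      exact hd.trans (closure_mono fun a ha ↦ ⟨hsub ha, ha.2⟩)
  refine ⟨h1, fun ξ hξ hgen ↦ ⟨fun h ↦ ?_,
    fun h ↦ hgen.trans (closure_mono (Set.singleton_subset_iff.2 ⟨h, hξ⟩))⟩⟩
  obtain ⟨U, hU, hsub, hd⟩ := h1.1 h
  obtain ⟨a, haU, haZ⟩ := closure_nonempty_iff.1 (hZ.nonempty.mono hd)
  exact hsub ⟨(specializes_iff_mem_closure.2 (hgen haZ)).mem_open hU haU, hξ⟩

end Groth.Agent.S7546
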