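import Groth.Statements.S7548


set_option autoImplicit false
universe u
open PtTop

namespace Groth.Agent.S7548

/-- Let X be a Jacobson space and let T = ⋃ T_i be a union of subsets T_i ⊆ X each locally closed in X
(open, closed, locally closed and constructible subsets are of this form). Then T is Jacobson and
every point of T closed in T is closed in X. -/
theorem result {X : Type u} [TopologicalSpace X] [JacobsonSpace X]
    {ι : Type u} (T : ι → Set X) (hT : ∀ i, IsLocallyClosed (T i)) :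
    JacobsonSpace ↥(⋃ i, T i) ∧
      closedPoints ↥(⋃ i, T i) ⊆ (Subtype.val : ↥(⋃ i, T i) → X) ⁻¹' closedPoints X := by
  have key : ∀ L : Set X, IsLocallyClosed L → ∀ i, (L ∩ T i).Nonempty →
      ∃ a : ↥(⋃ i, T i), a.1 ∈ L ∧ a.1 ∈ closedPoints X := by
    intro L hL i hne
    obtain ⟨a, haLT, hac⟩ := jacobsonSpace_iff_locallyClosed.1 inferInstance _ hne (hL.inter (hT i))
    exact ⟨⟨a, Set.mem_iUnion.2 ⟨i, haLT.2⟩⟩, haLT.1, hac⟩
  have hcp : ∀ a : ↥(⋃ i, T i), a.1 ∈ closedPoints X → a ∈ closedPoints ↥(⋃ i, T i) := by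
    intro a ha
    rw [mem_closedPoints_iff] at ha ⊢
    convert ha.preimage continuous_subtype_val using 1
    ext b
    exact ⟨fun h ↦ congrArg Subtype.val h, fun h ↦ Subtype.ext h⟩
  refine ⟨jacobsonSpace_iff_locallyClosed.2 fun Z hne hZ ↦ ?_, ?_⟩
  · obtain ⟨U, C, hU, hC, rfl⟩ := hZ
    obtain ⟨U, hU', rfl⟩ := isOpen_induced_iff.1 hU
    obtain ⟨C, hC', rfl⟩ := isClosed_induced_iff.1 hC
    obtain ⟨a, ha⟩ := hne
    obtain ⟨i, hi⟩ := Set.mem_iUnion.1 a.2
    obtain ⟨b, hb, hbc⟩ := key _ ⟨U, C, hU', hC', rfl⟩ i ⟨a.1, ha, hi⟩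
    exact ⟨b, hb, hcp b hbc⟩
  · intro a ha
    obtain ⟨C, hC, hCe⟩ := isClosed_induced_iff.1 (mem_closedPoints_iff.1 ha)
    obtain ⟨i, hi⟩ := Set.mem_iUnion.1 a.2
    obtain ⟨b, hb, hbc⟩ := key C hC.isLocallyClosed i ⟨a.1, (hCe.symm.subset rfl : a ∈ Subtype.val ⁻¹' C), hi⟩
    have : b = a := hCe.subset (show b ∈ _ from hb)
    exact this ▸ hbc

end Groth.Agent.S7548
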