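import Groth.Statements.S7549


set_option autoImplicit false
universe u
open PtTop

namespace Groth.Agent.S7549

/-- Let X be a Jacobson space and X₀ ⊆ X the subspace of closed points. (a) For U ⊆ X open, U is
quasi-compact if and only if U ∩ X₀ is quasi-compact, and U is retrocompact in X if and only if U ∩
X₀ is retrocompact in X₀. (b) The rule E ↦ E ∩ X₀ is an inclusion-preserving and
inclusion-reflecting bijection between the constructible subsets of X and the constructible subsets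
of X₀. -/
theorem result {X : Type u} [TopologicalSpace X] [JacobsonSpace X] :
    (∀ U : Set X, IsOpen U →
      (IsCompact U ↔ IsCompact ((Subtype.val : closedPoints X → X) ⁻¹' U)) ∧
      (IsRetrocompact U ↔ IsRetrocompact ((Subtype.val : closedPoints X → X) ⁻¹' U))) ∧
    (∀ E : Set X, Topology.IsConstructible E →
      Topology.IsConstructible ((Subtype.val : closedPoints X → X) ⁻¹' E)) ∧
    (∀ E E' : Set X, Topology.IsConstructible E → Topology.IsConstructible E' →
      ((Subtype.val : closedPoints X → X) ⁻¹' E ⊆ Subtype.val ⁻¹' E' ↔ E ⊆ E')) ∧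
    (∀ F : Set (closedPoints X), Topology.IsConstructible F →
      ∃ E : Set X, Topology.IsConstructible E ∧ (Subtype.val : closedPoints X → X) ⁻¹' E = F) := by
  have hopen : ∀ U V : Set X, IsOpen U → IsClosed V →
      ((U ∩ V).Nonempty → ∃ a : closedPoints X, a.1 ∈ U ∩ V) := by
    intro U V hU hV hne
    obtain ⟨a, ha, hac⟩ := jacobsonSpace_iff_locallyClosed.1 inferInstance _ hne ⟨U, V, hU, hV, rfl⟩
    exact ⟨⟨a, hac⟩, ha⟩
  have hc : ∀ U : Set X, IsOpen U →
      (IsCompact U ↔ IsCompact ((Subtype.val : closedPoints X → X) ⁻¹' U)) := by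
    intro U hU
    rw [isCompact_iff_finite_subcover, isCompact_iff_finite_subcover]
    constructor
    · intro h ι V hV hcov
      choose V' hV' hVV' using fun i ↦ isOpen_induced_iff.1 (hV i)
      obtain ⟨t, ht⟩ := h V' hV' (by
        intro a ha
        by_contra haV
        obtain ⟨b, hbU, hb⟩ := hopen U (⋃ i, V' i)ᶜ hU (isOpen_iUnion hV').isClosed_compl
          ⟨a, ha, haV⟩
        obtain ⟨i, hi⟩ := Set.mem_iUnion.1 (hcov hbU)
        exact hb (Set.mem_iUnion.2 ⟨i, (Set.ext_iff.1 (hVV' i) b).2 hi⟩))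
      refine ⟨t, fun a ha ↦ ?_⟩
      obtain ⟨i, hi, hai⟩ := Set.mem_iUnion₂.1 (ht ha)
      exact Set.mem_iUnion₂.2 ⟨i, hi, hVV' i ▸ hai⟩
    · intro h ι V hV hcov
      obtain ⟨t, ht⟩ := h (fun i ↦ Subtype.val ⁻¹' V i)
        (fun i ↦ (hV i).preimage continuous_subtype_val) (fun a ha ↦ by
          obtain ⟨i, hi⟩ := Set.mem_iUnion.1 (hcov ha)
          exact Set.mem_iUnion.2 ⟨i, hi⟩)
      refine ⟨t, fun a ha ↦ ?_⟩
      by_contra hne
      obtain ⟨b, hbU, hb⟩ := hopen U (⋃ i ∈ t, V i)ᶜ hU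
        (isOpen_biUnion fun i _ ↦ hV i).isClosed_compl ⟨a, ha, hne⟩
      obtain ⟨i, hi, hbi⟩ := Set.mem_iUnion₂.1 (ht hbU)
      exact hb (Set.mem_iUnion₂.2 ⟨i, hi, hbi⟩)
  have hr : ∀ U : Set X, IsOpen U →
      (IsRetrocompact U ↔ IsRetrocompact ((Subtype.val : closedPoints X → X) ⁻¹' U)) := by
    intro U hU
    constructor
    · intro h K hK hKo
      obtain ⟨K', hK', rfl⟩ := isOpen_induced_iff.1 hKo
      have := (hc K' hK').2 hK
      rw [← Set.preimage_inter]
      exact (hc _ (hU.inter hK')).1 (h this hK')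
    · intro h K hK hKo
      have := h ((hc K hKo).1 hK) (hKo.preimage continuous_subtype_val)
      rw [← Set.preimage_inter] at this
      exact (hc _ (hU.inter hKo)).2 this
  have hpre : ∀ E : Set X, Topology.IsConstructible E →
      Topology.IsConstructible ((Subtype.val : closedPoints X → X) ⁻¹' E) := fun E hE ↦
    hE.preimage continuous_subtype_val fun s hs hsr ↦ (hr s hs).1 hsr
  have hinj : ∀ E : Set X, Topology.IsConstructible E → E.Nonempty →
      ∃ a : closedPoints X, a.1 ∈ E := by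
    intro E hE
    induction E, hE using BooleanSubalgebra.closure_sdiff_sup_induction with
    | isSublattice =>
      exact ⟨fun s hs t ht ↦ ⟨hs.1.union ht.1, hs.2.union ht.2⟩,
        fun s hs t ht ↦ ⟨hs.1.inter ht.1, hs.2.inter_isOpen ht.2 ht.1⟩⟩
    | bot_mem => exact ⟨isOpen_empty, .empty⟩
    | top_mem => exact ⟨isOpen_univ, .univ⟩
    | sdiff U hU V hV => exact fun hne ↦ hopen U Vᶜ hU.1 hV.1.isClosed_compl hne
    | sup s _ t _ hs ht =>
      rintro (hne : (s ∪ t).Nonempty)
      rcases Set.union_nonempty.1 hne with h | h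
      · obtain ⟨a, ha⟩ := hs h; exact ⟨a, .inl ha⟩
      · obtain ⟨a, ha⟩ := ht h; exact ⟨a, .inr ha⟩
  refine ⟨fun U hU ↦ ⟨hc U hU, hr U hU⟩, hpre, fun E E' hE hE' ↦ ⟨fun h x hx ↦ ?_,
    fun h ↦ Set.preimage_mono h⟩, fun F hF ↦ ?_⟩
  · by_contra hx'
    obtain ⟨a, ha, ha'⟩ := hinj _ (hE.sdiff hE') ⟨x, hx, hx'⟩
    exact ha' (h ha)
  · induction hF using Topology.IsConstructible.empty_union_induction with
    | open_retrocompact U hU hUr =>
      obtain ⟨U', hU', rfl⟩ := isOpen_induced_iff.1 hU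
      exact ⟨U', ((hr U' hU').2 hUr).isConstructible hU', rfl⟩
    | union s _ t _ hs ht =>
      obtain ⟨A, hA, rfl⟩ := hs
      obtain ⟨B, hB, rfl⟩ := ht
      exact ⟨A ∪ B, hA.union hB, rfl⟩
    | compl s _ hs =>
      obtain ⟨A, hA, rfl⟩ := hs
      exact ⟨Aᶜ, hA.compl, rfl⟩

end Groth.Agent.S7549
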