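import Groth.Statements.S7550


set_option autoImplicit false
universe u
open PtTop

namespace Groth.Agent.S7550

/-- Let f : X → Y be a continuous and open map of topological spaces, with X Noetherian, every
irreducible closed subset of X having a generic point, and Y Kolmogorov. Then generalizations lift
along f. (Part (1), closed maps are specializing, is a library fact.) -/
theorem result {X Y : Type u} [TopologicalSpace X] [TopologicalSpace Y]
    [TopologicalSpace.NoetherianSpace X] [QuasiSober X] [T0Space Y]
    (f : X → Y) (hf : Continuous f) (hfo : IsOpenMap f) :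
    GeneralizingMap f := by
  intro x y' hy
  have hx : x ∈ closure (f ⁻¹' {y'}) := by
    rw [← hfo.preimage_closure_eq_closure_preimage hf]
    exact specializes_iff_mem_closure.1 hy
  obtain ⟨S, hSf, hSc, hSi, hSu⟩ := TopologicalSpace.NoetherianSpace.exists_finite_set_isClosed_irreducible
    (isClosed_univ : IsClosed (Set.univ : Set (f ⁻¹' {y'})))
  have hx2 : x ∈ ⋃ Z ∈ S, closure (Subtype.val '' Z) := by
    rw [← hSf.closure_biUnion]
    refine closure_mono (fun a ha ↦ ?_) hx
    obtain ⟨Z, hZ, haZ⟩ := hSu ▸ Set.mem_univ (⟨a, ha⟩ : f ⁻¹' {y'})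
    exact Set.mem_iUnion₂.2 ⟨Z, hZ, _, haZ, rfl⟩
  obtain ⟨Z, hZ, hxZ⟩ := Set.mem_iUnion₂.1 hx2
  have hi := (hSi Z hZ).image _ continuous_subtype_val.continuousOn
  obtain ⟨η, hη⟩ := QuasiSober.sober hi.closure isClosed_closure
  refine ⟨η, hη.specializes hxZ, ?_⟩
  obtain ⟨z, hz⟩ := hi.nonempty
  have h1 : f η ⤳ y' := by
    have h := (hη.specializes (subset_closure hz)).map hf
    obtain ⟨a, -, rfl⟩ := hz
    rwa [show f a.1 = y' from a.2] at h
  have h2 : y' ⤳ f η := by
    refine specializes_iff_mem_closure.2 (closure_minimal ?_ (isClosed_closure.preimage hf) hη.mem)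
    rintro _ ⟨a, -, rfl⟩
    exact subset_closure a.2
  exact (h1.antisymm h2).eq

end Groth.Agent.S7550
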