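import Groth.Statements.S7551


set_option autoImplicit false
universe u
open PtTop

namespace Groth.Agent.S7551

/-- Let s, t : R → U and π : U → X be continuous maps between topological spaces satisfying: (1) π is an
open map, (2) U is a sober space, (3) s and t have finite fibres, (4) generalizations lift along s
and along t, and (5) the image of (t, s) : R → U × U is an equivalence relation on U and π
identifies X, as a set, with the quotient of U by it. Then X is Kolmogorov. -/
theorem result {R U X : Type u}
    [TopologicalSpace R] [TopologicalSpace U] [TopologicalSpace X] [QuasiSober U] [T0Space U]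
    (s t : R → U) (π : U → X) (hs : Continuous s) (ht : Continuous t) (hπ : Continuous π)
    (hπo : IsOpenMap π) (hsf : ∀ u, (s ⁻¹' {u}).Finite) (htf : ∀ u, (t ⁻¹' {u}).Finite)
    (hsg : GeneralizingMap s) (htg : GeneralizingMap t)
    (hE : Equivalence fun u u' : U => ∃ r, t r = u ∧ s r = u')
    (hπs : Function.Surjective π) (hπq : ∀ u u' : U, π u = π u' ↔ ∃ r, t r = u ∧ s r = u') :
    T0Space X := by
  have hfin : ∀ u, {w | π w = π u}.Finite := fun u ↦ by
    refine ((htf u).image s).subset fun w hw ↦ ?_
    obtain ⟨r, hr, hr'⟩ := (hπq u w).1 (Eq.symm hw)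
    exact ⟨r, hr, hr'⟩
  refine ⟨fun x y hxy ↦ ?_⟩
  obtain ⟨a, rfl⟩ := hπs x
  obtain ⟨b, rfl⟩ := hπs y
  have key : ∀ a b : U, π a ⤳ π b → ∃ w, π w = π a ∧ w ⤳ b := by
    intro a b h
    have hb : b ∈ closure {w | π w = π a} := by
      rw [show {w | π w = π a} = π ⁻¹' {π a} from rfl,
        ← hπo.preimage_closure_eq_closure_preimage hπ]
      exact specializes_iff_mem_closure.1 h
    rw [← Set.biUnion_of_singleton {w | π w = π a}, (hfin a).closure_biUnion] at hb
    obtain ⟨w, hw, hwb⟩ := Set.mem_iUnion₂.1 hb
    exact ⟨w, hw, specializes_iff_mem_closure.2 hwb⟩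
  -- an element of the finite orbit of `a` which is maximal for specialization
  letI := specializationPreorder U
  obtain ⟨m, hm⟩ := (hfin a).exists_maximal ⟨a, rfl⟩
  obtain ⟨w, hw, hwm⟩ := key b m (by rw [show π m = π a from hm.prop]; exact hxy.specializes')
  obtain ⟨w', hw', hw'w⟩ := key a w (by rw [hw]; exact hxy.specializes)
  have hmw' : m ⤳ w' := hm.le_of_ge hw' (hw'w.trans hwm)
  have : w = m := (hwm.antisymm (hmw'.trans hw'w)).eq
  rw [← hm.prop, ← this, hw]

end Groth.Agent.S7551
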