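import Groth.Statements.S7552


set_option autoImplicit false
universe u
open PtTop

namespace Groth.Agent.S7552

/-- Let f : X → Y be a continuous surjective map of topological spaces with Y sober, and assume that
specializations lift along f or that generalizations lift along f. Then dim X ≥ dim Y (Krull
dimensions as suprema of lengths of chains of irreducible closed subsets). -/
theorem result {X Y : Type u}
    [TopologicalSpace X] [TopologicalSpace Y] [QuasiSober Y] [T0Space Y]
    (f : X → Y) (hf : Continuous f) (hsurj : Function.Surjective f)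
    (hlift : SpecializingMap f ∨ GeneralizingMap f) :
    topologicalKrullDim Y ≤ topologicalKrullDim X := by
  classical
  let e := irreducibleSetEquivPoints (α := Y)
  unfold topologicalKrullDim
  rw [Order.krullDim]
  refine iSup_le fun s ↦ ?_
  let n := s.length
  let p : ℕ → Y := fun i ↦ e (s.toFun ⟨min i n, by omega⟩)
  have hp : ∀ i < n, p (i + 1) ⤳ p i ∧ ¬ (p i ⤳ p (i + 1)) := by
    intro i hi
    have h := s.step ⟨i, hi⟩
    letI := specializationOrder Y
    have he : e (s.toFun ⟨i, by omega⟩) < e (s.toFun ⟨i + 1, by omega⟩) := e.strictMono h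
    have h1 : p i = e (s.toFun ⟨i, by omega⟩) := by simp [p, Nat.min_eq_left hi.le]
    have h2 : p (i + 1) = e (s.toFun ⟨i + 1, by omega⟩) := by
      simp [p, Nat.min_eq_left (Nat.succ_le_of_lt hi)]
    rw [h1, h2]
    exact ⟨he.le, fun h' ↦ he.not_ge h'⟩
  obtain ⟨q, hq, hqf⟩ : ∃ q : ℕ → X, (∀ i < n, q (i + 1) ⤳ q i) ∧ ∀ i ≤ n, f (q i) = p i := by
    rcases hlift with hl | hl
    · -- build the chain downwards from the top
      let r : ℕ → X := fun k ↦ Nat.rec (hsurj (p n)).choose
        (fun k x ↦ if h : ∃ x', x ⤳ x' ∧ f x' = p (n - (k + 1)) then h.choose else x) k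
      have hr : ∀ k ≤ n, f (r k) = p (n - k) ∧ (k < n → r k ⤳ r (k + 1)) := by
        have hstep : ∀ k, f (r k) = p (n - k) → k < n →
            r k ⤳ r (k + 1) ∧ f (r (k + 1)) = p (n - (k + 1)) := by
          intro k hk hkn
          have hsp : f (r k) ⤳ p (n - (k + 1)) := by
            rw [hk]
            have := (hp (n - (k + 1)) (by omega)).1
            rwa [show n - (k + 1) + 1 = n - k by omega] at this
          obtain ⟨x', hx', hfx'⟩ := hl hsp
          have hex : ∃ x', r k ⤳ x' ∧ f x' = p (n - (k + 1)) := ⟨x', hx', hfx'⟩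
          have : r (k + 1) = hex.choose := dif_pos hex
          rw [this]
          exact hex.choose_spec
        intro k hk
        induction k with
        | zero => exact ⟨(hsurj (p n)).choose_spec, fun h ↦ (hstep 0 (hsurj (p n)).choose_spec h).1⟩
        | succ k ih =>
          have h := (hstep k (ih (by omega)).1 (by omega)).2
          exact ⟨h, fun h' ↦ (hstep (k + 1) h h').1⟩
      refine ⟨fun i ↦ r (n - i), fun i hi ↦ ?_, fun i hi ↦ ?_⟩
      · have := (hr (n - (i + 1)) (by omega)).2 (by omega)
        rwa [show n - (i + 1) + 1 = n - i by omega] at this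
      · have := (hr (n - i) (by omega)).1
        rwa [show n - (n - i) = i by omega] at this
    · -- build the chain upwards from the bottom
      let r : ℕ → X := fun k ↦ Nat.rec (hsurj (p 0)).choose
        (fun k x ↦ if h : ∃ x', x' ⤳ x ∧ f x' = p (k + 1) then h.choose else x) k
      have hstep : ∀ k, f (r k) = p k → k < n → r (k + 1) ⤳ r k ∧ f (r (k + 1)) = p (k + 1) := by
        intro k hk hkn
        have hsp : p (k + 1) ⤳ f (r k) := hk ▸ (hp k hkn).1
        obtain ⟨x', hx', hfx'⟩ := hl hsp
        have hex : ∃ x', x' ⤳ r k ∧ f x' = p (k + 1) := ⟨x', hx', hfx'⟩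
        have : r (k + 1) = hex.choose := dif_pos hex
        rw [this]
        exact hex.choose_spec
      have hr : ∀ k ≤ n, f (r k) = p k := by
        intro k hk
        induction k with
        | zero => exact (hsurj (p 0)).choose_spec
        | succ k ih => exact (hstep k (ih (by omega)) (by omega)).2
      exact ⟨r, fun i hi ↦ (hstep i (hr i hi.le) hi).1, hr⟩
  let t : LTSeries (TopologicalSpace.IrreducibleCloseds X) :=
    ⟨n, fun i ↦ ⟨closure {q i}, isIrreducible_singleton.closure, isClosed_closure⟩, fun i ↦ ?_⟩
  · exact le_iSup_of_le t le_rfl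
  have hsp := hq i i.2
  refine lt_of_le_not_ge (closure_minimal (Set.singleton_subset_iff.2
    (specializes_iff_mem_closure.1 hsp)) isClosed_closure) fun hle ↦ (hp i i.2).2 ?_
  rw [← hqf i (by omega), ← hqf (i + 1) i.2]
  exact (specializes_iff_mem_closure.2 (hle (subset_closure rfl))).map hf

end Groth.Agent.S7552
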