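import Groth.Statements.S7555


set_option autoImplicit false
universe u
open PtTop

namespace Groth.Agent.S7555

/-- Let f : X → X be a surjective continuous self-map of a Hausdorff topological space with f ≠ id. Then
there is a closed subset E ⊊ X such that X = E ∪ f(E). -/
theorem result {X : Type u} [TopologicalSpace X] [T2Space X]
    (f : X → X) (hf : Continuous f) (hsurj : Function.Surjective f) (hne : f ≠ id) :
    ∃ E : Set X, IsClosed E ∧ E ≠ Set.univ ∧ E ∪ f '' E = Set.univ := by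
  obtain ⟨x, hx⟩ := Function.ne_iff.1 hne
  obtain ⟨A, B, hA, hB, hxA, hxB, hAB⟩ := t2_separation (Ne.symm hx)
  refine ⟨(A ∩ f ⁻¹' B)ᶜ, (hA.inter (hB.preimage hf)).isClosed_compl, ?_,
    Set.eq_univ_of_forall fun y ↦ ?_⟩
  · exact fun e ↦ (e.symm ▸ Set.mem_univ x : x ∈ (A ∩ f ⁻¹' B)ᶜ) ⟨hxA, hxB⟩
  · by_cases hy : y ∈ A ∩ f ⁻¹' B
    · obtain ⟨z, rfl⟩ := hsurj y
      exact .inr ⟨z, fun hz ↦ Set.disjoint_left.1 hAB hy.1 hz.2, rfl⟩
    · exact .inl hy

end Groth.Agent.S7555
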