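import Groth.Statements.S7556
import Mathlib.Topology.ExtremallyDisconnected

set_option autoImplicit false
universe u
open PtTop

namespace Groth.Agent.S7556

/-- Let X be a quasi-compact Hausdorff space. There is a continuous surjection p : X' → X with X'
quasi-compact, Hausdorff and extremally disconnected such that no proper closed subset of X' maps
onto X; and if q : X'' → X is a second cover with the same properties, there is a homeomorphism X' ≃
X'' compatible with p and q. -/
theorem result (X : Type u) [TopologicalSpace X] [CompactSpace X] [T2Space X] :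
    (∃ (X' : Type u) (_ : TopologicalSpace X') (_ : CompactSpace X') (_ : T2Space X') (_ : ExtremallyDisconnected X')
        (p : X' → X), Continuous p ∧ Function.Surjective p ∧
        ∀ E : Set X', IsClosed E → E ≠ Set.univ → p '' E ≠ Set.univ) ∧
    (∀ (X' X'' : Type u) [TopologicalSpace X'] [CompactSpace X'] [T2Space X'] [ExtremallyDisconnected X']
        [TopologicalSpace X''] [CompactSpace X''] [T2Space X''] [ExtremallyDisconnected X'']
        (p : X' → X) (q : X'' → X),
        Continuous p → Function.Surjective p → (∀ E : Set X', IsClosed E → E ≠ Set.univ → p '' E ≠ Set.univ) →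
        Continuous q → Function.Surjective q → (∀ E : Set X'', IsClosed E → E ≠ Set.univ → q '' E ≠ Set.univ) →
        ∃ h : X' ≃ₜ X'', q ∘ h = p) := by
  have hid : ∀ (X' : Type u) [TopologicalSpace X'] [T2Space X'] (p : X' → X),
      (∀ E : Set X', IsClosed E → E ≠ Set.univ → p '' E ≠ Set.univ) → Function.Surjective p →
      ∀ h : X' → X', Continuous h → Function.Surjective h → p ∘ h = p → h = id := by
    intro X' _ _ p hmin hp h hh hs hph
    by_contra hne
    obtain ⟨x, hx⟩ := Function.ne_iff.1 hne
    obtain ⟨A, B, hA, hB, hxA, hxB, hAB⟩ := t2_separation (Ne.symm hx)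
    refine hmin (A ∩ h ⁻¹' B)ᶜ (hA.inter (hB.preimage hh)).isClosed_compl
      (fun e ↦ (e.symm ▸ Set.mem_univ x : x ∈ (A ∩ h ⁻¹' B)ᶜ) ⟨hxA, hxB⟩)
      (Set.eq_univ_of_forall fun z ↦ ?_)
    obtain ⟨y, rfl⟩ := hp z
    by_cases hy : y ∈ A ∩ h ⁻¹' B
    · obtain ⟨w, rfl⟩ := hs y
      exact ⟨w, fun hw ↦ Set.disjoint_left.1 hAB hy.1 hw.2, (congrFun hph w).symm⟩
    · exact ⟨y, hy, rfl⟩
  constructor
  · let D := WithTopology X (⊥ : TopologicalSpace X)
    haveI : DiscreteTopology D :=
      discreteTopology_iff_forall_isOpen.2 fun V ↦ (WithTopology.isOpen_iff _).2 trivial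
    have hofc : Continuous (WithTopology.ofTopology : D → X) := continuous_of_discreteTopology
    let π : StoneCech D → X := stoneCechExtend hofc
    have hπ : Continuous π := continuous_stoneCechExtend hofc
    have hπs : Function.Surjective π := fun x ↦
      ⟨stoneCechUnit (WithTopology.toTopology _ x),
        congrFun (stoneCechExtend_extends hofc) (WithTopology.toTopology _ x)⟩
    obtain ⟨E, hEc, hEimg, hEmin⟩ := exists_compact_surjective_zorn_subset hπ hπs
    let p : E → X := fun e ↦ π e.1
    have hp : Continuous p := hπ.comp continuous_subtype_val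
    have hps : Function.Surjective p := fun x ↦ by
      obtain ⟨e, he, rfl⟩ := hEimg.symm ▸ Set.mem_univ x
      exact ⟨⟨e, he⟩, rfl⟩
    have hmin : ∀ F : Set E, IsClosed F → F ≠ Set.univ → p '' F ≠ Set.univ :=
      fun F hF hne ↦ hEmin F hne hF
    have hproj : CompactT2.Projective E := by
      intro Y Z _ _ _ _ _ _ f g hf hg hgs
      haveI : CompactSpace (StoneCech D) := inferInstance
      obtain ⟨r, hr, hrp⟩ := StoneCech.projective (X := D) (f := π) (g := p) hπ hp hps
      have hrid : (fun e : E ↦ r e.1) = id := by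
        refine hid E p hmin hps _ (hr.comp continuous_subtype_val) ?_
          (funext fun e ↦ congrFun hrp e.1)
        intro e
        by_contra hne
        refine hmin (Set.range fun e : E ↦ r e.1)
          (isCompact_range (hr.comp continuous_subtype_val)).isClosed
          (fun h ↦ hne (h ▸ Set.mem_univ e : e ∈ Set.range fun e : E ↦ r e.1)) (Set.eq_univ_of_forall fun x ↦ ?_)
        obtain ⟨a, rfl⟩ := hps x
        exact ⟨_, ⟨a, rfl⟩, congrFun hrp a.1⟩
      obtain ⟨l, hl, hlg⟩ := StoneCech.projective (X := D) (f := f ∘ r) (g := g) (hf.comp hr) hg hgs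
      refine ⟨fun e ↦ l e.1, hl.comp continuous_subtype_val, funext fun e ↦ ?_⟩
      exact (congrFun hlg e.1).trans (congrArg f (congrFun hrid e))
    exact ⟨E, inferInstance, hEc, inferInstance, hproj.extremallyDisconnected, p, hp, hps, hmin⟩
  · intro X' X'' _ _ _ _ _ _ _ _ p q hp hps hpm hq hqs hqm
    obtain ⟨h, hh, hhq⟩ := CompactT2.ExtremallyDisconnected.projective (A := X') hp hq hqs
    obtain ⟨k, hk, hkp⟩ := CompactT2.ExtremallyDisconnected.projective (A := X'') hq hp hps
    have hs : ∀ (A B : Type u) [TopologicalSpace A] [CompactSpace A] [TopologicalSpace B] [T2Space B]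
        (a : A → X) (b : B → X) (m : A → B), Continuous m → b ∘ m = a → Function.Surjective a →
        (∀ E : Set B, IsClosed E → E ≠ Set.univ → b '' E ≠ Set.univ) → Function.Surjective m := by
      intro A B _ _ _ _ a b m hm hbm has hbmin y
      by_contra hne
      refine hbmin (Set.range m) (isCompact_range hm).isClosed
        (fun h ↦ hne (h ▸ Set.mem_univ y : y ∈ Set.range m)) (Set.eq_univ_of_forall fun x ↦ ?_)
      obtain ⟨w, rfl⟩ := has x
      exact ⟨_, ⟨w, rfl⟩, congrFun hbm w⟩
    have h1 : Function.Surjective h := hs X' X'' p q h hh hhq hps hqm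
    have h2 : Function.Surjective k := hs X'' X' q p k hk hkp hqs hpm
    have hkh : k ∘ h = id := hid X' p hpm hps _ (hk.comp hh) (h2.comp h1)
      (funext fun a ↦ (congrFun hkp (h a)).trans (congrFun hhq a))
    have hbij : Function.Bijective h :=
      ⟨fun a b e ↦ (congrFun hkh a).symm.trans ((congrArg k e).trans (congrFun hkh b)), h1⟩
    exact ⟨hh.homeoOfEquivCompactToT2 (f := Equiv.ofBijective h hbij), hhq⟩

end Groth.Agent.S7556
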