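import Groth.Statements.S7559
import Groth.Agent.Lib.PtSet.Strat

set_option autoImplicit false
universe u
open PtTop

namespace Groth.Agent.S7559

/-- Let X be a topological space and X = ∐ P_k a finite partition into locally closed parts. Then there
is a finite stratification of X refining it: a finite partially ordered index set I and pairwise
disjoint locally closed strata S_i covering X with closure(S_j) ⊆ ⋃_{i ≤ j} S_i, such that every
part P_k is a union of strata. -/
theorem result {X : Type u} [TopologicalSpace X]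
    {n : ℕ} (P : Fin n → Set X) (hP : ∀ k, IsLocallyClosed (P k)) (hcov : ⋃ k, P k = Set.univ)
    (hdisj : ∀ k k', k ≠ k' → Disjoint (P k) (P k')) :
    ∃ (I : Type) (_ : Fintype I) (_ : PartialOrder I) (S : I → Set X),
      (∀ i, IsLocallyClosed (S i)) ∧ (⋃ i, S i = Set.univ) ∧ (∀ i j, i ≠ j → Disjoint (S i) (S j)) ∧
      (∀ j, closure (S j) ⊆ ⋃ i ∈ Set.Iic j, S i) ∧
      (∀ i k, (S i ∩ P k).Nonempty → S i ⊆ P k) := by
  choose U F hU hF hUF using hP
  obtain ⟨I, f, o, R, h1, -, h3, h4, h5, h6⟩ := Groth.Agent.PtSet.exists_stratification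
    (S := Set.range U ∪ Set.range (fun k ↦ (F k)ᶜ))
    ((Set.finite_range _).union (Set.finite_range _))
    (by rintro V (⟨k, rfl⟩ | ⟨k, rfl⟩); exacts [hU k, (hF k).isOpen_compl])
    P (fun k x y hxy hx ↦ by
      rw [hUF k] at hx ⊢
      refine ⟨(hxy _ (.inl ⟨k, rfl⟩)).1 hx.1, ?_⟩
      by_contra hy
      exact ((hxy _ (.inr ⟨k, rfl⟩)).2 hy) hx.2)
  exact ⟨I, f, o, R, h1, h3, h4, h5, h6⟩

end Groth.Agent.S7559
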