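import Groth.Statements.S7560
import Groth.Agent.Lib.PtSet.Strat

set_option autoImplicit false
universe u
open ConstrTop

namespace Groth.Agent.S7560

/-- Let X be a topological space written as a finite union X = T_1 ∪ … ∪ T_n of constructible subsets.
Then there is a finite stratification X = ∐ S_i (pairwise disjoint locally closed strata indexed by
a finite partially ordered set, with closure(S_j) ⊆ ⋃_{i ≤ j} S_i) whose strata are constructible
and such that every T_k is a union of strata. -/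
theorem result {X : Type u} [TopologicalSpace X]
    {n : ℕ} (T : Fin n → Set X) (hT : ∀ k, Topology.IsConstructible (T k)) (hcov : ⋃ k, T k = Set.univ) :
    ∃ (I : Type) (_ : Fintype I) (_ : PartialOrder I) (S : I → Set X),
      (∀ i, IsLocallyClosed (S i) ∧ Topology.IsConstructible (S i)) ∧ (⋃ i, S i = Set.univ) ∧
      (∀ i j, i ≠ j → Disjoint (S i) (S j)) ∧
      (∀ j, closure (S j) ⊆ ⋃ i ∈ Set.Iic j, S i) ∧
      (∀ i k, (S i ∩ T k).Nonempty → S i ⊆ T k) := by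
  choose S hSf hS hTS using fun k ↦ Groth.Agent.PtSet.exists_finite_sdiff (hT k)
  obtain ⟨I, f, o, R, h1, h2, h3, h4, h5, h6⟩ := Groth.Agent.PtSet.exists_stratification
    (S := ⋃ k, Prod.fst '' S k ∪ Prod.snd '' S k)
    (Set.finite_iUnion fun k ↦ ((hSf k).image _).union ((hSf k).image _))
    (by
      simp only [Set.mem_iUnion, Set.mem_union, Set.mem_image]
      rintro U ⟨k, ⟨p, hp, rfl⟩ | ⟨p, hp, rfl⟩⟩
      exacts [(hS k p hp).1.1, (hS k p hp).2.1])
    T (fun k x y hxy hx ↦ by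
      rw [hTS k] at hx ⊢
      obtain ⟨p, hp, h1, h2⟩ := Set.mem_iUnion₂.1 hx
      refine Set.mem_iUnion₂.2 ⟨p, hp, (hxy p.1 ?_).1 h1, fun h ↦ h2 ((hxy p.2 ?_).2 h)⟩
      · exact Set.mem_iUnion.2 ⟨k, .inl ⟨p, hp, rfl⟩⟩
      · exact Set.mem_iUnion.2 ⟨k, .inr ⟨p, hp, rfl⟩⟩)
  refine ⟨I, f, o, R, fun i ↦ ⟨h1 i, h2 ?_ i⟩, h3, h4, h5, h6⟩
  simp only [Set.mem_iUnion, Set.mem_union, Set.mem_image]
  rintro U ⟨k, ⟨p, hp, rfl⟩ | ⟨p, hp, rfl⟩⟩
  exacts [(hS k p hp).1.2, (hS k p hp).2.2]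

end Groth.Agent.S7560
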