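import Groth.Statements.S7564


set_option autoImplicit false
universe u
open PtTop

namespace Groth.Agent.S7564

/-- For a continuous surjection f : X → Y, if X has finitely many irreducible components, say n of them,
then Y has at most n irreducible components. -/
theorem result {X Y : Type u} [TopologicalSpace X] [TopologicalSpace Y]
    (f : X → Y) (hf : Continuous f) (hs : Function.Surjective f) (hfin : (irreducibleComponents X).Finite) :
    (irreducibleComponents Y).Finite ∧ (irreducibleComponents Y).ncard ≤ (irreducibleComponents X).ncard := by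
  classical
  have hc : ∀ C ∈ irreducibleComponents Y, ∃ Z ∈ irreducibleComponents X,
      closure (f '' Z) = C := by
    intro C hC
    obtain ⟨W, hW, hCW⟩ := isIrreducible_iff_sUnion_isClosed.1 hC.1
      (hfin.toFinset.image fun Z ↦ closure (f '' Z))
      (by simp only [Finset.mem_image]; rintro _ ⟨Z, -, rfl⟩; exact isClosed_closure)
      (by
        intro y _
        obtain ⟨x, rfl⟩ := hs y
        exact ⟨_, Finset.mem_coe.2 (Finset.mem_image.2 ⟨_, hfin.mem_toFinset.2
          (irreducibleComponent_mem_irreducibleComponents x), rfl⟩),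
          subset_closure ⟨x, mem_irreducibleComponent, rfl⟩⟩)
    obtain ⟨Z, hZ, rfl⟩ := Finset.mem_image.1 hW
    rw [hfin.mem_toFinset] at hZ
    exact ⟨Z, hZ, subset_antisymm (hC.2 ((hZ.1.image _ hf.continuousOn).closure) hCW) hCW⟩
  have hsub : irreducibleComponents Y ⊆ (fun Z ↦ closure (f '' Z)) '' irreducibleComponents X :=
    fun C hC ↦ let ⟨Z, hZ, e⟩ := hc C hC; ⟨Z, hZ, e⟩
  exact ⟨(hfin.image _).subset hsub,
    (Set.ncard_le_ncard hsub (hfin.image _)).trans (Set.ncard_image_le hfin)⟩

end Groth.Agent.S7564
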