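import Groth.Statements.S7567
import Groth.Agent.Lib.PtSet.Components

set_option autoImplicit false
universe u
open PtTop

namespace Groth.Agent.S7567

/-- Let X be a quasi-compact topological space whose quasi-compact opens form a basis, any two of them
meeting in a quasi-compact set. For a subset T ⊆ X these two conditions are equivalent: (a) T can be
written as an intersection of clopen subsets of X; (b) T is closed and is a union of connected
components of X. -/
theorem result {X : Type u} [TopologicalSpace X]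
    [CompactSpace X] [PrespectralSpace X] [QuasiSeparatedSpace X] (T : Set X) :
    (∃ S : Set (Set X), (∀ Z ∈ S, IsClopen Z) ∧ T = ⋂₀ S) ↔
      (IsClosed T ∧ ∀ x ∈ T, connectedComponent x ⊆ T) := by
  constructor
  · rintro ⟨S, hS, rfl⟩
    exact ⟨isClosed_sInter fun Z hZ ↦ (hS Z hZ).1, fun x hx ↦
      Set.subset_sInter fun Z hZ ↦ (hS Z hZ).connectedComponent_subset (hx Z hZ)⟩
  rintro ⟨hT, hsat⟩
  refine ⟨{Z | IsClopen Z ∧ T ⊆ Z}, fun Z hZ ↦ hZ.1, subset_antisymm (fun a ha Z hZ ↦ hZ.2 ha) ?_⟩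
  intro y hy
  by_contra hyT
  haveI : Nonempty {Z : Set X // IsClopen Z ∧ y ∈ Z} := ⟨⟨Set.univ, isClopen_univ, trivial⟩⟩
  have hd : T ∩ ⋂ Z : {Z : Set X // IsClopen Z ∧ y ∈ Z}, Z.1 = ∅ := by
    refine Set.eq_empty_of_forall_notMem fun a ⟨haT, ha⟩ ↦ hyT ?_
    have h1 : a ∈ connectedComponent y := by
      rw [Groth.Agent.PtSet.connectedComponent_eq_sInter_isClopen_qcqs y]
      exact fun Z hZ ↦ Set.mem_iInter.1 ha ⟨Z, hZ⟩
    exact hsat a haT (connectedComponent_eq h1 ▸ mem_connectedComponent)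
  obtain ⟨Z, hZ⟩ := hT.isCompact.elim_directed_family_closed
    (fun Z : {Z : Set X // IsClopen Z ∧ y ∈ Z} ↦ Z.1) (fun Z ↦ Z.2.1.1) hd fun Z Z' ↦
      ⟨⟨Z.1 ∩ Z'.1, Z.2.1.inter Z'.2.1, Z.2.2, Z'.2.2⟩, Set.inter_subset_left,
        Set.inter_subset_right⟩
  exact hy Z.1ᶜ ⟨Z.2.1.compl, fun a ha h ↦ (Set.ext_iff.1 hZ a).1 ⟨ha, h⟩⟩ Z.2.2

end Groth.Agent.S7567
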