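import Groth.Statements.S7568
import Mathlib.Topology.Separation.Regular

set_option autoImplicit false
universe u
open PtTop

namespace Groth.Agent.S7568

/-- Let X be a Hausdorff quasi-compact space, X = ⋃ U_i an open covering, p ≥ 0 an integer, and for
every (p+1)-tuple (i_0, …, i_p) an open covering of U_{i_0} ∩ … ∩ U_{i_p} by opens W_{i_0…i_p,k}.
Then there are an open covering X = ⋃_{j ∈ J} V_j and a map α : J → I with closure(V_j) ⊆ U_{α(j)}
such that each V_{j_0} ∩ … ∩ V_{j_p} is contained in W_{α(j_0)…α(j_p),k} for some k. The published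
statement allows a covering of an empty intersection to have no members; this row requires every
covering W_{i_0…i_p} to have at least one member (possibly empty), without which the conclusion
fails. -/
theorem result {X : Type u} [TopologicalSpace X] [CompactSpace X] [T2Space X]
    {ι : Type u} (U : ι → Set X) (hU : ∀ i, IsOpen (U i)) (hcov : ⋃ i, U i = Set.univ) (p : ℕ)
    (W : (Fin (p + 1) → ι) → Set (Set X)) (hWo : ∀ t, ∀ w ∈ W t, IsOpen w)
    (hWc : ∀ t, ⋃₀ W t = ⋂ l, U (t l)) (hWne : ∀ t, (W t).Nonempty) :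
    ∃ (J : Type u) (V : J → Set X) (α : J → ι), (∀ j, IsOpen (V j)) ∧ (⋃ j, V j = Set.univ) ∧
      (∀ j, closure (V j) ⊆ U (α j)) ∧
      (∀ t : Fin (p + 1) → J, ∃ w ∈ W (α ∘ t), (⋂ l, V (t l)) ⊆ w) := by
  classical
  have hloc : ∀ x : X, ∃ i, ∃ O : Set X, IsOpen O ∧ x ∈ O ∧ closure O ⊆ U i := by
    intro x
    obtain ⟨i, hi⟩ := Set.mem_iUnion.1 (hcov.symm ▸ Set.mem_univ x)
    obtain ⟨K, hK, hKc, hKU⟩ := exists_mem_nhds_isClosed_subset ((hU i).mem_nhds hi)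
    exact ⟨i, interior K, isOpen_interior, mem_interior_iff_mem_nhds.2 hK,
      (closure_minimal interior_subset hKc).trans hKU⟩
  choose i O hO hxO hOU using hloc
  obtain ⟨s, hs⟩ := isCompact_univ.elim_finite_subcover O hO fun x _ ↦ Set.mem_iUnion.2 ⟨x, hxO x⟩
  -- one member of `W` per point and per tuple of closures containing it
  have hw : ∀ (x : X) (t : Fin (p + 1) → s), (∀ l, x ∈ closure (O (t l))) →
      ∃ w ∈ W (fun l ↦ i (t l)), x ∈ w := fun x t ht ↦ by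
    have : x ∈ ⋂ l, U (i (t l)) := Set.mem_iInter.2 fun l ↦ hOU _ (ht l)
    rw [← hWc (fun l ↦ i (t l))] at this
    exact this
  choose w hwW hxw using hw
  let N : X → Set X := fun x ↦
    (⋂ t : Fin (p + 1) → s, ⋂ h : ∀ l, x ∈ closure (O (t l)), w x t h) ∩
      ⋂ a : s, ⋂ (_ : x ∉ closure (O a)), (closure (O a))ᶜ
  have hN : ∀ x, IsOpen (N x) ∧ x ∈ N x := fun x ↦
    ⟨(isOpen_iInter_of_finite fun t ↦ isOpen_iInter_of_finite fun h ↦ hWo _ _ (hwW x t h)).inter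
      (isOpen_iInter_of_finite fun a ↦ isOpen_iInter_of_finite fun _ ↦
        isClosed_closure.isOpen_compl),
      Set.mem_iInter.2 fun t ↦ Set.mem_iInter.2 fun h ↦ hxw x t h,
      Set.mem_iInter.2 fun a ↦ Set.mem_iInter.2 fun h ↦ h⟩
  refine ⟨s × X, fun j ↦ O j.1 ∩ N j.2, fun j ↦ i j.1, fun j ↦ (hO _).inter (hN _).1,
    Set.eq_univ_of_forall fun x ↦ ?_,
    fun j ↦ (closure_mono Set.inter_subset_left).trans (hOU _), fun t ↦ ?_⟩
  · obtain ⟨a, ha, hxa⟩ := Set.mem_iUnion₂.1 (hs (Set.mem_univ x))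
    exact Set.mem_iUnion.2 ⟨(⟨a, ha⟩, x), hxa, (hN x).2⟩
  by_cases hne : ∃ z, z ∈ ⋂ l, O (t l).1 ∩ N (t l).2
  · obtain ⟨z, hz⟩ := hne
    have hK : ∀ l, (t 0).2 ∈ closure (O (t l).1) := fun l ↦ by_contra fun h ↦
      Set.mem_iInter.1 (Set.mem_iInter.1 (Set.mem_iInter.1 hz 0).2.2 (t l).1) h
        (subset_closure (Set.mem_iInter.1 hz l).1)
    refine ⟨_, hwW (t 0).2 (fun l ↦ (t l).1) hK, fun y hy ↦ ?_⟩
    exact Set.mem_iInter.1 (Set.mem_iInter.1 (Set.mem_iInter.1 hy 0).2.1 fun l ↦ (t l).1) hK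
  · obtain ⟨w', hw'⟩ := hWne ((fun j : s × X ↦ i j.1) ∘ t)
    exact ⟨w', hw', fun y hy ↦ absurd ⟨y, hy⟩ hne⟩

end Groth.Agent.S7568
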