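import Groth.Statements.S7569
import Groth.Agent.Lib.PtSet.Shrink

set_option autoImplicit false
universe u
open PtTop

namespace Groth.Agent.S7569

/-- Let X be a Hausdorff, locally quasi-compact space and Z ⊆ X a quasi-compact subset. Let p ≥ 0, let
U_i ⊆ X be opens with Z ⊆ ⋃ U_i, and for every (p+1)-tuple (i_0, …, i_p) let W_{i_0…i_p} ⊆ U_{i_0} ∩
… ∩ U_{i_p} be an open with W_{i_0…i_p} ∩ Z = U_{i_0} ∩ … ∩ U_{i_p} ∩ Z. Then there are opens V_i ⊆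
X with Z ⊆ ⋃ V_i, closure(V_i) ⊆ U_i for all i, and V_{i_0} ∩ … ∩ V_{i_p} ⊆ W_{i_0…i_p} for all
(p+1)-tuples. -/
theorem result {X : Type u} [TopologicalSpace X]
    [T2Space X] [LocallyCompactSpace X] (Z : Set X) (hZ : IsCompact Z)
    {ι : Type u} (U : ι → Set X) (hU : ∀ i, IsOpen (U i)) (hcov : Z ⊆ ⋃ i, U i) (p : ℕ)
    (W : (Fin (p + 1) → ι) → Set X) (hWo : ∀ t, IsOpen (W t)) (hWU : ∀ t, W t ⊆ ⋂ l, U (t l))
    (hWZ : ∀ t, W t ∩ Z = (⋂ l, U (t l)) ∩ Z) :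
    ∃ V : ι → Set X, (∀ i, IsOpen (V i)) ∧ (Z ⊆ ⋃ i, V i) ∧ (∀ i, closure (V i) ⊆ U i) ∧
      (∀ t : Fin (p + 1) → ι, (⋂ l, V (t l)) ⊆ W t) := by
  have hloc : ∀ z ∈ Z, ∃ i A, IsOpen A ∧ z ∈ A ∧ A ⊆ U i ∧ closure A ⊆ U i := by
    intro z hz
    obtain ⟨i, hi⟩ := Set.mem_iUnion.1 (hcov hz)
    obtain ⟨K, hK, hKU, hKc⟩ := local_compact_nhds ((hU i).mem_nhds hi)
    exact ⟨i, interior K, isOpen_interior, mem_interior_iff_mem_nhds.2 hK,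
      interior_subset.trans hKU, (closure_minimal interior_subset hKc.isClosed).trans hKU⟩
  obtain ⟨V, hV, hc, hVU, hVW⟩ := Groth.Agent.PtSet.exists_shrink_lifting hZ U
    (fun i A ↦ closure A ⊆ U i) (fun i ↦ by simp)
    (fun i A B hA hB ↦ by rw [closure_union]; exact Set.union_subset hA hB)
    (fun i A B hAB hB ↦ (closure_mono hAB).trans hB)
    (fun i A hA ↦ Set.inter_subset_left.trans hA) hloc p W hWo hWZ
  exact ⟨V, hV, hc, fun i ↦ (hVU i).2, hVW⟩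

end Groth.Agent.S7569
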