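import Groth.Statements.S7570
import Groth.Agent.Lib.PtSet.Shrink

set_option autoImplicit false
universe u
open PtTop

namespace Groth.Agent.S7570

/-- Let X be a topological space and Z ⊆ X a quasi-compact subset such that any two distinct points of Z
have disjoint open neighbourhoods in X. Let p ≥ 0, let U_i ⊆ X be opens with Z ⊆ ⋃ U_i, and for
every (p+1)-tuple let W_{i_0…i_p} ⊆ U_{i_0} ∩ … ∩ U_{i_p} be an open with W_{i_0…i_p} ∩ Z = U_{i_0}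
∩ … ∩ U_{i_p} ∩ Z. Then there are opens V_i with (1) Z ⊆ ⋃ V_i, (2) V_i ⊆ U_i, (3) closure(V_i) ∩ Z
⊆ U_i, and (4) V_{i_0} ∩ … ∩ V_{i_p} ⊆ W_{i_0…i_p} for all (p+1)-tuples. -/
theorem result {X : Type u} [TopologicalSpace X]
    (Z : Set X) (hZ : IsCompact Z)
    (hZsep : ∀ z ∈ Z, ∀ z' ∈ Z, z ≠ z' → ∃ A B : Set X, IsOpen A ∧ IsOpen B ∧ z ∈ A ∧ z' ∈ B ∧ Disjoint A B)
    {ι : Type u} (U : ι → Set X) (hU : ∀ i, IsOpen (U i)) (hcov : Z ⊆ ⋃ i, U i) (p : ℕ)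
    (W : (Fin (p + 1) → ι) → Set X) (hWo : ∀ t, IsOpen (W t)) (hWU : ∀ t, W t ⊆ ⋂ l, U (t l))
    (hWZ : ∀ t, W t ∩ Z = (⋂ l, U (t l)) ∩ Z) :
    ∃ V : ι → Set X, (∀ i, IsOpen (V i)) ∧ (Z ⊆ ⋃ i, V i) ∧ (∀ i, V i ⊆ U i) ∧
      (∀ i, closure (V i) ∩ Z ⊆ U i) ∧ (∀ t : Fin (p + 1) → ι, (⋂ l, V (t l)) ⊆ W t) := by
  have hloc : ∀ z ∈ Z, ∃ i A, IsOpen A ∧ z ∈ A ∧ A ⊆ U i ∧ closure A ∩ Z ⊆ U i := by
    intro z hz
    obtain ⟨i, hi⟩ := Set.mem_iUnion.1 (hcov hz)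
    have hK : IsCompact (Z \ U i) := hZ.inter_right (hU i).isClosed_compl
    have hsep : ∀ w ∈ Z \ U i, ∃ A B : Set X, IsOpen A ∧ IsOpen B ∧ z ∈ A ∧ w ∈ B ∧ Disjoint A B :=
      fun w hw ↦ hZsep z hz w hw.1 fun e ↦ hw.2 (e ▸ hi)
    choose! A B hA hB hzA hwB hAB using hsep
    obtain ⟨s, hsK, hsf, hscov⟩ := hK.elim_finite_subcover_image hB
      (fun w hw ↦ Set.mem_iUnion₂.2 ⟨w, hw, hwB w hw⟩)
    refine ⟨i, U i ∩ ⋂ w ∈ s, A w, (hU i).inter (hsf.isOpen_biInter fun w hw ↦ hA w (hsK hw)),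
      ⟨hi, Set.mem_iInter₂.2 fun w hw ↦ hzA w (hsK hw)⟩, Set.inter_subset_left, ?_⟩
    rintro x ⟨hx, hxZ⟩
    by_contra hxU
    obtain ⟨w, hw, hxB⟩ := Set.mem_iUnion₂.1 (hscov ⟨hxZ, hxU⟩)
    obtain ⟨y, hyB, -, hy⟩ := mem_closure_iff.1 hx (B w) (hB w (hsK hw)) hxB
    exact Set.disjoint_left.1 (hAB w (hsK hw)) (Set.mem_iInter₂.1 hy w hw) hyB
  obtain ⟨V, hV, hc, hVU, hVW⟩ := Groth.Agent.PtSet.exists_shrink_lifting hZ U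
    (fun i A ↦ closure A ∩ Z ⊆ U i) (fun i ↦ by simp)
    (fun i A B hA hB ↦ by rw [closure_union, Set.union_inter_distrib_right]; exact Set.union_subset hA hB)
    (fun i A B hAB hB ↦ (Set.inter_subset_inter_left _ (closure_mono hAB)).trans hB)
    (fun i A hA ↦ hA) hloc p W hWo hWZ
  exact ⟨V, hV, hc, fun i ↦ (hVU i).1, fun i ↦ (hVU i).2, hVW⟩

end Groth.Agent.S7570
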