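import Groth.Statements.S7571
import Mathlib.Topology.Category.TopCat.Limits.Cofiltered

set_option autoImplicit false
universe u
open CategoryTheory CategoryTheory.Limits
open PtTop

namespace Groth.Agent.S7571

/-- Let j ↦ X_j be a diagram of topological spaces over a cofiltered category with limit X and
projections f_j. (1) Every open of X is a union of subsets of the form f_j⁻¹(U_j) with U_j ⊆ X_j
open. (2) Every quasi-compact open of X equals f_i⁻¹(U_i) for some i and some open U_i ⊆ X_i. -/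
theorem result {J : Type u} [SmallCategory J] [IsCofiltered J]
    (F : J ⥤ TopCat.{u}) (c : Cone F) (hc : IsLimit c) :
    (∀ W : Set c.pt, IsOpen W →
      ∃ S : Set (Σ j, Set (F.obj j)), (∀ s ∈ S, IsOpen s.2) ∧ W = ⋃ s ∈ S, c.π.app s.1 ⁻¹' s.2) ∧
    (∀ W : Set c.pt, IsOpen W → IsCompact W →
      ∃ (i : J) (Ui : Set (F.obj i)), IsOpen Ui ∧ W = c.π.app i ⁻¹' Ui) := by
  haveI : Nonempty J := IsCofiltered.nonempty
  have hb := TopCat.isTopologicalBasis_cofiltered_limit.{u, u} F c hc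
    (fun j ↦ {U : Set (F.obj j) | IsOpen U}) (fun j ↦ TopologicalSpace.isTopologicalBasis_opens)
    (fun i ↦ isOpen_univ) (fun i U₁ U₂ h₁ h₂ ↦ h₁.inter h₂)
    (fun i j f V hV ↦ hV.preimage (F.map f).hom.continuous)
  refine ⟨fun W hW ↦ ⟨{s | IsOpen s.2 ∧ c.π.app s.1 ⁻¹' s.2 ⊆ W}, fun s hs ↦ hs.1,
    subset_antisymm (fun x hx ↦ ?_) (Set.iUnion₂_subset fun s hs ↦ hs.2)⟩, fun W hW hWc ↦ ?_⟩
  · obtain ⟨_, ⟨j, V, hV, rfl⟩, hxV, hVW⟩ := hb.exists_subset_of_mem_open hx hW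
    exact Set.mem_iUnion₂.2 ⟨⟨j, V⟩, ⟨hV, hVW⟩, hxV⟩
  obtain ⟨s, hs⟩ := hWc.elim_finite_subcover
    (fun a : {a : Σ j, Set (F.obj j) // IsOpen a.2 ∧ c.π.app a.1 ⁻¹' a.2 ⊆ W} ↦
      c.π.app a.1.1 ⁻¹' a.1.2) (fun a ↦ a.2.1.preimage (c.π.app a.1.1).hom.continuous)
    (fun x hx ↦ by
      obtain ⟨_, ⟨j, V, hV, rfl⟩, hxV, hVW⟩ := hb.exists_subset_of_mem_open hx hW
      exact Set.mem_iUnion.2 ⟨⟨⟨j, V⟩, hV, hVW⟩, hxV⟩)
  classical
  suffices ∀ t : Finset {a : Σ j, Set (F.obj j) // IsOpen a.2 ∧ c.π.app a.1 ⁻¹' a.2 ⊆ W},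
      ∃ (i : J) (Ui : Set (F.obj i)), IsOpen Ui ∧
        c.π.app i ⁻¹' Ui = ⋃ a ∈ t, c.π.app a.1.1 ⁻¹' a.1.2 by
    obtain ⟨i, Ui, hUi, he⟩ := this s
    exact ⟨i, Ui, hUi, he ▸ subset_antisymm hs (Set.iUnion₂_subset fun a _ ↦ a.2.2)⟩
  intro t
  induction t using Finset.induction_on with
  | empty => exact ⟨Classical.arbitrary J, ∅, isOpen_empty, by simp⟩
  | @insert a t _ ih =>
    obtain ⟨i, Ui, hUi, he⟩ := ih
    obtain ⟨k, f, g, -⟩ := IsCofilteredOrEmpty.cone_objs a.1.1 i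
    refine ⟨k, F.map f ⁻¹' a.1.2 ∪ F.map g ⁻¹' Ui,
      (a.2.1.preimage (F.map f).hom.continuous).union (hUi.preimage (F.map g).hom.continuous), ?_⟩
    rw [Finset.set_biUnion_insert, ← he]
    ext x
    simp only [Set.mem_preimage, Set.mem_union, ← ConcreteCategory.comp_apply, c.w]

end Groth.Agent.S7571
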