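import Groth.Statements.S7575
import Mathlib.Topology.Sheaves.Skyscraper
import Mathlib.Topology.Sheaves.SheafCondition.UniqueGluing

set_option autoImplicit false
universe u
open CategoryTheory CategoryTheory.Limits TopologicalSpace Opposite
open ShSp

namespace Groth.Agent.S7575

section Helpers

variable {X : TopCat.{u}} {J : Type u} [Preorder J] [Nonempty J] [IsDirected J (· ≤ ·)]
  {F : J ⥤ X.Sheaf (Type u)} {c : Cocone F}

abbrev Sec (G : X.Sheaf (Type u)) (V : Opens X) : Type u := G.presheaf.obj (op V)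

abbrev res (G : X.Sheaf (Type u)) {V W : Opens X} (h : W ≤ V) (s : Sec G V) : Sec G W :=
  G.presheaf.map (homOfLE h).op s

abbrev app {G H : X.Sheaf (Type u)} (φ : G ⟶ H) {V : Opens X} (s : Sec G V) : Sec H V :=
  φ.1.app (op V) s

theorem res_res (G : X.Sheaf (Type u)) {V W W' : Opens X} (h : W ≤ V) (h' : W' ≤ W) (s : Sec G V) :
    res G h' (res G h s) = res G (h'.trans h) s :=
  (CategoryTheory.congr_fun (G.presheaf.map_comp (homOfLE h).op (homOfLE h').op) s).symm

theorem app_res {G H : X.Sheaf (Type u)} (φ : G ⟶ H) {V W : Opens X} (h : W ≤ V) (s : Sec G V) :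
    app φ (res G h s) = res H h (app φ s) :=
  CategoryTheory.congr_fun (φ.1.naturality (homOfLE h).op) s

abbrev inc (c : Cocone F) (i : J) {V : Opens X} (s : Sec (F.obj i) V) : Sec c.pt V :=
  app (G := F.obj i) (H := c.pt) (c.ι.app i) s

theorem inc_res (c : Cocone F) (i : J) {V W : Opens X} (h : W ≤ V) (s : Sec (F.obj i) V) :
    inc c i (res (F.obj i) h s) = res c.pt h (inc c i s) :=
  app_res (G := F.obj i) (H := c.pt) (c.ι.app i) h s

theorem app_comp {i j k : J} (a : i ⟶ j) (b : j ⟶ k) {V : Opens X} (s : Sec (F.obj i) V) :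
    app (F.map b) (app (F.map a) s) = app (F.map (a ≫ b)) s := by
  rw [F.map_comp]; rfl

theorem app_ι {i j : J} (a : i ⟶ j) {V : Opens X} (s : Sec (F.obj i) V) :
    inc c j (app (F.map a) s) = inc c i s := by
  rw [inc, inc, ← c.w a]
  rfl

theorem glue (G : X.Sheaf (Type u)) {U : Opens X} {ι : Type u} {V : ι → Opens X} (hV : ∀ k, V k ≤ U)
    (hcov : U ≤ iSup V) (s : ∀ k, Sec G (V k))
    (hs : ∀ k l, res G inf_le_left (s k) = res G (inf_le_right : V k ⊓ V l ≤ V l) (s l)) :
    ∃ t : Sec G U, ∀ k, res G (hV k) t = s k := by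
  obtain ⟨t, ht, -⟩ := G.existsUnique_gluing' V U (fun k => homOfLE (hV k)) hcov (fun k => s k) (fun k l => hs k l)
  exact ⟨t, ht⟩

theorem sep (G : X.Sheaf (Type u)) {U : Opens X} {ι : Type u} {V : ι → Opens X} (hV : ∀ k, V k ≤ U)
    (hcov : U ≤ iSup V) (s t : Sec G U) (h : ∀ k, res G (hV k) s = res G (hV k) t) : s = t :=
  G.eq_of_locally_eq' V U (fun k => homOfLE (hV k)) hcov s t h

noncomputable def stalkIsColimit (hc : IsColimit c) (x : X) :=
  isColimitOfPreserves (TopCat.Sheaf.forget (Type u) X ⋙ TopCat.Presheaf.stalkFunctor (Type u) x) hc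

theorem locally_eq (hc : IsColimit c) {i : J} {V : Opens X} (s t : Sec (F.obj i) V)
    (h : inc c i s = inc c i t) (x : X) (hx : x ∈ V) :
    ∃ (j : J) (a : i ⟶ j) (W : Opens X) (hW : W ≤ V), x ∈ W ∧
      app (F.map a) (res _ hW s) = app (F.map a) (res _ hW t) := by
  obtain ⟨j, a, a', e⟩ := (Types.FilteredColimit.isColimit_eq_iff _ (stalkIsColimit hc x)
    (i := i) (j := i) (xi := (F.obj i).presheaf.germ V x hx s) (xj := (F.obj i).presheaf.germ V x hx t)).1 (by
      show (TopCat.Presheaf.stalkFunctor (Type u) x).map (c.ι.app i).1 _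
        = (TopCat.Presheaf.stalkFunctor (Type u) x).map (c.ι.app i).1 _
      erw [TopCat.Presheaf.stalkFunctor_map_germ_apply, TopCat.Presheaf.stalkFunctor_map_germ_apply]
      exact congrArg _ h)
  obtain rfl : a = a' := Subsingleton.elim _ _
  replace e : (TopCat.Presheaf.stalkFunctor (Type u) x).map (F.map a).1 ((F.obj i).presheaf.germ V x hx s)
      = (TopCat.Presheaf.stalkFunctor (Type u) x).map (F.map a).1 ((F.obj i).presheaf.germ V x hx t) := e
  erw [TopCat.Presheaf.stalkFunctor_map_germ_apply, TopCat.Presheaf.stalkFunctor_map_germ_apply] at e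
  obtain ⟨W, hxW, iU, iV, e⟩ := TopCat.Presheaf.germ_eq _ x hx hx _ _ e
  obtain rfl : iU = iV := Subsingleton.elim _ _
  refine ⟨j, a, W, iU.le, hxW, ?_⟩
  rw [app_res, app_res]
  exact e

theorem locally_lift (hc : IsColimit c) {V : Opens X} (s : Sec c.pt V) (x : X) (hx : x ∈ V) :
    ∃ (i : J) (W : Opens X) (hW : W ≤ V) (s' : Sec (F.obj i) W), x ∈ W ∧
      inc c i s' = res _ hW s := by
  obtain ⟨i, g, hg⟩ := Types.jointly_surjective _ (stalkIsColimit hc x) (c.pt.presheaf.germ V x hx s)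
  obtain ⟨W, hxW, s', rfl⟩ := (F.obj i).presheaf.exists_germ_eq g
  replace hg : (TopCat.Presheaf.stalkFunctor (Type u) x).map (c.ι.app i).1 ((F.obj i).presheaf.germ W x hxW s')
      = c.pt.presheaf.germ V x hx s := hg
  erw [TopCat.Presheaf.stalkFunctor_map_germ_apply] at hg
  obtain ⟨W', hxW', iU, iV, e⟩ := TopCat.Presheaf.germ_eq _ x hxW hx _ _ hg
  exact ⟨i, W', iV.le, res _ iU.le s', hxW', by rw [inc_res]; exact e⟩

theorem inj_of_injective (hc : IsColimit c)
    (hinj : ∀ (i j : J) (h : i ⟶ j) (V : Opens X), Function.Injective ((F.map h).1.app (op V)))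
    {i : J} {V : Opens X} (s t : Sec (F.obj i) V) (h : inc c i s = inc c i t) : s = t := by
  choose j a W hW hxW e using fun x : V => locally_eq hc s t h x.1 x.2
  exact sep _ hW (fun x hx => Opens.mem_iSup.2 ⟨⟨x, hx⟩, hxW ⟨x, hx⟩⟩) s t fun x => hinj _ _ (a x) _ (e x)

theorem eventually_eq (hc : IsColimit c) {i : J} {V : Opens X} (hV : IsCompact (V : Set X))
    (s t : Sec (F.obj i) V) (h : inc c i s = inc c i t) :
    ∃ (j : J) (a : i ⟶ j), app (F.map a) s = app (F.map a) t := by
  classical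
  choose j a W hW hxW e using fun x : V => locally_eq hc s t h x.1 x.2
  obtain ⟨T, hT⟩ := hV.elim_finite_subcover (fun x : V => (W x : Set X)) (fun x => (W x).2)
    (fun x hx => Set.mem_iUnion.2 ⟨⟨x, hx⟩, hxW ⟨x, hx⟩⟩)
  obtain ⟨M, hM⟩ := Finset.exists_le (insert i (T.image j))
  refine ⟨M, homOfLE (hM i (Finset.mem_insert_self _ _)), sep _ (fun x : T => hW x.1) (fun x hx => ?_) _ _ fun x => ?_⟩
  · obtain ⟨y, hy, hxy⟩ := Set.mem_iUnion₂.1 (hT hx)
    exact Opens.mem_iSup.2 ⟨⟨y, hy⟩, hxy⟩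
  · rw [← app_res, ← app_res,
      Subsingleton.elim (homOfLE (hM i (Finset.mem_insert_self _ _)))
        (a x.1 ≫ homOfLE (hM _ (Finset.mem_insert_of_mem (Finset.mem_image_of_mem _ x.2)))),
      ← app_comp, ← app_comp, e x.1]

/-- Lifting a section from a finite family of lifts that agree in the colimit. -/
theorem lift_of_finite {U : Opens X} (s : Sec c.pt U) {ι : Type u} [Finite ι] (V : ι → Opens X)
    (hV : ∀ k, V k ≤ U) (hcov : U ≤ iSup V) (i : ι → J) (t : ∀ k, Sec (F.obj (i k)) (V k))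
    (ht : ∀ k, inc c (i k) (t k) = res _ (hV k) s)
    (hov : ∀ k l (M : J) (s₁ s₂ : Sec (F.obj M) (V k ⊓ V l)), inc c M s₁ = inc c M s₂ →
      ∃ (N : J) (a : M ⟶ N), app (F.map a) s₁ = app (F.map a) s₂) :
    ∃ (M : J) (t' : Sec (F.obj M) U), inc c M t' = s := by
  classical
  have := Fintype.ofFinite ι
  obtain ⟨M, hM⟩ := Finset.exists_le (Finset.univ.image i)
  have hiM : ∀ k, i k ≤ M := fun k => hM _ (Finset.mem_image_of_mem _ (Finset.mem_univ k))
  choose N a e using fun p : ι × ι => hov p.1 p.2 M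
    (res _ inf_le_left (app (F.map (homOfLE (hiM p.1))) (t p.1)))
    (res _ inf_le_right (app (F.map (homOfLE (hiM p.2))) (t p.2)))
    (by rw [inc_res, inc_res, app_ι, app_ι, ht, ht, res_res, res_res])
  obtain ⟨P, hP⟩ := Finset.exists_le (insert M (Finset.univ.image N))
  have hMP : M ≤ P := hP M (Finset.mem_insert_self _ _)
  obtain ⟨t', ht'⟩ := glue (F.obj P) hV hcov
    (fun k => app (F.map (homOfLE ((hiM k).trans hMP))) (t k)) (fun k l => by
      have hNP : N (k, l) ≤ P := hP _ (Finset.mem_insert_of_mem (Finset.mem_image_of_mem _ (Finset.mem_univ _)))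
      have := congrArg (app (F.map (homOfLE hNP))) (e (k, l))
      rw [app_res (F.map (a (k, l))), app_res (F.map (a (k, l))), app_res, app_res, app_comp, app_comp, app_comp, app_comp] at this
      exact this)
  refine ⟨P, t', sep _ hV hcov _ _ fun k => ?_⟩
  rw [← inc_res, ht' k, app_ι, ht k]

theorem isCompact_of_refine (U : Opens X)
    (hc4 : ∀ 𝒱 : Set (Opens X), (⨆ V ∈ 𝒱, V) = U →
        ∃ (m : ℕ) (W : Fin m → Opens X), (∀ j, ∃ V ∈ 𝒱, W j ≤ V) ∧ (⨆ j, W j) = U ∧
          ∀ j j', IsCompact ((W j ⊓ W j' : Opens X) : Set X)) : IsCompact (U : Set X) := by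
  obtain ⟨m, W, -, hW, hcp⟩ := hc4 {U} (by simp)
  rw [← hW, Opens.coe_iSup]
  exact isCompact_iUnion fun j => by simpa using hcp j j

end Helpers

/-- Let X be a topological space, I a directed set, (F_i) a system of sheaves of sets on X over I with
colimit F (in sheaves), U ⊆ X open, and Ψ : colim_i F_i(U) → F(U) the canonical map. (1) If all
transition maps F_i → F_{i'} are injective (on all sections) then Ψ is injective. (2)
Quasi-compactness of U alone already makes Ψ injective. (3) When U is quasi-compact and every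
transition map is injective, Ψ is bijective. (4) If every open covering of U can be refined by a
finite open covering U = U_1 ∪ … ∪ U_m with all U_j ∩ U_{j'} quasi-compact, then Ψ is bijective. -/
theorem result {X : TopCat.{u}} {J : Type u} [Preorder J] [Nonempty J] [IsDirected J (· ≤ ·)]
    (F : J ⥤ X.Sheaf (Type u)) (c : Cocone F) (hc : IsColimit c) (U : Opens X) :
    let ev := TopCat.Sheaf.forget (Type u) X ⋙ (evaluation (Opens X)ᵒᵖ (Type u)).obj (op U)
    let Ψ : colimit (F ⋙ ev) → ev.obj c.pt := colimit.desc (F ⋙ ev) (ev.mapCocone c)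
    ((∀ (i j : J) (h : i ⟶ j) (V : Opens X), Function.Injective ((F.map h).1.app (op V))) → Function.Injective Ψ) ∧
    (IsCompact (U : Set X) → Function.Injective Ψ) ∧
    (IsCompact (U : Set X) → (∀ (i j : J) (h : i ⟶ j) (V : Opens X), Function.Injective ((F.map h).1.app (op V))) →
      Function.Bijective Ψ) ∧
    ((∀ 𝒱 : Set (Opens X), (⨆ V ∈ 𝒱, V) = U →
        ∃ (m : ℕ) (W : Fin m → Opens X), (∀ j, ∃ V ∈ 𝒱, W j ≤ V) ∧ (⨆ j, W j) = U ∧
          ∀ j j', IsCompact ((W j ⊓ W j' : Opens X) : Set X)) →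
      Function.Bijective Ψ) := by
  intro ev Ψ
  have key : ∀ (i : J) (s : (F ⋙ ev).obj i), Ψ (colimit.ι (F ⋙ ev) i s) = inc c i s := fun i s =>
    CategoryTheory.congr_fun (colimit.ι_desc (ev.mapCocone c) i) s
  have inj : (∀ (i : J) (s t : Sec (F.obj i) U), inc c i s = inc c i t →
      ∃ (j : J) (a : i ⟶ j), app (F.map a) s = app (F.map a) t) → Function.Injective Ψ := by
    intro H p q hpq
    obtain ⟨i, s, rfl⟩ := Types.jointly_surjective' p
    change Sec (F.obj i) U at s
    obtain ⟨j, t, rfl⟩ := Types.jointly_surjective' q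
    change Sec (F.obj j) U at t
    obtain ⟨k, hik, hjk⟩ := exists_ge_ge i j
    replace hpq : inc c i s = inc c j t := ((key i s).symm.trans hpq).trans (key j t)
    obtain ⟨l, a, e⟩ := H k (app (F.map (homOfLE hik)) s) (app (F.map (homOfLE hjk)) t)
      (by rw [app_ι, app_ι]; exact hpq)
    rw [app_comp, app_comp] at e
    exact (Types.FilteredColimit.colimit_eq_iff _).2 ⟨l, homOfLE hik ≫ a, homOfLE hjk ≫ a, e⟩
  have surj : (∀ s : Sec c.pt U, ∃ (M : J) (t : Sec (F.obj M) U), inc c M t = s) → Function.Surjective Ψ := by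
    intro H s
    obtain ⟨M, t, e⟩ := H s
    exact ⟨colimit.ι (F ⋙ ev) M t, (key M t).trans e⟩
  refine ⟨fun h => inj fun i s t e => ⟨i, 𝟙 i, by rw [inj_of_injective hc h s t e]⟩,
    fun h => inj fun i s t e => eventually_eq hc h s t e, fun hU h => ?_, fun h4 => ?_⟩
  · refine ⟨inj fun i s t e => eventually_eq hc hU s t e, surj fun s => ?_⟩
    choose i W hW s' hxW e using fun x : U => locally_lift hc s x.1 x.2
    obtain ⟨T, hT⟩ := hU.elim_finite_subcover (fun x : U => (W x : Set X)) (fun x => (W x).2)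
      (fun x hx => Set.mem_iUnion.2 ⟨⟨x, hx⟩, hxW ⟨x, hx⟩⟩)
    exact lift_of_finite s (fun k : T => W k.1) (fun k => hW k.1)
      (fun x hx => by
        obtain ⟨y, hy, hxy⟩ := Set.mem_iUnion₂.1 (hT hx)
        exact Opens.mem_iSup.2 ⟨⟨y, hy⟩, hxy⟩)
      (fun k => i k.1) (fun k => s' k.1) (fun k => e k.1)
      fun k l M s₁ s₂ e => ⟨M, 𝟙 M, by rw [inj_of_injective hc h s₁ s₂ e]⟩
  · refine ⟨inj fun i s t e => eventually_eq hc (isCompact_of_refine U h4) s t e, surj fun s => ?_⟩
    obtain ⟨m, W, hWV, hWU, hcp⟩ := h4 {W | ∃ (hW : W ≤ U) (i : J) (t : Sec (F.obj i) W),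
        inc c i t = res _ hW s} (le_antisymm (iSup₂_le fun W h => h.1) fun x hx => by
      obtain ⟨i, W, hW, s', hxW, e⟩ := locally_lift hc s x hx
      exact (le_iSup₂_of_le W ⟨hW, i, s', e⟩ le_rfl : W ≤ _) hxW)
    choose V hV hWle using hWV
    choose hVU i t e using hV
    exact lift_of_finite s (fun k : ULift.{u} (Fin m) => W k.down) (fun k => (hWle _).trans (hVU _))
      (fun x hx => by
        rw [← hWU] at hx
        obtain ⟨k, hk⟩ := Opens.mem_iSup.1 hx
        exact Opens.mem_iSup.2 ⟨⟨k⟩, hk⟩)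
      (fun k => i k.down) (fun k => res _ (hWle k.down) (t k.down))
      (fun k => by rw [inc_res, e, res_res])
      fun k l M s₁ s₂ e => eventually_eq hc (hcp k.down l.down) s₁ s₂ e

end Groth.Agent.S7575
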