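import Groth.Statements.S7577
import Groth.Agent.Lib.PtSet.Catenary

set_option autoImplicit false
universe u
open PtTop

namespace Groth.Agent.S7577

/-- Let X be a sober topological space and δ : X → ℤ a dimension function. Then X is catenary, and for
any specialization x ⤳ y the codimension of the closure of {y} in the closure of {x} equals δ(x) −
δ(y). -/
theorem result {X : Type u} [TopologicalSpace X] [QuasiSober X] [T0Space X]
    (δ : X → ℤ) (hδ : PtTop.IsDimensionFunction δ) :
    PtTop.IsCatenarySpace X ∧
    ∀ x y : X, x ⤳ y →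
      PtTop.codim (⟨closure {y}, isIrreducible_singleton.closure, isClosed_closure⟩ : TopologicalSpace.IrreducibleCloseds X)
        (closure {x}) = ((δ x - δ y).toNat : ℕ∞) := by
  letI := specializationOrder X
  let e := irreducibleSetEquivPoints (α := X)
  obtain ⟨h1, h2⟩ := Groth.Agent.PtSet.catenary_of_grading (fun Z ↦ δ (e Z))
    (fun A B hAB ↦ hδ.1 _ _ (e.strictMono hAB).le (e.strictMono hAB).ne')
    (fun A B hAB ↦ by
      have h : e A ⋖ e B := (apply_covBy_apply_iff e).2 hAB
      refine hδ.2 (e B) (e A) ⟨h.le, h.lt.ne', fun z hz hz' ↦ ?_⟩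
      exact (h.eq_or_eq hz' hz).symm)
  refine ⟨h1, fun x y hxy ↦ ?_⟩
  have hy : (⟨closure {y}, isIrreducible_singleton.closure, isClosed_closure⟩ :
      TopologicalSpace.IrreducibleCloseds X) = e.symm y := TopologicalSpace.IrreducibleCloseds.ext rfl
  have hx : closure ({x} : Set X) = (e.symm x : Set X) := rfl
  rw [hy, hx, Groth.Agent.PtSet.codim_eq, h2 _ _ (e.symm.monotone (show y ≤ x from hxy))]
  simp

end Groth.Agent.S7577
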