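import Groth.Statements.S7578
import Groth.Agent.Lib.PtSet.Catenary

set_option autoImplicit false
universe u
open PtTop

namespace Groth.Agent.S7578

/-- Let X be a topological space which is locally Noetherian (every point has a Noetherian
neighbourhood) and sober, and let δ, δ' be two dimension functions on X. Then δ − δ' is locally
constant. -/
theorem result {X : Type u} [TopologicalSpace X] [QuasiSober X] [T0Space X]
    (hX : ∀ x : X, ∃ E ∈ nhds x, TopologicalSpace.NoetherianSpace E)
    (δ δ' : X → ℤ) (hδ : PtTop.IsDimensionFunction δ) (hδ' : PtTop.IsDimensionFunction δ') :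
    IsLocallyConstant (fun x => δ x - δ' x) := by
  letI := specializationOrder X
  let e := irreducibleSetEquivPoints (α := X)
  have key : ∀ d : X → ℤ, PtTop.IsDimensionFunction d → ∀ x y : X, x ⤳ y →
      Groth.Agent.PtSet.codimO (e.symm y) (e.symm x) = ((d x - d y).toNat : ℕ∞) := by
    intro d hd x y hxy
    obtain ⟨-, h2⟩ := Groth.Agent.PtSet.catenary_of_grading (fun Z ↦ d (e Z))
      (fun A B hAB ↦ hd.1 _ _ (e.strictMono hAB).le (e.strictMono hAB).ne')
      (fun A B hAB ↦ by
        have h : e A ⋖ e B := (apply_covBy_apply_iff e).2 hAB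
        refine hd.2 (e B) (e A) ⟨h.le, h.lt.ne', fun z hz hz' ↦ ?_⟩
        exact (h.eq_or_eq hz' hz).symm)
    rw [h2 _ _ (e.symm.monotone (show y ≤ x from hxy))]
    simp
  have hspec : ∀ x y : X, x ⤳ y → δ x - δ' x = δ y - δ' y := by
    intro x y hxy
    rcases eq_or_ne x y with rfl | hne
    · rfl
    have h1 := (key δ hδ x y hxy).symm.trans (key δ' hδ' x y hxy)
    have h2 := hδ.1 x y hxy hne
    have h3 := hδ'.1 x y hxy hne
    simp only [Nat.cast_inj] at h1
    omega
  refine (IsLocallyConstant.iff_exists_open _).2 fun x ↦ ?_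
  obtain ⟨E, hE, hN⟩ := hX x
  haveI : TopologicalSpace.NoetherianSpace (interior E) :=
    TopologicalSpace.NoetherianSpace.of_subset interior_subset
  set a : interior E := ⟨x, mem_interior_iff_mem_nhds.2 hE⟩ with ha
  haveI : QuasiSober (interior E) := isOpen_interior.isOpenEmbedding_subtypeVal.quasiSober
  have hfin := TopologicalSpace.NoetherianSpace.finite_irreducibleComponents (α := interior E)
  let C : Set (interior E) := ⋃ Z ∈ {Z ∈ irreducibleComponents (interior E) | a ∉ Z}, Z
  have hC : IsClosed C := (hfin.subset (Set.sep_subset _ _)).isClosed_biUnion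
    fun Z hZ ↦ isClosed_of_mem_irreducibleComponents Z hZ.1
  refine ⟨Subtype.val '' Cᶜ, isOpen_interior.isOpenMap_subtype_val _ hC.isOpen_compl,
    ⟨a, fun h ↦ ?_, rfl⟩, ?_⟩
  · obtain ⟨Z, hZ, haZ⟩ := Set.mem_iUnion₂.1 h
    exact hZ.2 haZ
  rintro _ ⟨z, hz, rfl⟩
  have haZ : a ∈ irreducibleComponent z := by_contra fun h ↦ hz (Set.mem_iUnion₂.2
    ⟨_, ⟨irreducibleComponent_mem_irreducibleComponents z, h⟩, mem_irreducibleComponent⟩)
  obtain ⟨η, hη⟩ := QuasiSober.sober isIrreducible_irreducibleComponent
    (isClosed_irreducibleComponent (x := z))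
  have h1 := hspec η.1 z.1 ((hη.specializes mem_irreducibleComponent).map continuous_subtype_val)
  have h2 := hspec η.1 a.1 ((hη.specializes haZ).map continuous_subtype_val)
  exact h1.symm.trans h2

end Groth.Agent.S7578
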