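import Groth.Statements.S7580


set_option autoImplicit false
universe u
open PtTop

namespace Groth.Agent.S7580

/-- Let f : X → Y be a continuous map of topological spaces with f(X) dense in Y and Y Hausdorff. Then
the cardinality of Y is at most that of the double power set of X. -/
theorem result {X Y : Type u} [TopologicalSpace X] [TopologicalSpace Y] [T2Space Y]
    (f : X → Y) (hf : Continuous f) (hd : DenseRange f) :
    Cardinal.mk Y ≤ (2 : Cardinal.{u}) ^ ((2 : Cardinal.{u}) ^ Cardinal.mk X) := by
  have : Function.Injective fun y : Y ↦ {S : Set X | y ∈ closure (f '' S)} := by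
    intro y y' h
    by_contra hne
    obtain ⟨A, B, hA, hB, hyA, hyB, hAB⟩ := t2_separation hne
    have h1 : y ∈ closure (f '' (f ⁻¹' A)) := by
      rw [Set.image_preimage_eq_inter_range]
      exact hd.open_subset_closure_inter hA hyA
    have h2 : y' ∈ closure (f '' (f ⁻¹' A)) := (Set.ext_iff.1 h (f ⁻¹' A)).1 h1
    exact Set.disjoint_left.1 (hAB.closure_left hB)
      (closure_mono (Set.image_preimage_subset _ _) h2) hyB
  simpa [Cardinal.mk_set] using Cardinal.mk_le_of_injective this

end Groth.Agent.S7580
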