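import Groth.Statements.S7582
import Groth.Agent.Lib.PtSet.Sober

set_option autoImplicit false
universe u
open PtTop

namespace Groth.Agent.S7582

/-- Let X be a topological space and c : X → X′ the canonical map to its soberification (X′ =
irreducible closed subsets of X, with opens the sets of those meeting a given open of X; c(x) =
closure of {x}). Then X′ is sober, c is continuous, the rule U′ ↦ c⁻¹(U′) is a bijection from the
open subsets of X′ onto the open subsets of X (it automatically respects finite intersections and
arbitrary unions), and every continuous map from X to a sober space Y is of the form g ∘ c for a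
continuous g : X′ → Y. The published statement also asserts that g is unique and that c(X) is a
Kolmogorov space universal for maps to Kolmogorov spaces; this row omits those clauses and lets Y
range over the universe of X. -/
theorem result (X : Type u) [TopologicalSpace X] :
    QuasiSober (PtTop.Sob X) ∧ T0Space (PtTop.Sob X) ∧ Continuous (PtTop.toSob X) ∧
    Set.BijOn (fun U' : Set (PtTop.Sob X) => PtTop.toSob X ⁻¹' U') {U' | IsOpen U'} {U : Set X | IsOpen U} ∧
    ∀ (Y : Type u) [TopologicalSpace Y] [QuasiSober Y] [T0Space Y] (f : X → Y), Continuous f →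
      ∃ g : PtTop.Sob X → Y, Continuous g ∧ g ∘ PtTop.toSob X = f := by
  refine ⟨inferInstance, inferInstance, Groth.Agent.PtSet.continuous_toSob, ⟨?_, ?_, ?_⟩, ?_⟩
  · exact fun S hS ↦ hS.preimage Groth.Agent.PtSet.continuous_toSob
  · intro S hS T hT h
    obtain ⟨U, hU, rfl⟩ := Groth.Agent.PtSet.exists_meet_eq hS
    obtain ⟨V, hV, rfl⟩ := Groth.Agent.PtSet.exists_meet_eq hT
    simp only [Groth.Agent.PtSet.preimage_meet hU, Groth.Agent.PtSet.preimage_meet hV] at h
    rw [h]
  · exact fun U hU ↦ ⟨_, Groth.Agent.PtSet.isOpen_meet hU, Groth.Agent.PtSet.preimage_meet hU⟩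
  · intro Y _ _ _ f hf
    choose g hg using fun Z : TopologicalSpace.IrreducibleCloseds X ↦
      QuasiSober.sober (Z.isIrreducible.image f hf.continuousOn).closure isClosed_closure
    refine ⟨g, continuous_def.2 fun V hV ↦ ?_, funext fun x ↦ ?_⟩
    · convert Groth.Agent.PtSet.isOpen_meet (hV.preimage hf) using 1
      ext (Z : TopologicalSpace.IrreducibleCloseds X)
      change g Z ∈ V ↔ _
      rw [(hg Z).mem_open_set_iff hV, closure_inter_open_nonempty_iff hV]
      exact ⟨fun ⟨_, ⟨a, ha, rfl⟩, haV⟩ ↦ ⟨a, ha, haV⟩,
        fun ⟨a, ha, haV⟩ ↦ ⟨f a, ⟨a, ha, rfl⟩, haV⟩⟩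
    · refine (hg _).eq ?_
      have h1 := (isGenericPoint_closure (x := x)).image hf
      exact h1

end Groth.Agent.S7582
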