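import Groth.Statements.S7583
import Groth.Agent.Lib.PtSet.Sober

set_option autoImplicit false
universe u
open PtTop

namespace Groth.Agent.S7583

/-- Let X be a topological space and c : X → X′ the canonical map to its soberification (X′ =
irreducible closed subsets of X, with opens the sets of those meeting a given open of X). (1)
Quasi-compactness of X passes to X′. (2) When X is quasi-compact, its quasi-compact opens form a
basis, and any two quasi-compact opens meet in a quasi-compact set, the soberification X′ is a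
spectral space. (3) When X is Noetherian, X′ is both spectral and Noetherian. -/
theorem result (X : Type u) [TopologicalSpace X] :
    (CompactSpace X → CompactSpace (PtTop.Sob X)) ∧
    (CompactSpace X → PrespectralSpace X → QuasiSeparatedSpace X → SpectralSpace (PtTop.Sob X)) ∧
    (TopologicalSpace.NoetherianSpace X →
      TopologicalSpace.NoetherianSpace (PtTop.Sob X) ∧ SpectralSpace (PtTop.Sob X)) := by
  have hcomp : CompactSpace X → CompactSpace (PtTop.Sob X) := fun _ ↦ ⟨by
    rw [← Groth.Agent.PtSet.meet_univ]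
    exact Groth.Agent.PtSet.isCompact_meet isOpen_univ isCompact_univ⟩
  have hsp : CompactSpace X → PrespectralSpace X → QuasiSeparatedSpace X →
      SpectralSpace (PtTop.Sob X) := by
    intro _ _ _
    haveI := hcomp inferInstance
    haveI : PrespectralSpace (PtTop.Sob X) := by
      refine ⟨TopologicalSpace.isTopologicalBasis_of_isOpen_of_nhds (fun U hU ↦ hU.1) ?_⟩
      intro (Z : TopologicalSpace.IrreducibleCloseds X) S hZ hS
      obtain ⟨U, hU, rfl⟩ := Groth.Agent.PtSet.exists_meet_eq hS
      obtain ⟨a, haZ, haU⟩ := hZ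
      obtain ⟨K, ⟨hKo, hKc⟩, haK, hKU⟩ :=
        PrespectralSpace.isTopologicalBasis.exists_subset_of_mem_open haU hU
      exact ⟨Groth.Agent.PtSet.meet K, ⟨Groth.Agent.PtSet.isOpen_meet hKo,
        Groth.Agent.PtSet.isCompact_meet hKo hKc⟩, ⟨a, haZ, haK⟩,
        fun W hW ↦ hW.mono (Set.inter_subset_inter_right _ hKU)⟩
    haveI : QuasiSeparatedSpace (PtTop.Sob X) := by
      refine ⟨fun S T hS hSc hT hTc ↦ ?_⟩
      obtain ⟨U, hU, rfl⟩ := Groth.Agent.PtSet.exists_meet_eq hS
      obtain ⟨V, hV, rfl⟩ := Groth.Agent.PtSet.exists_meet_eq hT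
      rw [← Groth.Agent.PtSet.meet_inter hU hV]
      exact Groth.Agent.PtSet.isCompact_meet (hU.inter hV) (QuasiSeparatedSpace.inter_isCompact _ _
        hU (Groth.Agent.PtSet.isCompact_of_isCompact_meet hU hSc) hV
        (Groth.Agent.PtSet.isCompact_of_isCompact_meet hV hTc))
    exact SpectralSpace.mk
  refine ⟨hcomp, hsp, fun hN ↦ ⟨?_, ?_⟩⟩
  · refine (TopologicalSpace.noetherianSpace_iff_opens _).2 fun S ↦ ?_
    obtain ⟨U, hU, hUS⟩ := Groth.Agent.PtSet.exists_meet_eq S.2
    rw [show (S : Set (PtTop.Sob X)) = _ from hUS]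
    exact Groth.Agent.PtSet.isCompact_meet hU (TopologicalSpace.NoetherianSpace.isCompact U)
  · exact hsp inferInstance inferInstance
      ⟨fun U V _ _ _ _ ↦ TopologicalSpace.NoetherianSpace.isCompact _⟩

end Groth.Agent.S7583
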