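import Groth.Statements.S7584


set_option autoImplicit false
universe u
open PtTop

namespace Groth.Agent.S7584

/-- Let X be a quasi-compact topological space in which each connected component equals the intersection
of all clopen sets that contain it. Then π₀(X), the set of connected components with the quotient
topology, is Hausdorff. The published statement concludes that π₀(X) is profinite; this row records
the Hausdorff property, quasi-compactness and total disconnectedness of the quotient being
automatic. -/
theorem result (X : Type u) [TopologicalSpace X] [CompactSpace X]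
    (h : ∀ x : X, connectedComponent x = ⋂₀ {Z : Set X | IsClopen Z ∧ x ∈ Z}) :
    T2Space (ConnectedComponents X) := by
  refine ⟨fun a b hab ↦ ?_⟩
  obtain ⟨x, rfl⟩ := ConnectedComponents.surjective_coe a
  obtain ⟨y, rfl⟩ := ConnectedComponents.surjective_coe b
  have hy : y ∉ connectedComponent x :=
    fun hy ↦ hab (ConnectedComponents.coe_eq_coe.2 (connectedComponent_eq hy))
  rw [h x] at hy
  simp only [Set.mem_sInter, Set.mem_ofPred_eq, not_forall] at hy
  obtain ⟨Z, ⟨hZ, hxZ⟩, hyZ⟩ := hy
  have hp : ConnectedComponents.mk ⁻¹' (ConnectedComponents.mk '' Z) = Z := by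
    rw [connectedComponents_preimage_image]
    exact hZ.biUnion_connectedComponent_eq
  have hq : Topology.IsQuotientMap (ConnectedComponents.mk : X → ConnectedComponents X) :=
    ConnectedComponents.isQuotientMap_coe
  refine ⟨ConnectedComponents.mk '' Z, (ConnectedComponents.mk '' Z)ᶜ, ?_, ?_, ⟨x, hxZ, rfl⟩,
    fun hy' ↦ hyZ (hp ▸ hy' : y ∈ Z), disjoint_compl_right⟩
  · exact hq.isOpen_preimage.1 (by rw [hp]; exact hZ.2)
  · exact hq.isOpen_preimage.1 (by rw [Set.preimage_compl, hp]; exact hZ.1.isOpen_compl)

end Groth.Agent.S7584
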