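import Groth.Statements.S7587
import Groth.Agent.Lib.ShBH28.Basic

set_option autoImplicit false
universe u
open ShSp

namespace Groth.Agent.S7587

/-- Let X be a topological space, ℬ a basis for its topology, U ∈ ℬ and F a sheaf of sets on ℬ. Sending
a section over U to its germs at the points of U, a map from F(U) into the product of the stalks F_x
over x ∈ U, puts F(U) in bijection with those germ families (s_x)_{x ∈ U} that satisfy (*): each x ∈
U lies in some V ∈ ℬ contained in U carrying a section σ ∈ F(V) whose germ at every y ∈ V equals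
s_y. That is, the map is injective and its image is exactly the set of such families. -/
theorem result {X : Type u} [TopologicalSpace X] {B : Set (TopologicalSpace.Opens X)}
    (hB : TopologicalSpace.Opens.IsBasis B) (F : ShB.Pre B) (hF : ShB.IsSheaf F) (U : B) :
    Function.Injective (fun (s : F.obj U) (x : (U : TopologicalSpace.Opens X)) => ShB.germ F x.1 x.2 s) ∧
    ∀ f : ∀ x : (U : TopologicalSpace.Opens X), ShB.Stalk F x.1,
      (∃ s : F.obj U, ∀ x, ShB.germ F x.1 x.2 s = f x) ↔
      ∀ x : (U : TopologicalSpace.Opens X), ∃ (V : B) (hxV : x.1 ∈ (V : TopologicalSpace.Opens X))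
        (hVU : (V : TopologicalSpace.Opens X) ≤ (U : TopologicalSpace.Opens X)) (σ : F.obj V),
        ∀ (y : X) (hy : y ∈ (V : TopologicalSpace.Opens X)), ShB.germ F y hy σ = f ⟨y, hVU hy⟩ := by
  have hsep := Groth.Agent.ShBH28.separated_of_isSheaf hB hF
  refine ⟨fun s t h => Groth.Agent.ShBH28.eq_of_germ hB hsep U s t fun x hx => congrFun h ⟨x, hx⟩, fun f => ⟨?_, ?_⟩⟩
  · rintro ⟨s, hs⟩ x
    exact ⟨U, x.2, le_rfl, s, fun y hy => hs ⟨y, hy⟩⟩
  · intro h
    choose V hxV hVU σ hσ using h
    let c : ShB.Cover B :=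
      { U := U
        ι := (U : TopologicalSpace.Opens X)
        V := V
        V_le := hVU
        V_cover := fun x hx => TopologicalSpace.Opens.mem_iSup.2 ⟨⟨x, hx⟩, hxV ⟨x, hx⟩⟩
        κ := fun i j => {M : B // (M : TopologicalSpace.Opens X) ≤ (V i : TopologicalSpace.Opens X) ⊓ (V j : TopologicalSpace.Opens X)}
        W := fun _ _ M => M.1
        W_le_left := fun _ _ M => M.2.trans inf_le_left
        W_le_right := fun _ _ M => M.2.trans inf_le_right
        W_cover := fun i j x hx => by
          obtain ⟨M, hxM, hM⟩ := Groth.Agent.ShBH28.exists_member hB hx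
          exact TopologicalSpace.Opens.mem_iSup.2 ⟨⟨M, hM⟩, hxM⟩ }
    obtain ⟨t, ht, -⟩ := hF c σ fun i j k => Groth.Agent.ShBH28.eq_of_germ hB hsep _ _ _ fun z hz => by
      rw [Groth.Agent.ShBH28.germ_res hB, Groth.Agent.ShBH28.germ_res hB, hσ, hσ]
    refine ⟨t, fun x => ?_⟩
    rw [← hσ x x.1 (hxV x), ← ht x, Groth.Agent.ShBH28.germ_res hB]

end Groth.Agent.S7587
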