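import Groth.Statements.S7588
import Groth.Agent.Lib.ShBH28.Basic

set_option autoImplicit false
universe u
open CategoryTheory
open ShSp

namespace Groth.Agent.S7588

/-- Let X be a topological space, ℬ a basis for its topology and F a sheaf of sets on ℬ. There is a
sheaf of sets F^ext on X together with an isomorphism of presheaves on ℬ between the restriction of
F^ext to ℬ and F; and it is unique: given two sheaves G, G′ on X with such isomorphisms e, e′, there
is a unique isomorphism G ≅ G′ whose restriction to the members of ℬ is compatible with e and e′. -/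
theorem result {X : Type u} [TopologicalSpace X] {B : Set (TopologicalSpace.Opens X)}
    (hB : TopologicalSpace.Opens.IsBasis B) (F : ShB.Pre B) (hF : ShB.IsSheaf F) :
    (∃ G : TopCat.Sheaf (Type u) (TopCat.of X), Nonempty (ShB.Iso (ShB.restrict B G.presheaf) F)) ∧
    ∀ (G G' : TopCat.Sheaf (Type u) (TopCat.of X)) (e : ShB.Iso (ShB.restrict B G.presheaf) F)
      (e' : ShB.Iso (ShB.restrict B G'.presheaf) F),
      ∃! φ : G ⟶ G', IsIso φ ∧ ∀ (U : B) (s : G.presheaf.obj (Opposite.op (U : TopologicalSpace.Opens X))),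
        e'.hom.app U (φ.1.app (Opposite.op (U : TopologicalSpace.Opens X)) s) = e.hom.app U s := by
  refine ⟨⟨⟨Groth.Agent.ShBH28.extPre F, Groth.Agent.ShBH28.extPre_isSheaf hB hF⟩, ⟨Groth.Agent.ShBH28.extIso F⟩⟩,
    fun G G' e e' => ?_⟩
  have hr : TopologicalSpace.Opens.IsBasis (Set.range ((↑) : B → TopologicalSpace.Opens X)) := by
    rwa [Subtype.range_coe]
  let α : ∀ (G G' : TopCat.Sheaf (Type u) (TopCat.of X)) (e : ShB.Iso (ShB.restrict B G.presheaf) F)
      (e' : ShB.Iso (ShB.restrict B G'.presheaf) F),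
      (inducedFunctor ((↑) : B → TopologicalSpace.Opens X)).op ⋙ G.presheaf ⟶
        (inducedFunctor ((↑) : B → TopologicalSpace.Opens X)).op ⋙ G'.1 := fun G G' e e' =>
    { app := fun U => ↾fun s => e'.inv.app U.unop (e.hom.app U.unop s)
      naturality := fun U V g => by
        ext s
        have h1 := e.hom.natural (U := U.unop) (V := V.unop) g.unop.hom.le s
        have h2 := e'.inv.natural (U := U.unop) (V := V.unop) g.unop.hom.le (e.hom.app U.unop s)
        rw [h1] at h2
        exact h2.symm }
  let Φ := fun G G' e e' => TopCat.Sheaf.restrictHomEquivHom G.presheaf G' hr (α G G' e e')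
  have happ : ∀ G G' e e' (U : B) s, (Φ G G' e e').app (Opposite.op (U : TopologicalSpace.Opens X)) s =
      e'.inv.app U (e.hom.app U s) := fun G G' e e' U s => by
    rw [show (Φ G G' e e').app (Opposite.op (U : TopologicalSpace.Opens X)) = (α G G' e e').app (Opposite.op U) from
      TopCat.Sheaf.extend_hom_app G.presheaf G' hr _ U]
    rfl
  have hid : ∀ G G' e e', Φ G G' e e' ≫ Φ G' G e' e = 𝟙 G.presheaf := fun G G' e e' =>
    TopCat.Sheaf.hom_ext G.presheaf G hr fun U => by
      ext s
      show (Φ G' G e' e).app _ ((Φ G G' e e').app _ s) = s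
      rw [happ, happ, e'.inv_hom]
      exact e.hom_inv U s
  refine ⟨⟨Φ G G' e e'⟩, ⟨⟨⟨Φ G' G e' e⟩, ?_, ?_⟩, fun U s => ?_⟩, ?_⟩
  · exact CategoryTheory.Sheaf.hom_ext (hid G G' e e')
  · exact CategoryTheory.Sheaf.hom_ext (hid G' G e' e)
  · rw [happ, e'.inv_hom]
  · rintro φ ⟨-, hφ⟩
    refine CategoryTheory.Sheaf.hom_ext (TopCat.Sheaf.hom_ext G.presheaf G' hr fun U => ?_)
    ext s
    refine Eq.trans ?_ (happ G G' e e' U s).symm
    show φ.hom.app (Opposite.op (U : TopologicalSpace.Opens X)) s = _
    rw [← hφ U s]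
    exact (e'.hom_inv _ _).symm

end Groth.Agent.S7588
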