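import Groth.Statements.S7589
import Groth.Agent.Lib.DimF18.Prod

set_option autoImplicit false
universe u
open CategoryTheory CategoryTheory.Limits AlgebraicGeometry
attribute [local instance] Curv2.stalkAlgebra Curv2.resAlgebra
open Variety

namespace Groth.Agent.S7589

/-- Let X be locally of finite type over a field k, K an extension field of k, y a point of the base
change X_K and x its image in X; write a = trdeg_k κ(x) and a' = trdeg_K κ(y). Then dim O_{X_K, y} +
a' = dim O_{X, x} + a, and the fibre ring O_{X_K, y} / m_x O_{X_K, y} has Krull dimension a - a' (in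
particular a' ≤ a); dimensions in WithBot ℕ∞. -/
theorem result (k : Type u) [Field k] (X : Scheme.{u}) [X.Over (Spec (CommRingCat.of k))] [LocallyOfFiniteType (X ↘ (Spec (CommRingCat.of k)))]
    (K : Type u) [Field K] [Algebra k K] (y : ↥(Curv2.bc k X K)) (a a' : ℕ)
    (ha : Algebra.trdeg k (X.residueField (Curv2.bcFst k X K y)) = a)
    (ha' : letI : (Curv2.bc k X K).Over (Spec (CommRingCat.of K)) := ⟨Curv2.bcSnd k X K⟩
      Algebra.trdeg K ((Curv2.bc k X K).residueField y) = a') :
    ringKrullDim ((Curv2.bc k X K).presheaf.stalk y) + (a' : WithBot ℕ∞) =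
        ringKrullDim (X.presheaf.stalk (Curv2.bcFst k X K y)) + (a : WithBot ℕ∞) ∧
      ringKrullDim (↥((Curv2.bc k X K).presheaf.stalk y) ⧸ Ideal.map ((Curv2.bcFst k X K).stalkMap y).hom (IsLocalRing.maximalIdeal ↥(X.presheaf.stalk (Curv2.bcFst k X K y)))) + (a' : WithBot ℕ∞) =
        (a : WithBot ℕ∞) := by
  classical
  set f := X ↘ Spec (CommRingCat.of k)
  set φ := CommRingCat.ofHom (algebraMap k K)
  let pr : Curv2.bc k X K ⟶ X := Curv2.bcFst k X K
  let q : Curv2.bc k X K ⟶ Spec (CommRingCat.of K) := Curv2.bcSnd k X K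
  have sq : IsPullback pr q f (Spec.map φ) := IsPullback.of_hasPullback f (Spec.map φ)
  haveI : LocallyOfFiniteType q := MorphismProperty.of_isPullback sq inferInstance
  haveI : Flat pr := MorphismProperty.of_isPullback sq.flip inferInstance
  haveI : IsLocallyNoetherian X := LocallyOfFiniteType.isLocallyNoetherian f
  haveI : IsLocallyNoetherian (Curv2.bc k X K) := LocallyOfFiniteType.isLocallyNoetherian q
  set x := pr y
  have hxa : VarDim.sdim f x = a := by exact_mod_cast ((VarDim.trdeg_residueField f x).symm.trans ha)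
  have hya : VarDim.sdim q y = a' := by exact_mod_cast ((VarDim.trdeg_residueField q y).symm.trans ha')
  obtain ⟨bx, hbx⟩ := ENat.ne_top_iff_exists.1 (DimF18.coheight_ne_top x)
  obtain ⟨b', hby⟩ := ENat.ne_top_iff_exists.1 (DimF18.coheight_ne_top y)
  refine ⟨?_, ?_⟩
  · obtain ⟨ζ, hζy, -, hζ, hζall⟩ := DimF18.exists_localDim_eq_sdim q y
    obtain ⟨ξ, hξx, -, hξ, hξall⟩ := DimF18.exists_localDim_eq_sdim f x
    rw [DimF18.localDim_eq q hby.symm, hya] at hζ
    rw [DimF18.localDim_eq f hbx.symm, hxa] at hξ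
    have e : VarDim.sdim q ζ = VarDim.sdim f ξ := by
      refine le_antisymm ((DimF18.sdim_bc sq ζ).1.trans (hξall _ (hζy.map pr.continuous))) ?_
      obtain ⟨w, hwy, hwξ⟩ := DimF18.exists_lift_specializes pr hξx
      obtain ⟨m, hmw, -, hm⟩ := DimF18.exists_sdim_eq sq w
      rw [← hwξ, ← hm]
      exact hζall m (hmw.trans hwy)
    rw [ringKrullDim_stalk_eq_coheight, ringKrullDim_stalk_eq_coheight]
    show ((Order.coheight y : ℕ∞) : WithBot ℕ∞) + _ = ((Order.coheight x : ℕ∞) : WithBot ℕ∞) + _
    rw [← hby, ← hbx]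
    have e' : a' + b' = a + bx := by
      have h := hζ.trans ((congrArg Nat.cast e).trans hξ.symm)
      exact_mod_cast h
    exact_mod_cast (show b' + a' = bx + a by omega)
  · let Ix := Scheme.IdealSheafData.vanishingIdeal (⟨closure {x}, isClosed_closure⟩ : TopologicalSpace.Closeds X)
    let i := Ix.subschemeι
    have hrange : Set.range i = closure {x} := by
      rw [Scheme.IdealSheafData.range_subschemeι, Scheme.IdealSheafData.coe_support_vanishingIdeal]
      simp
    let pr' := pullback.fst (i ≫ f) (Spec.map φ)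
    let q' := pullback.snd (i ≫ f) (Spec.map φ)
    have sq' : IsPullback pr' q' (i ≫ f) (Spec.map φ) := IsPullback.of_hasPullback _ _
    haveI : LocallyOfFiniteType q' := MorphismProperty.of_isPullback sq' inferInstance
    let j : pullback (i ≫ f) (Spec.map φ) ⟶ Curv2.bc k X K :=
      pullback.map (i ≫ f) (Spec.map φ) f (Spec.map φ) i (𝟙 _) (𝟙 _) (Category.comp_id _) (by simp)
    have hj1 : j ≫ pr = pr' ≫ i := pullback.lift_fst _ _ _
    have hj2 : j ≫ q = q' := (pullback.lift_snd _ _ _).trans (Category.comp_id _)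
    have hsqj : IsPullback j pr' pr i := by
      refine IsPullback.of_right ?_ hj1 sq.flip
      rw [hj2]
      exact sq'.flip
    haveI : IsClosedImmersion j := MorphismProperty.of_isPullback hsqj.flip inferInstance
    have e1 : ∀ w, pr (j w) = i (pr' w) := fun w => by rw [← Scheme.Hom.comp_apply, hj1, Scheme.Hom.comp_apply]
    have hrj : Set.range j = pr ⁻¹' closure {x} := by
      rw [← hrange, ← hsqj.isoPullback_hom_fst, Scheme.Hom.comp_base, TopCat.coe_comp, Set.range_comp,
        Set.range_eq_univ.2 hsqj.isoPullback.hom.surjective, Set.image_univ]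
      exact Scheme.Pullback.range_fst pr i
    obtain ⟨y', hy'⟩ : y ∈ Set.range j := hrj ▸ (subset_closure rfl : x ∈ closure ({x} : Set X))
    haveI : IsLocallyNoetherian (pullback (i ≫ f) (Spec.map φ)) := LocallyOfFiniteType.isLocallyNoetherian q'
    have hfib : ∀ w, w ⤳ y' → i (pr' w) = x := fun w hw => by
      have h1 : i (pr' w) ⤳ x := by
        have := (hw.map j.continuous).map pr.continuous
        rw [e1, hy'] at this
        exact this
      exact (h1.antisymm (specializes_iff_mem_closure.2 (hrange ▸ ⟨_, rfl⟩))).eq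
    have hy'a : VarDim.sdim q' y' = a' := by
      rw [← hya, ← hy', ← hj2, VarDim.sdim_comp_of_surjective q j y']
    have hx'a : ∀ w, w ⤳ y' → VarDim.sdim (i ≫ f) (pr' w) = a := fun w hw => by
      rw [VarDim.sdim_comp_of_surjective f i, hfib w hw, hxa]
    obtain ⟨b, hb⟩ := ENat.ne_top_iff_exists.1 (DimF18.coheight_ne_top y')
    obtain ⟨ζ, hζy, -, hζ, hζall⟩ := DimF18.exists_localDim_eq_sdim q' y'
    rw [DimF18.localDim_eq q' hb.symm, hy'a] at hζ
    have e' : a' + b = a := by
      have h : VarDim.sdim q' ζ = a := by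
        refine le_antisymm (hx'a ζ hζy ▸ (DimF18.sdim_bc sq' ζ).1) ?_
        obtain ⟨m, hm, -, hdim⟩ := DimF18.exists_sdim_eq sq' y'
        rw [hx'a y' specializes_rfl] at hdim
        exact hdim ▸ hζall m hm
      rw [← h]
      exact_mod_cast hζ
    rw [ringKrullDim_quotient]
    let σ := (Curv2.bc k X K).fromSpecStalk y
    have hσ : ∀ u : PrimeSpectrum ((Curv2.bc k X K).presheaf.stalk y), σ u ⤳ y := fun u => by
      have : σ u ∈ Set.range σ := ⟨u, rfl⟩
      rwa [Scheme.range_fromSpecStalk] at this
    have hprσ : ∀ u : PrimeSpectrum ((Curv2.bc k X K).presheaf.stalk y),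
        pr (σ u) = X.fromSpecStalk x (PrimeSpectrum.comap (pr.stalkMap y).hom u) := fun u => by
      have h := congrArg (fun g : _ ⟶ X => g u) (Scheme.SpecMap_stalkMap_fromSpecStalk pr (x := y))
      exact h.symm
    have hmem : ∀ u : PrimeSpectrum ((Curv2.bc k X K).presheaf.stalk y),
        u ∈ PrimeSpectrum.zeroLocus (Ideal.map (pr.stalkMap y).hom
          (IsLocalRing.maximalIdeal (X.presheaf.stalk x)) : Set _) ↔ pr (σ u) = x := by
      intro u
      rw [PrimeSpectrum.mem_zeroLocus, SetLike.coe_subset_coe, Ideal.map_le_iff_le_comap, hprσ]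
      constructor
      · intro h
        have : PrimeSpectrum.comap (pr.stalkMap y).hom u = IsLocalRing.closedPoint (X.presheaf.stalk x) :=
          PrimeSpectrum.ext ((IsLocalRing.maximalIdeal.isMaximal _).eq_of_le (Ideal.IsPrime.ne_top') h).symm
        rw [this, Scheme.fromSpecStalk_closedPoint]
      · intro h
        have := (X.fromSpecStalk x).isEmbedding.injective (h.trans Scheme.fromSpecStalk_closedPoint.symm)
        exact (congrArg PrimeSpectrum.asIdeal this).ge
    have hpre : ∀ u : PrimeSpectrum.zeroLocus (Ideal.map (pr.stalkMap y).hom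
          (IsLocalRing.maximalIdeal (X.presheaf.stalk x)) : Set ((Curv2.bc k X K).presheaf.stalk y)),
        ∃ w, j w = σ u.1 := fun u => by
      have : σ u.1 ∈ Set.range j := by
        rw [hrj, Set.mem_preimage, (hmem _).1 u.2]
        exact subset_closure rfl
      exact this
    choose Ψ hΨ using hpre
    have hΨy : ∀ u, Ψ u ⤳ y' := fun u => by
      rw [← j.isClosedEmbedding.isInducing.specializes_iff, hΨ, hy']
      exact hσ u.1
    let F : PrimeSpectrum.zeroLocus (Ideal.map (pr.stalkMap y).hom
          (IsLocalRing.maximalIdeal (X.presheaf.stalk x)) : Set ((Curv2.bc k X K).presheaf.stalk y)) →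
        (Set.Ici y' : Set _)ᵒᵈ := fun u => OrderDual.toDual ⟨Ψ u, hΨy u⟩
    have hF : Function.Bijective F := by
      refine ⟨fun u v h => Subtype.ext (σ.isEmbedding.injective ?_), fun w => ?_⟩
      · rw [← hΨ u, ← hΨ v, show Ψ u = Ψ v from congrArg Subtype.val (congrArg OrderDual.ofDual h)]
      · obtain ⟨w', rfl⟩ : ∃ w' : (Set.Ici y' : Set _), OrderDual.toDual w' = w := ⟨OrderDual.ofDual w, rfl⟩
        obtain ⟨u, hu⟩ : j w'.1 ∈ Set.range σ := by
          rw [Scheme.range_fromSpecStalk]
          exact hy' ▸ (show w'.1 ⤳ y' from w'.2).map j.continuous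
        refine ⟨⟨u, (hmem u).2 ?_⟩, ?_⟩
        · rw [hu, e1]
          exact hfib _ w'.2
        · exact congrArg OrderDual.toDual (Subtype.ext (j.isClosedEmbedding.injective ((hΨ _).trans hu)))
    let e : PrimeSpectrum.zeroLocus (Ideal.map (pr.stalkMap y).hom
          (IsLocalRing.maximalIdeal (X.presheaf.stalk x)) : Set ((Curv2.bc k X K).presheaf.stalk y)) ≃o
        (Set.Ici y' : Set _)ᵒᵈ :=
      { toEquiv := Equiv.ofBijective F hF
        map_rel_iff' := fun {u v} => by
          show Ψ u ⤳ Ψ v ↔ u.1 ≤ v.1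
          rw [← j.isClosedEmbedding.isInducing.specializes_iff, hΨ, hΨ, σ.isEmbedding.isInducing.specializes_iff]
          exact (PrimeSpectrum.le_iff_specializes u.1 v.1).symm }
    rw [Order.krullDim_eq_of_orderIso e, Order.krullDim_orderDual, ← Order.coheight_eq_krullDim_Ici, ← hb]
    exact_mod_cast (show b + a' = a by omega)

end Groth.Agent.S7589
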