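import Groth.Statements.S7590
import Groth.Agent.Lib.GeomIrr18.Comp

set_option autoImplicit false
universe u
open CategoryTheory CategoryTheory.Limits AlgebraicGeometry
open Variety

namespace Groth.Agent.S7590

/-- Let k be a separably closed field, K any extension field of k and X a scheme over k. Then the
projection X_K → X induces a bijection between the sets of connected components. -/
theorem result (k : Type u) [Field k] [IsSepClosed k] (X : Scheme.{u}) [X.Over (Spec (CommRingCat.of k))]
    (K : Type u) [Field K] [Algebra k K] :
    Function.Bijective (Continuous.connectedComponentsMap (Curv2.bcFst k X K).continuous) := by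
  haveI : GeometricallyConnected (Spec.map (CommRingCat.ofHom (algebraMap k K))) :=
    haveI := Groth.Agent.GeomIrr.geometricallyIrreducible_specMap k K
    Groth.Agent.GeomIrr.geometricallyConnected_of_irreducible _
  haveI := Groth.Agent.GeomIrr.universallyOpen_fst (X ↘ (Spec (CommRingCat.of k))) K
  let π := Curv2.bcFst k X K
  haveI : GeometricallyConnected π := MorphismProperty.pullback_fst _ _ ‹GeometricallyConnected (Spec.map (CommRingCat.ofHom (algebraMap k K)))›
  refine ⟨fun a b hab => ?_, fun c => ?_⟩
  · obtain ⟨x, rfl⟩ := ConnectedComponents.surjective_coe a
    obtain ⟨y, rfl⟩ := ConnectedComponents.surjective_coe b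
    have h : connectedComponent (π x) = connectedComponent (π y) := ConnectedComponents.coe_eq_coe.mp hab
    have hc := (π.isConnected_preimage π.isOpenMap (isConnected_connectedComponent (x := π x)) isClosed_connectedComponent)
    refine ConnectedComponents.coe_eq_coe.mpr (connectedComponent_eq ?_)
    exact hc.isPreconnected.subset_connectedComponent (show x ∈ π ⁻¹' connectedComponent (π x) from mem_connectedComponent)
      (show π y ∈ connectedComponent (π x) from h ▸ mem_connectedComponent)
  · obtain ⟨x, rfl⟩ := ConnectedComponents.surjective_coe c
    obtain ⟨z, rfl⟩ := π.surjective x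
    exact ⟨ConnectedComponents.mk z, rfl⟩

end Groth.Agent.S7590
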