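import Groth.Statements.S7592
import Groth.Agent.Lib.BcField18.Galois
import Mathlib.AlgebraicGeometry.Morphisms.Integral
import Mathlib.AlgebraicGeometry.Morphisms.UniversallyOpen

set_option autoImplicit false
universe u
open CategoryTheory CategoryTheory.Limits AlgebraicGeometry
open Variety

namespace Groth.Agent.S7592

/-- Let K be a (possibly infinite) Galois extension of a field k and f : T → X a morphism of schemes
over k. If the base change T_K is connected and X_K is not connected, then X is not connected. -/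
theorem result (k : Type u) [Field k] (K : Type u) [Field K] [Algebra k K] [IsGalois k K]
    (T X : Scheme.{u}) [T.Over (Spec (CommRingCat.of k))] [X.Over (Spec (CommRingCat.of k))]
    (f : T ⟶ X) [f.IsOver (Spec (CommRingCat.of k))]
    [ConnectedSpace ↥(Curv2.bc k T K)] (hX : ¬ ConnectedSpace ↥(Curv2.bc k X K)) :
    ¬ ConnectedSpace ↥X := by
  intro hc
  let π := Curv2.bcFst k X K
  let g := Spec.map (CommRingCat.ofHom (algebraMap k K))
  haveI : IsIntegralHom g := by
    rw [IsIntegralHom.SpecMap_iff]
    exact algebraMap_isIntegral_iff.mpr inferInstance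
  haveI : Subsingleton ↥(Spec (CommRingCat.of k)) := inferInstanceAs (Subsingleton (PrimeSpectrum k))
  haveI : IsIntegralHom π := MorphismProperty.pullback_fst _ _ inferInstance
  haveI : UniversallyOpen π := MorphismProperty.pullback_fst _ _ (inferInstanceAs (UniversallyOpen g))
  let fK : Curv2.bc k T K ⟶ Curv2.bc k X K := pullback.map _ _ _ _ f (𝟙 _) (𝟙 _) (by rw [Category.comp_id, comp_over]) (by simp)
  have hfK : ∀ σ : K ≃ₐ[k] K, Curv2.galAct k T K σ ≫ fK = fK ≫ Curv2.galAct k X K σ := by
    intro σ
    apply pullback.hom_ext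
    · simp only [Category.assoc, fK, Curv2.galAct, pullback.map, pullback.lift_fst, pullback.lift_fst_assoc,
        Category.comp_id]
    · simp only [Category.assoc, fK, Curv2.galAct, pullback.map, pullback.lift_snd, pullback.lift_snd_assoc,
        Category.comp_id]
  obtain ⟨t⟩ := ‹ConnectedSpace ↥(Curv2.bc k T K)›.toNonempty
  have hcl : ∀ U : Set ↥(Curv2.bc k X K), IsClopen U → fK t ∈ U → U = Set.univ := by
    intro U hU htU
    by_contra hne
    have hV : (Uᶜ).Nonempty := Set.nonempty_compl.mpr hne
    have hrange : Set.range fK ⊆ U := (isConnected_range fK.continuous).isPreconnected.subset_isClopen hU ⟨fK t, ⟨t, rfl⟩, htU⟩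
    have hsurj : π '' Uᶜ = Set.univ :=
      IsClopen.eq_univ ⟨π.isClosedMap _ hU.compl.1, π.isOpenMap _ hU.compl.2⟩ (hV.image _)
    obtain ⟨v, hv, hvx⟩ : π (fK t) ∈ π '' Uᶜ := hsurj ▸ Set.mem_univ _
    obtain ⟨σ, hσ⟩ := Groth.Agent.BcField.exists_galAct k X K hvx.symm
    refine hv (hrange ⟨Curv2.galAct k T K σ t, ?_⟩)
    rw [← hσ]
    exact congrArg (fun φ : Curv2.bc k T K ⟶ Curv2.bc k X K => φ t) (hfK σ)
  refine hX ?_
  haveI : Nonempty ↥(Curv2.bc k X K) := ⟨fK t⟩
  haveI : PreconnectedSpace ↥(Curv2.bc k X K) := preconnectedSpace_iff_clopen.mpr fun U hU => by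
    by_cases h : fK t ∈ U
    · exact Or.inr (hcl U hU h)
    · exact Or.inl (Set.compl_univ_iff.mp (hcl Uᶜ hU.compl h))
  exact ConnectedSpace.mk inferInstance

end Groth.Agent.S7592
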