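import Groth.Statements.S7593
import Groth.Agent.Lib.GeomIrr18.Comp

set_option autoImplicit false
universe u
open CategoryTheory CategoryTheory.Limits AlgebraicGeometry
open Variety

namespace Groth.Agent.S7593

/-- Let k̄ be a separable algebraic closure of a field k, X a scheme over k and t a point of X_{k̄} with
image x in X. The connected component of t is mapped onto itself by the action of every
k-automorphism of k̄ if and only if it equals the full inverse image of the connected component T of
x in X and T is geometrically connected over k (the inverse image of T in X_K is connected for every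
extension field K of k). -/
theorem result (k : Type u) [Field k] (X : Scheme.{u}) [X.Over (Spec (CommRingCat.of k))] (t : ↥(Curv2.bc k X (SeparableClosure k))) :
    (∀ σ : SeparableClosure k ≃ₐ[k] SeparableClosure k,
        (Curv2.galAct k X (SeparableClosure k) σ).base '' connectedComponent t = connectedComponent t) ↔
      ((Curv2.bcFst k X (SeparableClosure k)).base ⁻¹' connectedComponent (Curv2.bcFst k X (SeparableClosure k) t) = connectedComponent t ∧
        ∀ (K : Type u) [Field K] [Algebra k K],
          _root_.IsConnected ((Curv2.bcFst k X K).base ⁻¹' connectedComponent (Curv2.bcFst k X (SeparableClosure k) t))) := by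
  let ks := SeparableClosure k
  let π := Curv2.bcFst k X ks
  constructor
  · intro hinv
    have hsub : connectedComponent t ⊆ π ⁻¹' connectedComponent (π t) := Set.image_subset_iff.mp
      ((isConnected_connectedComponent.image π π.continuous.continuousOn).subset_connectedComponent ⟨t, mem_connectedComponent, rfl⟩)
    have hfib : π ⁻¹' {π t} ⊆ connectedComponent t := fun z hz => by
      obtain ⟨σ, rfl⟩ := Groth.Agent.BcField.exists_galAct k X ks (show π t = π z from hz.symm)
      exact (hinv σ).le ⟨t, mem_connectedComponent, rfl⟩
    have hK := fun (K : Type u) [Field K] [Algebra k K] => Groth.Agent.GeomIrr.isConnected_preimage (X ↘ (Spec (CommRingCat.of k)))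
      isPreconnected_connectedComponent isClosed_connectedComponent (mem_connectedComponent (x := π t))
      (connectedComponent t) isPreconnected_connectedComponent hsub hfib K
    refine ⟨?_, fun K _ _ => hK K⟩
    exact Set.Subset.antisymm ((hK ks).isPreconnected.subset_connectedComponent (show π t ∈ connectedComponent (π t) from mem_connectedComponent)) hsub
  · rintro ⟨h, -⟩ σ
    rw [← h]
    haveI := Groth.Agent.BcField.isIso_galAct k X ks σ
    conv_lhs => rw [show π ⁻¹' connectedComponent (π t) = Curv2.galAct k X ks σ ⁻¹' (π ⁻¹' connectedComponent (π t)) from Set.ext fun z => by
      change π z ∈ connectedComponent (π t) ↔ π (Curv2.galAct k X ks σ z) ∈ connectedComponent (π t)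
      rw [Groth.Agent.BcField.bcFst_galAct_apply]]
    exact Set.image_preimage_eq _ (Curv2.galAct k X ks σ).surjective

end Groth.Agent.S7593
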