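import Groth.Statements.S7595
import Groth.Agent.Lib.GeomIrr18.Comp

set_option autoImplicit false
universe u
open CategoryTheory CategoryTheory.Limits AlgebraicGeometry
open Variety

namespace Groth.Agent.S7595

/-- Let X be a scheme over a field k, K an extension field of k and T an irreducible component of X.
Then each point of the inverse image of T in X_K lies on some irreducible component of X_K that is
contained in this inverse image; so the inverse image of T is the union of the irreducible
components of X_K lying inside it. -/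
theorem result (k : Type u) [Field k] (X : Scheme.{u}) [X.Over (Spec (CommRingCat.of k))] (K : Type u) [Field K] [Algebra k K]
    (T : Set ↥X) (hT : T ∈ irreducibleComponents ↥X) :
    (Curv2.bcFst k X K).base ⁻¹' T = ⋃₀ {Z : Set ↥(Curv2.bc k X K) | Z ∈ irreducibleComponents ↥(Curv2.bc k X K) ∧ Z ⊆ (Curv2.bcFst k X K).base ⁻¹' T} := by
  refine Set.Subset.antisymm (fun z hz => ?_) (Set.sUnion_subset fun Z hZ => hZ.2)
  obtain ⟨ξ, hξ, hξT⟩ := Groth.Agent.GeomIrr.exists_generic_component hT
  haveI := Groth.Agent.GeomIrr.flat_bcFst k X K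
  have hs : ξ ⤳ Curv2.bcFst k X K z := specializes_iff_mem_closure.mpr (hξT.ge hz)
  obtain ⟨z', hz', hz'ξ⟩ := Groth.Agent.GeomIrr.exists_specializes (Curv2.bcFst k X K) hs
  obtain ⟨w, hw, hwz⟩ := Groth.Agent.GeomIrr.exists_maximal_specializes z'
  have hwξ : Curv2.bcFst k X K w = ξ := hξ _ (hz'ξ ▸ hwz.map (Curv2.bcFst k X K).continuous)
  refine ⟨closure {w}, ⟨Groth.Agent.GeomIrr.closure_mem_of_isMaximalPt hw, fun v hv => ?_⟩,
    (hwz.trans hz').mem_closure⟩
  exact hξT.le (hwξ ▸ (specializes_iff_mem_closure.mpr hv).map (Curv2.bcFst k X K).continuous |>.mem_closure)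

end Groth.Agent.S7595
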