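import Groth.Statements.S7596
import Groth.Agent.Lib.GeomIrr18.Comp

set_option autoImplicit false
universe u
open CategoryTheory CategoryTheory.Limits AlgebraicGeometry
open Variety

namespace Groth.Agent.S7596

/-- Let X be an irreducible scheme over a field k whose k-rational points (points x at which k → κ(x) is
onto) form a dense subset. Then X is geometrically irreducible over k. -/
theorem result (k : Type u) [Field k] (X : Scheme.{u}) [X.Over (Spec (CommRingCat.of k))] [IrreducibleSpace ↥X]
    (hd : Dense {x : ↥X | Function.Surjective (Curv2.resMap k X x)}) :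
    GeometricallyIrreducible (X ↘ (Spec (CommRingCat.of k))) := by
  let K := SeparableClosure k
  let f := X ↘ Spec (CommRingCat.of k)
  let s := Spec.map (CommRingCat.ofHom (algebraMap k K))
  let π := pullback.fst f s
  have huniq : ∀ z z' : ↥(pullback f s), Function.Surjective (Curv2.resMap k X (π z)) → π z = π z' → z = z' := by
    intro z z' hz hzz'
    obtain ⟨q, -, -, hq, -⟩ := GeomIrr.exists_bcMap f s (X.fromSpecResidueField (π z))
    haveI : IsIso (CommRingCat.ofHom (Curv2.resMap k X (π z))) :=
      (ConcreteCategory.isIso_iff_bijective _).mpr ⟨RingHom.injective _, hz⟩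
    haveI : IsIso (X.fromSpecResidueField (π z) ≫ f) := by
      rw [← GeomIrr.spec_resMap]; infer_instance
    haveI : Subsingleton ↥(pullback (X.fromSpecResidueField (π z) ≫ f) s) :=
      haveI : Subsingleton ↥(Spec (CommRingCat.of K)) := inferInstanceAs (Subsingleton (PrimeSpectrum K))
      (pullback.snd (X.fromSpecResidueField (π z) ≫ f) s).homeomorph.injective.subsingleton
    obtain ⟨a, ha⟩ : z ∈ Set.range q := by rw [hq, Scheme.range_fromSpecResidueField]; rfl
    obtain ⟨b, hb⟩ : z' ∈ Set.range q := by rw [hq, Scheme.range_fromSpecResidueField]; exact hzz'.symm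
    rw [← ha, ← hb, Subsingleton.elim a b]
  haveI := GeomIrr.universallyOpen_fst f K
  haveI := GeomIrr.surjective_fst f K
  obtain ⟨z₀, hz₀⟩ := π.surjective (genericPoint X)
  obtain ⟨η, hη, hηz⟩ := GeomIrr.exists_maximal_specializes z₀
  have hπη : π η = genericPoint X :=
    (((genericPoint_spec X).specializes trivial).antisymm (hz₀ ▸ hηz.map π.continuous)).eq.symm
  have huniv : closure ({η} : Set ↥(pullback f s)) = Set.univ := by
    refine Set.eq_univ_of_forall fun w => ?_
    rw [← closure_closure, mem_closure_iff]
    intro O hO hwO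
    obtain ⟨x, hxO, hx⟩ := hd.exists_mem_open (π.isOpenMap O hO) ⟨π w, w, hwO, rfl⟩ |>.imp fun x h => And.symm h
    obtain ⟨z, hzO, rfl⟩ := hxO
    have hz : π z ∈ π '' closure {η} := by
      rw [show π '' closure {η} = _ from GeomIrr.image_closure k X K η, show Curv2.bcFst k X K η = genericPoint X from hπη,
        (genericPoint_spec X).def]
      trivial
    obtain ⟨z', hz', hzz'⟩ := hz
    exact ⟨z, hzO, (huniq z z' hx hzz'.symm) ▸ hz'⟩
  haveI : IrreducibleSpace ↥(pullback f s) :=
    (irreducibleSpace_def _).mpr (show IsIrreducible (Set.univ : Set ↥(pullback f s)) from huniv ▸ isIrreducible_singleton.closure)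
  exact GeomIrr.geometricallyIrreducible_of_bc f K

end Groth.Agent.S7596
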