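import Groth.Statements.S7597
import Groth.Agent.Lib.GeomIrr18.Comp

set_option autoImplicit false
universe u
open CategoryTheory CategoryTheory.Limits AlgebraicGeometry
open Variety

namespace Groth.Agent.S7597

/-- Let k̄ be a separable algebraic closure of a field k, X a scheme over k and Z an irreducible
component of X_{k̄}. Then Z is mapped onto itself by the action of every k-automorphism of k̄ if and
only if Z is the full inverse image of some irreducible component T of X which is geometrically
irreducible over k (the inverse image of T in X_K is irreducible for every extension field K of k). -/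
theorem result (k : Type u) [Field k] (X : Scheme.{u}) [X.Over (Spec (CommRingCat.of k))]
    (Z : Set ↥(Curv2.bc k X (SeparableClosure k))) (hZ : Z ∈ irreducibleComponents ↥(Curv2.bc k X (SeparableClosure k))) :
    (∀ σ : SeparableClosure k ≃ₐ[k] SeparableClosure k, (Curv2.galAct k X (SeparableClosure k) σ).base '' Z = Z) ↔
      ∃ T ∈ irreducibleComponents ↥X, (Curv2.bcFst k X (SeparableClosure k)).base ⁻¹' T = Z ∧
        ∀ (K : Type u) [Field K] [Algebra k K], IsIrreducible ((Curv2.bcFst k X K).base ⁻¹' T) := by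
  let ks := SeparableClosure k
  let π := Curv2.bcFst k X ks
  obtain ⟨ζ, hζ, rfl⟩ := Groth.Agent.GeomIrr.exists_generic_component hZ
  constructor
  · intro hinv
    have hfib : π ⁻¹' {π ζ} = {ζ} := by
      refine Set.Subset.antisymm (fun z hz => ?_) (Set.singleton_subset_iff.mpr rfl)
      obtain ⟨σ, rfl⟩ := Groth.Agent.BcField.exists_galAct k X ks (show π ζ = π z from hz.symm)
      have h := hinv σ
      rw [Groth.Agent.GeomIrr.galAct_image_closure] at h
      exact (isGenericPoint_closure).eq (h ▸ isGenericPoint_closure)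
    refine ⟨closure {π ζ}, Groth.Agent.GeomIrr.closure_mem_of_isMaximalPt (Groth.Agent.GeomIrr.isMaximalPt_bcFst k X ks hζ), ?_, fun K _ _ => ?_⟩
    · exact (Groth.Agent.GeomIrr.preimage_closure k X ks).trans (congrArg closure hfib)
    · obtain ⟨q, -, -, hq, hqi⟩ := Groth.Agent.GeomIrr.exists_bcMap (X ↘ (Spec (CommRingCat.of k)))
        (Spec.map (CommRingCat.ofHom (algebraMap k ks))) (X.fromSpecResidueField (π ζ))
      haveI := hqi inferInstance
      rw [Scheme.range_fromSpecResidueField, show _ ⁻¹' {π ζ} = _ from hfib] at hq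
      haveI : Subsingleton ↥(pullback (X.fromSpecResidueField (π ζ) ≫ (X ↘ (Spec (CommRingCat.of k)))) (Spec.map (CommRingCat.ofHom (algebraMap k ks)))) :=
        ⟨fun a b => q.isEmbedding.injective ((Set.mem_singleton_iff.mp (hq.le ⟨a, rfl⟩)).trans (Set.mem_singleton_iff.mp (hq.le ⟨b, rfl⟩)).symm)⟩
      haveI : Nonempty ↥(pullback (X.fromSpecResidueField (π ζ) ≫ (X ↘ (Spec (CommRingCat.of k)))) (Spec.map (CommRingCat.ofHom (algebraMap k ks)))) :=
        ⟨(hq.ge (Set.mem_singleton ζ)).choose⟩
      haveI : IrreducibleSpace ↥(pullback (X.fromSpecResidueField (π ζ) ≫ (X ↘ (Spec (CommRingCat.of k)))) (Spec.map (CommRingCat.ofHom (algebraMap k ks)))) :=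
        (irreducibleSpace_def _).mpr ⟨⟨Classical.arbitrary _, trivial⟩, fun O O' _ _ ⟨a, ha⟩ ⟨b, hb⟩ => ⟨a, trivial, ha.2, Subsingleton.elim b a ▸ hb.2⟩⟩
      haveI := Groth.Agent.GeomIrr.geometricallyIrreducible_of_bc (X.fromSpecResidueField (π ζ) ≫ (X ↘ (Spec (CommRingCat.of k)))) ks
      obtain ⟨qK, -, -, hqK, -⟩ := Groth.Agent.GeomIrr.exists_bcMap (X ↘ (Spec (CommRingCat.of k)))
        (Spec.map (CommRingCat.ofHom (algebraMap k K))) (X.fromSpecResidueField (π ζ))
      haveI := GeometricallyIrreducible.geometrically_irreducibleSpace (f := X.fromSpecResidueField (π ζ) ≫ (X ↘ (Spec (CommRingCat.of k))))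
        (Spec.map (CommRingCat.ofHom (algebraMap k K))) _ _ (IsPullback.of_hasPullback _ _)
      rw [Scheme.range_fromSpecResidueField] at hqK
      refine (Groth.Agent.GeomIrr.preimage_closure k X K).symm ▸ IsIrreducible.closure ?_
      rw [← hqK, ← Set.image_univ]
      exact (IrreducibleSpace.isIrreducible_univ _).image qK qK.continuous.continuousOn
  · rintro ⟨T, -, hTZ, -⟩ σ
    rw [← hTZ]
    haveI := Groth.Agent.BcField.isIso_galAct k X ks σ
    conv_lhs => rw [show π ⁻¹' T = Curv2.galAct k X ks σ ⁻¹' (π ⁻¹' T) from Set.ext fun z => by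
      change π z ∈ T ↔ π (Curv2.galAct k X ks σ z) ∈ T
      rw [Groth.Agent.BcField.bcFst_galAct_apply]]
    exact Set.image_preimage_eq _ (Curv2.galAct k X ks σ).surjective

end Groth.Agent.S7597
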