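import Groth.Statements.S7598
import Groth.Agent.Lib.GeomIrr18.Comp

set_option autoImplicit false
universe u
open CategoryTheory CategoryTheory.Limits AlgebraicGeometry
open Variety

namespace Groth.Agent.S7598

/-- Let k̄ be a separable algebraic closure of a field k and X a scheme over k. Two irreducible
components Z', Z'' of X_{k̄} have the same image in X if and only if Z'' is the image of Z' under
the action of some k-automorphism of k̄ on X_{k̄} (the fibres of the map on irreducible components
are the Galois orbits). -/
theorem result (k : Type u) [Field k] (X : Scheme.{u}) [X.Over (Spec (CommRingCat.of k))]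
    (Z' Z'' : Set ↥(Curv2.bc k X (SeparableClosure k))) (hZ' : Z' ∈ irreducibleComponents ↥(Curv2.bc k X (SeparableClosure k)))
    (hZ'' : Z'' ∈ irreducibleComponents ↥(Curv2.bc k X (SeparableClosure k))) :
    (Curv2.bcFst k X (SeparableClosure k)).base '' Z' = (Curv2.bcFst k X (SeparableClosure k)).base '' Z'' ↔
      ∃ σ : SeparableClosure k ≃ₐ[k] SeparableClosure k, (Curv2.galAct k X (SeparableClosure k) σ).base '' Z' = Z'' := by
  obtain ⟨z', hz', rfl⟩ := Groth.Agent.GeomIrr.exists_generic_component hZ'
  obtain ⟨z'', hz'', rfl⟩ := Groth.Agent.GeomIrr.exists_generic_component hZ''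
  constructor
  · intro h
    rw [Groth.Agent.GeomIrr.image_closure, Groth.Agent.GeomIrr.image_closure] at h
    obtain ⟨σ, hσ⟩ := Groth.Agent.BcField.exists_galAct k X (SeparableClosure k)
      ((isGenericPoint_closure).eq (h ▸ isGenericPoint_closure) : Curv2.bcFst k X (SeparableClosure k) z' = Curv2.bcFst k X (SeparableClosure k) z'')
    exact ⟨σ, by rw [Groth.Agent.GeomIrr.galAct_image_closure, hσ]⟩
  · rintro ⟨σ, hσ⟩
    rw [← hσ, Set.image_image]
    exact Set.image_congr fun z _ => (Groth.Agent.BcField.bcFst_galAct_apply k X (SeparableClosure k) σ z).symm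

end Groth.Agent.S7598
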