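import Groth.Statements.S7602
import Groth.Agent.Lib.GeomRed18.Scheme
import Groth.Agent.Lib.GeomRed18.Alg
import Groth.Agent.Lib.Branch14.NormalTensor

set_option autoImplicit false
universe u
open CategoryTheory CategoryTheory.Limits AlgebraicGeometry
open Variety

namespace Groth.Agent.S7602

open AlgebraicGeometry CategoryTheory Limits TensorProduct

set_option backward.isDefEq.respectTransparency.types false
attribute [local instance] GeomRed.secAlgebra

/-- Let X be a normal scheme over a field k and K an extension field of k which is separable over k in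
the sense that Spec K → Spec k is geometrically reduced (K ⊗_k k' reduced for every field k' over
k). Then X_K is a normal scheme. -/
theorem result (k : Type u) [Field k] (X : Scheme.{u}) [X.Over (Spec (CommRingCat.of k))] (hX : Pi1.IsNormalScheme X)
    (K : Type u) [Field K] [Algebra k K] [GeometricallyReduced (Spec.map (CommRingCat.ofHom (algebraMap k K)))] :
    Pi1.IsNormalScheme (Curv2.bc k X K) := by
  haveI : Algebra.IsGeometricallyReduced k K := by
    rw [GeomRed.isGeometricallyReduced_iff]
    have h := (inferInstance : GeometricallyReduced (Spec.map (CommRingCat.ofHom (algebraMap k K)))).geometrically_isReduced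
    have := h (Spec.map (CommRingCat.ofHom (algebraMap k (AlgebraicClosure k)))) _ _
      (IsPullback.of_hasPullback _ _)
    haveI := this
    haveI := isReduced_of_isOpenImmersion (pullbackSpecIso k K (AlgebraicClosure k)).inv
    exact (affine_isReduced_iff (CommRingCat.of (K ⊗[k] AlgebraicClosure k))).1 inferInstance
  intro x'
  obtain ⟨W, hW, hxW, -⟩ := exists_isAffineOpen_mem_and_subset (X := X) (x := Curv2.bcFst k X K x') (U := ⊤) trivial
  have hA : EGA4.IsNormalRing Γ(X, W) := by
    intro p hp
    let y := hW.fromSpec ⟨p, hp⟩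
    have hy : y ∈ W := hW.range_fromSpec.le ⟨_, rfl⟩
    let _ := TopCat.Presheaf.algebra_section_stalk X.presheaf (⟨y, hy⟩ : W)
    haveI : IsLocalization.AtPrime (X.presheaf.stalk y) p := hW.isLocalization_stalk' ⟨p, hp⟩ hy
    let e := (IsLocalization.algEquiv p.primeCompl (X.presheaf.stalk y) (Localization.AtPrime p)).toRingEquiv
    obtain ⟨hd, hi⟩ := hX y
    haveI := hd
    haveI := hi
    haveI : IsDomain (Localization.AtPrime p) := e.symm.injective.isDomain
    exact ⟨inferInstance, IsIntegrallyClosed.of_equiv e⟩
  obtain ⟨ι, hι, -, hr⟩ := GeomRed.exists_chart (k := k) hW K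
  haveI := hι
  have hR : EGA4.IsNormalRing (Γ(X, W) ⊗[k] K) :=
    Branch14.NormalTensor.isNormalRing_of_ringEquiv' (Algebra.TensorProduct.comm k K Γ(X, W)).toRingEquiv
      (Branch14.NormalTensor.isNormalRing_tensor_of_geomReduced Γ(X, W) hA K)
  obtain ⟨q, rfl⟩ : x' ∈ Set.range ι := hr.ge hxW
  haveI : IsLocalization.AtPrime ((Spec.structureSheaf (Γ(X, W) ⊗[k] K)).presheaf.stalk q) q.asIdeal :=
    StructureSheaf.IsLocalization.to_stalk (Γ(X, W) ⊗[k] K) q
  let e0 : Localization.AtPrime q.asIdeal ≃+* (Spec (CommRingCat.of (Γ(X, W) ⊗[k] K))).presheaf.stalk q :=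
    (IsLocalization.algEquiv q.asIdeal.primeCompl (Localization.AtPrime q.asIdeal)
    ((Spec.structureSheaf (Γ(X, W) ⊗[k] K)).presheaf.stalk q)).toRingEquiv
  let e := e0.trans (asIso (ι.stalkMap q)).commRingCatIsoToRingEquiv.symm
  obtain ⟨hd, hi⟩ := hR q.asIdeal
  haveI := hd
  haveI := hi
  haveI : IsDomain ((Curv2.bc k X K).presheaf.stalk (ι q)) := e.symm.injective.isDomain
  exact ⟨inferInstance, IsIntegrallyClosed.of_equiv e⟩

end Groth.Agent.S7602
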