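import Groth.Statements.S7603
import Groth.Agent.Lib.GeomIrr18.Scheme
import Groth.Agent.Lib.WeilExt.Global
import Groth.Agent.Lib.AbRigid.Connected

set_option autoImplicit false
universe u
open CategoryTheory CategoryTheory.Limits AlgebraicGeometry
open Variety

namespace Groth.Agent.S7603

/-- (2) ⇔ (3): let X be a proper scheme over a field k which is geometrically normal (X_K is a normal
scheme for every extension field K of k). Then X is geometrically connected over k exactly when it
is geometrically irreducible over k. (The published statement lists geometric integrality as a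
further equivalent condition; given geometric normality it is equivalent to geometric irreducibility
by a direct argument, so this row omits it.) -/
theorem result (k : Type u) [Field k] (X : Scheme.{u}) [X.Over (Spec (CommRingCat.of k))] [IsProper (X ↘ (Spec (CommRingCat.of k)))]
    (hX : ∀ (K : Type u) [Field K] [Algebra k K], Pi1.IsNormalScheme (Curv2.bc k X K)) :
    GeometricallyConnected (X ↘ (Spec (CommRingCat.of k))) ↔ GeometricallyIrreducible (X ↘ (Spec (CommRingCat.of k))) := by
  let f := X ↘ Spec (CommRingCat.of k)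
  refine ⟨fun hc => ?_, fun hi => GeomIrr.geometricallyConnected_of_irreducible f⟩
  haveI := hc
  refine ⟨geometrically_iff_of_commRing_of_isClosedUnderIsomorphisms.mpr fun K _ _ => ?_⟩
  haveI : ConnectedSpace ↥(Curv2.bc k X K) := GeometricallyConnected.geometrically_connectedSpace (f := f) _ _ _ (IsPullback.of_hasPullback _ _)
  haveI : LocallyOfFiniteType (pullback.snd f (Spec.map (CommRingCat.ofHom (algebraMap k K)))) :=
    MorphismProperty.pullback_snd _ _ inferInstance
  haveI : IsLocallyNoetherian (Curv2.bc k X K) :=
    LocallyOfFiniteType.isLocallyNoetherian (pullback.snd f (Spec.map (CommRingCat.ofHom (algebraMap k K))))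
  have key : ∀ x : ↥(Curv2.bc k X K), ∃ V : Set ↥(Curv2.bc k X K), IsOpen V ∧ IsIrreducible V ∧ x ∈ V := by
    intro x
    haveI := (hX K x).1
    obtain ⟨V, hxV, hV⟩ := WeilExt.exists_nhd_unique_isMaxPt x
    obtain ⟨η, hη, hηx⟩ := FlatH4.exists_isMaxPt_specializes x
    have hg : η = WeilExt.genOf x := WeilExt.eq_genOf_of_specializes x hη hηx
    refine ⟨V, V.2, ⟨⟨x, hxV⟩, ?_⟩, hxV⟩
    intro u v hu hv hune hvne
    have hmem : ∀ u : Set ↥(Curv2.bc k X K), IsOpen u → ((V : Set _) ∩ u).Nonempty → WeilExt.genOf x ∈ u := by
      rintro u hu ⟨a, haV, hau⟩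
      obtain ⟨ζ, hζ, hζa⟩ := FlatH4.exists_isMaxPt_specializes a
      rw [← hV ζ (hζa.mem_open V.2 haV) hζ]
      exact hζa.mem_open hu hau
    exact ⟨WeilExt.genOf x, hg ▸ hηx.mem_open V.2 hxV, hmem u hu hune, hmem v hv hvne⟩
  choose V hVo hVi hxV using key
  exact AbRigid.irreducibleSpace_of_cover V hVo hVi (Set.eq_univ_of_forall fun x => Set.mem_iUnion.mpr ⟨x, hxV x⟩)

end Groth.Agent.S7603
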