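import Groth.Statements.S7604
import Groth.Agent.Lib.GeomRed18.PtInt

set_option autoImplicit false
universe u
open CategoryTheory CategoryTheory.Limits AlgebraicGeometry
open Variety
attribute [local instance] Curv2.stalkAlgebra

namespace Groth.Agent.S7604

/-- Let X and Y be schemes over a field k with Y reduced, and let x be a point of X at which X is
geometrically reduced. Then each point of X ×_k Y mapping to x has a reduced local ring. -/
theorem result (k : Type u) [Field k] (X : Scheme.{u}) [X.Over (Spec (CommRingCat.of k))] (Y : Scheme.{u}) [Y.Over (Spec (CommRingCat.of k))] [IsReduced Y]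
    (x : ↥X) (hx : Curv2.IsGeomReducedAt k X x) (z : ↥(pullback (X ↘ (Spec (CommRingCat.of k))) (Y ↘ (Spec (CommRingCat.of k)))))
    (hz : pullback.fst (X ↘ (Spec (CommRingCat.of k))) (Y ↘ (Spec (CommRingCat.of k))) z = x) :
    _root_.IsReduced ↥((pullback (X ↘ (Spec (CommRingCat.of k))) (Y ↘ (Spec (CommRingCat.of k)))).presheaf.stalk z) := by
  let sY := Y ↘ Spec (CommRingCat.of k)
  let y := pullback.snd (X ↘ Spec (CommRingCat.of k)) sY z
  obtain ⟨U, hU, hxU, -⟩ := exists_isAffineOpen_mem_and_subset (X := X) (x := x) (U := ⊤) trivial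
  obtain ⟨V, hV, hyV, -⟩ := exists_isAffineOpen_mem_and_subset (X := Y) (x := y) (U := ⊤) trivial
  letI := GeomRed.secAlgebra k X U
  letI := GeomRed.secAlgebra k Y V
  let m := pullback.map (Spec.map (CommRingCat.ofHom (algebraMap k Γ(X, U)))) (Spec.map (CommRingCat.ofHom (algebraMap k Γ(Y, V))))
    (X ↘ Spec (CommRingCat.of k)) sY hU.fromSpec hV.fromSpec (𝟙 _)
    (by rw [Category.comp_id, GeomRed.spec_secMap hU]) (by rw [Category.comp_id, GeomRed.spec_secMap hV])
  let ι := (pullbackSpecIso k Γ(X, U) Γ(Y, V)).inv ≫ m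
  have hfst : ι ≫ pullback.fst (X ↘ Spec (CommRingCat.of k)) sY =
      Spec.map (CommRingCat.ofHom Algebra.TensorProduct.includeLeftRingHom) ≫ hU.fromSpec := by
    rw [Category.assoc, pullback.lift_fst, ← Category.assoc, pullbackSpecIso_inv_fst]
  obtain ⟨q, rfl⟩ : z ∈ Set.range ι := by
    rw [show Set.range ι = Set.range m from (pullbackSpecIso k Γ(X, U) Γ(Y, V)).inv.surjective.range_comp m]
    refine (Scheme.Pullback.range_map _ _ _ _ _ _ _ _ _).ge ⟨?_, ?_⟩
    · rw [Set.mem_preimage, hU.range_fromSpec]; exact hz ▸ hxU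
    · rw [Set.mem_preimage, hV.range_fromSpec]; exact hyV
  rw [GeomRed.isReduced_stalk_congr, GeomRed.isReduced_stalk_spec]
  intro b hb
  haveI := (GeomRed.isGeomReducedAt_iff x).mp hx
  haveI : _root_.IsReduced Γ(Y, V) := inferInstance
  haveI := GeomRed.isReduced_tensor_of_reduced k (X.presheaf.stalk x) Γ(Y, V)
  obtain ⟨s, hs, hsb⟩ := (GeomRed.isReduced_tensor_stalk_iff hU hxU Γ(Y, V)).mp inferInstance b hb
  refine ⟨_, fun hmem => hs ?_, hsb⟩
  have h1 : PrimeSpectrum.comap Algebra.TensorProduct.includeLeftRingHom q = hU.primeIdealOf ⟨x, hxU⟩ :=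
    hU.fromSpec.isOpenEmbedding.injective (((congrArg (fun φ => φ q) hfst).symm.trans hz).trans (hU.fromSpec_primeIdealOf ⟨x, hxU⟩).symm)
  exact h1 ▸ hmem

end Groth.Agent.S7604
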