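import Groth.Statements.S7606
import Groth.Agent.Lib.GeomReg18.Crit

set_option autoImplicit false
universe u
open CategoryTheory CategoryTheory.Limits AlgebraicGeometry
attribute [local instance] Curv2.stalkAlgebra
open Variety

namespace Groth.Agent.S7606

/-- Let X be a locally Noetherian scheme over a field k and x a point of X. These conditions are
equivalent: (1) the scheme X is geometrically regular at x; (2) whenever k'/k is finite and purely
inseparable, the local ring O_{X_{k'}, x'} is regular at each point x' of X_{k'} lying over x; (3)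
the local ring O_{X, x} is geometrically regular over k (k' ⊗_k O_{X, x} is a regular ring for every
finite extension k' of k). Stated as (1) ↔ (2) together with (2) ↔ (3). -/
theorem result (k : Type u) [Field k] (X : Scheme.{u}) [X.Over (Spec (CommRingCat.of k))] [IsLocallyNoetherian X] (x : ↥X) :
    (Curv2.IsGeomRegularAt k X x ↔
      ∀ (k' : Type u) [Field k'] [Algebra k k'] [FiniteDimensional k k'] [IsPurelyInseparable k k'] (x' : ↥(Curv2.bc k X k')),
        Curv2.bcFst k X k' x' = x → IsRegularLocalRing ↥((Curv2.bc k X k').presheaf.stalk x')) ∧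
    ((∀ (k' : Type u) [Field k'] [Algebra k k'] [FiniteDimensional k k'] [IsPurelyInseparable k k'] (x' : ↥(Curv2.bc k X k')),
        Curv2.bcFst k X k' x' = x → IsRegularLocalRing ↥((Curv2.bc k X k').presheaf.stalk x')) ↔
      CAlg.IsGeometricallyRegular k ↥(X.presheaf.stalk x)) := by
  refine ⟨⟨fun h => Groth.Agent.GeomReg18.insep_of_isGeomRegularAt k X x h, fun h => ?_⟩,
    ⟨fun h => Groth.Agent.GeomReg18.isGeometricallyRegular_of_insep k X x h, fun h => ?_⟩⟩
  · exact Groth.Agent.GeomReg18.isGeomRegularAt_of_isGeometricallyRegular k X x
      (Groth.Agent.GeomReg18.isGeometricallyRegular_of_insep k X x h)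
  · exact Groth.Agent.GeomReg18.insep_of_isGeomRegularAt k X x
      (Groth.Agent.GeomReg18.isGeomRegularAt_of_isGeometricallyRegular k X x h)

end Groth.Agent.S7606
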