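import Groth.Statements.S7611
import Groth.Agent.Lib.JacBigH7.Basic
import Groth.Agent.Lib.GeomIrr18.Res

set_option autoImplicit false
universe u
open CategoryTheory CategoryTheory.Limits AlgebraicGeometry
attribute [local instance] Curv2.resAlgebra
open Variety
open scoped TensorProduct

namespace Groth.Agent.S7611

theorem isAlgebraic_residueField {K : Type u} [Field K] {P : Scheme.{u}} [P.Over (Spec (CommRingCat.of K))]
    (R : Type u) [CommRing R] [Algebra K R] (ι : Spec (CommRingCat.of R) ⟶ P) [IsOpenImmersion ι]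
    (hι : ι ≫ (P ↘ Spec (CommRingCat.of K)) = Spec.map (CommRingCat.ofHom (algebraMap K R)))
    (hR : Module.rank K R < Cardinal.mk K) (z : Spec (CommRingCat.of R)) (hz : IsClosed ({ι z} : Set P)) :
    Algebra.IsAlgebraic K (P.residueField (ι z)) := by
  have hzc : IsClosed ({z} : Set (Spec (CommRingCat.of R))) := by
    have := hz.preimage ι.continuous
    rwa [show ι ⁻¹' {ι z} = {z} from ι.isOpenEmbedding.injective.preimage_image {z} ▸ by simp] at this
  haveI : z.asIdeal.IsMaximal := (PrimeSpectrum.isClosed_singleton_iff_isMaximal z).1 hzc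
  let φ0 : CommRingCat.of R ⟶ (Spec (CommRingCat.of R)).residueField z :=
    CommRingCat.ofHom (algebraMap R z.asIdeal.ResidueField) ≫ (Scheme.Spec.residueFieldIso (CommRingCat.of R) z).inv
  have hφ0 : Function.Surjective φ0 :=
    (ConcreteCategory.bijective_of_isIso (Scheme.Spec.residueFieldIso (CommRingCat.of R) z).inv).2.comp
      z.asIdeal.algebraMap_residueField_surjective
  let ψ : CommRingCat.of R ⟶ P.residueField (ι z) := φ0 ≫ inv (ι.residueFieldMap z)
  have hψ : Function.Surjective ψ :=
    (ConcreteCategory.bijective_of_isIso (inv (ι.residueFieldMap z))).2.comp hφ0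
  have key : CommRingCat.ofHom (algebraMap K R) ≫ φ0 =
      CommRingCat.ofHom (Curv2.resMap K P (ι z)) ≫ ι.residueFieldMap z := by
    apply Spec.map_injective
    rw [Spec.map_comp, Spec.map_comp, Spec.map_comp, GeomIrr.spec_resMap K P (ι z),
      Scheme.Hom.SpecMap_residueFieldMap_fromSpecResidueField_assoc, hι]
    exact congrArg (fun q => q ≫ Spec.map (CommRingCat.ofHom (algebraMap K R)))
      (Scheme.Spec.map_residueFieldIso_inv_eq_fromSpecResidueField (CommRingCat.of R) z)
  have key' : CommRingCat.ofHom (algebraMap K R) ≫ ψ = CommRingCat.ofHom (Curv2.resMap K P (ι z)) := by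
    rw [← Category.assoc, key, Category.assoc, IsIso.hom_inv_id, Category.comp_id]
  let ψa : R →ₐ[K] P.residueField (ι z) :=
    { ψ.hom with commutes' := fun c => congrArg (fun q : CommRingCat.of K ⟶ P.residueField (ι z) => q c) key' }
  exact JacBigH7.isAlgebraic_of_rank_lt _
    (lt_of_le_of_lt (LinearMap.rank_le_of_surjective ψa.toLinearMap hψ) hR)

/-- Let X be a scheme over a field k. There is a cardinal κ such that for every extension field K of k
of cardinality at least κ, the base change X_K is a Jacobson scheme and for every closed point x of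
X_K the residue field κ(x) is algebraic over K. -/
theorem result (k : Type u) [Field k] (X : Scheme.{u}) [X.Over (Spec (CommRingCat.of k))] :
    ∃ κ : Cardinal.{u}, ∀ (K : Type u) [Field K] [Algebra k K], κ ≤ Cardinal.mk K →
      JacobsonSpace ↥(Curv2.bc k X K) ∧
        ∀ x : ↥(Curv2.bc k X K), IsClosed ({x} : Set ↥(Curv2.bc k X K)) →
          letI : (Curv2.bc k X K).Over (Spec (CommRingCat.of K)) := ⟨Curv2.bcSnd k X K⟩
          Algebra.IsAlgebraic K ((Curv2.bc k X K).residueField x) := by
  let 𝒰 := X.affineOpenCover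
  let b : Cardinal.{u} := (Cardinal.sum fun x : X => Cardinal.mk (𝒰.X (𝒰.idx x))) + Cardinal.aleph0
  refine ⟨Order.succ b, fun K _ _ hK => ?_⟩
  have hb : b < Cardinal.mk K := (Order.lt_succ b).trans_le hK
  have h0 : Cardinal.aleph0 < Cardinal.mk K := lt_of_le_of_lt le_add_self hb
  letI : (Curv2.bc k X K).Over (Spec (CommRingCat.of K)) := ⟨Curv2.bcSnd k X K⟩
  have main : ∀ x : ↥(Curv2.bc k X K), ∃ (R : Type u) (_ : CommRing R) (_ : Algebra K R)
      (ι : Spec (CommRingCat.of R) ⟶ Curv2.bc k X K), IsOpenImmersion ι ∧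
      ι ≫ Curv2.bcSnd k X K = Spec.map (CommRingCat.ofHom (algebraMap K R)) ∧
      Module.rank K R < Cardinal.mk K ∧ x ∈ Set.range ι := by
    intro x
    let f := X ↘ Spec (CommRingCat.of k)
    let i := 𝒰.idx (Curv2.bcFst k X K x)
    obtain ⟨φ, hφ⟩ : ∃ φ, Spec.map φ = 𝒰.f i ≫ f := ⟨_, Spec.map_preimage _⟩
    letI : Algebra k (𝒰.X i) := φ.hom.toAlgebra
    let g := Spec.map (CommRingCat.ofHom (algebraMap k K))
    haveI : IsOpenImmersion (pullback.map (Spec.map φ) g f g (𝒰.f i) (𝟙 _) (𝟙 _) (by simp [hφ]) (by simp)) :=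
      inferInstance
    let m := pullback.map (Spec.map φ) g f g (𝒰.f i) (𝟙 _) (𝟙 _) (by simp [hφ]) (by simp)
    let e : Spec (CommRingCat.of ((𝒰.X i : Type u) ⊗[k] K)) ⟶ pullback (Spec.map φ) g :=
      (pullbackSpecIso k (𝒰.X i) K).inv
    haveI : IsIso e := inferInstanceAs (IsIso (pullbackSpecIso k (𝒰.X i) K).inv)
    letI : Algebra K ((𝒰.X i : Type u) ⊗[k] K) := Algebra.TensorProduct.rightAlgebra
    have hrk : Module.rank K ((𝒰.X i : Type u) ⊗[k] K) < Cardinal.mk K := by
      let c : K ⊗[k] (𝒰.X i : Type u) ≃ₗ[K] (𝒰.X i : Type u) ⊗[k] K :=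
        { (Algebra.TensorProduct.comm k K (𝒰.X i : Type u)).toLinearEquiv with
          map_smul' := fun a t => by
            induction t using TensorProduct.induction_on with
            | zero => simp
            | tmul y z =>
              show _ = a • (z ⊗ₜ[k] y)
              simp [Algebra.smul_def, RingHom.algebraMap_toAlgebra, TensorProduct.smul_tmul',
                Algebra.TensorProduct.tmul_mul_tmul]
            | add y z hy hz => simp_all [smul_add] }
      rw [← c.rank_eq, Module.rank_baseChange, Cardinal.lift_id]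
      refine lt_of_le_of_lt (rank_le_card k _) (lt_of_le_of_lt ?_ hb)
      exact le_trans (Cardinal.le_sum (fun x : X => Cardinal.mk (𝒰.X (𝒰.idx x))) (Curv2.bcFst k X K x)) le_self_add
    refine ⟨_, inferInstance, inferInstance, e ≫ m, inferInstance, ?_, hrk, ?_⟩
    · rw [Category.assoc, show m ≫ Curv2.bcSnd k X K = pullback.snd (Spec.map φ) g from
        (pullback.lift_snd _ _ _).trans (Category.comp_id _)]
      exact pullbackSpecIso_inv_snd k (𝒰.X i) K
    · rw [Scheme.Hom.comp_base, TopCat.coe_comp, Set.range_comp, Set.range_eq_univ.2 e.surjective, Set.image_univ,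
        show m = pullback.map _ _ _ _ _ _ _ _ _ from rfl, Scheme.Pullback.range_map]
      exact ⟨𝒰.covers (Curv2.bcFst k X K x), by simp⟩
  choose R iR iA ι hopen hsnd hrk hmem using main
  refine ⟨?_, fun x hx => ?_⟩
  · rw [TopologicalSpace.IsOpenCover.jacobsonSpace_iff (U := fun x => (ι x).opensRange)
      (TopologicalSpace.IsOpenCover.mk (eq_top_iff.2 fun x _ => TopologicalSpace.Opens.mem_iSup.2 ⟨x, hmem x⟩))]
    intro x
    haveI := JacBigH7.isJacobsonRing_of_rank_lt (R x) (hrk x) h0
    exact JacobsonSpace.of_isOpenEmbedding (ι x).isOpenEmbedding.isEmbedding.toHomeomorph.symm.isOpenEmbedding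
  · obtain ⟨z, hz⟩ := hmem x
    haveI := hopen x
    rw [← hz] at hx ⊢
    exact isAlgebraic_residueField (K := K) (R x) (ι x) (hsnd x) (hrk x) z hx

end Groth.Agent.S7611
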