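import Groth.Statements.S7612
import Mathlib.AlgebraicGeometry.Morphisms.UniversallyOpen
import Mathlib.AlgebraicGeometry.PullbackCarrier

set_option autoImplicit false
universe u
open CategoryTheory CategoryTheory.Limits AlgebraicGeometry
open Variety

namespace Groth.Agent.S7612

/-- Let X and Y be schemes over a field k and A ⊆ X, B ⊆ Y subsets. Inside X ×_k Y, the closure of the
set of points projecting into A and into B equals the set of points projecting into the closure of A
and into the closure of B. -/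
theorem result (k : Type u) [Field k] (X : Scheme.{u}) [X.Over (Spec (CommRingCat.of k))] (Y : Scheme.{u}) [Y.Over (Spec (CommRingCat.of k))] (A : Set ↥X) (B : Set ↥Y) :
    closure ((pullback.fst (X ↘ (Spec (CommRingCat.of k))) (Y ↘ (Spec (CommRingCat.of k)))).base ⁻¹' A ∩ (pullback.snd (X ↘ (Spec (CommRingCat.of k))) (Y ↘ (Spec (CommRingCat.of k)))).base ⁻¹' B) =
      (pullback.fst (X ↘ (Spec (CommRingCat.of k))) (Y ↘ (Spec (CommRingCat.of k)))).base ⁻¹' closure A ∩ (pullback.snd (X ↘ (Spec (CommRingCat.of k))) (Y ↘ (Spec (CommRingCat.of k)))).base ⁻¹' closure B := by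
  set p := X ↘ (Spec (CommRingCat.of k))
  set q := Y ↘ (Spec (CommRingCat.of k))
  apply subset_antisymm
  · refine closure_minimal (fun z hz => ⟨subset_closure hz.1, subset_closure hz.2⟩) ?_
    exact (isClosed_closure.preimage (pullback.fst p q).continuous).inter
      (isClosed_closure.preimage (pullback.snd p q).continuous)
  · rintro z ⟨hzA, hzB⟩
    rw [mem_closure_iff]
    intro U hU hzU
    let I : Y.IdealSheafData := Scheme.IdealSheafData.vanishingIdeal ⟨closure B, isClosed_closure⟩
    let h₁ : pullback p (I.subschemeι ≫ q) ⟶ pullback p q :=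
      pullback.map p (I.subschemeι ≫ q) p q (𝟙 X) I.subschemeι (𝟙 _) (by simp) (by simp)
    have hr₁ : Set.range h₁ = (pullback.snd p q).base ⁻¹' closure B := by
      rw [Scheme.Pullback.range_map, Scheme.IdealSheafData.range_subschemeι]
      simp [I]
    obtain ⟨z', hz'⟩ : z ∈ Set.range h₁ := by rw [hr₁]; exact hzB
    have hf : IsOpenMap (pullback.fst p (I.subschemeι ≫ q)) := Scheme.Hom.isOpenMap _
    have e₁ : h₁ ≫ pullback.fst p q = pullback.fst p (I.subschemeι ≫ q) := (pullback.lift_fst _ _ _).trans (Category.comp_id _)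
    have hzz : pullback.fst p (I.subschemeι ≫ q) z' = pullback.fst p q z := by
      rw [← e₁, Scheme.Hom.comp_apply, hz']
    obtain ⟨a, ⟨w, hwU, hwa⟩, haA⟩ := (mem_closure_iff.1 hzA) _ (hf _ (hU.preimage h₁.continuous))
      ⟨z', by simp [hz', hzU], hzz⟩
    let g₂ := X.fromSpecResidueField a ≫ p
    let h₂ : pullback g₂ q ⟶ pullback p q :=
      pullback.map g₂ q p q (X.fromSpecResidueField a) (𝟙 Y) (𝟙 _) (by simp [g₂]) (by simp)
    have hr₂ : Set.range h₂ = (pullback.fst p q).base ⁻¹' {a} := by
      rw [Scheme.Pullback.range_map, Scheme.range_fromSpecResidueField]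
      simp
    obtain ⟨v, hv⟩ : h₁ w ∈ Set.range h₂ := by
      rw [hr₂]
      show pullback.fst p q (h₁ w) = a
      rw [← hwa, ← e₁, Scheme.Hom.comp_apply]
    have e₂ : h₂ ≫ pullback.snd p q = pullback.snd g₂ q := (pullback.lift_snd _ _ _).trans (Category.comp_id _)
    have hs : IsOpenMap (pullback.snd g₂ q) := Scheme.Hom.isOpenMap _
    have hvB : pullback.snd g₂ q v ∈ closure B := by
      have e : pullback.snd g₂ q v = pullback.snd p q (h₁ w) := by
        rw [← hv, ← e₂, Scheme.Hom.comp_apply]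
      have hm : h₁ w ∈ Set.range h₁ := ⟨w, rfl⟩
      rw [hr₁] at hm
      exact e ▸ hm
    obtain ⟨b, ⟨v', hv'U, hv'b⟩, hbB⟩ := (mem_closure_iff.1 hvB) _ (hs _ (hU.preimage h₂.continuous))
      ⟨v, by simp [hv]; exact hwU, rfl⟩
    refine ⟨h₂ v', hv'U, ?_, ?_⟩
    · have hm : h₂ v' ∈ Set.range h₂ := ⟨v', rfl⟩
      rw [hr₂] at hm
      show pullback.fst p q (h₂ v') ∈ A
      have hm' : pullback.fst p q (h₂ v') = a := hm
      rwa [hm']
    · show pullback.snd p q (h₂ v') ∈ B
      rw [← Scheme.Hom.comp_apply, e₂, hv'b]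
      exact hbB

end Groth.Agent.S7612
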