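import Groth.Statements.S7615
import Groth.Agent.Lib.GlobFun18.Sch
import Mathlib.AlgebraicGeometry.Geometrically.Irreducible

set_option autoImplicit false
universe u
open CategoryTheory CategoryTheory.Limits AlgebraicGeometry
open Variety

namespace Groth.Agent.S7615

/-- Let X be a proper variety over a field k (integral, separated, of finite type and proper over k) and
K = H^0(X, O_X), a k-algebra via the structure morphism. Then K is a field, finite over k; K/k is
separable when X is geometrically reduced over k, and purely inseparable when X is geometrically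
irreducible over k. -/
theorem result (k : Type u) [Field k] (X : Scheme.{u}) [X.Over (Spec (CommRingCat.of k))] [IsIntegral X] [IsProper (X ↘ (Spec (CommRingCat.of k)))] :
    letI := ((X ↘ (Spec (CommRingCat.of k))).appTop.hom.comp (Scheme.ΓSpecIso (CommRingCat.of k)).inv.hom : k →+* Γ(X, ⊤)).toAlgebra
    IsField ↑Γ(X, ⊤) ∧ Module.Finite k ↑Γ(X, ⊤) ∧
      (GeometricallyReduced (X ↘ (Spec (CommRingCat.of k))) → Algebra.IsSeparable k ↑Γ(X, ⊤)) ∧
      (GeometricallyIrreducible (X ↘ (Spec (CommRingCat.of k))) → IsPurelyInseparable k ↑Γ(X, ⊤)) := by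
  letI := ((X ↘ (Spec (CommRingCat.of k))).appTop.hom.comp (Scheme.ΓSpecIso (CommRingCat.of k)).inv.hom : k →+* Γ(X, ⊤)).toAlgebra
  set f := X ↘ Spec (CommRingCat.of k)
  have hfield : IsField Γ(X, ⊤) := isField_of_universallyClosed k f
  have hfin : Module.Finite k Γ(X, ⊤) := by
    have h1 : f.appTop.hom.Finite := finite_appTop_of_universallyClosed k f
    exact RingHom.Finite.comp h1 (RingHom.Finite.of_surjective _
      (Scheme.ΓSpecIso (CommRingCat.of k)).symm.commRingCatIsoToRingEquiv.surjective)
  refine ⟨hfield, hfin, fun h => ?_, fun h => ?_⟩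
  · haveI := h
    letI := hfield.toField
    haveI := hfin
    haveI := GlobFun18.isGeometricallyReduced_globalSections f rfl
    exact GlobFun18.isSeparable_of_isGeometricallyReduced Γ(X, ⊤)
  · haveI := h
    letI := hfield.toField
    haveI := hfin
    haveI : GeometricallyConnected f := ⟨fun K _ y Z fst snd hpb => by
      haveI : IrreducibleSpace Z := GeometricallyIrreducible.geometrically_irreducibleSpace y fst snd hpb
      infer_instance⟩
    exact GlobFun18.isPurelyInseparable_of_connected Γ(X, ⊤)
      fun K _ _ => GlobFun18.preconnectedSpace_tensor f rfl K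

end Groth.Agent.S7615
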