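import Groth.Statements.S7616
import Groth.Agent.Lib.NormFin18.Apps

set_option autoImplicit false
universe u
open CategoryTheory CategoryTheory.Limits AlgebraicGeometry
open Variety

namespace Groth.Agent.S7616

/-- Let f : Y → X be a quasi-compact morphism of schemes locally of finite type over a field k, with Y
reduced; f is automatically quasi-separated. Then the normalization of X in Y is finite over X. -/
theorem result (k : Type u) [Field k] (X : Scheme.{u}) [X.Over (Spec (CommRingCat.of k))] [LocallyOfFiniteType (X ↘ (Spec (CommRingCat.of k)))]
    (Y : Scheme.{u}) [Y.Over (Spec (CommRingCat.of k))] [LocallyOfFiniteType (Y ↘ (Spec (CommRingCat.of k)))] [IsReduced Y]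
    (f : Y ⟶ X) [f.IsOver (Spec (CommRingCat.of k))] [QuasiCompact f] [QuasiSeparated f] :
    IsFinite f.fromNormalization := by
  haveI : LocallyOfFiniteType (f ≫ (X ↘ Spec (CommRingCat.of k))) := by
    rw [CategoryTheory.comp_over f (Spec (CommRingCat.of k))]; infer_instance
  haveI : LocallyOfFiniteType f := locallyOfFiniteType_of_comp f (X ↘ Spec (CommRingCat.of k))
  exact Groth.Agent.NormFin18.isFinite_of_nagata_of_finiteType f
    (Groth.Agent.NormFin18.isNagata_sections (X ↘ Spec (CommRingCat.of k)))

end Groth.Agent.S7616
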