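import Groth.Statements.S7619
import Mathlib.RingTheory.Unramified.Locus
import Mathlib.RingTheory.LocalRing.Module
import Mathlib.RingTheory.MvPolynomial.Basic

set_option autoImplicit false
universe u
open CategoryTheory CategoryTheory.Limits AlgebraicGeometry
open scoped TensorProduct
open Variety

namespace Groth.Agent.S7619

/-- Let A → B be a finite type ring map (a finite type morphism of affine schemes), q a prime of B and r
= dim_{κ(q)} Ω_{B/A} ⊗_B κ(q). Then there is an A-algebra homomorphism A[x_1, …, x_r] → B for which
B is unramified over A[x_1, …, x_r] at q. -/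
theorem result (A B : Type u) [CommRing A] [CommRing B] [Algebra A B] [Algebra.FiniteType A B]
    (q : Ideal B) [q.IsPrime] (r : ℕ) (hr : Module.finrank q.ResidueField (q.ResidueField ⊗[B] Ω[B⁄A]) = r) :
    ∃ φ : MvPolynomial (Fin r) A →ₐ[A] B,
      letI := φ.toRingHom.toAlgebra
      Algebra.IsUnramifiedAt (MvPolynomial (Fin r) A) q := by
  let V := q.ResidueField ⊗[B] Ω[B⁄A]
  let δ : B → V := fun b => (1 : q.ResidueField) ⊗ₜ[B] KaehlerDifferential.D A B b
  have hspan : Submodule.span q.ResidueField (Set.range δ) = ⊤ := by
    rw [eq_top_iff]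
    rintro v -
    induction v using TensorProduct.induction_on with
    | zero => exact Submodule.zero_mem _
    | add x y hx hy => exact Submodule.add_mem _ hx hy
    | tmul c w =>
      have hw : w ∈ Submodule.span B (Set.range (KaehlerDifferential.D A B)) := by
        rw [KaehlerDifferential.span_range_derivation]; trivial
      induction hw using Submodule.span_induction generalizing c with
      | mem x hx =>
        obtain ⟨b, rfl⟩ := hx
        have e : c • δ b = c ⊗ₜ[B] KaehlerDifferential.D A B b := by
          show c • ((1 : q.ResidueField) ⊗ₜ[B] KaehlerDifferential.D A B b) = _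
          exact (TensorProduct.smul_tmul' c _ _).trans (by rw [smul_eq_mul, mul_one])
        exact e ▸ Submodule.smul_mem _ _ (Submodule.subset_span ⟨b, rfl⟩)
      | zero => simp
      | add x y _ _ hx hy => rw [TensorProduct.tmul_add]; exact Submodule.add_mem _ (hx c) (hy c)
      | smul a x _ hx => rw [← TensorProduct.smul_tmul]; exact hx _
  haveI : Module.Finite q.ResidueField V := inferInstance
  obtain ⟨f, hf, hfs, -⟩ := Submodule.exists_fun_fin_finrank_span_eq q.ResidueField (Set.range δ)
  have hd : Module.finrank q.ResidueField (Submodule.span q.ResidueField (Set.range δ)) = r := by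
    rw [hspan, finrank_top]; exact hr
  choose b hb using hf
  let φ : MvPolynomial (Fin r) A →ₐ[A] B := MvPolynomial.aeval fun i => b (Fin.cast hd.symm i)
  refine ⟨φ, ?_⟩
  letI := φ.toRingHom.toAlgebra
  haveI : IsScalarTower A (MvPolynomial (Fin r) A) B := IsScalarTower.of_algHom φ
  haveI : Algebra.FiniteType (MvPolynomial (Fin r) A) B := Algebra.FiniteType.of_restrictScalars_finiteType A _ _
  suffices h : (⟨q, ‹_›⟩ : PrimeSpectrum B) ∈ Algebra.unramifiedLocus (MvPolynomial (Fin r) A) B from h
  rw [Algebra.unramifiedLocus_eq_compl_support, Set.mem_compl_iff,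
    Module.mem_support_iff_nontrivial_residueField_tensorProduct, not_nontrivial_iff_subsingleton]
  let m : V →ₗ[q.ResidueField] q.ResidueField ⊗[B] Ω[B⁄MvPolynomial (Fin r) A] :=
    TensorProduct.AlgebraTensorModule.lTensor q.ResidueField q.ResidueField
      (KaehlerDifferential.map A (MvPolynomial (Fin r) A) B B)
  have hm : Function.Surjective m :=
    LinearMap.lTensor_surjective _ (KaehlerDifferential.map_surjective A (MvPolynomial (Fin r) A) B)
  have h0 : m = 0 := by
    have hle : Submodule.span q.ResidueField (Set.range f) ≤ LinearMap.ker m := by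
      rw [Submodule.span_le]
      rintro _ ⟨i, rfl⟩
      have hz : KaehlerDifferential.D (MvPolynomial (Fin r) A) B (b i) = 0 := by
        have e : b i = algebraMap (MvPolynomial (Fin r) A) B (MvPolynomial.X (Fin.cast hd i)) := by
          show b i = φ _
          simp [φ]
        rw [e, Derivation.map_algebraMap]
      show m (f i) = 0
      rw [← hb i]
      show (1 : q.ResidueField) ⊗ₜ[B] KaehlerDifferential.map A (MvPolynomial (Fin r) A) B B (KaehlerDifferential.D A B (b i)) = 0
      rw [KaehlerDifferential.map_D, Algebra.algebraMap_self, RingHom.id_apply, hz, TensorProduct.tmul_zero]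
    rw [hfs, hspan] at hle
    exact LinearMap.ker_eq_top.1 (top_le_iff.1 hle)
  refine ⟨fun x y => ?_⟩
  obtain ⟨x, rfl⟩ := hm x
  obtain ⟨y, rfl⟩ := hm y
  simp [h0]

end Groth.Agent.S7619
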