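import Groth.Statements.S7620
import Groth.Agent.Lib.VarDim.Alg
import Mathlib.RingTheory.NoetherNormalization
import Mathlib.RingTheory.KrullDimension.Polynomial
import Mathlib.RingTheory.LocalRing.ResidueField.Ideal

set_option autoImplicit false
universe u
open CategoryTheory CategoryTheory.Limits AlgebraicGeometry
open scoped TensorProduct
open Variety

namespace Groth.Agent.S7620

/-- Let A → B be a finite type ring map (a finite type morphism of affine schemes X → S), p a prime of A
and suppose the fibre ring κ(p) ⊗_A B has Krull dimension d. Then there is an A-algebra homomorphism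
π : A[t_1, …, t_d] → B such that the induced map of fibres κ(p) ⊗_A A[t_1, …, t_d] → κ(p) ⊗_A B is
finite. -/
theorem result (A B : Type u) [CommRing A] [CommRing B] [Algebra A B] [Algebra.FiniteType A B]
    (p : Ideal A) [p.IsPrime] (d : ℕ) (hd : ringKrullDim (p.ResidueField ⊗[A] B) = d) :
    ∃ π : MvPolynomial (Fin d) A →ₐ[A] B,
      (Algebra.TensorProduct.map (AlgHom.id p.ResidueField p.ResidueField) π).toRingHom.Finite := by
  let F := p.ResidueField ⊗[A] B
  haveI : Nontrivial F := by
    by_contra h
    rw [not_nontrivial_iff_subsingleton] at h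
    simp [F, ringKrullDim_eq_bot_of_subsingleton] at hd
  obtain ⟨s, g, hinj, hfin⟩ := exists_finite_inj_algHom_of_fg p.ResidueField F
  have hsd : s = d := by
    letI := g.toRingHom.toAlgebra
    haveI : Module.Finite (MvPolynomial (Fin s) p.ResidueField) F := hfin
    haveI : Algebra.IsIntegral (MvPolynomial (Fin s) p.ResidueField) F := Algebra.IsIntegral.of_finite _ _
    have h := Groth.Agent.VarDim.ringKrullDim_eq_of_isIntegral
      (R := MvPolynomial (Fin s) p.ResidueField) (S := F) hinj
    rw [MvPolynomial.ringKrullDim_of_isNoetherianRing, ringKrullDim_eq_zero_of_field, zero_add, hd,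
      Nat.card_fin] at h
    exact_mod_cast h.symm
  subst hsd
  have hclear : ∀ y : F, ∃ t : A, t ∉ p ∧ ∃ b : B,
      algebraMap A p.ResidueField t • y = (1 : p.ResidueField) ⊗ₜ[A] b := by
    intro y
    induction y using TensorProduct.induction_on with
    | zero => exact ⟨1, (Ideal.ne_top_iff_one p).1 ‹p.IsPrime›.ne_top, 0, by simp⟩
    | tmul c b =>
      obtain ⟨⟨a, t⟩, e⟩ := IsLocalization.surj (nonZeroDivisors (A ⧸ p)) c
      obtain ⟨a, rfl⟩ := Ideal.Quotient.mk_surjective a
      obtain ⟨t, ht⟩ := t
      obtain ⟨t, rfl⟩ := Ideal.Quotient.mk_surjective t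
      refine ⟨t, fun h => nonZeroDivisors.ne_zero ht (Ideal.Quotient.eq_zero_iff_mem.2 h), a • b, ?_⟩
      have e' : algebraMap A p.ResidueField t * c = algebraMap A p.ResidueField a := by
        rw [mul_comm]; exact e
      show algebraMap A p.ResidueField t • (c ⊗ₜ[A] b) = _
      rw [TensorProduct.smul_tmul', smul_eq_mul, e', TensorProduct.tmul_smul, TensorProduct.smul_tmul',
        Algebra.algebraMap_eq_smul_one]
    | add x y hx hy =>
      obtain ⟨t₁, h₁, b₁, e₁⟩ := hx
      obtain ⟨t₂, h₂, b₂, e₂⟩ := hy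
      refine ⟨t₁ * t₂, fun h => (‹p.IsPrime›.mem_or_mem h).elim h₁ h₂, t₂ • b₁ + t₁ • b₂, ?_⟩
      rw [TensorProduct.tmul_add, TensorProduct.tmul_smul, TensorProduct.tmul_smul, ← e₁, ← e₂,
        smul_add, map_mul, ← algebraMap_smul p.ResidueField t₂ (algebraMap A p.ResidueField t₁ • x),
        ← algebraMap_smul p.ResidueField t₁ (algebraMap A p.ResidueField t₂ • y), smul_smul, smul_smul,
        mul_comm (algebraMap A p.ResidueField t₂)]
  choose t ht b hb using fun i => hclear (g (MvPolynomial.X i))
  let π : MvPolynomial (Fin s) A →ₐ[A] B := MvPolynomial.aeval b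
  refine ⟨π, ?_⟩
  let Φ := Algebra.TensorProduct.map (AlgHom.id p.ResidueField p.ResidueField) π
  let ψ : MvPolynomial (Fin s) p.ResidueField →ₐ[p.ResidueField]
      p.ResidueField ⊗[A] MvPolynomial (Fin s) A :=
    MvPolynomial.aeval fun i => (algebraMap A p.ResidueField (t i))⁻¹ •
      ((1 : p.ResidueField) ⊗ₜ[A] MvPolynomial.X i)
  have e : Φ.comp ψ = g := by
    refine MvPolynomial.algHom_ext fun i => ?_
    have hne : algebraMap A p.ResidueField (t i) ≠ 0 :=
      fun h => ht i (Ideal.algebraMap_residueField_eq_zero.1 h)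
    rw [AlgHom.comp_apply]
    simp only [ψ, MvPolynomial.aeval_X, map_smul]
    simp only [Φ, Algebra.TensorProduct.map_tmul, AlgHom.coe_id, id_eq, π, MvPolynomial.aeval_X]
    rw [← hb i, smul_smul, inv_mul_cancel₀ hne, one_smul]
  have hfin' : (Φ.comp ψ).Finite := e.symm ▸ hfin
  exact AlgHom.Finite.of_comp_finite (f := ψ) hfin'

end Groth.Agent.S7620
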