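import Groth.Statements.S7621
import Groth.Agent.Lib.QcOpen18.Descent

set_option autoImplicit false
universe u
open CategoryTheory CategoryTheory.Limits AlgebraicGeometry
open Variety

namespace Groth.Agent.S7621

/-- Let K be a (possibly infinite) Galois extension of a field k, X a scheme over k and V a
quasi-compact open subset of X_K. Then there is a subextension k'/k of K, finite over k, such that
every k-automorphism of K fixing k' pointwise maps V onto itself under its action on X_K (an open
subgroup of the Galois group stabilises V). -/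
theorem result (k : Type u) [Field k] (K : Type u) [Field K] [Algebra k K] [IsGalois k K]
    (X : Scheme.{u}) [X.Over (Spec (CommRingCat.of k))] (V : Set ↥(Curv2.bc k X K)) (hV : IsOpen V) (hVc : IsCompact V) :
    ∃ E : IntermediateField k K, FiniteDimensional k ↥E ∧
      ∀ σ : K ≃ₐ[k] K, (∀ a : K, a ∈ E → σ a = a) → (Curv2.galAct k X K σ).base '' V = V := by
  classical
  obtain ⟨S, hS⟩ := Groth.Agent.QcOpen18.exists_descent (X ↘ Spec (CommRingCat.of k)) V hV hVc
  refine ⟨IntermediateField.adjoin k (S : Set K), ?_, fun σ hσ => ?_⟩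
  · haveI : Finite (S : Set K) := S.finite_toSet.to_subtype
    exact IntermediateField.finiteDimensional_adjoin fun x _ => (Algebra.IsIntegral.isIntegral x)
  · let A' := Algebra.adjoin k (S : Set K)
    obtain ⟨V', -, -, h3⟩ := hS A' Algebra.subset_adjoin
    have hA' : ∀ a ∈ A', σ a = a := fun a ha => hσ a (IntermediateField.algebra_adjoin_le_adjoin k _ ha)
    have hcomp : (σ : K →ₐ[k] K).toRingHom.comp A'.val.toRingHom = A'.val.toRingHom :=
      RingHom.ext fun a => hA' a.1 a.2
    let π : Curv2.bc k X K ⟶ Groth.Agent.QcOpen18.bcA (X ↘ Spec (CommRingCat.of k)) A' :=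
      pullback.map _ _ _ _ (𝟙 X) (Spec.map (CommRingCat.ofHom A'.val.toRingHom)) (𝟙 _) (by simp)
        (by rw [Category.comp_id, ← Spec.map_comp, ← CommRingCat.ofHom_comp]; rfl)
    have hπ : π.base ⁻¹' V' = V := h3 π (by simp [π, pullback.lift_fst]) (by simp [π, pullback.lift_snd])
    have hgal : Curv2.galAct k X K σ ≫ π = π := by
      apply pullback.hom_ext
      · simp [π, Curv2.galAct, pullback.lift_fst]
      · simp only [π, Curv2.galAct, Category.assoc]
        erw [pullback.lift_snd, pullback.lift_snd_assoc]
        rw [Category.assoc, ← Spec.map_comp, ← CommRingCat.ofHom_comp]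
        conv_lhs => arg 2; arg 1; arg 1; rw [hcomp]
    have hmem : ∀ z, (Curv2.galAct k X K σ) z ∈ V ↔ z ∈ V := fun z => by
      rw [← hπ, Set.mem_preimage, Set.mem_preimage, ← Scheme.Hom.comp_apply, hgal]
    have hinv : Curv2.galAct k X K σ.symm ≫ Curv2.galAct k X K σ = 𝟙 _ := by
      apply pullback.hom_ext
      · simp [Curv2.galAct, pullback.lift_fst]
      · simp only [Curv2.galAct, Category.assoc]
        erw [pullback.lift_snd, pullback.lift_snd_assoc]
        rw [Category.assoc, ← Spec.map_comp, ← CommRingCat.ofHom_comp]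
        erw [Category.id_comp]
        conv_rhs => rw [← Category.comp_id (pullback.snd _ _), ← Spec.map_id]
        congr 2
        exact CommRingCat.hom_ext (RingHom.ext fun a => σ.symm_apply_apply a)
    ext y
    constructor
    · rintro ⟨z, hz, rfl⟩
      exact (hmem z).2 hz
    · intro hy
      refine ⟨(Curv2.galAct k X K σ.symm) y, (hmem _).1 ?_, ?_⟩ <;>
      · rw [← Scheme.Hom.comp_apply, hinv]
        first | exact hy | rfl

end Groth.Agent.S7621
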