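import Groth.Statements.S7622
import Groth.Agent.S2452
import Groth.Agent.Lib.H2Alg.PSHom
import Mathlib.RingTheory.AdicCompletion.LocalRing
-- import your own Groth.Agent.* helpers here

set_option autoImplicit false
universe u
open CategoryTheory CategoryTheory.Limits AlgebraicGeometry
open Variety

namespace Groth.Agent.S7622

/-- Let A be a Noetherian local algebra over a field k (such as the local ring of a locally Noetherian
k-scheme at a point) whose residue field κ is a separable extension of k, meaning geometrically
reduced over k; κ need not be algebraic over k. Then there are n ≥ 0, an ideal I of κ[[x_1, …, x_n]]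
and a k-algebra isomorphism e from κ[[x_1, …, x_n]]/I onto the completion A^∧ of A at its maximal
ideal which induces the identity on residue fields: for every a in A, the value of e on the constant
power series whose value is the residue class of a is congruent to the image of a modulo the
extended maximal ideal of A^∧. -/
theorem result (k A : Type u) [Field k] [CommRing A] [Algebra k A]
    [IsNoetherianRing A] [IsLocalRing A] [Algebra.IsGeometricallyReduced k (IsLocalRing.ResidueField A)] :
    ∃ (n : ℕ) (I : Ideal (MvPowerSeries (Fin n) (IsLocalRing.ResidueField A)))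
      (e : (MvPowerSeries (Fin n) (IsLocalRing.ResidueField A) ⧸ I) ≃ₐ[k]
        AdicCompletion (IsLocalRing.maximalIdeal A) A),
      ∀ a : A, e (Ideal.Quotient.mk I (MvPowerSeries.C (IsLocalRing.residue A a))) -
          algebraMap A (AdicCompletion (IsLocalRing.maximalIdeal A) A) a ∈
        (IsLocalRing.maximalIdeal A).map (algebraMap A (AdicCompletion (IsLocalRing.maximalIdeal A) A)) := by
  classical
  let C := AdicCompletion (IsLocalRing.maximalIdeal A) A
  let m : Ideal C := (IsLocalRing.maximalIdeal A).map (algebraMap A C)
  have hm : IsLocalRing.maximalIdeal C = m := AdicCompletion.maximalIdeal_eq_map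
  let rmap : IsLocalRing.ResidueField A →ₐ[k] IsLocalRing.ResidueField C :=
    { IsLocalRing.ResidueField.map (algebraMap A C) with
      commutes' := fun r => by
        show IsLocalRing.ResidueField.map (algebraMap A C) (IsLocalRing.residue A (algebraMap k A r)) =
          IsLocalRing.residue C (algebraMap k C r)
        rw [IsLocalRing.ResidueField.map_residue, ← IsScalarTower.algebraMap_apply] }
  have hbij : Function.Bijective rmap := AdicCompletion.residueField_map_bijective (R := A)
  let e₀ := AlgEquiv.ofBijective rmap hbij
  haveI : Algebra.IsGeometricallyReduced k (IsLocalRing.ResidueField C) :=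
    Algebra.IsGeometricallyReduced.of_injective e₀.symm.toAlgHom e₀.symm.injective
  obtain ⟨σ, hσ⟩ := Groth.Agent.S2452.result (k := k) (A := C)
  let τ : IsLocalRing.ResidueField A →ₐ[k] C := σ.comp rmap
  letI : Algebra (IsLocalRing.ResidueField A) C := τ.toRingHom.toAlgebra
  haveI : IsScalarTower k (IsLocalRing.ResidueField A) C :=
    IsScalarTower.of_algebraMap_eq fun r => (τ.commutes r).symm
  have hτ : ∀ a : A, algebraMap (IsLocalRing.ResidueField A) C (IsLocalRing.residue A a) -
      algebraMap A C a ∈ m := fun a => by
    rw [← hm, ← Ideal.Quotient.eq_zero_iff_mem, map_sub, sub_eq_zero]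
    show IsLocalRing.residue C (σ (rmap (IsLocalRing.residue A a))) = _
    rw [hσ]
    rfl
  obtain ⟨n, z, hz⟩ := Submodule.fg_iff_exists_fin_generating_family.1
    (IsNoetherian.noetherian (IsLocalRing.maximalIdeal A))
  haveI : IsAdicComplete m C := hm ▸ inferInstance
  obtain ⟨ψ, hψ⟩ := Groth.Agent.H2Alg.PSHom.exists_algHom (A := IsLocalRing.ResidueField A) m
    (fun i => algebraMap A C (z i))
    (fun i => Ideal.mem_map_of_mem _ (hz ▸ Submodule.subset_span ⟨i, rfl⟩))
  have hV : (Groth.Agent.H2Alg.PSHom.V n (IsLocalRing.ResidueField A)).map ψ = m := by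
    show _ = (IsLocalRing.maximalIdeal A).map (algebraMap A C)
    refine Eq.trans ?_ (congrArg (Ideal.map (algebraMap A C)) hz)
    rw [← Ideal.span, Ideal.map_span, Groth.Agent.H2Alg.PSHom.V, Ideal.map_span,
      ← Set.range_comp, ← Set.range_comp]
    exact congrArg (fun f => Ideal.span (Set.range f)) (funext hψ)
  have hsurj : Function.Surjective ψ := by
    refine Groth.Agent.H2Alg.PSHom.surjective ψ m hV fun t => ?_
    obtain ⟨a, ha⟩ := hbij.2 (IsLocalRing.residue C t)
    refine ⟨a, ?_⟩
    rw [← hm, ← Ideal.Quotient.eq_zero_iff_mem, map_sub, sub_eq_zero]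
    show _ = IsLocalRing.residue C (σ (rmap a))
    rw [hσ, ha]
    rfl
  let ψk : MvPowerSeries (Fin n) (IsLocalRing.ResidueField A) →ₐ[k] C :=
    { ψ.toRingHom with
      commutes' := fun r => by
        show ψ (algebraMap k _ r) = _
        rw [IsScalarTower.algebraMap_apply k (IsLocalRing.ResidueField A)
          (MvPowerSeries (Fin n) (IsLocalRing.ResidueField A)), ψ.commutes,
          ← IsScalarTower.algebraMap_apply] }
  refine ⟨n, RingHom.ker ψk.toRingHom, Ideal.quotientKerAlgEquivOfSurjective (f := ψk) hsurj,
    fun a => ?_⟩
  have h : (Ideal.quotientKerAlgEquivOfSurjective (f := ψk) hsurj)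
      (Ideal.Quotient.mk _ (MvPowerSeries.C (IsLocalRing.residue A a))) =
        algebraMap (IsLocalRing.ResidueField A) C (IsLocalRing.residue A a) := by
    exact ψ.commutes _
  exact Eq.substr (p := fun z : C => z ∈ m) (congrArg (· - algebraMap A C a) h) (hτ a)


end Groth.Agent.S7622
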