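import Groth.Statements.S7623
import Mathlib
import Groth.Agent.Lib.RegSmooth17.Basic
import Groth.Agent.Lib.GenSmooth18.Rank
import Groth.Agent.Lib.VarDim.Alg
import Groth.Agent.Lib.DimF18.Affine
import Groth.Agent.Lib.DimFormula14.Ineq

set_option autoImplicit false
universe u
open CategoryTheory CategoryTheory.Limits AlgebraicGeometry
open Variety

namespace Groth.Agent.S7623

open Groth.Agent

section helpers

open IsLocalRing

theorem finrank_kaehler_loc (k A : Type u) [CommRing k] [CommRing A] [Algebra k A] (p : PrimeSpectrum A) :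
    Module.finrank (Localization.AtPrime p.asIdeal) Ω[Localization.AtPrime p.asIdeal⁄k] =
      Module.rankAtStalk (R := A) Ω[A⁄k] p :=
  ((IsLocalizedModule.linearEquiv p.asIdeal.primeCompl
    (LocalizedModule.mkLinearMap p.asIdeal.primeCompl Ω[A⁄k])
    (KaehlerDifferential.map k k A (Localization.AtPrime p.asIdeal))).extendScalarsOfIsLocalization
      p.asIdeal.primeCompl (Localization.AtPrime p.asIdeal)).finrank_eq.symm

theorem finrank_cotangentSpace_le (k B : Type u) [Field k] [CommRing B] [Algebra k B] [IsLocalRing B]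
    [Algebra.FormallySmooth k (ResidueField B)] [Module.Free B Ω[B⁄k]] [Module.Finite B Ω[B⁄k]] :
    Module.finrank (ResidueField B) (CotangentSpace B) ≤ Module.finrank B Ω[B⁄k] := by
  classical
  let J := (maximalIdeal B) ^ 2
  let g : (B ⧸ J) →ₐ[k] ResidueField B :=
    Ideal.Quotient.liftₐ J (IsScalarTower.toAlgHom k B (ResidueField B)) fun a ha =>
      (residue_eq_zero_iff a).2 (Ideal.pow_le_self two_ne_zero ha)
  have hg : Function.Surjective g := fun z => by
    obtain ⟨b, rfl⟩ := residue_surjective z
    exact ⟨Ideal.Quotient.mk J b, rfl⟩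
  have hg' : IsNilpotent (RingHom.ker g) := by
    refine ⟨2, ?_⟩
    have e : RingHom.ker g = (maximalIdeal B).map (Ideal.Quotient.mk J) := by
      ext z
      obtain ⟨b, rfl⟩ := Ideal.Quotient.mk_surjective z
      rw [RingHom.mem_ker, Ideal.mem_map_iff_of_surjective _ Ideal.Quotient.mk_surjective]
      refine ⟨fun h => ⟨b, (residue_eq_zero_iff b).1 h, rfl⟩, ?_⟩
      rintro ⟨c, hc, he⟩
      rw [← he]
      exact (residue_eq_zero_iff c).2 hc
    rw [e, ← Ideal.map_pow, Ideal.zero_eq_bot, Ideal.map_quotient_self]
  let σ := Algebra.FormallySmooth.liftOfSurjective (AlgHom.id k (ResidueField B)) g hg hg'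
  have hσ : ∀ z, g (σ z) = z := Algebra.FormallySmooth.liftOfSurjective_apply _ g hg hg'
  choose s hs using fun b : B => Ideal.Quotient.mk_surjective (σ (residue B b))
  have hc : ∀ b, b - s b ∈ maximalIdeal B := fun b => by
    rw [← residue_eq_zero_iff, map_sub, sub_eq_zero]
    have h := hσ (residue B b)
    rw [← hs] at h
    exact h.symm
  let δ : B →ₗ[k] CotangentSpace B :=
    { toFun := fun b => (maximalIdeal B).toCotangent ⟨b - s b, hc b⟩
      map_add' := fun a b => by
        rw [← map_add, Ideal.toCotangent_eq]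
        show (a + b - s (a + b)) - ((a - s a) + (b - s b)) ∈ J
        rw [← Ideal.Quotient.eq_zero_iff_mem]
        simp only [map_sub, map_add, hs]
        ring
      map_smul' := fun r b => by
        rw [RingHom.id_apply, ← IsScalarTower.algebraMap_smul B r ((maximalIdeal B).toCotangent _), ← map_smul,
          Ideal.toCotangent_eq]
        show (r • b - s (r • b)) - algebraMap k B r * (b - s b) ∈ J
        rw [← Ideal.Quotient.eq_zero_iff_mem]
        simp only [Algebra.smul_def, map_sub, map_mul, hs]
        rw [show residue B (algebraMap k B r) = algebraMap k (ResidueField B) r from rfl, AlgHom.commutes]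
        rw [show Ideal.Quotient.mk J (algebraMap k B r) = algebraMap k (B ⧸ J) r from rfl]
        ring }
  let Dm : Derivation k B (CotangentSpace B) := Derivation.mk' δ fun a b => by
    show (maximalIdeal B).toCotangent _ = a • (maximalIdeal B).toCotangent _ + b • (maximalIdeal B).toCotangent _
    rw [← map_smul, ← map_smul, ← map_add, Ideal.toCotangent_eq]
    show (a * b - s (a * b)) - (a * (b - s b) + b * (a - s a)) ∈ J
    have h1 : s (a * b) - s a * s b ∈ J := by
      rw [← Ideal.Quotient.eq_zero_iff_mem]
      simp only [map_sub, map_mul, hs, sub_self]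
    have h2 := Ideal.mul_mem_mul (hc a) (hc b)
    rw [← sq] at h2
    convert neg_mem (add_mem h1 h2) using 1
    ring
  let Φ := Dm.liftKaehlerDifferential
  have hΦD : ∀ x : maximalIdeal B, Φ (KaehlerDifferential.D k B x.1) = (maximalIdeal B).toCotangent x := by
    intro x
    rw [Derivation.liftKaehlerDifferential_comp_D]
    show (maximalIdeal B).toCotangent _ = _
    rw [Ideal.toCotangent_eq]
    show x.1 - s x.1 - x.1 ∈ J
    rw [← Ideal.Quotient.eq_zero_iff_mem]
    simp only [map_sub, hs, (residue_eq_zero_iff x.1).2 x.2, map_zero]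
    ring
  let b := Module.Free.chooseBasis B Ω[B⁄k]
  have hspan : Submodule.span (ResidueField B) (Set.range fun i => Φ (b i)) = ⊤ := by
    refine top_le_iff.mp fun z _ => ?_
    obtain ⟨x, rfl⟩ := Ideal.toCotangent_surjective _ z
    rw [← hΦD x, ← b.sum_repr (KaehlerDifferential.D k B x.1), map_sum]
    refine Submodule.sum_mem _ fun i _ => ?_
    rw [map_smul, ← IsScalarTower.algebraMap_smul (ResidueField B)]
    exact Submodule.smul_mem _ _ (Submodule.subset_span ⟨i, rfl⟩)
  rw [← finrank_top, ← hspan, Module.finrank_eq_card_basis b]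
  exact finrank_range_le_card _

end helpers

/-- Let k be a perfect field and A a reduced finite type k-algebra such that Ω_{A/k} is a projective
A-module (locally free, as it is finitely presented). Then A is smooth over k. The scheme statement,
X reduced and locally of finite type over k with Ω_{X/k} locally free is smooth over k, is this
assertion on affine opens. -/
theorem result (k A : Type u) [Field k] [PerfectField k] [CommRing A] [Algebra k A]
    [Algebra.FiniteType k A] [_root_.IsReduced A] [Module.Projective A Ω[A⁄k]] : Algebra.Smooth k A := by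
  haveI : IsNoetherianRing A := Algebra.FiniteType.isNoetherianRing k A
  haveI : Algebra.FinitePresentation k A := Algebra.FinitePresentation.of_finiteType.1 inferInstance
  haveI : Module.Finite A Ω[A⁄k] := inferInstance
  haveI : Module.FinitePresentation A Ω[A⁄k] := Module.finitePresentation_of_projective A _
  suffices h : Algebra.smoothLocus k A = Set.univ by
    exact ⟨(Algebra.smoothLocus_eq_univ_iff).1 h, inferInstance⟩
  by_contra hne
  obtain ⟨p, hp⟩ : ∃ p, p ∉ Algebra.smoothLocus k A := Set.ne_univ_iff_exists_notMem _ |>.1 hne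
  obtain ⟨M, hM, hpM⟩ := Ideal.exists_le_maximal p.asIdeal p.2.ne_top
  haveI := hM.isPrime
  refine hp (((PrimeSpectrum.le_iff_specializes p ⟨M, hM.isPrime⟩).1 hpM).mem_open Algebra.isOpen_smoothLocus ?_)
  let B := Localization.AtPrime M
  -- the residue field is finite over the perfect field
  haveI : Module.Finite k (A ⧸ M) := by
    letI := Ideal.Quotient.field M
    exact finite_of_finite_type_of_isJacobsonRing k (A ⧸ M)
  haveI : Algebra.EssFiniteType k M.ResidueField := .comp k B _
  haveI : Algebra.FormallySmooth k M.ResidueField := Algebra.FormallySmooth.of_perfectField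
  haveI : Algebra.FormallySmooth k (IsLocalRing.ResidueField B) := ‹_›
  -- a minimal prime below
  obtain ⟨q, hq, hqM⟩ := Ideal.exists_minimalPrimes_le (show (⊥ : Ideal A) ≤ M from bot_le)
  haveI : q.IsPrime := hq.1.1
  let L := Localization.AtPrime q
  haveI : Ring.KrullDimLE 0 L := by
    refine Ring.krullDimLE_iff.2 ?_
    rw [IsLocalization.AtPrime.ringKrullDim_eq_height q L]
    have : q.height = 0 := Ideal.height_eq_zero_iff.2 hq
    rw [this]
    rfl
  haveI : _root_.IsReduced L := inferInstance
  letI : Field L := (Ring.KrullDimLE.isField_of_isReduced (R := L)).toField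
  have hrank : Module.rankAtStalk (R := A) Ω[A⁄k] ⟨q, ‹_›⟩ = VarDim.tdeg k (A ⧸ q) := by
    rw [← finrank_kaehler_loc, Module.finrank, GenSmooth18.rank_kaehler_eq_trdeg k L]
    have e : L ≃ₐ[k] q.ResidueField := AlgEquiv.ofBijective (IsScalarTower.toAlgHom k L q.ResidueField)
      ⟨(algebraMap L q.ResidueField).injective, IsLocalRing.residue_surjective⟩
    rw [e.trdeg_eq, DimF18.trdeg_residueField_eq k A ⟨q, ‹_›⟩, Cardinal.toNat_natCast]
  have hconst : Module.rankAtStalk (R := A) Ω[A⁄k] ⟨M, hM.isPrime⟩ =
      Module.rankAtStalk (R := A) Ω[A⁄k] ⟨q, ‹_›⟩ :=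
    ((((PrimeSpectrum.le_iff_specializes (⟨q, ‹_›⟩ : PrimeSpectrum A) ⟨M, hM.isPrime⟩).1 hqM).map
      (Module.isLocallyConstant_rankAtStalk (R := A) (M := Ω[A⁄k])).continuous).eq).symm
  -- dimension
  have hdim : (VarDim.tdeg k (A ⧸ q) : WithBot ℕ∞) ≤ ringKrullDim B := by
    have hmax : (M.map (Ideal.Quotient.mk q)).IsMaximal :=
      Ideal.IsMaximal.map_of_surjective_of_ker_le Ideal.Quotient.mk_surjective (by rwa [Ideal.mk_ker])
    let P : PrimeSpectrum (A ⧸ q) := ⟨M.map (Ideal.Quotient.mk q), hmax.isPrime⟩
    have h := VarDim.height_add_coheight_nat k (A ⧸ q) P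
    rw [Order.coheight_eq_zero.2 (show IsMax P from fun Q hQ => (hmax.eq_of_le Q.2.ne_top hQ).ge), add_zero] at h
    rw [IsLocalization.AtPrime.ringKrullDim_eq_height M B]
    have h2 := DimFormula14.height_le_of_surjective (Ideal.Quotient.mk q) Ideal.Quotient.mk_surjective P.asIdeal
    rw [Ideal.comap_map_of_surjective _ Ideal.Quotient.mk_surjective, ← RingHom.ker_eq_comap_bot, Ideal.mk_ker,
      sup_eq_left.2 hqM] at h2
    rw [PrimeSpectrum.height_eq_orderHeight, h] at h2
    exact WithBot.coe_le_coe.2 h2
  haveI : IsNoetherianRing B := IsLocalization.isNoetherianRing M.primeCompl B inferInstance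
  haveI : Module.Finite B Ω[B⁄k] :=
    Module.Finite.of_isLocalizedModule M.primeCompl (KaehlerDifferential.map k k A B)
  haveI : Module.Projective B Ω[B⁄k] :=
    Module.Projective.of_equiv ((IsLocalizedModule.isBaseChange M.primeCompl B (KaehlerDifferential.map k k A B)).equiv)
  haveI : Module.Free B Ω[B⁄k] := Module.free_of_flat_of_isLocalRing
  haveI : IsRegularLocalRing B := by
    rw [IsRegularLocalRing.iff_finrank_cotangentSpace]
    refine le_antisymm ?_ ?_
    · refine le_trans ?_ hdim
      have h := finrank_cotangentSpace_le k B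
      rw [finrank_kaehler_loc k A ⟨M, hM.isPrime⟩, hconst, hrank] at h
      exact_mod_cast h
    · have h := ringKrullDim_le_spanFinrank_maximalIdeal B
      rwa [IsLocalRing.spanFinrank_maximalIdeal_eq_finrank_cotangentSpace] at h
  exact RegSmooth17.isSmoothAt_of_isRegularLocalRing k A M

end Groth.Agent.S7623
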