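import Groth.Statements.S7626
import Groth.Agent.Lib.InvTriv15.RatSep
-- import your own Groth.Agent.* helpers here

set_option autoImplicit false
universe u
open CategoryTheory CategoryTheory.Limits AlgebraicGeometry
open Variety

namespace Groth.Agent.S7626

/-- Let k be an infinite field, X a scheme of finite type over k, L a very ample invertible O_X-module
on X over k, n ≥ 0, x a k-rational point of X and x_1, …, x_n points of X with x_i ≠ x. Then there
is a global section s of L which vanishes at x (x is not in the open where s generates L) but does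
not vanish at any x_i. -/
theorem result (k : Type u) [Field k] (X : Scheme.{u}) [X.Over (Spec (CommRingCat.of k))] [Infinite k]
    [LocallyOfFiniteType (X ↘ (Spec (CommRingCat.of k)))] [QuasiCompact (X ↘ (Spec (CommRingCat.of k)))]
    (L : X.Modules) (hL : RelAmple.IsRelVeryAmplePn (X ↘ (Spec (CommRingCat.of k))) L)
    (x : ↥X) (hx : Function.Surjective (Curv2.resMap k X x)) (n : ℕ) (pts : Fin n → ↥X) (hne : ∀ i, pts i ≠ x) :
    ∃ s : Coh.structureModule X ⟶ L, x ∉ CohB1.genLocus L s ∧ ∀ i, pts i ∈ CohB1.genLocus L s := by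
  obtain ⟨N, i, hi, hf, ⟨e⟩⟩ := hL
  obtain ⟨t, ht, htj⟩ := InvTriv15.exists_section_sep k (R := ULift.{u} ℤ) (d := N) i
    i.isEmbedding.injective
    (pullback.fst (CohB1.ProjSpace.toSpec N (ULift.{u} ℤ)) (specULiftZIsTerminal.from (Spec (CommRingCat.of k))))
    (pullback.snd (CohB1.ProjSpace.toSpec N (ULift.{u} ℤ)) (specULiftZIsTerminal.from (Spec (CommRingCat.of k))))
    (fun a b h1 h2 => pullback.hom_ext h1 h2) (fun a b => specULiftZIsTerminal.hom_ext _ _) hf x hx pts hne
  let φ := e ≪≫ (Scheme.Modules.pullbackComp i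
    (pullback.fst (CohB1.ProjSpace.toSpec N (ULift.{u} ℤ)) (specULiftZIsTerminal.from (Spec (CommRingCat.of k))))).app
      (Twist.twistProjSpace N (ULift.{u} ℤ) 1)
  have hM : PicF.IsInvertible ((Scheme.Modules.pullback (i ≫ pullback.fst (CohB1.ProjSpace.toSpec N (ULift.{u} ℤ))
      (specULiftZIsTerminal.from (Spec (CommRingCat.of k))))).obj (Twist.twistProjSpace N (ULift.{u} ℤ) 1)) :=
    Groth.Agent.Twist.isInvertible_pullback _ (Groth.Agent.Twist.isInvertible_twistProjSpace N (ULift.{u} ℤ) 1)
  refine ⟨M1.secHom t ≫ φ.inv, ?_, fun j => ?_⟩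
  · intro h
    have h' := (Amp.genLocus_comp_iso φ.symm (M1.secHom t)).le h
    exact ht (Amp.gval_secHom t ▸ (Amp.mem_genLocus_iff hM (M1.secHom t)).mp h')
  · exact (Amp.genLocus_comp_iso φ.symm (M1.secHom t)).ge
      ((Amp.mem_genLocus_iff hM (M1.secHom t)).mpr ((Amp.gval_secHom t).symm ▸ htj j))

end Groth.Agent.S7626
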