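import Groth.Statements.S7627
import Groth.Agent.Lib.FlatDepth.FibreStalk
import Groth.Agent.Lib.GeomIrr18.Res

set_option autoImplicit false
universe u
open CategoryTheory CategoryTheory.Limits AlgebraicGeometry
attribute [local instance] Curv2.resAlgebra
open scoped TensorProduct
open Variety

namespace Groth.Agent.S7627

/-- Let X be locally of finite type over a field k, K an extension field of k, y a point of X_K with
image x in X. Assume dim O_{X, x} = dim O_{X_K, y} and that κ(x) ⊗_k K is reduced (for instance
κ(x)/k separable or K/k separable). Then m_x O_{X_K, y} = m_y. -/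
theorem result (k : Type u) [Field k] (X : Scheme.{u}) [X.Over (Spec (CommRingCat.of k))] [LocallyOfFiniteType (X ↘ (Spec (CommRingCat.of k)))]
    (K : Type u) [Field K] [Algebra k K] (y : ↥(Curv2.bc k X K))
    (hdim : ringKrullDim ↥(X.presheaf.stalk (Curv2.bcFst k X K y)) = ringKrullDim ↥((Curv2.bc k X K).presheaf.stalk y))
    (hred : _root_.IsReduced (X.residueField (Curv2.bcFst k X K y) ⊗[k] K)) :
    Ideal.map ((Curv2.bcFst k X K).stalkMap y).hom (IsLocalRing.maximalIdeal ↥(X.presheaf.stalk (Curv2.bcFst k X K y))) =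
      IsLocalRing.maximalIdeal ↥((Curv2.bc k X K).presheaf.stalk y) := by
  haveI : IsLocallyNoetherian X := LocallyOfFiniteType.isLocallyNoetherian (X ↘ (Spec (CommRingCat.of k)))
  haveI : LocallyOfFiniteType (Curv2.bcSnd k X K) := MorphismProperty.pullback_snd _ _ inferInstance
  haveI : IsLocallyNoetherian (Curv2.bc k X K) := LocallyOfFiniteType.isLocallyNoetherian (Curv2.bcSnd k X K)
  let f := Curv2.bcFst k X K
  haveI : Flat f := by
    refine MorphismProperty.pullback_fst _ _ ?_
    rw [HasRingHomProperty.Spec_iff (P := @Flat)]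
    exact RingHom.flat_algebraMap_iff.2 inferInstance
  obtain ⟨-, h2⟩ := Groth.Agent.FlatDepth.stalk_invariants f y
  -- the closed fibre is zero dimensional
  have h0 : ringKrullDim (CInt.fiberStalk f y) = 0 := by
    have hfin : FiniteRingKrullDim (X.presheaf.stalk (f y)) := inferInstance
    rw [← hdim] at h2
    have h3 : (0 : WithBot ℕ∞) ≤ ringKrullDim (CInt.fiberStalk f y) := ringKrullDim_nonneg_of_nontrivial
    obtain ⟨a, ha⟩ : ∃ a : ℕ, ringKrullDim (X.presheaf.stalk (f y)) = (a : WithBot ℕ∞) := by
      rw [← IsLocalRing.maximalIdeal_height_eq_ringKrullDim]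
      have hne := Ideal.height_ne_top (I := IsLocalRing.maximalIdeal (X.presheaf.stalk (f y)))
        (Ideal.IsPrime.ne_top inferInstance)
      obtain ⟨n, hn⟩ := ENat.ne_top_iff_exists.1 hne
      exact ⟨n, by rw [← hn]; rfl⟩
    rw [ha] at h2
    generalize ringKrullDim (CInt.fiberStalk f y) = d at h2 h3
    induction d using WithBot.recBotCoe with
    | bot => simp at h3
    | coe d =>
      have h4 : ((a : ℕ∞) : WithBot ℕ∞) = (((a : ℕ∞) + d : ℕ∞) : WithBot ℕ∞) := by
        simpa [WithBot.coe_add] using h2
      rw [WithBot.coe_inj] at h4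
      have h5 : d = 0 := by
        induction d using ENat.recTopCoe with
        | top => simp at h4
        | coe n =>
          have : a = a + n := by exact_mod_cast h4
          simp [show n = 0 by omega]
      rw [h5]; rfl
  let φ : k →+* X.residueField (f y) := Curv2.resMap k X (f y)
  have hφ : X.fromSpecResidueField (f y) ≫ (X ↘ (Spec (CommRingCat.of k))) =
      Spec.map (CommRingCat.ofHom φ) := (GeomIrr.spec_resMap k X (f y)).symm
  haveI : IsReduced (f.fiber (f y)) := by
    let e : f.fiber (f y) ≅ pullback (Spec.map (CommRingCat.ofHom φ))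
        (Spec.map (CommRingCat.ofHom (algebraMap k K))) :=
      pullbackSymmetry _ _ ≪≫ pullbackRightPullbackFstIso _ _ _ ≪≫ pullback.congrHom hφ rfl
    exact isReduced_of_isOpenImmersion (e ≪≫ pullbackSpecIso k (X.residueField (f y)) K).hom
  haveI : _root_.IsReduced (CInt.fiberStalk f y) :=
    inferInstanceAs (_root_.IsReduced ((f.fiber (f y)).presheaf.stalk (f.asFiber y)))
  haveI : Ring.KrullDimLE 0 (CInt.fiberStalk f y) := ⟨h0.le⟩
  obtain ⟨e⟩ := Groth.Agent.FlatDepth.nonempty_fiberStalkEquiv f y
  exact IsLocalRing.eq_maximalIdeal (Ideal.Quotient.maximal_of_isField _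
    (e.toMulEquiv.isField (Ring.KrullDimLE.isField_of_isReduced (R := CInt.fiberStalk f y))))

end Groth.Agent.S7627
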