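import Groth.Statements.S7631
import Groth.Agent.Lib.SchImage14.Basic
import Groth.Agent.Lib.FormalH7.Ideal

set_option autoImplicit false
universe u
open CategoryTheory CategoryTheory.Limits AlgebraicGeometry
open Variety

namespace Groth.Agent.S7631

/-- Let f : A → X and g : B → Y be quasi-compact morphisms of schemes over a field k and F = f × g : A
×_k B → X ×_k Y. Then the scheme-theoretic image of F is Z ×_k Z', where Z ⊆ X and Z' ⊆ Y are the
scheme-theoretic images of f and g: in terms of kernel ideal sheaves, ker F is the sum of the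
pullback of ker f along the first projection and of ker g along the second. -/
theorem result (k : Type u) [Field k] (X : Scheme.{u}) [X.Over (Spec (CommRingCat.of k))] (Y : Scheme.{u}) [Y.Over (Spec (CommRingCat.of k))]
    (A B : Scheme.{u}) [A.Over (Spec (CommRingCat.of k))] [B.Over (Spec (CommRingCat.of k))]
    (f : A ⟶ X) [f.IsOver (Spec (CommRingCat.of k))] [QuasiCompact f] (g : B ⟶ Y) [g.IsOver (Spec (CommRingCat.of k))] [QuasiCompact g]
    (F : pullback (A ↘ (Spec (CommRingCat.of k))) (B ↘ (Spec (CommRingCat.of k))) ⟶ pullback (X ↘ (Spec (CommRingCat.of k))) (Y ↘ (Spec (CommRingCat.of k))))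
    (hF₁ : F ≫ pullback.fst (X ↘ (Spec (CommRingCat.of k))) (Y ↘ (Spec (CommRingCat.of k))) = pullback.fst (A ↘ (Spec (CommRingCat.of k))) (B ↘ (Spec (CommRingCat.of k))) ≫ f)
    (hF₂ : F ≫ pullback.snd (X ↘ (Spec (CommRingCat.of k))) (Y ↘ (Spec (CommRingCat.of k))) = pullback.snd (A ↘ (Spec (CommRingCat.of k))) (B ↘ (Spec (CommRingCat.of k))) ≫ g) :
    F.ker = f.ker.comap (pullback.fst (X ↘ (Spec (CommRingCat.of k))) (Y ↘ (Spec (CommRingCat.of k)))) ⊔ g.ker.comap (pullback.snd (X ↘ (Spec (CommRingCat.of k))) (Y ↘ (Spec (CommRingCat.of k)))) := by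
  haveI : Subsingleton ↥(Spec (CommRingCat.of k)) := inferInstanceAs (Subsingleton (PrimeSpectrum k))
  haveI : IsIntegral (Spec (CommRingCat.of k)) := inferInstance
  let sX := X ↘ Spec (CommRingCat.of k)
  let sY := Y ↘ Spec (CommRingCat.of k)
  let sA := A ↘ Spec (CommRingCat.of k)
  let sB := B ↘ Spec (CommRingCat.of k)
  haveI : Flat sX := inferInstance
  haveI : Flat sY := inferInstance
  have hf : f ≫ sX = sA := comp_over f _
  have hg : g ≫ sY = sB := comp_over g _
  let ι := f.imageι
  let sZ := ι ≫ sX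
  haveI : Flat sZ := inferInstance
  haveI : Flat sB := inferInstance
  -- `W = Z × Y`, a closed subscheme of `X × Y`
  let j : pullback sZ sY ⟶ pullback sX sY :=
    pullback.map sZ sY sX sY ι (𝟙 _) (𝟙 _) (by simp [sZ]) (by simp)
  have hj₁ : j ≫ pullback.fst sX sY = pullback.fst sZ sY ≫ ι := pullback.lift_fst _ _ _
  have hj₂ : j ≫ pullback.snd sX sY = pullback.snd sZ sY :=
    (pullback.lift_snd _ _ _).trans (Category.comp_id _)
  have sqj : IsPullback (pullback.fst sZ sY) j ι (pullback.fst sX sY) :=
    IsPullback.of_bot (by rw [hj₂]; exact IsPullback.of_hasPullback sZ sY) hj₁.symm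
      (IsPullback.of_hasPullback sX sY)
  haveI : IsClosedImmersion j := MorphismProperty.of_isPullback (P := @IsClosedImmersion) sqj inferInstance
  have hjker : j.ker = f.ker.comap (pullback.fst sX sY) := by
    rw [← Groth.Agent.SchImage14.ker_comap_of_flat sqj]
    exact congrArg (fun I => Scheme.IdealSheafData.comap I (pullback.fst sX sY)) f.ker.ker_subschemeι
  -- `W' = Z × B`
  let q : pullback sZ sB ⟶ pullback sZ sY :=
    pullback.map sZ sB sZ sY (𝟙 _) g (𝟙 _) (by simp) (by simp [hg])
  have hq₁ : q ≫ pullback.fst sZ sY = pullback.fst sZ sB :=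
    (pullback.lift_fst _ _ _).trans (Category.comp_id _)
  have hq₂ : q ≫ pullback.snd sZ sY = pullback.snd sZ sB ≫ g := pullback.lift_snd _ _ _
  have sqq : IsPullback (pullback.snd sZ sB) q g (pullback.snd sZ sY) :=
    IsPullback.of_bot (by rw [hq₁, hg]; exact (IsPullback.of_hasPullback sZ sB).flip) hq₂.symm
      (IsPullback.of_hasPullback sZ sY).flip
  have hqker : q.ker = g.ker.comap (pullback.snd sZ sY) :=
    (Groth.Agent.SchImage14.ker_comap_of_flat sqq).symm
  let a : pullback sA sB ⟶ pullback sZ sB :=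
    pullback.map sA sB sZ sB f.toImage (𝟙 _) (𝟙 _)
      (by simp [sZ, ι, hf]) (by simp)
  have ha₁ : a ≫ pullback.fst sZ sB = pullback.fst sA sB ≫ f.toImage := pullback.lift_fst _ _ _
  have ha₂ : a ≫ pullback.snd sZ sB = pullback.snd sA sB :=
    (pullback.lift_snd _ _ _).trans (Category.comp_id _)
  have sqa : IsPullback (pullback.fst sA sB) a f.toImage (pullback.fst sZ sB) :=
    IsPullback.of_bot (by
      rw [ha₂, show f.toImage ≫ sZ = sA from (Scheme.Hom.toImage_imageι_assoc f sX).trans hf]
      exact IsPullback.of_hasPullback sA sB) ha₁.symm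
      (IsPullback.of_hasPullback sZ sB)
  have haker : a.ker = ⊥ := by
    have h0 : f.toImage.ker = ⊥ := by
      rw [← Groth.Agent.FormalH7.comap_ker_comp f.toImage f.imageι, Scheme.Hom.toImage_imageι,
        show f.ker = f.imageι.ker from f.ker.ker_subschemeι.symm,
        Groth.Agent.FormalH7.comap_ker_self]
    rw [← Groth.Agent.SchImage14.ker_comap_of_flat sqa, h0, Scheme.IdealSheafData.comap_bot]
  have hF : F = a ≫ q ≫ j := by
    apply pullback.hom_ext
    · rw [Category.assoc, Category.assoc, hj₁, reassoc_of% hq₁, reassoc_of% ha₁,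
        Scheme.Hom.toImage_imageι]
      exact hF₁
    · rw [Category.assoc, Category.assoc, hj₂, hq₂, reassoc_of% ha₂]
      exact hF₂
  have hsup : ∀ K : (pullback sX sY).IdealSheafData,
      (K.comap j).map j = K ⊔ j.ker := fun K => by
    refine le_antisymm ?_ (sup_le (K.le_map_comap j) ?_)
    · let L := K ⊔ j.ker
      let i := IsClosedImmersion.lift j L.subschemeι (L.ker_subschemeι.symm ▸ le_sup_right)
      have hi : i ≫ j = L.subschemeι := IsClosedImmersion.lift_fac _ _ _
      have h1 : (K.comap j).comap i = ⊥ := by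
        rw [← Scheme.IdealSheafData.comap_comp, hi, eq_bot_iff,
          ← Scheme.IdealSheafData.le_map_iff_comap_le, Scheme.IdealSheafData.map_bot,
          L.ker_subschemeι]
        exact le_sup_left
      have h2 : K.comap j ≤ i.ker := by
        rw [← Scheme.IdealSheafData.map_bot i, Scheme.IdealSheafData.le_map_iff_comap_le, h1]
      refine (Scheme.IdealSheafData.map_mono j h2).trans ?_
      show i.ker.map j ≤ L
      rw [← Scheme.Hom.ker_comp, hi, L.ker_subschemeι]
    · rw [← Scheme.IdealSheafData.map_bot j]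
      exact Scheme.IdealSheafData.map_mono j bot_le
  rw [hF, Scheme.Hom.ker_comp, haker, Scheme.IdealSheafData.map_bot, Scheme.Hom.ker_comp, hqker,
    ← hj₂,
    Scheme.IdealSheafData.comap_comp, hsup, hjker, sup_comm]

end Groth.Agent.S7631
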