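import Groth.Statements.S7632
import Groth.Agent.Lib.RedStrata4.Basic
import Groth.Agent.Lib.SmoothStrat4.Field
import Groth.Agent.Lib.AbRigid.SmoothGI
import Mathlib
-- import your own Groth.Agent.* helpers here

set_option autoImplicit false
universe u
open CategoryTheory CategoryTheory.Limits AlgebraicGeometry
open Variety

open CategoryTheory CategoryTheory.Limits AlgebraicGeometry TopologicalSpace

namespace Groth.Agent.S7632

/-- Let X be a scheme of finite type over a field k. Then one can find a finite purely inseparable field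
extension k'/k, some t ≥ 0, and a descending chain Z_0 ⊇ … ⊇ Z_t = ∅ of closed subschemes of X_{k'},
given by an increasing chain of quasi-coherent ideal sheaves I_0 ≤ … ≤ I_t = O on X_{k'}, such that
Z_0 = (X_{k'})_red (I_0 is the ideal of nilpotents) and the open subscheme Z_i ∖ Z_{i+1} of Z_i is
smooth over k' for every i < t. -/
theorem result (k : Type u) [Field k] (X : Scheme.{u}) [X.Over (Spec (CommRingCat.of k))] [LocallyOfFiniteType (X ↘ (Spec (CommRingCat.of k)))] [QuasiCompact (X ↘ (Spec (CommRingCat.of k)))] :
    ∃ (k' : Type u) (_ : Field k') (_ : Algebra k k') (_ : FiniteDimensional k k') (_ : IsPurelyInseparable k k')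
      (t : ℕ) (I : Fin (t + 1) → (Curv2.bc k X k').IdealSheafData),
      Monotone I ∧ I 0 = Scheme.IdealSheafData.vanishingIdeal ⊤ ∧ I (Fin.last t) = ⊤ ∧
        ∀ i : Fin t,
          Smooth (((I i.castSucc).subschemeι ⁻¹ᵁ (I i.succ).support.compl).ι ≫ (I i.castSucc).subschemeι ≫ Curv2.bcSnd k X k') := by
  classical
  let f := X ↘ Spec (CommRingCat.of k)
  let P := perfectClosure k (AlgebraicClosure k)
  obtain ⟨t, C, L, hC, hC0, hClast, hL, hpiece⟩ := SmoothStrat4.exists_chain f P ⊤
  haveI : IsPurelyInseparable k L := IntermediateField.isPurelyInseparable_tower_bot k P L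
  let π := pullback.fst f (SmoothStrat4.σ k L)
  let D : Fin (t + 1) → Closeds ↥(Curv2.bc k X L) := fun i => (C i).preimage π.continuous
  have hsupp : ∀ Z : Closeds ↥(Curv2.bc k X L), (Scheme.IdealSheafData.vanishingIdeal Z).support = Z :=
    fun Z => Closeds.ext (Scheme.IdealSheafData.coe_support_vanishingIdeal _)
  refine ⟨L, inferInstance, inferInstance, hL, inferInstance, t,
    fun i => Scheme.IdealSheafData.vanishingIdeal (D i), fun a b hab => ?_, ?_, ?_, fun i => ?_⟩
  · exact Scheme.IdealSheafData.le_support_iff_le_vanishingIdeal.mp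
      (by rw [hsupp]; exact fun x hx => hC hab hx)
  · show Scheme.IdealSheafData.vanishingIdeal (D 0) = _
    rw [show D 0 = ⊤ from Closeds.ext (by simp [D, hC0])]
  · show Scheme.IdealSheafData.vanishingIdeal (D (Fin.last t)) = ⊤
    exact (Scheme.IdealSheafData.support_eq_bot_iff _).mp
      (by rw [hsupp]; exact Closeds.ext (by simp [D, hClast]))
  · obtain ⟨T, j, _, hr, hs⟩ := hpiece i
    haveI : IsReduced T := AbRigid.isReduced_of_smooth_over_field (j ≫ pullback.snd f (SmoothStrat4.σ k L))
    obtain ⟨e, he, hej⟩ := RedStrata4.exists_iso_stratum j (D i.castSucc) (D i.succ)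
      (hr.trans (Set.preimage_diff _ _ _))
    have h : Smooth ((e ≫ j) ≫ pullback.snd f (SmoothStrat4.σ k L)) := by
      rw [Category.assoc]
      haveI := hs; infer_instance
    rw [hej, Category.assoc] at h
    exact h

end Groth.Agent.S7632
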