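import Groth.Statements.S7639
import Groth.Agent.Lib.GlobFun18.Sch
import Groth.Agent.Lib.WeilH13.Count

set_option autoImplicit false
universe u
open CategoryTheory CategoryTheory.Limits AlgebraicGeometry
attribute [local instance] Curv2.resAlgebra
open Variety

namespace Groth.Agent.S7639

/-- Let X be a proper scheme over a field k which is reduced and connected, and let κ = Γ(X, O_X). Then
κ is a field, finite over k, and w = [κ : k] divides (1) the degree of every finite locally free
module of constant rank, (2) the degree [κ(x) : k] of every closed point x, and (3) the degree dim_k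
H^0(X, O_D) of every closed subscheme D of dimension zero (or empty). (The published statement uses
the degree of E, which it defines only for X of dimension at most one; this row states (1) for the
integer χ(E) − n·χ(O_X) with no bound on the dimension of X.) -/
theorem result (k : Type u) [Field k] (X : Scheme.{u}) [X.Over (Spec (CommRingCat.of k))] [IsProper (X ↘ (Spec (CommRingCat.of k)))] [IsReduced X] [ConnectedSpace X] :
    letI : Algebra k Γ(X, ⊤) := ((X ↘ (Spec (CommRingCat.of k))).appTop.hom.comp
      (Scheme.ΓSpecIso (CommRingCat.of k)).inv.hom).toAlgebra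
    IsField Γ(X, ⊤) ∧ Module.Finite k Γ(X, ⊤) ∧
      (∀ (n : ℕ) (E : X.Modules), FlatMod.IsFinLocFreeOfRank n E →
        (Module.finrank k Γ(X, ⊤) : ℤ) ∣ Curv2.deg k X E n) ∧
      (∀ x : X, IsClosed ({x} : Set X) →
        Module.finrank k Γ(X, ⊤) ∣ Module.finrank k (X.residueField x)) ∧
      (∀ D : X.IdealSheafData, topologicalKrullDim D.subscheme ≤ 0 →
        Module.finrank k Γ(X, ⊤) ∣ Module.finrank k (Coh.HH X (ClSub.quotMod D) 0)) := by
  letI : Algebra k Γ(X, ⊤) := ((X ↘ (Spec (CommRingCat.of k))).appTop.hom.comp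
      (Scheme.ΓSpecIso (CommRingCat.of k)).inv.hom).toAlgebra
  set f := X ↘ Spec (CommRingCat.of k) with hf
  haveI : CompactSpace X := QuasiCompact.compactSpace_of_compactSpace f
  obtain ⟨x₁⟩ := (inferInstance : Nonempty X)
  haveI : Nontrivial Γ(X, ⊤) := (X.presheaf.germ ⊤ x₁ trivial).hom.domain_nontrivial
  haveI : Algebra.IsIntegral k Γ(X, ⊤) := ⟨by
    show (f.appTop.hom.comp (Scheme.ΓSpecIso (CommRingCat.of k)).inv.hom).IsIntegral
    exact RingHom.IsIntegral.trans _ _ (RingHom.isIntegral_of_surjective _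
      (Scheme.ΓSpecIso (CommRingCat.of k)).symm.commRingCatIsoToRingEquiv.surjective)
      (isIntegral_appTop_of_universallyClosed f)⟩
  have hfield : IsField Γ(X, ⊤) := by
    have htop : integralClosure k Γ(X, ⊤) = ⊤ := eq_top_iff.2 fun a _ => Algebra.IsIntegral.isIntegral a
    have h2 := GlobFun18.isField_integralClosure (k := k) Γ(X, ⊤) fun e he => GlobFun18.idem_eq_zero_or_one he
    rw [htop] at h2
    exact (Subalgebra.topEquiv (R := k) (A := Γ(X, ⊤))).symm.toMulEquiv.isField h2
  letI := hfield.toField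
  letI : ∀ x : X, Algebra Γ(X, ⊤) (X.residueField x) := fun x => (X.Γevaluation x).hom.toAlgebra
  haveI : ∀ x : X, IsScalarTower k Γ(X, ⊤) (X.residueField x) := fun x => .of_algebraMap_eq' rfl
  haveI hfin : Module.Finite k Γ(X, ⊤) := by
    obtain ⟨x₀, -, hx₀⟩ := (isClosed_univ (X := X)).exists_closed_singleton Set.univ_nonempty
    haveI : Module.Finite k (X.residueField x₀) := WeilH13.finite_residueField_of_isClosed f x₀ hx₀
    exact Module.Finite.of_injective (IsScalarTower.toAlgHom k Γ(X, ⊤) (X.residueField x₀)).toLinearMap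
      (algebraMap Γ(X, ⊤) (X.residueField x₀)).injective
  have key : ∀ (M : X.Modules) (i : ℕ), ∃ r : ℕ,
      Module.finrank k (Coh.HH X M i) = Module.finrank k Γ(X, ⊤) * r := fun M i => by
    letI : Module Γ(X, ⊤) (Coh.HH X M i) := Coh.moduleΓtop M i
    haveI : IsScalarTower k Γ(X, ⊤) (Coh.HH X M i) := IsScalarTower.of_algebraMap_smul fun _ _ => rfl
    exact ⟨_, (Module.finrank_mul_finrank k Γ(X, ⊤) (Coh.HH X M i)).symm⟩
  have euler : ∀ M : X.Modules, (Module.finrank k Γ(X, ⊤) : ℤ) ∣ Curv2.euler k X M := fun M => by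
    choose r hr using key M
    refine ⟨∑ᶠ i : ℕ, (-1 : ℤ) ^ i * r i, ?_⟩
    rw [← smul_eq_mul, smul_finsum, Curv2.euler]
    refine finsum_congr fun i => ?_
    rw [hr i, smul_eq_mul]
    push_cast
    ring
  refine ⟨hfield, hfin, fun n E _ => ?_, fun x _ => ?_, fun D _ => ?_⟩
  · exact dvd_sub (euler E) ((euler _).mul_left _)
  · exact Dvd.intro _ (Module.finrank_mul_finrank k Γ(X, ⊤) (X.residueField x))
  · obtain ⟨r, hr⟩ := key (ClSub.quotMod D) 0
    exact ⟨r, hr⟩

end Groth.Agent.S7639
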