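import Groth.Statements.S7641
import Groth.Agent.Lib.CompDeg18.Basic
import Groth.Agent.Lib.CurveAmple18.Main
-- import your own Groth.Agent.* helpers here

set_option autoImplicit false
universe u
open CategoryTheory CategoryTheory.Limits AlgebraicGeometry
open Variety

namespace Groth.Agent.S7641

/-- Let X be proper over a field k, reduced and connected, with every irreducible component of dimension
one, and let L be an invertible module whose restriction to each irreducible component C, with its
reduced induced structure, has degree at most zero. Then H^0(X, L) = 0 or L is isomorphic to O_X. -/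
theorem result (k : Type u) [Field k] (X : Scheme.{u}) [X.Over (Spec (CommRingCat.of k))] [IsProper (X ↘ (Spec (CommRingCat.of k)))]
    [IsReduced X] [ConnectedSpace X] [IsNoetherian X]
    (hdim : ∀ (C : Set X), C ∈ irreducibleComponents (X : Type u) → topologicalKrullDim C = 1)
    (L : X.Modules) (hL : PicF.IsInvertible L)
    (hdeg : ∀ (C : Set X) (hC : C ∈ irreducibleComponents (X : Type u)), @Curv2.deg k _ (X.irreducibleComponentIdeal C hC).radical.subscheme ⟨(X.irreducibleComponentIdeal C hC).radical.subschemeι ≫ (X ↘ (Spec (CommRingCat.of k)))⟩ ((Scheme.Modules.pullback (X.irreducibleComponentIdeal C hC).radical.subschemeι).obj L) 1 ≤ 0) :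
    Subsingleton (Coh.HH X L 0) ∨ Nonempty (L ≅ Coh.structureModule X) := by
  classical
  have key : ∀ φ : Coh.structureModule X ⟶ L, CohB1.genLocus L φ = ⊥ ∨ CohB1.genLocus L φ = ⊤ := by
    intro φ
    let G := CohB1.genLocus L φ
    have hC : ∀ C ∈ irreducibleComponents (X : Type u), ((C ∩ (G : Set X)).Nonempty) → C ⊆ G := by
      intro C hC hne
      let Z : irreducibleComponents (X : Type u) := ⟨C, hC⟩
      let ι := CompDeg18.compι Z
      letI : (CompDeg18.comp Z).Over (Spec (CommRingCat.of k)) := ⟨ι ≫ (X ↘ (Spec (CommRingCat.of k)))⟩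
      haveI : IsProper ((CompDeg18.comp Z) ↘ Spec (CommRingCat.of k)) :=
        inferInstanceAs (IsProper (ι ≫ (X ↘ (Spec (CommRingCat.of k)))))
      haveI : IsIntegral (CompDeg18.comp Z) := CompDeg18.isIntegral_comp Z
      have hd : topologicalKrullDim (CompDeg18.comp Z) ≤ 1 := by
        have h := ι.isClosedEmbedding.isEmbedding.toHomeomorph
        have hr : Set.range ι = C := CompDeg18.range_compι Z
        rw [IsHomeomorph.topologicalKrullDim_eq _ h.isHomeomorph, hr, hdim C hC]
      let e := (PicLoc.pullbackStructureIso ι).symm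
      have hψ := Amp.genLocus_pullback ι hL φ e
      obtain ⟨x, hxC, hxG⟩ := hne
      obtain ⟨w, rfl⟩ : x ∈ Set.range ι := by rw [CompDeg18.range_compι]; exact hxC
      have hL' := PicLoc.isInvertible_pullback ι hL
      have hne' : e.hom ≫ (Scheme.Modules.pullback ι).map φ ≠ 0 := fun h0 => by
        have hw : w ∈ CohB1.genLocus _ (e.hom ≫ (Scheme.Modules.pullback ι).map φ) := by rw [hψ]; exact hxG
        rw [h0, Amp.mem_genLocus_iff hL'] at hw
        refine Amp.not_gen_zero hL' w ?_
        have h1 : Amp.gval (0 : Coh.structureModule (CompDeg18.comp Z) ⟶ (Scheme.Modules.pullback ι).obj L) = 0 := rfl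
        rwa [h1, Amp.gm, map_zero] at hw
      obtain ⟨h1, h2⟩ := CurveAmple18.deg_section (k := k) hd hL' _ (CurveAmple18.gval_ne_zero hne')
      rw [Amp.secHom_gval] at h2
      haveI := h2 (le_antisymm (hdeg C hC) h1)
      have htop := CurveAmple18.genLocus_eq_top_of_isIso (e.hom ≫ (Scheme.Modules.pullback ι).map φ)
      rw [hψ] at htop
      intro y hy
      obtain ⟨v, rfl⟩ : y ∈ Set.range ι := by rw [CompDeg18.range_compι]; exact hy
      exact htop.ge (Set.mem_univ v)
    have hclosed : IsClosed (G : Set X) := by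
      have hG : (G : Set X) = ⋃ C ∈ {C | C ∈ irreducibleComponents (X : Type u) ∧ (C ∩ (G : Set X)).Nonempty}, C := by
        refine subset_antisymm (fun x hx => ?_) (Set.iUnion₂_subset fun C hC' => hC C hC'.1 hC'.2)
        exact Set.mem_iUnion₂.mpr ⟨irreducibleComponent x, ⟨irreducibleComponent_mem_irreducibleComponents x,
          x, mem_irreducibleComponent, hx⟩, mem_irreducibleComponent⟩
      rw [hG]
      exact (TopologicalSpace.NoetherianSpace.finite_irreducibleComponents.subset fun C h => h.1).isClosed_biUnion
        fun C h => isClosed_of_mem_irreducibleComponents C h.1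
    rcases isClopen_iff.mp ⟨hclosed, G.2⟩ with h | h
    · exact Or.inl (TopologicalSpace.Opens.ext h)
    · exact Or.inr (TopologicalSpace.Opens.ext h)
  by_cases h : ∃ φ : Coh.structureModule X ⟶ L, CohB1.genLocus L φ = ⊤
  · obtain ⟨φ, hφ⟩ := h
    haveI := CurveAmple18.isIso_of_genLocus_eq_top hL φ hφ
    exact Or.inr ⟨(asIso φ).symm⟩
  · left
    have hz : ∀ t : Γ(L, (⊤ : X.Opens)), t = 0 := fun t => by
      refine Amp.eq_of_gm fun x hx => ?_
      have hG := (key (M1.secHom t)).resolve_right fun hh => h ⟨_, hh⟩
      obtain ⟨U, e, a, hxU, -, -, -, ha, hU⟩ := Amp.exists_local hL (M1.secHom t) (x := x) (V := ⊤) trivial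
      rw [hG, bot_inf_eq] at hU
      rw [(AlgebraicGeometry.basicOpen_eq_bot_iff a).mp hU.symm, zero_smul, Amp.gval_secHom] at ha
      rw [← Amp.gm_res (le_top : U ≤ ⊤) hxU, ← ha]
      exact (map_zero _).trans (map_zero _).symm
    exact ⟨fun p q => (CurveCoh17.hh0 _).injective ((hz _).trans (hz _).symm)⟩


end Groth.Agent.S7641
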