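import Groth.Statements.S7643
import Groth.Agent.Lib.CurveAmple18.Basic
import Groth.Agent.Lib.CurveCoh17.Degree

set_option autoImplicit false
universe u
open CategoryTheory CategoryTheory.Limits AlgebraicGeometry
open Variety

namespace Groth.Agent.S7643

/-- Let X be proper of dimension at most one over a field k and let 0 → E₁ → E₂ → E₃ → 0 be a short
exact sequence of finite locally free modules of constant ranks n₁, n₂, n₃. Then deg(E₂) = deg(E₁) +
deg(E₃). -/
theorem result (k : Type u) [Field k] (X : Scheme.{u}) [X.Over (Spec (CommRingCat.of k))] [IsProper (X ↘ (Spec (CommRingCat.of k)))]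
    (hdim : topologicalKrullDim X ≤ 1) (S : ShortComplex X.Modules) (hS : S.ShortExact)
    (n₁ n₂ n₃ : ℕ) (h₁ : FlatMod.IsFinLocFreeOfRank n₁ S.X₁) (h₂ : FlatMod.IsFinLocFreeOfRank n₂ S.X₂)
    (h₃ : FlatMod.IsFinLocFreeOfRank n₃ S.X₃) :
    Curv2.deg k X S.X₂ n₂ = Curv2.deg k X S.X₁ n₁ + Curv2.deg k X S.X₃ n₃ := by
  have hX := CurveAmple18.curveLike k X hdim
  haveI := hX.noetherian
  have hadd := hX.deg_shortExact hS h₁ h₃
  rcases isEmpty_or_nonempty X with hX0 | ⟨⟨x⟩⟩
  · have hz : ∀ M : X.Modules, Curv2.euler k X M = 0 := fun M => by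
      have hs : CurveCoh17.SuppIn M (∅ : Finset X) := ⟨by simp, fun y => isEmptyElim y⟩
      haveI : Subsingleton (Coh.HH X M 0) := (CurveCoh17.hh0 M).toEquiv.subsingleton_congr.2
        ⟨fun s t => M1.section_ext _ _ fun y => isEmptyElim y⟩
      rw [hs.euler_eq inferInstance, Module.finrank_zero_of_subsingleton, Nat.cast_zero]
    simp only [Curv2.deg, hz]
    ring
  · obtain ⟨e₁⟩ := CurveCoh17.nonempty_stalk_equiv h₁ x
    obtain ⟨e₂⟩ := CurveCoh17.nonempty_stalk_equiv h₂ x
    obtain ⟨e₃⟩ := CurveCoh17.nonempty_stalk_equiv h₃ x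
    haveI := hS.mono_f
    haveI := hS.epi_g
    have hi : Function.Injective (CurveCoh17.stalkLin S.f x) := (M1.mono_iff_stalk S.f).1 hS.mono_f x
    have hs : Function.Surjective (CurveCoh17.stalkLin S.g x) := (M1.epi_iff_stalk S.g).1 hS.epi_g x
    haveI : Module.Free (X.presheaf.stalk x) (S.X₃.presheaf.stalk x) := Module.Free.of_equiv e₃.symm
    have hex : Function.Exact (CurveCoh17.stalkLin S.f x) (CurveCoh17.stalkLin S.g x) := by
      intro c
      refine ⟨fun hc => (M1.exact_iff_stalk_eq_zero S).1 hS.exact x c hc, ?_⟩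
      rintro ⟨a, rfl⟩
      rw [← CurveCoh17.stalkLin_comp, S.zero]
      show (M1.stalkAb x).map (0 : S.X₁ ⟶ S.X₃) a = 0
      rw [Functor.map_zero]
      rfl
    obtain ⟨σ, hσ⟩ := Module.projective_lifting_property (CurveCoh17.stalkLin S.g x) LinearMap.id hs
    have eq := (e₁.symm.prodCongr e₃.symm).trans
      ((hex.splitSurjectiveEquiv hi ⟨σ, hσ⟩).1.symm.trans e₂)
    have h := eq.finrank_eq
    rw [Module.finrank_prod, Module.finrank_fin_fun, Module.finrank_fin_fun, Module.finrank_fin_fun] at h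
    rw [← h]
    exact hadd

end Groth.Agent.S7643
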