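import Groth.Statements.S7644
import Groth.Agent.Lib.VarDim.Top
import Mathlib.AlgebraicGeometry.Morphisms.Proper

set_option autoImplicit false
universe u
open CategoryTheory CategoryTheory.Limits AlgebraicGeometry
open Variety

namespace Groth.Agent.S7644

/-- If X is an irreducible scheme of positive dimension, separated over a field k, and x is a closed
point of X, then the open subscheme obtained by removing x is not proper over k. -/
theorem result (k : Type u) [Field k] (X : Scheme.{u}) [X.Over (Spec (CommRingCat.of k))]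
    [IsSeparated (X ↘ (Spec (CommRingCat.of k)))] [IrreducibleSpace X] (hdim : 0 < topologicalKrullDim X)
    (x : X) (hx : IsClosed ({x} : Set X)) :
    ¬ IsProper (Scheme.Opens.ι (⟨({x} : Set X)ᶜ, hx.isOpen_compl⟩ : X.Opens) ≫ (X ↘ (Spec (CommRingCat.of k)))) := by
  intro hp
  set f := X ↘ Spec (CommRingCat.of k)
  let U : X.Opens := ⟨({x} : Set X)ᶜ, hx.isOpen_compl⟩
  haveI : IsProper (U.ι ≫ f) := hp
  haveI : IsProper U.ι := IsProper.of_comp U.ι f
  have hU : IsClosed (({x} : Set X)ᶜ) := by
    have := U.ι.isClosedMap.isClosed_range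
    rwa [Scheme.Opens.range_ι] at this
  rcases isClopen_iff.1 (⟨hx, compl_compl ({x} : Set X) ▸ hU.isOpen_compl⟩ : IsClopen ({x} : Set X)) with h | h
  · exact (Set.singleton_ne_empty x) h
  · haveI : Subsingleton X := ⟨fun a b => by
      have ha : a ∈ ({x} : Set X) := h ▸ Set.mem_univ a
      have hb : b ∈ ({x} : Set X) := h ▸ Set.mem_univ b
      rw [Set.mem_singleton_iff.1 ha, Set.mem_singleton_iff.1 hb]⟩
    exact absurd hdim (not_lt.2 (topologicalKrullDim_zero_of_discreteTopology X))

end Groth.Agent.S7644
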