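import Groth.Statements.S7646
import Groth.Agent.Lib.AmpleImm18.AffineCrit
import Groth.Agent.Lib.AffineFin18.Basic

set_option autoImplicit false
universe u
open CategoryTheory CategoryTheory.Limits AlgebraicGeometry
open Variety

namespace Groth.Agent.S7646

/-- Let X be separated and of finite type over a field k with dim X ≤ 1, and assume that no irreducible
component of X of dimension one, given its reduced induced structure, is proper over k. Then X is
affine. -/
theorem result (k : Type u) [Field k] (X : Scheme.{u}) [X.Over (Spec (CommRingCat.of k))]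
    [IsSeparated (X ↘ (Spec (CommRingCat.of k)))] [LocallyOfFiniteType (X ↘ (Spec (CommRingCat.of k)))]
    [IsNoetherian X] (hdim : topologicalKrullDim X ≤ 1)
    (h : ∀ (C : Set X) (hC : C ∈ irreducibleComponents (X : Type u)), topologicalKrullDim C = 1 →
      ¬ IsProper ((X.irreducibleComponentIdeal C hC).radical.subschemeι ≫ (X ↘ (Spec (CommRingCat.of k))))) :
    IsAffine X := by
  refine Groth.Agent.AmpleImm18.isAffine_of_forall_not_isProper (X ↘ (Spec (CommRingCat.of k))) hdim
    fun η hη hncl hp => ?_
  have hC : closure ({η} : Set X) ∈ irreducibleComponents (X : Type u) :=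
    Groth.Agent.AffineFin18.closure_mem_irreducibleComponents hη
  refine h _ hC ?_ ?_
  · rw [Groth.Agent.VarDim.dim_closure_singleton (X ↘ (Spec (CommRingCat.of k))) η]
    have h0 : Groth.Agent.VarDim.sdim (X ↘ (Spec (CommRingCat.of k))) η ≠ 0 := fun h0 =>
      hncl ((Groth.Agent.VarDim.sdim_eq_zero_iff_isClosed _ η).1 h0)
    have h1 : ((Groth.Agent.VarDim.sdim (X ↘ (Spec (CommRingCat.of k))) η : ℕ) : WithBot ℕ∞) ≤ 1 := by
      refine le_trans ?_ hdim
      rw [Groth.Agent.VarDim.dim_eq_iSup_sdim (X ↘ (Spec (CommRingCat.of k)))]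
      exact le_iSup (fun z : X => ((Groth.Agent.VarDim.sdim (X ↘ (Spec (CommRingCat.of k))) z : ℕ) : WithBot ℕ∞)) η
    have h1' : Groth.Agent.VarDim.sdim (X ↘ (Spec (CommRingCat.of k))) η ≤ 1 := by exact_mod_cast h1
    rw [show Groth.Agent.VarDim.sdim (X ↘ (Spec (CommRingCat.of k))) η = 1 by omega]
    rfl
  · rw [← Scheme.IdealSheafData.vanishingIdeal_support]
    exact hp

end Groth.Agent.S7646
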