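import Groth.Statements.S7647
import Groth.Agent.Lib.AmpleFin18.PushEuler
import Groth.Agent.Lib.TensorMod.PullTensor
import Groth.Agent.Lib.TensorMod.Invertible
import Groth.Agent.Lib.Twist.Pullback
import Mathlib.Algebra.MvPolynomial.Funext

set_option autoImplicit false
universe u
open CategoryTheory CategoryTheory.Limits AlgebraicGeometry
open Variety

namespace Groth.Agent.S7647

/-- Let X be proper over a field k, Z ⊆ X a closed subscheme of dimension ≤ 1 and L an invertible
module. Then the intersection number (L · Z), i.e. the coefficient of n in the polynomial computing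
χ(X, O_Z ⊗ L^{⊗n}), equals the degree of L|_Z on Z. -/
theorem result (k : Type u) [Field k] (X : Scheme.{u}) [X.Over (Spec (CommRingCat.of k))] [IsProper (X ↘ (Spec (CommRingCat.of k)))]
    (D : X.IdealSheafData) (hD : topologicalKrullDim (D.support : Set X) ≤ 1)
    (L : X.Modules) (hL : PicF.IsInvertible L) (P : MvPolynomial (Fin 1) ℚ)
    (hP : ∀ n : Fin 1 → ℕ, (Curv2.euler k X (Curv2.tensorPows (ClSub.quotMod D) 1 (fun _ => L) n) : ℚ) = MvPolynomial.eval (fun i => (n i : ℚ)) P) :
    MvPolynomial.coeff (Finsupp.equivFunOnFinite.symm fun _ : Fin 1 => 1) P =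
      (@Curv2.deg k _ D.subscheme ⟨D.subschemeι ≫ (X ↘ (Spec (CommRingCat.of k)))⟩
        ((Scheme.Modules.pullback D.subschemeι).obj L) 1 : ℚ) := by
  letI : D.subscheme.Over (Spec (CommRingCat.of k)) := ⟨D.subschemeι ≫ (X ↘ (Spec (CommRingCat.of k)))⟩
  haveI : IsProper (D.subscheme ↘ Spec (CommRingCat.of k)) :=
    inferInstanceAs (IsProper (D.subschemeι ≫ (X ↘ (Spec (CommRingCat.of k)))))
  have hdim : topologicalKrullDim D.subscheme ≤ 1 := by
    refine le_trans ?_ hD
    let f : D.subscheme → (D.support : Set X) := fun z => ⟨D.subschemeι z, by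
      rw [← Scheme.IdealSheafData.range_subschemeι]; exact ⟨z, rfl⟩⟩
    have hf : Topology.IsInducing f := by
      exact (Topology.IsInducing.subtypeVal (t := (D.support : Set X))).of_comp_iff.1
        D.subschemeι.isClosedEmbedding.isInducing
    exact hf.topologicalKrullDim_le
  have hZ := Groth.Agent.CurveAmple18.curveLike k D.subscheme hdim
  let N := (Scheme.Modules.pullback D.subschemeι).obj L
  have hN : PicF.IsInvertible N := Groth.Agent.Twist.isInvertible_pullback _ hL
  have hpow : ∀ m : ℕ, Nonempty ((Scheme.Modules.pullback D.subschemeι).obj (CohB1.tensorPow L m) ≅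
      CohB1.tensorPow N m) := by
    intro m
    induction m with
    | zero => exact ⟨Groth.Agent.Twist.pullbackUnitIso _⟩
    | succ m ih =>
      obtain ⟨e⟩ := ih
      exact ⟨Groth.Agent.M2.pullTensorIso _ _ _ ≪≫ Groth.Agent.M2.tensorIso e (Iso.refl _)⟩
  have he : ∀ n : Fin 1 → ℕ, Curv2.euler k X (Curv2.tensorPows (ClSub.quotMod D) 1 (fun _ => L) n) =
      (n 0 : ℤ) * Curv2.deg k D.subscheme N 1 + Curv2.euler k D.subscheme (Coh.structureModule D.subscheme) := by
    intro n
    have hLn := Groth.Agent.M2.isInvertible_tensorPow hL (n 0)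
    haveI := Groth.Agent.AmpleFin18.isIso_projHom_of_ofRank D.subschemeι (CohB1.tensorPow L (n 0))
      (Coh.structureModule D.subscheme) ((Groth.Agent.M2.isInvertible_iff_isFinLocFreeOfRank_one _).1 hLn)
    show Curv2.euler k X (CohB1.tensorMod (ClSub.quotMod D) (CohB1.tensorPow L (n 0))) = _
    have hQ : Coh.IsQCoh ((Scheme.Modules.pullback D.subschemeι).obj (CohB1.tensorPow L (n 0))) :=
      Groth.Agent.Twist.isQCoh_of_isInvertible (Groth.Agent.Twist.isInvertible_pullback _ hLn)
    rw [Groth.Agent.CurveCoh17.euler_iso (Groth.Agent.M2.tensorComm _ _ ≪≫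
        asIso (Groth.Agent.AmpleFin18.projHom D.subschemeι (CohB1.tensorPow L (n 0))
          (Coh.structureModule D.subscheme))),
      Groth.Agent.CurveCoh17.euler_iso ((Scheme.Modules.pushforward D.subschemeι).mapIso
        (Groth.Agent.M2.tensorRUnit _ )),
      Groth.Agent.AmpleFin18.euler_push D.subschemeι rfl _ hQ,
      Groth.Agent.CurveCoh17.euler_iso (hpow (n 0)).some, ← hZ.deg_tensorPow hN (n 0), Curv2.deg]
    push_cast
    ring
  set d := Curv2.deg k D.subscheme N 1
  set c := Curv2.euler k D.subscheme (Coh.structureModule D.subscheme)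
  have hP' : P = MvPolynomial.C (d : ℚ) * MvPolynomial.X 0 + MvPolynomial.C (c : ℚ) := by
    refine MvPolynomial.funext_set (fun _ => Set.range (fun m : ℕ => (m : ℚ)))
      (fun _ => Set.infinite_range_of_injective Nat.cast_injective) fun x hx => ?_
    obtain ⟨m, hm⟩ := hx 0 trivial
    have h := hP fun _ => m
    rw [he] at h
    have hxe : x = fun _ => (m : ℚ) := funext fun i => by rw [Subsingleton.elim i 0]; exact hm.symm
    rw [hxe, ← h]
    simp only [map_add, map_mul, MvPolynomial.eval_C, MvPolynomial.eval_X]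
    push_cast
    ring
  have hs : (Finsupp.equivFunOnFinite.symm fun _ : Fin 1 => 1) = Finsupp.single (0 : Fin 1) 1 :=
    Finsupp.ext fun i => by rw [Subsingleton.elim i 0]; simp
  rw [hP', hs, MvPolynomial.coeff_add, MvPolynomial.coeff_C_mul, MvPolynomial.coeff_X, MvPolynomial.coeff_C]
  simp [Finsupp.single_eq_zero, eq_comm]

end Groth.Agent.S7647
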