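import Groth.Statements.S7651
import Groth.Agent.Lib.DimOne18.Basic

set_option autoImplicit false
universe u
open CategoryTheory CategoryTheory.Limits AlgebraicGeometry
open Variety

namespace Groth.Agent.S7651

/-- Let (A, m) be a Noetherian local ring of dimension one and f ∈ m. Then (1) m = √(f), (2) f lies in
no minimal prime of A, and (3) A_f ≅ ∏_{p minimal} A_p as A-algebras, are equivalent; such an f
exists; if A has depth one, for instance if A is reduced, they are also equivalent to (4) f is a
nonzerodivisor and to (5) A → A_f is the localization of A at all its nonzerodivisors; and if A is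
reduced they are also equivalent to (6) A_f ≅ ∏_{p minimal} κ(p) as A-algebras. -/
theorem result (A : Type u) [CommRing A] [IsLocalRing A]
    [IsNoetherianRing A] (hdim : ringKrullDim A = 1) :
    (∃ f ∈ IsLocalRing.maximalIdeal A, ∀ p ∈ minimalPrimes A, f ∉ p) ∧
    ∀ f ∈ IsLocalRing.maximalIdeal A,
      ((IsLocalRing.maximalIdeal A = (Ideal.span {f}).radical) ↔ (∀ p ∈ minimalPrimes A, f ∉ p)) ∧
      ((∀ p ∈ minimalPrimes A, f ∉ p) ↔
        Nonempty (Localization.Away f ≃ₐ[A] (∀ p : {p : PrimeSpectrum A // p.asIdeal ∈ minimalPrimes A}, Localization.AtPrime p.1.asIdeal))) ∧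
      ((LocCoh.depth A A = 1 ∨ IsReduced A) →
        ((∀ p ∈ minimalPrimes A, f ∉ p) ↔ f ∈ nonZeroDivisors A) ∧
        ((∀ p ∈ minimalPrimes A, f ∉ p) ↔ IsLocalization (nonZeroDivisors A) (Localization.Away f))) ∧
      (IsReduced A →
        ((∀ p ∈ minimalPrimes A, f ∉ p) ↔
          Nonempty (Localization.Away f ≃ₐ[A] (∀ p : {p : PrimeSpectrum A // p.asIdeal ∈ minimalPrimes A}, p.1.asIdeal.ResidueField)))) := by
  refine ⟨Groth.Agent.DimOne18.exists_notMem_minimal hdim, fun f hf =>
    ⟨Groth.Agent.DimOne18.radical_eq_iff hdim hf,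
      ⟨fun h => Groth.Agent.DimOne18.nonempty_pi_equiv hdim hf h, fun ⟨e⟩ =>
        Groth.Agent.DimOne18.notMem_of_algEquiv
          (S := fun p : PrimeSpectrum A => Localization.AtPrime p.asIdeal)
          (fun p x hx hu => (IsLocalization.AtPrime.to_map_mem_maximal_iff
            (Localization.AtPrime p.asIdeal) p.asIdeal x).2 hx hu) e⟩,
      fun h => ⟨⟨fun hp => Groth.Agent.DimOne18.regular_of_notMem hdim h hf hp,
          Groth.Agent.DimOne18.notMem_minimal_of_regular⟩,
        ⟨fun hp => Groth.Agent.DimOne18.isLocalization_nzd hdim h hf hp,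
          Groth.Agent.DimOne18.notMem_of_isLocalization_nzd⟩⟩,
      fun h => ⟨fun hp => Groth.Agent.DimOne18.nonempty_residue_equiv hdim hf hp, fun ⟨e⟩ =>
        Groth.Agent.DimOne18.notMem_of_algEquiv (S := fun p : PrimeSpectrum A => p.asIdeal.ResidueField)
          (fun p x hx hu => hu.ne_zero ((Ideal.algebraMap_residueField_eq_zero (I := p.asIdeal)).2 hx)) e⟩⟩⟩

end Groth.Agent.S7651
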