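import Groth.Statements.S7658
import Groth.Agent.Lib.VarDim.Top
import Mathlib.AlgebraicGeometry.Morphisms.Separated
import Mathlib.AlgebraicGeometry.Morphisms.ClosedImmersion

set_option autoImplicit false
universe u
open CategoryTheory CategoryTheory.Limits AlgebraicGeometry
open Variety

namespace Groth.Agent.S7658

/-- A separated morphism of schemes f : X → Y such that X has an open covering on whose members f
restricts to open immersions, and such that no two distinct generic points of irreducible components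
of X have the same image under f, is an open immersion. -/
theorem result {X Y : Scheme.{u}}
    (f : X ⟶ Y) [IsSeparated f]
    (hloc : ∀ x : X, ∃ U : X.Opens, x ∈ U ∧ IsOpenImmersion (U.ι ≫ f))
    (hinj : ∀ ξ ξ' : X, closure ({ξ} : Set X) ∈ irreducibleComponents (X : Type u) → closure ({ξ'} : Set X) ∈ irreducibleComponents (X : Type u) →
      f.base ξ = f.base ξ' → ξ = ξ') :
    IsOpenImmersion f := by
  choose U hxU hU using hloc
  have happ : ∀ {W : X.Opens} (a : (W : Scheme.{u})), (W.ι ≫ f) a = f (W.ι a) := fun a => rfl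
  have hinjU : ∀ x, ∀ a ∈ U x, ∀ b ∈ U x, f a = f b → a = b := fun x a ha b hb h => by
    haveI := hU x
    have := ((U x).ι ≫ f).isOpenEmbedding.injective (a₁ := (⟨a, ha⟩ : U x)) (a₂ := ⟨b, hb⟩) h
    exact congrArg Subtype.val this
  have hopen : IsOpenMap f := by
    intro O hO
    rw [isOpen_iff_forall_mem_open]
    rintro _ ⟨a, haO, rfl⟩
    haveI := hU a
    refine ⟨((U a).ι ≫ f) '' ((U a).ι ⁻¹' O), ?_, ((U a).ι ≫ f).isOpenEmbedding.isOpenMap _ (hO.preimage (U a).ι.continuous),
      ⟨⟨a, hxU a⟩, haO, rfl⟩⟩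
    rintro _ ⟨b, hb, rfl⟩
    exact ⟨_, hb, rfl⟩
  have hmax : ∀ a : X, ∀ η : Y, (∀ z, z ⤳ η → z = η) → f a = η → closure ({a} : Set X) ∈ irreducibleComponents (X : Type u) := by
    intro a η hη hfa
    refine ⟨isIrreducible_singleton.closure, fun Z hZ hle => ?_⟩
    intro z hz
    have hg : hZ.genericPoint ⤳ a := by
      rw [specializes_iff_mem_closure, hZ.genericPoint_closure_eq]
      exact subset_closure (hle (subset_closure rfl))
    have h1 : f hZ.genericPoint = f a := (hη _ (hfa ▸ hg.map f.continuous)).trans hfa.symm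
    have := hinjU a _ (hg.mem_open (U a).2 (hxU a)) a (hxU a) h1
    rw [← this, hZ.genericPoint_closure_eq]
    exact subset_closure hz
  have inj : Function.Injective f := by
    intro x x' hxx
    haveI := hU x
    haveI := hU x'
    set g := (U x).ι ≫ f
    set g' := (U x').ι ≫ f
    let Z := irreducibleComponent (f x)
    have hZ : IsIrreducible Z := isIrreducible_irreducibleComponent
    set η := hZ.genericPoint
    have hηy : η ⤳ f x := by
      rw [specializes_iff_mem_closure, hZ.closure_genericPoint isClosed_irreducibleComponent]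
      exact mem_irreducibleComponent
    have hη : ∀ z, z ⤳ η → z = η := fun z hz => by
      have hsub : Z ≤ closure {z} := by
        rw [← hZ.closure_genericPoint isClosed_irreducibleComponent]
        exact closure_minimal (Set.singleton_subset_iff.2 (specializes_iff_mem_closure.1 hz)) isClosed_closure
      have hle := (irreducibleComponent_mem_irreducibleComponents (f x)).2 isIrreducible_singleton.closure hsub
      refine (Specializes.antisymm ?_ hz).eq.symm
      rw [specializes_iff_mem_closure, hZ.closure_genericPoint isClosed_irreducibleComponent]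
      exact hle (subset_closure rfl)
    obtain ⟨a, ha⟩ : η ∈ Set.range g := hηy.mem_open g.isOpenEmbedding.isOpen_range ⟨⟨x, hxU x⟩, rfl⟩
    obtain ⟨a', ha'⟩ : η ∈ Set.range g' := hηy.mem_open g'.isOpenEmbedding.isOpen_range ⟨⟨x', hxU x'⟩, hxx.symm⟩
    have haa : (U x).ι a = (U x').ι a' := hinj _ _ (hmax _ η hη ha) (hmax _ η hη ha') (ha.trans ha'.symm)
    have hax : (U x).ι a ⤳ x := by
      have h1 : g a ⤳ g ⟨x, hxU x⟩ := by
        rw [ha]
        exact hηy
      exact (g.isOpenEmbedding.isInducing.specializes_iff.1 h1).map (U x).ι.continuous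
    let R : Y.Opens := g'.opensRange
    have hle : U x' ≤ f ⁻¹ᵁ R := fun w hw => ⟨⟨w, hw⟩, rfl⟩
    let j : (U x' : Scheme.{u}) ⟶ (f ⁻¹ᵁ R : X.Opens) := X.homOfLE hle
    have hj : j ≫ (f ∣_ R) = g'.isoOpensRange.hom := by
      rw [← cancel_mono R.ι, Category.assoc, morphismRestrict_ι, Scheme.homOfLE_ι_assoc,
        Scheme.Hom.isoOpensRange_hom_ι]
    haveI : IsSeparated (f ∣_ R) := IsZariskiLocalAtTarget.restrict (P := @IsSeparated) ‹IsSeparated f› R
    haveI : IsClosedImmersion (j ≫ (f ∣_ R)) := hj ▸ inferInstance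
    haveI : IsClosedImmersion j := IsClosedImmersion.of_comp j (f ∣_ R)
    have hxR : x ∈ f ⁻¹ᵁ R := ⟨⟨x', hxU x'⟩, hxx.symm⟩
    have hsp : (⟨(U x).ι a, hax.mem_open (f ⁻¹ᵁ R).2 hxR⟩ : (f ⁻¹ᵁ R : X.Opens)) ⤳ ⟨x, hxR⟩ :=
      Topology.IsInducing.subtypeVal.specializes_iff.1 hax
    have hja : j a' = (⟨(U x).ι a, hax.mem_open (f ⁻¹ᵁ R).2 hxR⟩ : (f ⁻¹ᵁ R : X.Opens)) := by
      apply (f ⁻¹ᵁ R).ι.isOpenEmbedding.injective
      rw [← Scheme.Hom.comp_apply, Scheme.homOfLE_ι]
      exact haa.symm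
    obtain ⟨b, hb⟩ : (⟨x, hxR⟩ : (f ⁻¹ᵁ R : X.Opens)) ∈ Set.range j :=
      hsp.mem_closed j.isClosedEmbedding.isClosed_range ⟨a', hja⟩
    have hbx : (U x').ι b = x := by
      have := congrArg (f ⁻¹ᵁ R).ι hb
      rw [← Scheme.Hom.comp_apply, Scheme.homOfLE_ι] at this
      exact this
    exact hinjU x' x (hbx ▸ b.2) x' (hxU x') hxx
  rw [IsOpenImmersion.iff_isIso_stalkMap]
  refine ⟨Topology.IsOpenEmbedding.of_continuous_injective_isOpenMap f.continuous inj hopen, fun x => ?_⟩
  haveI := hU x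
  have h := Scheme.Hom.stalkMap_comp (U x).ι f ⟨x, hxU x⟩
  haveI : IsIso (((U x).ι ≫ f).stalkMap ⟨x, hxU x⟩) := inferInstance
  rw [h] at this
  haveI : IsIso (f.stalkMap ((U x).ι ⟨x, hxU x⟩) ≫ (U x).ι.stalkMap ⟨x, hxU x⟩) := this
  exact IsIso.of_isIso_comp_right (f.stalkMap ((U x).ι ⟨x, hxU x⟩)) ((U x).ι.stalkMap ⟨x, hxU x⟩)

end Groth.Agent.S7658
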