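import Groth.Statements.S7661


set_option autoImplicit false
universe u
open CategoryTheory CategoryTheory.Limits AlgebraicGeometry
open Variety

namespace Groth.Agent.S7661

/-- Let A be a ring, I an ideal, p_1, …, p_r prime ideals with I ⊄ p_i for all i, and let f̄ ∈ A/I. Then
f̄ lifts to an element f ∈ A with f ∉ p_i for all i. -/
theorem result (A : Type u) [CommRing A] (I : Ideal A)
    (s : Finset (Ideal A)) (hs : ∀ p ∈ s, p.IsPrime) (hI : ∀ p ∈ s, ¬ I ≤ p) (fbar : A ⧸ I) :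
    ∃ f : A, Ideal.Quotient.mk I f = fbar ∧ ∀ p ∈ s, f ∉ p := by
  classical
  obtain ⟨f₀, rfl⟩ := Ideal.Quotient.mk_surjective fbar
  let s' := s.filter fun p => ∀ q ∈ s, p ≤ q → q = p
  have hmem : ∀ {p}, p ∈ s' → p ∈ s ∧ ∀ q ∈ s, p ≤ q → q = p := fun hp => Finset.mem_filter.mp hp
  have hmax : ∀ p ∈ s, ∃ q ∈ s', p ≤ q := by
    intro p hp
    obtain ⟨q, hpq, hq⟩ := s.exists_le_maximal hp
    exact ⟨q, Finset.mem_filter.mpr ⟨hq.1, fun r hr hqr => le_antisymm (hq.2 hr hqr) hqr⟩, hpq⟩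
  let T := s'.filter fun p => f₀ ∈ p
  let J : Ideal A := I * ∏ p ∈ s'.filter (fun p => f₀ ∉ p), p
  have hnot : ¬ (J : Set A) ⊆ ⋃ p ∈ (T : Set (Ideal A)), (p : Set A) := by
    rw [Ideal.subset_union_prime (f := fun p : Ideal A => p) ⊥ ⊥ fun p hp _ _ => hs p (hmem (Finset.mem_filter.mp hp).1).1]
    rintro ⟨p, hp, hle⟩
    obtain ⟨hp', hfp⟩ := Finset.mem_filter.mp hp
    rcases (hs p (hmem hp').1).mul_le.mp hle with h | h
    · exact hI p (hmem hp').1 h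
    · obtain ⟨q, hq, hqp⟩ := (hs p (hmem hp').1).prod_le.mp h
      obtain ⟨hq', hfq⟩ := Finset.mem_filter.mp hq
      exact hfq ((hmem hq').2 p (hmem hp').1 hqp ▸ hfp)
  obtain ⟨i, hi, hiT⟩ := Set.not_subset.mp hnot
  refine ⟨f₀ + i, by rw [map_add, Ideal.Quotient.eq_zero_iff_mem.mpr (Ideal.mul_le_left hi : i ∈ I), add_zero], fun p hp hfi => ?_⟩
  obtain ⟨q, hq, hpq⟩ := hmax p hp
  by_cases hfq : f₀ ∈ q
  · exact hiT (Set.mem_iUnion₂.mpr ⟨q, Finset.mem_filter.mpr ⟨hq, hfq⟩, (Ideal.add_mem_iff_right q hfq).mp (hpq hfi)⟩)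
  · have hiq : i ∈ q := (Ideal.prod_le_inf.trans (Finset.inf_le (f := fun p => p) (Finset.mem_filter.mpr ⟨hq, hfq⟩)) :
      _ ≤ q) (Ideal.mul_le_right hi)
    exact hfq ((Ideal.add_mem_iff_left q hiq).mp (hpq hfi))

end Groth.Agent.S7661
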