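import Groth.Statements.S7663
import Groth.Agent.Lib.KrullAkizuki.DVR

set_option autoImplicit false
universe u
open CategoryTheory CategoryTheory.Limits AlgebraicGeometry
open Variety

namespace Groth.Agent.S7663

/-- Let K be a field and A, B ⊆ K subrings with fraction field K, with A Noetherian of dimension one.
Then A ⊗ B → K is not surjective (equivalently, the subring generated by A and B is not K) if and
only if some discrete valuation ring O ⊆ K with fraction field K contains both A and B. -/
theorem result (K : Type u) [Field K]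
    (A : Subring K) [IsFractionRing A K] (B : Subring K) [IsFractionRing B K] [IsNoetherianRing A] (hdim : ringKrullDim A = 1) :
    A ⊔ B ≠ ⊤ ↔ ∃ O : ValuationSubring K, IsDiscreteValuationRing O ∧ A ≤ O.toSubring ∧ B ≤ O.toSubring := by
  refine ⟨fun hne => ?_, ?_⟩
  swap
  · rintro ⟨O, hO, hA, hB⟩ h
    apply IsDiscreteValuationRing.not_isField O
    have hall : ∀ x : K, x ∈ O := fun x => sup_le hA hB (h.ge (Subring.mem_top x))
    refine MulEquiv.isField (Field.toIsField K) (e := ?_)
    exact { toFun := fun x => (x : K), invFun := fun x => ⟨x, hall x⟩, left_inv := fun _ => rfl,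
            right_inv := fun _ => rfl, map_mul' := fun _ _ => rfl }
  haveI : Ring.KrullDimLE 1 A := Ring.krullDimLE_iff.2 (by rw [hdim]; simp)
  set C : Subring K := A ⊔ B
  letI : Algebra A C := (Subring.inclusion (le_sup_left : A ≤ C)).toAlgebra
  haveI : IsScalarTower A C K := IsScalarTower.of_algebraMap_eq fun _ => rfl
  haveI : IsNoetherianRing C := Groth.Agent.KrullAkizuki.isNoetherianRing_of_between A K K C Subtype.val_injective
  haveI : IsFractionRing C K := IsFractionRing.of_field C K fun z => by
    obtain ⟨a, b, hb, rfl⟩ := IsFractionRing.div_surjective A z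
    exact ⟨algebraMap A C a, algebraMap A C b, rfl⟩
  have hCf : ¬ IsField C := fun hf => hne (eq_top_iff.2 fun z _ => by
    obtain ⟨a, b, hb, rfl⟩ := IsFractionRing.div_surjective A z
    have hb0 : algebraMap A C b ≠ 0 := fun h =>
      nonZeroDivisors.ne_zero hb (Subtype.ext (show (b : K) = ((0 : A) : K) from congrArg (fun c : C => (c : K)) h))
    obtain ⟨c, hc⟩ := hf.mul_inv_cancel hb0
    have e1 : (b : K) * (c : K) = 1 := congrArg Subtype.val hc
    show algebraMap A K a / algebraMap A K b ∈ C
    rw [div_eq_mul_inv, show (algebraMap A K b)⁻¹ = (c : K) from inv_eq_of_mul_eq_one_right e1]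
    exact C.mul_mem (algebraMap A C a).2 c.2)
  obtain ⟨M, hM⟩ := Ideal.exists_maximal C
  have hM0 : M ≠ ⊥ := fun h => hCf (by subst h; exact Ring.isField_iff_maximal_bot.2 hM)
  let R := Localization.AtPrime M
  letI : Algebra R K := (IsLocalization.lift (M := M.primeCompl) (g := algebraMap C K) fun y =>
    IsUnit.mk0 _ ((map_ne_zero_iff _ (IsFractionRing.injective C K)).2
      (fun h => y.2 (by rw [h]; exact zero_mem _)))).toAlgebra
  haveI : IsScalarTower C R K := IsScalarTower.of_algebraMap_eq fun r => (IsLocalization.lift_eq _ r).symm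
  haveI : IsFractionRing R K := IsFractionRing.isFractionRing_of_isDomain_of_isLocalization M.primeCompl R K
  have hR : ¬ IsField R := by
    rw [IsLocalRing.isField_iff_maximalIdeal_eq]
    intro h
    obtain ⟨a, ha, ha0⟩ := Submodule.exists_mem_ne_zero_of_ne_bot hM0
    have h0 : algebraMap C R a ∈ IsLocalRing.maximalIdeal R := (IsLocalization.AtPrime.to_map_mem_maximal_iff R M a).2 ha
    rw [h, Ideal.mem_bot, ← map_zero (algebraMap C R)] at h0
    exact ha0 (IsLocalization.injective R M.primeCompl_le_nonZeroDivisors h0)
  obtain ⟨V, hV, hRV, -⟩ := Groth.Agent.KrullAkizuki.exists_dvr_dominating R hR K K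
  have hCV : C ≤ V.toSubring := fun x hx => by
    have := hRV (algebraMap C R ⟨x, hx⟩)
    rwa [← IsScalarTower.algebraMap_apply C R K] at this
  exact ⟨V, hV, le_sup_left.trans hCV, le_sup_right.trans hCV⟩

end Groth.Agent.S7663
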