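import Groth.Statements.S7664
import Groth.Agent.Lib.Semilocal18.Glue

set_option autoImplicit false
universe u
open CategoryTheory CategoryTheory.Limits AlgebraicGeometry
open Variety

namespace Groth.Agent.S7664

/-- Let K be a field, A ⊆ K a Noetherian semi-local domain of dimension one and B ⊆ K a discrete
valuation ring, both with fraction field K, and R = A ∩ B. (a) If some unit of A does not lie in R,
then Spec A and Spec B each map to Spec R by an open immersion, Spec R is the union of the two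
images, and the natural map A ⊗_R B → K is an isomorphism. (b) If every unit of A lies in R, then B
dominates the local ring of A at one of its maximal ideals (A ⊆ B and the maximal ideal of B
contracts to a maximal ideal of A) and A ⊗ B → K is not surjective. -/
theorem result (K : Type u) [Field K]
    (A : Subring K) [IsFractionRing A K] [IsNoetherianRing A] (hdim : ringKrullDim A = 1) (hsl : Finite (MaximalSpectrum A))
    (B : ValuationSubring K) [IsDiscreteValuationRing B] :
    ((∃ u : A, IsUnit u ∧ (u : K) ∉ B) →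
      IsOpenImmersion (Spec.map (CommRingCat.ofHom (Subring.inclusion (inf_le_left : A ⊓ B.toSubring ≤ A)))) ∧
      IsOpenImmersion (Spec.map (CommRingCat.ofHom (Subring.inclusion (inf_le_right : A ⊓ B.toSubring ≤ B.toSubring)))) ∧
      Set.range (Spec.map (CommRingCat.ofHom (Subring.inclusion (inf_le_left : A ⊓ B.toSubring ≤ A)))).base ∪
        Set.range (Spec.map (CommRingCat.ofHom (Subring.inclusion (inf_le_right : A ⊓ B.toSubring ≤ B.toSubring)))).base = Set.univ ∧
      IsPushout (CommRingCat.ofHom (Subring.inclusion (inf_le_left : A ⊓ B.toSubring ≤ A)))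
        (CommRingCat.ofHom (Subring.inclusion (inf_le_right : A ⊓ B.toSubring ≤ B.toSubring)))
        (CommRingCat.ofHom A.subtype) (CommRingCat.ofHom B.toSubring.subtype)) ∧
    ((∀ u : A, IsUnit u → (u : K) ∈ B) →
      (∃ h : A ≤ B.toSubring,
        (Ideal.comap (Subring.inclusion h) (IsLocalRing.maximalIdeal B)).IsMaximal) ∧ A ⊔ B.toSubring ≠ ⊤) := by
  haveI hfr : IsFractionRing B.toSubring K := inferInstanceAs (IsFractionRing B K)
  haveI : Ring.KrullDimLE 1 B := inferInstance
  have hB : Groth.Agent.Semilocal18.Good B.toSubring := by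
    have hd : ringKrullDim B = 1 := by
      refine le_antisymm (Ring.krullDimLE_iff.1 ‹Ring.KrullDimLE 1 B›) ?_
      exact Order.one_le_krullDim_iff.2 ⟨⟨⊥, Ideal.isPrime_bot⟩, ⟨IsLocalRing.maximalIdeal B, inferInstance⟩,
        (bot_lt_iff_ne_bot.2 (IsDiscreteValuationRing.not_a_field B) : (⊥ : Ideal B) < IsLocalRing.maximalIdeal B)⟩
    exact ⟨inferInstanceAs (IsNoetherianRing B), hfr, hd, inferInstanceAs (Finite (MaximalSpectrum B))⟩
  have hA : Groth.Agent.Semilocal18.Good A := ⟨inferInstance, inferInstance, hdim, hsl⟩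
  refine ⟨fun hu => ?_, fun hall => ?_⟩
  · obtain ⟨u, hu, huB⟩ := hu
    refine Groth.Agent.Semilocal18.glue_two A B.toSubring hA hB (eq_top_iff.2 fun z _ => ?_)
    obtain ⟨π, hπ⟩ := IsDiscreteValuationRing.exists_irreducible B
    have huK : (u : K) ∈ A ⊔ B.toSubring := (le_sup_left : A ≤ A ⊔ B.toSubring) u.2
    have hBle : ∀ b : B, (b : K) ∈ A ⊔ B.toSubring := fun b => (le_sup_right : B.toSubring ≤ A ⊔ B.toSubring) b.2
    obtain ⟨b, hb⟩ : ∃ b : B, (b : K) = (u : K)⁻¹ := by
      rcases B.mem_or_inv_mem (u : K) with h | h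
      · exact absurd h huB
      · exact ⟨⟨_, h⟩, rfl⟩
    have hu0 : (u : K) ≠ 0 := fun h => huB (h ▸ B.zero_mem)
    have hb0 : b ≠ 0 := fun h => by rw [h] at hb; exact hu0 (inv_eq_zero.1 hb.symm)
    obtain ⟨n, w, hbn⟩ := IsDiscreteValuationRing.eq_unit_mul_pow_irreducible hb0 hπ
    have hn : n ≠ 0 := by
      rintro rfl
      rw [pow_zero, mul_one] at hbn
      obtain ⟨c, hc⟩ := (hbn ▸ w.isUnit : IsUnit b).exists_right_inv
      have hc' : (b : K) * (c : K) = 1 := congrArg Subtype.val hc
      rw [hb, inv_mul_eq_one₀ hu0] at hc'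
      exact huB (hc' ▸ c.2)
    have hπinv : (π : K)⁻¹ ∈ A ⊔ B.toSubring := by
      have he : (π : K)⁻¹ = ((w : B) * π ^ (n - 1) : B) * (u : K) := by
        have h1 : ((w : B) : K) * (π : K) ^ (n - 1) * (π : K) = (u : K)⁻¹ := by
          rw [mul_assoc, ← pow_succ, Nat.sub_add_cancel (Nat.pos_of_ne_zero hn), ← hb, hbn]
          rfl
        refine (eq_inv_of_mul_eq_one_right ?_).symm
        show (π : K) * ((((w : B) : K) * (π : K) ^ (n - 1)) * (u : K)) = 1
        rw [← mul_assoc, mul_comm (π : K), h1, inv_mul_cancel₀ hu0]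
      rw [he]
      exact Subring.mul_mem _ (hBle _) huK
    obtain ⟨x, y, hy, rfl⟩ := IsFractionRing.div_surjective B z
    obtain ⟨m, v, hym⟩ := IsDiscreteValuationRing.eq_unit_mul_pow_irreducible (nonZeroDivisors.ne_zero hy) hπ
    have he : algebraMap B K x / algebraMap B K y = (x * (v⁻¹ : Bˣ) : B) * ((π : K)⁻¹) ^ m := by
      have hy0 : (y : K) ≠ 0 := fun h => nonZeroDivisors.ne_zero hy (Subtype.ext h)
      show (x : K) / (y : K) = _
      rw [div_eq_iff hy0, inv_pow, hym]
      push_cast
      have hπ0 : (π : K) ^ m ≠ 0 := pow_ne_zero _ fun h => hπ.ne_zero (Subtype.ext h)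
      have hv : ((v⁻¹ : Bˣ) : B).1 * ((v : B) : K) = 1 := congrArg Subtype.val v.inv_mul
      rw [mul_assoc, mul_comm ((v : B) : K) ((π : K) ^ m), ← mul_assoc ((π : K) ^ m)⁻¹, inv_mul_cancel₀ hπ0, one_mul,
        mul_assoc, hv, mul_one]
    rw [he]
    exact Subring.mul_mem _ (hBle _) (pow_mem hπinv m)
  · haveI : IsLocalRing B := inferInstance
    have hle : A ≤ B.toSubring := by
      intro a ha
      by_contra haB
      classical
      obtain ⟨c, hc⟩ := Ideal.pi_quotient_surjective (I := fun m : MaximalSpectrum A => m.asIdeal)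
        (fun m m' hne => Ideal.isCoprime_of_isMaximal fun he => hne (MaximalSpectrum.ext he))
        (fun m => Ideal.Quotient.mk m.asIdeal (if (⟨a, ha⟩ : A) ∈ m.asIdeal then 1 else 0))
      have hunit : ∀ N : ℕ, N ≠ 0 → IsUnit ((⟨a, ha⟩ : A) + c ^ N) := fun N hN => by
        by_contra hu
        obtain ⟨m, hm, hmem⟩ := exists_max_ideal_of_mem_nonunits hu
        have hcm := Ideal.Quotient.eq.1 (hc ⟨m, hm⟩)
        dsimp only at hcm
        split_ifs at hcm with h1
        · have h2 : c ∈ m := hm.isPrime.mem_of_pow_mem N ((Ideal.add_mem_iff_right _ h1).1 hmem)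
          exact hm.ne_top ((Ideal.eq_top_iff_one _).2 (by simpa using sub_mem h2 hcm))
        · rw [sub_zero] at hcm
          exact h1 ((Ideal.add_mem_iff_left _ (Ideal.pow_mem_of_mem _ hcm N (Nat.pos_of_ne_zero hN))).1 hmem)
      have h1 : a + (c : K) ∈ B := by simpa using hall _ (hunit 1 one_ne_zero)
      have h2 : a + (c : K) ^ 2 ∈ B := by simpa using hall _ (hunit 2 two_ne_zero)
      have hcB : (c : K) ∉ B := fun hc' => haB (by simpa using sub_mem h1 hc')
      have hci : (c : K)⁻¹ ∈ B := (B.mem_or_inv_mem _).resolve_left hcB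
      have h3 : (c : K) ^ 2 - (c : K) ∈ B := by
        have := sub_mem h2 h1
        simpa using this
      have hc0 : (c : K) ≠ 0 := fun h => hcB (h ▸ B.zero_mem)
      apply hcB
      have h4 : ((c : K) ^ 2 - (c : K)) * (c : K)⁻¹ + 1 ∈ B := B.add_mem _ _ (B.mul_mem _ _ h3 hci) B.one_mem
      rwa [show ((c : K) ^ 2 - (c : K)) * (c : K)⁻¹ + 1 = (c : K) by field_simp; ring] at h4
    refine ⟨⟨hle, ?_⟩, fun htop => ?_⟩
    · haveI := hA.krullDimLE
      haveI : (Ideal.comap (Subring.inclusion hle) (IsLocalRing.maximalIdeal B)).IsPrime := Ideal.IsPrime.comap _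
      refine Ring.krullDimLE_one_iff_of_noZeroDivisors.1 ‹_› _ (fun hbot => ?_) inferInstance
      have hall' : ∀ z : K, z ∈ B := fun z => by
        obtain ⟨x, y, hy, rfl⟩ := IsFractionRing.div_surjective A z
        have hu : IsUnit (Subring.inclusion hle y : B.toSubring) := by
          by_contra hn
          have hmem : y ∈ Ideal.comap (Subring.inclusion hle) (IsLocalRing.maximalIdeal B) :=
            Ideal.mem_comap.2 ((IsLocalRing.mem_maximalIdeal _).2 hn)
          rw [hbot, Ideal.mem_bot] at hmem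
          exact nonZeroDivisors.ne_zero hy hmem
        obtain ⟨w, hw⟩ := hu.exists_right_inv
        have hw' : (y : K) * (w : K) = 1 := congrArg Subtype.val hw
        show (x : K) / (y : K) ∈ B
        rw [div_eq_mul_inv, inv_eq_of_mul_eq_one_right hw']
        exact B.mul_mem _ _ (hle x.2) w.2
      obtain ⟨π, hπ⟩ := IsDiscreteValuationRing.exists_irreducible B
      exact hπ.not_isUnit (IsUnit.of_mul_eq_one (⟨_, hall' (π : K)⁻¹⟩ : B)
        (Subtype.ext (mul_inv_cancel₀ fun h => hπ.ne_zero (Subtype.ext h))))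
    · rw [sup_eq_right.2 hle] at htop
      obtain ⟨π, hπ⟩ := IsDiscreteValuationRing.exists_irreducible B
      exact hπ.not_isUnit (IsUnit.of_mul_eq_one (⟨_, (htop ▸ Subring.mem_top _ : (π : K)⁻¹ ∈ B.toSubring)⟩ : B)
        (Subtype.ext (mul_inv_cancel₀ fun h => hπ.ne_zero (Subtype.ext h))))

end Groth.Agent.S7664
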