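import Groth.Statements.S7666


set_option autoImplicit false
universe u
open CategoryTheory CategoryTheory.Limits AlgebraicGeometry
open Variety

namespace Groth.Agent.S7666

/-- Let A be a one-dimensional Noetherian local ring and L = ∏ A_p, the product over the minimal primes
of A. If a_1, a_2 ∈ m_A have the same image in L, then a_1 and a_2 have equal n-th powers for some
positive integer n. -/
theorem result (A : Type u) [CommRing A]
    [IsLocalRing A] [IsNoetherianRing A] (hdim : ringKrullDim A = 1)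
    (a₁ a₂ : A) (h₁ : a₁ ∈ IsLocalRing.maximalIdeal A) (h₂ : a₂ ∈ IsLocalRing.maximalIdeal A)
    (heq : ∀ p : {p : PrimeSpectrum A // p.asIdeal ∈ minimalPrimes A},
      algebraMap A (Localization.AtPrime p.1.asIdeal) a₁ = algebraMap A (Localization.AtPrime p.1.asIdeal) a₂) :
    ∃ n : ℕ, 0 < n ∧ a₁ ^ n = a₂ ^ n := by
  set d := a₁ - a₂ with hd
  set m := IsLocalRing.maximalIdeal A
  let I : Ideal A := LinearMap.ker (LinearMap.mulRight A d)
  have hI : ∀ x, x ∈ I ↔ x * d = 0 := fun x => LinearMap.mem_ker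
  have hmem : ∀ p : PrimeSpectrum A, p.asIdeal ∈ minimalPrimes A → ¬ I ≤ p.asIdeal := by
    intro p hp hle
    obtain ⟨c, hc⟩ := (IsLocalization.eq_iff_exists p.asIdeal.primeCompl _).1 (heq ⟨p, hp⟩)
    refine c.2 (hle ((hI _).2 ?_))
    rw [hd, mul_sub, hc, sub_self]
  have hrad : m ≤ I.radical := by
    rw [Ideal.radical_eq_sInf]
    refine le_sInf ?_
    rintro q ⟨hq, hqp⟩
    haveI := hqp
    haveI : Ring.KrullDimLE 1 A := Ring.krullDimLE_iff.2 hdim.le
    have hnot : q ∉ minimalPrimes A := fun h => hmem ⟨q, hqp⟩ h hq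
    rcases Ring.krullDimLE_one_iff.1 (inferInstance : Ring.KrullDimLE 1 A) q hqp with h | h
    · exact absurd h hnot
    · exact (IsLocalRing.eq_maximalIdeal h).ge
  obtain ⟨N, hN⟩ := Ideal.exists_pow_le_of_le_radical_of_fg hrad (IsNoetherian.noetherian _)
  refine ⟨N + 1, N.succ_pos, sub_eq_zero.1 ?_⟩
  rw [← geom_sum₂_mul]
  refine (hI _).1 (hN (Ideal.sum_mem _ fun i hi => ?_))
  rw [show N + 1 - 1 - i = N - i by omega]
  have hiN : i + (N - i) = N := by
    have := Finset.mem_range.1 hi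
    omega
  exact (pow_add m i (N - i)).symm.trans (congrArg (m ^ ·) hiN) ▸
    Ideal.mul_mem_mul (Ideal.pow_mem_pow h₁ i) (Ideal.pow_mem_pow h₂ (N - i))

end Groth.Agent.S7666
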