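import Groth.Statements.S7667

-- import your own Groth.Agent.* helpers here

set_option autoImplicit false
universe u
open CategoryTheory CategoryTheory.Limits AlgebraicGeometry
open Variety

namespace Groth.Agent.S7667

/-- Let A be a one-dimensional Noetherian local ring, L the product of the localizations A_p over its
minimal primes p, and I the intersection of those primes (the nilradical of A). If f ∈ L equals i +
a with a in the maximal ideal of A and i ∈ I·L, then for some positive integer n, f^n belongs to the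
subring of L obtained as the image of the structure map from A. -/
theorem result (A : Type u) [CommRing A]
    [IsLocalRing A] [IsNoetherianRing A] (hdim : ringKrullDim A = 1)
    (a : A) (ha : a ∈ IsLocalRing.maximalIdeal A)
    (i : ∀ p : {p : PrimeSpectrum A // p.asIdeal ∈ minimalPrimes A}, Localization.AtPrime p.1.asIdeal)
    (hi : i ∈ (nilradical A).map (algebraMap A (∀ p : {p : PrimeSpectrum A // p.asIdeal ∈ minimalPrimes A}, Localization.AtPrime p.1.asIdeal))) :
    ∃ n : ℕ, 0 < n ∧ (i + algebraMap A (∀ p : {p : PrimeSpectrum A // p.asIdeal ∈ minimalPrimes A}, Localization.AtPrime p.1.asIdeal) a) ^ n ∈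
      (algebraMap A (∀ p : {p : PrimeSpectrum A // p.asIdeal ∈ minimalPrimes A}, Localization.AtPrime p.1.asIdeal)).range := by
  classical
  let ι := {p : PrimeSpectrum A // p.asIdeal ∈ minimalPrimes A}
  let φ : A →+* (∀ p : ι, Localization.AtPrime p.1.asIdeal) := algebraMap A _
  have hfin : (minimalPrimes A).Finite := minimalPrimes.finite_of_isNoetherianRing A
  haveI : Finite ι := by
    haveI := hfin.to_subtype
    exact Finite.of_injective (fun p : ι => (⟨p.1.asIdeal, p.2⟩ : minimalPrimes A))
      fun p q h => Subtype.ext (PrimeSpectrum.ext (congrArg Subtype.val h))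
  haveI := Fintype.ofFinite ι
  -- nilpotency in the localisations at minimal primes
  have hnil : ∀ (p : ι) (a : A), a ∈ p.1.asIdeal →
      IsNilpotent (algebraMap A (Localization.AtPrime p.1.asIdeal) a) := by
    intro p a ha
    rw [nilpotent_iff_mem_prime]
    intro J hJ
    have hdisj := ((IsLocalization.isPrime_iff_isPrime_disjoint p.1.asIdeal.primeCompl _ J).1 hJ).2
    have hle : J.comap (algebraMap A (Localization.AtPrime p.1.asIdeal)) ≤ p.1.asIdeal :=
      fun z hz => not_not.1 fun hzp => Set.disjoint_left.1 hdisj.symm hz hzp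
    exact p.2.2 ⟨hJ.comap _, bot_le⟩ hle ha
  -- separating elements
  have hsep : ∀ p : ι, ∃ e : A, e ∉ p.1.asIdeal ∧ ∀ q : ι, q ≠ p →
      algebraMap A (Localization.AtPrime q.1.asIdeal) e = 0 ∧ e ∈ q.1.asIdeal := by
    intro p
    have h : ∀ q : ι, ∃ e : A, e ∉ p.1.asIdeal ∧ (q ≠ p →
        algebraMap A (Localization.AtPrime q.1.asIdeal) e = 0 ∧ e ∈ q.1.asIdeal) := by
      intro q
      by_cases hqp : q = p
      · exact ⟨1, fun h => p.1.isPrime.ne_top ((Ideal.eq_top_iff_one _).2 h), fun h => absurd hqp h⟩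
      · obtain ⟨e, heq, hep⟩ : ∃ e, e ∈ q.1.asIdeal ∧ e ∉ p.1.asIdeal := by
          by_contra hcon
          push Not at hcon
          exact hqp (Subtype.ext (PrimeSpectrum.ext
            (le_antisymm hcon (p.2.2 ⟨q.1.isPrime, bot_le⟩ hcon))))
        obtain ⟨N, hN⟩ := hnil q e heq
        refine ⟨e ^ (N + 1), fun h => hep (p.1.isPrime.mem_of_pow_mem _ h), fun _ => ⟨?_, ?_⟩⟩
        · rw [map_pow, pow_succ, hN, zero_mul]
        · exact q.1.asIdeal.pow_mem_of_mem heq _ (Nat.succ_pos N)
    choose e he1 he2 using h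
    refine ⟨∏ q, e q, ?_, fun q hq => ⟨?_, ?_⟩⟩
    · intro h
      obtain ⟨q, -, hq⟩ := (Ideal.IsPrime.prod_mem_iff (hp := p.1.isPrime)).1 h
      exact he1 q hq
    · rw [map_prod]
      exact Finset.prod_eq_zero (Finset.mem_univ q) (he2 q hq).1
    · exact (Ideal.IsPrime.prod_mem_iff (hp := q.1.isPrime)).2 ⟨q, Finset.mem_univ q, (he2 q hq).2⟩
  choose e he1 he2 using hsep
  -- every element of the product has a denominator avoiding all minimal primes
  have hden : ∀ z : ∀ p : ι, Localization.AtPrime p.1.asIdeal, ∃ s : A,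
      (∀ p : ι, s ∉ p.1.asIdeal) ∧ φ s * z ∈ φ.range := by
    intro z
    choose b hb using fun p : ι => IsLocalization.surj p.1.asIdeal.primeCompl (z p)
    refine ⟨∑ p, e p * (b p).2, fun p hp => ?_, ⟨∑ p, e p * (b p).1, ?_⟩⟩
    · have h1 : ∑ q ∈ Finset.univ.erase p, e q * (b q).2 ∈ p.1.asIdeal :=
        sum_mem fun q hq => p.1.asIdeal.mul_mem_right _ (he2 q p (Finset.ne_of_mem_erase hq).symm).2
      rw [← Finset.add_sum_erase _ _ (Finset.mem_univ p)] at hp
      rcases p.1.isPrime.mem_or_mem ((Ideal.add_mem_iff_left _ h1).1 hp) with h | h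
      · exact he1 p h
      · exact (b p).2.2 h
    · funext p
      simp only [φ, Pi.mul_apply, Pi.algebraMap_apply, map_sum, map_mul, Finset.sum_mul,
        Finset.sum_apply]
      refine Finset.sum_congr rfl fun q _ => ?_
      by_cases hq : q = p
      · subst hq; rw [mul_assoc, mul_comm (algebraMap A _ ((b q).2 : A)), hb q]
      · rw [(he2 q p (Ne.symm hq)).1]; simp
  -- `m` is the radical of any such denominator
  have hrad : ∀ s : A, (∀ p : ι, s ∉ p.1.asIdeal) → ∀ z : A, z ∈ IsLocalRing.maximalIdeal A →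
      ∃ M : ℕ, s ∣ z ^ M := by
    intro s hs z hz
    have hm : z ∈ (Ideal.span {s}).radical := by
      rw [Ideal.radical_eq_sInf, Ideal.mem_sInf]
      rintro J ⟨hsJ, hJ⟩
      rw [Ideal.span_singleton_le_iff_mem] at hsJ
      obtain ⟨p, hp, hpJ⟩ := Ideal.exists_minimalPrimes_le (bot_le (a := J))
      have hpp : p.IsPrime := hp.1.1
      have hlt : p < J := hpJ.lt_of_ne fun h => hs ⟨⟨p, hpp⟩, hp⟩ (by simpa [h] using hsJ)
      have hJm : J ≤ IsLocalRing.maximalIdeal A := IsLocalRing.le_maximalIdeal hJ.ne_top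
      rcases hJm.eq_or_lt with h | h
      · exact h ▸ hz
      · haveI := hpp
        haveI := hJ
        have h1 := Ideal.height_strict_mono_of_isPrime_of_isPrime hlt
        have h2 := Ideal.height_strict_mono_of_isPrime_of_isPrime h
        have h3 : (IsLocalRing.maximalIdeal A).height = 1 := by
          have := IsLocalRing.maximalIdeal_height_eq_ringKrullDim (R := A)
          rw [hdim] at this
          exact_mod_cast this
        rw [h3, ENat.lt_one_iff_eq_zero] at h2
        rw [h2] at h1
        exact absurd h1 not_lt_zero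
    obtain ⟨M, hM⟩ := hm
    exact ⟨M, Ideal.mem_span_singleton.1 hM⟩
  -- the nilpotent part
  have hi' : IsNilpotent i := by
    have : i ∈ nilradical (∀ p : ι, Localization.AtPrime p.1.asIdeal) := by
      refine (Ideal.map_le_iff_le_comap.2 fun z hz => ?_) hi
      exact (mem_nilradical.1 hz).map φ
    exact this
  obtain ⟨N, hN⟩ := hi'
  choose s hs1 hs2 using fun j : ℕ => hden (i ^ j)
  choose M hM using fun j : ℕ => hrad (s j) (hs1 j) a ha
  refine ⟨N + ∑ j ∈ Finset.range N, M j + 1, Nat.succ_pos _, ?_⟩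
  set n := N + ∑ j ∈ Finset.range N, M j + 1
  rw [add_pow]
  refine sum_mem fun j _ => ?_
  rcases le_or_gt N j with hj | hj
  · rw [pow_eq_zero_of_le hj hN]; simp
  · refine Subring.mul_mem _ ?_ (natCast_mem _ _)
    have hle : M j ≤ n - j := by
      have := Finset.single_le_sum (f := M) (fun _ _ => Nat.zero_le _) (Finset.mem_range.2 hj)
      omega
    obtain ⟨c, hc⟩ : s j ∣ a ^ (n - j) := (hM j).trans (pow_dvd_pow a hle)
    obtain ⟨b, hb⟩ := hs2 j
    refine ⟨c * b, ?_⟩
    rw [map_mul, hb, ← map_pow, hc, map_mul]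
    show φ c * (φ (s j) * i ^ j) = i ^ j * (φ (s j) * φ c)
    ring


end Groth.Agent.S7667
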