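import Groth.Statements.S7668


set_option autoImplicit false
universe u
open CategoryTheory CategoryTheory.Limits AlgebraicGeometry
open Variety

namespace Groth.Agent.S7668

/-- Let A be a ring, p_1, …, p_r primes of A and S = A ∖ ⋃ p_i. Then S is a multiplicative subset, S⁻¹A
is semi-local, and contraction to A is a bijection from the maximal ideals of S⁻¹A onto the maximal
elements of {p_1, …, p_r}. -/
theorem result (A : Type u) [CommRing A]
    (r : ℕ) (p : Fin r → PrimeSpectrum A) :
    Finite (MaximalSpectrum (Localization (⨅ i, (p i).asIdeal.primeCompl))) ∧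
      Set.BijOn (fun m : Ideal (Localization (⨅ i, (p i).asIdeal.primeCompl)) =>
          m.comap (algebraMap A (Localization (⨅ i, (p i).asIdeal.primeCompl))))
        {m | m.IsMaximal}
        {q | q ∈ Set.range (fun i => (p i).asIdeal) ∧
          ∀ j, q ≤ (p j).asIdeal → q = (p j).asIdeal} := by
  classical
  set M : Submonoid A := ⨅ i, (p i).asIdeal.primeCompl
  have hmemM : ∀ x, x ∈ M ↔ ∀ i, x ∉ (p i).asIdeal := fun x => Submonoid.mem_iInf
  have hdis : ∀ i, Disjoint (M : Set A) ((p i).asIdeal : Set A) := fun i =>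
    Set.disjoint_left.2 fun x hx => (hmemM x).1 hx i
  let L := Localization M
  have hup : ∀ q : Ideal A, Disjoint (M : Set A) (q : Set A) → ∃ j, q ≤ (p j).asIdeal := by
    intro q hq
    have hsub : (q : Set A) ⊆ ⋃ i ∈ ((Finset.univ : Finset (Fin r)) : Set (Fin r)), ((p i).asIdeal : Set A) := by
      intro x hx
      by_contra hc
      refine Set.disjoint_left.1 hq ((hmemM x).2 fun i hi => hc ?_) hx
      simp only [Set.mem_iUnion]
      exact ⟨i, by simp, hi⟩
    rcases Nat.eq_zero_or_pos r with hr | hr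
    · exact absurd q.zero_mem fun h0 => Set.disjoint_left.1 hq ((hmemM 0).2 fun i => (Fin.cast hr i).elim0) h0
    · obtain ⟨j, -, hj⟩ := (Ideal.subset_union_prime (⟨0, hr⟩ : Fin r) ⟨0, hr⟩
        (fun i _ _ _ => (p i).isPrime)).1 hsub
      exact ⟨j, hj⟩
  have hext : ∀ i, ((p i).asIdeal.map (algebraMap A L)).IsPrime ∧
      ((p i).asIdeal.map (algebraMap A L)).comap (algebraMap A L) = (p i).asIdeal := fun i =>
    ⟨IsLocalization.isPrime_of_isPrime_disjoint M L _ (p i).isPrime (hdis i),
      IsLocalization.comap_map_of_isPrime_disjoint M L (p i).isPrime (hdis i)⟩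
  have hmax : ∀ m : Ideal L, m.IsMaximal → ∀ j, m.comap (algebraMap A L) ≤ (p j).asIdeal →
      m.comap (algebraMap A L) = (p j).asIdeal := by
    intro m hm j hj
    have h2 : m ≤ (p j).asIdeal.map (algebraMap A L) := by
      rw [← IsLocalization.map_comap M L m]
      exact Ideal.map_mono hj
    rw [hm.eq_of_le (hext j).1.ne_top h2, (hext j).2]
  have hrange : ∀ m : Ideal L, m.IsMaximal → ∃ j, m.comap (algebraMap A L) = (p j).asIdeal := by
    intro m hm
    obtain ⟨j, hj⟩ := hup _ (Disjoint.symm ((IsLocalization.isPrime_iff_isPrime_disjoint M L m).1 hm.isPrime).2 |>.symm)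
    exact ⟨j, hmax m hm j hj⟩
  refine ⟨?_, fun m hm => ⟨?_, ?_⟩, fun m _ m' _ h => ?_, ?_⟩
  · choose g hg using fun m : MaximalSpectrum L => hrange m.asIdeal m.isMaximal
    refine Finite.of_injective g fun m m' h => MaximalSpectrum.ext ?_
    exact (IsLocalization.map_comap M L m.asIdeal).symm.trans
      ((congrArg (Ideal.map (algebraMap A L)) ((hg m).trans (h ▸ (hg m').symm))).trans (IsLocalization.map_comap M L m'.asIdeal))
  · obtain ⟨j, hj⟩ := hrange m hm
    exact ⟨j, hj.symm⟩
  · exact hmax m hm
  · have h' : m.comap (algebraMap A L) = m'.comap (algebraMap A L) := h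
    exact (IsLocalization.map_comap M L m).symm.trans
      ((congrArg (Ideal.map (algebraMap A L)) h').trans (IsLocalization.map_comap M L m'))
  · rintro q ⟨⟨i, rfl⟩, hi⟩
    obtain ⟨m, hm, hle⟩ := Ideal.exists_le_maximal _ (hext i).1.ne_top
    refine ⟨m, hm, ?_⟩
    obtain ⟨j, hj⟩ := hrange m hm
    have hij : (p i).asIdeal ≤ (p j).asIdeal := by
      rw [← hj, ← (hext i).2]
      exact Ideal.comap_mono hle
    exact hj.trans (hi j hij).symm

end Groth.Agent.S7668
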