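import Groth.Statements.S7670
import Groth.Agent.Lib.Pic18.Cover

set_option autoImplicit false
universe u
open CategoryTheory CategoryTheory.Limits AlgebraicGeometry
open Variety

namespace Groth.Agent.S7670

/-- Let X be a reduced scheme and Z_1, …, Z_n ⊆ X closed subschemes with X = ⋃ Z_i set-theoretically and
Z_i ∩ Z_j discrete for i ≠ j, and let L_i be an invertible module on Z_i. Then there is an
invertible module L on X whose restriction to each Z_i is isomorphic to L_i. (The published
statement also gives, for sections s_i of L_i that do not vanish at the points of Z_i ∩ Z_j, a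
choice of L with a global section restricting to each s_i; this row states only the existence of L.) -/
theorem result (X : Scheme.{u}) [IsReduced X]
    (n : ℕ) (Z : Fin n → X.IdealSheafData)
    (hcov : ⋃ i, ((Z i).support : Set X) = Set.univ)
    (hdisc : ∀ i j, i ≠ j → DiscreteTopology ↥(((Z i).support : Set X) ∩ ((Z j).support : Set X)))
    (L : ∀ i, (Z i).subscheme.Modules) (hL : ∀ i, PicF.IsInvertible (L i)) :
    ∃ M : X.Modules, PicF.IsInvertible M ∧
      ∀ i, Nonempty ((Scheme.Modules.pullback (Z i).subschemeι).obj M ≅ L i) := by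
  obtain ⟨M, hM, h⟩ := Groth.Agent.Pic18.exists_restricting (ι := ULift.{u} (Fin n)) (Z := fun i => Z i.down)
    (by
      refine Set.eq_univ_of_forall fun x => ?_
      obtain ⟨i, hi⟩ := Set.mem_iUnion.1 (hcov.symm.subset (Set.mem_univ x))
      exact Set.mem_iUnion.2 ⟨⟨i⟩, hi⟩)
    (fun i => L i.down) (fun i j hij => hdisc i.down j.down fun h => hij (ULift.ext _ _ h))
    (fun i => hL i.down)
  exact ⟨M, hM, fun i => h ⟨i⟩⟩

end Groth.Agent.S7670
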