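import Groth.Statements.S7677
import Groth.Agent.Lib.CohFound.RelVan
import Groth.Agent.Lib.CohFound.AmpleVan
import Groth.Agent.Lib.AmpleImm18.Over

set_option autoImplicit false
universe u
open CategoryTheory CategoryTheory.Limits AlgebraicGeometry
open Variety

namespace Groth.Agent.S7677

/-- Let k be a field, n ≥ 0 and F a coherent module on P^n_k with Hilbert polynomial P, i.e. χ(P^n_k,
F(d)) = P(d) for all d. Then P(d) = dim_k H^0(P^n_k, F(d)) for all d ≫ 0. -/
theorem result (k : Type u) [Field k] (n : ℕ)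
    (F : (CohB1.ProjSpace n k).Modules) (hF : Coh.IsCoh F) (P : Polynomial ℚ)
    (hP : ∀ d : ℤ, (Curv2.euler k (CohB1.ProjSpace n k)
      (CohB1.tensorMod F (Twist.twistProjSpace n k d)) : ℚ) = P.eval (d : ℚ)) :
    ∃ d₀ : ℤ, ∀ d : ℤ, d₀ ≤ d →
      P.eval (d : ℚ) = (Module.finrank k (Coh.HH (CohB1.ProjSpace n k)
        (CohB1.tensorMod F (Twist.twistProjSpace n k d)) 0) : ℚ) := by
  haveI : IsProper ((CohB1.ProjSpace n k) ↘ Spec (CommRingCat.of k)) :=
    inferInstanceAs (IsProper (CohB1.ProjSpace.toSpec n k))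
  have hcov := Groth.Agent.Twist.iSup_basicOpen_one n k
  have hamp : CohB1.IsAmple (Twist.twistProjSpace n k 1) :=
    Groth.Agent.Twist.isAmple_twist (CohB1.polyGrading n k) _ (fun i => Groth.Agent.ProjSpace.X_mem' n k i)
      (Groth.Agent.ProjSpace.irrelevant_le_span n k) (d := 1) one_pos
  obtain ⟨n₀, hn₀⟩ := Groth.Agent.CohFound.exists_vanishing_all (CohB1.ProjSpace.toSpec n k) hamp hF
  refine ⟨(n₀ : ℤ), fun d hd => ?_⟩
  obtain ⟨m, rfl⟩ : ∃ m : ℕ, d = (m : ℤ) := ⟨d.toNat, (Int.toNat_of_nonneg (le_trans (Int.natCast_nonneg _) hd)).symm⟩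
  obtain ⟨e⟩ := Groth.Agent.Twist.nonempty_iso_tensorPow (CohB1.polyGrading n k) hcov m
  let e' : CohB1.tensorMod F (Twist.twistProjSpace n k (m : ℤ)) ≅
      CohB1.tensorMod F (CohB1.tensorPow (Twist.twistProjSpace n k 1) m) :=
    Groth.Agent.M2.tensorIso (Iso.refl F) e
  rw [← hP, Curv2.euler, finsum_eq_single _ 0 fun p hp => ?_]
  · simp
  · haveI : Subsingleton (Coh.HH (CohB1.ProjSpace n k) (CohB1.tensorMod F (Twist.twistProjSpace n k (m : ℤ))) p) :=
      (Groth.Agent.CohFound.subsingleton_HH_iff _ p).2 (Groth.Agent.CohFound.subsingleton_hc_of_iso e'.symm p _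
        (hn₀ m (by exact_mod_cast hd) p (Nat.pos_of_ne_zero hp)))
    simp [Module.finrank_zero_of_subsingleton]

end Groth.Agent.S7677
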