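import Groth.Statements.S7679
import Groth.Agent.Lib.NegTwist18.Main

set_option autoImplicit false
universe u
open CategoryTheory CategoryTheory.Limits AlgebraicGeometry
open Variety

namespace Groth.Agent.S7679

/-- Let X be proper over a field k, L an ample invertible module and F a coherent module such that
Ass(F) contains no closed point. Then Γ(X, F ⊗ L^{⊗n}) = 0 for n ≪ 0; here negative powers of L are
written as positive powers of an inverse M of L. -/
theorem result (k : Type u) [Field k] (X : Scheme.{u}) [X.Over (Spec (CommRingCat.of k))] [IsProper (X ↘ (Spec (CommRingCat.of k)))]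
    (L : X.Modules) (hL : CohB1.IsAmple L) (M : X.Modules) (hM : ClSub.IsInverseOf L M)
    (F : X.Modules) (hF : Coh.IsCoh F) (hass : ∀ x : X, IsClosed ({x} : Set X) → ¬ Curv2.IsAssPoint F x) :
    ∃ n₀ : ℕ, ∀ n : ℕ, n₀ ≤ n →
      Subsingleton (Coh.HH X (CohB1.tensorMod F (CohB1.tensorPow M n)) 0) := by
  obtain ⟨n₀, hn₀⟩ := Groth.Agent.NegTwist18.exists_subsingleton_sections
    (X ↘ (Spec (CommRingCat.of k))) hL hM hF hass
  refine ⟨n₀, fun n hn => ?_⟩
  haveI := hn₀ n hn
  rw [Groth.Agent.CohFound.subsingleton_HH_iff]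
  exact (Groth.Agent.CohFound.hc0 ((Groth.Agent.CohFound.abF X).obj (CohB1.tensorMod F (CohB1.tensorPow M n))) ⊤).toEquiv.subsingleton_congr.2 ‹_›

end Groth.Agent.S7679
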