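import Groth.Statements.S7682
import Groth.Agent.Lib.NumPoly18.PushDeg
import Groth.Agent.Lib.NumPoly18.SurfProj

set_option autoImplicit false
universe u
open CategoryTheory CategoryTheory.Limits AlgebraicGeometry
open Variety

open Groth.Agent Groth.Agent.NumPoly18
namespace Groth.Agent.S7682

/-- Let f : Y → X be a morphism of proper schemes over a field k, Z ⊆ Y an integral closed subscheme of
dimension d and L_1, …, L_d invertible modules on X. Then (f^*L_1 ⋯ f^*L_d · Z) = deg(Z → f(Z)) ·
(L_1 ⋯ L_d · f(Z)), f(Z) being the scheme-theoretic image and deg the degree of the function field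
extension, read as 0 when dim f(Z) < d (equivalently when that extension is infinite). Both
intersection numbers are the n_1⋯n_d-coefficients of the polynomials computing the corresponding
Euler characteristics. -/
theorem result (k : Type u) [Field k] (X Y : Scheme.{u})
    [X.Over (Spec (CommRingCat.of k))] [Y.Over (Spec (CommRingCat.of k))]
    [IsProper (X ↘ (Spec (CommRingCat.of k)))] [IsProper (Y ↘ (Spec (CommRingCat.of k)))]
    (f : Y ⟶ X) (hf : f ≫ (X ↘ (Spec (CommRingCat.of k))) = Y ↘ (Spec (CommRingCat.of k)))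
    (Z : Y.IdealSheafData) [IsIntegral Z.subscheme] (d : ℕ)
    (hZ : topologicalKrullDim (Z.support : Set Y) = d)
    (L : Fin d → X.Modules) (hL : ∀ i, PicF.IsInvertible (L i))
    (PY PX : MvPolynomial (Fin d) ℚ)
    (hPY : ∀ n : Fin d → ℕ, (Curv2.euler k Y (Curv2.tensorPows (ClSub.quotMod Z) d (fun i => (Scheme.Modules.pullback f).obj (L i)) n) : ℚ) = MvPolynomial.eval (fun i => (n i : ℚ)) PY)
    (hPX : ∀ n : Fin d → ℕ, (Curv2.euler k X (Curv2.tensorPows (ClSub.quotMod (Z.subschemeι ≫ f).ker) d L n) : ℚ) = MvPolynomial.eval (fun i => (n i : ℚ)) PX) :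
    MvPolynomial.coeff (Finsupp.equivFunOnFinite.symm fun _ : Fin d => 1) PY =
      ((Z.subschemeι ≫ f).residueDegree (genericPoint Z.subscheme) : ℚ) *
        MvPolynomial.coeff (Finsupp.equivFunOnFinite.symm fun _ : Fin d => 1) PX := by
  haveI : IsNoetherian X := CohFound.isNoetherian_of_isProper (X ↘ (Spec (CommRingCat.of k)))
  haveI : IsNoetherian Y := CohFound.isNoetherian_of_isProper (Y ↘ (Spec (CommRingCat.of k)))
  haveI : IsProper (f ≫ (X ↘ Spec (CommRingCat.of k))) := by rw [hf]; infer_instance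
  haveI : IsProper f := IsProper.of_comp f (X ↘ Spec (CommRingCat.of k))
  have hZc : IsClosed (f '' (Z.support : Set Y)) := f.isClosedMap _ Z.support.isClosed
  have hsub : CohB1.support (ClSub.quotMod (Z.subschemeι ≫ f).ker) ⊆ f '' (Z.support : Set Y) := by
    rw [support_quotMod, Scheme.Hom.support_ker]
    refine closure_minimal ?_ hZc
    rintro _ ⟨z, rfl⟩
    exact ⟨Z.subschemeι z, Z.range_subschemeι.le ⟨z, rfl⟩, (Scheme.Hom.comp_apply _ f z).symm⟩
  have hdX : topologicalKrullDim (CohB1.support (ClSub.quotMod (Z.subschemeι ≫ f).ker)) ≤ (d : WithBot ℕ∞) :=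
    Snapper.dim_le_of_subset hsub ((dim_image_le f Z.support.isClosed).trans hZ.le)
  have hdY : topologicalKrullDim (CohB1.support (ClSub.quotMod Z)) ≤ (d : WithBot ℕ∞) := by
    rw [support_quotMod]
    exact hZ.le
  show MvPolynomial.coeff (ones d) PY = _ * MvPolynomial.coeff (ones d) PX
  rw [coeff_eq_mixedDiff (fun i => Twist.isInvertible_pullback f (hL i)) (CurveCoh17.isCoh_quotMod Z) hdY hPY,
    coeff_eq_mixedDiff hL (CurveCoh17.isCoh_quotMod _) hdX hPX]
  exact md_pullback_quotMod f hf Z hZ hL

end Groth.Agent.S7682
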