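import Groth.Statements.S7684
import Groth.Agent.Lib.NormRed18.CurveNorm

set_option autoImplicit false
universe u
open CategoryTheory CategoryTheory.Limits AlgebraicGeometry
open Variety

namespace Groth.Agent.S7684

/-- For an integral scheme: let X be an integral locally Noetherian scheme of dimension one and ν : X^ν
→ X its normalization. Then ν has finite fibres and finite residue field extensions, and X^ν is a
locally Noetherian scheme whose nonempty affine opens are spectra of Dedekind domains. (The
published statement is for any locally Noetherian X of dimension one, with X^ν → X_red, and also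
says that ν is integral, surjective and birational, that X^ν is normal and that its stalks are the
integral closures of those of X; here X is integral, and those clauses, which hold for the
normalization of every integral scheme, are not restated.) -/
theorem result (X : Scheme.{u}) [IsIntegral X] [IsLocallyNoetherian X]
    [QuasiCompact (X.fromSpecStalk (genericPoint X))] [QuasiSeparated (X.fromSpecStalk (genericPoint X))]
    (hdim : topologicalKrullDim X = 1) :
    (∀ x : X, Finite {x' : ↥(Curv2.normalization X) // (Curv2.normalizationι X).base x' = x}) ∧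
      (∀ x' : ↥(Curv2.normalization X),
        letI := ((Curv2.normalizationι X).residueFieldMap x').hom.toAlgebra
        Module.Finite (X.residueField ((Curv2.normalizationι X).base x')) ((Curv2.normalization X).residueField x')) ∧
      IsLocallyNoetherian (Curv2.normalization X) ∧
      (∀ U : (Curv2.normalization X).affineOpens, ((U : (Curv2.normalization X).Opens) : Set ↥(Curv2.normalization X)).Nonempty →
        IsDedekindDomain Γ(Curv2.normalization X, (U : (Curv2.normalization X).Opens))) := by
  have hdim' : topologicalKrullDim X ≤ 1 := hdim.le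
  let π := Curv2.normalizationι X
  haveI : IsIntegralHom π := inferInstanceAs (IsIntegralHom (X.fromSpecStalk (genericPoint X)).fromNormalization)
  haveI : AlgebraicGeometry.IsIntegral (Curv2.normalization X) :=
    inferInstanceAs (AlgebraicGeometry.IsIntegral (X.fromSpecStalk (genericPoint X)).normalization)
  have hcov : ∀ x' : ↥(Curv2.normalization X), ∃ U : X.Opens, ∃ hU : IsAffineOpen U, π.base x' ∈ U := fun x' => by
    obtain ⟨_, ⟨U, hU, rfl⟩, hx, -⟩ := X.isBasis_affineOpens.exists_subset_of_mem_open (Set.mem_univ (π.base x')) isOpen_univ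
    exact ⟨U, hU, hx⟩
  choose U hU hxU using hcov
  have hne : ∀ x', ((U x' : X.Opens) : Set X).Nonempty := fun x' => ⟨_, hxU x'⟩
  have P := fun x' => Groth.Agent.NormRed18.sections_package X hdim' (U x') (hU x') (hne x')
  haveI hlqf : LocallyQuasiFinite π :=
    (HasRingHomProperty.iff_exists_appLE (P := @LocallyQuasiFinite) (RingHom.QuasiFinite.stableUnderComposition.stableUnderCompositionWithLocalizationAway RingHom.QuasiFinite.holdsForLocalizationAway).left).2 fun x' =>
      ⟨⟨U x', hU x'⟩, ⟨π ⁻¹ᵁ U x', (hU x').preimage π⟩, hxU x', le_rfl, by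
        rw [← Scheme.Hom.app_eq_appLE]; exact (P x').2⟩
  refine ⟨fun x => (π.finite_preimage_singleton x).to_subtype, fun x' => ?_, ?_, ?_⟩
  · let g := Spec.map (π.residueFieldMap x')
    have hsq : g ≫ X.fromSpecResidueField (π x') = (Curv2.normalization X).fromSpecResidueField x' ≫ π :=
      Scheme.Hom.SpecMap_residueFieldMap_fromSpecResidueField π x'
    haveI : LocallyQuasiFinite (g ≫ X.fromSpecResidueField (π x')) := by rw [hsq]; infer_instance
    haveI : LocallyQuasiFinite g := LocallyQuasiFinite.of_comp g (X.fromSpecResidueField (π x'))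
    haveI : IsFinite g := IsFinite.of_locallyQuasiFinite g
    exact (IsFinite.SpecMap_iff _).1 ‹IsFinite g›
  · refine isLocallyNoetherian_of_affine_cover (S := fun x' => (⟨π ⁻¹ᵁ U x', (hU x').preimage π⟩ : (Curv2.normalization X).affineOpens))
      (top_le_iff.1 fun x' _ => TopologicalSpace.Opens.mem_iSup.2 ⟨x', hxU x'⟩) fun x' => ?_
    haveI := (P x').1
    exact IsDedekindRing.toIsNoetherian
  · rintro ⟨V, hV⟩ hVne
    haveI : IsLocallyNoetherian (Curv2.normalization X) :=
      isLocallyNoetherian_of_affine_cover (S := fun x' => (⟨π ⁻¹ᵁ U x', (hU x').preimage π⟩ : (Curv2.normalization X).affineOpens))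
        (top_le_iff.1 fun x' _ => TopologicalSpace.Opens.mem_iSup.2 ⟨x', hxU x'⟩) fun x' => by
          haveI := (P x').1
          exact IsDedekindRing.toIsNoetherian
    haveI : Nonempty V := hVne.to_subtype
    haveI : IsNoetherianRing Γ(Curv2.normalization X, V) := IsLocallyNoetherian.component_noetherian ⟨V, hV⟩
    haveI : IsDomain Γ(Curv2.normalization X, V) := inferInstance
    suffices IsDedekindDomainDvr Γ(Curv2.normalization X, V) from inferInstanceAs (IsDedekindDomain Γ(Curv2.normalization X, V))
    refine ⟨fun p hp _ => ?_⟩
    let y : PrimeSpectrum Γ(Curv2.normalization X, V) := ⟨p, inferInstance⟩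
    let x' := hV.fromSpec y
    have hxV : x' ∈ V := hV.opensRange_fromSpec ▸ ⟨y, rfl⟩
    letI := TopCat.Presheaf.algebra_section_stalk (Curv2.normalization X).presheaf ⟨x', hxV⟩
    haveI h1 : IsLocalization.AtPrime ((Curv2.normalization X).presheaf.stalk x') p := hV.isLocalization_stalk' y hxV
    haveI := (P x').1
    have hW : IsAffineOpen (π ⁻¹ᵁ U x') := (hU x').preimage π
    let q := hW.primeIdealOf ⟨x', hxU x'⟩
    letI := TopCat.Presheaf.algebra_section_stalk (Curv2.normalization X).presheaf (⟨x', hxU x'⟩ : (π ⁻¹ᵁ U x' : (Curv2.normalization X).Opens))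
    haveI h2 : IsLocalization.AtPrime ((Curv2.normalization X).presheaf.stalk x') q.asIdeal :=
      hW.isLocalization_stalk ⟨x', hxU x'⟩
    have hnf : ¬ IsField ((Curv2.normalization X).presheaf.stalk x') :=
      IsLocalization.AtPrime.not_isField Γ(Curv2.normalization X, V) hp _
    haveI : IsDomain ((Curv2.normalization X).presheaf.stalk x') := inferInstance
    have hq : q.asIdeal ≠ ⊥ := by
      intro hq
      apply hnf
      haveI : IsFractionRing Γ(Curv2.normalization X, π ⁻¹ᵁ U x') ((Curv2.normalization X).presheaf.stalk x') := by
        have he : q.asIdeal.primeCompl = nonZeroDivisors Γ(Curv2.normalization X, π ⁻¹ᵁ U x') := by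
          ext a; rw [mem_nonZeroDivisors_iff_ne_zero]; show a ∉ q.asIdeal ↔ _; rw [hq, Ideal.mem_bot]
        rw [IsFractionRing, ← he]; exact h2
      exact (IsFractionRing.toField Γ(Curv2.normalization X, π ⁻¹ᵁ U x')).toIsField
    haveI : IsDiscreteValuationRing ((Curv2.normalization X).presheaf.stalk x') :=
      IsLocalization.AtPrime.isDiscreteValuationRing_of_dedekind_domain Γ(Curv2.normalization X, π ⁻¹ᵁ U x') hq _
    exact IsDiscreteValuationRing.RingEquivClass.isDiscreteValuationRing
      (IsLocalization.algEquiv p.primeCompl ((Curv2.normalization X).presheaf.stalk x') (Localization.AtPrime p)).toRingEquiv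

end Groth.Agent.S7684
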