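import Groth.Statements.S7686
import Groth.Agent.Lib.NumPoly18.Apps

set_option autoImplicit false
universe u
open CategoryTheory CategoryTheory.Limits AlgebraicGeometry
open Variety

namespace Groth.Agent.S7686

/-- Let X be proper over a field k, Z ⊆ X a closed subscheme of dimension d with irreducible components
Z_i of dimension d (reduced induced structure, generic points ξ_i, multiplicities m_i = length of
O_{Z,ξ_i} over O_{X,ξ_i}) and L_1, …, L_d invertible modules. Then (L_1 ⋯ L_d · Z) = Σ m_i (L_1 ⋯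
L_d · Z_i). Intersection numbers are the n_1⋯n_d-coefficients of the polynomials computing the Euler
characteristics; the sum is written over all points ξ whose closure has dimension d (other terms
vanish). -/
theorem result (k : Type u) [Field k] (X : Scheme.{u}) [X.Over (Spec (CommRingCat.of k))] [IsProper (X ↘ (Spec (CommRingCat.of k)))]
    (D : X.IdealSheafData) (d : ℕ) (hD : topologicalKrullDim (D.support : Set X) = d)
    (L : Fin d → X.Modules) (hL : ∀ i, PicF.IsInvertible (L i)) (P : MvPolynomial (Fin d) ℚ)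
    (hP : ∀ n : Fin d → ℕ, (Curv2.euler k X (Curv2.tensorPows (ClSub.quotMod D) d L n) : ℚ) = MvPolynomial.eval (fun i => (n i : ℚ)) P)
    (Q : X → MvPolynomial (Fin d) ℚ)
    (hQ : ∀ ξ : X, topologicalKrullDim (closure ({ξ} : Set X)) = (d : WithBot ℕ∞) →
      ∀ n : Fin d → ℕ, (Curv2.euler k X (Curv2.tensorPows (ClSub.quotMod (Scheme.IdealSheafData.vanishingIdeal (⟨closure ({ξ} : Set X), isClosed_closure⟩ : TopologicalSpace.Closeds X))) d L n) : ℚ) = MvPolynomial.eval (fun i => (n i : ℚ)) (Q ξ)) :
    MvPolynomial.coeff (Finsupp.equivFunOnFinite.symm fun _ : Fin d => 1) P =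
      ∑ᶠ ξ : X, (if topologicalKrullDim (closure ({ξ} : Set X)) = (d : WithBot ℕ∞) then
        ((Module.length (X.presheaf.stalk ξ) ((ClSub.quotMod D).presheaf.stalk ξ)).toNat : ℚ) *
          MvPolynomial.coeff (Finsupp.equivFunOnFinite.symm fun _ : Fin d => 1) (Q ξ) else 0) := by
  classical
  haveI : IsNoetherian X := Groth.Agent.CohFound.isNoetherian_of_isProper (X ↘ (Spec (CommRingCat.of k)))
  have hF : Coh.IsCoh (ClSub.quotMod D) := Groth.Agent.CurveCoh17.isCoh_quotMod D
  have hsub := Groth.Agent.NumPoly18.support_quotMod_subset D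
  obtain ⟨T, hT⟩ := Groth.Agent.NumPoly18.exists_finset_top D.support.isClosed hD.le
  rw [Groth.Agent.NumPoly18.coeff_eq_mixedDiff hL hF (Groth.Agent.Snapper.dim_le_of_subset hsub hD.le) hP,
    Groth.Agent.NumPoly18.mixedDiff_eq_sum hL D.support.isClosed hD.le T hT hF hsub,
    finsum_eq_finsetSum_of_support_subset _ (s := T)]
  · refine Finset.sum_congr rfl fun ξ hξ => ?_
    have hdim := ((hT ξ).1 hξ).2
    rw [if_pos hdim]
    rw [Groth.Agent.NumPoly18.coeff_eq_mixedDiff hL (Groth.Agent.NumPoly18.isCoh_ptMod ξ)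
      (Groth.Agent.NumPoly18.dim_support_ptMod hdim.le) (hQ ξ hdim)]
    rfl
  · intro ξ hξ
    by_contra hn
    refine hξ ?_
    simp only
    split_ifs with h
    · have h0 := Groth.Agent.NumPoly18.lenAt_eq_zero (F := ClSub.quotMod D) (ξ := ξ) fun hm => hn ((hT ξ).2 ⟨hsub hm, h⟩)
      simp only [Groth.Agent.NumPoly18.lenAt] at h0
      rw [h0, zero_mul]
    · rfl

end Groth.Agent.S7686
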