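import Groth.Statements.S7689
import Groth.Agent.Lib.NormRed18.Cokernel

set_option autoImplicit false
universe u
open CategoryTheory CategoryTheory.Limits AlgebraicGeometry
open Variety

namespace Groth.Agent.S7689

/-- For an integral X: let X be an integral Nagata scheme of dimension one (every affine open has a
Nagata coordinate ring) with normalization ν : X^ν → X. Then ν is finite and birational (an
isomorphism over a dense open), O_X ⊆ ν_*O_{X^ν}, and the quotient ν_*O_{X^ν}/O_X is supported at
closed points, its stalk at a closed point x having length equal to the δ-invariant of O_{X,x}. (The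
published statement is for reduced Nagata schemes of dimension one; it also says that ν is
surjective and that the quotient is nonzero exactly at the singular points, and it describes the
stalk A' of ν_*O_{X^ν} at x, namely the integral closure of O_{X,x} in its total fraction ring, a
semi-local ring that is a finite product of Dedekind domains, together with the completions of
O_{X,x} and A'. This row takes X integral, does not restate surjectivity, which holds for the
normalization of every integral scheme, and keeps the finiteness, birationality, injectivity and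
length clauses.) -/
theorem result (X : Scheme.{u}) [IsIntegral X]
    [QuasiCompact (X.fromSpecStalk (genericPoint X))] [QuasiSeparated (X.fromSpecStalk (genericPoint X))]
    (hN : ∀ U : X.affineOpens, CAlg.IsNagata Γ(X, (U : X.Opens))) (hdim : topologicalKrullDim X = 1) :
    IsFinite (Curv2.normalizationι X) ∧
      (∃ U : X.Opens, Dense ((U : Set X)) ∧ IsIso (Curv2.normalizationι X ∣_ U)) ∧
      Mono (ClSub.unitToPush (Curv2.normalizationι X)) ∧
      (∀ x : X, IsClosed ({x} : Set X) →
        Module.length (X.presheaf.stalk x) ((cokernel (ClSub.unitToPush (Curv2.normalizationι X))).presheaf.stalk x) =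
          Curv2.deltaInv (X.presheaf.stalk x)) ∧
      (∀ x : X, ¬ IsClosed ({x} : Set X) →
        Subsingleton ((cokernel (ClSub.unitToPush (Curv2.normalizationι X))).presheaf.stalk x)) := by
  let ν := Curv2.normalizationι X
  haveI hπ : IsIntegralHom ν := inferInstanceAs (IsIntegralHom (X.fromSpecStalk (genericPoint X)).fromNormalization)
  have hfinU : ∀ U : X.affineOpens, (ν.app U.1).hom.Finite := by
    rintro ⟨U, hU⟩
    by_cases hne : (U : Set X).Nonempty
    · haveI : Nonempty U := hne.to_subtype
      haveI : IsNoetherianRing Γ(X, U) := (hN ⟨U, hU⟩).1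
      let g := X.fromSpecStalk (genericPoint X)
      let R := Γ(X, U)
      letI : Algebra R Γ(Spec (X.presheaf.stalk (genericPoint X)), g ⁻¹ᵁ U) := (g.app U).hom.toAlgebra
      let K := Γ(Spec (X.presheaf.stalk (genericPoint X)), g ⁻¹ᵁ U)
      let E := (Groth.Agent.NormRed18.genSecIso hne).commRingCatIsoToRingEquiv
      haveI := functionField_isFractionRing_of_isAffineOpen X U hU
      let eK : X.functionField ≃ₐ[R] K := AlgEquiv.ofRingEquiv (f := E.symm) fun a => by
        show E.symm (X.germToFunctionField U a) = g.app U a
        apply E.injective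
        rw [E.apply_symm_apply]
        exact (ConcreteCategory.congr_hom (Groth.Agent.NormRed18.app_genSecIso hne) a).symm
      haveI : IsFractionRing R K := IsLocalization.isLocalization_of_algEquiv _ eK
      let P : Ideal R := ⊥
      haveI : P.IsPrime := Ideal.isPrime_bot
      let L := FractionRing (R ⧸ P)
      haveI hL : Module.Finite (R ⧸ P) (integralClosure (R ⧸ P) L) :=
        (hN ⟨U, hU⟩).2 P L (Module.Finite.self _)
      haveI : Module.Finite R (integralClosure (R ⧸ P) L) := Module.Finite.trans (R ⧸ P) _
      haveI : FaithfulSMul R L := by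
        rw [faithfulSMul_iff_algebraMap_injective, IsScalarTower.algebraMap_eq R (R ⧸ P) L]
        exact (IsFractionRing.injective (R ⧸ P) L).comp (RingEquiv.quotientBot R).symm.injective
      haveI : IsFractionRing R L := by
        refine IsFractionRing.of_field R L fun z => ?_
        obtain ⟨a, b, hb, rfl⟩ := IsFractionRing.div_surjective (R ⧸ P) z
        obtain ⟨a, rfl⟩ := Ideal.Quotient.mk_surjective a
        obtain ⟨b, rfl⟩ := Ideal.Quotient.mk_surjective b
        exact ⟨a, b, rfl⟩
      let eL : L ≃ₐ[R] K := (FractionRing.algEquiv R L).symm.trans (FractionRing.algEquiv R K)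
      haveI hf : Module.Finite R (integralClosure R K) := by
        haveI : Algebra.IsIntegral R (R ⧸ P) := ⟨fun x => by
          obtain ⟨a, rfl⟩ := Ideal.Quotient.mk_surjective x
          exact isIntegral_algebraMap⟩
        let f : integralClosure (R ⧸ P) L →ₗ[R] integralClosure R K :=
          { toFun := fun c => ⟨eL c.1, (isIntegral_trans c.1 c.2 : IsIntegral R c.1).map eL.toAlgHom⟩
            map_add' := fun _ _ => Subtype.ext (map_add eL _ _)
            map_smul' := fun _ _ => Subtype.ext (map_smul eL.toLinearEquiv _ _) }
        exact Module.Finite.of_surjective f fun c =>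
          ⟨⟨eL.symm c.1, (c.2.map eL.symm.toAlgHom).tower_top⟩, Subtype.ext (eL.apply_symm_apply _)⟩
      have h1 : ν.app U = CommRingCat.ofHom (algebraMap R (integralClosure R K)) ≫ (g.normalizationObjIso hU).inv :=
        g.fromNormalization_app hU
      rw [h1]
      exact (RingHom.Finite.of_surjective _ (g.normalizationObjIso hU).commRingCatIsoToRingEquiv.symm.surjective).comp
        (RingHom.finite_algebraMap.2 hf)
    · have hb : U = ⊥ := by
        ext z; simp only [Set.not_nonempty_iff_eq_empty.1 hne]; simp
      subst hb
      haveI : Subsingleton Γ(Curv2.normalization X, ν ⁻¹ᵁ ⊥) :=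
        CommRingCat.subsingleton_of_isTerminal (Curv2.normalization X).sheaf.isTerminalOfEmpty
      exact RingHom.Finite.of_surjective _ fun b => ⟨0, Subsingleton.elim _ _⟩
  haveI hfin : IsFinite ν := { toIsAffineHom := inferInstance, finite_app := fun U hU => hfinU ⟨U, hU⟩ }
  refine ⟨hfin, ?_, Groth.Agent.NormRed18.mono_unitToPush, fun x _ => Groth.Agent.NormRed18.length_coker x, fun x hx => ?_⟩
  · obtain ⟨_, ⟨U, hU, rfl⟩, hxU, -⟩ :=
      X.isBasis_affineOpens.exists_subset_of_mem_open (Set.mem_univ (genericPoint X)) isOpen_univ
    have hne : ((U : X.Opens) : Set X).Nonempty := ⟨_, hxU⟩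
    haveI : Nonempty U := hne.to_subtype
    haveI := functionField_isFractionRing_of_isAffineOpen X U hU
    letI : Algebra Γ(X, U) Γ(Curv2.normalization X, ν ⁻¹ᵁ U) := (ν.app U).hom.toAlgebra
    haveI hf : Module.Finite Γ(X, U) Γ(Curv2.normalization X, ν ⁻¹ᵁ U) := hfinU ⟨U, hU⟩
    obtain ⟨S, hS⟩ := hf.fg_top
    obtain ⟨⟨d, hd⟩, hdS⟩ := IsLocalization.exist_integer_multiples (nonZeroDivisors Γ(X, U)) S
      (fun b => Groth.Agent.NormRed18.toK hne b)
    have hdb : ∀ b : Γ(Curv2.normalization X, ν ⁻¹ᵁ U), ∃ r, ν.app U r = ν.app U d * b := by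
      intro b
      have hb : b ∈ Submodule.span Γ(X, U) (S : Set Γ(Curv2.normalization X, ν ⁻¹ᵁ U)) := hS ▸ Submodule.mem_top
      induction hb using Submodule.span_induction with
      | mem b hb =>
        obtain ⟨r, hr⟩ := hdS b hb
        refine ⟨r, Groth.Agent.NormRed18.toK_injective hne ?_⟩
        refine (Groth.Agent.NormRed18.toK_app_apply hne r).trans (hr.trans ?_)
        refine Eq.trans ?_ (map_mul (Groth.Agent.NormRed18.toK hne).hom _ _).symm
        show d • Groth.Agent.NormRed18.toK hne b = _
        rw [Algebra.smul_def]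
        congr 1
        exact (Groth.Agent.NormRed18.toK_app_apply hne d).symm
      | zero => exact ⟨0, by rw [map_zero, mul_zero]⟩
      | add a b _ _ ha hb =>
        obtain ⟨r, hr⟩ := ha; obtain ⟨r', hr'⟩ := hb
        exact ⟨r + r', by rw [map_add, hr, hr', mul_add]⟩
      | smul c b _ hb =>
        obtain ⟨r, hr⟩ := hb
        refine ⟨c * r, ?_⟩
        rw [map_mul, hr, show c • b = ν.app U c * b from rfl]
        exact mul_left_comm _ _ _
    let W := X.basicOpen d
    have hWne : (W : Set X).Nonempty := by
      rw [Set.nonempty_iff_ne_empty]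
      intro h
      have : W = ⊥ := TopologicalSpace.Opens.ext h
      exact nonZeroDivisors.ne_zero hd ((AlgebraicGeometry.basicOpen_eq_bot_iff d).1 this)
    have hW : IsAffineOpen W := hU.basicOpen d
    refine ⟨W, W.isOpen.dense hWne, ?_⟩
    have hbij : Function.Bijective (ν.app W) := by
      refine ⟨Groth.Agent.NormRed18.app_injective, fun b => ?_⟩
      letI : Algebra Γ(Curv2.normalization X, ν ⁻¹ᵁ U) Γ(Curv2.normalization X, ν ⁻¹ᵁ W) :=
        ((Curv2.normalization X).presheaf.map ((TopologicalSpace.Opens.map ν.base).map (homOfLE (X.basicOpen_le d))).op).hom.toAlgebra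
      have hloc : IsLocalization.Away (ν.app U d) Γ(Curv2.normalization X, ν ⁻¹ᵁ W) :=
        IsAffineOpen.isLocalization_of_eq_basicOpen (hU.preimage ν) _ _ (ν.preimage_basicOpen d)
      obtain ⟨⟨c, _, n, rfl⟩, hb⟩ := IsLocalization.surj (Submonoid.powers (ν.app U d)) b
      obtain ⟨r, hr⟩ := hdb c
      have hu : IsUnit (X.presheaf.map (homOfLE (X.basicOpen_le d)).op d) :=
        (X.toRingedSpace.isUnit_res_basicOpen d)
      obtain ⟨w, hw⟩ := (hu.pow (n + 1)).exists_right_inv
      refine ⟨X.presheaf.map (homOfLE (X.basicOpen_le d)).op r * w, ?_⟩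
      let i := (homOfLE (X.basicOpen_le d)).op
      have hnat : ∀ a, ν.app W (X.presheaf.map i a) =
          algebraMap Γ(Curv2.normalization X, ν ⁻¹ᵁ U) Γ(Curv2.normalization X, ν ⁻¹ᵁ W) (ν.app U a) := fun a =>
        ConcreteCategory.congr_hom (ν.naturality i) a
      have hw' : ν.app W (X.presheaf.map i d) ^ (n + 1) * ν.app W w = 1 := by
        rw [← map_pow, ← map_mul, hw, map_one]
      have hb' : b * algebraMap Γ(Curv2.normalization X, ν ⁻¹ᵁ U) Γ(Curv2.normalization X, ν ⁻¹ᵁ W) (ν.app U d) ^ n =
          algebraMap Γ(Curv2.normalization X, ν ⁻¹ᵁ U) Γ(Curv2.normalization X, ν ⁻¹ᵁ W) c := by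
        rw [← map_pow]; exact hb
      rw [map_mul, hnat, hr, map_mul, ← hb']
      rw [hnat] at hw'
      rw [pow_succ'] at hw'
      linear_combination b * hw'
    exact (isIso_morphismRestrict_iff_isIso_app ν hW).2 ((ConcreteCategory.isIso_iff_bijective _).2 hbij)
  · refine Groth.Agent.NormRed18.subsingleton_coker x ?_
    by_contra hne
    obtain ⟨y, hy, hyx⟩ : ∃ y, y ∈ closure ({x} : Set X) ∧ y ≠ x := by
      by_contra h
      push Not at h
      exact hx (closure_subset_iff_isClosed.1 fun y hy => h y hy)
    have hxy : x ⤳ y := specializes_iff_mem_closure.2 hy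
    have hne' : ∀ {a b : X}, a ⤳ b → a ≠ b →
        (⟨closure {b}, isIrreducible_singleton.closure, isClosed_closure⟩ : TopologicalSpace.IrreducibleCloseds X) <
          ⟨closure {a}, isIrreducible_singleton.closure, isClosed_closure⟩ := fun {a b} hab hne =>
      lt_of_le_of_ne (show closure {b} ⊆ closure {a} from
          closure_minimal (Set.singleton_subset_iff.2 hab.mem_closure) isClosed_closure)
        fun he => hne (hab.antisymm (specializes_iff_mem_closure.2 (by
          have h' : closure ({b} : Set X) = closure {a} := congrArg TopologicalSpace.IrreducibleCloseds.carrier he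
          rw [h']; exact subset_closure rfl))).eq
    have h2 : ((2 : ℕ) : WithBot ℕ∞) ≤ topologicalKrullDim X :=
      Order.LTSeries.length_le_krullDim ((RelSeries.singleton _
        (⟨closure {y}, isIrreducible_singleton.closure, isClosed_closure⟩ : TopologicalSpace.IrreducibleCloseds X)).snoc _
        (hne' hxy (Ne.symm hyx)) |>.snoc (⟨closure {genericPoint X}, isIrreducible_singleton.closure, isClosed_closure⟩ : TopologicalSpace.IrreducibleCloseds X)
        (by rw [RelSeries.last_snoc]; exact hne' (genericPoint_specializes x) (Ne.symm hne)))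
    rw [hdim] at h2
    norm_num at h2

end Groth.Agent.S7689
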