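import Groth.Statements.S7690
import Groth.Agent.Lib.CohBC18.Field
import Groth.Agent.Lib.CohFound.ProperFinite
import Groth.Agent.Lib.ProjSpace.Basic
import Groth.Agent.Lib.Twist.ProjSpace
import Groth.Agent.Lib.Twist.Pullback
import Groth.Agent.Lib.TensorMod.QCohTensor

set_option autoImplicit false
universe u
open CategoryTheory CategoryTheory.Limits AlgebraicGeometry
open Variety

namespace Groth.Agent.S7690

/-- Let k'/k be a field extension (k' in the universe of k), n ≥ 0, F a coherent module on P^n_k with
pullback F' to P^n_{k'}. For every integer m, F is m-regular exactly when F' is. Here P^n_{k'} is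
taken as the base change P^n_k ×_k Spec k' and the m-regularity of F' is spelled out as the
vanishing of H^i(P^n_{k'}, (F(m − i))') for 1 ≤ i ≤ n, (F(m − i))' being the pullback of F ⊗ O(m −
i). -/
theorem result (k : Type u) [Field k] (n : ℕ)
    (k' : Type u) [Field k'] [Algebra k k'] (F : (CohB1.ProjSpace n k).Modules) (hF : Coh.IsCoh F) (m : ℤ) :
    Curv2.IsMRegular k n F m ↔
      ∀ i : ℕ, 1 ≤ i → i ≤ n →
        Subsingleton (Coh.HH (Curv2.bc k (CohB1.ProjSpace n k) k')
          ((Scheme.Modules.pullback (Curv2.bcFst k (CohB1.ProjSpace n k) k')).obj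
            (CohB1.tensorMod F (Twist.twistProjSpace n k (m - i)))) i) := by
  haveI : IsProper ((CohB1.ProjSpace n k) ↘ Spec (CommRingCat.of k)) := inferInstanceAs (IsProper (CohB1.ProjSpace.toSpec n k))
  haveI : IsNoetherian (CohB1.ProjSpace n k) :=
    Groth.Agent.CohFound.isNoetherian_of_isProper ((CohB1.ProjSpace n k) ↘ Spec (CommRingCat.of k))
  refine forall_congr' fun i => forall_congr' fun _ => forall_congr' fun _ => ?_
  have hq : Coh.IsQCoh (CohB1.tensorMod F (Twist.twistProjSpace n k (m - i))) :=
    Groth.Agent.M2.isQCoh_tensor hF.1 (Groth.Agent.Twist.isQCoh_of_isInvertible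
      (Groth.Agent.Twist.isInvertible_twistProjSpace (n := n) (R := k) (m - i)))
  letI : (Curv2.bc k (CohB1.ProjSpace n k) k').Over (Spec (CommRingCat.of k')) := ⟨Curv2.bcSnd k _ k'⟩
  obtain ⟨e⟩ := Groth.Agent.CohBC18.nonempty_HH_bc (k := k) (CohB1.ProjSpace n k) k' _ hq i
  rw [← e.toEquiv.subsingleton_congr]
  refine ⟨fun h => inferInstance, fun h => ?_⟩
  exact (Module.Free.chooseBasis k k').index_nonempty.elim fun j => subsingleton_of_forall_eq 0 fun x => by
    have h0 : (Module.Free.chooseBasis k k') j ⊗ₜ[k] x = 0 := Subsingleton.elim _ _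
    have h1 := congrArg (fun z => TensorProduct.equivFinsuppOfBasisLeft (Module.Free.chooseBasis k k') z j) h0
    simpa using h1

end Groth.Agent.S7690
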