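import Groth.Statements.S9560
import Groth.Agent.Lib.FlatH4.FlatLocusFP
import Mathlib.RingTheory.Smooth.Fiber
import Mathlib.RingTheory.Smooth.Flat
import Mathlib.RingTheory.Etale.Locus
import Mathlib.RingTheory.Unramified.LocalRing
import Mathlib.RingTheory.Flat.Localization
import Mathlib.RingTheory.Localization.LocalizationLocalization

set_option autoImplicit false
universe u
open EtLocal

namespace Groth.Agent.S9560

/-- Suppose A is a Noetherian ring and B is a finite-type A-algebra, and consider a prime q of B lying
over the prime p of A, where B_q carries its A_p-algebra structure. Then B is étale at q over A (the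
local ring B_q is formally étale over A) if and only if the local homomorphism A_p → B_q is étale,
which means three things: B_q is A_p-flat, the ideal p B_q equals the maximal ideal of B_q, and the
residue field of q is a finite separable extension of the residue field of p (that B_q is
essentially of finite type over A_p holds automatically). -/
theorem result (A B : Type u) [CommRing A] [CommRing B]
    [Algebra A B] [IsNoetherianRing A] [Algebra.FiniteType A B]
    (p : Ideal A) [p.IsPrime] (q : Ideal B) [q.IsPrime] [q.LiesOver p]
    [Algebra (Localization.AtPrime p) (Localization.AtPrime q)]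
    [Localization.AtPrime.IsLiesOverAlgebra p q] :
    Algebra.IsEtaleAt A q ↔
      Module.Flat (Localization.AtPrime p) (Localization.AtPrime q) ∧
        p.map (algebraMap A (Localization.AtPrime q)) = IsLocalRing.maximalIdeal (Localization.AtPrime q) ∧
        Module.Finite p.ResidueField q.ResidueField ∧
        Algebra.IsSeparable p.ResidueField q.ResidueField := by
  classical
  haveI : Algebra.FinitePresentation A B := Algebra.FinitePresentation.of_finiteType.mp inferInstance
  constructor
  · intro h
    obtain ⟨f, hf, hfe⟩ := Algebra.exists_etale_of_isEtaleAt (R := A) q
    haveI := hfe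
    haveI : Algebra.IsUnramifiedAt A q := inferInstance
    haveI hflA : Module.Flat A (Localization.AtPrime q) := by
      letI : Algebra (Localization.Away f) (Localization.AtPrime q) :=
        IsLocalization.localizationAlgebraOfSubmonoidLe _ _ (Submonoid.powers f) q.primeCompl
          (Submonoid.powers_le.2 hf)
      haveI := IsLocalization.localization_isScalarTower_of_submonoid_le (Localization.Away f)
        (Localization.AtPrime q) (Submonoid.powers f) q.primeCompl (Submonoid.powers_le.2 hf)
      haveI : IsScalarTower A (Localization.Away f) (Localization.AtPrime q) := .to₁₃₄ A B _ _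
      haveI := IsLocalization.isLocalization_of_submonoid_le (Localization.Away f)
        (Localization.AtPrime q) (Submonoid.powers f) q.primeCompl (Submonoid.powers_le.2 hf)
      haveI := IsLocalization.flat (Localization.AtPrime q)
        (q.primeCompl.map (algebraMap B (Localization.Away f)))
      exact Module.Flat.trans A (Localization.Away f) _
    have key := (Algebra.isUnramifiedAt_iff_map_eq A p q).1 inferInstance
    exact ⟨(Module.flat_iff_of_isLocalization (Localization.AtPrime p) p.primeCompl _).2 hflA, key.2,
      inferInstance, key.1⟩
  · rintro ⟨hfl, hmap, -, hsep⟩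
    haveI : Algebra.IsUnramifiedAt A q := (Algebra.isUnramifiedAt_iff_map_eq A p q).2 ⟨hsep, hmap⟩
    haveI hflA : Module.Flat A (Localization.AtPrime q) :=
      (Module.flat_iff_of_isLocalization (Localization.AtPrime p) p.primeCompl _).1 hfl
    obtain ⟨f, hf, hfu⟩ := Algebra.exists_unramified_of_isUnramifiedAt (R := A) q
    obtain ⟨_, ⟨g, rfl⟩, hgq, hgflat⟩ := PrimeSpectrum.isTopologicalBasis_basic_opens.exists_subset_of_mem_open
      (show (⟨q, ‹_›⟩ : PrimeSpectrum B) ∈ {y : PrimeSpectrum B | Module.Flat A (LocalizedModule y.asIdeal.primeCompl B)}
        from hflA) Groth.Agent.FlatH4.isOpen_flat_localized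
    have hfg : f * g ∉ q := fun h => (Ideal.IsPrime.mem_or_mem ‹_› h).elim hf hgq
    let S := Localization.Away (algebraMap B (Localization.Away f) g)
    haveI : IsLocalization.Away (f * g) S := IsLocalization.Away.mul' (Localization.Away f) S f g
    haveI : Algebra.FormallyUnramified A S := by
      haveI := hfu
      haveI : Algebra.FormallyUnramified (Localization.Away f) S :=
        Algebra.FormallyUnramified.of_isLocalization (Submonoid.powers (algebraMap B (Localization.Away f) g))
      exact Algebra.FormallyUnramified.comp A (Localization.Away f) S
    haveI : Module.Flat A S := by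
      refine Module.flat_of_isLocalized_maximal S (M := S) (fun P _ => LocalizedModule P.primeCompl S)
        (fun P _ => LocalizedModule.mkLinearMap _ _) fun P hP => ?_
      let y : PrimeSpectrum B := ⟨P.comap (algebraMap B S), Ideal.IsPrime.comap _⟩
      have hy : y ∈ (PrimeSpectrum.basicOpen g : Set (PrimeSpectrum B)) := by
        show g ∉ P.comap (algebraMap B S)
        intro h
        refine hP.ne_top (Ideal.eq_top_of_isUnit_mem _ (Ideal.mem_comap.1 h) ?_)
        exact isUnit_of_dvd_unit (map_dvd _ (dvd_mul_left g f)) (IsLocalization.Away.algebraMap_isUnit (f * g))
      haveI := hgflat hy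
      haveI : IsLocalization.AtPrime (Localization.AtPrime P) (P.comap (algebraMap B S)) :=
        IsLocalization.isLocalization_isLocalization_atPrime_isLocalization (Submonoid.powers (f * g)) _ P
      let e := ((IsLocalization.algEquiv (P.comap (algebraMap B S)).primeCompl
        (Localization.AtPrime (P.comap (algebraMap B S))) (Localization.AtPrime P)).restrictScalars A).toLinearEquiv
      haveI : Module.Flat A (Localization.AtPrime (P.comap (algebraMap B S))) := ‹_›
      exact Module.Flat.of_linearEquiv e.symm
    haveI : Algebra.FinitePresentation A S :=
      haveI := IsLocalization.Away.finitePresentation (f * g) (S := S)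
      Algebra.FinitePresentation.trans A B S
    haveI : Algebra.Etale A S := Algebra.Etale.of_formallyUnramified_of_flat
    haveI hS : Algebra.Etale A (Localization.Away (f * g)) := Algebra.Etale.of_equiv ((IsLocalization.algEquiv (Submonoid.powers (f * g)) S (Localization.Away (f * g))).restrictScalars A)
    exact Algebra.basicOpen_subset_etaleLocus_iff_etale.2 hS (show (⟨q, ‹_›⟩ : PrimeSpectrum B) ∈ PrimeSpectrum.basicOpen (f * g) from hfg)

end Groth.Agent.S9560
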