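import Groth.Statements.S9353
import Groth.Agent.Lib.FlatH4.ModFlatAt
import Mathlib.RingTheory.Flat.Localization

set_option autoImplicit false
universe u
open FlatMod

namespace Groth.Agent.S9353


open Groth.Agent AlgebraicGeometry CategoryTheory TensorProduct

theorem flat_localized_of_flat {A T M : Type u} [CommRing A] [CommRing T] [Algebra A T] [AddCommGroup M]
    [Module A M] [Module T M] [IsScalarTower A T M] [Module.Flat A M] (q : Ideal T) [q.IsPrime] :
    Module.Flat A (LocalizedModule q.primeCompl M) := by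
  rw [FlatH4.flat_localized_iff]
  intro J x hx
  exact ⟨1, fun h => ‹q.IsPrime›.ne_top (q.eq_top_iff_one.2 h), by
    rw [one_smul]
    exact Module.Flat.lTensor_preserves_injective_linearMap J.subtype J.injective_subtype
      (by rw [hx, map_zero])⟩


open AlgebraicGeometry CategoryTheory Opposite in
/-- Let f : X → S be a morphism of schemes and let F be an O_X-module that is quasi-coherent. Flatness
of F over S is equivalent to the following: for all affine opens U ⊆ X and V ⊆ S with U ⊆ f⁻¹V the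
module F(U) is flat over O_S(V). -/
theorem result {X S : Scheme.{u}} (f : X ⟶ S) (F : X.Modules) (hF : Coh.IsQCoh F) :
    FlatMod.IsFlatOver f F ↔
      ∀ (U : X.Opens) (V : S.Opens) (hUV : U ≤ f ⁻¹ᵁ V), IsAffineOpen U → IsAffineOpen V →
        @Module.Flat Γ(S, V) (F.val.obj (op U)) _ _ (Module.compHom (F.val.obj (op U)) (f.appLE V U hUV).hom) := by
  haveI := hF
  constructor
  · intro h U V hUV hU hV
    letI : Algebra Γ(S, V) Γ(X, U) := (f.appLE V U hUV).hom.toAlgebra
    letI := FlatH4.secModuleOver f F V U hUV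
    haveI : IsScalarTower Γ(S, V) Γ(X, U) Γ(F, U) := IsScalarTower.of_algebraMap_smul fun _ _ => rfl
    show Module.Flat Γ(S, V) Γ(F, U)
    refine Module.flat_of_isLocalized_maximal (R := Γ(S, V)) Γ(X, U) Γ(F, U)
      (fun P _ => LocalizedModule P.primeCompl Γ(F, U)) (fun P _ => LocalizedModule.mkLinearMap _ _) ?_
    intro P hP
    have hmem : hU.fromSpec ⟨P, hP.isPrime⟩ ∈ U := by
      rw [← SetLike.mem_coe, ← hU.range_fromSpec]
      exact ⟨_, rfl⟩
    have hpt : hU.primeIdealOf ⟨_, hmem⟩ = ⟨P, hP.isPrime⟩ :=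
      hU.fromSpec.isOpenEmbedding.injective (hU.fromSpec_primeIdealOf ⟨_, hmem⟩)
    have := (FlatH4.isFlatOverAt_iff f F V hV U hU hUV hmem).1 (h _)
    rw [hpt] at this
    exact this
  · intro h x
    obtain ⟨V, hV, hsV, -⟩ :=
      exists_isAffineOpen_mem_and_subset (X := S) (x := f x) (U := ⊤) trivial
    obtain ⟨U, hU, hxU, hUV⟩ :=
      exists_isAffineOpen_mem_and_subset (X := X) (x := x) (U := f ⁻¹ᵁ V) hsV
    letI : Algebra Γ(S, V) Γ(X, U) := (f.appLE V U hUV).hom.toAlgebra
    letI := FlatH4.secModuleOver f F V U hUV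
    haveI : IsScalarTower Γ(S, V) Γ(X, U) Γ(F, U) := IsScalarTower.of_algebraMap_smul fun _ _ => rfl
    haveI : Module.Flat Γ(S, V) Γ(F, U) := h U V hUV hU hV
    exact (FlatH4.isFlatOverAt_iff f F V hV U hU hUV hxU).2 (flat_localized_of_flat _)

end Groth.Agent.S9353
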