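import Groth.Statements.S9349
import Groth.Agent.S9353
import Groth.Agent.Lib.ModM1.Push

set_option autoImplicit false
universe u
open FlatMod

namespace Groth.Agent.S9349


open Groth.Agent AlgebraicGeometry CategoryTheory Opposite


open AlgebraicGeometry CategoryTheory in
/-- Let f : X → Y be an affine morphism of S-schemes, with q : Y → S, and F a quasi-coherent O_X-module.
Flatness of F over S (along f ≫ q) is equivalent to flatness of f_*F over S (along q). -/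
theorem result {X Y S : Scheme.{u}} (f : X ⟶ Y) [IsAffineHom f] (q : Y ⟶ S)
    (F : X.Modules) (hF : Coh.IsQCoh F) :
    FlatMod.IsFlatOver (f ≫ q) F ↔ FlatMod.IsFlatOver q ((Coh.push f).obj F) := by
  have hG : Coh.IsQCoh ((Coh.push f).obj F) := M1.isQCoh_push f hF
  rw [S9353.result (f ≫ q) F hF, S9353.result q _ hG]
  constructor
  · intro h U V hUV hU hV
    have := h (f ⁻¹ᵁ U) V (fun z hz => hUV hz) (hU.preimage f) hV
    convert this using 0
    refine iff_of_eq (congrArg (fun inst : Module Γ(S, V) Γ(F, f ⁻¹ᵁ U) =>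
      @Module.Flat Γ(S, V) Γ(F, f ⁻¹ᵁ U) _ _ inst) ?_)
    refine Module.ext' _ _ fun r m => ?_
    show f.app U (q.appLE V U hUV r) • (show Γ(F, f ⁻¹ᵁ U) from m) = (f ≫ q).appLE V (f ⁻¹ᵁ U) (fun z hz => hUV hz) r • (show Γ(F, f ⁻¹ᵁ U) from m)
    congr 1
    simp [Scheme.Hom.appLE, Scheme.Hom.comp_app]
  · intro h W V hWV hW hV
    refine (S9353.result (f ≫ q) F hF).1 (fun x => ?_) W V hWV hW hV
    obtain ⟨V', hV', hsV, -⟩ :=
      exists_isAffineOpen_mem_and_subset (X := S) (x := q (f x)) (U := ⊤) trivial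
    obtain ⟨U, hU, hyU, hUV⟩ :=
      exists_isAffineOpen_mem_and_subset (X := Y) (x := f x) (U := q ⁻¹ᵁ V') hsV
    haveI := hF
    have e : f ⁻¹ᵁ U ≤ (f ≫ q) ⁻¹ᵁ V' := fun z hz => hUV hz
    letI : Algebra Γ(S, V') Γ(X, f ⁻¹ᵁ U) := ((f ≫ q).appLE V' (f ⁻¹ᵁ U) e).hom.toAlgebra
    letI := FlatH4.secModuleOver (f ≫ q) F V' (f ⁻¹ᵁ U) e
    haveI : IsScalarTower Γ(S, V') Γ(X, f ⁻¹ᵁ U) Γ(F, f ⁻¹ᵁ U) :=
      IsScalarTower.of_algebraMap_smul fun _ _ => rfl
    haveI : Module.Flat Γ(S, V') Γ(F, f ⁻¹ᵁ U) := by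
      convert h U V' hUV hU hV' using 0
      refine iff_of_eq (congrArg (fun inst : Module Γ(S, V') Γ(F, f ⁻¹ᵁ U) =>
        @Module.Flat Γ(S, V') Γ(F, f ⁻¹ᵁ U) _ _ inst) ?_)
      refine Module.ext' _ _ fun r m => ?_
      show (f ≫ q).appLE V' (f ⁻¹ᵁ U) e r • m = f.app U (q.appLE V' U hUV r) • m
      congr 1
      simp [Scheme.Hom.appLE, Scheme.Hom.comp_app]
    exact (FlatH4.isFlatOverAt_iff (f ≫ q) F V' hV' (f ⁻¹ᵁ U) (hU.preimage f) e
      (show x ∈ f ⁻¹ᵁ U from hyU)).2 (S9353.flat_localized_of_flat _)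

end Groth.Agent.S9349
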