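import Groth.Statements.S9672
import Groth.Agent.Lib.H12.Specialization

set_option autoImplicit false
universe u
open CategoryTheory CategoryTheory.Limits AlgebraicGeometry
open Mor

namespace Groth.Agent.S9672

/-- Let f : Y ⟶ X be quasi-compact and quasi-separated, and write X' for the normalization of X relative
to Y. If x' ∈ X' is the generic point of some irreducible component of X', then there is a point y ∈
Y that is generic in an irreducible component of Y and is sent to x' by the canonical morphism Y ⟶
X'. -/
theorem result {X Y : Scheme.{u}} (f : Y ⟶ X)
    [QuasiCompact f] [QuasiSeparated f] (x' : ↥f.normalization)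
    (hx' : closure {x'} ∈ irreducibleComponents ↥f.normalization) :
    ∃ y : Y, closure {y} ∈ irreducibleComponents ↥Y ∧ f.toNormalization.base y = x' := by
  have hmax : ∀ z, z ⤳ x' → z = x' := fun z hz => by
    have h1 : closure {x'} ⊆ closure {z} :=
      closure_minimal (Set.singleton_subset_iff.2 hz.mem_closure) isClosed_closure
    have h2 := hx'.2 isIrreducible_singleton.closure h1
    exact (Specializes.antisymm hz
      (specializes_iff_mem_closure.2 (h2 (subset_closure rfl)))).eq
  obtain ⟨y, hy⟩ := Groth.Agent.H12.exists_specializes_of_mem_closure_range f.toNormalization x'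
    (f.toNormalization.denseRange _)
  obtain ⟨T, hT, hyT⟩ := exists_mem_irreducibleComponents_subset_of_isIrreducible {y} isIrreducible_singleton
  obtain ⟨y', hy'⟩ := QuasiSober.sober hT.1 (isClosed_of_mem_irreducibleComponents T hT)
  refine ⟨y', hy'.def.symm ▸ hT, hmax _ ?_⟩
  exact ((hy'.specializes (hyT rfl)).map f.toNormalization.continuous).trans hy

end Groth.Agent.S9672
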