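import Groth.Statements.S9673
import Groth.Agent.Lib.NormSrc5.Main
import Groth.Agent.S9672

set_option autoImplicit false
set_option linter.style.haveILetI false
set_option backward.isDefEq.respectTransparency false
universe u
open CategoryTheory CategoryTheory.Limits AlgebraicGeometry
open Mor

namespace Groth.Agent.S9673

open Groth.Agent.NormSrc5
open Groth.Agent.FlatH4 (IsMaxPt)

section
variable {X Y : Scheme.{u}} (f : Y ⟶ X) [QuasiCompact f] [QuasiSeparated f]
variable (hfin : LocallyFinite (fun Z : ↥(irreducibleComponents Y) => (Z : Set Y)))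

noncomputable abbrev chartPrime (U : X.affineOpens) (i : {η : Y // IsMaxPt η ∧ η ∈ f ⁻¹ᵁ U.1})
    [IsDomain (Y.presheaf.stalk i.1)] :
    Spec ((f.normalizationDiagram).obj (Opposite.op U.1)) :=
  ⟨RingHom.ker ((Pi.evalRingHom (fun j : {η : Y // IsMaxPt η ∧ η ∈ f ⁻¹ᵁ U.1} => (Y.presheaf.stalk j.1 : Type u)) i).comp
    (germsHom f U)), RingHom.ker_isPrime _⟩

theorem toNormalization_eq [IsReduced Y] (U : X.affineOpens) (i : {η : Y // IsMaxPt η ∧ η ∈ f ⁻¹ᵁ U.1})
    [IsDomain (Y.presheaf.stalk i.1)] :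
    f.toNormalization.base i.1 = (f.normalizationOpenCover.f U).base (chartPrime f U i) := by
  letI := (f.app U.1).hom.toAlgebra
  have h := congrArg (fun F => F.base (⟨i.1, i.2.2⟩ : (f ⁻¹ᵁ U.1))) (f.ι_toNormalization U)
  refine (show f.toNormalization.base i.1 = _ from h).trans ?_
  refine congrArg (f.normalizationOpenCover.f U).base (PrimeSpectrum.ext (Ideal.ext fun a => ?_))
  let r : Γ(Y, f ⁻¹ᵁ U.1) := (integralClosure Γ(X, U.1) Γ(Y, f ⁻¹ᵁ U.1)).val a
  let p : PrimeSpectrum Γ(Y, f ⁻¹ᵁ U.1) := (f ⁻¹ᵁ U.1).toSpecΓ.base ⟨i.1, i.2.2⟩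
  show r ∈ p.asIdeal ↔ Y.presheaf.germ (f ⁻¹ᵁ U.1) i.1 i.2.2 r = 0
  have h2 : p ∈ PrimeSpectrum.basicOpen r ↔ i.1 ∈ Y.basicOpen r :=
    Iff.of_eq (congrArg (fun O : TopologicalSpace.Opens _ => (⟨i.1, i.2.2⟩ : (f ⁻¹ᵁ U.1)) ∈ O)
      ((f ⁻¹ᵁ U.1).toSpecΓ_preimage_basicOpen r))
  rw [PrimeSpectrum.mem_basicOpen, Scheme.mem_basicOpen Y r i.1 i.2.2] at h2
  letI := (isField_stalk i.2.1).toField
  rw [← not_iff_not, h2]
  exact isUnit_iff_ne_zero

theorem exists_chart (x : f.normalization) : ∃ (U : X.affineOpens) (P : Spec ((f.normalizationDiagram).obj (Opposite.op U.1))),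
    (f.normalizationOpenCover.f U).base P = x :=
  ⟨f.normalizationOpenCover.idx x, f.normalizationOpenCover.covers x⟩

theorem isMaxPt_chart_iff (U : X.affineOpens) (P : Spec ((f.normalizationDiagram).obj (Opposite.op U.1))) :
    IsMaxPt ((f.normalizationOpenCover.f U).base P) ↔
      P.asIdeal ∈ minimalPrimes ((f.normalizationDiagram).obj (Opposite.op U.1)) := by
  let F := f.normalizationOpenCover.f U
  refine ⟨fun h => ⟨⟨P.isPrime, bot_le⟩, fun Q hQ hle => ?_⟩, fun h z hz => ?_⟩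
  · have h1 : (⟨Q, hQ.1⟩ : PrimeSpectrum _) ⤳ P := (PrimeSpectrum.le_iff_specializes _ _).1 hle
    rw [← F.isOpenEmbedding.injective (h _ (h1.map F.continuous))]
  · obtain ⟨Q, rfl⟩ := hz.mem_open F.opensRange.2 ⟨P, rfl⟩
    have h1 : Q ⤳ P := F.isOpenEmbedding.isInducing.specializes_iff.1 hz
    have h2 := (PrimeSpectrum.le_iff_specializes _ _).2 h1
    exact congrArg F.base (PrimeSpectrum.ext (le_antisymm h2 (h.2 ⟨Q.isPrime, bot_le⟩ h2)))

end

/-- Let f : Y ⟶ X be quasi-compact and quasi-separated, with Y normal and the irreducible components of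
Y locally finite (equivalently, each quasi-compact open subset of Y meets only finitely many of
them). Let X' be the normalization of X in Y and f' : Y ⟶ X' the canonical morphism. Then X' is
normal with locally finitely many irreducible components (hence a disjoint union of normal integral
schemes), f' maps generic points of irreducible components of Y to generic points of irreducible
components of X', and over each generic point of a component of X' there lies exactly one generic
point of a component of Y. (Dominance of f' holds for every quasi-compact quasi-separated f and is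
not restated.) -/
theorem result {X Y : Scheme.{u}} (f : Y ⟶ X)
    [QuasiCompact f] [QuasiSeparated f] (hY : Pi1.IsNormalScheme Y)
    (hfin : LocallyFinite (fun Z : ↥(irreducibleComponents ↥Y) => (Z : Set ↥Y))) :
    Pi1.IsNormalScheme f.normalization ∧
    LocallyFinite (fun Z : ↥(irreducibleComponents ↥f.normalization) => (Z : Set ↥f.normalization)) ∧
    (∀ y : Y, closure {y} ∈ irreducibleComponents ↥Y →
      closure {f.toNormalization.base y} ∈ irreducibleComponents ↥f.normalization) ∧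
    (∀ x' : ↥f.normalization, closure {x'} ∈ irreducibleComponents ↥f.normalization →
      ∃! y : Y, closure {y} ∈ irreducibleComponents ↥Y ∧ f.toNormalization.base y = x') := by
  haveI := NormSrc5.isReduced_of_normal hY
  haveI : ∀ y : Y, IsDomain (Y.presheaf.stalk y) := fun y => (hY y).1
  have hVfin : ∀ U : X.affineOpens, {η : Y | IsMaxPt η ∧ η ∈ f ⁻¹ᵁ U.1}.Finite := fun U =>
    finite_maxPts hfin (f.isCompact_preimage U.2.isCompact)
  have hcl := fun U => germsHom_closed f hY U (hVfin U)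
  have hinj := fun U => germsHom_injective f U
  have hmax : ∀ (y : Y), IsMaxPt y → IsMaxPt (f.toNormalization.base y) := fun y hy => by
    obtain ⟨U, hU, hyU, -⟩ := exists_isAffineOpen_mem_and_subset (x := f y) (U := ⊤) trivial
    let i : {η : Y // IsMaxPt η ∧ η ∈ f ⁻¹ᵁ U} := ⟨y, hy, hyU⟩
    letI := fun j : {η : Y // IsMaxPt η ∧ η ∈ f ⁻¹ᵁ U} => (isField_stalk j.2.1).toField
    haveI : Finite {η : Y // IsMaxPt η ∧ η ∈ f ⁻¹ᵁ (⟨U, hU⟩ : X.affineOpens).1} := (hVfin ⟨U, hU⟩).to_subtype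
    rw [show f.toNormalization.base y = _ from toNormalization_eq f ⟨U, hU⟩ i, isMaxPt_chart_iff]
    exact ker_proj_mem_minimalPrimes (germsHom f ⟨U, hU⟩) (hcl _) (hinj _) i
  refine ⟨fun x => ?_, fun x => ?_, fun y hy => isMaxPt_iff.1 (hmax y (isMaxPt_iff.2 hy)), fun x' hx' => ?_⟩
  · obtain ⟨U, P, rfl⟩ := exists_chart f x
    letI := fun j : {η : Y // IsMaxPt η ∧ η ∈ f ⁻¹ᵁ U.1} => (isField_stalk j.2.1).toField
    haveI : Finite {η : Y // IsMaxPt η ∧ η ∈ f ⁻¹ᵁ U.1} := (hVfin U).to_subtype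
    obtain ⟨h1, h2⟩ := normal_atPrime (germsHom f U) (hcl U) (hinj U) P.asIdeal
    let E := (asIso ((f.normalizationOpenCover.f U).stalkMap P)).commRingCatIsoToRingEquiv.trans
      (Spec.stalkIso _ P).commRingCatIsoToRingEquiv
    haveI : IsDomain (f.normalization.presheaf.stalk ((f.normalizationOpenCover.f U).base P)) :=
      Function.Injective.isDomain E.toRingHom E.injective
    exact ⟨inferInstance, IsIntegrallyClosed.of_equiv E.symm⟩
  · obtain ⟨U, P, rfl⟩ := exists_chart f x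
    letI := fun j : {η : Y // IsMaxPt η ∧ η ∈ f ⁻¹ᵁ U.1} => (isField_stalk j.2.1).toField
    haveI : Finite {η : Y // IsMaxPt η ∧ η ∈ f ⁻¹ᵁ U.1} := (hVfin U).to_subtype
    refine ⟨Set.range (f.normalizationOpenCover.f U).base,
      (f.normalizationOpenCover.f U).opensRange.2.mem_nhds ⟨P, rfl⟩, ?_⟩
    refine Set.Finite.of_finite_image (f := fun Z : ↥(irreducibleComponents f.normalization) => (Z : Set f.normalization))
      ((Set.finite_range fun i : {η : Y // IsMaxPt η ∧ η ∈ f ⁻¹ᵁ U.1} =>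
        closure {(f.normalizationOpenCover.f U).base (chartPrime f U i)}).subset ?_) Subtype.val_injective.injOn
    rintro _ ⟨⟨Z, hZ⟩, ⟨z, hzZ, hzU⟩, rfl⟩
    obtain ⟨η, hη⟩ := QuasiSober.sober hZ.1 (isClosed_of_mem_irreducibleComponents Z hZ)
    have hηmax : IsMaxPt η := isMaxPt_iff.2 (hη.def.symm ▸ hZ)
    obtain ⟨Q, rfl⟩ := (hη.specializes hzZ).mem_open (f.normalizationOpenCover.f U).opensRange.2 hzU
    obtain ⟨i, hi⟩ := (mem_minimalPrimes_iff (germsHom f U) (hcl U) (hinj U) Q.asIdeal).1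
      ((isMaxPt_chart_iff f U Q).1 hηmax)
    refine ⟨i, ?_⟩
    show closure {(f.normalizationOpenCover.f U).base (chartPrime f U i)} = Z
    rw [show chartPrime f U i = Q from PrimeSpectrum.ext hi]
    exact hη.def
  · obtain ⟨y, hy, hyx⟩ := S9672.result f x' hx'
    refine ⟨y, ⟨hy, hyx⟩, fun y' ⟨hy', hyx'⟩ => ?_⟩
    obtain ⟨U, hU, hyU, -⟩ := exists_isAffineOpen_mem_and_subset (x := f y) (U := ⊤) trivial
    have hyU' : f y' ∈ U := by
      have h1 := congrArg f.fromNormalization.base (hyx'.trans hyx.symm)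
      have h2 : f y' = f y := by
        rw [← f.toNormalization_fromNormalization]
        exact h1
      rw [h2]; exact hyU
    letI := fun j : {η : Y // IsMaxPt η ∧ η ∈ f ⁻¹ᵁ U} => (isField_stalk j.2.1).toField
    haveI : Finite {η : Y // IsMaxPt η ∧ η ∈ f ⁻¹ᵁ (⟨U, hU⟩ : X.affineOpens).1} := (hVfin ⟨U, hU⟩).to_subtype
    let i : {η : Y // IsMaxPt η ∧ η ∈ f ⁻¹ᵁ U} := ⟨y, isMaxPt_iff.2 hy, hyU⟩
    let i' : {η : Y // IsMaxPt η ∧ η ∈ f ⁻¹ᵁ U} := ⟨y', isMaxPt_iff.2 hy', hyU'⟩
    have h3 := (toNormalization_eq f ⟨U, hU⟩ i').symm.trans ((hyx'.trans hyx.symm).trans (toNormalization_eq f ⟨U, hU⟩ i))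
    have h4 := congrArg PrimeSpectrum.asIdeal ((f.normalizationOpenCover.f ⟨U, hU⟩).isOpenEmbedding.injective h3)
    exact congrArg Subtype.val (ker_proj_injective (germsHom f ⟨U, hU⟩) (hcl _) h4)

end Groth.Agent.S9673
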