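import Groth.Statements.S8257
import Groth.Agent.S0440

set_option autoImplicit false
universe u
open CategoryTheory CategoryTheory.Limits AlgebraicGeometry Opposite TopologicalSpace
open EGA2

namespace Groth.Agent.S8257

/-- Let Y be a locally Noetherian scheme and f : X → Y a morphism of finite type; let j : X₀ → X be a
surjective closed immersion with X₀ reduced (the reduced subscheme underlying X). If X₀ → X → Y is
affine, then f is affine. (So f is affine if and only if f_red is.) -/
theorem result {X X₀ Y : Scheme.{u}}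
    [IsLocallyNoetherian Y] (f : X ⟶ Y) [LocallyOfFiniteType f] [QuasiCompact f]
    (j : X₀ ⟶ X) [IsClosedImmersion j] [Surjective j] [IsReduced X₀] [IsAffineHom (j ≫ f)] :
    IsAffineHom f := by
  refine ⟨fun U hU => ?_⟩
  haveI hV : IsAffineOpen ((j ≫ f) ⁻¹ᵁ U) := IsAffineHom.isAffine_preimage U hU
  haveI : IsAffine (j ⁻¹ᵁ (f ⁻¹ᵁ U)).toScheme := hV
  haveI : IsClosedImmersion (j ∣_ (f ⁻¹ᵁ U)) := inferInstance
  refine S0440.result (j ∣_ (f ⁻¹ᵁ U)) fun x => ?_
  obtain ⟨y, hy⟩ := j.surjective x.1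
  exact ⟨⟨y, show j y ∈ f ⁻¹ᵁ U by rw [hy]; exact x.2⟩, Subtype.ext (by rw [morphismRestrict_base_coe]; exact hy)⟩

end Groth.Agent.S8257
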