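import Groth.Statements.S8261
import Groth.Agent.Lib.RelProj11.FinType

set_option autoImplicit false
universe u
open CategoryTheory CategoryTheory.Limits AlgebraicGeometry Opposite TopologicalSpace
open scoped HomogeneousIdeal
open EGA2

namespace Groth.Agent.S8261

/-- Let 𝒮 be a quasi-coherent positively graded O_Y-algebra generated by 𝒮_1 with 𝒮_1 of finite type
over O_Y. Then Proj(𝒮) is of finite type over Y. -/
theorem result {Y P : Scheme.{u}} (𝒮 : RelProj.QCGrAlg Y)
    (hgen : 𝒮.IsGenDegOne) (hft : 𝒮.IsFTDeg 1) (p : P ⟶ Y)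
    (chart : ∀ (U : Y.Opens) (hU : IsAffineOpen U), (((p ⁻¹ᵁ U : P.Opens) : Scheme.{u}) ≅ Proj (𝒮.deg U hU)))
    (hP : RelProj.IsRelProj 𝒮 p chart) : LocallyOfFiniteType p ∧ QuasiCompact p := by
  have key : ∀ (U : Y.Opens) (hU : IsAffineOpen U),
      LocallyOfFiniteType (Proj.toSpecZero (𝒮.deg U hU) ≫ Spec.map (𝒮.strZero U hU)) ∧
        QuasiCompact (Proj.toSpecZero (𝒮.deg U hU) ≫ Spec.map (𝒮.strZero U hU)) := by
    intro U hU
    obtain ⟨T, hT, hspan⟩ := hft U hU
    exact Groth.Agent.RelProj11.finiteType_toSpecZero_degOne (𝒮.deg U hU) (𝒮.strZero U hU).hom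
      (fun t : T => (t : 𝒮.presheaf.obj (op U))) (fun t => hT t.2) (fun x hx => by
        obtain ⟨c, hc⟩ := hspan x hx
        exact ⟨fun t => c t, hc.trans (Finset.sum_coe_sort T fun t => (𝒮.str.app (op U)).hom (c t) * t).symm⟩)
      (hgen U hU)
  exact ⟨Groth.Agent.RelProj11.of_forall_affine hP @LocallyOfFiniteType fun U hU => (key U hU).1,
    Groth.Agent.RelProj11.of_forall_affine hP @QuasiCompact fun U hU => (key U hU).2⟩

end Groth.Agent.S8261
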