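import Groth.Statements.S8271
import Groth.Agent.Lib.SymAlg11.Spec
import Groth.Agent.Lib.SymAlg11.Sheaf
import Groth.Agent.Lib.SymAlg11.Pushout

set_option autoImplicit false
universe u
open CategoryTheory CategoryTheory.Limits AlgebraicGeometry Opposite TopologicalSpace
open EGA2

namespace Groth.Agent.S8271

/-- For quasi-coherent O_S-modules E and F, the vector bundle V(E ⊕ F) is identified with V(E) ×_S V(F):
with A_E, A_F, A the symmetric algebras of E, F, E ⊕ F and ψ_E : A_E → A, ψ_F : A_F → A the algebra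
maps extending the inclusions of the two summands, the square formed by Spec(A) → Spec(A_E), Spec(A)
→ Spec(A_F) and the two structure morphisms to S is a pullback square. -/
theorem result {S : Scheme.{u}} (E F : S.Modules) (hE : Coh.IsQCoh E) (hF : Coh.IsQCoh F)
    (AE AF A : RelSpec.QCAlg S) (jE : E ⟶ AE.toModule) (jF : F ⟶ AF.toModule) (j : E ⊞ F ⟶ A.toModule)
    (hAE : RelSpec.IsSymAlg E AE jE) (hAF : RelSpec.IsSymAlg F AF jF) (hA : RelSpec.IsSymAlg (E ⊞ F) A j)
    (ψE : AE ⟶ A) (ψF : AF ⟶ A)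
    (hψE : jE ≫ RelSpec.QCAlg.Hom.toModuleMap ψE = biprod.inl ≫ j)
    (hψF : jF ≫ RelSpec.QCAlg.Hom.toModuleMap ψF = biprod.inr ≫ j) :
    IsPullback (RelSpec.QCAlg.specMap ψE) (RelSpec.QCAlg.specMap ψF) AE.π AF.π := by
  refine Groth.Agent.SymAlg11.isPullback_specMap_of_isPushout ψE ψF fun U hU => ?_
  have hP : Coh.IsQCoh (E ⊞ F) := Groth.Agent.M1.isQCoh_biprod hE hF
  let i₁ : Γ(E, U) →ₗ[Γ(S, U)] Γ(E ⊞ F, U) :=
    { toFun := (biprod.inl : E ⟶ E ⊞ F).app U
      map_add' := map_add _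
      map_smul' := fun r m => Scheme.Modules.Hom.app_smul _ r m }
  let i₂ : Γ(F, U) →ₗ[Γ(S, U)] Γ(E ⊞ F, U) :=
    { toFun := (biprod.inr : F ⟶ E ⊞ F).app U
      map_add' := map_add _
      map_smul' := fun r m => Scheme.Modules.Hom.app_smul _ r m }
  let p₁ : Γ(E ⊞ F, U) →ₗ[Γ(S, U)] Γ(E, U) :=
    { toFun := (biprod.fst : E ⊞ F ⟶ E).app U
      map_add' := map_add _
      map_smul' := fun r m => Scheme.Modules.Hom.app_smul _ r m }
  let p₂ : Γ(E ⊞ F, U) →ₗ[Γ(S, U)] Γ(F, U) :=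
    { toFun := (biprod.snd : E ⊞ F ⟶ F).app U
      map_add' := map_add _
      map_smul' := fun r m => Scheme.Modules.Hom.app_smul _ r m }
  have hev : ∀ {M N : S.Modules} {f g : M ⟶ N}, f = g → ∀ x : Γ(M, U), f.app U x = g.app U x :=
    fun h x => by rw [h]
  have H := Groth.Agent.SymAlg11.isPushout_sym_sum i₁ i₂ p₁ p₂
    (fun m => hev (biprod.inl_fst (X := E) (Y := F)) m)
    (fun m => hev (biprod.inr_snd (X := E) (Y := F)) m)
    (fun m => hev (biprod.inr_fst (X := E) (Y := F)) m)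
    (fun m => hev (biprod.inl_snd (X := E) (Y := F)) m)
    (fun x => hev (biprod.total (X := E) (Y := F)) x)
    (Groth.Agent.SymAlg11.symMap (RingHom.id _) i₁.toAddMonoidHom i₁.map_smul)
    (Groth.Agent.SymAlg11.symMap (RingHom.id _) i₂.toAddMonoidHom i₂.map_smul)
    (fun r => Groth.Agent.SymAlg11.symMap_algebraMap _ _ _ r)
    (fun m => Groth.Agent.SymAlg11.symMap_ι _ _ _ m)
    (fun r => Groth.Agent.SymAlg11.symMap_algebraMap _ _ _ r)
    (fun m => Groth.Agent.SymAlg11.symMap_ι _ _ _ m)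
  let eE := (RingEquiv.ofBijective _
    (Groth.Agent.SymAlg11.bijective_liftOn hE hAE U hU)).toCommRingCatIso
  let eF := (RingEquiv.ofBijective _
    (Groth.Agent.SymAlg11.bijective_liftOn hF hAF U hU)).toCommRingCatIso
  let eP := (RingEquiv.ofBijective _
    (Groth.Agent.SymAlg11.bijective_liftOn hP hA U hU)).toCommRingCatIso
  refine H.of_iso (Iso.refl _) eE eF eP ?_ ?_ ?_ ?_
  · exact CommRingCat.hom_ext (RingHom.ext fun r =>
      Groth.Agent.SymAlg11.liftOn_algebraMap AE jE U r)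
  · exact CommRingCat.hom_ext (RingHom.ext fun r =>
      Groth.Agent.SymAlg11.liftOn_algebraMap AF jF U r)
  · refine CommRingCat.hom_ext (Groth.Agent.SymAlg11.symHom_ext (fun r => ?_) (fun m => ?_))
    · change Groth.Agent.SymAlg11.liftOn A j U (Groth.Agent.SymAlg11.symMap (RingHom.id _) i₁.toAddMonoidHom i₁.map_smul _) =
        (ψE.hom.app (op U)).hom (Groth.Agent.SymAlg11.liftOn AE jE U _)
      rw [Groth.Agent.SymAlg11.symMap_algebraMap, Groth.Agent.SymAlg11.liftOn_algebraMap,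
        Groth.Agent.SymAlg11.liftOn_algebraMap]
      exact (ConcreteCategory.congr_hom (NatTrans.congr_app ψE.comm (op U)) r).symm
    · change Groth.Agent.SymAlg11.liftOn A j U (Groth.Agent.SymAlg11.symMap (RingHom.id _) i₁.toAddMonoidHom i₁.map_smul _) =
        (ψE.hom.app (op U)).hom (Groth.Agent.SymAlg11.liftOn AE jE U _)
      rw [Groth.Agent.SymAlg11.symMap_ι, Groth.Agent.SymAlg11.liftOn_ι,
        Groth.Agent.SymAlg11.liftOn_ι]
      exact (hev hψE m).symm
  · refine CommRingCat.hom_ext (Groth.Agent.SymAlg11.symHom_ext (fun r => ?_) (fun m => ?_))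
    · change Groth.Agent.SymAlg11.liftOn A j U (Groth.Agent.SymAlg11.symMap (RingHom.id _) i₂.toAddMonoidHom i₂.map_smul _) =
        (ψF.hom.app (op U)).hom (Groth.Agent.SymAlg11.liftOn AF jF U _)
      rw [Groth.Agent.SymAlg11.symMap_algebraMap, Groth.Agent.SymAlg11.liftOn_algebraMap,
        Groth.Agent.SymAlg11.liftOn_algebraMap]
      exact (ConcreteCategory.congr_hom (NatTrans.congr_app ψF.comm (op U)) r).symm
    · change Groth.Agent.SymAlg11.liftOn A j U (Groth.Agent.SymAlg11.symMap (RingHom.id _) i₂.toAddMonoidHom i₂.map_smul _) =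
        (ψF.hom.app (op U)).hom (Groth.Agent.SymAlg11.liftOn AF jF U _)
      rw [Groth.Agent.SymAlg11.symMap_ι, Groth.Agent.SymAlg11.liftOn_ι,
        Groth.Agent.SymAlg11.liftOn_ι]
      exact (hev hψF m).symm

end Groth.Agent.S8271
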