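import Groth.Statements.S8272
import Groth.Agent.Lib.EGA2.ProjMap
import Mathlib.AlgebraicGeometry.IdealSheaf.Basic

set_option autoImplicit false
universe u
open CategoryTheory CategoryTheory.Limits AlgebraicGeometry Opposite TopologicalSpace
open EGA2

namespace Groth.Agent.S8272

/-- Let T be a positively graded ring, Z = Proj T and g ∈ T_d (d > 0) a homogeneous element that is not
a zero divisor in T. Then Z is the smallest closed subscheme of Z containing the open D_+(g);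
equivalently the kernel (ideal sheaf) of the open immersion D_+(g) → Z vanishes. -/
theorem result {R A : Type u} [CommRing R] [CommRing A] [Algebra R A]
    (𝒜 : ℕ → Submodule R A) [GradedAlgebra 𝒜] {d : ℕ} (hd : 0 < d) (g : A) (hg : g ∈ 𝒜 d)
    (hnz : g ∈ nonZeroDivisors A) :
    (Proj.basicOpen 𝒜 g).ι.ker = ⊥ := by
  have hle : ∀ (f : A), Proj.basicOpen 𝒜 (f * g) = Proj.basicOpen 𝒜 f ⊓ Proj.basicOpen 𝒜 g :=
    fun f => Proj.basicOpen_mul 𝒜 f g
  have : IsAffineHom (Proj.basicOpen 𝒜 g).ι := by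
    refine isAffineHom_of_forall_exists_isAffineOpen _ fun x => ?_
    have hx := (Groth.Agent.EGA2.iSup_basicOpen_pos 𝒜).ge (Set.mem_univ x)
    obtain ⟨⟨f, e, he, hf⟩, hxf⟩ := TopologicalSpace.Opens.mem_iSup.1 hx
    refine ⟨_, hxf, Proj.isAffineOpen_basicOpen 𝒜 f hf he, ?_⟩
    rw [← Scheme.Hom.isAffineOpen_iff_of_isOpenImmersion (Proj.basicOpen 𝒜 g).ι,
      Scheme.Hom.image_preimage_eq_opensRange_inf, Scheme.Opens.opensRange_ι, inf_comm, ← hle]
    exact Proj.isAffineOpen_basicOpen 𝒜 (f * g) (SetLike.mul_mem_graded hf hg) (by omega)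
  refine Scheme.IdealSheafData.ext_of_iSup_eq_top
    (fun f : {f : A // ∃ e : ℕ, 0 < e ∧ f ∈ 𝒜 e} =>
      (⟨Proj.basicOpen 𝒜 f.1, Proj.isAffineOpen_basicOpen 𝒜 f.1 f.2.choose_spec.2 f.2.choose_spec.1⟩ :
        (Proj 𝒜).affineOpens))
    (Groth.Agent.EGA2.iSup_basicOpen_pos 𝒜) fun ⟨f, hf'⟩ => ?_
  obtain ⟨e, he, hf⟩ := hf'
  rw [Scheme.Hom.ker_apply, Scheme.IdealSheafData.ideal_bot, Pi.bot_apply,
    ← RingHom.injective_iff_ker_eq_bot, injective_iff_map_eq_zero]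
  intro y hy
  obtain ⟨x, rfl⟩ := (ConcreteCategory.bijective_of_isIso (Proj.basicOpenIsoAway 𝒜 f hf he).hom).2 y
  obtain ⟨n, a, ha, rfl⟩ := HomogeneousLocalization.Away.mk_surjective 𝒜 hf x
  rw [Proj.basicOpenIsoAway_hom] at hy
  have hres : (Proj 𝒜).presheaf.map (homOfLE (Proj.basicOpen_mono 𝒜 f (f * g) ⟨g, rfl⟩)).op
      (Proj.awayToSection 𝒜 f (HomogeneousLocalization.Away.mk 𝒜 hf n a ha)) = 0 := by
    rw [Scheme.Opens.ι_app] at hy
    have h1 := congr((Proj 𝒜).presheaf.map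
      (homOfLE (show Proj.basicOpen 𝒜 (f * g) ≤
        (Proj.basicOpen 𝒜 g).ι ''ᵁ ((Proj.basicOpen 𝒜 g).ι ⁻¹ᵁ Proj.basicOpen 𝒜 f) by
          rw [Scheme.Hom.image_preimage_eq_opensRange_inf, Scheme.Opens.opensRange_ι, inf_comm, ← hle])).op
      $hy)
    erw [map_zero, ← CategoryTheory.comp_apply, ← Functor.map_comp] at h1
    exact h1
  rw [← CategoryTheory.comp_apply, ← Proj.awayMap_awayToSection 𝒜 hg rfl, CategoryTheory.comp_apply,
    ← Proj.basicOpenIsoAway_hom 𝒜 (f * g) (SetLike.mul_mem_graded hf hg) (by omega)] at hres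
  have hz := (ConcreteCategory.bijective_of_isIso
    (Proj.basicOpenIsoAway 𝒜 (f * g) (SetLike.mul_mem_graded hf hg) (by omega)).hom).1
      (hres.trans (map_zero _).symm)
  replace hz : HomogeneousLocalization.awayMap 𝒜 hg rfl
      (HomogeneousLocalization.Away.mk 𝒜 hf n a ha) = 0 := hz
  rw [HomogeneousLocalization.awayMap_mk,
    Groth.Agent.EGA2.away_mk_eq_zero_iff] at hz
  obtain ⟨k, hk⟩ := hz
  have h0 : f ^ k * a = 0 := by
    refine (mem_nonZeroDivisors_iff_right.1 (pow_mem hnz (k + n))) _ ?_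
    calc f ^ k * a * g ^ (k + n) = (f * g) ^ k * (a * g ^ n) := by ring
      _ = 0 := hk
  rw [(Groth.Agent.EGA2.away_mk_eq_zero_iff 𝒜 hf).2 ⟨k, h0⟩, map_zero]

end Groth.Agent.S8272
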