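import Groth.Statements.S8277
import Groth.Agent.Lib.EGA2.Natural

set_option autoImplicit false
universe u
open EGA2

namespace Groth.Agent.S8277

/-- For a positively graded ring S, the graded ring S♮ with S♮_n = S_{≥ n} = ⊕_{m ≥ n} S_m (presented
here as a graded ring S' with an injective algebra homomorphism φ : S' → S[X] carrying S'_n onto
S_{≥ n}·X^n for every n, so that S'_0 is identified with S), and n₀ ≥ 0: S♮_{n+1} = S♮_1 S♮_n for n
≥ n₀ if and only if S_{n+1} = S_1 S_n for n ≥ n₀. -/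
theorem result {R A B : Type u} [CommRing R] [CommRing A] [Algebra R A]
    (𝒜 : ℕ → Submodule R A) [GradedAlgebra 𝒜] [CommRing B] [Algebra R B] (ℬ : ℕ → Submodule R B) [GradedAlgebra ℬ]
    (φ : B →ₐ[R] Polynomial A) (hφ : Function.Injective φ)
    (hdeg : ∀ n : ℕ, Submodule.map φ.toLinearMap (ℬ n) =
      Submodule.map ((Polynomial.monomial n : A →ₗ[A] Polynomial A).restrictScalars R) (⨆ (m : ℕ) (_ : n ≤ m), 𝒜 m)) (n₀ : ℕ) :
    (∀ n : ℕ, n₀ ≤ n → ℬ (n + 1) = ℬ 1 * ℬ n) ↔ (∀ n : ℕ, n₀ ≤ n → 𝒜 (n + 1) = 𝒜 1 * 𝒜 n) := by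
  simp only [Groth.Agent.EGA2.natural_mul_eq_iff 𝒜 hdeg hφ]
  constructor
  · intro h n hn
    refine le_antisymm (fun a ha => ?_) ?_
    · have ha' : a ∈ Groth.Agent.EGA2.geSub 𝒜 1 * Groth.Agent.EGA2.geSub 𝒜 n :=
        (h n hn).le (Groth.Agent.EGA2.le_geSub 𝒜 le_rfl ha)
      rw [← DirectSum.decompose_of_mem_same 𝒜 ha, Nat.add_comm n 1]
      refine Submodule.mul_induction_on ha' (fun x hx y hy => ?_) fun x y hx hy => ?_
      · rw [Groth.Agent.EGA2.decompose_mul_min 𝒜 hx hy]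
        exact Submodule.mul_mem_mul (DirectSum.decompose 𝒜 x 1).2 (DirectSum.decompose 𝒜 y n).2
      · rw [DirectSum.decompose_add, DirectSum.add_apply, Submodule.coe_add]
        exact add_mem hx hy
    · rw [Nat.add_comm n 1]
      exact Submodule.mul_le.2 fun x hx y hy => SetLike.GradedMul.mul_mem hx hy
  · intro h n hn
    refine le_antisymm ?_ ((Groth.Agent.EGA2.geSub_mul_le 𝒜 1 n).trans_eq (by rw [Nat.add_comm]))
    refine iSup₂_le fun m hm => ?_
    obtain ⟨k, rfl⟩ : ∃ k, m = k + 1 := ⟨m - 1, by omega⟩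
    rw [h k (by omega)]
    exact mul_le_mul' (Groth.Agent.EGA2.le_geSub 𝒜 le_rfl) (Groth.Agent.EGA2.le_geSub 𝒜 (by omega))

end Groth.Agent.S8277
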