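import Groth.Statements.S8278
import Groth.Agent.Lib.EGA2.Natural

set_option autoImplicit false
universe u
open EGA2

namespace Groth.Agent.S8278

/-- For a positively graded ring S, the graded ring S♮ with S♮_n = S_{≥ n} = ⊕_{m ≥ n} S_m (presented
here as a graded ring S' with an injective algebra homomorphism φ : S' → S[X] carrying S'_n onto
S_{≥ n}·X^n for every n, so that S'_0 is identified with S), and n₀ ≥ 1: S♮_n = (S♮_1)^n for n ≥ n₀
if and only if S_n = (S_1)^n for n ≥ n₀. (n₀ ≥ 1 because the zeroth power of a submodule is the span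
of 1, not the degree-zero part.) -/
theorem result {R A B : Type u} [CommRing R] [CommRing A] [Algebra R A]
    (𝒜 : ℕ → Submodule R A) [GradedAlgebra 𝒜] [CommRing B] [Algebra R B] (ℬ : ℕ → Submodule R B) [GradedAlgebra ℬ]
    (φ : B →ₐ[R] Polynomial A) (hφ : Function.Injective φ)
    (hdeg : ∀ n : ℕ, Submodule.map φ.toLinearMap (ℬ n) =
      Submodule.map ((Polynomial.monomial n : A →ₗ[A] Polynomial A).restrictScalars R) (⨆ (m : ℕ) (_ : n ≤ m), 𝒜 m)) (n₀ : ℕ) (hn₀ : 1 ≤ n₀) :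
    (∀ n : ℕ, n₀ ≤ n → ℬ n = ℬ 1 ^ n) ↔ (∀ n : ℕ, n₀ ≤ n → 𝒜 n = 𝒜 1 ^ n) := by
  refine (forall₂_congr fun (n : ℕ) (hn : n₀ ≤ n) => Groth.Agent.EGA2.natural_pow_eq_iff 𝒜 hdeg hφ (le_trans hn₀ hn)).trans ?_
  have hpow : ∀ n, Groth.Agent.EGA2.geSub 𝒜 1 ^ n ≤ Groth.Agent.EGA2.geSub 𝒜 n := by
    intro n
    induction n with
    | zero => rw [pow_zero, Submodule.one_le]
              exact Groth.Agent.EGA2.le_geSub 𝒜 le_rfl SetLike.GradedOne.one_mem
    | succ n ih =>
      rw [pow_succ]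
      exact (mul_le_mul' ih le_rfl).trans (Groth.Agent.EGA2.geSub_mul_le 𝒜 n 1)
  have h1pow : ∀ n, 𝒜 1 ^ n ≤ 𝒜 n := by
    intro n
    induction n with
    | zero => rw [pow_zero, Submodule.one_le]; exact SetLike.GradedOne.one_mem
    | succ n ih =>
      rw [pow_succ]
      exact (mul_le_mul' ih le_rfl).trans (Submodule.mul_le.2 fun x hx y hy => SetLike.GradedMul.mul_mem hx hy)
  have hproj : ∀ n, ∀ a ∈ Groth.Agent.EGA2.geSub 𝒜 1 ^ n, (DirectSum.decompose 𝒜 a n : A) ∈ 𝒜 1 ^ n := by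
    intro n
    induction n with
    | zero =>
      intro a ha
      rw [pow_zero, Submodule.one_eq_range] at ha ⊢
      obtain ⟨r, rfl⟩ := ha
      refine ⟨r, ?_⟩
      rw [Algebra.linearMap_apply, DirectSum.decompose_of_mem_same 𝒜 (SetLike.algebraMap_mem_graded 𝒜 r)]
    | succ n ih =>
      intro a ha
      rw [pow_succ] at ha
      refine Submodule.mul_induction_on ha (fun x hx y hy => ?_) fun x y hx hy => ?_
      · rw [Groth.Agent.EGA2.decompose_mul_min 𝒜 (hpow n hx) hy, pow_succ]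
        exact Submodule.mul_mem_mul (ih x hx) (DirectSum.decompose 𝒜 y 1).2
      · rw [DirectSum.decompose_add, DirectSum.add_apply, Submodule.coe_add]
        exact add_mem hx hy
  constructor
  · intro h n hn
    refine le_antisymm (fun a ha => ?_) (h1pow n)
    rw [← DirectSum.decompose_of_mem_same 𝒜 ha]
    exact hproj n a ((h n hn).le (Groth.Agent.EGA2.le_geSub 𝒜 le_rfl ha))
  · intro h n hn
    refine le_antisymm (iSup₂_le fun m hm => ?_) (hpow n)
    rw [h m (hn.trans hm)]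
    have h1 : ∀ k, 𝒜 1 ^ k ≤ Groth.Agent.EGA2.geSub 𝒜 1 ^ k := by
      intro k
      induction k with
      | zero => rw [pow_zero, pow_zero]
      | succ k ih =>
        rw [pow_succ, pow_succ]
        exact mul_le_mul' ih (Groth.Agent.EGA2.le_geSub 𝒜 le_rfl)
    obtain ⟨k, rfl⟩ : ∃ k, n = k + 1 := ⟨n - 1, by omega⟩
    obtain ⟨j, rfl⟩ : ∃ j, m = k + j := ⟨m - k, by omega⟩
    rw [pow_add, pow_succ]
    exact mul_le_mul' (h1 k) ((h1pow j).trans (Groth.Agent.EGA2.le_geSub 𝒜 (by omega)))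

end Groth.Agent.S8278
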