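import Groth.Statements.S8282
import Groth.Agent.Lib.DegOne11.Eventually
import Groth.Agent.Lib.EGA2.PConeMap

set_option autoImplicit false
universe u
open CategoryTheory CategoryTheory.Limits AlgebraicGeometry
open EGA2

namespace Groth.Agent.S8282

/-- Let T be a positively graded ring which is a T_0-algebra of finite type, and T' = ⊕_n T_1^n → T the
injective graded homomorphism from the subalgebra generated by T_1 (T' presented as a graded ring
with φ : T' → T injective, bijective in degrees 0 and 1, and T'_n = (T'_1)^n for n ≥ 1). If the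
morphism of homogeneous spectra induced by φ is everywhere defined (its domain G(φ) is the whole of
Proj T) and is an isomorphism onto Proj T', then there is n₀ with T_n = T_1^n for all n ≥ n₀. -/
theorem result {R A B : Type u} [CommRing R] [CommRing A] [Algebra R A]
    (𝒜 : ℕ → Submodule R A) [GradedAlgebra 𝒜] [CommRing B] [Algebra R B] (ℬ : ℕ → Submodule R B) [GradedAlgebra ℬ]
    [Algebra.FiniteType (ℬ 0) B] (φ : 𝒜 →+*ᵍ ℬ) (hφ : Function.Injective φ)
    (h0 : Set.BijOn φ (𝒜 0) (ℬ 0)) (h1 : Set.BijOn φ (𝒜 1) (ℬ 1))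
    (hgen : ∀ n : ℕ, 1 ≤ n → 𝒜 n = 𝒜 1 ^ n)
    (hdom : PCone.dom φ = ⊤)
    (p : (PCone.dom φ : Scheme.{u}) ⟶ Proj 𝒜)
    (hp : ∀ (d : ℕ) (f : A) (hd : 0 < d) (hf : f ∈ 𝒜 d),
      PCone.chart φ hf hd ≫ p =
        Spec.map (CommRingCat.ofHom (HomogeneousLocalization.Away.map φ f)) ≫ Proj.awayι 𝒜 f hf hd)
    [IsIso p] :
    ∃ n₀ : ℕ, ∀ n : ℕ, n₀ ≤ n → ℬ n = ℬ 1 ^ n := by
  have hpow : ∀ m : ℕ, 0 < m → ∀ a ∈ 𝒜 m, φ a ∈ ℬ 1 ^ m := by
    intro m hm
    rw [hgen m hm]
    obtain ⟨k, rfl⟩ := Nat.exists_eq_succ_of_ne_zero hm.ne'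
    clear hm
    induction k with
    | zero => intro a ha; rw [pow_one] at ha ⊢; exact φ.2 ha
    | succ k ih =>
      intro a ha
      rw [pow_succ] at ha ⊢
      refine Submodule.mul_induction_on ha (fun x hx y hy => ?_) (fun x y hx hy => ?_)
      · rw [map_mul]; exact Submodule.mul_mem_mul (ih x hx) (φ.2 hy)
      · rw [map_add]; exact add_mem hx hy
  refine DegOne11.eventually_eq_pow ℬ (fun d hd x hx => ?_) (fun g hg d x hx => ?_)
  · by_contra hxI
    have hI : (Ideal.span (ℬ 1 : Set B)).IsHomogeneous ℬ :=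
      Ideal.homogeneous_span _ _ fun y hy => ⟨1, hy⟩
    rw [hI.radical_eq, Submodule.mem_sInf] at hxI
    push Not at hxI
    obtain ⟨J, ⟨hJh, hIJ, hJp⟩, hxJ⟩ := hxI
    let w : Proj ℬ := ⟨⟨J, hJh⟩, hJp, fun hle => hxJ (hle (EGA2.mem_irr_of_mem ℬ hd hx))⟩
    have hw : w ∈ PCone.dom φ := hdom ▸ TopologicalSpace.Opens.mem_top w
    obtain ⟨⟨f, e, he, hf⟩, hfw⟩ := TopologicalSpace.Opens.mem_iSup.1 hw
    refine (ProjectiveSpectrum.mem_basicOpen _ _ _).1 hfw (hIJ ?_)
    obtain ⟨k, rfl⟩ := Nat.exists_eq_succ_of_ne_zero he.ne'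
    have h2 := hpow _ he f hf
    rw [pow_succ] at h2
    exact Submodule.mul_induction_on h2 (fun a _ b hb => Ideal.mul_mem_left _ _ (Ideal.subset_span hb))
      fun a b ha hb => add_mem ha hb
  · obtain ⟨f, hf, rfl⟩ := h1.surjOn hg
    haveI : IsOpenImmersion (PCone.chart φ hf Nat.one_pos) := by
      haveI : IsOpenImmersion (PCone.chart φ hf Nat.one_pos ≫ (PCone.dom φ).ι) := by
        rw [PCone.chart, IsOpenImmersion.lift_fac]; infer_instance
      exact IsOpenImmersion.of_comp _ (PCone.dom φ).ι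
    have hr : (PCone.chart φ hf Nat.one_pos).opensRange = p ⁻¹ᵁ (Proj.awayι 𝒜 f hf Nat.one_pos).opensRange := by
      rw [Proj.opensRange_awayι, EGA2.pcone_preimage φ hp Nat.one_pos hf]
      simp only [EGA2.chart_eq_degChart φ Nat.one_pos hf]
      exact EGA2.opensRange_degChart _ _ (EGA2.pcone_dom_eq φ) Nat.one_pos Nat.one_pos hf
    have hpb : IsPullback (Spec.map (CommRingCat.ofHom (HomogeneousLocalization.Away.map φ f)))
        (PCone.chart φ hf Nat.one_pos) (Proj.awayι 𝒜 f hf Nat.one_pos) p := by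
      exact IsOpenImmersion.isPullback _ _ _ _ (hp 1 f Nat.one_pos hf) hr.symm
    haveI : IsIso (Spec.map (CommRingCat.ofHom (HomogeneousLocalization.Away.map φ f))) :=
      MorphismProperty.of_isPullback (P := MorphismProperty.isomorphisms Scheme.{u}) hpb.flip ‹IsIso p›
    haveI hiso : IsIso (CommRingCat.ofHom (HomogeneousLocalization.Away.map φ f)) := by
      haveI : IsIso (Scheme.Spec.map (CommRingCat.ofHom (HomogeneousLocalization.Away.map φ f)).op) := ‹_›
      haveI := isIso_of_reflects_iso (CommRingCat.ofHom (HomogeneousLocalization.Away.map φ f)).op Scheme.Spec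
      exact isIso_of_op _
    have hx' : x ∈ ℬ (d • 1) := by simpa using hx
    obtain ⟨y, hy⟩ := ((ConcreteCategory.isIso_iff_bijective _).1 hiso).2
      (HomogeneousLocalization.Away.mk ℬ (φ.2 hf) d x hx')
    obtain ⟨k, a, ha, rfl⟩ := HomogeneousLocalization.Away.mk_surjective 𝒜 hf y
    have hy' : HomogeneousLocalization.Away.map φ f (HomogeneousLocalization.Away.mk 𝒜 hf k a ha) =
      HomogeneousLocalization.Away.mk ℬ (φ.2 hf) d x hx' := hy
    rw [HomogeneousLocalization.Away.map_mk] at hy'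
    obtain ⟨j, hj⟩ := (EGA2.away_mk_eq_iff ℬ (φ.2 hf)).1 hy'
    refine ⟨j + k + 1, ?_⟩
    have h3 : φ f ^ (j + k + 1) * x = φ (f ^ (j + d + 1) * a) := by
      rw [map_mul, map_pow]
      calc φ f ^ (j + k + 1) * x = φ f * (φ f ^ j * (φ f ^ k * x)) := by ring
        _ = φ f * (φ f ^ j * (φ f ^ d * φ a)) := by
          have hj' : φ f ^ j * (φ f ^ d * φ a) = φ f ^ j * (φ f ^ k * x) := hj
          rw [hj']
        _ = φ f ^ (j + d + 1) * φ a := by ring
    rw [h3]
    refine hpow (j + k + 1 + d) (by omega) _ ?_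
    have ha' : a ∈ 𝒜 k := by simpa using ha
    have hfp : f ^ (j + d + 1) ∈ 𝒜 (j + d + 1) := by simpa using SetLike.pow_mem_graded (j + d + 1) hf
    have h4 := SetLike.mul_mem_graded hfp ha'
    rwa [show j + d + 1 + k = j + k + 1 + d by omega] at h4

end Groth.Agent.S8282
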