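import Groth.Statements.S8283
import Groth.Agent.Lib.FibSect11.Algebra
import Groth.Agent.Lib.Goren15.Scheme
import Groth.Agent.Lib.CenterCoh13.Basic

set_option autoImplicit false
universe u
open CategoryTheory CategoryTheory.Limits AlgebraicGeometry Opposite TopologicalSpace
open EGA2

namespace Groth.Agent.S8283

/-- Let π : V → X be locally of finite type and j : X → V a section of π that is a closed immersion with
invertible ideal sheaf. Then for every x ∈ X the local ring at j(x) of the fibre π⁻¹(π(j(x))) =
π⁻¹(x) is a regular local ring of dimension one, i.e. a discrete valuation ring (so j(x) lies on a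
single irreducible component of the fibre; the completion of that local ring is then a power-series
ring in one variable over the residue field of x). (The published statement assumes π of finite
type; this row assumes only that π is locally of finite type, which is all the proof uses: it needs
no more than the Noetherian property of the local rings of the fibre.) -/
theorem result {X V : Scheme.{u}} (π : V ⟶ X) [LocallyOfFiniteType π]
    (j : X ⟶ V) [IsClosedImmersion j] (hj : j ≫ π = 𝟙 X) (hJ : BlowUp.IsEffCartierIdeal j.ker) (x : X) :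
    ∃ _ : IsDomain ((π.fiber (π.base (j.base x))).presheaf.stalk (π.asFiber (j.base x))),
      IsDiscreteValuationRing ((π.fiber (π.base (j.base x))).presheaf.stalk (π.asFiber (j.base x))) := by
  classical
  obtain ⟨U, hxU, g, hg, hgI⟩ := hJ (j.base x)
  let t := V.presheaf.germ U.1 (j.base x) hxU g
  haveI hiso : IsIso (j ≫ π) := hj ▸ inferInstance
  haveI hst : IsIso ((j ≫ π).stalkMap x) := inferInstance
  let σ : V.presheaf.stalk (j.base x) →+* X.presheaf.stalk (π.base (j.base x)) :=
    (inv ((j ≫ π).stalkMap x)).hom.comp (j.stalkMap x).hom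
  have hσ : ∀ a, σ ((π.stalkMap (j.base x)).hom a) = a := fun a => by
    show inv ((j ≫ π).stalkMap x) ((j.stalkMap x) (π.stalkMap (j.base x) a)) = a
    have h1 : (j ≫ π).stalkMap x a = j.stalkMap x (π.stalkMap (j.base x) a) := by
      rw [Scheme.Hom.stalkMap_comp]; rfl
    rw [← h1]
    exact ConcreteCategory.congr_hom (IsIso.hom_inv_id ((j ≫ π).stalkMap x)) a
  have ht0 : σ t = 0 := by
    show inv ((j ≫ π).stalkMap x) (j.stalkMap x (V.presheaf.germ U.1 (j.base x) hxU g)) = 0
    have hg0 : j.app U.1 g = 0 := by
      have : g ∈ j.ker.ideal U := hgI ▸ Ideal.mem_span_singleton_self g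
      rwa [Scheme.Hom.ker_apply, RingHom.mem_ker] at this
    rw [Scheme.Hom.germ_stalkMap_apply, hg0, map_zero, map_zero]
  have hker : ∀ b, σ b = 0 → ∃ c, b = t * c := fun b hb => by
    have hb' : j.stalkMap x b = 0 := (ConcreteCategory.bijective_of_isIso (inv ((j ≫ π).stalkMap x))).1
      (hb.trans (map_zero _).symm)
    obtain ⟨c, hc⟩ := Ideal.mem_span_singleton'.1 (CenterCoh13.ker_stalkMap_le j x (Ideal.span {t})
      (fun U' hxU' a ha => by
        obtain ⟨W, hW, hxW, hWle⟩ := exists_isAffineOpen_mem_and_subset (X := V) (x := j.base x)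
          (U := U.1 ⊓ U'.1) ⟨hxU, hxU'⟩
        let W' : V.affineOpens := ⟨W, hW⟩
        have h1 : W' ≤ U := fun y hy => (hWle hy).1
        have h2 : W' ≤ U' := fun y hy => (hWle hy).2
        have hm := Ideal.mem_map_of_mem (V.presheaf.map (homOfLE h2).op).hom ha
        rw [Scheme.IdealSheafData.map_ideal _ h2, ← Scheme.IdealSheafData.map_ideal _ h1, hgI, Ideal.map_span,
          Set.image_singleton, Ideal.mem_span_singleton'] at hm
        obtain ⟨c, hc⟩ := hm
        refine Ideal.mem_span_singleton'.2 ⟨V.presheaf.germ W (j.base x) hxW c, ?_⟩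
        have e := congrArg (V.presheaf.germ W (j.base x) hxW) hc
        rw [map_mul] at e
        rw [← TopCat.Presheaf.germ_res_apply V.presheaf (homOfLE h2) (j.base x) hxW a]
        refine Eq.trans ?_ e
        exact congrArg (_ * ·) (TopCat.Presheaf.germ_res_apply V.presheaf (homOfLE h1) (j.base x) hxW g).symm)
      b hb')
    exact ⟨c, by rw [← hc, mul_comm]⟩
  have htreg : IsLeftRegular t := by
    letI := TopCat.Presheaf.algebra_section_stalk V.presheaf (⟨j.base x, hxU⟩ : U.1)
    haveI := U.2.isLocalization_stalk ⟨j.base x, hxU⟩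
    have hmem : t ∈ nonZeroDivisors (V.presheaf.stalk (j.base x)) :=
      IsLocalization.map_nonZeroDivisors_le (U.2.primeIdealOf ⟨j.base x, hxU⟩).asIdeal.primeCompl
        (V.presheaf.stalk (j.base x)) ⟨g, hg, rfl⟩
    exact fun a b h => (mul_cancel_left_mem_nonZeroDivisors hmem).1 h
  obtain ⟨e⟩ := Goren15.nonempty_asFiberEquiv π (j.base x)
  haveI : LocallyOfFiniteType (π.fiberToSpecResidueField (π.base (j.base x))) :=
    MorphismProperty.pullback_snd _ _ inferInstance
  haveI : IsLocallyNoetherian (π.fiber (π.base (j.base x))) :=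
    LocallyOfFiniteType.isLocallyNoetherian (π.fiberToSpecResidueField (π.base (j.base x)))
  refine FibSect11.isDiscreteValuationRing_fibre (π.stalkMap (j.base x)).hom σ hσ hker ht0 htreg
    (e.toRingHom.comp (Ideal.Quotient.mk _)) (e.surjective.comp Ideal.Quotient.mk_surjective) fun b => ?_
  show e (Ideal.Quotient.mk _ b) = 0 ↔ _
  rw [EmbeddingLike.map_eq_zero_iff, Ideal.Quotient.eq_zero_iff_mem]

end Groth.Agent.S8283
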