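import Groth.Statements.S8289
import Groth.Agent.Lib.RelCone11.ConeImm

set_option autoImplicit false
universe u
open CategoryTheory CategoryTheory.Limits AlgebraicGeometry Opposite TopologicalSpace
open scoped HomogeneousIdeal
noncomputable section
open EGA2

namespace Groth.Agent.S8289

/-- The canonical morphism i from the affine cone to the projective cone: let 𝒮 be a quasi-coherent
positively graded O_Y-algebra with 𝒮_0 = O_Y, Ŝ = 𝒮[z] (z of degree one; presented through a graded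
homomorphism ι : 𝒮 → Ŝ and a degree-one global section z with 𝒮(U)[X] → Ŝ(U), X ↦ z, bijective on
affine opens), C = Spec(𝒮) and Ĉ = Proj(Ŝ). There is a unique morphism i : C → Ĉ which, on the chart
Spec 𝒮(U) of C over an affine open U, is Spec of the ring isomorphism Ŝ(U)_(z) ≅ 𝒮(U) (sending x/z^k
to x for x homogeneous of degree k) followed by the inclusion of D_+(z|U) into Proj Ŝ(U) and the
chart of Ĉ; this i is an open immersion, affine, lies over Y, Ĉ is the smallest closed subscheme of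
Ĉ containing its image (its kernel ideal sheaf is zero), and its image is the open Ĉ_z where the
section z does not vanish (characterised chartwise by D_+(z|U)). -/
theorem result {Y PC : Scheme.{u}} (𝒮 Sh : RelProj.QCGrAlg Y)
    (h0 : ∀ (U : Y.Opens) (hU : IsAffineOpen U), Function.Bijective (𝒮.strZero U hU).hom)
    (ι : 𝒮.toQCAlg ⟶ Sh.toQCAlg) (hι : RelProj.IsGradedHom ι) (z : Sh.presheaf.obj (op ⊤))
    (hz : ∀ (U : Y.Opens) (hU : IsAffineOpen U), (Sh.presheaf.map (homOfLE le_top).op).hom z ∈ Sh.deg U hU 1)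
    (hpoly : ∀ (U : Y.Opens) (hU : IsAffineOpen U),
      Function.Bijective (Polynomial.eval₂RingHom (ι.hom.app (op U)).hom ((Sh.presheaf.map (homOfLE le_top).op).hom z)))
    (pC : PC ⟶ Y)
    (chartC : ∀ (U : Y.Opens) (hU : IsAffineOpen U), (((pC ⁻¹ᵁ U : PC.Opens) : Scheme.{u}) ≅ Proj (Sh.deg U hU)))
    (hPC : RelProj.IsRelProj Sh pC chartC)
    (θ : ∀ (U : Y.Opens) (hU : IsAffineOpen U),
      CommRingCat.of (HomogeneousLocalization.Away (Sh.deg U hU) ((Sh.presheaf.map (homOfLE le_top).op).hom z)) ⟶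
        𝒮.presheaf.obj (op U))
    (hθ : ∀ (U : Y.Opens) (hU : IsAffineOpen U)
      (q : HomogeneousLocalization.Away (Sh.deg U hU) ((Sh.presheaf.map (homOfLE le_top).op).hom z))
      (k : ℕ) (x : 𝒮.presheaf.obj (op U)), x ∈ 𝒮.deg U hU k →
        q.val = Localization.mk ((ι.hom.app (op U)).hom x)
          ⟨(Sh.presheaf.map (homOfLE le_top).op).hom z ^ k,
            pow_mem (Submonoid.mem_powers ((Sh.presheaf.map (homOfLE le_top).op).hom z)) k⟩ →
        (θ U hU).hom q = x) :
    (∃! i : 𝒮.toQCAlg.spec ⟶ PC, ∀ (U : Y.Opens) (hU : IsAffineOpen U),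
        𝒮.toQCAlg.ι U hU ≫ i =
          Spec.map (θ U hU) ≫
            Proj.awayι (Sh.deg U hU) ((Sh.presheaf.map (homOfLE le_top).op).hom z) (hz U hU) one_pos ≫
              RelProj.emb pC chartC U hU) ∧
      ∀ i : 𝒮.toQCAlg.spec ⟶ PC, (∀ (U : Y.Opens) (hU : IsAffineOpen U),
        𝒮.toQCAlg.ι U hU ≫ i =
          Spec.map (θ U hU) ≫
            Proj.awayι (Sh.deg U hU) ((Sh.presheaf.map (homOfLE le_top).op).hom z) (hz U hU) one_pos ≫
              RelProj.emb pC chartC U hU) →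
        IsOpenImmersion i ∧ IsAffineHom i ∧ i ≫ pC = 𝒮.toQCAlg.π ∧ i.ker = ⊥ ∧
          ∀ Xz : PC.Opens, (∀ (U : Y.Opens) (hU : IsAffineOpen U),
            Xz ⊓ pC ⁻¹ᵁ U =
              (pC ⁻¹ᵁ U).ι ''ᵁ ((chartC U hU).hom ⁻¹ᵁ
                Proj.basicOpen (Sh.deg U hU) ((Sh.presheaf.map (homOfLE le_top).op).hom z))) →
            Set.range i.base = (Xz : Set PC) := by
  let h : RelCone.IsPolyOver 𝒮 Sh ι z := ⟨hι, hz, hpoly⟩
  have hθ' : ∀ (U : Y.Opens) (hU : IsAffineOpen U), θ U hU = CommRingCat.ofHom (h.awayZToBase U hU) :=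
    fun U hU => CommRingCat.hom_ext (Groth.Agent.RelCone11.eq_awayZToBase h hU (θ U hU).hom (hθ U hU))
  have key : ∀ i : 𝒮.toQCAlg.spec ⟶ PC, (∀ (U : Y.Opens) (hU : IsAffineOpen U),
      𝒮.toQCAlg.ι U hU ≫ i =
        Spec.map (θ U hU) ≫
          Proj.awayι (Sh.deg U hU) ((Sh.presheaf.map (homOfLE le_top).op).hom z) (hz U hU) one_pos ≫
            RelProj.emb pC chartC U hU) ↔ RelCone.IsConeImm 𝒮 h pC chartC i := fun i =>
    forall₂_congr fun U hU => by rw [hθ']
  constructor
  · exact (existsUnique_congr fun i => key i).2 (Groth.Agent.RelCone11.existsUnique_coneImm h hPC)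
  · intro i hi
    have hi' := (key i).1 hi
    obtain ⟨h1, h2, h3⟩ := Groth.Agent.RelCone11.coneImm_properties h hPC hi'
    refine ⟨h1, h2, Groth.Agent.RelCone11.coneImm_comp h hPC hi', h3, fun Xz hXz => ?_⟩
    ext x
    obtain ⟨U, hU, y, rfl⟩ := Groth.Agent.RelCone11.exists_emb chartC x
    have hy : RelProj.emb pC chartC U hU y ∈ Xz ↔ RelCone.restrictTop Sh z U ∉ y.asHomogeneousIdeal := by
      have e : RelProj.emb pC chartC U hU y ∈ Xz ⊓ pC ⁻¹ᵁ U ↔ RelProj.emb pC chartC U hU y ∈ Xz :=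
        ⟨fun h => h.1, fun h => ⟨h, Groth.Agent.RelCone11.emb_mem chartC U hU y⟩⟩
      rw [← e, hXz U hU]
      constructor
      · rintro ⟨w, hw, hwe⟩
        obtain rfl : w = (chartC U hU).inv y := (pC ⁻¹ᵁ U).ι.isOpenEmbedding.injective
          (hwe.trans (Scheme.Hom.comp_apply _ _ _))
        have hw' : (chartC U hU).hom ((chartC U hU).inv y) ∈
            Proj.basicOpen (Sh.deg U hU) ((Sh.presheaf.map (homOfLE le_top).op).hom z) := hw
        rw [← Scheme.Hom.comp_apply, Iso.inv_hom_id] at hw'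
        exact hw'
      · intro hy
        refine ⟨(chartC U hU).inv y, ?_, (Scheme.Hom.comp_apply _ _ _).symm⟩
        show (chartC U hU).hom ((chartC U hU).inv y) ∈
          Proj.basicOpen (Sh.deg U hU) ((Sh.presheaf.map (homOfLE le_top).op).hom z)
        rw [← Scheme.Hom.comp_apply, Iso.inv_hom_id]
        exact hy
    rw [SetLike.mem_coe, hy]
    exact Groth.Agent.RelCone11.emb_mem_range_coneImm_iff h hPC hi' hU y

end Groth.Agent.S8289
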