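import Groth.Statements.S8304
import Groth.Agent.Lib.SymAlg11.Sheaf

set_option autoImplicit false
universe u
open CategoryTheory CategoryTheory.Limits AlgebraicGeometry Opposite TopologicalSpace
open scoped HomogeneousIdeal
noncomputable section
open EGA2

namespace Groth.Agent.S8304

/-- At the level of graded algebras: let E be a quasi-coherent O_Y-module and 𝒮 = Sym(E) its graded
symmetric algebra (j : E → 𝒮 landing in degree one), and let Ŝ = 𝒮[z] be given through a graded
homomorphism ι : 𝒮 → Ŝ and a global section z of degree one with 𝒮(U)[X] → Ŝ(U), X ↦ z, bijective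
over every affine open U. If k : O_Y → Ŝ is a module homomorphism sending the unit section to z over
every open, then Ŝ together with the map E ⊕ O_Y → Ŝ whose components are j followed by ι, and k, is
the graded symmetric algebra of E ⊕ O_Y. Consequently the projective cone of V(E) = Spec(Sym E),
which is Proj(Ŝ), is the projective bundle P(E ⊕ O_Y), and its locus at infinity Proj(𝒮) is P(E). -/
theorem result {Y : Scheme.{u}} (E : Y.Modules) (hE : Coh.IsQCoh E)
    (𝒮 𝒮h : RelProj.QCGrAlg Y) (j : E ⟶ 𝒮.toModule) (hS : RelProj.IsGrSymAlg E 𝒮 j)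
    (ι : 𝒮.toQCAlg ⟶ 𝒮h.toQCAlg) (z : 𝒮h.presheaf.obj (op ⊤)) (hz : RelCone.IsPolyOver 𝒮 𝒮h ι z)
    (k : Coh.structureModule Y ⟶ 𝒮h.toModule)
    (hk : ∀ U : Y.Opens, (k.app U) (1 : Γ(Y, U)) = RelCone.restrictTop 𝒮h z U) :
    RelProj.IsGrSymAlg (E ⊞ Coh.structureModule Y) 𝒮h
      (biprod.desc (j ≫ RelSpec.QCAlg.Hom.toModuleMap ι) k) := by
  have Tcomp : ∀ {A B C : RelSpec.QCAlg Y} (f : A ⟶ B) (g : B ⟶ C),
      RelSpec.QCAlg.Hom.toModuleMap (f ≫ g) =
        RelSpec.QCAlg.Hom.toModuleMap f ≫ RelSpec.QCAlg.Hom.toModuleMap g :=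
    fun f g => Scheme.Modules.hom_ext _ _ fun U => rfl
  have happ : ∀ {B : RelSpec.QCAlg Y} (h : Coh.structureModule Y ⟶ B.toModule) (U : Y.Opens) (r : Γ(Y, U)),
      @Eq (B.presheaf.obj (op U)) (h.app U r)
        ((B.str.app (op U)).hom r * (show B.presheaf.obj (op U) from h.app U (1 : Γ(Y, U)))) := by
    intro B h U r
    have h1 : h.app U (r • (1 : Γ(Y, U))) = r • h.app U (1 : Γ(Y, U)) := h.app_smul r (1 : Γ(Y, U))
    rw [show r • (1 : Γ(Y, U)) = r from mul_one r] at h1
    exact h1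
  constructor
  · intro B φ
    obtain ⟨ψ₀, hψ₀, huniq₀⟩ := hS.1 B (biprod.inl ≫ φ)
    let kB : Coh.structureModule Y ⟶ B.toModule := biprod.inr ≫ φ
    let b : ∀ U : Y.Opens, B.presheaf.obj (op U) := fun U => kB.app U (1 : Γ(Y, U))
    have bres : ∀ {U V : Y.Opens} (i : V ≤ U), (B.presheaf.map (homOfLE i).op).hom (b U) = b V := by
      intro U V i
      have := (ConcreteCategory.congr_hom (kB.mapPresheaf.naturality (homOfLE i).op) (1 : Γ(Y, U))).symm
      refine this.trans ?_
      show kB.app V ((Y.presheaf.map (homOfLE i).op).hom (1 : Γ(Y, U))) = _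
      rw [map_one]
    have zres : ∀ {U V : Y.Opens} (i : V ≤ U),
        (𝒮h.presheaf.map (homOfLE i).op).hom (RelCone.restrictTop 𝒮h z U) = RelCone.restrictTop 𝒮h z V := by
      intro U V i
      show ((𝒮h.presheaf.map _) ≫ (𝒮h.presheaf.map _)).hom z = _
      rw [← Functor.map_comp]
      rfl
    have polyC : ∀ (U : Y.Opens) (hU : IsAffineOpen U) (a : 𝒮.presheaf.obj (op U)),
        (hz.polyEquiv U hU).symm ((ι.hom.app (op U)).hom a) = Polynomial.C a := fun U hU a =>
      (hz.polyEquiv U hU).injective (by rw [RingEquiv.apply_symm_apply]; exact (Polynomial.eval₂_C _ _).symm)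
    have polyX : ∀ (U : Y.Opens) (hU : IsAffineOpen U),
        (hz.polyEquiv U hU).symm (RelCone.restrictTop 𝒮h z U) = Polynomial.X := fun U hU =>
      (hz.polyEquiv U hU).injective (by rw [RingEquiv.apply_symm_apply]; exact (Polynomial.eval₂_X _ _).symm)
    let lf : ∀ (U : Y.Opens) (_ : IsAffineOpen U), 𝒮h.presheaf.obj (op U) →+* B.presheaf.obj (op U) := fun U hU =>
      (Polynomial.eval₂RingHom (ψ₀.hom.app (op U)).hom (b U)).comp (hz.polyEquiv U hU).symm.toRingHom
    have lfι : ∀ (U : Y.Opens) (hU : IsAffineOpen U) (a : 𝒮.presheaf.obj (op U)),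
        lf U hU ((ι.hom.app (op U)).hom a) = (ψ₀.hom.app (op U)).hom a := fun U hU a => by
      show Polynomial.eval₂ _ _ ((hz.polyEquiv U hU).symm ((ι.hom.app (op U)).hom a)) = _
      rw [polyC, Polynomial.eval₂_C]
    have lfz : ∀ (U : Y.Opens) (hU : IsAffineOpen U), lf U hU (RelCone.restrictTop 𝒮h z U) = b U := fun U hU => by
      show Polynomial.eval₂ _ _ ((hz.polyEquiv U hU).symm (RelCone.restrictTop 𝒮h z U)) = _
      rw [polyX, Polynomial.eval₂_X]
    have ext' : ∀ {R : CommRingCat.{u}} (U : Y.Opens) (hU : IsAffineOpen U) (f g : 𝒮h.presheaf.obj (op U) ⟶ R),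
        (∀ a, f.hom ((ι.hom.app (op U)).hom a) = g.hom ((ι.hom.app (op U)).hom a)) →
        f.hom (RelCone.restrictTop 𝒮h z U) = g.hom (RelCone.restrictTop 𝒮h z U) → f = g := by
      intro R U hU f g h1 h2
      refine CommRingCat.hom_ext (RingHom.ext fun x => ?_)
      obtain ⟨P, rfl⟩ := (hz.bij U hU).2 x
      exact congrArg (fun h : _ →+* _ => h P) (show f.hom.comp (Polynomial.eval₂RingHom (ι.hom.app (op U)).hom (RelCone.restrictTop 𝒮h z U)) =
          g.hom.comp (Polynomial.eval₂RingHom (ι.hom.app (op U)).hom (RelCone.restrictTop 𝒮h z U)) from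
        Polynomial.ringHom_ext (fun a => by simpa using h1 a) (by simpa using h2))
    let G := Scheme.AffineZariskiSite.toOpensFunctor Y
    let La : G.op ⋙ 𝒮h.presheaf ⟶ G.op ⋙ B.presheaf :=
      { app := fun U => CommRingCat.ofHom (lf U.unop.1 U.unop.2)
        naturality := fun U V i => by
          refine ext' U.unop.1 U.unop.2 _ _ (fun a => ?_) ?_
          · show lf V.unop.1 V.unop.2 ((𝒮h.presheaf.map (G.map i.unop).op).hom ((ι.hom.app (op U.unop.1)).hom a)) =
              (B.presheaf.map (G.map i.unop).op).hom (lf U.unop.1 U.unop.2 ((ι.hom.app (op U.unop.1)).hom a))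
            have e := ConcreteCategory.congr_hom (ι.hom.naturality (G.map i.unop).op) a
            rw [lfι]
            refine (congrArg (lf V.unop.1 V.unop.2) e.symm).trans ((lfι V.unop.1 V.unop.2 _).trans ?_)
            exact ConcreteCategory.congr_hom (ψ₀.hom.naturality (G.map i.unop).op) a
          · show lf V.unop.1 V.unop.2 ((𝒮h.presheaf.map (homOfLE _).op).hom (RelCone.restrictTop 𝒮h z U.unop.1)) =
              (B.presheaf.map (homOfLE _).op).hom (lf U.unop.1 U.unop.2 (RelCone.restrictTop 𝒮h z U.unop.1))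
            rw [lfz, zres, lfz, bres] }
    let L : 𝒮h.presheaf ⟶ B.presheaf :=
      Functor.IsCoverDense.restrictHomEquivHom (G := Scheme.AffineZariskiSite.toOpensFunctor Y)
        (K := Opens.grothendieckTopology Y) (ℱ := 𝒮h.presheaf)
        (ℱ' := (⟨B.presheaf, B.isSheaf⟩ : TopCat.Sheaf CommRingCat.{u} Y.carrier)) La
    have Lapp : ∀ (U : Y.Opens) (hU : IsAffineOpen U) x, (L.app (op U)).hom x = lf U hU x := fun U hU x => by
      have h : G.op.whiskerLeft L = La :=
        (Functor.IsCoverDense.restrictHomEquivHom (G := Scheme.AffineZariskiSite.toOpensFunctor Y)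
          (K := Opens.grothendieckTopology Y) (ℱ := 𝒮h.presheaf)
          (ℱ' := (⟨B.presheaf, B.isSheaf⟩ : TopCat.Sheaf CommRingCat.{u} Y.carrier))).symm_apply_apply _
      exact ConcreteCategory.congr_hom (NatTrans.congr_app h (op (⟨U, hU⟩ : Y.AffineZariskiSite))) x
    have hιstr : ∀ (U : Y.Opens) (r : Γ(Y, U)),
        (𝒮h.str.app (op U)).hom r = (ι.hom.app (op U)).hom ((𝒮.str.app (op U)).hom r) := fun U r =>
      (ConcreteCategory.congr_hom (NatTrans.congr_app ι.comm (op U)) r).symm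
    let ψ : 𝒮h.toQCAlg ⟶ B :=
      { hom := L
        comm := SymAlg11.qcHom_ext (A := RelSpec.QCAlg.unit Y) (B := B) fun U hU =>
          CommRingCat.hom_ext (RingHom.ext fun r => by
            show (L.app (op U)).hom ((𝒮h.str.app (op U)).hom r) = _
            rw [Lapp U hU, hιstr U r, lfι]
            exact ConcreteCategory.congr_hom (NatTrans.congr_app ψ₀.comm (op U)) r) }
    have hιψ : ι ≫ ψ = ψ₀ := RelSpec.QCAlg.hom_ext (SymAlg11.qcHom_ext fun U hU =>
      CommRingCat.hom_ext (RingHom.ext fun a => (Lapp U hU _).trans (lfι U hU a)))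
    refine ⟨ψ, biprod.hom_ext' _ _ ?_ ?_, fun χ hχ => ?_⟩
    · rw [biprod.inl_desc_assoc, Category.assoc, ← Tcomp, hιψ, hψ₀]
    · rw [biprod.inr_desc_assoc]
      refine SymAlg11.modHom_ext fun U hU r => ?_
      rw [happ (k ≫ RelSpec.QCAlg.Hom.toModuleMap ψ) U r, happ (biprod.inr ≫ φ) U r]
      congr 1
      show (L.app (op U)).hom (k.app U (1 : Γ(Y, U))) = b U
      rw [hk U, Lapp U hU, lfz]
    · have h1 : ι ≫ χ = ψ₀ := huniq₀ _ (by
        show j ≫ RelSpec.QCAlg.Hom.toModuleMap (ι ≫ χ) = biprod.inl ≫ φ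
        rw [Tcomp, ← hχ, biprod.inl_desc_assoc, Category.assoc])
      have h2 : k ≫ RelSpec.QCAlg.Hom.toModuleMap χ = kB := by
        show _ = biprod.inr ≫ φ
        rw [← hχ, biprod.inr_desc_assoc]
      refine RelSpec.QCAlg.hom_ext (SymAlg11.qcHom_ext fun U hU => ext' U hU _ _ (fun a => ?_) ?_)
      · show (χ.hom.app (op U)).hom _ = (L.app (op U)).hom _
        rw [Lapp U hU, lfι, ← h1]
        rfl
      · show (χ.hom.app (op U)).hom _ = (L.app (op U)).hom _
        rw [Lapp U hU, lfz, ← hk U]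
        exact congrArg (fun f : Coh.structureModule Y ⟶ B.toModule => f.app U (1 : Γ(Y, U))) h2
  · intro U hU x
    have e : x = (biprod.inl : E ⟶ E ⊞ Coh.structureModule Y).app U ((biprod.fst : E ⊞ Coh.structureModule Y ⟶ E).app U x) +
        (biprod.inr : Coh.structureModule Y ⟶ E ⊞ Coh.structureModule Y).app U ((biprod.snd : E ⊞ Coh.structureModule Y ⟶ _).app U x) := by
      have := congrArg (fun f : E ⊞ Coh.structureModule Y ⟶ _ => f.app U x) (biprod.total (X := E) (Y := Coh.structureModule Y))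
      exact this.symm
    rw [e, map_add]
    refine add_mem ?_ ?_
    · have := congrArg (fun f : E ⟶ 𝒮h.toModule => f.app U ((biprod.fst : E ⊞ Coh.structureModule Y ⟶ E).app U x))
        (biprod.inl_desc (j ≫ RelSpec.QCAlg.Hom.toModuleMap ι) k)
      exact (congrArg (· ∈ 𝒮h.deg U hU 1) this).mpr (hz.graded U hU 1 _ (hS.2 U hU _))
    · have := congrArg (fun f : Coh.structureModule Y ⟶ 𝒮h.toModule => f.app U ((biprod.snd : E ⊞ Coh.structureModule Y ⟶ _).app U x))
        (biprod.inr_desc (j ≫ RelSpec.QCAlg.Hom.toModuleMap ι) k)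
      refine (congrArg (· ∈ 𝒮h.deg U hU 1) this).mpr ?_
      show k.app U ((biprod.snd : E ⊞ Coh.structureModule Y ⟶ _).app U x) ∈ 𝒮h.deg U hU 1
      refine (congrArg (· ∈ 𝒮h.deg U hU 1) (happ k U _)).mpr ?_
      rw [hk U]
      exact SetLike.mul_mem_graded (i := 0) (𝒮h.str_mem U hU _) (hz.deg_z U hU)

end Groth.Agent.S8304
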