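import Groth.Statements.S8312
import Groth.Agent.Lib.EGA2.Natural

set_option autoImplicit false
universe u
open scoped HomogeneousIdeal
open EGA2

namespace Groth.Agent.S8312

/-- Let S be a positively graded ring (an ℕ-graded R-algebra) and S♮ the graded ring with S♮_n = S_[n] =
⊕_{m ≥ n} S_m, presented as a graded ring S' with an injective algebra homomorphism φ : S' → S[X]
carrying S'_n onto S_[n]·X^n; for a homogeneous f ∈ S_d write f♮ for the element of S' with φ(f♮) =
f·X^d (f placed in degree d of S♮). If (f_α) is a family of homogeneous elements of S of positive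
degrees such that every element of the irrelevant ideal S_+ has a positive power in the ideal
generated by the f_α (that is, S_+ is the radical in S_+ of that ideal), then every element of the
irrelevant ideal S'_+ has a positive power in the ideal of S' generated by the f_α♮. -/
theorem result {R A B : Type u} [CommRing R] [CommRing A] [Algebra R A]
    (𝒜 : ℕ → Submodule R A) [GradedAlgebra 𝒜] [CommRing B] [Algebra R B] (ℬ : ℕ → Submodule R B) [GradedAlgebra ℬ]
    (φ : B →ₐ[R] Polynomial A) (hφ : Function.Injective φ)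
    (hdeg : ∀ n : ℕ, Submodule.map φ.toLinearMap (ℬ n) =
      Submodule.map ((Polynomial.monomial n : A →ₗ[A] Polynomial A).restrictScalars R) (⨆ (m : ℕ) (_ : n ≤ m), 𝒜 m))
    {ι : Type u} (d : ι → ℕ) (hd : ∀ a, 0 < d a) (f : ι → A) (hf : ∀ a, f a ∈ 𝒜 (d a))
    (hrad : ∀ g ∈ (HomogeneousIdeal.irrelevant 𝒜).toIdeal, ∃ n : ℕ, 0 < n ∧ g ^ n ∈ Ideal.span (Set.range f))
    (fn : ι → B) (hfn : ∀ a, φ (fn a) = Polynomial.monomial (d a) (f a)) :
    ∀ g ∈ (HomogeneousIdeal.irrelevant ℬ).toIdeal, ∃ n : ℕ, 0 < n ∧ g ^ n ∈ Ideal.span (Set.range fn) := by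
  classical
  intro g hg
  have hrad : g ∈ (Ideal.span (Set.range fn)).radical := by
    rw [← DirectSum.sum_support_decompose ℬ g]
    refine sum_mem fun n _ => ?_
    rcases Nat.eq_zero_or_pos n with rfl | hn
    · rw [(Groth.Agent.EGA2.mem_irr_iff ℬ).1 hg]; exact zero_mem _
    obtain ⟨a, ha, hxa⟩ := Groth.Agent.EGA2.natural_image 𝒜 hdeg (DirectSum.decompose ℬ g n).2
    generalize (DirectSum.decompose ℬ g n : B) = b at hxa
    have hsum : ∀ i : ℕ, ∀ c ∈ 𝒜 i, n ≤ i → ∀ b', φ b' = Polynomial.monomial n c →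
        b' ∈ (Ideal.span (Set.range fn)).radical := by
      intro i c hc hni b' hb'
      obtain ⟨N, hN, hcN⟩ := hrad c (Groth.Agent.EGA2.mem_irr_of_mem 𝒜 (hn.trans_le hni) hc)
      obtain ⟨l, hl⟩ := Finsupp.mem_span_range_iff_exists_finsupp.1 hcN
      let D := l.support.sup d
      have hb'mem : ∀ (M : ℕ), D ≤ M * n → (∃ w : A, c ^ M = w * c ^ N) →
          b' ^ M ∈ Ideal.span (Set.range fn) := by
        rintro M hM ⟨w, hw⟩
        have hcM : c ^ M ∈ 𝒜 (M * i) := by simpa using SetLike.pow_mem_graded M hc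
        have hexp : c ^ M = ∑ a ∈ l.support, (DirectSum.decompose 𝒜 (w * l a) (M * i - d a) : A) * f a := by
          conv_lhs => rw [← DirectSum.decompose_of_mem_same 𝒜 hcM, hw, ← hl, Finsupp.sum, Finset.mul_sum]
          rw [DirectSum.decompose_sum, DFinsupp.finsetSum_apply, Submodule.coe_sum]
          refine Finset.sum_congr rfl fun a ha => ?_
          rw [smul_eq_mul, ← mul_assoc, DirectSum.coe_decompose_mul_of_right_mem 𝒜 _ (hf a), if_pos]
          exact (Finset.le_sup (f := d) ha).trans (hM.trans (Nat.mul_le_mul_left M hni))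
        choose! q hq hq' using fun a (ha : a ∈ l.support) =>
          Groth.Agent.EGA2.natural_preimage 𝒜 hdeg
            (Groth.Agent.EGA2.le_geSub 𝒜
              (show M * n - d a ≤ M * i - d a from Nat.sub_le_sub_right (Nat.mul_le_mul_left M hni) _)
              (DirectSum.decompose 𝒜 (w * l a) (M * i - d a)).2)
        have hbM : b' ^ M = ∑ a ∈ l.support, q a * fn a := by
          refine hφ ?_
          rw [map_sum φ, map_pow, hb', Polynomial.monomial_pow, hexp, map_sum, mul_comm n M]
          refine Finset.sum_congr rfl fun a ha => ?_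
          rw [map_mul φ, hq' a ha, hfn a, Polynomial.monomial_mul_monomial,
            Nat.sub_add_cancel ((Finset.le_sup (f := d) ha).trans hM)]
        rw [hbM]
        exact sum_mem fun a _ => Ideal.mul_mem_left _ _ (Ideal.subset_span ⟨a, rfl⟩)
      refine ⟨N + D, hb'mem (N + D) ?_ ⟨c ^ D, by rw [pow_add, mul_comm]⟩⟩
      exact le_trans (Nat.le_add_left D N) (Nat.le_mul_of_pos_right _ hn)
    have hex : ∃ c ∈ (Ideal.span (Set.range fn)).radical, φ c = Polynomial.monomial n a := by
      rw [← DirectSum.sum_support_decompose 𝒜 a]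
      refine Finset.sum_induction (fun i => (DirectSum.decompose 𝒜 a i : A))
        (fun a => ∃ c ∈ (Ideal.span (Set.range fn)).radical, φ c = Polynomial.monomial n a) ?_
        ⟨0, zero_mem _, by simp⟩ fun i hi => ?_
      · rintro u v ⟨b, hb, hb'⟩ ⟨c, hc, hc'⟩
        exact ⟨b + c, add_mem hb hc, by simp [hb', hc']⟩
      · have hni : n ≤ i := by
          by_contra hlt
          rw [DFinsupp.mem_support_iff] at hi
          exact hi (Subtype.ext ((Groth.Agent.EGA2.mem_geSub_iff 𝒜).1 ha i (by omega)))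
        obtain ⟨c, -, hc⟩ := Groth.Agent.EGA2.natural_preimage 𝒜 hdeg
          (Groth.Agent.EGA2.le_geSub 𝒜 hni (DirectSum.decompose 𝒜 a i).2)
        exact ⟨c, hsum i _ (DirectSum.decompose 𝒜 a i).2 hni c hc, hc⟩
    obtain ⟨c, hc, hc'⟩ := hex
    rwa [← hφ (hc'.trans hxa.symm)]
  obtain ⟨N, hN⟩ := hrad
  refine ⟨N + 1, Nat.succ_pos _, ?_⟩
  rw [pow_succ]
  exact Ideal.mul_mem_right _ _ hN

end Groth.Agent.S8312
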