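import Groth.Statements.S8334
import Groth.Agent.Lib.VeryAmple11.TwistGen
import Groth.Agent.Lib.VeryAmple11.FTGen

set_option autoImplicit false
universe u
open CategoryTheory CategoryTheory.Limits AlgebraicGeometry Opposite TopologicalSpace
open scoped HomogeneousIdeal
noncomputable section
open EGA2

namespace Groth.Agent.S8334

/-- Let Y be a quasi-compact separated scheme, or a scheme with Noetherian underlying space, 𝒮 a
quasi-coherent positively graded O_Y-algebra generated by 𝒮_1 with 𝒮_1 of finite type, p : P =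
Proj(𝒮) → Y, and F a quasi-coherent O_P-module of finite type. Then there is n₀ such that for every
n ≥ n₀, F is a quotient of (p^*G)(−n) = p^*(G) ⊗ O_P(−n) for some quasi-coherent O_Y-module G of
finite type (which may vary with n), O_P(−n) being given through its chartwise identifications. -/
theorem result {Y P : Scheme.{u}} (𝒮 : RelProj.QCGrAlg Y) (p : P ⟶ Y)
    (chart : ∀ (U : Y.Opens) (hU : IsAffineOpen U), (((p ⁻¹ᵁ U : P.Opens) : Scheme.{u}) ≅ Proj (𝒮.deg U hU)))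
    (hP : RelProj.IsRelProj 𝒮 p chart)
    (hY : (CompactSpace Y ∧ Y.IsSeparated) ∨ NoetherianSpace Y) (hgen : 𝒮.IsGenDegOne)
    (hft : 𝒮.IsFTDeg 1) (F : P.Modules) (hFq : Coh.IsQCoh F) (hFt : CohB1.IsFT F) :
    ∃ n₀ : ℤ, ∀ (n : ℤ), n₀ ≤ n → ∀ (L : P.Modules)
      (lam : ∀ (U : Y.Opens) (hU : IsAffineOpen U),
      L ⟶ (Scheme.Modules.pushforward (RelProj.emb p chart U hU)).obj (GrTwist.twist (𝒮.deg U hU) (-n))),
      RelProj.IsRelTwist 𝒮 p chart (-n) L lam →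
        ∃ (G : Y.Modules) (π : CohB1.tensorMod ((Scheme.Modules.pullback p).obj G) L ⟶ F),
          Coh.IsQCoh G ∧ CohB1.IsFT G ∧ Epi π := by
  open Groth.Agent in
  classical
  obtain ⟨hcpt, hqs⟩ : CompactSpace Y ∧ QuasiSeparatedSpace Y := by
    rcases hY with ⟨h1, h2⟩ | h
    · exact ⟨h1, inferInstance⟩
    · exact ⟨inferInstance, inferInstance⟩
  haveI := hcpt
  haveI := hqs
  haveI : IsProper p := QuotProj11.isProper_of_isRelProj hP hgen hft
  haveI : IsSeparated p := RelProj11.isSeparated hP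
  obtain ⟨O1, lam1, hL1⟩ := RelProj11.exists_isRelTwist (n := (1 : ℤ)) hP
  obtain ⟨m₀, h⟩ := VA11.exists_ft_epi_of_isRelAmple p O1 (RelProj11.isInvertible_relTwist hgen hL1)
    (VA11.isRelAmple_relTwist_one hP hgen hft hL1) F hFq hFt
  refine ⟨(m₀ : ℤ), fun n hn L lam hL => ?_⟩
  obtain ⟨k, rfl⟩ : ∃ k : ℕ, n = (k : ℤ) := ⟨n.toNat, by omega⟩
  obtain ⟨Lk, lamk, hLk⟩ := RelProj11.exists_isRelTwist (n := (k : ℤ)) hP
  obtain ⟨e⟩ := VA11.nonempty_relTwist_iso_pow hP hgen hL1 k _ rfl Lk lamk hLk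
  obtain ⟨L0, lam0, hL0⟩ := RelProj11.exists_isRelTwist (n := (k : ℤ) + -(k : ℤ)) hP
  obtain ⟨t⟩ := TwTensor11.nonempty_tensor_twist_iso hP hgen hLk hL hL0
  obtain ⟨z⟩ := VA11.nonempty_relTwist_iso_pow hP hgen hL1 0 _ (by omega) L0 lam0 hL0
  obtain ⟨G, φ, hG, hGft, hφ⟩ := h k (by omega)
  haveI := hφ
  haveI := CohFound.epi_tensorMap φ L
  let u : CohB1.tensorMod (CohB1.tensorPow O1 k) L ≅ Coh.structureModule P :=
    M2.tensorIso e.symm (Iso.refl L) ≪≫ t ≪≫ z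
  let back : CohB1.tensorMod (CohB1.tensorMod F (CohB1.tensorPow O1 k)) L ≅ F :=
    M2.tensorAssoc F _ L ≪≫ M2.tensorIso (Iso.refl F) u ≪≫ M2.tensorRUnit F
  exact ⟨G, M2.tensorMap φ (𝟙 L) ≫ back.hom, hG, hGft, epi_comp _ _⟩

end Groth.Agent.S8334
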