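import Groth.Statements.S8346
import Groth.Agent.Lib.PtSet.Constr

set_option autoImplicit false
universe u
open ConstrTop

namespace Groth.Agent.S8346

open TopologicalSpace in
/-- Let X be a topological space admitting a basis of open subsets which are retrocompact in X. Then
every locally constructible subset T of X is retrocompact in X. -/
theorem result {X : Type u} [TopologicalSpace X]
    {B : Set (Set X)} (hB : IsTopologicalBasis B) (hBr : ∀ U ∈ B, IsRetrocompact U) {T : Set X}
    (hT : Topology.IsLocallyConstructible T) : IsRetrocompact T := by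
  intro K hK hKo
  have : ∀ x ∈ K, ∃ W : Set X, IsOpen W ∧ x ∈ W ∧ IsCompact (T ∩ (W ∩ K)) := by
    intro x hx
    obtain ⟨U, hxU, hU, hc⟩ := hT x
    obtain ⟨W, hWB, hxW, hWU⟩ := hB.exists_subset_of_mem_open
      (show x ∈ U ∩ K from ⟨mem_of_mem_nhds hxU, hx⟩) (hU.inter hKo)
    have hWo := hB.isOpen hWB
    have hWc : IsCompact W := by
      have := hBr W hWB hK hKo
      rwa [Set.inter_eq_left.2 (hWU.trans Set.inter_subset_right)] at this
    refine ⟨W, hWo, hxW, ?_⟩
    rw [Set.inter_eq_left.2 (hWU.trans Set.inter_subset_right)]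
    have hi : Topology.IsEmbedding (Subtype.val : U → X) := .subtypeVal
    have hsub : W ⊆ Set.range (Subtype.val : U → X) := by
      simpa using hWU.trans Set.inter_subset_left
    have hcW : IsCompact (Subtype.val ⁻¹' W : Set U) := hi.isInducing.isCompact_preimage' hWc hsub
    have hcr : IsRetrocompact (Subtype.val ⁻¹' T : Set U) :=
      Groth.Agent.PtSet.isRetrocompact_constructible hc
    have := (hcr hcW (hWo.preimage continuous_subtype_val)).image continuous_subtype_val
    rwa [← Set.preimage_inter, Subtype.image_preimage_coe,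
      Set.inter_eq_right.2 (fun a ha ↦ (hWU ha.2).1)] at this
  choose! W hWo hxW hWc using this
  obtain ⟨t, htK, htf, hcov⟩ := hK.elim_finite_subcover_image hWo
    (fun x hx ↦ Set.mem_iUnion₂.2 ⟨x, hx, hxW x hx⟩)
  have e : T ∩ K = ⋃ x ∈ t, T ∩ (W x ∩ K) := by
    ext a
    simp only [Set.mem_inter_iff, Set.mem_iUnion]
    refine ⟨fun ha ↦ ?_, fun ⟨x, _, h1, _, h2⟩ ↦ ⟨h1, h2⟩⟩
    obtain ⟨x, hx, hax⟩ := Set.mem_iUnion₂.1 (hcov ha.2)
    exact ⟨x, hx, ha.1, hax, ha.2⟩
  rw [e]
  exact htf.isCompact_biUnion fun x hx ↦ hWc x (htK hx)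

end Groth.Agent.S8346
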