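import Groth.Statements.S8347
import Groth.Agent.Lib.SpSeqEasy8.Basic

set_option autoImplicit false
universe v u
open CategoryTheory CategoryTheory.Limits
open SpSeq

namespace Groth.Agent.S8347
open CategoryTheory CategoryTheory.Limits



/-- Let E be a spectral sequence in an abelian category with abutment data (H^m), and suppose that for
some page r and every total degree m there is an integer q(m) such that E_r^{m-q,q} = 0 for every q
other than q(m). Let n be a total degree such that the filtration of H^n is discrete (some step is
zero) and exhaustive (H^n is the supremum of the steps), and such that the position (n - q(n), q(n))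
is stationary from page r on. Then H^n is isomorphic to E_r^{n-q(n), q(n)}. (The published statement
asserts this without any condition on the differentials at the surviving positions; that version
fails when a differential d_r links the surviving terms of two consecutive total degrees, for
instance a spectral sequence whose only nonzero page-2 terms are E_2^{0,1} and E_2^{2,0} with d_2 an
isomorphism between them and zero abutment. The stationarity assumed here is automatic when q(m)
does not depend on m and r ≥ 2.) -/
theorem result {C : Type u} [Category.{v} C] [Abelian C] {r₀ : ℤ}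
    (E : CohomologicalSpectralSequence C r₀) {H : ℤ → C} (a : SpSeq.Abutment E H)
    (r : ℤ) (hr : r₀ ≤ r) (q : ℤ → ℤ)
    (hdeg : ∀ m q' : ℤ, q' ≠ q m → IsZero ((E.page r hr).X (m - q', q')))
    (n : ℤ) (hdisc : (a.filObj n).IsDiscrete) (hexh : a.IsExhaustive n)
    (hst : SpSeq.StationaryAt E (n - q n, q n) r) :
    Nonempty (H n ≅ (E.page r hr).X (n - q n, q n)) := by
  have hz : ∀ i, i ≠ n - q n → a.fil n i = a.fil n (i + 1) := fun i hi => by
    refine Groth.Agent.SpSeqEasy8.fil_eq_succ a n i r hr ?_
    have h := hdeg n (n - i) (by omega)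
    rwa [sub_sub_cancel] at h
  obtain ⟨b, hb⟩ := hdisc
  change a.fil n b = ⊥ at hb
  have hbot : a.fil n (n - q n + 1) = ⊥ := by
    rcases le_total (n - q n + 1) b with h | h
    · rw [← hb]
      exact Groth.Agent.SpSeqEasy8.eq_of_steps _ h fun i hi _ => hz i (by omega)
    · exact le_antisymm ((a.anti n h).trans hb.le) bot_le
  have hle : ∀ p, a.fil n p ≤ a.fil n (n - q n) := fun p => by
    rcases le_total p (n - q n) with h | h
    · exact (Groth.Agent.SpSeqEasy8.eq_of_steps _ h fun i _ hi => hz i (by omega)).le
    · exact a.anti n h
  have htop : a.fil n (n - q n) = ⊤ :=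
    le_antisymm le_top (hexh.2 (by rintro _ ⟨p, rfl⟩; exact hle p))
  obtain ⟨e⟩ := Groth.Agent.SpSeqEasy8.nonempty_gr_iso (a.fil n) (a.anti n) (n - q n) htop hbot
  obtain ⟨e'⟩ := Groth.Agent.SpSeqEasy8.nonempty_page_iso (n - q n, q n) hst (a.stat (n - q n, q n))
  have hm : ∀ (m : ℤ), m = n → Nonempty
      (SpSeq.grPiece (a.fil m) (a.anti m) (n - q n) ≅ SpSeq.grPiece (a.fil n) (a.anti n) (n - q n)) := by
    rintro m rfl; exact ⟨Iso.refl _⟩
  obtain ⟨e''⟩ := hm (n - q n + q n) (by omega)
  exact ⟨(e' ≪≫ a.β (n - q n, q n) ≪≫ e'' ≪≫ e).symm⟩


end Groth.Agent.S8347
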