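import Groth.Statements.S8348
import Mathlib

set_option autoImplicit false
universe v u
open CategoryTheory CategoryTheory.Limits
open HomAlg3

namespace Groth.Agent.S8348


/-- Let C be an abelian category and Q a cochain complex of objects of C in degrees 0, 1, 2, ... such
that every Q^i is injective, every homology object H^i(Q) with i ≥ 1 is zero, and every inclusion of
the cycles Z^i(Q) into Q^i (i ≥ 0) is a split monomorphism. Then Q is an injective object of the
category of cochain complexes of C indexed by the natural numbers. (The published statement is for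
the narrower class of complexes with Z^i(Q) = B^i(Q) for every i ≥ 0, which in degree 0, where there
is no incoming differential, forces Z^0(Q) = 0; this row allows a nonzero Z^0(Q), so that it pairs
with the embedding of an arbitrary complex into such a Q. Such a Q is the direct sum of Z^0(Q)
placed in degree 0 and of the two-term complexes with Z^{i+1}(Q) in degrees i and i+1 and the
identity as differential, and the published argument carries over with Z^i(Q) in place of B^i(Q) as
the first summand of Q^i.) -/
theorem result {C : Type u} [Category.{v} C] [Abelian C]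
    (Q : CochainComplex C ℕ) (hinj : ∀ i : ℕ, Injective (Q.X i)) (hac : ∀ i : ℕ, IsZero (Q.homology (i + 1)))
    (hsplit : ∀ i : ℕ, IsSplitMono (Q.iCycles i)) : Injective Q := by
  have hp : ∀ i, ∃ p : Q.X i ⟶ Q.cycles i, Q.iCycles i ≫ p = 𝟙 _ := fun i =>
    haveI := hsplit i; ⟨retraction (Q.iCycles i), IsSplitMono.id _⟩
  choose p hp using hp
  have hepi : ∀ i, Epi (Q.toCycles i (i + 1)) := fun i => by
    refine Preadditive.epi_of_cancel_zero _ fun {R} k hk => ?_
    obtain ⟨l, hl⟩ := CokernelCofork.IsColimit.desc' (Q.homologyIsCokernel i (i + 1) (by simp)) k hk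
    rw [← hl, (hac i).eq_of_src l 0]
    simp
  have hs : ∀ i, ∃ s : Q.cycles (i + 1) ⟶ Q.X i, s ≫ Q.toCycles i (i + 1) = 𝟙 _ ∧
      p i ≫ Q.iCycles i + Q.toCycles i (i + 1) ≫ s = 𝟙 _ := fun i => by
    let S := ShortComplex.mk (Q.iCycles i) (Q.toCycles i (i + 1)) (by
      rw [← cancel_mono (Q.iCycles (i + 1))]; simp)
    haveI : Epi S.g := hepi i
    have hS : S.Exact := by
      refine ShortComplex.exact_of_f_is_kernel _ (KernelFork.IsLimit.ofι' _ _ fun k hk =>
        ⟨Q.liftCycles k (i + 1) (by simp) (by rw [← Q.toCycles_i, ← Category.assoc, hk, zero_comp]), by simp [S]⟩)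
    let sp := ShortComplex.Splitting.ofExactOfRetraction S hS (p i) (hp i) (hepi i)
    exact ⟨sp.s, sp.s_g, sp.id⟩
  choose s hs hid using hs
  refine ⟨fun {A B} g f hf => ?_⟩
  haveI := hf
  haveI : ∀ i, Injective (Q.cycles i) := fun i => haveI := hinj i; Retract.injective ⟨Q.iCycles i, p i, hp i⟩
  have hψ : ∀ i, ∃ ψ : B.X i ⟶ Q.cycles i, f.f i ≫ ψ = g.f i ≫ p i :=
    fun i => ⟨Injective.factorThru (g.f i ≫ p i) (f.f i), Injective.comp_factorThru _ _⟩
  choose ψ hψ using hψ
  refine ⟨{ f := fun i => ψ i ≫ Q.iCycles i + B.d i (i + 1) ≫ ψ (i + 1) ≫ s i, comm' := ?_ }, ?_⟩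
  · rintro i j (rfl : i + 1 = j)
    have e : s i ≫ Q.d i (i + 1) = Q.iCycles (i + 1) := by
      rw [← Q.toCycles_i, ← Category.assoc, hs, Category.id_comp]
    simp [e]
  · ext i
    have e : Q.d i (i + 1) ≫ p (i + 1) = Q.toCycles i (i + 1) := by
      rw [← Q.toCycles_i, Category.assoc, hp, Category.comp_id]
    simp only [HomologicalComplex.comp_f, Preadditive.comp_add, ← Category.assoc, hψ]
    rw [HomologicalComplex.Hom.comm]
    simp only [Category.assoc]
    rw [← Category.assoc (f.f (i + 1)), hψ]
    simp only [Category.assoc]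
    rw [← g.comm_assoc, ← Category.assoc (Q.d i (i + 1)), e, ← Preadditive.comp_add, hid, Category.comp_id]


end Groth.Agent.S8348
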