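import Groth.Statements.S8349
import Mathlib

set_option autoImplicit false
universe v u
open CategoryTheory CategoryTheory.Limits
open HomAlg3

namespace Groth.Agent.S8349


/-- Let C be an abelian category in which every object embeds in an injective object, and let A be a
cochain complex of objects of C in degrees 0, 1, 2, .... Then there are a cochain complex Q, with
every Q^i injective, H^i(Q) = 0 for every i ≥ 1 and every cycle inclusion Z^i(Q) ⟶ Q^i (i ≥ 0) a
split monomorphism, and a monomorphism of complexes A ⟶ Q. (The published statement asks Z^i(Q) =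
B^i(Q) for every i ≥ 0; in degree 0, where there is no incoming differential, this makes Z^0(Q) = 0,
and then no complex with nonzero degree-0 cycles, for instance a nonzero object placed in degree 0,
embeds in such a Q, because the degree-0 component of a chain map into Q factors through Z^0(Q).
This row asks vanishing homology in positive degrees only; the published construction, which embeds
each A^i in an injective I^i and takes Q^i = I^i ⊕ I^{i+1}, proves that version once an injective
I^0 containing A^0 is used in degree 0 as well.) -/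
theorem result {C : Type u} [Category.{v} C] [Abelian C]
    [EnoughInjectives C] (A : CochainComplex C ℕ) :
    ∃ (Q : CochainComplex C ℕ) (f : A ⟶ Q), Mono f ∧ (∀ i : ℕ, Injective (Q.X i)) ∧
      (∀ i : ℕ, IsZero (Q.homology (i + 1))) ∧ ∀ i : ℕ, IsSplitMono (Q.iCycles i) := by
  let I : ℕ → C := fun i => Injective.under (A.X i)
  let j : ∀ i, A.X i ⟶ I i := fun i => Injective.ι (A.X i)
  let Q : CochainComplex C ℕ := CochainComplex.of (fun i => I i ⊞ I (i + 1)) (fun i => biprod.snd ≫ biprod.inl)
    (fun i => by simp)
  have hd : ∀ i, Q.d i (i + 1) = biprod.snd ≫ biprod.inl := fun i =>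
    (CochainComplex.of_d (fun i => I i ⊞ I (i + 1)) (fun i => biprod.snd ≫ biprod.inl) i)
  let f : A ⟶ Q :=
    { f := fun i => biprod.lift (j i) (A.d i (i + 1) ≫ j (i + 1))
      comm' := by
        rintro i k (rfl : i + 1 = k)
        rw [hd]
        apply biprod.hom_ext <;> simp [Q] }
  haveI : ∀ i, Mono (f.f i) := fun i => by
    have e : f.f i ≫ biprod.fst = j i := biprod.lift_fst _ _
    haveI : Mono (f.f i ≫ biprod.fst) := by rw [e]; infer_instance
    exact mono_of_mono (f.f i) biprod.fst
  have hsnd : ∀ i, Q.iCycles i ≫ biprod.snd = 0 := fun i => by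
    have h := Q.iCycles_d i (i + 1)
    rw [hd, ← Category.assoc] at h
    exact zero_of_comp_mono (biprod.inl : I (i + 1) ⟶ I (i + 1) ⊞ I (i + 1 + 1)) h
  have hi : ∀ i, (biprod.inl : I i ⟶ I i ⊞ I (i + 1)) ≫ Q.d i (i + 1) = 0 := fun i => by rw [hd]; simp
  have hcyc : ∀ i, Q.iCycles i ≫ (biprod.fst ≫ Q.liftCycles biprod.inl (i + 1) (by simp) (hi i)) = 𝟙 _ := fun i => by
    rw [← cancel_mono (Q.iCycles i)]
    refine biprod.hom_ext _ _ ?_ ?_
    · simp
    · simp only [Category.assoc, HomologicalComplex.liftCycles_i_assoc, biprod.inl_snd, comp_zero, Category.id_comp, hsnd]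
  refine ⟨Q, f, HomologicalComplex.mono_of_mono_f f (fun i => inferInstance), fun i => ?_, fun i => ?_,
    fun i => ⟨⟨⟨_, hcyc i⟩⟩⟩⟩
  · exact inferInstanceAs (Injective (I i ⊞ I (i + 1)))
  · have e : (Q.iCycles (i + 1) ≫ biprod.fst ≫ biprod.inr) ≫ Q.toCycles i (i + 1) = 𝟙 _ := by
      rw [← cancel_mono (Q.iCycles (i + 1))]
      simp only [Category.assoc, HomologicalComplex.toCycles_i, hd, Category.id_comp, biprod.inr_snd_assoc]
      refine biprod.hom_ext _ _ ?_ ?_
      · simp
      · simp only [Category.assoc, biprod.inl_snd, comp_zero, hsnd]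
    haveI : IsSplitEpi (Q.toCycles i (i + 1)) := ⟨⟨⟨_, e⟩⟩⟩
    exact IsZero.of_epi_eq_zero (Q.homologyπ (i + 1)) (zero_of_epi_comp (Q.toCycles i (i + 1)) (Q.toCycles_comp_homologyπ i (i + 1)))


end Groth.Agent.S8349
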