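import Groth.Statements.S8350
import Groth.Agent.Lib.FilRes2.Basic

set_option autoImplicit false
universe v u
open CategoryTheory CategoryTheory.Limits
open HomAlg3

namespace Groth.Agent.S8350

/-- Let C be an abelian category in which every object embeds in an injective object, and let A be an
object of C with a finite decreasing filtration (F^i A). Then there are an injective resolution X of
A and a decreasing filtration of X by subcomplexes F^i X such that F^i X = X when F^i A = A, F^i X =
0 when F^i A = 0, and, for every i, F^i X is a complex of injective objects into which F^i A (placed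
in degree 0) maps, compatibly with the augmentation A ⟶ X, by a quasi-isomorphism; thus F^i X is an
injective resolution of F^i A. -/
theorem result {C : Type u} [Category.{v} C] [Abelian C] [EnoughInjectives C]
    (K : SpSeq.FilObj C) (hK : K.IsFinite) :
    ∃ (X : InjectiveResolution K.obj) (G : ℤ → Subobject X.cocomplex), Antitone G ∧
      (∀ i : ℤ, K.fil i = ⊤ → G i = ⊤) ∧ (∀ i : ℤ, K.fil i = ⊥ → G i = ⊥) ∧
      ∀ i : ℤ, (∀ j : ℕ, Injective ((G i : CochainComplex C ℕ).X j)) ∧
        ∃ ι : (CochainComplex.single₀ C).obj (K.step i) ⟶ (G i : CochainComplex C ℕ),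
          ι ≫ (G i).arrow = (CochainComplex.single₀ C).map (K.fil i).arrow ≫ X.ι ∧ QuasiIso ι := by
  open Groth.Agent in
  let K₀ : FilRes2.FQ C := ⟨K.obj, K.fil, K.anti, hK.1, hK.2⟩
  let X : InjectiveResolution K.obj :=
    { cocomplex := (Groth.Agent.FilRes2.total K₀).cx
      injective := fun n => inferInstanceAs (Injective (Groth.Agent.FilRes2.seq K₀ n).E)
      ι := (Groth.Agent.FilRes2.total K₀).aug
      quasiIso := (Groth.Agent.FilRes2.total K₀).quasiIso_aug }
  refine ⟨X, fun i => Subobject.mk (Groth.Agent.FilRes2.incl K₀ i), ?_, ?_, ?_, fun i => ⟨?_, ?_⟩⟩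
  · intro i i' h
    refine Subobject.mk_le_mk_of_comm
      { f := fun n => Subobject.ofLE _ _ ((Groth.Agent.FilRes2.seq K₀ n).efil_anti h)
        comm' := fun a b hab => ?_ } ?_
    · obtain rfl : a + 1 = b := hab
      have h1 := (Groth.Agent.FilRes2.incl K₀ i).comm a (a + 1)
      have h2 := (Groth.Agent.FilRes2.incl K₀ i').comm a (a + 1)
      change ((Groth.Agent.FilRes2.seq K₀ a).efil i).arrow ≫ _ = _ ≫ ((Groth.Agent.FilRes2.seq K₀ (a+1)).efil i).arrow at h1
      change ((Groth.Agent.FilRes2.seq K₀ a).efil i').arrow ≫ _ = _ ≫ ((Groth.Agent.FilRes2.seq K₀ (a+1)).efil i').arrow at h2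
      exact Groth.Agent.FilRes2.comm_of_mono _ _ _ _ _ _ (Subobject.arrow_mono _) _ _ _ h1 h2
        (Subobject.ofLE_arrow _) (Subobject.ofLE_arrow _)
    · exact HomologicalComplex.hom_ext _ _ fun n => Subobject.ofLE_arrow _
  · intro i hi
    have : ∀ n, IsIso ((Groth.Agent.FilRes2.incl K₀ i).f n) := fun n =>
      (Subobject.isIso_arrow_iff_eq_top _).mpr
        ((Groth.Agent.FilRes2.seq K₀ n).efil_eq_top (Groth.Agent.FilRes2.seq_fil_top K₀ hi n))
    have : IsIso (Groth.Agent.FilRes2.incl K₀ i) := HomologicalComplex.Hom.isIso_of_components _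
    exact Subobject.mk_eq_top_of_isIso _
  · intro i hi
    have : Groth.Agent.FilRes2.incl K₀ i = 0 := HomologicalComplex.hom_ext _ _ fun n =>
      Groth.Agent.FilRes2.FQ.arrow_eq_zero_of_eq_bot
        ((Groth.Agent.FilRes2.seq K₀ n).efil_eq_bot (Groth.Agent.FilRes2.seq_fil_bot K₀ hi n))
    exact Subobject.mk_eq_bot_iff_zero.mpr this
  · intro j
    exact Injective.of_iso
      ((HomologicalComplex.eval C _ j).mapIso (Subobject.underlyingIso (Groth.Agent.FilRes2.incl K₀ i)).symm)
      (inferInstanceAs (Injective ((Groth.Agent.FilRes2.seq K₀ j).efil i : C)))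
  · refine ⟨(Groth.Agent.FilRes2.level K₀ i).aug ≫ (Subobject.underlyingIso _).inv, ?_, ?_⟩
    · refine (Category.assoc _ _ _).trans ((congrArg ((Groth.Agent.FilRes2.level K₀ i).aug ≫ ·) (Subobject.underlyingIso_arrow (Groth.Agent.FilRes2.incl K₀ i))).trans ?_)
      refine (CochainComplex.fromSingle₀Equiv _ _).injective (Subtype.ext ?_)
      change (Groth.Agent.FilRes2.level K₀ i).aug.f 0 ≫ ((Groth.Agent.FilRes2.seq K₀ 0).efil i).arrow =
        ((CochainComplex.single₀ C).map (K.fil i).arrow).f 0 ≫ (Groth.Agent.FilRes2.total K₀).aug.f 0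
      simp only [Groth.Agent.FilRes2.Splice.aug, CochainComplex.single₀_map_f_zero]
      simp [CochainComplex.fromSingle₀Equiv]
      exact (K₀.lι_arrow i)
    · exact quasiIso_comp (hφ := (Groth.Agent.FilRes2.level K₀ i).quasiIso_aug) (hφ' := inferInstance) (Groth.Agent.FilRes2.level K₀ i).aug (Subobject.underlyingIso (Groth.Agent.FilRes2.incl K₀ i)).inv

end Groth.Agent.S8350
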