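import Groth.Statements.S8351
import Groth.Agent.Lib.CohTop16.DirectImage
import Groth.Agent.Lib.RFPlus.Basic
import Groth.Agent.S0931
-- import your own Groth.Agent.* helpers here

set_option autoImplicit false
universe u
open CategoryTheory CategoryTheory.Limits TopologicalSpace
open CohCx

namespace Groth.Agent.S8351

set_option linter.style.haveILetI false
set_option backward.isDefEq.respectTransparency false
set_option backward.isDefEq.respectTransparency.types false

section
open Groth.Agent.SiteRlim Groth.Agent.CohTop16 Opposite

variable {X Y : TopCat.{u}} (f : X ⟶ Y)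
    [HasDerivedCategory.{u} (CohTop.Ab X)] [HasDerivedCategory.{u} (CohTop.Ab Y)]
    (I : CochainComplex (CohTop.Ab X) ℤ) [I.IsKInjective] (p : ℤ)

/-- Classes of the direct image over `V` and classes over the preimage. -/
noncomputable def classEquiv (V : TopologicalSpace.Opens Y) : CohCx.HDU (pushObj f I) p V ≃
    CohCx.HDU (DerivedCategory.Q.obj I) p ((TopologicalSpace.Opens.map f).obj V) :=
  (Equiv.ofBijective _ (bijective_toHDU V p (pushObj f I))).symm.trans
    ((Equiv.ofBijective _ (bijective_transfer f I p V)).trans
      (Equiv.ofBijective _ (bijective_toHDU _ p (DerivedCategory.Q.obj I))))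

theorem classEquiv_toHDU (V : TopologicalSpace.Opens Y)
    (y : (DerivedCategory.singleFunctor (CohTop.Ab Y) p).obj
      ((genAb (Opens.grothendieckTopology Y)).obj V) ⟶ pushObj f I) :
    classEquiv f I p V (toHDU y) = toHDU (transfer f I p V y) := by
  simp only [classEquiv, Equiv.trans_apply, Equiv.ofBijective_apply, Equiv.ofBijective_symm_apply_apply]

omit [I.IsKInjective] in
theorem transfer_add (V : TopologicalSpace.Opens Y)
    (a b : (DerivedCategory.singleFunctor (CohTop.Ab Y) p).obj
      ((genAb (Opens.grothendieckTopology Y)).obj V) ⟶ pushObj f I) :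
    transfer f I p V (a + b) = transfer f I p V a + transfer f I p V b := by
  simp only [transfer, FibLocal8.psi, Functor.map_add, Preadditive.add_comp, Preadditive.comp_add]

theorem classEquiv_add (V : TopologicalSpace.Opens Y) (x y : CohCx.HDU (pushObj f I) p V) :
    classEquiv f I p V (x + y) = classEquiv f I p V x + classEquiv f I p V y := by
  obtain ⟨a, rfl⟩ := (bijective_toHDU V p (pushObj f I)).2 x
  obtain ⟨b, rfl⟩ := (bijective_toHDU V p (pushObj f I)).2 y
  rw [classEquiv_toHDU, classEquiv_toHDU]
  refine (congrArg (classEquiv f I p V) (shiftTr_add p _ a b).symm).trans ?_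
  refine (classEquiv_toHDU f I p V (a + b)).trans ?_
  refine (congrArg toHDU (transfer_add f I p V a b)).trans ?_
  exact shiftTr_add p _ _ _

theorem classEquiv_pre {V W : TopologicalSpace.Opens Y} (g : W ⟶ V) (x : CohCx.HDU (pushObj f I) p V) :
    classEquiv f I p W ((DerivedCategory.singleFunctor _ 0).map
        ((genAb (Opens.grothendieckTopology Y)).map g) ≫ x) =
      (DerivedCategory.singleFunctor _ 0).map ((genAb (Opens.grothendieckTopology X)).map
        ((TopologicalSpace.Opens.map f).map g)) ≫ classEquiv f I p V x := by
  obtain ⟨y, rfl⟩ := (bijective_toHDU V p (pushObj f I)).2 x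
  rw [← toHDU_pre, classEquiv_toHDU, classEquiv_toHDU, transfer_pre, toHDU_pre]

/-- Hypercohomology of the direct image of a K-injective complex is hypercohomology over preimages. -/
noncomputable def presheafIso :
    CohCx.HDUPresheaf (pushObj f I) p ≅
      (TopologicalSpace.Opens.map f).op ⋙ CohCx.HDUPresheaf (DerivedCategory.Q.obj I) p :=
  NatIso.ofComponents
    (fun V => AddEquiv.toAddCommGrpIso (X := (CohCx.HDUPresheaf (pushObj f I) p).obj V)
      (Y := ((TopologicalSpace.Opens.map f).op ⋙ CohCx.HDUPresheaf (DerivedCategory.Q.obj I) p).obj V)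
      (AddEquiv.mk' (classEquiv f I p V.unop) (classEquiv_add f I p V.unop)))
    fun g => AddCommGrpCat.hom_ext (AddMonoidHom.ext fun x => classEquiv_pre f I p g.unop x)

end

/-- For abelian sheaves on topological spaces and a complex bounded below. Let f : X ⟶ Y be a continuous
map and K a bounded below complex of abelian sheaves on X. For every p, the p-th cohomology sheaf of
the derived direct image R f_*(K) (bounded below right derived functor of f_*, computed with
injective resolutions) is isomorphic to the sheaf associated with the presheaf U ↦ H^p(f⁻¹(U), K) on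
Y, where H^p(V, K) denotes hypercohomology (morphisms from the free abelian sheaf on V to K[p] in
the derived category). (The published statement is for modules over arbitrary ringed spaces,
complexes unbounded via Cartan-Eilenberg resolutions, and a canonical isomorphism; here only the
existence of an isomorphism is asserted, and the derived categories are assumed to exist with
morphism types in the universe of X and Y.) -/
theorem result {X Y : TopCat.{u}} (f : X ⟶ Y)
    [HasDerivedCategory.{u} (CohTop.Ab X)] [HasDerivedCategory.{u} (CohTop.Ab Y)]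
    (K : CochainComplex.Plus (CohTop.Ab X)) (p : ℤ) :
    Nonempty ((DerivedCategory.Plus.homologyFunctor (CohTop.Ab Y) p).obj
        ((CohTop.push f).rightDerivedFunctorPlus.obj
          (DerivedCategory.Plus.Qh.obj ((HomotopyCategory.Plus.quotient (CohTop.Ab X)).obj K))) ≅
      (presheafToSheaf (Opens.grothendieckTopology Y) AddCommGrpCat.{u}).obj
        ((Opens.map f).op ⋙ CohCx.HDUPresheaf (DerivedCategory.Q.obj K.obj) p)) := by
  let K' := DerivedCategory.Plus.Qh.obj ((HomotopyCategory.Plus.quotient (CohTop.Ab X)).obj K)
  obtain ⟨a, ha⟩ : ∃ a, K'.IsGE a := by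
    obtain ⟨a, ha⟩ := K'.property
    exact ⟨a, (DerivedCategory.Plus.isGE_ι_obj_iff K' a).1 ha⟩
  obtain ⟨L, _, ⟨e⟩⟩ := DerivedCategory.Plus.exists_injective_nonempty_iso K' a
  let M := (InjectiveObject.ι (CohTop.Ab X)).mapCochainComplexPlus.obj L
  haveI : ∀ n, Injective (M.obj.X n) := fun n => (L.obj.X n).property
  haveI : M.obj.IsKInjective := by
    obtain ⟨n, hn⟩ := M.property
    exact CochainComplex.isKInjective_of_injective M.obj n
  let eQ : DerivedCategory.Q.obj M.obj ≅ DerivedCategory.Q.obj K.obj :=
    ((DerivedCategory.quotientCompQhIso _).app M.obj).symm ≪≫ DerivedCategory.Plus.ι.mapIso e ≪≫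
      (DerivedCategory.quotientCompQhIso _).app K.obj
  let eR : DerivedCategory.Plus.ι.obj ((CohTop.push f).rightDerivedFunctorPlus.obj K') ≅
      Groth.Agent.CohTop16.pushObj f M.obj :=
    ((Groth.Agent.RFPlus.naiveIso (CohTop.push f)).app M ≪≫
      asIso (DerivedCategory.Plus.ι.map ((CohTop.push f).rightDerivedFunctorPlusUnit.app
        ((HomotopyCategory.Plus.quotient _).obj M))) ≪≫
      ((CohTop.push f).rightDerivedFunctorPlus ⋙ DerivedCategory.Plus.ι).mapIso e).symm
  obtain ⟨e₁⟩ := Groth.Agent.S0931.result (Groth.Agent.CohTop16.pushObj f M.obj) p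
  refine ⟨(DerivedCategory.homologyFunctor (CohTop.Ab Y) p).mapIso eR ≪≫ e₁.symm ≪≫
    (presheafToSheaf (Opens.grothendieckTopology Y) AddCommGrpCat.{u}).mapIso (presheafIso f M.obj p ≪≫
      Functor.isoWhiskerLeft (TopologicalSpace.Opens.map f).op
        (Functor.isoWhiskerLeft _ (preadditiveYoneda.mapIso
          ((shiftFunctor (DerivedCategory (CohTop.Ab X)) p).mapIso eQ))))⟩

end Groth.Agent.S8351
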