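import Groth.Statements.S8352
import Groth.Agent.Lib.MLLim8.Basic

set_option autoImplicit false
universe u
open CategoryTheory CategoryTheory.Limits Opposite
open HomAlg3

namespace Groth.Agent.S8352
open CategoryTheory CategoryTheory.Limits Opposite



/-- Category of abelian groups, system indexed by the natural numbers: Let (A_k) be an inverse system of
abelian groups satisfying the Mittag-Leffler condition, A = lim A_k with projections π_p : A ⟶ A_p.
Filter A and each A_k by the kernels of the maps to A_{p-1} (with A_{-1} = 0); the graded piece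
gr^p(A) is identified with Im(π_p) ∩ Ker(A_p ⟶ A_{p-1}) and gr^p(A_k), k ≥ p, with Im(A_k ⟶ A_p) ∩
Ker(A_p ⟶ A_{p-1}), a decreasing family of subgroups of A_p. The statement gr^p(A) ≅ lim_k gr^p(A_k)
then reads: Im(π_0) = ⋂_k Im(A_k ⟶ A_0), and for every p, Im(π_{p+1}) ∩ Ker(A_{p+1} ⟶ A_p) = ⋂_{k ≥
p+1} (Im(A_k ⟶ A_{p+1}) ∩ Ker(A_{p+1} ⟶ A_p)). -/
theorem result (F : ℕᵒᵖ ⥤ AddCommGrpCat.{u})
    (hF : (F ⋙ forget AddCommGrpCat).IsMittagLeffler) :
    (limit.π F (op 0)).hom.range = ⨅ k : ℕ, (F.map (homOfLE (Nat.zero_le k)).op).hom.range ∧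
      ∀ p : ℕ, (limit.π F (op (p + 1))).hom.range ⊓ (F.map (homOfLE (Nat.le_succ p)).op).hom.ker =
        ⨅ (k : ℕ) (hk : p + 1 ≤ k),
          (F.map (homOfLE hk).op).hom.range ⊓ (F.map (homOfLE (Nat.le_succ p)).op).hom.ker := by
  have key : ∀ (p : ℕ) (x : F.obj (op p)),
      (∀ (k : ℕ) (hk : p ≤ k), x ∈ (F.map (homOfLE hk).op).hom.range) ↔ x ∈ (limit.π F (op p)).hom.range := by
    intro p x
    refine ⟨fun h => ?_, ?_⟩
    · obtain ⟨s, hs⟩ := Groth.Agent.InvSys.exists_section_of_mem_eventualRange (F ⋙ forget AddCommGrpCat)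
        Groth.Agent.InvSys.hcof_nat hF p x (by
          rw [Functor.eventualRange, Set.mem_iInter₂]
          rintro ⟨k⟩ f
          exact h k (leOfHom f.unop))
      obtain ⟨y, hy⟩ := Groth.Agent.MLLim8.exists_lim F (fun i => s.1 (op i)) (fun i j h => s.2 (homOfLE h).op)
      exact ⟨y, (hy p).trans hs⟩
    · rintro ⟨y, rfl⟩ k hk
      exact ⟨limit.π F (op k) y, Groth.Agent.MLLim8.lim_res F y hk⟩
  refine ⟨AddSubgroup.ext fun x => ?_, fun p => AddSubgroup.ext fun x => ?_⟩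
  · rw [AddSubgroup.mem_iInf, ← key]
    exact ⟨fun h k => h k (Nat.zero_le k), fun h k _ => h k⟩
  · simp only [AddSubgroup.mem_iInf, AddSubgroup.mem_inf, ← key]
    exact ⟨fun h k hk => ⟨h.1 k hk, h.2⟩, fun h => ⟨fun k hk => (h k hk).1, (h (p + 1) le_rfl).2⟩⟩


end Groth.Agent.S8352
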