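import Groth.Statements.S8353

set_option autoImplicit false
universe u
open HomAlg3

namespace Groth.Agent.S8353

theorem eq_of_le_sup {S : Type*} [CommRing S] (J : Ideal S) [IsAdicComplete J S] {M : Type*} [AddCommGroup M]
    [Module S M] (F : ℤ → Submodule S M) (hF : Antitone F)
    (hJ : ∀ p : ℤ, J • F p ≤ F (p + 1)) (hsep : ⨅ p : ℤ, F p = ⊥) (p : ℤ)
    (hp : ∀ q, p ≤ q → F (q + 1) = J • F q ⊔ F (q + 2)) (G : Submodule S M) (hG : G.FG) (hle : G ≤ F p)
    (h : F p ≤ G ⊔ F (p + 1)) : F p = G := by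
  have step : ∀ k : ℕ, F (p + k) ≤ J ^ k • G ⊔ F (p + k + 1) := by
    intro k
    induction k with
    | zero => simpa using h
    | succ k ih =>
      rw [Nat.cast_succ, ← add_assoc, hp (p + k) (by omega)]
      refine sup_le ?_ (le_sup_of_le_right (le_of_eq (by rw [add_assoc (p + (k : ℤ))]; norm_num)))
      refine (Submodule.smul_mono le_rfl ih).trans ?_
      rw [Submodule.smul_sup, ← Submodule.mul_smul, ← pow_succ']
      exact sup_le_sup_left (hJ _) _
  have hGle : ∀ k : ℕ, J ^ k • G ≤ F (p + k) := by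
    intro k
    induction k with
    | zero => simpa using hle
    | succ k ih =>
      rw [pow_succ', Submodule.mul_smul, Nat.cast_succ, ← add_assoc]
      exact (Submodule.smul_mono le_rfl ih).trans (hJ _)
  refine le_antisymm (fun x hx => ?_) hle
  obtain ⟨m, g, hg⟩ := Submodule.fg_iff_exists_fin_generating_family.1 hG
  have hcoef : ∀ (k : ℕ) (y : M), y ∈ J ^ k • G → ∃ c : Fin m → S, (∀ i, c i ∈ J ^ k) ∧ ∑ i, c i • g i = y := by
    intro k y hy
    refine Submodule.smul_induction_on hy (fun r hr z hz => ?_) (fun y z ⟨c, hc, hy⟩ ⟨d, hd, hz⟩ => ?_)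
    · rw [← hg, Submodule.mem_span_range_iff_exists_fun] at hz
      obtain ⟨c, rfl⟩ := hz
      exact ⟨fun i => r * c i, fun i => Ideal.mul_mem_right _ _ hr, by simp [Finset.smul_sum, mul_smul]⟩
    · exact ⟨c + d, fun i => (J ^ k).add_mem (hc i) (hd i), by simp [add_smul, Finset.sum_add_distrib, hy, hz]⟩
  have hnext : ∀ (k : ℕ) (y : M), y ∈ F (p + k) → ∃ c : Fin m → S, (∀ i, c i ∈ J ^ k) ∧
      y - ∑ i, c i • g i ∈ F (p + (k + 1 : ℕ)) := by
    intro k y hy
    obtain ⟨u, hu, v, hv, rfl⟩ := Submodule.mem_sup.1 (step k hy)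
    obtain ⟨c, hc, rfl⟩ := hcoef k u hu
    refine ⟨c, hc, ?_⟩
    rw [add_sub_cancel_left, Nat.cast_succ, ← add_assoc]
    exact hv
  have exs : ∀ (k : ℕ) (s : {s : Fin m → S // x - ∑ i, s i • g i ∈ F (p + k)}),
      ∃ s' : {s : Fin m → S // x - ∑ i, s i • g i ∈ F (p + (k + 1 : ℕ))}, ∀ i, s'.1 i - s.1 i ∈ J ^ k := by
    intro k s
    obtain ⟨c, hc, hc'⟩ := hnext k _ s.2
    refine ⟨⟨s.1 + c, ?_⟩, fun i => by simpa using hc i⟩
    simpa [add_smul, Finset.sum_add_distrib, sub_add_eq_sub_sub] using hc'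
  choose nx hnx using exs
  let s : ∀ k : ℕ, {s : Fin m → S // x - ∑ i, s i • g i ∈ F (p + k)} := fun k =>
    Nat.rec ⟨0, by simpa using hx⟩ nx k
  have hdiff : ∀ i k n, k ≤ n → (s n).1 i - (s k).1 i ∈ J ^ k := by
    intro i k n hkn
    induction n, hkn using Nat.le_induction with
    | base => simp
    | succ n hkn ih =>
      rw [show (s (n + 1)).1 i - (s k).1 i = ((nx n (s n)).1 i - (s n).1 i) + ((s n).1 i - (s k).1 i) by
        rw [sub_add_sub_cancel]]
      exact (J ^ k).add_mem (Ideal.pow_le_pow_right hkn (hnx n (s n) i)) ih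
  have hL : ∀ i, ∃ L : S, ∀ k, (s k).1 i - L ∈ J ^ k := by
    intro i
    obtain ⟨L, hL⟩ := IsPrecomplete.prec (I := J) (M := S) inferInstance (f := fun k => (s k).1 i) fun {k n} hkn => by
      rw [SModEq.sub_mem, smul_eq_mul, Ideal.mul_top]
      simpa using (J ^ k).neg_mem (hdiff i k n hkn)
    exact ⟨L, fun k => by simpa [SModEq.sub_mem, Ideal.mul_top] using hL k⟩
  choose L hL using hL
  have hxy : x - ∑ i, L i • g i = 0 := by
    rw [← Submodule.mem_bot S, ← hsep, Submodule.mem_iInf]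
    intro q
    refine hF (show q ≤ p + ((q - p).toNat : ℤ) by omega) ?_
    have h1 := (s (q - p).toNat).2
    have h2 : ∑ i, ((s (q - p).toNat).1 i - L i) • g i ∈ F (p + ((q - p).toNat : ℤ)) :=
      hGle _ (Submodule.sum_mem _ fun i _ => Submodule.smul_mem_smul (hL i _)
        (by rw [← hg]; exact Submodule.subset_span ⟨i, rfl⟩))
    have h3 := Submodule.add_mem _ h1 h2
    rwa [Finset.sum_congr rfl fun i _ => sub_smul _ _ _, Finset.sum_sub_distrib, sub_add_sub_cancel] at h3
  rw [sub_eq_zero.1 hxy, ← hg]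
  exact Submodule.sum_mem _ fun i _ => Submodule.smul_mem _ _ (Submodule.subset_span ⟨i, rfl⟩)

theorem exists_gen {S : Type*} [CommRing S] {M : Type*} [AddCommGroup M] [Module S M] (P Q : Submodule S M)
    (h : (Submodule.map Q.mkQ P).FG) : ∃ G : Submodule S M, G.FG ∧ G ≤ P ∧ P ≤ G ⊔ Q := by
  obtain ⟨G', hG', hmap⟩ : ∃ G' : Submodule S P, G'.FG ∧ Submodule.map (Q.mkQ.comp P.subtype) G' = Submodule.map Q.mkQ P := by
    classical
    obtain ⟨t, ht⟩ := h
    have hsub : ∀ y ∈ t, ∃ z : P, Q.mkQ z = y := fun y hy => by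
      obtain ⟨z, hz, hzy⟩ := Submodule.mem_map.1 (ht ▸ Submodule.subset_span hy : y ∈ Submodule.map Q.mkQ P)
      exact ⟨⟨z, hz⟩, hzy⟩
    choose z hz using hsub
    refine ⟨Submodule.span S ↑(t.attach.image fun y => z y.1 y.2), ⟨_, rfl⟩, ?_⟩
    rw [Submodule.map_span, ← ht]
    congr 1
    ext y
    simp only [Set.mem_image, Finset.mem_coe, Finset.mem_image, Finset.mem_attach, true_and,
      LinearMap.coe_comp, Submodule.coe_subtype, Function.comp_apply]
    constructor
    · rintro ⟨_, ⟨w, rfl⟩, rfl⟩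
      rw [hz w.1 w.2]
      exact w.2
    · exact fun hy => ⟨_, ⟨⟨y, hy⟩, rfl⟩, hz y hy⟩
  refine ⟨G'.map P.subtype, hG'.map _, by rintro _ ⟨w, -, rfl⟩; exact w.2, ?_⟩
  rw [Submodule.map_comp] at hmap
  intro x hx
  have hxm : Q.mkQ x ∈ Submodule.map Q.mkQ (G'.map P.subtype) := hmap ▸ ⟨x, hx, rfl⟩
  obtain ⟨w, hw, hwx⟩ := hxm
  exact Submodule.mem_sup.2 ⟨w, hw, x - w, (Submodule.Quotient.eq Q).1 hwx.symm, by abel⟩



/-- Let S be a Noetherian ring which is separated and complete for the adic topology of an ideal J, and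
let M be an S-module with a decreasing filtration (F^p M)_{p ∈ ℤ} by submodules such that F^p M = M
for some p, J·F^p M ⊆ F^{p+1} M for all p, and ⋂_p F^p M = 0. Then the following are equivalent: (a)
M is a finitely generated S-module and J·F^p M = F^{p+1} M for all large p; (c) every F^p M /
F^{p+1} M is a finitely generated S-module and, for all large p, the map J ⊗ (F^p M/F^{p+1} M) ⟶
F^{p+1} M/F^{p+2} M is surjective, that is F^{p+1} M = J·F^p M + F^{p+2} M. (The published statement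
also lists a third equivalent condition, finite generation of the associated graded module over the
associated graded ring; this row states the equivalence of the other two.) -/
theorem result {S : Type u} [CommRing S] [IsNoetherianRing S]
    (J : Ideal S) [IsAdicComplete J S] {M : Type u} [AddCommGroup M] [Module S M]
    (F : ℤ → Submodule S M) (hF : Antitone F) (hcod : ∃ p₀ : ℤ, F p₀ = ⊤)
    (hJ : ∀ p : ℤ, J • F p ≤ F (p + 1)) (hsep : ⨅ p : ℤ, F p = ⊥) :
    (Module.Finite S M ∧ ∃ p₁ : ℤ, ∀ p : ℤ, p₁ ≤ p → J • F p = F (p + 1)) ↔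
      ((∀ p : ℤ, (Submodule.map (F (p + 1)).mkQ (F p)).FG) ∧
        ∃ p₁ : ℤ, ∀ p : ℤ, p₁ ≤ p → F (p + 1) = J • F p ⊔ F (p + 2)) := by
  constructor
  · rintro ⟨hM, p₁, h⟩
    haveI := hM
    refine ⟨fun p => Submodule.FG.map _ (IsNoetherian.noetherian _), p₁, fun p hp => ?_⟩
    rw [h p hp]
    exact (sup_eq_left.2 (hF (by omega))).symm
  · rintro ⟨hfg, p₁, hrec⟩
    have hFG : ∀ p, p₁ ≤ p → (F p).FG := fun p hp => by
      obtain ⟨G, hG, hle, hsup⟩ := exists_gen (F p) (F (p + 1)) (hfg p)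
      rw [eq_of_le_sup J F hF hJ hsep p (fun q hq => hrec q (hp.trans hq)) G hG hle hsup]
      exact hG
    have hall : ∀ k : ℕ, (F (p₁ - k)).FG := by
      intro k
      induction k with
      | zero => simpa using hFG p₁ le_rfl
      | succ k ih =>
        obtain ⟨G, hG, hle, hsup⟩ := exists_gen (F (p₁ - (k + 1 : ℕ))) _ (hfg _)
        have e : p₁ - (k + 1 : ℕ) + 1 = p₁ - k := by omega
        rw [e] at hsup
        rw [le_antisymm hsup (sup_le hle (hF (by omega)))]
        exact hG.sup ih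
    obtain ⟨p₀, hp₀⟩ := hcod
    have hM : Module.Finite S M := by
      rw [Module.finite_def]
      have h := hall (p₁ - p₀).toNat
      have : F (p₁ - ((p₁ - p₀).toNat : ℤ)) = ⊤ := top_le_iff.1 (hp₀ ▸ hF (by omega))
      rwa [this] at h
    refine ⟨hM, p₁, fun p hp => ?_⟩
    haveI := hM
    refine (eq_of_le_sup J F hF hJ hsep (p + 1) (fun q hq => hrec q (by omega)) _ (IsNoetherian.noetherian _)
      (hJ p) ?_).symm
    rw [add_assoc]
    norm_num
    exact (hrec p hp).le


end Groth.Agent.S8353
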