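import Groth.Statements.S8356
import Groth.Agent.Lib.LieS.Bracket

set_option autoImplicit false
universe u
open CategoryTheory MonObj AlgebraicGeometry
open LieS

namespace Groth.Agent.S8356

open Groth.Agent.LieSL

/-- For a group scheme G over a scheme S and an affine S-scheme T = Spec B, the group Lie(G/S)(T) of
points of G with values in the dual numbers over T that restrict to the unit along the zero section,
with the group law of G and the rescaling action of B, is the additive group of a Lie algebra over
B: there are a Lie algebra L over B and a multiplicative isomorphism from L onto Lie(G/S)(T)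
carrying the scalar multiplication of L to the rescaling action and the bracket of L to the
infinitesimal commutator on the iterated dual numbers. In particular the group law of Lie(G/S)(T) is
commutative, the rescaling action makes it a B-module, and the bracket so defined is B-bilinear,
alternating and satisfies the Jacobi identity. -/
theorem result (S : Scheme.{u}) (G : Over S) [GrpObj G] (B : Type u) [CommRing B]
    (f : Spec (CommRingCat.of B) ⟶ S) :
    ∃ (L : Type u) (_ : LieRing L) (_ : LieAlgebra B L), Nonempty (LieS.Model G B f L) := by
  let : CommGroup (LieS.Lie G B f) := { (inferInstance : Group (LieS.Lie G B f)) with mul_comm := lie_comm f G }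
  let M : Module B (Additive (LieS.Lie G B f)) :=
    { smul := fun b x => Additive.ofMul (b • x.toMul)
      one_smul := fun x => congrArg Additive.ofMul (one_smul' f G x.toMul)
      mul_smul := fun b c x => congrArg Additive.ofMul (mul_smul' f G b c x.toMul)
      smul_zero := fun b => congrArg Additive.ofMul (smul_one' f G b)
      smul_add := fun b x y => congrArg Additive.ofMul (LieSL.smul_mul f G b x.toMul y.toMul)
      add_smul := fun b c x => congrArg Additive.ofMul (add_smul' f G b c x.toMul)
      zero_smul := fun x => congrArg Additive.ofMul (zero_smul' f G x.toMul) }
  have hr : ∀ x y z : LieS.Lie G B f, brk f G x (y * z) = brk f G x y * brk f G x z := fun x y z => by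
    rw [brk_swap f G (y * z) x, brk_mul_left, mul_inv, ← brk_swap, ← brk_swap]
  let LR : LieRing (Additive (LieS.Lie G B f)) :=
    { bracket := fun x y => Additive.ofMul (brk f G x.toMul y.toMul)
      add_lie := fun x y z => congrArg Additive.ofMul (brk_mul_left f G x.toMul y.toMul z.toMul)
      lie_add := fun x y z => congrArg Additive.ofMul (hr x.toMul y.toMul z.toMul)
      lie_self := fun x => congrArg Additive.ofMul (brk_self f G x.toMul)
      leibniz_lie := fun x y z => congrArg Additive.ofMul (jacobi f G x.toMul y.toMul z.toMul) }
  let LA : LieAlgebra B (Additive (LieS.Lie G B f)) :=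
    { M with
      lie_smul := fun b x y => congrArg Additive.ofMul (show brk f G x.toMul (b • y.toMul) = b • brk f G x.toMul y.toMul by
        refine mul_left_cancel (a := brk f G (b • y.toMul) x.toMul) ?_
        rw [brk_smul_left, ← LieSL.smul_mul, ← brk_smul_left, brk_swap f G (b • y.toMul) x.toMul, mul_inv_cancel,
          brk_swap f G y.toMul x.toMul, mul_inv_cancel, smul_one']) }
  exact ⟨Additive (LieS.Lie G B f), LR, LA,
    ⟨{ e := MulEquiv.multiplicativeAdditive _
       e_smul := fun _ _ => rfl
       e_lie := fun x y => isBracket_brk f G x.toMul y.toMul }⟩⟩

end Groth.Agent.S8356
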