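import Groth.Statements.S8357
import Groth.Agent.Lib.LieS.Basic
-- import your own Groth.Agent.* helpers here

set_option autoImplicit false
universe u
open CategoryTheory MonObj AlgebraicGeometry
open LieS

namespace Groth.Agent.S8357

/-- For a group scheme G over a scheme S and an affine S-scheme T = Spec B, the map induced on
Lie(G/S)(T) by the n-th power map of G is multiplication by n; that is, for v in Lie(G/S)(T) and an
integer n, the n-th power of v in the group law inherited from G is the rescaling of v by the image
of n in B. -/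
theorem result (S : Scheme.{u}) (G : Over S) [GrpObj G] (B : Type u) [CommRing B]
    (f : Spec (CommRingCat.of B) ⟶ S) (v : LieS.Lie G B f) (n : ℤ) :
    v ^ n = ((n : B) • v : LieS.Lie G B f) := by
  have hk : LieSL.IsKer f G (v.1 : LieSL.sqz f B ⟶ G) := LieSL.isKer_of_zeroSec f v.2
  have hadd : ∀ b c : B, ((b + c) • v : LieS.Lie G B f) = b • v * c • v := fun b c => Subtype.ext (by
    change LieS.scale B f (b + c) ≫ v.1 = (LieS.scale B f b ≫ v.1) * (LieS.scale B f c ≫ v.1)
    rw [LieSL.scale_eq, LieSL.scale_eq, LieSL.scale_eq]
    exact LieSL.ker_smul_add f hk b c)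
  have h1 : ((1 : B) • v : LieS.Lie G B f) = v := Subtype.ext (by
    change LieS.scale B f 1 ≫ v.1 = v.1
    rw [LieSL.scale_eq, one_smul, LieSL.sqzMap_id]
    exact Category.id_comp _)
  have h0 : ((0 : B) • v : LieS.Lie G B f) = 1 := by
    have h := hadd 0 0
    rw [add_zero] at h
    exact mul_left_cancel (h.symm.trans (_root_.mul_one _).symm)
  induction n using Int.induction_on with
  | zero => rw [zpow_zero, Int.cast_zero, h0]
  | succ k hk' => rw [zpow_add_one, hk', Int.cast_add, Int.cast_one, hadd, h1]
  | pred k hk' =>
    rw [zpow_sub_one, hk', mul_inv_eq_iff_eq_mul]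
    conv_rhs => arg 2; rw [← h1]
    rw [← hadd, Int.cast_sub, Int.cast_one, sub_add_cancel]

end Groth.Agent.S8357
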