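import Groth.Statements.S8358
import Groth.Agent.Lib.LieS.Diag
-- import your own Groth.Agent.* helpers here

set_option autoImplicit false
universe u
open CategoryTheory MonObj AlgebraicGeometry
open LieS

namespace Groth.Agent.S8358

/-- First isomorphism: over an affine base: for a commutative ring R, a commutative group M, the
diagonalisable group D(M) = Spec R[M] over Spec R and a commutative R-algebra B, the group
Lie(D(M))(Spec B) is identified with the additive group Hom(M, B) of group homomorphisms: there is a
multiplicative isomorphism which sends a point v of D(M) with values in B[ε], read as an R-algebra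
homomorphism from R[M] to B[ε], to the homomorphism m ↦ (ε-coefficient of the image of m), and which
carries the rescaling action of b in B to multiplication of homomorphisms by b. -/
theorem result (R : Type u) [CommRing R] (M : Type) [AddCommGroup M]
    (B : Type u) [CommRing B] [Algebra R B] :
    ∃ e : LieS.LieR (Red.diag R M) B ≃* Multiplicative (M →+ B),
      (∀ (v : LieS.LieR (Red.diag R M) B) (m : M),
        Multiplicative.toAdd (e v) m =
          TrivSqZeroExt.snd (((Spec.mapMulEquiv.symm ((LieS.dptIso B).inv ≫ v.1)).ofConv :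
            MonoidAlgebra R (Multiplicative M) →ₐ[R] DualNumber B)
            (MonoidAlgebra.single (Multiplicative.ofAdd m) 1))) ∧
      ∀ (b : B) (v : LieS.LieR (Red.diag R M) B),
        e (b • v) = Multiplicative.ofAdd (b • Multiplicative.toAdd (e v)) := by
  have hk : ∀ (v : LieS.LieR (Red.diag R M) B) (m : M), TrivSqZeroExt.fst (LieSL.dval v.1 m) = 1 :=
    fun v => (LieSL.mem_Lie_iff_dval v.1).mp v.2
  let δ : LieS.LieR (Red.diag R M) B → (M →+ B) := fun v =>
    AddMonoidHom.mk' (fun m => TrivSqZeroExt.snd (LieSL.dval v.1 m)) fun a b => by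
      change TrivSqZeroExt.snd (LieSL.val _ (a + b)) = _
      rw [LieSL.val_add, DualNumber.snd_mul]
      change TrivSqZeroExt.fst (LieSL.dval v.1 a) * _ + _ * TrivSqZeroExt.fst (LieSL.dval v.1 b) = _
      rw [hk, hk, _root_.one_mul, _root_.mul_one]
      first | rfl | exact (add_comm _ _) | (rw [add_comm]; rfl)
  let φ : Multiplicative (M →+ B) → (Multiplicative M →* DualNumber B) := fun d =>
    { toFun := fun m => TrivSqZeroExt.inl 1 + TrivSqZeroExt.inr (Multiplicative.toAdd d (Multiplicative.toAdd m))
      map_one' := by simp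
      map_mul' := fun a b => TrivSqZeroExt.ext (by simp) (by simp [add_comm]) }
  have hval : ∀ d m, LieSL.dval ((LieS.dptIso B).hom ≫ LieSL.ptOfVal (R := R) (φ d)) m = φ d (Multiplicative.ofAdd m) := by
    intro d m
    rw [LieSL.dval, Iso.inv_hom_id_assoc, LieSL.val_ptOfVal]
  let inv : Multiplicative (M →+ B) → LieS.LieR (Red.diag R M) B := fun d =>
    ⟨(LieS.dptIso B).hom ≫ LieSL.ptOfVal (R := R) (φ d), (LieSL.mem_Lie_iff_dval _).mpr fun m => by
      rw [hval]; simp [φ]⟩
  refine ⟨{ toFun := fun v => Multiplicative.ofAdd (δ v), invFun := inv, left_inv := ?_, right_inv := ?_,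
            map_mul' := ?_ }, fun v m => rfl, fun b v => ?_⟩
  · intro v
    apply Subtype.ext
    rw [← cancel_epi (LieS.dptIso B).inv]
    refine LieSL.val_ext fun m => ?_
    change LieSL.dval (inv _).1 m = LieSL.dval v.1 m
    rw [hval]
    exact TrivSqZeroExt.ext (by simp [φ, hk]) (by simp [φ, δ])
  · intro d
    apply Multiplicative.toAdd.injective
    ext m
    change TrivSqZeroExt.snd (LieSL.dval (inv d).1 m) = _
    rw [hval]
    simp [φ]
  · intro v w
    apply Multiplicative.toAdd.injective
    ext m
    change TrivSqZeroExt.snd (LieSL.dval (v.1 * w.1) m) = δ v m + δ w m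
    rw [LieSL.dval_mul, DualNumber.snd_mul, hk, hk, _root_.one_mul, _root_.mul_one]
    exact add_comm _ _
  · apply Multiplicative.toAdd.injective
    ext m
    change TrivSqZeroExt.snd (LieSL.dval (LieS.scale B _ b ≫ v.1) m) = b * δ v m
    rw [LieSL.dval_scale]
    simp [LieS.scaleHom, TrivSqZeroExt.algebraMap_eq_inl', δ, hk]
    ring

end Groth.Agent.S8358
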