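import Groth.Statements.S8359
import Groth.Agent.Lib.DiagRigid21.Main
-- import your own Groth.Agent.* helpers here

set_option autoImplicit false
universe u
open CategoryTheory MonObj AlgebraicGeometry
open Red

namespace Groth.Agent.S8359

/-- Over an affine base S = Spec R with S₀ = Spec (R/I) for a nilpotent ideal I: for a commutative group
M, the diagonalisable group D(M) = Spec R[M] over S, a group scheme X locally of finite presentation
over S and a homomorphism f from D(M) to X, if the base change of f to S₀ is the unit homomorphism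
then f is the unit homomorphism. (The published statement is over an arbitrary base scheme with S₀
defined by a nilpotent quasi-coherent ideal; this row is its case of an affine base.) -/
theorem result (R : Type u) [CommRing R] (I : Ideal R) (hI : IsNilpotent I)
    (M : Type) [AddCommGroup M] (X : Over (Spec (CommRingCat.of R))) [GrpObj X]
    [LocallyOfFinitePresentation X.hom] (f : Red.diag R M ⟶ X) [IsMonHom f]
    (h : (Over.pullback (Spec.map (CommRingCat.ofHom (Ideal.Quotient.mk I)))).map f = 1) :
    f = 1 := by
  refine Groth.Agent.DiagRigid21.eq_one f I hI ?_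
  intro C _ _ t hC
  let i₀ := Spec.map (CommRingCat.ofHom (Ideal.Quotient.mk I))
  let q : R ⧸ I →+* C := Ideal.Quotient.lift I (algebraMap R C) (fun r hr => by
    have := Ideal.mem_map_of_mem (algebraMap R C) hr
    rwa [hC, Ideal.mem_bot] at this)
  let T : Over (Spec (CommRingCat.of (R ⧸ I))) := Over.mk (Spec.map (CommRingCat.ofHom q))
  have hT : ((Over.map i₀).obj T).hom =
      (DiagRigid21.Sp R C).hom := by
    show Spec.map _ ≫ Spec.map _ = Spec.map (CommRingCat.ofHom (algebraMap R C))
    rw [← Spec.map_comp, ← CommRingCat.ofHom_comp, Ideal.Quotient.lift_comp_mk]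
  let e : (Over.map i₀).obj T ≅ DiagRigid21.Sp R C :=
    Over.isoMk (Iso.refl (Spec (CommRingCat.of C))) ((Category.id_comp _).trans hT.symm)
  obtain ⟨x, hx⟩ := DiagGL.fl_surjective i₀ (Red.diag R M) (e.hom ≫ t)
  have h1 : DiagGL.fl i₀ X (1 : T ⟶ Red.bc i₀ X) = 1 := by
    have := DiagGL.fl_mul i₀ X (1 : T ⟶ Red.bc i₀ X) 1
    rw [_root_.one_mul (1 : T ⟶ Red.bc i₀ X)] at this
    exact mul_eq_left.1 this.symm
  have key := DiagGL.fl_comp_map i₀ x f
  rw [h, MonObj.comp_one] at key
  rw [hx, Category.assoc] at key
  rw [← cancel_epi e.hom, MonObj.comp_one]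
  exact key.symm.trans h1

end Groth.Agent.S8359
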