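import Groth.Statements.S8364

-- import your own Groth.Agent.* helpers here

set_option autoImplicit false
universe u
open SGA3

namespace Groth.Agent.S8364

/-- For a commutative ring R, an ideal J of R of square zero, a smooth R-algebra A and the extended
ideal I = J·A, every R-algebra automorphism of A/I lifts to an R-algebra automorphism of A. (The
published statement concerns the automorphism functor of a smooth affine S-scheme E and affine test
schemes Y; this row is the case Y = S = Spec R, E = Spec A, which gives the general one after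
replacing R by the ring of Y.) -/
theorem result (R A : Type u) [CommRing R] [CommRing A] [Algebra R A]
    [Algebra.Smooth R A] (J : Ideal R) (hJ : J * J = ⊥)
    (φ₀ : (A ⧸ Ideal.map (algebraMap R A) J) ≃ₐ[R] (A ⧸ Ideal.map (algebraMap R A) J)) :
    ∃ φ : A ≃ₐ[R] A,
      (Ideal.Quotient.mkₐ R (Ideal.map (algebraMap R A) J)).comp φ.toAlgHom =
        φ₀.toAlgHom.comp (Ideal.Quotient.mkₐ R (Ideal.map (algebraMap R A) J)) := by
  have hI2 : (Ideal.map (algebraMap R A) J) * (Ideal.map (algebraMap R A) J) = ⊥ := by rw [← Ideal.map_mul, hJ, Ideal.map_bot]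
  have hnil : IsNilpotent (Ideal.map (algebraMap R A) J) := ⟨2, by rw [pow_two, hI2]; rfl⟩
  have hlift : ∀ ψ : (A ⧸ (Ideal.map (algebraMap R A) J)) ≃ₐ[R] (A ⧸ (Ideal.map (algebraMap R A) J)), ∃ φ : A →ₐ[R] A,
      (Ideal.Quotient.mkₐ R (Ideal.map (algebraMap R A) J)).comp φ = ψ.toAlgHom.comp (Ideal.Quotient.mkₐ R (Ideal.map (algebraMap R A) J)) := fun ψ =>
    ⟨Algebra.FormallySmooth.lift (Ideal.map (algebraMap R A) J) hnil (ψ.toAlgHom.comp (Ideal.Quotient.mkₐ R (Ideal.map (algebraMap R A) J))),
      Algebra.FormallySmooth.comp_lift (Ideal.map (algebraMap R A) J) hnil _⟩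
  obtain ⟨φ, hφ⟩ := hlift φ₀
  obtain ⟨ψ, hψ⟩ := hlift φ₀.symm
  have key : ∀ χ : A →ₐ[R] A, (∀ x, χ x - x ∈ (Ideal.map (algebraMap R A) J)) → Function.Bijective χ := by
    intro χ hχ
    have hI0 : ∀ x ∈ (Ideal.map (algebraMap R A) J), χ x = x := by
      intro x hx
      rw [Ideal.map] at hx
      induction hx using Submodule.span_induction with
      | mem y hy => obtain ⟨r, -, rfl⟩ := hy; exact χ.commutes r
      | zero => simp
      | add a b _ _ ha hb => rw [map_add, ha, hb]
      | smul a y hy' hy =>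
        rw [smul_eq_mul, map_mul, hy, ← sub_eq_zero, ← sub_mul]
        have : (χ a - a) * y ∈ (Ideal.map (algebraMap R A) J) * (Ideal.map (algebraMap R A) J) := Ideal.mul_mem_mul (hχ a) hy'
        rw [hI2] at this
        simpa using this
    refine ⟨(injective_iff_map_eq_zero χ).2 fun x hx => ?_, fun y => ⟨y - (χ y - y), ?_⟩⟩
    · have hxI : x ∈ (Ideal.map (algebraMap R A) J) := by
        have := (Ideal.map (algebraMap R A) J).neg_mem (hχ x)
        rwa [hx, zero_sub, neg_neg] at this
      rw [← hI0 x hxI, hx]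
    · rw [map_sub, hI0 _ (hχ y), sub_sub_cancel]
  have h1 : Function.Bijective (φ.comp ψ) := key _ fun x => by
    refine Ideal.Quotient.eq.1 ?_
    have e1 := AlgHom.congr_fun hφ (ψ x)
    have e2 := AlgHom.congr_fun hψ x
    simp only [AlgHom.comp_apply, Ideal.Quotient.mkₐ_eq_mk, AlgEquiv.coe_toAlgHom] at e1 e2
    rw [AlgHom.comp_apply, e1, e2, AlgEquiv.apply_symm_apply]
  have h2 : Function.Bijective (ψ.comp φ) := key _ fun x => by
    refine Ideal.Quotient.eq.1 ?_
    have e1 := AlgHom.congr_fun hψ (φ x)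
    have e2 := AlgHom.congr_fun hφ x
    simp only [AlgHom.comp_apply, Ideal.Quotient.mkₐ_eq_mk, AlgEquiv.coe_toAlgHom] at e1 e2
    rw [AlgHom.comp_apply, e1, e2, AlgEquiv.symm_apply_apply]
  have hb : Function.Bijective φ :=
    ⟨Function.Injective.of_comp (f := ψ) h2.1, Function.Surjective.of_comp (g := ψ) h1.2⟩
  refine ⟨AlgEquiv.ofBijective φ hb, ?_⟩
  refine AlgHom.ext fun x => ?_
  exact AlgHom.congr_fun hφ x

end Groth.Agent.S8364
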