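import Groth.Statements.S8365
import Groth.Agent.Lib.LieS.Basic
-- import your own Groth.Agent.* helpers here

set_option autoImplicit false
universe u
open CategoryTheory MonObj AlgebraicGeometry
open LieS

namespace Groth.Agent.S8365

/-- For a monoid scheme X over a scheme S (an associative unital monoid object in S-schemes) and an
affine S-scheme T = Spec B, a point of X with values in the dual numbers over T is invertible if and
only if its restriction along the zero section ε = 0 is invertible in X(T); in particular every such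
point restricting to the unit section is invertible. (The published statement is for monoid-valued
functors satisfying a tangent-space exactness condition, which every representable functor
satisfies, and its special case where the restriction is the unit section allows unital composition
laws that need not be associative; this row treats monoid schemes only.) -/
theorem result (S : Scheme.{u}) (X : Over S) [MonObj X] (B : Type u) [CommRing B]
    (f : Spec (CommRingCat.of B) ⟶ S) (v : LieS.dpt B f ⟶ X) :
    IsUnit v ↔ IsUnit (LieS.zeroSec B f ≫ v) := by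
  constructor
  · intro h
    obtain ⟨u, rfl⟩ := h
    refine ⟨⟨LieS.zeroSec B f ≫ (u : LieS.dpt B f ⟶ X), LieS.zeroSec B f ≫ ((u⁻¹ : _) : LieS.dpt B f ⟶ X), ?_, ?_⟩, rfl⟩
    · rw [← MonObj.comp_mul, Units.mul_inv, MonObj.comp_one]
    · rw [← MonObj.comp_mul, Units.inv_mul, MonObj.comp_one]
  · intro h
    obtain ⟨a, ha⟩ := h
    have hp : IsUnit (LieS.proj B f ≫ (a : LieS.pt B f ⟶ X)) :=
      ⟨⟨LieS.proj B f ≫ (a : LieS.pt B f ⟶ X), LieS.proj B f ≫ ((a⁻¹ : _) : LieS.pt B f ⟶ X),
        by rw [← MonObj.comp_mul, Units.mul_inv, MonObj.comp_one],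
        by rw [← MonObj.comp_mul, Units.inv_mul, MonObj.comp_one]⟩, rfl⟩
    let w : LieSL.sqz f B ⟶ X := v * (LieS.proj B f ≫ ((a⁻¹ : _) : LieS.pt B f ⟶ X))
    have hw : LieSL.IsKer f X w := LieSL.isKer_of_zeroSec f (by
      change LieS.zeroSec B f ≫ (v * (LieS.proj B f ≫ ((a⁻¹ : _) : LieS.pt B f ⟶ X))) = 1
      rw [MonObj.comp_mul, ← ha, ← Category.assoc, LieS.zeroSec_proj, Category.id_comp, Units.mul_inv])
    have e1 := LieSL.ker_smul_add f hw 1 (-1)
    rw [add_neg_cancel, one_smul, zero_smul, LieSL.sqzMap_id, Category.id_comp, hw] at e1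
    have hn : LieSL.IsKer f X (LieSL.sqzMap f ((-1 : B) • LinearMap.id : B →ₗ[B] B) ≫ w) := by
      change LieSL.sqzMap f (0 : B →ₗ[B] B) ≫ _ = 1
      rw [LieSL.sqzMap_comp_assoc, LinearMap.zero_comp]
      exact hw
    have hwu : IsUnit w := ⟨⟨w, _, e1.symm, ((LieSL.ker_mul_comm f hn hw).trans e1.symm)⟩, rfl⟩
    let w' : LieS.dpt B f ⟶ X := w
    have hwu' : IsUnit w' := hwu
    have hv : v = w' * (LieS.proj B f ≫ (a : LieS.pt B f ⟶ X)) := by
      change v = v * (LieS.proj B f ≫ ((a⁻¹ : _) : LieS.pt B f ⟶ X)) * (LieS.proj B f ≫ (a : LieS.pt B f ⟶ X))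
      rw [_root_.mul_assoc, ← MonObj.comp_mul, Units.inv_mul, MonObj.comp_one, _root_.mul_one]
    rw [hv]
    exact hwu'.mul hp

end Groth.Agent.S8365
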