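import Groth.Statements.S8366
import Groth.Agent.Lib.GrpLift20.IsoThick
import Groth.Agent.Lib.GrpQuot20.Group
import Mathlib.AlgebraicGeometry.Morphisms.UniversallyOpen
import Mathlib.AlgebraicGeometry.Morphisms.FlatMono

set_option autoImplicit false
universe u
open CategoryTheory MonoidalCategory MonObj AlgebraicGeometry
open SGA3

open CartesianMonoidalCategory MonoidalCategory GrpObj

namespace Groth.Agent.S8366

/-- Over an affine base S = Spec R with S₀ = Spec (R/I) for a nilpotent ideal I: let X be an S-scheme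
which is flat and either quasi-compact or locally of finite presentation over S, and P : X ×_S X → X
a composition law. If P is associative and its base change to S₀ is the multiplication of some
group-scheme structure on X ×_S S₀, then P is the multiplication of a group-scheme structure on X.
(The published statement is over an arbitrary base scheme with S₀ defined by a nilpotent
quasi-coherent ideal; this row is its case of an affine base.) -/
theorem result (R : Type u) [CommRing R] (I : Ideal R)
    (hI : IsNilpotent I) (X : Over (Spec (CommRingCat.of R))) [Flat X.hom]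
    (hX : QuasiCompact X.hom ∨ LocallyOfFinitePresentation X.hom) (P : X ⊗ X ⟶ X)
    (hassoc : (P ▷ X) ≫ P = (α_ X X X).hom ≫ (X ◁ P) ≫ P)
    (h0 : ∃ _ : GrpObj ((Over.pullback (Spec.map (CommRingCat.ofHom (Ideal.Quotient.mk I)))).obj X),
      μ[(Over.pullback (Spec.map (CommRingCat.ofHom (Ideal.Quotient.mk I)))).obj X] =
        Functor.LaxMonoidal.μ (Over.pullback (Spec.map (CommRingCat.ofHom (Ideal.Quotient.mk I)))) X X ≫ (Over.pullback (Spec.map (CommRingCat.ofHom (Ideal.Quotient.mk I)))).map P) :
    ∃ _ : GrpObj X, μ[X] = P := by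
  classical
  obtain ⟨inst, hμ⟩ := h0
  let σ := Spec.map (CommRingCat.ofHom (Ideal.Quotient.mk I))
  let F := Over.pullback σ
  have hassoc' : ∀ (T : Over (Spec (CommRingCat.of R))) (x y z : T ⟶ X),
      lift (lift x y ≫ P) z ≫ P = lift x (lift y z ≫ P) ≫ P := by
    intro T x y z
    have := congrArg (fun h => lift (lift x y) z ≫ h) hassoc
    simpa [← Category.assoc] using this
  have hiso : ∀ φ : X ⊗ X ⟶ X ⊗ X, IsIso (F.map φ) → IsIso φ := by
    intro φ hφ
    haveI : Flat (X ⊗ X).hom := inferInstanceAs (Flat (Limits.pullback.fst X.hom X.hom ≫ X.hom))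
    haveI : IsIso (GrpLift20.bcMap (X ⊗ X).hom (X ⊗ X).hom φ.left (Over.w φ) I) := by
      have h : GrpLift20.bcMap (X ⊗ X).hom (X ⊗ X).hom φ.left (Over.w φ) I = (F.map φ).left := by
        simp only [GrpLift20.bcMap, Limits.pullback.map, F, σ, Over.pullback_map_left]
        apply Limits.pullback.hom_ext
        · erw [Limits.pullback.lift_fst]
          try rfl
        · erw [Limits.pullback.lift_snd]
          try rfl
      rw [h]
      haveI := hφ
      exact inferInstanceAs (IsIso ((Over.forget _).map (F.map φ)))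
    haveI : IsIso φ.left := GrpLift20.isIso_of_isIso_mod hI (X ⊗ X).hom (X ⊗ X).hom φ.left (Over.w φ)
    haveI : IsIso ((Over.forget _).map φ) := ‹IsIso φ.left›
    exact isIso_of_reflects_iso φ (Over.forget _)
  haveI : IsIso (lift (fst X X) P) := by
    refine hiso _ ?_
    let s : F.obj X ⊗ F.obj X ≅ F.obj X ⊗ F.obj X :=
      { hom := lift (fst _ _) (fst (F.obj X) (F.obj X) * snd _ _)
        inv := lift (fst _ _) ((fst (F.obj X) (F.obj X))⁻¹ * snd _ _)
        hom_inv_id := by
          apply CartesianMonoidalCategory.hom_ext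
          · simp
          · rw [Category.assoc, lift_snd, MonObj.comp_mul, GrpObj.comp_inv, lift_fst, lift_snd, Category.id_comp,
              inv_mul_cancel_left]
        inv_hom_id := by
          apply CartesianMonoidalCategory.hom_ext
          · simp
          · rw [Category.assoc, lift_snd, MonObj.comp_mul, lift_fst, lift_snd, Category.id_comp, mul_inv_cancel_left] }
    have h : Functor.LaxMonoidal.μ F X X ≫ F.map (lift (fst X X) P) = s.hom ≫ Functor.LaxMonoidal.μ F X X := by
      rw [← cancel_mono (inv (Functor.LaxMonoidal.μ F X X)), Category.assoc, Category.assoc, IsIso.hom_inv_id,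
        Category.comp_id]
      apply CartesianMonoidalCategory.hom_ext
      · simp only [Category.assoc, s, lift_fst]
        rw [show inv (Functor.LaxMonoidal.μ F X X) ≫ fst (F.obj X) (F.obj X) = F.map (fst X X) by
          rw [IsIso.inv_comp_eq, Functor.Monoidal.μ_fst]]
        rw [← F.map_comp, lift_fst, Functor.Monoidal.μ_fst]
      · simp only [Category.assoc, s, lift_snd]
        rw [show inv (Functor.LaxMonoidal.μ F X X) ≫ snd (F.obj X) (F.obj X) = F.map (snd X X) by
          rw [IsIso.inv_comp_eq, Functor.Monoidal.μ_snd]]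
        rw [← F.map_comp, lift_snd, ← hμ, Hom.mul_def, lift_fst_snd, Category.id_comp]
        try rfl
    haveI : IsIso s.hom := s.isIso_hom
    haveI : IsIso (Functor.LaxMonoidal.μ F X X ≫ F.map (lift (fst X X) P)) := by rw [h]; infer_instance
    exact IsIso.of_isIso_comp_left (Functor.LaxMonoidal.μ F X X) _
  haveI : IsIso (lift P (snd X X)) := by
    refine hiso _ ?_
    let s : F.obj X ⊗ F.obj X ≅ F.obj X ⊗ F.obj X :=
      { hom := lift (fst (F.obj X) (F.obj X) * snd _ _) (snd _ _)
        inv := lift (fst (F.obj X) (F.obj X) * (snd _ _)⁻¹) (snd _ _)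
        hom_inv_id := by
          apply CartesianMonoidalCategory.hom_ext
          · rw [Category.assoc, lift_fst, MonObj.comp_mul, GrpObj.comp_inv, lift_fst, lift_snd, Category.id_comp,
              mul_inv_cancel_right]
          · simp
        inv_hom_id := by
          apply CartesianMonoidalCategory.hom_ext
          · rw [Category.assoc, lift_fst, MonObj.comp_mul, lift_fst, lift_snd, Category.id_comp, inv_mul_cancel_right]
          · simp }
    have h : Functor.LaxMonoidal.μ F X X ≫ F.map (lift P (snd X X)) = s.hom ≫ Functor.LaxMonoidal.μ F X X := by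
      rw [← cancel_mono (inv (Functor.LaxMonoidal.μ F X X)), Category.assoc, Category.assoc, IsIso.hom_inv_id,
        Category.comp_id]
      apply CartesianMonoidalCategory.hom_ext
      · simp only [Category.assoc, s, lift_fst]
        rw [show inv (Functor.LaxMonoidal.μ F X X) ≫ fst (F.obj X) (F.obj X) = F.map (fst X X) by
          rw [IsIso.inv_comp_eq, Functor.Monoidal.μ_fst]]
        rw [← F.map_comp, lift_fst, ← hμ, Hom.mul_def, lift_fst_snd, Category.id_comp]
        try rfl
      · simp only [Category.assoc, s, lift_snd]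
        rw [show inv (Functor.LaxMonoidal.μ F X X) ≫ snd (F.obj X) (F.obj X) = F.map (snd X X) by
          rw [IsIso.inv_comp_eq, Functor.Monoidal.μ_snd]]
        rw [← F.map_comp, lift_snd, Functor.Monoidal.μ_snd]
    haveI : IsIso s.hom := s.isIso_hom
    haveI : IsIso (Functor.LaxMonoidal.μ F X X ≫ F.map (lift P (snd X X))) := by rw [h]; infer_instance
    exact IsIso.of_isIso_comp_left (Functor.LaxMonoidal.μ F X X) _
  have cl : ∀ (T : Over (Spec (CommRingCat.of R))) (g x y : T ⟶ X), lift g x ≫ P = lift g y ≫ P → x = y := by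
    intro T g x y h
    have : lift g x = lift g y := by
      rw [← cancel_mono (lift (fst X X) P)]
      apply CartesianMonoidalCategory.hom_ext <;> simp [h]
    simpa using congrArg (· ≫ snd X X) this
  have cr : ∀ (T : Over (Spec (CommRingCat.of R))) (g x y : T ⟶ X), lift x g ≫ P = lift y g ≫ P → x = y := by
    intro T g x y h
    have : lift x g = lift y g := by
      rw [← cancel_mono (lift P (snd X X))]
      apply CartesianMonoidalCategory.hom_ext <;> simp [h]
    simpa using congrArg (· ≫ fst X X) this
  have surjl : ∀ (T : Over (Spec (CommRingCat.of R))) (g y : T ⟶ X), ∃ x : T ⟶ X, lift g x ≫ P = y := by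
    intro T g y
    refine ⟨lift g y ≫ inv (lift (fst X X) P) ≫ snd X X, ?_⟩
    have h1 : lift g y ≫ inv (lift (fst X X) P) ≫ fst X X = g := by
      rw [show inv (lift (fst X X) P) ≫ fst X X = fst X X by rw [IsIso.inv_comp_eq, lift_fst], lift_fst]
    rw [show lift g (lift g y ≫ inv (lift (fst X X) P) ≫ snd X X) = lift g y ≫ inv (lift (fst X X) P) by
      apply CartesianMonoidalCategory.hom_ext <;> simp [h1]]
    rw [Category.assoc, show inv (lift (fst X X) P) ≫ P = snd X X by rw [IsIso.inv_comp_eq, lift_snd], lift_snd]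
  obtain ⟨u, hu⟩ := surjl X (𝟙 X) (𝟙 X)
  have hu' : ∀ (T : Over (Spec (CommRingCat.of R))) (x : T ⟶ X), lift x (x ≫ u) ≫ P = x := by
    intro T x
    have := congrArg (fun h => x ≫ h) hu
    simpa [← Category.assoc] using this
  have hl : ∀ (T : Over (Spec (CommRingCat.of R))) (x z : T ⟶ X), lift (x ≫ u) z ≫ P = z := by
    intro T x z
    apply cl T x
    rw [← hassoc', hu']
  have hr : ∀ (T : Over (Spec (CommRingCat.of R))) (x z : T ⟶ X), lift z (x ≫ u) ≫ P = z := by
    intro T x z
    apply cr T z
    rw [hassoc', hl]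
  have hcov : GrpQuot20.CovFac (toUnit X).left := by
    have hs : Surjective X.hom := by
      refine ⟨fun p => ?_⟩
      haveI := GrpLift20.surjective_thick hI
      obtain ⟨p₀, rfl⟩ := (GrpLift20.thick I).surjective p
      refine ⟨Limits.pullback.fst X.hom σ ((η[F.obj X]).left p₀), ?_⟩
      rw [← Scheme.Hom.comp_apply, Limits.pullback.condition, Scheme.Hom.comp_apply]
      refine congrArg σ ?_
      rw [← Scheme.Hom.comp_apply]
      have := Over.w η[F.obj X]
      exact congrArg (fun v : Spec (CommRingCat.of (R ⧸ I)) ⟶ Spec (CommRingCat.of (R ⧸ I)) => v p₀) this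
    refine ⟨X.left, X.hom, 𝟙 _, ?_, hs, inferInstance, fun V hV => ?_⟩
    · rw [Category.id_comp]
      exact (Category.comp_id _).symm.trans (Over.w (toUnit X))
    rcases hX with h | h
    · refine ⟨X.hom ⁻¹ᵁ V, X.hom.isCompact_preimage hV.isCompact, ?_⟩
      exact Set.image_preimage_eq _ hs.surj
    · change (Spec (CommRingCat.of R)).Opens at V
      haveI : UniversallyOpen X.hom := inferInstance
      have hW : ∀ v ∈ (V : Set _), ∃ W : X.left.Opens, IsAffineOpen W ∧ W ≤ X.hom ⁻¹ᵁ V ∧ v ∈ X.hom '' (W : Set _) := by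
        intro v hv
        obtain ⟨x, rfl⟩ := hs.surj v
        obtain ⟨W, hW, hxW, hWV⟩ := exists_isAffineOpen_mem_and_subset (x := x) (U := X.hom ⁻¹ᵁ V) hv
        exact ⟨W, hW, hWV, x, hxW, rfl⟩
      choose W hWa hWV hvW using hW
      obtain ⟨t, ht⟩ := hV.isCompact.elim_finite_subcover
        (fun v : (V : Set _) => X.hom '' (W v.1 v.2 : Set _)) (fun v => X.hom.isOpenMap _ (W v.1 v.2).2)
        (fun v hv => Set.mem_iUnion.2 ⟨⟨v, hv⟩, hvW v hv⟩)
      refine ⟨⨆ v ∈ t, W v.1 v.2, ?_, ?_⟩
      · simp only [TopologicalSpace.Opens.coe_iSup]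
        exact t.finite_toSet.isCompact_biUnion fun v _ => (hWa v.1 v.2).isCompact
      · simp only [TopologicalSpace.Opens.coe_iSup, Set.image_iUnion]
        refine Set.Subset.antisymm ?_ ht
        exact Set.iUnion₂_subset fun v _ => Set.image_subset_iff.2 fun x hx => hWV v.1 v.2 hx
  obtain ⟨ε, hε⟩ := GrpQuot20.exists_desc_over hcov u fun {T} x y _ => (hr T y (x ≫ u)).symm.trans (hl T x (y ≫ u))
  have hεT : ∀ (T : Over (Spec (CommRingCat.of R))) (x : T ⟶ X), toUnit T ≫ ε = x ≫ u := by
    intro T x
    rw [← hε, ← Category.assoc]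
    congr 1
    exact toUnit_unique _ _
  obtain ⟨i, hi⟩ := surjl X (𝟙 X) u
  have hi' : lift i (𝟙 X) ≫ P = u := by
    apply cl X (𝟙 X)
    rw [← hassoc', hi]
    have h1 := hl X (𝟙 X) (𝟙 X)
    have h2 := hr X (𝟙 X) (𝟙 X)
    rw [Category.id_comp] at h1 h2
    rw [h1, h2]
  refine ⟨{ one := ε, mul := P, mul_assoc := hassoc, one_mul := ?_, mul_one := ?_,
            inv := i, left_inv := hi'.trans hε.symm, right_inv := hi.trans hε.symm }, rfl⟩
  · have h := hl (𝟙_ _ ⊗ X) (snd _ _) (snd _ _)
    rw [← hεT] at h
    rw [show (ε ▷ X) = lift (toUnit _ ≫ ε) (snd (𝟙_ _) X) from ?_]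
    · rw [h, leftUnitor_hom]
    · apply CartesianMonoidalCategory.hom_ext
      · simp only [whiskerRight_fst, lift_fst]
        congr 1
      · simp
  · have h := hr (X ⊗ 𝟙_ _) (fst _ _) (fst _ _)
    rw [← hεT] at h
    rw [show (X ◁ ε) = lift (fst X (𝟙_ _)) (toUnit _ ≫ ε) from ?_]
    · rw [h, rightUnitor_hom]
    · apply CartesianMonoidalCategory.hom_ext
      · simp
      · simp only [whiskerLeft_snd, lift_snd]
        congr 1
        exact toUnit_unique _ _


end Groth.Agent.S8366
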