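import Groth.Statements.S8367
import Groth.Agent.Lib.GrpCI19.Main
import Groth.Agent.Lib.RegImm26.CIFibres

set_option autoImplicit false
universe u
open CategoryTheory MonObj AlgebraicGeometry
open SGA3

namespace Groth.Agent.S8367

set_option linter.style.haveILetI false
set_option backward.isDefEq.respectTransparency false
set_option backward.isDefEq.respectTransparency.types false

/-- For a scheme S, a group scheme X smooth over S and a sub-group-scheme Y of X (a homomorphism of
S-group schemes from Y to X which is an immersion) with Y flat and locally of finite presentation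
over S, the immersion of Y in X is regular: each point of Y has an affine open neighbourhood in X
over which the immersion is closed and cut out by a regular sequence. (The published statement
concludes that Y is a local complete intersection in X, in the Koszul sense; this row states the
stronger conclusion that the immersion is regular, which is what the printed proof establishes.) -/
theorem result (S : Scheme.{u}) (X Y : Over S) [GrpObj X] [GrpObj Y]
    [Smooth X.hom] [Flat Y.hom] [LocallyOfFinitePresentation Y.hom] (i : Y ⟶ X) [IsMonHom i]
    [IsImmersion i.left] :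
    RegImm.IsRegularImmersion .regular i.left := by
  refine ⟨inferInstance, fun z => ?_⟩
  let l := i.left.liftCoborder
  let p : (i.left.coborderRange : Scheme.{u}) ⟶ S := i.left.coborderRange.ι ≫ X.hom
  have hl : l ≫ p = Y.hom := by
    rw [← Category.assoc, Scheme.Hom.liftCoborder_ι, Over.w]
  have hCI : CInt.IsCIMorphism (l ≫ p) := by
    rw [hl]
    refine ⟨inferInstance, inferInstance, fun y => ?_⟩
    let F := Over.pullback (S.fromSpecResidueField (Y.hom y))
    letI : GrpObj (F.obj Y) := Functor.grpObjObj
    haveI : LocallyOfFiniteType (F.obj Y).hom :=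
      inferInstanceAs (LocallyOfFiniteType (Limits.pullback.snd Y.hom (S.fromSpecResidueField (Y.hom y))))
    exact Groth.Agent.GrpCI19.ci_stalk (k := S.residueField (Y.hom y)) (F.obj Y) _
  obtain ⟨-, hreg⟩ := Groth.Agent.RegImm26.regular_of_ci_fibres p l hCI
  obtain ⟨U, hU, hzU, rs, hrs, hker⟩ := hreg z
  let U' : X.left.affineOpens := ⟨i.left.coborderRange.ι ''ᵁ U, hU.image_of_isOpenImmersion _⟩
  refine ⟨U', ?_, ?_, rs, hrs, ?_⟩
  · have h := congrArg (fun f => f.base z) i.left.liftCoborder_ι
    exact ⟨l z, hzU, h⟩
  · refine IsClosedImmersion.of_isPreimmersion _ ?_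
    have hr : Set.range (i.left ∣_ U'.1) = U'.1.ι ⁻¹' Set.range i.left := by
      ext x
      constructor
      · rintro ⟨y, rfl⟩
        exact ⟨_, (congrArg (fun f => f.base y) (morphismRestrict_ι i.left U'.1)).symm⟩
      · rintro ⟨y, hy⟩
        refine ⟨⟨y, ?_⟩, U'.1.ι.isOpenEmbedding.injective ?_⟩
        · show i.left y ∈ U'.1
          rw [hy]; exact x.2
        · rw [← Scheme.Hom.comp_apply, morphismRestrict_ι]
          exact hy
    rw [hr]
    have hc : IsClosed (i.left.coborderRange.ι ⁻¹' Set.range i.left) := by
      have e : i.left.coborderRange.ι ⁻¹' Set.range i.left = Set.range l := by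
        ext w
        constructor
        · rintro ⟨y, hy⟩
          refine ⟨y, i.left.coborderRange.ι.isOpenEmbedding.injective ?_⟩
          rw [← hy, ← Scheme.Hom.comp_apply, Scheme.Hom.liftCoborder_ι]
        · rintro ⟨y, rfl⟩
          exact ⟨y, (congrArg (fun f => f.base y) i.left.liftCoborder_ι).symm⟩
      rw [e]
      exact l.isClosedEmbedding.isClosed_range
    have hle : U'.1 ≤ i.left.coborderRange := by rintro _ ⟨w, -, rfl⟩; exact w.2
    let incl : (U'.1 : Scheme.{u}) ⟶ i.left.coborderRange := X.left.homOfLE hle
    have e2 : U'.1.ι ⁻¹' Set.range i.left = incl ⁻¹' (i.left.coborderRange.ι ⁻¹' Set.range i.left) := by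
      ext w
      simp only [Set.mem_preimage, incl, ← Scheme.Hom.comp_apply, Scheme.homOfLE_ι]
    rw [e2]
    exact hc.preimage incl.continuous
  · rw [Scheme.Hom.ker_apply] at hker
    have hl' : RingHom.ker (l.app U).hom = RingHom.ker (i.left.app U'.1).hom := by
      rw [show l.app U = _ from AlgebraicGeometry.liftCoborder_app (f := i.left) U,
        CommRingCat.hom_comp, RingHom.ker_comp_of_injective]
      exact (ConcreteCategory.bijective_of_isIso (Y.left.presheaf.map (eqToHom (i.left.liftCoborder_preimage U)).op)).injective
    rw [← hl', hker]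
    rfl

end Groth.Agent.S8367
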