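import Groth.Statements.S8369
import Mathlib.RingTheory.Flat.EquationalCriterion

-- import your own Groth.Agent.* helpers here

set_option autoImplicit false
universe u v
open SGA3

namespace Groth.Agent.S8369

/-- Let A be a commutative ring, J a nilpotent ideal, N ⊆ M A-modules with M/N flat over A. If elements
of N have images generating the image of N in M/JM, then they generate N. (The published statement
takes finitely many elements; this row allows an arbitrary set, which the same argument permits.) -/
theorem result (A : Type u) [CommRing A] (J : Ideal A) (hJ : IsNilpotent J)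
    (M : Type v) [AddCommGroup M] [Module A M] (N : Submodule A M) [Module.Flat A (M ⧸ N)] (s : Set M)
    (hs : s ⊆ N)
    (hgen : (Submodule.span A s).map (J • (⊤ : Submodule A M)).mkQ = N.map (J • (⊤ : Submodule A M)).mkQ) :
    Submodule.span A s = N := by
  classical
  set K := Submodule.span A s with hK
  have hKN : K ≤ N := Submodule.span_le.2 hs
  have hstep : N ≤ K ⊔ J • N := by
    intro x hx
    obtain ⟨k, hk, hkx⟩ := (hgen ▸ Submodule.mem_map_of_mem hx :
      (J • (⊤ : Submodule A M)).mkQ x ∈ K.map (J • (⊤ : Submodule A M)).mkQ)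
    have hd : x - k ∈ J • (⊤ : Submodule A M) := (Submodule.Quotient.eq _).1 hkx.symm
    have hdN : x - k ∈ N := sub_mem hx (hKN hk)
    obtain ⟨n, j, m, hjm⟩ : ∃ (n : ℕ) (j : Fin n → J) (m : Fin n → M), ∑ i, (j i : A) • m i = x - k := by
      generalize x - k = z at hd
      induction hd using Submodule.smul_induction_on' with
      | smul r hr m _ => exact ⟨1, fun _ => ⟨r, hr⟩, fun _ => m, by simp⟩
      | add a _ b _ ha hb =>
        obtain ⟨n, j, m, e⟩ := ha
        obtain ⟨n', j', m', e'⟩ := hb
        exact ⟨n + n', Fin.append j j', Fin.append m m', by simp [Fin.sum_univ_add, e, e']⟩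
    have h0 : ∑ i, (j i : A) • N.mkQ (m i) = 0 := by
      have e : N.mkQ (∑ i, (j i : A) • m i) = 0 := by
        rw [hjm]; exact (Submodule.Quotient.mk_eq_zero N).2 hdN
      simpa only [map_sum, map_smul] using e
    obtain ⟨k', a, y, hay, haj⟩ := Module.Flat.isTrivialRelation_of_sum_smul_eq_zero h0
    choose Y hY using fun l => Submodule.mkQ_surjective N (y l)
    have hn : ∀ i, m i - ∑ l, a i l • Y l ∈ N := fun i => by
      refine (Submodule.Quotient.mk_eq_zero N).1 ?_
      change N.mkQ _ = 0
      rw [map_sub, map_sum, show N.mkQ (m i) = _ from hay i, sub_eq_zero]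
      simp only [map_smul, hY]
    have hxk : x - k = ∑ i, (j i : A) • (m i - ∑ l, a i l • Y l) := by
      simp only [smul_sub, Finset.sum_sub_distrib, Finset.smul_sum, hjm, smul_smul]
      rw [Finset.sum_comm]
      simp only [← Finset.sum_smul, haj, zero_smul, Finset.sum_const_zero, sub_zero]
    rw [← add_sub_cancel k x, hxk]
    exact add_mem (Submodule.mem_sup_left hk) (sum_mem fun i _ =>
      Submodule.mem_sup_right (Submodule.smul_mem_smul (j i).2 (hn i)))
  refine le_antisymm hKN ?_
  obtain ⟨n, hn⟩ := hJ
  have : ∀ p : ℕ, N ≤ K ⊔ (J ^ p) • N := by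
    intro p
    induction p with
    | zero => simp
    | succ p ih =>
      refine ih.trans (sup_le le_sup_left ?_)
      refine (Submodule.smul_mono le_rfl hstep).trans ?_
      rw [Submodule.smul_sup, ← Submodule.mul_smul, ← pow_succ]
      exact sup_le_sup_right Submodule.smul_le_right _
  simpa [hn] using this n

end Groth.Agent.S8369
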