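import Groth.Statements.S8370
import Groth.Agent.Lib.LieS.Basic
-- import your own Groth.Agent.* helpers here

set_option autoImplicit false
universe u
open CategoryTheory MonObj AlgebraicGeometry
open LieS

namespace Groth.Agent.S8370

theorem LieSLaux {A : Type u} [CommRing A] (Y : Scheme.{u}) [IsAffine Y] (φ : Y ⟶ Spec (CommRingCat.of A)) :
    φ = Y.isoSpec.hom ≫
      Spec.map (CommRingCat.ofHom ((Scheme.ΓSpecIso (CommRingCat.of A)).inv ≫ φ.appTop).hom) := by
  rw [CommRingCat.ofHom_hom, Spec.map_comp, ← Category.assoc, Scheme.isoSpec_hom_naturality, Category.assoc,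
    Scheme.isoSpec_Spec_hom, ← Spec.map_comp, Iso.inv_hom_id, Spec.map_id, Category.comp_id]

/-- For a group scheme G over a scheme S (the group law of the Lie algebra functor of a group scheme is
commutative, which the published statement assumes), a sub-group-scheme K of G given by a
monomorphic homomorphism i, and an affine S-scheme T = Spec B: an element x of Lie(G/S)(T) belongs
to the Lie algebra of the centraliser of K, i.e. the point x of G with values in the dual numbers
I_T commutes with every point of K with values in any scheme over I_T, if and only if x is fixed by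
the adjoint action of every point of K with values in an affine scheme T' = Spec B' over T (acting
on the restriction of x to T'). -/
theorem result (S : Scheme.{u}) (G K : Over S) [GrpObj G] [GrpObj K] (i : K ⟶ G)
    [IsMonHom i] [Mono i] (B : Type u) [CommRing B] (f : Spec (CommRingCat.of B) ⟶ S) (x : LieS.Lie G B f) :
    (∀ (X' : Over S) (y : X' ⟶ LieS.dpt B f) (h : X' ⟶ K), (y ≫ x.1) * (h ≫ i) = (h ≫ i) * (y ≫ x.1)) ↔
    (∀ (B' : Type u) [CommRing B'] (h : B →+* B')
      (k : LieS.pt B' (Spec.map (CommRingCat.ofHom h) ≫ f) ⟶ K),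
      LieS.Ad G B' (Spec.map (CommRingCat.ofHom h) ≫ f) (k ≫ i) (LieS.pull G f h x) = LieS.pull G f h x) := by
  have hAd : ∀ (B' : Type u) [CommRing B'] (h : B →+* B')
      (k : LieS.pt B' (Spec.map (CommRingCat.ofHom h) ≫ f) ⟶ K),
      (LieS.Ad G B' (Spec.map (CommRingCat.ofHom h) ≫ f) (k ≫ i) (LieS.pull G f h x) = LieS.pull G f h x) ↔
        ((LieS.proj B' _ ≫ k ≫ i) * (LieS.dptMap f h ≫ x.1) =
          (LieS.dptMap f h ≫ x.1) * (LieS.proj B' _ ≫ k ≫ i)) := fun B' _ h k => by
    rw [← mul_inv_eq_iff_eq_mul]
    exact Subtype.ext_iff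
  constructor
  · intro H B' _ h k
    rw [hAd]
    have h1 := H _ (LieS.dptMap f h) (LieS.proj B' _ ≫ k)
    rw [Category.assoc] at h1
    exact h1.symm
  · intro H X' y h
    have key : ∀ (C : Type u) [CommRing C] (h0 : B →+* C)
        (y : LieS.pt C (Spec.map (CommRingCat.ofHom h0) ≫ f) ⟶ LieS.dpt B f)
        (hh : LieS.pt C (Spec.map (CommRingCat.ofHom h0) ≫ f) ⟶ K) (e2 : DualNumber B →+* C),
        y.left = Spec.map (CommRingCat.ofHom e2) → e2.comp (algebraMap B (DualNumber B)) = h0 →
        (y ≫ x.1) * (hh ≫ i) = (hh ≫ i) * (y ≫ x.1) := by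
      intro C _ h0 y hh e2 hy he2
      let c : C := e2 DualNumber.eps
      have hc : c * c = 0 := by rw [← map_mul, LieS.eps_sq, map_zero]
      let e : DualNumber C →+* C := LieS.dualHom (RingHom.id C) c hc
      have he : e.comp (algebraMap C (DualNumber C)) = RingHom.id C := LieS.dualHom_comp_algebraMap _ _ _
      let sC : LieS.pt C (Spec.map (CommRingCat.ofHom h0) ≫ f) ⟶
          LieS.dpt C (Spec.map (CommRingCat.ofHom h0) ≫ f) :=
        Over.homMk (Spec.map (CommRingCat.ofHom e)) (by
          change Spec.map _ ≫ Spec.map _ ≫ _ = _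
          rw [← Category.assoc, LieS.specMap_comp, he, CommRingCat.ofHom_id]
          erw [Spec.map_id]
          exact Category.id_comp _)
      have hp : sC ≫ LieS.proj C _ = 𝟙 _ := by
        ext : 1
        change Spec.map _ ≫ Spec.map _ = 𝟙 _
        rw [LieS.specMap_comp, he, CommRingCat.ofHom_id]
        erw [Spec.map_id]
      have hd : sC ≫ LieS.dptMap f h0 = y := by
        ext : 1
        change Spec.map _ ≫ Spec.map _ = y.left
        rw [hy, LieS.specMap_comp]
        congr 2
        refine RingHom.ext fun z => ?_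
        have hz : z = algebraMap B (DualNumber B) z.fst + algebraMap B (DualNumber B) z.snd * DualNumber.eps :=
          TrivSqZeroExt.ext (by simp [TrivSqZeroExt.algebraMap_eq_inl']) (by simp [TrivSqZeroExt.algebraMap_eq_inl'])
        conv_rhs => rw [hz, map_add, map_mul]
        rw [← he2]
        simp [e, c, LieS.bcHom, TrivSqZeroExt.algebraMap_eq_inl']
      have h1 := congrArg (sC ≫ ·) ((hAd C h0 hh).mp (H C h0 hh))
      simp only [MonObj.comp_mul] at h1
      rw [← Category.assoc sC, ← Category.assoc sC, hp, hd, Category.id_comp] at h1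
      exact h1.symm
    ext : 1
    refine AlgebraicGeometry.Scheme.Cover.hom_ext X'.left.affineCover _ _ fun j => ?_
    let e2 : DualNumber B →+* (Γ(X'.left.affineCover.X j, ⊤) : CommRingCat.{u}) :=
      ((Scheme.ΓSpecIso (CommRingCat.of (DualNumber B))).inv ≫ (X'.left.affineCover.f j ≫ y.left).appTop).hom
    let h0 := e2.comp (algebraMap B (DualNumber B))
    let g : Over.mk (Spec.map (CommRingCat.ofHom h0) ≫ f) ⟶ X' :=
      Over.homMk ((X'.left.affineCover.X j).isoSpec.inv ≫ X'.left.affineCover.f j) (by
        change _ = Spec.map (CommRingCat.ofHom (e2.comp _)) ≫ f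
        rw [← Over.w y, ← LieS.specMap_comp]
        change _ ≫ y.left ≫ Spec.map _ ≫ f = _
        rw [← Category.assoc _ y.left, Category.assoc _ _ f]
        congr 1
        rw [← cancel_epi (X'.left.affineCover.X j).isoSpec.hom]
        simp only [Category.assoc, Iso.hom_inv_id_assoc]
        exact LieSLaux _ _)
    have hg : (g ≫ y).left = Spec.map (CommRingCat.ofHom e2) := by
      rw [← cancel_epi (X'.left.affineCover.X j).isoSpec.hom]
      change _ ≫ (_ ≫ _) ≫ y.left = _
      rw [Category.assoc, Iso.hom_inv_id_assoc]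
      exact LieSLaux _ _
    have h1 := key _ h0 (g ≫ y) (g ≫ h) e2 hg rfl
    have h2 : g ≫ ((y ≫ x.1) * (h ≫ i)) = g ≫ ((h ≫ i) * (y ≫ x.1)) := by
      simpa only [MonObj.comp_mul, Category.assoc] using h1
    have h3 := congrArg CommaMorphism.left h2
    change (_ ≫ _) ≫ _ = (_ ≫ _) ≫ _ at h3
    rw [← cancel_epi (X'.left.affineCover.X j).isoSpec.inv, ← Category.assoc, ← Category.assoc]
    exact h3

end Groth.Agent.S8370
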