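import Groth.Statements.S8383

-- import your own Groth.Agent.* helpers here

set_option autoImplicit false
universe u
open scoped TensorProduct
open SGA3t2b

namespace Groth.Agent.S8383

/-- Let k be a finite field with algebraic closure K, V a finite-dimensional vector space over k, and
θ₁, …, θₙ a basis of the dual of the K-vector space K ⊗ V. Then there is x ∈ V with θᵢ(1 ⊗ x) ≠ 0
for every i. -/
theorem result (k : Type u) [Field k] [Finite k]
    (V : Type u) [AddCommGroup V] [Module k V] [Module.Finite k V] {ι : Type} [Fintype ι]
    (θ : Module.Basis ι (AlgebraicClosure k) (Module.Dual (AlgebraicClosure k) (AlgebraicClosure k ⊗[k] V))) :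
    ∃ x : V, ∀ i : ι, θ i ((1 : AlgebraicClosure k) ⊗ₜ[k] x) ≠ 0 := by
  classical
  suffices main : ∀ (K : Type u) [Field K] [Algebra k K]
      (θ : Module.Basis ι K (Module.Dual K (K ⊗[k] V))),
      ∃ x : V, ∀ i : ι, θ i ((1 : K) ⊗ₜ[k] x) ≠ 0 from main _ θ
  clear θ
  intro K _ _ θ
  let hat : Module.Dual k V → Module.Dual K (K ⊗[k] V) := fun g => LinearMap.baseChange K g |> fun h =>
    (TensorProduct.AlgebraTensorModule.rid k K K).toLinearMap.comp h
  have hat1 : ∀ g v, hat g ((1 : K) ⊗ₜ[k] v) = algebraMap k K (g v) := fun g v => by
    simp [hat, Algebra.algebraMap_eq_smul_one]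
  let T : ι → V →ₗ[k] K := fun i =>
    (θ i).restrictScalars k |>.comp ((TensorProduct.mk k K V) 1)
  have hext : ∀ φ ψ : Module.Dual K (K ⊗[k] V), (∀ v : V, φ (1 ⊗ₜ[k] v) = ψ (1 ⊗ₜ[k] v)) → φ = ψ :=
    fun φ ψ h => TensorProduct.AlgebraTensorModule.ext fun a v => by
      rw [← mul_one a, ← smul_eq_mul, ← TensorProduct.smul_tmul', map_smul, map_smul, h]
  have key : ∀ S : Finset ι, ∃ g : ι → Module.Dual k V,
      (∀ i ∈ S, LinearMap.ker (T i) ≤ LinearMap.ker (g i)) ∧
      LinearIndependent K (fun i => if i ∈ S then hat (g i) else θ i) := by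
    intro S
    induction S using Finset.induction with
    | empty => exact ⟨fun _ => 0, by simp, by simpa using θ.linearIndependent⟩
    | insert a S haS ih =>
      obtain ⟨g, hg, hli⟩ := ih
      have hnot : θ a ∉ Submodule.span K ((fun i => if i ∈ S then hat (g i) else θ i) '' {a}ᶜ) := by
        have h := hli.notMem_span_image (s := {a}ᶜ) (x := a) (by simp)
        simpa [haS] using h
      let W := LinearMap.range (T a)
      have : Module.Finite k W := inferInstance
      let bW := Module.finBasis k W
      let gl : Fin (Module.finrank k W) → Module.Dual k V := fun l => (bW.coord l).comp (T a).rangeRestrict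
      have hdec : θ a = ∑ l, (bW l : K) • hat (gl l) := hext _ _ fun v => by
        have e : (bW.equivFun.symm fun l => gl l v) = (T a).rangeRestrict v :=
          (LinearEquiv.symm_apply_eq _).2 rfl
        rw [LinearMap.sum_apply]
        simp only [LinearMap.smul_apply, hat1, smul_eq_mul]
        rw [show θ a (1 ⊗ₜ[k] v) = ((T a).rangeRestrict v : K) from rfl, ← e]
        simp only [bW.equivFun_symm_apply, Submodule.coe_sum, Submodule.coe_smul, Algebra.smul_def]
        exact Finset.sum_congr rfl fun l _ => mul_comm _ _
      obtain ⟨l, hl⟩ : ∃ l, hat (gl l) ∉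
          Submodule.span K ((fun i => if i ∈ S then hat (g i) else θ i) '' {a}ᶜ) := by
        by_contra! h
        exact hnot (hdec ▸ Submodule.sum_mem _ fun l _ => Submodule.smul_mem _ _ (h l))
      refine ⟨Function.update g a (gl l), fun i hi => ?_, ?_⟩
      · rcases Finset.mem_insert.1 hi with rfl | hi
        · rw [Function.update_self]
          intro v hv
          have : (T i).rangeRestrict v = 0 := Subtype.ext hv
          simp [gl, this]
        · rw [Function.update_of_ne (ne_of_mem_of_not_mem hi haS)]
          exact hg i hi
      · have heq : ∀ i ∈ ({a}ᶜ : Set ι), (fun i => if i ∈ S then hat (g i) else θ i) i =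
            (fun i => if i ∈ insert a S then hat (Function.update g a (gl l) i) else θ i) i := by
          intro i hi
          simp [Function.update_of_ne hi, Set.mem_compl_singleton_iff.1 hi]
        have hrest := (hli.linearIndepOn ({a}ᶜ)).congr heq
        rw [Set.image_congr heq] at hl
        have h2 := hrest.insert (x := a) (by simpa using hl)
        rw [show insert a ({a}ᶜ : Set ι) = Set.univ by ext i; simp [em]] at h2
        exact linearIndepOn_univ_iff.1 h2
  obtain ⟨g, hg, hli⟩ := key Finset.univ
  simp only [Finset.mem_univ, if_true] at hli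
  have hgli : LinearIndependent k g := by
    refine Fintype.linearIndependent_iff.2 fun c hc i => ?_
    have h := Fintype.linearIndependent_iff.1 hli (fun j => algebraMap k K (c j)) (hext _ _ fun v => by
      have := congrArg (algebraMap k K) (LinearMap.congr_fun hc v)
      simp [LinearMap.sum_apply, map_sum, map_mul] at this
      simp only [LinearMap.sum_apply, LinearMap.smul_apply, LinearMap.zero_apply, hat1]
      simpa [Algebra.smul_def] using this) i
    exact (map_eq_zero_iff _ (algebraMap k K).injective).1 h
  have hsurj : Function.Surjective (LinearMap.pi g : V →ₗ[k] (ι → k)) := by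
    rw [← LinearMap.dualMap_injective_iff, injective_iff_map_eq_zero]
    intro φ hφ
    refine LinearMap.ext fun z => ?_
    have h := Fintype.linearIndependent_iff.1 hgli (fun i => φ (Pi.single i 1)) (LinearMap.ext fun v => by
      have := LinearMap.congr_fun hφ v
      rw [LinearMap.dualMap_apply, ← Finset.univ_sum_single ((LinearMap.pi g) v), map_sum] at this
      simp only [LinearMap.sum_apply, LinearMap.smul_apply, smul_eq_mul, LinearMap.zero_apply] at this ⊢
      rw [← this]
      refine Finset.sum_congr rfl fun i _ => ?_
      rw [show (Pi.single i ((LinearMap.pi g) v i) : ι → k) = (g i v) • Pi.single i 1 by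
        rw [← Pi.single_smul, smul_eq_mul, mul_one]; rfl, map_smul, smul_eq_mul, mul_comm])
    conv_lhs => rw [← Finset.univ_sum_single z, map_sum]
    refine Finset.sum_eq_zero fun i _ => ?_
    rw [show Pi.single i (z i) = z i • (Pi.single i 1 : ι → k) by rw [← Pi.single_smul, smul_eq_mul, mul_one],
      map_smul, h i, smul_zero]
  obtain ⟨x, hx⟩ := hsurj fun _ => 1
  refine ⟨x, fun i h => ?_⟩
  have : g i x = 0 := hg i (Finset.mem_univ i) h
  exact one_ne_zero ((congrFun hx i).symm.trans this)

end Groth.Agent.S8383
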