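import Groth.Statements.S8386
import Groth.Agent.Lib.CentLift20.Group
import Groth.Agent.S5261
-- import your own Groth.Agent.* helpers here

set_option autoImplicit false
universe u
open CategoryTheory MonoidalCategory CartesianMonoidalCategory MonObj GrpObj AlgebraicGeometry
open SGA3x

namespace Groth.Agent.S8386

set_option linter.style.haveILetI false
set_option backward.isDefEq.respectTransparency.types false

open Limits in
/-- A homomorphism out of a group of multiplicative type which is a monomorphism modulo a nil ideal is one. -/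
theorem mono_of_reduction {S S₀ : Scheme.{u}} (i : S₀ ⟶ S) [IsClosedImmersion i] [Surjective i] {H G : Over S}
    [GrpObj H] [GrpObj G] [LocallyOfFinitePresentation G.hom] (hH : SGA3x.IsMultTypeFT H) (j : H ⟶ G) [IsMonHom j]
    (h : Mono ((Over.pullback i).map j)) : Mono j := by
  haveI : Mono j.left := Groth.Agent.S5261.result H G hH (Or.inr inferInstance) j fun s => by
    haveI : IsIso (pullback.fst (S.fromSpecResidueField s) i) := isIso_of_isClosedImmersion_of_surjective _
    let k : Spec (S.residueField s) ⟶ S₀ :=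
      inv (pullback.fst (S.fromSpecResidueField s) i) ≫ pullback.snd (S.fromSpecResidueField s) i
    have hk : k ≫ i = S.fromSpecResidueField s := by
      rw [Category.assoc, ← pullback.condition, IsIso.inv_hom_id_assoc]
    rw [← hk]
    have hm : Mono ((Over.pullback k).map ((Over.pullback i).map j)) := inferInstance
    have : Mono ((Over.pullback (k ≫ i)).map j) := by
      haveI : Mono ((Over.pullback i ⋙ Over.pullback k).map j) := hm
      rw [← NatIso.naturality_2 (Over.pullbackComp k i) j]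
      infer_instance
    infer_instance
  exact Over.mono_of_mono_left j


/-- Over an affine base: let A be a ring, J an ideal of A all of whose elements are nilpotent, S = Spec
A, S₀ = Spec(A/J), G an S-group scheme flat and of finite presentation over S, and H₀ a subgroup
scheme of G₀ = G ×_S S₀ which is smooth and finite over S₀, of multiplicative type and central in
G₀. Then there is a subgroup scheme H of G of multiplicative type with H ×_S S₀ = H₀ as subgroups of
G₀; it is unique (any two such are isomorphic over G); and H is central in G. -/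
theorem result (A : Type u) [CommRing A] (J : Ideal A)
    (hJ : ∀ x ∈ J, IsNilpotent x) (G : Over (Spec (CommRingCat.of A))) [GrpObj G] [Flat G.hom] [QuasiCompact G.hom]
    [QuasiSeparated G.hom] [LocallyOfFinitePresentation G.hom]
    (H₀ : Over (Spec (CommRingCat.of (A ⧸ J)))) [GrpObj H₀] (j₀ : H₀ ⟶ Red.bc (Spec.map (CommRingCat.ofHom (Ideal.Quotient.mk J))) G) [IsMonHom j₀] [Mono j₀]
    [Smooth H₀.hom] [IsFinite H₀.hom] (hm₀ : SGA3x.IsMultTypeFT H₀)
    (hc₀ : (∀ (X : Over _) (x : X ⟶ _) (g : X ⟶ Red.bc (Spec.map (CommRingCat.ofHom (Ideal.Quotient.mk J))) G), (x ≫ j₀) * g = g * (x ≫ j₀))) :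
    (∃ (H : Over (Spec (CommRingCat.of A))) (_ : GrpObj H) (j : H ⟶ G), IsMonHom j ∧ Mono j ∧ SGA3x.IsMultTypeFT H ∧
      (∃ e : Red.bc (Spec.map (CommRingCat.ofHom (Ideal.Quotient.mk J))) H ≅ H₀, e.hom ≫ j₀ = (Over.pullback (Spec.map (CommRingCat.ofHom (Ideal.Quotient.mk J)))).map j) ∧
      (∀ (X : Over _) (x : X ⟶ _) (g : X ⟶ G), (x ≫ j) * g = g * (x ≫ j)) ∧
      ∀ (H' : Over (Spec (CommRingCat.of A))) [GrpObj H'] (j' : H' ⟶ G) [IsMonHom j'] [Mono j'], SGA3x.IsMultTypeFT H' →
        (∃ e' : Red.bc (Spec.map (CommRingCat.ofHom (Ideal.Quotient.mk J))) H' ≅ H₀, e'.hom ≫ j₀ = (Over.pullback (Spec.map (CommRingCat.ofHom (Ideal.Quotient.mk J)))).map j') →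
        ∃ φ : H' ≅ H, φ.hom ≫ j = j') := by
  let q := Spec.map (CommRingCat.ofHom (Ideal.Quotient.mk J))
  haveI : IsClosedImmersion q := IsClosedImmersion.spec_of_surjective _ Ideal.Quotient.mk_surjective
  haveI : Surjective q := CentLift20.surjective_specMap_mk J hJ
  haveI := CentLift20.etale_of_finite_smooth H₀.hom
  obtain ⟨H, _, hfin, het, hH, e, he⟩ := CentLift20.exists_group_lift J hJ H₀ hm₀
  haveI := hfin
  haveI := het
  haveI := he
  haveI : Smooth H.hom := inferInstance
  have hc : ∀ {P : Over (Spec (CommRingCat.of (A ⧸ J)))} (z : P ⟶ H₀),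
      ∀ (X : Over (Spec (CommRingCat.of (A ⧸ J)))) (x : X ⟶ P) (g : X ⟶ Red.bc q G),
        (x ≫ z ≫ j₀) * g = g * (x ≫ z ≫ j₀) := fun z X x g => by
    rw [← Category.assoc]
    exact hc₀ X _ g
  obtain ⟨j, hj, hj₀, hcent, huniq⟩ :=
    CentLift20.exists_lift_bc q (CentLift20.exists_killed hH) (e.hom ≫ j₀) (hc e.hom)
  haveI := hj
  have hmono : Mono j := mono_of_reduction q hH j (by rw [hj₀]; infer_instance)
  refine ⟨H, inferInstance, j, hj, hmono, hH, ⟨e, hj₀.symm⟩, hcent, fun H' _ j' _ _ hH' ⟨e', he'⟩ => ?_⟩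
  obtain ⟨hfin', het'⟩ := CentLift20.finite_etale_of_reduction J hJ hH' e'
  haveI := hfin'
  haveI := het'
  haveI : Smooth H'.hom := inferInstance
  haveI : IsMonHom e'.hom := by
    haveI : IsMonHom (e'.hom ≫ j₀) := he' ▸ inferInstance
    exact CentLift20.isMonHom_of_mul e'.hom fun X a b => by
      rw [← cancel_mono j₀, Category.assoc, MonObj.mul_comp, MonObj.mul_comp, Category.assoc, Category.assoc]
  obtain ⟨u', -, -, -, huniq'⟩ :=
    CentLift20.exists_lift_bc q (CentLift20.exists_killed hH') (e'.hom ≫ j₀) (hc e'.hom)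
  have hcomm₀ : ∀ (X : Over (Spec (CommRingCat.of (A ⧸ J)))) (x y : X ⟶ H₀), x * y = y * x := fun X x y => by
    rw [← cancel_mono j₀, MonObj.mul_comp, MonObj.mul_comp, hc₀]
  have hcH : ∀ {P : Over (Spec (CommRingCat.of (A ⧸ J)))} (z : P ⟶ Red.bc q H),
      ∀ (X : Over (Spec (CommRingCat.of (A ⧸ J)))) (x : X ⟶ P) (g : X ⟶ Red.bc q H),
        (x ≫ z) * g = g * (x ≫ z) := fun z X x g => by
    rw [← cancel_mono e.hom, MonObj.mul_comp, MonObj.mul_comp, hcomm₀]
  have hcH' : ∀ {P : Over (Spec (CommRingCat.of (A ⧸ J)))} (z : P ⟶ Red.bc q H'),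
      ∀ (X : Over (Spec (CommRingCat.of (A ⧸ J)))) (x : X ⟶ P) (g : X ⟶ Red.bc q H'),
        (x ≫ z) * g = g * (x ≫ z) := fun z X x g => by
    rw [← cancel_mono e'.hom, MonObj.mul_comp, MonObj.mul_comp, hcomm₀]
  obtain ⟨a, ha, ha₀, -, -⟩ :=
    CentLift20.exists_lift_bc q (CentLift20.exists_killed hH') (e'.hom ≫ e.inv) (hcH _)
  obtain ⟨b, hb, hb₀, -, -⟩ :=
    CentLift20.exists_lift_bc q (CentLift20.exists_killed hH) (e.hom ≫ e'.inv) (hcH' _)
  haveI := ha
  haveI := hb
  obtain ⟨i₁, -, -, -, hid⟩ := CentLift20.exists_lift_bc q (CentLift20.exists_killed hH) (𝟙 _) (hcH _)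
  obtain ⟨i₂, -, -, -, hid'⟩ := CentLift20.exists_lift_bc q (CentLift20.exists_killed hH') (𝟙 _) (hcH' _)
  refine ⟨⟨a, b, ?_, ?_⟩, ?_⟩
  · rw [hid' (a ≫ b) inferInstance (by rw [Functor.map_comp, ha₀, hb₀]; simp),
      hid' (𝟙 H') inferInstance (CategoryTheory.Functor.map_id _ _)]
  · rw [hid (b ≫ a) inferInstance (by rw [Functor.map_comp, ha₀, hb₀]; simp),
      hid (𝟙 H) inferInstance (CategoryTheory.Functor.map_id _ _)]
  · show a ≫ j = j'
    rw [huniq' (a ≫ j) inferInstance (by rw [Functor.map_comp, ha₀, hj₀]; simp),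
      huniq' j' inferInstance he'.symm]

end Groth.Agent.S8386
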