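import Groth.Statements.S8388
import Groth.Agent.Lib.CentLift20.Levels

set_option autoImplicit false
universe u
open CategoryTheory MonoidalCategory CartesianMonoidalCategory MonObj GrpObj AlgebraicGeometry
open SGA3x

namespace Groth.Agent.S8388

set_option linter.style.haveILetI false
set_option backward.isDefEq.respectTransparency.types false

/-- Let A be a complete Noetherian local ring with residue field k, S = Spec A, S₀ = Spec k the closed
point, M an S-group scheme finite over S and of multiplicative type, and G an S-group scheme smooth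
over S. Then every homomorphism of S₀-groups u₀ : M₀ → G₀ between the closed fibres is the
restriction of a homomorphism of S-groups u : M → G; and if u, u′ : M → G are homomorphisms with the
same restriction to S₀, there is g ∈ G(S) restricting to the unit of G(S₀) with u′ = int(g) ∘ u. -/
theorem result (A : Type u) [CommRing A]
    [IsLocalRing A] [IsNoetherianRing A] [IsAdicComplete (IsLocalRing.maximalIdeal A) A]
    (M : Over (Spec (CommRingCat.of A))) [GrpObj M] [IsFinite M.hom] (hM : SGA3x.IsMultTypeFT M)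
    (G : Over (Spec (CommRingCat.of A))) [GrpObj G] [Smooth G.hom] :
    (∀ (u₀ : Red.bc (Spec.map (CommRingCat.ofHom (Ideal.Quotient.mk (IsLocalRing.maximalIdeal A)))) M ⟶ Red.bc (Spec.map (CommRingCat.ofHom (Ideal.Quotient.mk (IsLocalRing.maximalIdeal A)))) G) [IsMonHom u₀],
      ∃ u : M ⟶ G, IsMonHom u ∧ (Over.pullback (Spec.map (CommRingCat.ofHom (Ideal.Quotient.mk (IsLocalRing.maximalIdeal A))))).map u = u₀) ∧
    (∀ (u u' : M ⟶ G) [IsMonHom u] [IsMonHom u'],
      (Over.pullback (Spec.map (CommRingCat.ofHom (Ideal.Quotient.mk (IsLocalRing.maximalIdeal A))))).map u = (Over.pullback (Spec.map (CommRingCat.ofHom (Ideal.Quotient.mk (IsLocalRing.maximalIdeal A))))).map u' →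
      ∃ g : 𝟙_ (Over (Spec (CommRingCat.of A))) ⟶ G,
        (Over.pullback (Spec.map (CommRingCat.ofHom (Ideal.Quotient.mk (IsLocalRing.maximalIdeal A))))).map g = toUnit _ ≫ η[Red.bc (Spec.map (CommRingCat.ofHom (Ideal.Quotient.mk (IsLocalRing.maximalIdeal A)))) G] ∧
        ∀ (X : Over (Spec (CommRingCat.of A))) (x : X ⟶ M), x ≫ u' = (toUnit X ≫ g) * (x ≫ u) * (toUnit X ≫ g)⁻¹) := by
  constructor
  · intro u₀ _
    let sub := fun n => {w : Red.bc (CentLift20.li A n) M ⟶ Red.bc (CentLift20.li A n) G // IsMonHom w}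
    have hstep : ∀ n (w : sub n), ∃ w' : sub (n + 1), CentLift20.Compat A n w'.1 w.1 := fun n w => by
      haveI := w.2
      obtain ⟨w', h1, h2⟩ := CentLift20.exists_next_smooth hM n w.1
      exact ⟨⟨w', h1⟩, h2⟩
    choose next hnext using hstep
    let W : ∀ n, sub n := fun n => Nat.rec (motive := sub) ⟨u₀, ‹IsMonHom u₀›⟩ next n
    haveI : ∀ n, IsMonHom (W n).1 := fun n => (W n).2
    obtain ⟨u, hu⟩ := CentLift20.exists_hom_limit A (fun n => (W n).1) fun n => hnext n (W n)
    exact ⟨u, CentLift20.isMonHom_of_mul u (CentLift20.mul_comp_of_levels A u _ hu), hu 0⟩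
  · intro u u' _ _ heq
    let i := CentLift20.li A
    let P : ∀ n, (Over.mk (i n) ⟶ G) → Prop := fun n g =>
      ∀ (X : Over (Spec (CommRingCat.of A))) (p : X ⟶ Over.mk (i n)) (x : X ⟶ M),
        (x ≫ u') * (p ≫ g) = (p ≫ g) * (x ≫ u)
    have h0 : P 0 1 := by
      intro X p x
      rw [MonObj.comp_one, _root_.mul_one, _root_.one_mul]
      have h1 : fst M (Over.mk (i 0)) ≫ u = fst M (Over.mk (i 0)) ≫ u' := Over.OverMorphism.ext (by
        exact (CentLift20.map_left_fst (i 0) u).symm.trans
          ((congrArg (fun m => CommaMorphism.left m ≫ Limits.pullback.fst G.hom (i 0)) heq).trans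
            (CentLift20.map_left_fst (i 0) u')))
      have h2 := congrArg (lift x p ≫ ·) h1
      simpa only [lift_fst_assoc] using h2.symm
    let sub := fun n => {g : Over.mk (i n) ⟶ G // P n g}
    have hstep : ∀ n (g : sub n), ∃ g' : sub (n + 1), CentLift20.ltr A n ≫ g'.1.left = g.1.left := fun n g => by
      obtain ⟨g', h1, h2⟩ := CentLift20.exists_next_conj hM u u' n g.1 g.2
      exact ⟨⟨g', h2⟩, h1⟩
    choose next hnext using hstep
    let W : ∀ n, sub n := fun n => Nat.rec (motive := sub) ⟨1, h0⟩ next n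
    haveI : IsFinite (𝟙_ (Over (Spec (CommRingCat.of A)))).hom :=
      inferInstanceAs (IsFinite (𝟙 (Spec (CommRingCat.of A))))
    let w : ∀ n, Red.bc (i n) (𝟙_ (Over (Spec (CommRingCat.of A)))) ⟶ Red.bc (i n) G := fun n =>
      Over.homMk (Limits.pullback.lift (Limits.pullback.snd _ (i n) ≫ (W n).1.left) (Limits.pullback.snd _ (i n))
        ((Category.assoc _ _ _).trans (congrArg (Limits.pullback.snd _ (i n) ≫ ·) (Over.w (W n).1))))
        (Limits.pullback.lift_snd _ _ _)
    have hwf : ∀ n, (w n).left ≫ Limits.pullback.fst G.hom (i n) = Limits.pullback.snd _ (i n) ≫ (W n).1.left :=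
      fun n => Limits.pullback.lift_fst _ _ _
    have hcw : ∀ n, CentLift20.Compat A n (w (n + 1)) (w n) := fun n => by
      refine CentLift20.bc_ext _ _ _ ?_
      simp only [Over.comp_left, Category.assoc]
      rw [SpreadSub19.bcComp_fst, ← Category.assoc, CentLift20.map_left_fst, Category.assoc, hwf, hwf]
      have hc : Limits.pullback.fst (Red.bc (i (n + 1)) (𝟙_ (Over (Spec (CommRingCat.of A))))).hom
          (CentLift20.ltr A n) ≫ Limits.pullback.snd (𝟙_ (Over (Spec (CommRingCat.of A)))).hom (i (n + 1)) =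
          Limits.pullback.snd _ (CentLift20.ltr A n) ≫ CentLift20.ltr A n := Limits.pullback.condition
      have he : (SpreadSub19.bcComp (i (n + 1)) (CentLift20.ltr A n) (CentLift20.ltr_li A n)
          (𝟙_ (Over (Spec (CommRingCat.of A))))).hom.left ≫ Limits.pullback.snd _ (i n) =
          Limits.pullback.snd _ (CentLift20.ltr A n) := Over.w (SpreadSub19.bcComp (i (n + 1)) (CentLift20.ltr A n)
            (CentLift20.ltr_li A n) (𝟙_ (Over (Spec (CommRingCat.of A))))).hom
      rw [← Category.assoc, hc, ← Category.assoc, he, Category.assoc]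
      exact congrArg (Limits.pullback.snd _ (CentLift20.ltr A n) ≫ ·) (hnext n (W n))
    obtain ⟨g, hg⟩ := CentLift20.exists_hom_limit A w hcw
    have hgn : ∀ n, toUnit (Over.mk (i n)) ≫ g = (W n).1 := fun n => Over.OverMorphism.ext (by
      have h := congrArg (fun m => CommaMorphism.left m ≫ Limits.pullback.fst G.hom (i n)) (hg n)
      rw [CentLift20.map_left_fst, hwf] at h
      let σ : Spec (CommRingCat.of (A ⧸ CentLift20.lI A n)) ⟶
          (Red.bc (i n) (𝟙_ (Over (Spec (CommRingCat.of A))))).left :=
        Limits.pullback.lift (i n) (𝟙 _) ((Category.comp_id _).trans (Category.id_comp _).symm)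
      have h' := congrArg (σ ≫ ·) h
      simp only [σ, Limits.pullback.lift_snd_assoc, Category.id_comp] at h'
      exact (Limits.pullback.lift_fst_assoc _ _ _ g.left).symm.trans h')
    refine ⟨g, ?_, fun X x => ?_⟩
    · refine Eq.trans (b := (Over.pullback (i 0)).map (1 : 𝟙_ (Over (Spec (CommRingCat.of A))) ⟶ G)) ?_
        (map_one ((Over.pullback (i 0)).homMonoidHom (X := 𝟙_ (Over (Spec (CommRingCat.of A)))) (M := G)))
      refine CentLift20.bc_ext (i 0) _ _ ?_
      refine (CentLift20.map_left_fst (i 0) g).trans (Eq.trans ?_ (CentLift20.map_left_fst (i 0) _).symm)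
      have h := congrArg CommaMorphism.left (hgn 0)
      change i 0 ≫ g.left = i 0 ≫ η[G].left at h
      have hcnd : Limits.pullback.fst (𝟙_ (Over (Spec (CommRingCat.of A)))).hom (i 0) =
          Limits.pullback.snd _ (i 0) ≫ i 0 := (Category.comp_id _).symm.trans Limits.pullback.condition
      rw [hcnd, Category.assoc, Category.assoc, h]
      congr 2
    · rw [eq_mul_inv_iff_mul_eq]
      have key : u' * (toUnit M ≫ g) = (toUnit M ≫ g) * u := by
        refine CentLift20.hom_ext_limit A _ _ fun n => CentLift20.bc_ext _ _ _ ?_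
        rw [CentLift20.map_left_fst, CentLift20.map_left_fst]
        have h := (W n).2 (M ⊗ Over.mk (i n)) (snd M (Over.mk (i n))) (fst M (Over.mk (i n)))
        rw [← hgn n, ← Category.assoc, toUnit_unique (snd M (Over.mk (i n)) ≫ toUnit _) (fst M _ ≫ toUnit M),
          Category.assoc, ← MonObj.comp_mul, ← MonObj.comp_mul] at h
        exact congrArg CommaMorphism.left h
      have h := congrArg (x ≫ ·) key
      rwa [MonObj.comp_mul, MonObj.comp_mul, ← Category.assoc, toUnit_unique (x ≫ toUnit M) (toUnit X)] at h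

end Groth.Agent.S8388
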