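import Groth.Statements.S8389
import Groth.Agent.Lib.CentLift20.Levels
import Groth.Agent.S5295

set_option autoImplicit false
universe u
open CategoryTheory MonoidalCategory CartesianMonoidalCategory MonObj GrpObj AlgebraicGeometry
open SGA3x

namespace Groth.Agent.S8389

set_option linter.style.haveILetI false
set_option backward.isDefEq.respectTransparency.types false

open Limits DiagGL in
/-- A homomorphism with central restriction to the closed point is central when the fibres are connected. -/
theorem central_of_closed (A : Type u) [CommRing A] [IsLocalRing A] [IsNoetherianRing A]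
    (M : Over (Spec (CommRingCat.of A))) [GrpObj M] (hM : SGA3x.IsMultTypeFT M)
    (G : Over (Spec (CommRingCat.of A))) [GrpObj G] [QuasiCompact G.hom] [LocallyOfFiniteType G.hom]
    (hconn : ∀ s : (Spec (CommRingCat.of A)), _root_.IsConnected (G.hom.base ⁻¹' {s}))
    (u : M ⟶ G) [IsMonHom u]
    (hc : CentLift20.Cent ((Over.pullback (CentLift20.li A 0)).map u)) :
    ∀ (X : Over (Spec (CommRingCat.of A))) (x : X ⟶ M) (g : X ⟶ G), (x ≫ u) * g = g * (x ≫ u) := by
  haveI : LocallyOfFinitePresentation G.hom := LimH13.locallyOfFinitePresentation_of_noetherian _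
  haveI : IsLocallyNoetherian G.left := LocallyOfFiniteType.isLocallyNoetherian G.hom
  haveI : QuasiSeparated G.hom := (HasAffineProperty.iff_of_isAffine (P := @QuasiSeparated)).2 inferInstance
  let s : Spec (CommRingCat.of A) := IsLocalRing.closedPoint A
  let f := (Spec (CommRingCat.of A)).fromSpecResidueField s
  obtain ⟨k, hk⟩ : ∃ k, k ≫ CentLift20.li A 0 = f := by
    obtain ⟨φ, hφ⟩ := Spec.map_surjective f
    have hker : ∀ x ∈ CentLift20.lI A 0, φ.hom x = 0 := by
      intro x hx
      let z : Spec (CommRingCat.of ((Spec (CommRingCat.of A)).residueField s)) :=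
        IsLocalRing.closedPoint ((Spec (CommRingCat.of A)).residueField s)
      have hz : Spec.map φ z = s := by rw [hφ]; exact Scheme.fromSpecResidueField_apply _ z
      have hx' : φ.hom x ∈ IsLocalRing.maximalIdeal ((Spec (CommRingCat.of A)).residueField s) := by
        have := congrArg PrimeSpectrum.asIdeal hz
        change Ideal.comap φ.hom _ = IsLocalRing.maximalIdeal A at this
        exact Ideal.mem_comap.1 (this.symm ▸ hx)
      rwa [IsLocalRing.maximalIdeal_eq_bot, Submodule.mem_bot] at hx'
    refine ⟨Spec.map (CommRingCat.ofHom (Ideal.Quotient.lift _ φ.hom hker)), ?_⟩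
    rw [← hφ, ← Spec.map_comp]
    rfl
  haveI hC : ∀ t : Spec (CommRingCat.of A),
      ConnectedSpace ↥(Limits.pullback G.hom ((Spec (CommRingCat.of A)).fromSpecResidueField t)) := fun t => by
    haveI : ConnectedSpace ↥(G.hom.base ⁻¹' {t}) := Subtype.connectedSpace (hconn t)
    exact (G.hom.fiberHomeo t).symm.surjective.connectedSpace (G.hom.fiberHomeo t).symm.continuous
  obtain ⟨U, hsU, hU⟩ := Groth.Agent.S5295.result M G hM hC u s (fun X g h => by
    apply fl_injective f G
    rw [fl_mul, fl_mul, TorPts21.fl_comp_map]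
    let Y := (Over.map k).obj X
    let jj : (Over.map (CentLift20.li A 0)).obj Y ⟶ (Over.map f).obj X := Over.homMk (𝟙 X.left) (by
      show 𝟙 X.left ≫ X.hom ≫ f = (X.hom ≫ k) ≫ CentLift20.li A 0
      rw [Category.id_comp, Category.assoc, hk])
    haveI : Epi jj := ⟨fun a c w => Over.OverMorphism.ext
      ((Category.id_comp a.left).symm.trans ((congrArg CommaMorphism.left w).trans (Category.id_comp c.left)))⟩
    obtain ⟨x₀, hx₀⟩ := fl_surjective (CentLift20.li A 0) M (T := Y) (jj ≫ fl f M h)
    obtain ⟨g₀, hg₀⟩ := fl_surjective (CentLift20.li A 0) G (T := Y) (jj ≫ fl f G g)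
    have h' := congrArg (fl (CentLift20.li A 0) G) (hc Y x₀ g₀)
    rw [fl_mul, fl_mul, TorPts21.fl_comp_map, hx₀, hg₀, Category.assoc, ← MonObj.comp_mul, ← MonObj.comp_mul] at h'
    exact ((cancel_epi jj).1 h').symm)
  intro X x g
  have hr : Set.range X.hom ⊆ Set.range U.ι := by
    rw [Scheme.Opens.range_ι]
    rintro _ ⟨z, rfl⟩
    exact (IsLocalRing.specializes_closedPoint (X.hom z)).mem_open U.2 hsU
  exact (hU X (Over.homMk (IsOpenImmersion.lift U.ι X.hom hr) (IsOpenImmersion.lift_fac _ _ _)) g x).symm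

/-- Let A be a complete Noetherian local ring with residue field k, S = Spec A, S₀ = Spec k the closed
point, M an S-group scheme of multiplicative type which is smooth and finite over S, G an S-group
scheme flat and of finite type over S, and u₀ : M₀ → G₀ a central homomorphism between the closed
fibres. Then u₀ is the restriction of exactly one homomorphism u : M → G; and u is central when the
fibres of G are connected. -/
theorem result (A : Type u) [CommRing A]
    [IsLocalRing A] [IsNoetherianRing A] [IsAdicComplete (IsLocalRing.maximalIdeal A) A]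
    (M : Over (Spec (CommRingCat.of A))) [GrpObj M] [IsFinite M.hom] [Smooth M.hom] (hM : SGA3x.IsMultTypeFT M)
    (G : Over (Spec (CommRingCat.of A))) [GrpObj G] [Flat G.hom] [QuasiCompact G.hom] [LocallyOfFiniteType G.hom]
    (u₀ : Red.bc (Spec.map (CommRingCat.ofHom (Ideal.Quotient.mk (IsLocalRing.maximalIdeal A)))) M ⟶ Red.bc (Spec.map (CommRingCat.ofHom (Ideal.Quotient.mk (IsLocalRing.maximalIdeal A)))) G) [IsMonHom u₀]
    (hc₀ : ∀ (X : Over _) (x : X ⟶ Red.bc (Spec.map (CommRingCat.ofHom (Ideal.Quotient.mk (IsLocalRing.maximalIdeal A)))) M) (g : X ⟶ Red.bc (Spec.map (CommRingCat.ofHom (Ideal.Quotient.mk (IsLocalRing.maximalIdeal A)))) G), (x ≫ u₀) * g = g * (x ≫ u₀)) :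
    (∃ u : M ⟶ G, IsMonHom u ∧ (Over.pullback (Spec.map (CommRingCat.ofHom (Ideal.Quotient.mk (IsLocalRing.maximalIdeal A))))).map u = u₀ ∧
      ∀ u' : M ⟶ G, IsMonHom u' → (Over.pullback (Spec.map (CommRingCat.ofHom (Ideal.Quotient.mk (IsLocalRing.maximalIdeal A))))).map u' = u₀ → u' = u) ∧
    ((∀ s : (Spec (CommRingCat.of A)), _root_.IsConnected (G.hom.base ⁻¹' {s})) →
      ∀ u : M ⟶ G, IsMonHom u → (Over.pullback (Spec.map (CommRingCat.ofHom (Ideal.Quotient.mk (IsLocalRing.maximalIdeal A))))).map u = u₀ →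
        ∀ (X : Over (Spec (CommRingCat.of A))) (x : X ⟶ M) (g : X ⟶ G), (x ≫ u) * g = g * (x ≫ u)) := by
  haveI : LocallyOfFinitePresentation G.hom := LimH13.locallyOfFinitePresentation_of_noetherian _
  let sub := fun n => {w : Red.bc (CentLift20.li A n) M ⟶ Red.bc (CentLift20.li A n) G // IsMonHom w ∧ CentLift20.Cent w}
  have hstep : ∀ n (w : sub n), ∃ w' : sub (n + 1), CentLift20.Compat A n w'.1 w.1 ∧
      ∀ w'' : Red.bc (CentLift20.li A (n + 1)) M ⟶ Red.bc (CentLift20.li A (n + 1)) G,
        IsMonHom w'' → CentLift20.Compat A n w'' w.1 → w'' = w'.1 := fun n w => by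
    haveI := w.2.1
    obtain ⟨w', h1, h2, h3, h4⟩ := CentLift20.exists_next_central hM n w.1 w.2.2
    exact ⟨⟨w', h1, h2⟩, h3, h4⟩
  choose next hnext huniq using hstep
  let W : ∀ n, sub n := fun n => Nat.rec (motive := sub) ⟨u₀, ‹IsMonHom u₀›, hc₀⟩ next n
  haveI : ∀ n, IsMonHom (W n).1 := fun n => (W n).2.1
  obtain ⟨u, hu⟩ := CentLift20.exists_hom_limit A (fun n => (W n).1) fun n => hnext n (W n)
  refine ⟨⟨u, CentLift20.isMonHom_of_mul u (CentLift20.mul_comp_of_levels A u _ hu), hu 0, fun u' hu' h0 => ?_⟩,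
    fun hconn u' hu' h0 => ?_⟩
  · haveI := hu'
    refine CentLift20.hom_ext_limit A _ _ fun n => ?_
    rw [hu n]
    induction n with
    | zero => exact h0
    | succ n ih =>
      refine huniq n (W n) _ inferInstance ?_
      rw [← ih]
      exact CentLift20.compat_map A n u'
  · haveI := hu'
    refine central_of_closed A M hM G hconn u' ?_
    have : (Over.pullback (CentLift20.li A 0)).map u' = u₀ := h0
    rw [this]
    exact hc₀

end Groth.Agent.S8389
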