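import Groth.Statements.S8395
import Groth.Agent.Lib.MulEtale20.Basic

set_option autoImplicit false
universe u
open CategoryTheory MonoidalCategory CartesianMonoidalCategory MonObj GrpObj AlgebraicGeometry
open SGA3x

namespace Groth.Agent.S8395

set_option linter.style.haveILetI false
set_option backward.isDefEq.respectTransparency false

section Translate

variable {k : Type u} [Field k] {G : Over (Spec (CommRingCat.of k))} [GrpObj G]

/-- Left translation. -/
noncomputable abbrev tr (a : 𝟙_ (Over (Spec (CommRingCat.of k))) ⟶ G) : G ⟶ G := (toUnit G ≫ a) * 𝟙 G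

lemma tr_comp (a b : 𝟙_ (Over (Spec (CommRingCat.of k))) ⟶ G) : tr a ≫ tr b = tr (b * a) := by
  simp only [tr, MonObj.comp_mul, Category.comp_id, ← Category.assoc, comp_toUnit]
  exact (_root_.mul_assoc _ _ _).symm

lemma isIso_tr (a : 𝟙_ (Over (Spec (CommRingCat.of k))) ⟶ G) : IsIso (tr a).left := by
  haveI : IsIso (tr a) := ⟨tr a⁻¹, by rw [tr_comp]; simp [tr], by rw [tr_comp]; simp [tr]⟩
  exact inferInstanceAs (IsIso ((Over.forget _).map (tr a)))

end Translate

/-- Let k be a field, G a k-group scheme locally of finite type, n an integer invertible in k, and u : G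
→ G the n-th power morphism. Then u is etale at every point of G lying in the centre of G; here
stated at a k-rational point g of G which is central (commutes with all points of G): u is etale on
some open neighbourhood of g. (The published statement is for any point of the centre; its proof
reduces to rational points by extending the base field.) -/
theorem result (k : Type u) [Field k]
    (G : Over (Spec (CommRingCat.of k))) [GrpObj G] [LocallyOfFiniteType G.hom] (n : ℕ) (hn : (n : k) ≠ 0)
    (g : 𝟙_ (Over (Spec (CommRingCat.of k))) ⟶ G)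
    (hg : ∀ (X : Over (Spec (CommRingCat.of k))) (x : X ⟶ G), (toUnit X ≫ g) * x = x * (toUnit X ≫ g)) :
    ∃ U : G.left.Opens, Set.range g.left.base ⊆ (U : Set ↥G.left) ∧
      Etale (U.ι ≫ ((𝟙 G : G ⟶ G) ^ n).left) := by
  obtain ⟨V, hV1, hV2⟩ := MulEtale20.exists_etale_pow G n hn
  let u : G ⟶ G := 𝟙 G ^ n
  haveI := isIso_tr g⁻¹
  haveI := isIso_tr (g ^ n)
  have hcomm : Commute (toUnit G ≫ g) (𝟙 G) := hg G (𝟙 G)
  have hu : tr g ≫ u = u ≫ tr (g ^ n) := by
    rw [MonObj.comp_pow, Category.comp_id, hcomm.mul_pow]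
    simp only [tr, u, MonObj.comp_mul, Category.comp_id, ← Category.assoc, comp_toUnit, MonObj.comp_pow]
  have ht : tr g⁻¹ ≫ tr g = 𝟙 G := by rw [tr_comp]; simp [tr]
  refine ⟨(tr g⁻¹).left ⁻¹ᵁ V, ?_, ?_⟩
  · rintro _ ⟨p, rfl⟩
    show (g.left ≫ (tr g⁻¹).left) p ∈ V
    rw [← Over.comp_left, show g ≫ tr g⁻¹ = η[G] by
      simp [tr, MonObj.comp_mul, MonObj.one_eq_one, ← Category.assoc, comp_toUnit,
        Subsingleton.elim (toUnit (𝟙_ (Over (Spec (CommRingCat.of k))))) (𝟙 _)]]
    obtain rfl : p = IsLocalRing.closedPoint k := Subsingleton.elim (α := PrimeSpectrum k) _ _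
    exact hV1
  · have key : u = tr g⁻¹ ≫ u ≫ tr (g ^ n) := by rw [← hu, ← Category.assoc, ht, Category.id_comp]
    show Etale (_ ≫ u.left)
    rw [key, Over.comp_left, Over.comp_left, ← morphismRestrict_ι_assoc]
    haveI : Etale (V.ι ≫ u.left ≫ (tr (g ^ n)).left) := by
      rw [← Category.assoc]
      exact MorphismProperty.comp_mem @Etale _ _ hV2 inferInstance
    exact MorphismProperty.comp_mem @Etale _ _ inferInstance this

end Groth.Agent.S8395
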