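import Groth.Statements.S8401
import Groth.Agent.Lib.AttrBorel21.MaxTori
-- import your own Groth.Agent.* helpers here

set_option autoImplicit false
universe u
open CategoryTheory MonoidalCategory CartesianMonoidalCategory MonObj GrpObj AlgebraicGeometry
open SGA3x

namespace Groth.Agent.S8401

/-- Let G be an affine, smooth, connected algebraic group over an algebraically closed field k, and Z
its reductive centre. Then Z is the scheme-theoretic intersection of the maximal tori of G: a point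
of G with values in a k-scheme X factors through Z if and only if it factors through every maximal
torus of G. -/
theorem result (k : Type u) [Field k] [IsAlgClosed k]
    (G : Over (Spec (CommRingCat.of k))) [GrpObj G] [Smooth G.hom] [QuasiCompact G.hom] [IsAffine G.left] [ConnectedSpace ↥G.left]
    (Z : Over (Spec (CommRingCat.of k))) [GrpObj Z] (z : Z ⟶ G)
    (hZ : (IsMonHom z ∧ Mono z ∧ SGA3x.IsMultTypeFT Z ∧
      (∀ (X : Over (Spec (CommRingCat.of k))) (x : X ⟶ Z) (g : X ⟶ G), (x ≫ z) * g = g * (x ≫ z)) ∧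
      ∀ (S' : Scheme.{u}) (f : S' ⟶ (Spec (CommRingCat.of k))) (H : Over S') [GrpObj H] (v : H ⟶ Red.bc f G) [IsMonHom v],
        SGA3x.IsMultTypeFT H →
        (∀ (X : Over S') (x : X ⟶ H) (g : X ⟶ Red.bc f G), (x ≫ v) * g = g * (x ≫ v)) →
        ∃ w : H ⟶ Red.bc f Z, w ≫ (Over.pullback f).map z = v)) (X : Over (Spec (CommRingCat.of k))) (g : X ⟶ G) :
    (∃ x : X ⟶ Z, x ≫ z = g) ↔
      ∀ (T : Over (Spec (CommRingCat.of k))) [GrpObj T] (i : T ⟶ G), Red.IsMaximalTorus i → ∃ t : X ⟶ T, t ≫ i = g := by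
  obtain ⟨hzm, hzmono, hZm, hZc, hZu⟩ := hZ
  haveI := hzm
  haveI := hzmono
  constructor
  · rintro ⟨x, rfl⟩ T _ i hT
    obtain ⟨h, hh⟩ := Groth.Agent.AttrBorel21.exists_lift_maxTorus_of_multType hT hZm z
      fun Y y t => hZc Y y (t ≫ i)
    exact ⟨x ≫ h, by rw [Category.assoc, hh]⟩
  · intro h
    obtain ⟨T, _, iT, hT⟩ := Groth.Agent.TorPts21.exists_maxTorus G
    have hT' := Groth.Agent.AttrBorel21.isMaximalTorus_of_isMaxTorus hT
    obtain ⟨y, rfl⟩ := h T iT hT'
    obtain ⟨D, _, d, hdm, hDm, hD⟩ := Groth.Agent.AttrBorel21.exists_central_torus_part hT'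
    haveI := hdm
    haveI := hT.1
    obtain ⟨v, rfl⟩ := (hD X y).2 fun X' x g =>
      Groth.Agent.AttrBorel21.comm_of_forall_maximalTorus_closed (y ≫ iT) (fun T' _ i' hT'' => h T' i' hT'') X' x g
    let φ : Spec (CommRingCat.of k) ⟶ Spec (CommRingCat.of k) := 𝟙 _
    let f := (Over.pullback φ).map (d ≫ iT)
    obtain ⟨w, hw⟩ := hZu _ φ (Red.bc φ D) f (Groth.Agent.MTRigid29.isMultTypeFT_bc hDm φ) fun Y a g => by
      refine Groth.Agent.DiagGL.fl_injective φ G ?_
      rw [Groth.Agent.DiagGL.fl_mul, Groth.Agent.DiagGL.fl_mul, Groth.Agent.DiagGL.fl_comp_map]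
      have := (hD D d).1 ⟨𝟙 D, Category.id_comp _⟩ _ (Groth.Agent.DiagGL.fl φ D a) (Groth.Agent.DiagGL.fl φ G g)
      simpa only [Category.assoc] using this
    obtain ⟨w₀, hw₀⟩ := Groth.Agent.AttrBorel21.exists_lift_of_bc_id z (d ≫ iT) w hw
    exact ⟨v ≫ w₀, by rw [Category.assoc, hw₀, Category.assoc]⟩

end Groth.Agent.S8401
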