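import Groth.Statements.S8403
import Groth.Agent.Lib.CartanDim21.Main
-- import your own Groth.Agent.* helpers here

set_option autoImplicit false
universe u
open CategoryTheory MonoidalCategory CartesianMonoidalCategory MonObj GrpObj AlgebraicGeometry
open SGA3x

namespace Groth.Agent.S8403

/-- Let G be an affine smooth algebraic group over a field k, T a torus in G and C its centralizer. Then
the nilpotent rank of G (the dimension of the Cartan subgroups of G over an algebraic closure of k)
is at most dim C. -/
theorem result (k : Type u) [Field k]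
    (G : Over (Spec (CommRingCat.of k))) [GrpObj G] [Smooth G.hom] [QuasiCompact G.hom] [IsAffine G.left]
    (T : Over (Spec (CommRingCat.of k))) [GrpObj T] (j : T ⟶ G) [IsMonHom j] [Mono j] (hT : Red.IsTorus T)
    (C : Over (Spec (CommRingCat.of k))) [GrpObj C] (c : C ⟶ G) (hC : Red.IsCentralizerOf j c)
    (s : ↥(Spec (CommRingCat.of k))) (C' : Over (Spec (CommRingCat.of (AlgebraicClosure ((Spec (CommRingCat.of k)).residueField s))))) [GrpObj C']
    (c' : C' ⟶ Red.geomFibre s G) (hC' : SGA3x.IsCartanOver (AlgebraicClosure ((Spec (CommRingCat.of k)).residueField s)) c') :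
    topologicalKrullDim ↥C'.left ≤ topologicalKrullDim ↥C.left := by
  haveI : Smooth (Red.geomFibre s G).hom := inferInstanceAs (Smooth (Limits.pullback.snd G.hom (Red.geomPt s)))
  haveI : QuasiCompact (Red.geomFibre s G).hom := inferInstanceAs (QuasiCompact (Limits.pullback.snd G.hom (Red.geomPt s)))
  haveI : IsSeparated G.hom := AbRigid.isSeparated_of_grpObj G
  haveI : IsSeparated (Red.geomFibre s G).hom := inferInstanceAs (IsSeparated (Limits.pullback.snd G.hom (Red.geomPt s)))
  haveI := MTRigid29.isMonHom_map j (Red.geomPt s)
  haveI := hC.2.1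
  haveI := CartanDim21.isClosedImmersion_of_isCentralizerOf hT hC
  haveI : LocallyOfFiniteType C.hom := by rw [← Over.w c]; infer_instance
  exact (CartanDim21.dim_le ((Over.pullback (Red.geomPt s)).map j) (TorusHom19.isTorus_bc hT _)
    (CartanRel21.isCentralizerOf_bc hC (Red.geomPt s)) hC').trans
    (CurveLocus.topologicalKrullDim_bc C.hom (IsPullback.of_hasPullback C.hom (Red.geomPt s))).le

end Groth.Agent.S8403
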