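import Groth.Statements.S8405
-- import your own Groth.Agent.* helpers here
import Groth.Agent.S3027
import Groth.Agent.Lib.BorelFix21.QuotMap
import Groth.Agent.Lib.Desc.Over

set_option autoImplicit false
universe u
open CategoryTheory MonoidalCategory CartesianMonoidalCategory MonObj GrpObj AlgebraicGeometry
open SGA3x

namespace Groth.Agent.S8405

/-- Let G be a connected algebraic group (a group scheme of finite type) over a field k, z : Z → G the
centre of G and q : G → Q a morphism representing the fppf quotient G/Z. Then Q is an affine scheme.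
(The published statement allows any subgroup of finite index in the centre; this row takes Z to be
the centre itself.) -/
theorem result (k : Type u) [Field k]
    (G : Over (Spec (CommRingCat.of k))) [GrpObj G] [QuasiCompact G.hom] [LocallyOfFiniteType G.hom] [ConnectedSpace ↥G.left]
    (Z : Over (Spec (CommRingCat.of k))) [GrpObj Z] (z : Z ⟶ G) (hZ : Red.IsCentre z)
    (Q : Over (Spec (CommRingCat.of k))) (q : G ⟶ Q) (hq : RedSub.IsQuotient z q) : IsAffine Q.left := by
  obtain ⟨hzm, hzmono, hziff⟩ := hZ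
  haveI := hzm; haveI := hzmono
  obtain ⟨hqs, hqf, hqfp, hpb⟩ := hq
  obtain ⟨Z', _, i, him, hic, hiiff, Q', _, q', hq'm, hQ'a, hQ'l, hq'f, hq's, hker⟩ := S3027.result k G
  haveI := him; haveI := hic; haveI := hq'm; haveI := hQ'a; haveI := hQ'l; haveI := hq'f; haveI := hq's
  have hcov : Desc.IsCover q := ⟨hqs, hqf, hqfp⟩
  have hcov' : Desc.IsCover q' := Desc.isCover_of_lft q'
  have hiff : ∀ (T : Over (Spec (CommRingCat.of k))) (g : T ⟶ G), (∃ c, c ≫ z = g) ↔ ∃ c, c ≫ i = g := by
    intro T g
    rw [hiiff, hziff]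
    simp only [Category.comp_id]
  have hrel : ∀ {T : Over (Spec (CommRingCat.of k))} (g g' : T ⟶ G),
      g ≫ q = g' ≫ q ↔ g ≫ q' = g' ≫ q' := by
    intro T g g'
    have h1 : g ≫ q = g' ≫ q ↔ ∃ c : T ⟶ Z, g' = g * (c ≫ z) := by
      constructor
      · intro e
        obtain ⟨t, ht1, ht2⟩ := hpb.exists_lift g g' e
        refine ⟨t ≫ snd G Z, ?_⟩
        have hexp : t = lift (t ≫ fst G Z) (t ≫ snd G Z) := by
          rw [← comp_lift, lift_fst_snd, Category.comp_id]
        rw [← ht2, hexp, BorelFix21.mul_comp_whisker, ← hexp, ht1]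
      · rintro ⟨c, rfl⟩
        have := congrArg (lift g c ≫ ·) hpb.w
        simp only [← Category.assoc, lift_fst] at this
        rw [← BorelFix21.mul_comp_whisker z g c]
        simpa only [Category.assoc] using this
    rw [h1]
    constructor
    · rintro ⟨c, rfl⟩
      obtain ⟨c', hc'⟩ := (hiff T (c ≫ z)).1 ⟨c, rfl⟩
      rw [MonObj.mul_comp, ← hc', Category.assoc, hker.w, ← Category.assoc, toUnit_unique (c' ≫ toUnit Z') (toUnit T),
        ← Hom.one_def, _root_.mul_one]
    · intro e
      have hk : (g⁻¹ * g') ≫ q' = toUnit T ≫ η[Q'] := by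
        rw [MonObj.mul_comp, GrpObj.inv_comp, e, inv_mul_cancel, Hom.one_def]
      obtain ⟨c, hc⟩ := (hiff T (g⁻¹ * g')).2 ⟨hker.lift _ _ hk, hker.lift_fst _ _ _⟩
      exact ⟨c, by rw [hc, mul_inv_cancel_left]⟩
  obtain ⟨u, hu, -⟩ := hcov.descend q' (fun T x x' e => (hrel x x').1 e)
  obtain ⟨v, hv, -⟩ := hcov'.descend q (fun T x x' e => (hrel x x').2 e)
  haveI := hcov.epi
  haveI := hcov'.epi
  let e : Q ≅ Q' :=
    { hom := u
      inv := v
      hom_inv_id := by rw [← cancel_epi q, ← Category.assoc, hu, hv, Category.comp_id]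
      inv_hom_id := by rw [← cancel_epi q', ← Category.assoc, hv, hu, Category.comp_id] }
  haveI : IsIso u := ⟨v, e.hom_inv_id, e.inv_hom_id⟩
  haveI : IsIso u.left := Functor.map_isIso (Over.forget (Spec (CommRingCat.of k))) u
  exact IsAffine.of_isIso u.left

end Groth.Agent.S8405
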