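import Groth.Statements.S8414
import Groth.Agent.Lib.PreimSub20.Basic
import Groth.Agent.Lib.SchBasic.Basic

set_option autoImplicit false
universe u
open CategoryTheory MonoidalCategory CartesianMonoidalCategory MonObj GrpObj AlgebraicGeometry
open SGA3x

namespace Groth.Agent.S8414

set_option linter.style.haveILetI false
set_option backward.isDefEq.respectTransparency false
set_option backward.isDefEq.respectTransparency.types false

/-- Let G, G′ be S-group schemes flat and of finite presentation over S, u : G → G′ a homomorphism which
is faithfully flat, and C′ a subgroup scheme of G′ of finite presentation over S whose inverse image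
C = u⁻¹(C′) is smooth over S (resp. has connected fibres). Then for every subgroup scheme H′ of G′
of finite presentation over S containing C′ and smooth over S (resp. with connected fibres), the
inverse image u⁻¹(H′) is smooth over S (resp. has connected fibres). -/
theorem result (S : Scheme.{u}) (G G' : Over S) [GrpObj G] [GrpObj G']
    [Flat G.hom] [QuasiCompact G.hom] [QuasiSeparated G.hom] [LocallyOfFinitePresentation G.hom]
    [Flat G'.hom] [QuasiCompact G'.hom] [QuasiSeparated G'.hom] [LocallyOfFinitePresentation G'.hom]
    (u : G ⟶ G') [IsMonHom u] [Flat u.left] [Surjective u.left]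
    (C' : Over S) [GrpObj C'] (c' : C' ⟶ G') [IsMonHom c'] [Mono c']
    [QuasiCompact C'.hom] [QuasiSeparated C'.hom] [LocallyOfFinitePresentation C'.hom]
    (H' : Over S) [GrpObj H'] (h' : H' ⟶ G') [IsMonHom h'] [Mono h']
    [QuasiCompact H'.hom] [QuasiSeparated H'.hom] [LocallyOfFinitePresentation H'.hom]
    (hle : ∃ f : C' ⟶ H', f ≫ h' = c') :
    (Smooth (Limits.pullback c' u).hom → Smooth H'.hom → Smooth (Limits.pullback h' u).hom) ∧
    ((∀ s : S, _root_.IsConnected ((Limits.pullback c' u).hom.base ⁻¹' {s})) →
      (∀ s : S, _root_.IsConnected (H'.hom.base ⁻¹' {s})) →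
      ∀ s : S, _root_.IsConnected ((Limits.pullback h' u).hom.base ⁻¹' {s})) := by
  obtain ⟨f, hf⟩ := hle
  have hsqH : IsPullback (Limits.pullback.fst h' u) (Limits.pullback.snd h' u) h' u := IsPullback.of_hasPullback h' u
  obtain ⟨_, hv, hp⟩ := Groth.Agent.PreimSub20.exists_pullback_grp h' u hsqH
  haveI := hv; haveI := hp
  haveI : Mono (Limits.pullback.snd h' u) := inferInstance
  haveI : LocallyOfFinitePresentation (u.left ≫ G'.hom) := by rw [Over.w]; infer_instance
  haveI : LocallyOfFinitePresentation u.left := Groth.Agent.SchBasic.locallyOfFinitePresentation_of_comp u.left G'.hom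
  haveI : QuasiCompact (u.left ≫ G'.hom) := by rw [Over.w]; infer_instance
  haveI : QuasiCompact u.left := QuasiCompact.of_comp u.left G'.hom
  have hT : IsPullback (Limits.pullback.snd h' u).left (Limits.pullback.fst h' u).left u.left h'.left :=
    hsqH.flip.map (Over.forget S)
  haveI : Flat (Limits.pullback.fst h' u).left := MorphismProperty.of_isPullback hT ‹Flat u.left›
  haveI : Surjective (Limits.pullback.fst h' u).left := MorphismProperty.of_isPullback hT ‹Surjective u.left›
  haveI : LocallyOfFinitePresentation (Limits.pullback.fst h' u).left :=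
    MorphismProperty.of_isPullback hT ‹LocallyOfFinitePresentation u.left›
  haveI : QuasiCompact (Limits.pullback.fst h' u).left := MorphismProperty.of_isPullback hT ‹QuasiCompact u.left›
  haveI : LocallyOfFinitePresentation (Limits.pullback h' u).hom := by
    rw [← Over.w (Limits.pullback.fst h' u)]; infer_instance
  haveI : QuasiCompact (Limits.pullback h' u).hom := by
    rw [← Over.w (Limits.pullback.fst h' u)]; infer_instance
  let cK : Limits.pullback c' u ⟶ Limits.pullback h' u :=
    Limits.pullback.lift (Limits.pullback.fst c' u ≫ f) (Limits.pullback.snd c' u)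
      (by rw [Category.assoc, hf, Limits.pullback.condition])
  have hker : ∀ (T : Over S) (n : T ⟶ Limits.pullback h' u), n ≫ Limits.pullback.fst h' u = 1 →
      ∃ m, m ≫ cK = n := by
    intro T n hn
    have h1 : (1 : T ⟶ C') ≫ c' = (n ≫ Limits.pullback.snd h' u) ≫ u := by
      rw [MonObj.one_comp, Category.assoc, ← Limits.pullback.condition, ← Category.assoc, hn, MonObj.one_comp]
    refine ⟨Limits.pullback.lift 1 (n ≫ Limits.pullback.snd h' u) h1, ?_⟩
    rw [← cancel_mono (Limits.pullback.snd h' u), Category.assoc, Limits.pullback.lift_snd, Limits.pullback.lift_snd]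
  refine ⟨fun hC hH => ?_, fun hC hH s => ?_⟩
  · haveI := hC; haveI := hH
    exact Groth.Agent.PreimSub20.smooth_of_kernel_rel _ H' _ (Limits.pullback.fst h' u) cK hker
  · refine Groth.Agent.PreimSub20.isConnected_fibre_of_kernel _ H' _ (Limits.pullback.fst h' u) cK ?_ hker s (hC s) (hH s)
    refine ⟨Limits.pullback.lift η[C'] η[G] (by rw [IsMonHom.one_hom, IsMonHom.one_hom]), ?_⟩
    rw [← cancel_mono (Limits.pullback.snd h' u), Category.assoc, Limits.pullback.lift_snd, Limits.pullback.lift_snd,
      IsMonHom.one_hom]

end Groth.Agent.S8414
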