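import Groth.Statements.S8417
import Groth.Agent.Lib.TorusLift21.Main

set_option linter.style.haveILetI false
set_option maxHeartbeats 1600000
set_option backward.isDefEq.respectTransparency.types false
-- import your own Groth.Agent.* helpers here

set_option autoImplicit false
universe u
open CategoryTheory MonoidalCategory CartesianMonoidalCategory MonObj GrpObj AlgebraicGeometry
open SGA3x

namespace Groth.Agent.S8417

/-- Let G be an S-group scheme, affine and smooth over S. Then the nilpotent rank of the geometric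
fibres of G (the common dimension of their Cartan subgroups) is an upper semicontinuous function on
S: for every n, the set of s ∈ S such that G_s̄ has a Cartan subgroup of dimension ≤ n is open. (The
published item a) asserts the same upper semicontinuity for the reductive rank as well; this row
states it for the nilpotent rank.) -/
theorem result (S : Scheme.{u}) (G : Over S) [GrpObj G] [IsAffineHom G.hom] [Smooth G.hom] (n : ℕ) :
    IsOpen {s : S | ∃ (C' : Over (Spec (CommRingCat.of (AlgebraicClosure (S.residueField s))))) (_ : GrpObj C') (c' : C' ⟶ Red.geomFibre s G),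
      SGA3x.IsCartanOver (AlgebraicClosure (S.residueField s)) c' ∧ topologicalKrullDim ↥C'.left ≤ (n : WithBot ℕ∞)} := by
  refine isOpen_iff_forall_mem_open.2 fun s ⟨C₀, _, c₀, hc₀, hn⟩ => ?_
  obtain ⟨-, -, T₀, _, i₀, hT₀, hC₀⟩ := id hc₀
  haveI := hT₀.1
  haveI := hT₀.2.1
  obtain ⟨d, ⟨C⟩⟩ := TorPts21.exists_chars hT₀.2.2.1
  obtain ⟨V, hs, hV⟩ := TorusLift21.exists_nhd_bounds G s i₀ hT₀.2.2.1 C c₀ hC₀
  refine ⟨V, fun t ht => ?_, V.2, hs⟩
  obtain ⟨⟨T, _, i, -, hT, -, -⟩, hC⟩ := hV t ht
  haveI := hT.1
  haveI : Smooth (Red.geomFibre t G).hom := inferInstanceAs (Smooth (Limits.pullback.snd G.hom (Red.geomPt t)))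
  haveI : IsAffineHom (Red.geomFibre t G).hom :=
    inferInstanceAs (IsAffineHom (Limits.pullback.snd G.hom (Red.geomPt t)))
  obtain ⟨C', _, c', hc', -⟩ := TorusCentr19.exists_centralizer'
    (MTRigid29.isMT_of_ft (TorPts21.isMultTypeFT_of_isTorus hT.2.2.1)) ‹Smooth (Red.geomFibre t G).hom› i
  have h : SGA3x.IsCartanOver (AlgebraicClosure (S.residueField t)) c' :=
    ⟨hc'.1, hc'.2.1, T, inferInstance, i, hT, hc'⟩
  exact ⟨C', inferInstance, c', h, (hC C' c' h).trans hn⟩

end Groth.Agent.S8417
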