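import Groth.Statements.S8424
import Groth.Agent.Lib.AttrBorel21.SolvCartan
import Groth.Agent.Lib.TorPts21.MaximalTorusClosed
-- import your own Groth.Agent.* helpers here

set_option autoImplicit false
universe u
open CategoryTheory MonoidalCategory CartesianMonoidalCategory MonObj GrpObj AlgebraicGeometry
open SGA3x

namespace Groth.Agent.S8424

/-- Let G be a smooth algebraic group (not necessarily affine) over an algebraically closed field k, B a
Borel subgroup of G, C a Cartan subgroup of B and N the normalizer of C in G. Then N ∩ B = C: a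
point of G with values in a k-scheme factors through N and through B if and only if it factors
through C. -/
theorem result (k : Type u) [Field k] [IsAlgClosed k]
    (G : Over (Spec (CommRingCat.of k))) [GrpObj G] [Smooth G.hom] [QuasiCompact G.hom]
    (B : Over (Spec (CommRingCat.of k))) [GrpObj B] (b : B ⟶ G) (hB : Red.IsBorelOver k b)
    (C : Over (Spec (CommRingCat.of k))) [GrpObj C] (c : C ⟶ B) (hC : SGA3x.IsCartanOver k c)
    (N : Over (Spec (CommRingCat.of k))) [GrpObj N] (n : N ⟶ G) (hN : Red.IsNormalizerOf (c ≫ b) n)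
    (X : Over (Spec (CommRingCat.of k))) (g : X ⟶ G) :
    ((∃ x : X ⟶ N, x ≫ n = g) ∧ (∃ y : X ⟶ B, y ≫ b = g)) ↔ ∃ z : X ⟶ C, z ≫ c ≫ b = g := by
  obtain ⟨hbm, hbc, hBs, hBn, hBsol, -⟩ := hB
  obtain ⟨hcm, hcmono, T, _, i, hT, hCi⟩ := hC
  haveI := hbm
  haveI := hbc
  haveI := hBs
  haveI := hBn
  haveI := hcm
  haveI : Mono b := Over.mono_of_mono_left b
  haveI : CompactSpace G.left := (quasiCompact_iff_compactSpace G.hom).1 inferInstance
  haveI : CompactSpace B.left := b.left.isClosedEmbedding.compactSpace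
  haveI : QuasiCompact B.hom := (quasiCompact_iff_compactSpace B.hom).2 inferInstance
  constructor
  · rintro ⟨hgn, y, rfl⟩
    have hN' := (hN.2.2 X (y ≫ b)).1 hgn
    have hy : TorPts21.NormalizesSub c y := fun X' x h => by
      obtain ⟨⟨h₁, e₁⟩, h₂, e₂⟩ := hN' X' x h
      refine ⟨⟨h₁, (cancel_mono b).1 ?_⟩, ⟨h₂, (cancel_mono b).1 ?_⟩⟩
      · simp only [MonObj.mul_comp, GrpObj.inv_comp, Category.assoc]
        exact e₁
      · simp only [MonObj.mul_comp, GrpObj.inv_comp, Category.assoc]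
        exact e₂
    obtain ⟨w, hw⟩ := AttrBorel21.exists_lift_cartan_solvable hBsol (TorPts21.isMaxTorus_of_isMaximalTorus hT) hCi y hy
    exact ⟨w, by rw [← Category.assoc, hw]⟩
  · rintro ⟨z, rfl⟩
    refine ⟨(hN.2.2 X _).2 fun X' x h => ?_, z ≫ c, by simp only [Category.assoc]⟩
    refine ⟨⟨(x ≫ z) * h * (x ≫ z)⁻¹, ?_⟩, ⟨(x ≫ z)⁻¹ * h * (x ≫ z), ?_⟩⟩
    all_goals simp only [MonObj.mul_comp, GrpObj.inv_comp, Category.assoc]

end Groth.Agent.S8424
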