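import Groth.Statements.S8426
import Groth.Agent.Lib.SubLift20.Main
import Groth.Agent.Lib.SubLift20.Affine
import Groth.Agent.Lib.MTRigid29.MTFlat

set_option autoImplicit false
universe u
open CategoryTheory MonoidalCategory CartesianMonoidalCategory MonObj GrpObj AlgebraicGeometry
open SGA3x
open Groth.Agent
open scoped TensorProduct

namespace Groth.Agent.S8426

/-- Let S = Spec A be affine, S₀ = Spec(A/J) the closed subscheme defined by an ideal J of square zero,
G an S-group scheme and H₀ a subgroup scheme of G₀ = G ×_S S₀ (a monomorphic homomorphism H₀ → G₀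
which is an immersion) which is smooth and of finite type over S₀ and of multiplicative type. Then G
has a subgroup scheme of multiplicative type (again an immersion) lifting H₀ if and only if G has a
subscheme H′, flat over S, lifting H₀ (H′ ×_S S₀ = H₀ as subschemes of G₀). -/
theorem result (A : Type u) [CommRing A] (J : Ideal A) (hJ : J ^ 2 = ⊥)
    (G : Over (Spec (CommRingCat.of A))) [GrpObj G]
    (H₀ : Over (Spec (CommRingCat.of (A ⧸ J)))) [GrpObj H₀] (j₀ : H₀ ⟶ Red.bc (Spec.map (CommRingCat.ofHom (Ideal.Quotient.mk J))) G) [IsMonHom j₀] [Mono j₀]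
    (hj₀ : IsImmersion j₀.left) [Smooth H₀.hom] [QuasiCompact H₀.hom] (hm₀ : SGA3x.IsMultTypeFT H₀) :
    (∃ (H : Over (Spec (CommRingCat.of A))) (_ : GrpObj H) (j : H ⟶ G), IsMonHom j ∧ Mono j ∧ IsImmersion j.left ∧ SGA3x.IsMultTypeFT H ∧
      ∃ e : Red.bc (Spec.map (CommRingCat.ofHom (Ideal.Quotient.mk J))) H ≅ H₀, e.hom ≫ j₀ = (Over.pullback (Spec.map (CommRingCat.ofHom (Ideal.Quotient.mk J)))).map j) ↔
    (∃ (H' : Scheme.{u}) (h' : H' ⟶ G.left), IsImmersion h' ∧ Flat (h' ≫ G.hom) ∧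
      ∃ e : Limits.pullback h' (Limits.pullback.fst G.hom (Spec.map (CommRingCat.ofHom (Ideal.Quotient.mk J)))) ≅ H₀.left,
        e.hom ≫ j₀.left = Limits.pullback.snd h' (Limits.pullback.fst G.hom (Spec.map (CommRingCat.ofHom (Ideal.Quotient.mk J))))) := by
  haveI := hj₀
  let q : Spec (CommRingCat.of (A ⧸ J)) ⟶ Spec (CommRingCat.of A) :=
    Spec.map (CommRingCat.ofHom (Ideal.Quotient.mk J))
  constructor
  · rintro ⟨H, _, j, _, _, hj, hH, e, he⟩
    haveI hfl : Flat H.hom := MTRigid29.flat_of_isMultTypeFT hH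
    refine ⟨H.left, j.left, hj, by rw [Over.w j]; exact hfl, ?_⟩
    have hsq : IsPullback (Limits.pullback.fst j.left (Limits.pullback.fst G.hom q))
        (Limits.pullback.snd j.left (Limits.pullback.fst G.hom q) ≫ Limits.pullback.snd G.hom q) H.hom q := by
      have h := (IsPullback.of_hasPullback j.left (Limits.pullback.fst G.hom q)).paste_vert
        (IsPullback.of_hasPullback G.hom q)
      rwa [Over.w j] at h
    refine ⟨hsq.isoPullback ≪≫ (Over.forget _).mapIso e, ?_⟩
    show (hsq.isoPullback.hom ≫ e.hom.left) ≫ j₀.left = _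
    rw [Category.assoc, ← Over.comp_left, he]
    refine Limits.pullback.hom_ext ?_ ?_
    · show (hsq.isoPullback.hom ≫ Limits.pullback.lift _ _ _) ≫ Limits.pullback.fst _ _ = _
      rw [Category.assoc, Limits.pullback.lift_fst, ← Category.assoc]
      exact (congrArg (· ≫ j.left) hsq.isoPullback_hom_fst).trans Limits.pullback.condition
    · show (hsq.isoPullback.hom ≫ Limits.pullback.lift _ _ _) ≫ Limits.pullback.snd _ _ = _
      rw [Category.assoc, Limits.pullback.lift_snd]
      exact hsq.isoPullback_hom_snd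
  · rintro ⟨H', h', himm, hfl, e, he⟩
    have hmt := MTRigid29.isMT_of_ft hm₀
    obtain ⟨A₀, _, _, -, -, -, ⟨eG⟩⟩ := MTRigid29.exists_model_split hmt
    let e₀ : CoactBr.sp (A ⧸ J) A₀ ≅ H₀ := ⟨eG.hom.hom.hom, eG.inv.hom.hom, by
        rw [← Mon.comp_hom', ← Grp.comp', eG.hom_inv_id]; rfl, by
        rw [← Mon.comp_hom', ← Grp.comp', eG.inv_hom_id]; rfl⟩
    haveI : IsAffine H₀.left := @IsAffine.of_isIso _ (Spec (CommRingCat.of A₀)) ((Over.forget _).mapIso e₀).inv
      (Iso.isIso_inv _) (inferInstanceAs (IsAffine (Spec (CommRingCat.of A₀))))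
    haveI : IsAffine (Limits.pullback h' (Limits.pullback.fst G.hom q)) := IsAffine.of_isIso e.hom
    have hsq := (IsPullback.of_hasPullback h' (Limits.pullback.fst G.hom q)).paste_vert
      (IsPullback.of_hasPullback G.hom q)
    haveI : IsAffine H' := SubLift20.isAffine_of_isPullback (Ideal.Quotient.mk J) Ideal.Quotient.mk_surjective
      (n := 2) (by rw [Ideal.mk_ker, hJ]) hsq
    let str : CommRingCat.of A ⟶ Γ(H', ⊤) := Spec.preimage (H'.isoSpec.inv ≫ h' ≫ G.hom)
    letI : Algebra A Γ(H', ⊤) := str.hom.toAlgebra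
    have hstr : Spec.map (CommRingCat.ofHom (algebraMap A Γ(H', ⊤))) = H'.isoSpec.inv ≫ h' ≫ G.hom :=
      Spec.map_preimage _
    haveI := hfl
    haveI : Module.Flat A Γ(H', ⊤) := by
      have h : Flat (Spec.map (CommRingCat.ofHom (algebraMap A Γ(H', ⊤)))) := by rw [hstr]; infer_instance
      exact RingHom.flat_algebraMap_iff.1 ((HasRingHomProperty.Spec_iff (P := @Flat)).1 h)
    let u : CoactBr.sp A Γ(H', ⊤) ⟶ G := Over.homMk (H'.isoSpec.inv ≫ h')
      ((Category.assoc _ _ _).trans hstr.symm)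
    have hsq' : IsPullback (Limits.pullback.fst h' (Limits.pullback.fst G.hom q) ≫ H'.isoSpec.hom)
        (Limits.pullback.snd h' (Limits.pullback.fst G.hom q) ≫ Limits.pullback.snd G.hom q)
        (CoactBr.sp A Γ(H', ⊤)).hom q :=
      hsq.of_iso (Iso.refl _) H'.isoSpec (Iso.refl _) (Iso.refl _) (by simp) (by simp)
        (by
          show (h' ≫ G.hom) ≫ 𝟙 _ = H'.isoSpec.hom ≫ Spec.map (CommRingCat.ofHom (algebraMap A Γ(H', ⊤)))
          rw [hstr, Category.comp_id, Iso.hom_inv_id_assoc]) (by simp)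
    let c : (Red.bc q (CoactBr.sp A Γ(H', ⊤))) ≅ H₀ := Over.isoMk (hsq'.isoPullback.symm ≪≫ e) (by
      show (hsq'.isoPullback.inv ≫ e.hom) ≫ H₀.hom = Limits.pullback.snd _ _
      rw [← Over.w j₀, Category.assoc]
      refine (congrArg (hsq'.isoPullback.inv ≫ ·) ((Category.assoc _ _ _).symm.trans
        (congrArg (· ≫ Limits.pullback.snd G.hom q) he))).trans ?_
      exact hsq'.isoPullback_inv_snd)
    refine SubLift20.exists_subgroup_lift_of_flat J hJ G H₀ hmt j₀ Γ(H', ⊤) u
      ((MTRigid29.bcSpIso J Γ(H', ⊤)).symm ≪≫ c) ?_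
    show ((MTRigid29.bcSpIso J Γ(H', ⊤)).inv.left ≫ hsq'.isoPullback.inv ≫ e.hom) ≫ j₀.left ≫ _ = _
    simp only [Category.assoc]
    refine (congrArg (fun k => (MTRigid29.bcSpIso J Γ(H', ⊤)).inv.left ≫ hsq'.isoPullback.inv ≫ k)
      ((Category.assoc _ _ _).symm.trans (congrArg (· ≫ Limits.pullback.fst G.hom q) he))).trans ?_
    have h1 : (MTRigid29.bcSpIso J Γ(H', ⊤)).inv.left ≫ hsq'.isoPullback.inv ≫
        Limits.pullback.fst h' (Limits.pullback.fst G.hom q) ≫ H'.isoSpec.hom = Spec.map (CommRingCat.ofHom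
          ((Algebra.TensorProduct.includeRight : Γ(H', ⊤) →ₐ[A] (A ⧸ J) ⊗[A] Γ(H', ⊤)) :
            Γ(H', ⊤) →+* (A ⧸ J) ⊗[A] Γ(H', ⊤))) := by
      refine (congrArg ((MTRigid29.bcSpIso J Γ(H', ⊤)).inv.left ≫ ·) hsq'.isoPullback_inv_fst).trans ?_
      refine (congrArg ((MTRigid29.bcSpIso J Γ(H', ⊤)).inv.left ≫ ·) (MTRigid29.bcSpIso_fst J Γ(H', ⊤)).symm).trans ?_
      exact (Category.assoc _ _ _).symm.trans ((congrArg (· ≫ _)
        (congrArg CommaMorphism.left (MTRigid29.bcSpIso J Γ(H', ⊤)).inv_hom_id)).trans (Category.id_comp _))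
    rw [← h1]
    refine Eq.trans ?_ (congrArg (fun k => k ≫ H'.isoSpec.inv ≫ h') rfl)
    simp only [Category.assoc, Iso.hom_inv_id_assoc, Limits.pullback.condition]
    rfl

end Groth.Agent.S8426
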