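import Groth.Statements.S8431
import Groth.Agent.Lib.CentExt20.Basic
-- import your own Groth.Agent.* helpers here

set_option autoImplicit false
universe u
open CategoryTheory MonoidalCategory CartesianMonoidalCategory MonObj GrpObj AlgebraicGeometry
open SGA3x

namespace Groth.Agent.S8431

/-- Let G be an algebraic group over a field k and Z a central algebraic subgroup such that G′ = G/Z is
a torus. Then G is commutative. Here q : G → G′ is a homomorphism representing the fppf quotient of
G by Z, and G′ is a k-torus. -/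
theorem result (k : Type u) [Field k]
    (G : Over (Spec (CommRingCat.of k))) [GrpObj G] [QuasiCompact G.hom] [LocallyOfFiniteType G.hom]
    (Z : Over (Spec (CommRingCat.of k))) [GrpObj Z] (z : Z ⟶ G) [IsMonHom z] [Mono z]
    (hz : ∀ (X : Over (Spec (CommRingCat.of k))) (x : X ⟶ Z) (g : X ⟶ G), (x ≫ z) * g = g * (x ≫ z))
    (G' : Over (Spec (CommRingCat.of k))) [GrpObj G'] (q : G ⟶ G') [IsMonHom q] (hq : RedSub.IsQuotient z q) (hT : Red.IsTorus G') :
    ∀ (X : Over (Spec (CommRingCat.of k))) (g h : X ⟶ G), g * h = h * g := by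
  let K := AlgebraicClosure k
  let r : Spec (CommRingCat.of K) ⟶ Spec (CommRingCat.of k) := Spec.map (CommRingCat.ofHom (algebraMap k K))
  let F := Over.pullback r
  haveI := hq.1
  haveI := hq.2.1
  let GK := Red.bc r G
  haveI : LocallyOfFiniteType GK.hom := inferInstanceAs (LocallyOfFiniteType (Limits.pullback.snd G.hom r))
  haveI : IsMonHom (F.map q) := inferInstance
  haveI : Flat (F.map q).left := MorphismProperty.baseChange_map (P := @Flat) r q hq.2.1
  haveI : Surjective (F.map q).left := MorphismProperty.baseChange_map (P := @Surjective) r q hq.1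
  have hcentral : ∀ (X : Over (Spec (CommRingCat.of K))) (w : X ⟶ GK), w ≫ F.map q = 1 → ∀ g : X ⟶ GK,
      w * g = g * w := by
    intro X w hw g
    have sq : IsPullback (F.map (fst G Z)) (F.map ((G ◁ z) ≫ μ[G])) (F.map q) (F.map q) := hq.2.2.2.map F
    obtain ⟨v, hv1, hv2⟩ : ∃ v : X ⟶ F.obj (G ⊗ Z), v ≫ F.map (fst G Z) = (1 : X ⟶ GK) ∧
        v ≫ F.map ((G ◁ z) ≫ μ[G]) = w := by
      obtain hc := (show (1 : X ⟶ GK) ≫ F.map q = w ≫ F.map q by rw [hw, MonObj.one_comp])
      exact ⟨sq.lift 1 w hc, sq.lift_fst _ _ _, sq.lift_snd _ _ _⟩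
    have hmap : (G ◁ z) ≫ μ[G] = fst G Z * (snd G Z ≫ z) := by
      rw [Hom.mul_def]; congr 1
    rw [hmap, Functor.map_mul, F.map_comp, MonObj.comp_mul, hv1, _root_.one_mul, ← Category.assoc] at hv2
    generalize v ≫ F.map (snd G Z) = ζ at hv2
    subst hv2
    have hu : fst Z G ≫ z * snd Z G = snd Z G * fst Z G ≫ z := hz (Z ⊗ G) (fst Z G) (snd Z G)
    have h := congrArg F.map hu
    rw [Functor.map_mul, Functor.map_mul, F.map_comp] at h
    have h' := congrArg (fun m => (lift ζ g ≫ Functor.LaxMonoidal.μ F Z G) ≫ m) h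
    have e1 : (lift ζ g ≫ Functor.LaxMonoidal.μ F Z G) ≫ F.map (fst Z G) = ζ := by
      rw [Category.assoc, Functor.Monoidal.μ_fst, lift_fst]
    have e2 : (lift ζ g ≫ Functor.LaxMonoidal.μ F Z G) ≫ F.map (snd Z G) = g := by
      rw [Category.assoc, Functor.Monoidal.μ_snd, lift_snd]
    simp only [MonObj.comp_mul] at h'
    rw [← Category.assoc, e1, e2] at h'
    exact h'
  intro X g h
  have key : fst G G * snd G G = snd G G * fst G G := by
    have hF : F.map (fst G G * snd G G) = F.map (snd G G * fst G G) := by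
      rw [Functor.map_mul, Functor.map_mul]
      exact Groth.Agent.CentExt20.commute_of_central_extension (E := GK) (S := Red.bc r G')
        (Groth.Agent.TorPts21.isTorus_bc r hT) (F.map q) hcentral _ _
    apply Over.OverMorphism.ext
    haveI : Flat r := inferInstance
    haveI : Surjective r := ⟨fun p => ⟨(IsLocalRing.closedPoint K : Spec (CommRingCat.of K)), Subsingleton.elim (α := PrimeSpectrum k) _ p⟩⟩
    haveI : Flat (Limits.pullback.fst (G ⊗ G).hom r) := inferInstance
    haveI : Surjective (Limits.pullback.fst (G ⊗ G).hom r) := inferInstance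
    haveI : Epi (Limits.pullback.fst (G ⊗ G).hom r) := Flat.epi_of_flat_of_surjective _
    rw [← cancel_epi (Limits.pullback.fst (G ⊗ G).hom r)]
    have hl : ∀ m : G ⊗ G ⟶ G, (F.map m).left ≫ Limits.pullback.fst G.hom r = Limits.pullback.fst (G ⊗ G).hom r ≫ m.left :=
      fun m => Limits.pullback.lift_fst _ _ _
    rw [← hl, ← hl, hF]
  have := congrArg (lift g h ≫ ·) key
  simpa [MonObj.comp_mul] using this

end Groth.Agent.S8431
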