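import Groth.Statements.S8441

-- import your own Groth.Agent.* helpers here

set_option autoImplicit false
universe u v w
open SGA3t2b

namespace Groth.Agent.S8441

/-- Let R be a root system with a system of simple roots a₁, …, aₙ and simple reflections rᵢ, and put θᵢ
= rₙ ⋯ rᵢ₊₁(aᵢ). Then the θᵢ form a basis of the group generated by the roots. Stated for a root
pairing over ℤ (Mathlib) with a base whose support is enumerated by Fin n: the θᵢ are ℤ-linearly
independent and their ℤ-span is the ℤ-span of all roots. -/
theorem result {ι : Type u} {M : Type v} {N : Type w} [AddCommGroup M] [Module ℤ M]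
    [AddCommGroup N] [Module ℤ N] (P : RootPairing ι ℤ M N) (b : P.Base) (n : ℕ) (e : Fin n ≃ ↥b.support) :
    LinearIndependent ℤ (fun i : Fin n =>
      ((List.finRange n).filter (fun j => i < j)).foldl (fun x j => P.reflection (e j : ι) x) (P.root (e i : ι))) ∧
    Submodule.span ℤ (Set.range (fun i : Fin n =>
      ((List.finRange n).filter (fun j => i < j)).foldl (fun x j => P.reflection (e j : ι) x) (P.root (e i : ι)))) =
      Submodule.span ℤ (Set.range P.root) := by
  classical
  obtain rfl := Subsingleton.elim ‹Module ℤ M› (AddCommGroup.toIntModule M)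
  let F : List (Fin n) → M → M := fun L x => L.foldl (fun x j => P.reflection (e j : ι) x) x
  let θ : Fin n → M := fun i => F ((List.finRange n).filter (fun j => i < j)) (P.root (e i : ι))
  let S : Fin n → Submodule ℤ M := fun i => Submodule.span ℤ ((fun j => P.root (e j : ι)) '' Set.Ioi i)
  have hF : ∀ (U : Submodule ℤ M) (L : List (Fin n)), (∀ j ∈ L, P.root (e j : ι) ∈ U) →
      ∀ x, F L x - x ∈ U := by
    intro U L
    induction L with
    | nil => intro _ x; simp [F]
    | cons a L ih =>
      intro h x
      have h1 := ih (fun j hj => h j (List.mem_cons_of_mem _ hj)) (P.reflection (e a : ι) x)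
      have h2 : P.reflection (e a : ι) x - x ∈ U := by
        rw [P.reflection_apply, sub_sub_cancel_left]
        exact U.neg_mem (U.smul_mem _ (h a (by simp)))
      have h3 := U.add_mem h1 h2
      rwa [sub_add_sub_cancel] at h3
  have hθ : ∀ i, θ i - P.root (e i : ι) ∈ S i := fun i => hF _ _ (fun j hj =>
    show P.root (e j : ι) ∈ S i from Submodule.subset_span ⟨j, by simpa using hj, rfl⟩) _
  have hmem : ∀ m : ℕ, ∀ i : Fin n, n - i.1 = m → P.root (e i : ι) ∈ Submodule.span ℤ (Set.range θ) := by
    intro m
    induction m using Nat.strong_induction_on with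
    | _ m ih =>
      intro i hi
      have hle : S i ≤ Submodule.span ℤ (Set.range θ) := Submodule.span_le.2 (by
        rintro _ ⟨j, hj, rfl⟩
        have hj' : i.1 < j.1 := hj
        exact ih (n - j.1) (by omega) j rfl)
      have h1 := Submodule.sub_mem _ (Submodule.subset_span (Set.mem_range_self i)) (hle (hθ i))
      rwa [sub_sub_cancel] at h1
  have hspan : Submodule.span ℤ (Set.range θ) = Submodule.span ℤ (Set.range P.root) := by
    refine le_antisymm (Submodule.span_le.2 ?_) ?_
    · rintro _ ⟨i, rfl⟩
      have hle : S i ≤ Submodule.span ℤ (Set.range P.root) := Submodule.span_mono (by rintro _ ⟨j, -, rfl⟩; exact ⟨_, rfl⟩)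
      have := Submodule.add_mem _ (hle (hθ i)) (Submodule.subset_span (Set.mem_range_self (e i : ι)))
      rwa [sub_add_cancel] at this
    · rw [← b.span_int_root_support, Submodule.span_le]
      rintro _ ⟨j, hj, rfl⟩
      obtain ⟨i, hi⟩ := e.surjective ⟨j, hj⟩
      have := hmem _ i rfl
      rwa [hi] at this
  refine ⟨?_, hspan⟩
  let θ' : Fin n → P.rootSpan ℤ := fun i => ⟨θ i, by
    have := hspan.le (Submodule.subset_span (Set.mem_range_self i)); exact this⟩
  let T : (Fin n → ℤ) →ₗ[ℤ] (Fin n → ℤ) :=
    ((b.toWeightBasisInt.reindex e.symm).equivFun.toLinearMap).comp (Fintype.linearCombination ℤ θ')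
  have hT : Function.Surjective T := by
    refine (b.toWeightBasisInt.reindex e.symm).equivFun.surjective.comp fun y => ?_
    have hy : (y : M) ∈ Submodule.span ℤ (Set.range θ) := hspan.ge y.2
    rw [Submodule.mem_span_range_iff_exists_fun] at hy
    obtain ⟨c, hc⟩ := hy
    exact ⟨c, Subtype.ext (by simp [Fintype.linearCombination_apply, θ', hc])⟩
  have hinj : Function.Injective (Fintype.linearCombination ℤ θ') :=
    Function.Injective.of_comp (f := (b.toWeightBasisInt.reindex e.symm).equivFun)
      (OrzechProperty.injective_of_surjective_endomorphism T hT)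
  have hli : LinearIndependent ℤ θ' := Fintype.linearIndependent_iff.2 fun c hc =>
    congrFun (hinj (show _ = Fintype.linearCombination ℤ θ' 0 by rw [map_zero, Fintype.linearCombination_apply]; exact hc))
  exact hli.map' (P.rootSpan ℤ).subtype (Submodule.ker_subtype _)

end Groth.Agent.S8441
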