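import Groth.Statements.S8443
import Groth.Agent.Lib.SubTorus21.Main
-- import your own Groth.Agent.* helpers here

set_option autoImplicit false
universe u
open CategoryTheory MonoidalCategory CartesianMonoidalCategory MonObj GrpObj AlgebraicGeometry
open SGA3x

namespace Groth.Agent.S8443

/-- Let G be an S-group scheme, smooth and of finite presentation over S with connected fibres, and i :
H → G a monomorphism of S-groups with H smooth over S whose geometric fibres are connected and
contain a Cartan subgroup of the corresponding geometric fibre of G. If G admits a maximal torus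
locally for the etale topology (resp. for the fpqc topology), then so does H. (The published item
also covers Cartan subgroups; this row states only the maximal-torus halves.) -/
theorem result (S : Scheme.{u}) (G : Over S) [GrpObj G]
    [Smooth G.hom] [QuasiCompact G.hom] [QuasiSeparated G.hom] (hconn : ∀ s : S, _root_.IsConnected (G.hom.base ⁻¹' {s}))
    (H : Over S) [GrpObj H] [Smooth H.hom] (i : H ⟶ G) [IsMonHom i] [Mono i]
    (hHconn : ∀ s : S, ConnectedSpace ↥(Red.geomFibre s H).left)
    (hHC : ∀ s : S, ∃ (C' : Over (Spec (CommRingCat.of (AlgebraicClosure (S.residueField s))))) (_ : GrpObj C')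
      (c' : C' ⟶ Red.geomFibre s H), SGA3x.IsCartanOver _ (c' ≫ (Over.pullback (Red.geomPt s)).map i)) :
    (SGA3x.HasMaxTorusEtaleLocally G → SGA3x.HasMaxTorusEtaleLocally H) ∧
    (SGA3x.HasMaxTorusFpqcLocally G → SGA3x.HasMaxTorusFpqcLocally H) := by
  have hHf : ∀ s : S, _root_.IsConnected (H.hom.base ⁻¹' {s}) :=
    fun s => CentMT21.isConnected_fibre_of_geom s (hHconn s)
  haveI := (Groth.Agent.S3025.result S G hconn).1
  haveI := (Groth.Agent.S3025.result S H hHf).2
  exact ⟨SubTorus21.hasMaxTorus_etale i hHC, SubTorus21.hasMaxTorus_fpqc i hHC⟩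

end Groth.Agent.S8443
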