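import Groth.Statements.S8445
import Groth.Agent.Lib.RankOne16.Contract

set_option linter.style.haveILetI false
set_option backward.isDefEq.respectTransparency false
set_option backward.isDefEq.respectTransparency.types false
-- import your own Groth.Agent.* helpers here

set_option autoImplicit false
universe u
open CategoryTheory MonoidalCategory CartesianMonoidalCategory MonObj GrpObj AlgebraicGeometry CategoryTheory.Limits
open Red

namespace Groth.Agent.S8445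

/-- Let G be an S-group scheme, i : T ⟶ G a torus of G, j : Q ⟶ T a subtorus, α a character of T whose
restriction to Q is non-trivial on every geometric fibre, and p₊, p₋ : 𝔾_a ⟶ G homomorphisms
normalised by T with multipliers α and α⁻¹ (i(t) p₊(x) i(t)⁻¹ = p₊(α(t) x), i(t) p₋(y) i(t)⁻¹ =
p₋(α(t)⁻¹ y)) such that the morphism 𝔾_a ×_S T ×_S 𝔾_a ⟶ G, (y, t, x) ↦ p₋(y) i(t) p₊(x), is an open
immersion. Let q ≥ 0 and let p : 𝔾_a ⟶ G be a homomorphism such that conjugating p(x) q times by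
i(j(t)) gives p(α(t) x), for all points t of Q and x of 𝔾_a. Then there is exactly one S-point ν of
𝔾_a such that p(x) = p₊(ν x^q) for every point x of 𝔾_a with values in any S-scheme. -/
theorem result (S : Scheme.{u}) (G T : Over S) [GrpObj G] [GrpObj T] (i : T ⟶ G) [IsMonHom i] [Mono i] (hT : Red.IsTorus T)
    (Q : Over S) [GrpObj Q] (j : Q ⟶ T) [IsMonHom j] [Mono j] (hQ : Red.IsTorus Q)
    (α : T ⟶ Red.Gm S) [IsMonHom α] (hα : ∀ s : S, (Over.pullback (Red.geomPt s)).map (j ≫ α) ≠ 1)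
    (pp pm : Red.Ga S ⟶ G) [IsMonHom pp] [IsMonHom pm]
    (hpp : ∀ (X : Over S) (t : X ⟶ T) (x : X ⟶ Red.Ga S), ∃ x' : X ⟶ Red.Ga S,
      x' ≫ pp = (t ≫ i) * (x ≫ pp) * (t ≫ i)⁻¹ ∧ Red.gaFn x' = Red.gmFn (t ≫ α) * Red.gaFn x)
    (hpm : ∀ (X : Over S) (t : X ⟶ T) (y : X ⟶ Red.Ga S), ∃ y' : X ⟶ Red.Ga S,
      y' ≫ pm = (t ≫ i) * (y ≫ pm) * (t ≫ i)⁻¹ ∧ Red.gaFn y' * Red.gmFn (t ≫ α) = Red.gaFn y)
    (hΩ : IsOpenImmersion (((pm ⊗ₘ i) ⊗ₘ pp) ≫ (μ[G] ▷ G) ≫ μ[G]).left) (q : ℕ) (p : Red.Ga S ⟶ G) [IsMonHom p]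
    (hp : ∀ (X : Over S) (t : X ⟶ Q) (x x' : X ⟶ Red.Ga S), Red.gaFn x' = Red.gmFn (t ≫ j ≫ α) * Red.gaFn x →
      x' ≫ p = ((t ≫ j ≫ i) ^ q) * (x ≫ p) * ((t ≫ j ≫ i) ^ q)⁻¹) :
    ∃! ν : 𝟙_ (Over S) ⟶ Red.Ga S, ∀ (X : Over S) (x y : X ⟶ Red.Ga S),
      Red.gaFn y = Red.gaFn (toUnit X ≫ ν) * Red.gaFn x ^ q → x ≫ p = y ≫ pp := by
  obtain ⟨ν, hν, hP⟩ := RankOne16.exists_coeff hT hQ hα hpp hpm hΩ hp
  refine ⟨GaPts.ptOfFn (ν _), fun X x y hy => ?_, fun ν' hν' => ?_⟩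
  · rw [RankOne.comp_eq_P p, RankOne.comp_eq_P pp, hP, hy, GaPts.ptOfFn_comp, GaPts.gaFn_ptOfFn, hν _ _ (toUnit X)]
  · apply GaPts.gaFn_injective
    show Red.gaFn ν' = Red.gaFn (GaPts.ptOfFn _)
    rw [GaPts.gaFn_ptOfFn]
    have h := hν' (𝟙_ (Over S)) (GaPts.ptOfFn 1) (GaPts.ptOfFn (Red.gaFn ν')) (by
      rw [GaPts.gaFn_ptOfFn, GaPts.gaFn_ptOfFn, Subsingleton.elim (toUnit (𝟙_ (Over S))) (𝟙 _),
        Category.id_comp, one_pow, _root_.mul_one])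
    rw [show GaPts.ptOfFn 1 ≫ p = RankOne.P p 1 from rfl, hP, one_pow, _root_.mul_one] at h
    have h2 : RankOne16.cell i pp pm 0 1 (ν (𝟙_ (Over S))) = RankOne16.cell i pp pm 0 1 (Red.gaFn ν') := by
      simp only [RankOne16.cell, RankOne.P_zero, MonObj.one_comp, _root_.one_mul]
      exact h
    exact (RankOne16.cell_inj hΩ h2).2.2.symm

end Groth.Agent.S8445
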