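import Groth.Statements.S8447
import Groth.Agent.Lib.RankOne16.Centre

set_option linter.style.haveILetI false
set_option backward.isDefEq.respectTransparency false
set_option backward.isDefEq.respectTransparency.types false
-- import your own Groth.Agent.* helpers here

set_option autoImplicit false
universe u
open CategoryTheory MonoidalCategory CartesianMonoidalCategory MonObj GrpObj AlgebraicGeometry CategoryTheory.Limits
open Red

namespace Groth.Agent.S8447

/-- Let G be a reductive S-group, i : T ⟶ G a maximal torus, α a character of T non-trivial on every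
geometric fibre, and p₊, p₋ : 𝔾_a ⟶ G monomorphisms of groups normalised by T with multipliers α and
α⁻¹ such that 𝔾_a ×_S T ×_S 𝔾_a ⟶ G, (y, t, x) ↦ p₋(y) i(t) p₊(x), is an open immersion (a rank-one
system: G has semisimple rank 1 and p₊, p₋ trivialise the root groups of α and -α). Then the centre
of G is Ker α: a point g of G with values in an S-scheme X commutes with all points of G after every
base change X' ⟶ X if and only if g = i(t) for some X-point t of T with α(t) = 1. (In particular the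
centre is a closed subgroup of multiplicative type; only the equality of points is stated.) -/
theorem result (S : Scheme.{u}) (G T : Over S) [GrpObj G] [GrpObj T] (i : T ⟶ G) [IsMonHom i] [Mono i] (hG : Red.IsReductive G) (hTm : Red.IsMaximalTorus i)
    (α : T ⟶ Red.Gm S) [IsMonHom α] (hα : ∀ s : S, (Over.pullback (Red.geomPt s)).map α ≠ 1)
    (pp pm : Red.Ga S ⟶ G) [IsMonHom pp] [Mono pp] [IsMonHom pm] [Mono pm]
    (hpp : ∀ (X : Over S) (t : X ⟶ T) (x : X ⟶ Red.Ga S), ∃ x' : X ⟶ Red.Ga S,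
      x' ≫ pp = (t ≫ i) * (x ≫ pp) * (t ≫ i)⁻¹ ∧ Red.gaFn x' = Red.gmFn (t ≫ α) * Red.gaFn x)
    (hpm : ∀ (X : Over S) (t : X ⟶ T) (y : X ⟶ Red.Ga S), ∃ y' : X ⟶ Red.Ga S,
      y' ≫ pm = (t ≫ i) * (y ≫ pm) * (t ≫ i)⁻¹ ∧ Red.gaFn y' * Red.gmFn (t ≫ α) = Red.gaFn y)
    (hΩ : IsOpenImmersion (((pm ⊗ₘ i) ⊗ₘ pp) ≫ (μ[G] ▷ G) ≫ μ[G]).left) (X : Over S) (g : X ⟶ G) :
    (∀ (X' : Over S) (x : X' ⟶ X) (k : X' ⟶ G), (x ≫ g) * k = k * (x ≫ g)) ↔
      ∃ t : X ⟶ T, t ≫ i = g ∧ t ≫ α = 1 := by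
  have hT : Red.IsTorus T := hTm.2.2.1
  have hR : RankOne16.Rig G := RankOne16.Rig.of_isReductive hG
  constructor
  · intro hc
    have hcomm : ∀ (X' : Over S) (x : X' ⟶ X) (k : X' ⟶ G), Commute (x ≫ g) k := hc
    obtain ⟨a, t, b, hg⟩ := RankOne16.exists_cell hΩ g (RankOne16.inCell_of_geom g fun z => by
      obtain ⟨t, ht⟩ := RankOne16.mem_maxTorus_pt hG hTm _ (RankOne16.geomHom z ≫ g) fun X' e s => by
        rw [← Category.assoc]; exact hc _ _ _
      rw [← ht, RankOne16.torus_eq_cell (pp := pp) (pm := pm)]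
      exact RankOne16.inCell_cell _ _ _)
    obtain ⟨X', e, s, ⟨he, -, -⟩, hs⟩ := RankOne16.exists_cover_scalar hT α hα 1 one_ne_zero X
    haveI := he
    rw [pow_one] at hs
    have h1 := (hcomm X' e (s ≫ i)).eq
    rw [hg, RankOne16.comp_cell] at h1
    have h2 : RankOne16.cell i pp pm (e.left.appTop a) (e ≫ t) (e.left.appTop b) =
        (s ≫ i) * RankOne16.cell i pp pm (e.left.appTop a) (e ≫ t) (e.left.appTop b) * (s ≫ i)⁻¹ := by
      rw [← h1, mul_inv_cancel_right]
    rw [RankOne16.conj_cell hT hpp hpm] at h2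
    obtain ⟨ha, -, hb⟩ := RankOne16.cell_inj hΩ h2
    set u := GmPts.unitOfPt (s ≫ α)
    have hb0 : e.left.appTop b = 0 := hs.mul_right_eq_zero.1 (by linear_combination -hb)
    have ha0 : e.left.appTop a = 0 := hs.mul_right_eq_zero.1 (by
      linear_combination ((u : Γ(X'.left, ⊤))) * ha + e.left.appTop a * Units.mul_inv u)
    have hgt : t ≫ i = g := by
      rw [← cancel_epi e, hg, RankOne16.comp_cell, ha0, hb0, ← RankOne16.torus_eq_cell, Category.assoc]
    refine ⟨t, hgt, ?_⟩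
    have h3 := (hcomm X (𝟙 X) (RankOne.P pp 1)).eq
    rw [Category.id_comp, ← hgt, ← mul_inv_eq_iff_eq_mul, RankOne16.conjP hpp, _root_.mul_one] at h3
    have h4 := congrArg Red.gaFn ((cancel_mono pp).1 h3)
    rw [GaPts.gaFn_ptOfFn, GaPts.gaFn_ptOfFn, GmPts.val_unitOfPt] at h4
    apply GmPts.gmFn_injective
    show Red.gmFn _ = Red.gmFn _
    rw [GmPts.gmFn_one, h4]
  · rintro ⟨t, rfl, hα1⟩
    have hu : ∀ (X' : Over S) (x : X' ⟶ X), GmPts.unitOfPt ((x ≫ t) ≫ α) = 1 := fun X' x => by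
      rw [Category.assoc, hα1, MonObj.comp_one, GmPts.unitOfPt_one]
    refine RankOne16.commute_of_gens hΩ hR (t ≫ i) (fun X' x s => ?_) (fun X' x a => ?_) (fun X' x a => ?_)
    · rw [commute_iff_eq, ← Category.assoc, ← MonObj.mul_comp, ← MonObj.mul_comp, RankOne16.torus_comm hT]
    · rw [commute_iff_eq, ← Category.assoc, ← mul_inv_eq_iff_eq_mul, RankOne16.conjP hpp, hu, Units.val_one,
        _root_.one_mul]
    · rw [commute_iff_eq, ← Category.assoc, ← mul_inv_eq_iff_eq_mul, RankOne16.conjM hpm, hu, inv_one, Units.val_one,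
        _root_.one_mul]

end Groth.Agent.S8447
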