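import Groth.Statements.S8451
import Groth.Agent.Lib.RankOne16.Centr

set_option linter.style.haveILetI false
set_option backward.isDefEq.respectTransparency false
set_option backward.isDefEq.respectTransparency.types false
-- import your own Groth.Agent.* helpers here

set_option autoImplicit false
universe u
open CategoryTheory MonoidalCategory CartesianMonoidalCategory MonObj GrpObj AlgebraicGeometry CategoryTheory.Limits
open Red

namespace Groth.Agent.S8451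

/-- Let G be a reductive S-group, i : T ⟶ G a maximal torus, α a character of T non-trivial on every
geometric fibre, p₊, p₋ : 𝔾_a ⟶ G monomorphisms of groups normalised by T with multipliers α and α⁻¹
whose cell map (y, t, x) ↦ p₋(y) i(t) p₊(x) is an open immersion 𝔾_a ×_S T ×_S 𝔾_a ⟶ G, and α^* :
𝔾_m ⟶ T the coroot: α ∘ α^* is the squaring map and p₊(x) p₋(y) = p₋(y/(1+xy)) · i(α^*(1+xy)) ·
p₊(x/(1+xy)) whenever 1 + xy is invertible (so p₊ and p₋ are dual to each other). Let e₁, em be the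
S-points of 𝔾_a with coordinates 1 and -1, u = p₊(e₁) and w₀ = p₊(e₁) p₋(em) p₊(e₁). Let n be a
non-zero integer. If an S-point w of G satisfies w · i(α^*(z))^n · w⁻¹ = i(α^*(z))^{-n} for all
points z of 𝔾_m (after base change) and w u w⁻¹ = u⁻¹ w u⁻¹, then w = w₀. (The published statement
has the condition (w u)³ = e in place of w u w⁻¹ = u⁻¹ w u⁻¹, and also asserts that w₀ has both
properties. The cube condition does not determine w when the centre of G contains a non-trivial cube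
root of unity: for G = GL₂ over a field containing a primitive cube root of unity ζ, the point ζ·w₀
inverts the coroot and satisfies (ζ w₀ u)³ = e. The published proof uses the conjugation identity
stated here, which is equivalent to (w u)³ = e once w² = i(α^*(-1)).) -/
theorem result (S : Scheme.{u}) (G T : Over S) [GrpObj G] [GrpObj T] (i : T ⟶ G) [IsMonHom i] [Mono i] (hG : Red.IsReductive G) (hTm : Red.IsMaximalTorus i)
    (α : T ⟶ Red.Gm S) [IsMonHom α] (hα : ∀ s : S, (Over.pullback (Red.geomPt s)).map α ≠ 1)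
    (pp pm : Red.Ga S ⟶ G) [IsMonHom pp] [Mono pp] [IsMonHom pm] [Mono pm]
    (hpp : ∀ (X : Over S) (t : X ⟶ T) (x : X ⟶ Red.Ga S), ∃ x' : X ⟶ Red.Ga S,
      x' ≫ pp = (t ≫ i) * (x ≫ pp) * (t ≫ i)⁻¹ ∧ Red.gaFn x' = Red.gmFn (t ≫ α) * Red.gaFn x)
    (hpm : ∀ (X : Over S) (t : X ⟶ T) (y : X ⟶ Red.Ga S), ∃ y' : X ⟶ Red.Ga S,
      y' ≫ pm = (t ≫ i) * (y ≫ pm) * (t ≫ i)⁻¹ ∧ Red.gaFn y' * Red.gmFn (t ≫ α) = Red.gaFn y)
    (hΩ : IsOpenImmersion (((pm ⊗ₘ i) ⊗ₘ pp) ≫ (μ[G] ▷ G) ≫ μ[G]).left)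
    (av : Red.Gm S ⟶ T) [IsMonHom av] (h2 : av ≫ α = (𝟙 (Red.Gm S)) ^ 2)
    (hF : ∀ (X : Over S) (x y : X ⟶ Red.Ga S), IsUnit (1 + Red.gaFn x * Red.gaFn y) →
      ∃ (x' y' : X ⟶ Red.Ga S) (z : X ⟶ Red.Gm S), Red.gmFn z = 1 + Red.gaFn x * Red.gaFn y ∧
        Red.gaFn x' * Red.gmFn z = Red.gaFn x ∧ Red.gaFn y' * Red.gmFn z = Red.gaFn y ∧
        (x ≫ pp) * (y ≫ pm) = (y' ≫ pm) * (z ≫ av ≫ i) * (x' ≫ pp))
    (e₁ em : 𝟙_ (Over S) ⟶ Red.Ga S) (he₁ : Red.gaFn e₁ = 1) (hem : Red.gaFn em = -1)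
    (n : ℤ) (hn : n ≠ 0) (w : 𝟙_ (Over S) ⟶ G)
    (hw : ∀ (X : Over S) (z : X ⟶ Red.Gm S),
      (toUnit X ≫ w) * (((z ≫ av) ^ n) ≫ i) * (toUnit X ≫ w)⁻¹ = ((((z ≫ av) ^ n) ≫ i))⁻¹)
    (hconj : w * (e₁ ≫ pp) * w⁻¹ = (e₁ ≫ pp)⁻¹ * w * (e₁ ≫ pp)⁻¹) :
    w = (e₁ ≫ pp) * (em ≫ pm) * (e₁ ≫ pp) := by
  have hT : Red.IsTorus T := hTm.2.2.1
  have D : RankOne.Datum i α pp pm av := ⟨‹_›, ‹_›, ‹_›, ‹_›, hpp, hpm, h2, hF⟩
  have hR : RankOne16.Rig G := RankOne16.Rig.of_isReductive hG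
  obtain ⟨t, ht⟩ := RankOne16.eq_torus_mul_W D hT hΩ hR n hn w fun X' e v => by
    rw [Subsingleton.elim e (toUnit X')]
    have h1 := hw X' (GmPts.ptOfUnit v)
    rwa [RankOne16.zpow_av_i, GmPts.unitOfPt_ptOfUnit] at h1
  rw [RankOne.comp_eq_P pp e₁, RankOne.comp_eq_P pm em, he₁, hem] at *
  set one := (1 : Γ((𝟙_ (Over S)).left, ⊤))
  set c := GmPts.unitOfPt (t ≫ α)
  have hM1 : RankOne.P pm one * RankOne16.W pp pm = RankOne.P pp one * RankOne.P pm (-one) := by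
    rw [RankOne16.W, RankOne.braid D 1 (-1) (by simp), RankOne.w, ← _root_.mul_assoc, ← _root_.mul_assoc,
      ← RankOne.P_add]
    simp [one, RankOne.P_zero]
  have hl : w * RankOne.P pp one * w⁻¹ =
      RankOne.P pm ((((c⁻¹ : (Γ((𝟙_ (Over S)).left, ⊤))ˣ)) : Γ((𝟙_ (Over S)).left, ⊤)) * (-one)) := by
    rw [← RankOne.conj_M D, ← RankOne16.W_conj_P D, ht]
    simp [_root_.mul_assoc]
  have hr : (RankOne.P pp one)⁻¹ * w * (RankOne.P pp one)⁻¹ =
      RankOne.P pp (-one + (c : Γ((𝟙_ (Over S)).left, ⊤)) * one) * (t ≫ i) * RankOne.P pm (-one) := by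
    calc _ = RankOne.P pp (-one) * (t ≫ i) * (RankOne.P pm one * RankOne16.W pp pm) := by
          rw [← RankOne.P_neg, ht]
          simp only [_root_.mul_assoc]
          congr 2
          have h3 := RankOne16.W_conj_P D (-one)
          rw [neg_neg, mul_inv_eq_iff_eq_mul] at h3
          exact h3
      _ = _ := by
          rw [hM1, RankOne.P_add, ← RankOne.conj_P D]
          simp [_root_.mul_assoc]
  rw [hl, hr] at hconj
  have key : RankOne.P pp (0 : Γ((𝟙_ (Over S)).left, ⊤)) * ((1 : 𝟙_ (Over S) ⟶ T) ≫ i) *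
      RankOne.P pm ((((c⁻¹ : (Γ((𝟙_ (Over S)).left, ⊤))ˣ)) : Γ((𝟙_ (Over S)).left, ⊤)) * (-one)) =
      RankOne.P pp (-one + (c : Γ((𝟙_ (Over S)).left, ⊤)) * one) * (t ≫ i) * RankOne.P pm (-one) := by
    rw [RankOne.P_zero, MonObj.one_comp, _root_.one_mul, _root_.one_mul]
    exact hconj
  obtain ⟨-, h4, -⟩ := RankOne16.ptm_inj D hΩ key
  rw [ht, ← h4, MonObj.one_comp, _root_.one_mul]
  rfl

end Groth.Agent.S8451
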