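import Groth.Statements.S8452
import Groth.Agent.Lib.RankOne16.Hom
import Groth.Agent.Lib.RankOne16.UnitVal
import Groth.Agent.Lib.RankOne16.GmTorus
import Groth.Agent.Lib.RankOne16.Iso

set_option linter.style.haveILetI false
set_option backward.isDefEq.respectTransparency false
set_option backward.isDefEq.respectTransparency.types false
-- import your own Groth.Agent.* helpers here

set_option autoImplicit false
universe u
open CategoryTheory MonoidalCategory CartesianMonoidalCategory MonObj GrpObj AlgebraicGeometry CategoryTheory.Limits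
open Red

namespace Groth.Agent.S8452

/-- Let (G, T, α, p₊, p₋, α^*) and (G', T', α', p'₊, p'₋, α'^*) be two rank-one systems over S: G
reductive, i : T ⟶ G a maximal torus, α a character of T non-trivial on every geometric fibre, p₊,
p₋ : 𝔾_a ⟶ G monomorphisms normalised by T with multipliers α, α⁻¹ whose cell map (y, t, x) ↦ p₋(y)
i(t) p₊(x) is an open immersion, α^* : 𝔾_m ⟶ T with α ∘ α^* the squaring map and p₊(x) p₋(y) =
p₋(y/(1+xy)) · i(α^*(1+xy)) · p₊(x/(1+xy)) whenever 1 + xy is invertible; likewise for the primed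
data. Let q > 0 be an integer such that x ↦ x^q is additive on all functions of S-schemes. For a
homomorphism f : G ⟶ G' the following are equivalent: (i) f restricted to T factors through a
homomorphism f_T : T ⟶ T' with α' ∘ f_T = α^q and f_T ∘ α^* = (α'^*)^q; (ii) there is an S-point c
of 𝔾_m (it is then unique) with f(p₊(x)) = p'₊(c x^q) and f(p₋(y)) = p'₋(c⁻¹ y^q) for all points x,
y of 𝔾_a. -/
theorem result (S : Scheme.{u}) (G T : Over S) [GrpObj G] [GrpObj T] (i : T ⟶ G) [IsMonHom i] [Mono i] (hG : Red.IsReductive G) (hTm : Red.IsMaximalTorus i)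
    (α : T ⟶ Red.Gm S) [IsMonHom α] (hα : ∀ s : S, (Over.pullback (Red.geomPt s)).map α ≠ 1)
    (pp pm : Red.Ga S ⟶ G) [IsMonHom pp] [Mono pp] [IsMonHom pm] [Mono pm]
    (hpp : ∀ (X : Over S) (t : X ⟶ T) (x : X ⟶ Red.Ga S), ∃ x' : X ⟶ Red.Ga S,
      x' ≫ pp = (t ≫ i) * (x ≫ pp) * (t ≫ i)⁻¹ ∧ Red.gaFn x' = Red.gmFn (t ≫ α) * Red.gaFn x)
    (hpm : ∀ (X : Over S) (t : X ⟶ T) (y : X ⟶ Red.Ga S), ∃ y' : X ⟶ Red.Ga S,
      y' ≫ pm = (t ≫ i) * (y ≫ pm) * (t ≫ i)⁻¹ ∧ Red.gaFn y' * Red.gmFn (t ≫ α) = Red.gaFn y)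
    (hΩ : IsOpenImmersion (((pm ⊗ₘ i) ⊗ₘ pp) ≫ (μ[G] ▷ G) ≫ μ[G]).left)
    (av : Red.Gm S ⟶ T) [IsMonHom av] (h2 : av ≫ α = (𝟙 (Red.Gm S)) ^ 2)
    (hF : ∀ (X : Over S) (x y : X ⟶ Red.Ga S), IsUnit (1 + Red.gaFn x * Red.gaFn y) →
      ∃ (x' y' : X ⟶ Red.Ga S) (z : X ⟶ Red.Gm S), Red.gmFn z = 1 + Red.gaFn x * Red.gaFn y ∧
        Red.gaFn x' * Red.gmFn z = Red.gaFn x ∧ Red.gaFn y' * Red.gmFn z = Red.gaFn y ∧
        (x ≫ pp) * (y ≫ pm) = (y' ≫ pm) * (z ≫ av ≫ i) * (x' ≫ pp))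
    (G' T' : Over S) [GrpObj G'] [GrpObj T'] (i' : T' ⟶ G') [IsMonHom i'] [Mono i'] (hG' : Red.IsReductive G') (hTm' : Red.IsMaximalTorus i')
    (α' : T' ⟶ Red.Gm S) [IsMonHom α'] (hα' : ∀ s : S, (Over.pullback (Red.geomPt s)).map α' ≠ 1)
    (pp' pm' : Red.Ga S ⟶ G') [IsMonHom pp'] [Mono pp'] [IsMonHom pm'] [Mono pm']
    (hpp' : ∀ (X : Over S) (t : X ⟶ T') (x : X ⟶ Red.Ga S), ∃ x' : X ⟶ Red.Ga S,
      x' ≫ pp' = (t ≫ i') * (x ≫ pp') * (t ≫ i')⁻¹ ∧ Red.gaFn x' = Red.gmFn (t ≫ α') * Red.gaFn x)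
    (hpm' : ∀ (X : Over S) (t : X ⟶ T') (y : X ⟶ Red.Ga S), ∃ y' : X ⟶ Red.Ga S,
      y' ≫ pm' = (t ≫ i') * (y ≫ pm') * (t ≫ i')⁻¹ ∧ Red.gaFn y' * Red.gmFn (t ≫ α') = Red.gaFn y)
    (hΩ' : IsOpenImmersion (((pm' ⊗ₘ i') ⊗ₘ pp') ≫ (μ[G'] ▷ G') ≫ μ[G']).left)
    (av' : Red.Gm S ⟶ T') [IsMonHom av'] (h2' : av' ≫ α' = (𝟙 (Red.Gm S)) ^ 2)
    (hF' : ∀ (X : Over S) (x y : X ⟶ Red.Ga S), IsUnit (1 + Red.gaFn x * Red.gaFn y) →
      ∃ (x' y' : X ⟶ Red.Ga S) (z : X ⟶ Red.Gm S), Red.gmFn z = 1 + Red.gaFn x * Red.gaFn y ∧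
        Red.gaFn x' * Red.gmFn z = Red.gaFn x ∧ Red.gaFn y' * Red.gmFn z = Red.gaFn y ∧
        (x ≫ pp') * (y ≫ pm') = (y' ≫ pm') * (z ≫ av' ≫ i') * (x' ≫ pp'))
    (q : ℕ) (hq0 : 0 < q) (hq : ∀ (X : Over S) (a b : Γ(X.left, ⊤)), (a + b) ^ q = a ^ q + b ^ q) (f : G ⟶ G') [IsMonHom f] :
    (∃ fT : T ⟶ T', IsMonHom fT ∧ i ≫ f = fT ≫ i' ∧ fT ≫ α' = α ^ q ∧ av ≫ fT = av' ^ q) ↔
      ∃! c : 𝟙_ (Over S) ⟶ Red.Gm S,
        (∀ (X : Over S) (x y : X ⟶ Red.Ga S), Red.gaFn y = Red.gmFn (toUnit X ≫ c) * Red.gaFn x ^ q →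
          (x ≫ pp) ≫ f = y ≫ pp') ∧
        (∀ (X : Over S) (x y : X ⟶ Red.Ga S), Red.gaFn y * Red.gmFn (toUnit X ≫ c) = Red.gaFn x ^ q →
          (x ≫ pm) ≫ f = y ≫ pm') := by
  have hT : Red.IsTorus T := hTm.2.2.1
  have hT' : Red.IsTorus T' := hTm'.2.2.1
  have D : RankOne.Datum i α pp pm av := ⟨‹_›, ‹_›, ‹_›, ‹_›, hpp, hpm, h2, hF⟩
  have D' : RankOne.Datum i' α' pp' pm' av' := ⟨‹_›, ‹_›, ‹_›, ‹_›, hpp', hpm', h2', hF'⟩
  have hR' : RankOne16.Rig G' := RankOne16.Rig.of_isReductive hG'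
  have hsq : ∀ (X : Over S) (t : X ⟶ Red.Gm S), GmPts.unitOfPt (t ≫ av' ≫ α') = GmPts.unitOfPt t * GmPts.unitOfPt t :=
    fun X t => by
      have h := RankOne.unitOfPt_av D' (GmPts.unitOfPt t)
      rwa [GmPts.ptOfUnit_unitOfPt, Category.assoc] at h
  constructor
  · rintro ⟨fT, hfm, hfT, hfTα, hfTav⟩
    haveI := hfm
    have hA : RankOne16.CompatA f q i av i' av' := fun X v => by
      rw [RankOne.A, Category.assoc, Category.assoc, hfT, reassoc_of% hfTav,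
        ← Category.assoc, show GmPts.ptOfUnit v ≫ av' ^ q = (GmPts.ptOfUnit v ≫ av') ^ q from ?_]
      · have h := RankOne16.zpow_av_i (i := i') (av := av') (GmPts.ptOfUnit v) (q : ℤ)
        rwa [zpow_natCast, zpow_natCast, GmPts.unitOfPt_ptOfUnit] at h
      · clear hfTav
        induction q with
        | zero => exact absurd hq0 (lt_irrefl 0)
        | succ m ih =>
          rcases Nat.eq_zero_or_pos m with rfl | hm
          · rw [pow_one, pow_one]
          · have key : ∀ k : ℕ, GmPts.ptOfUnit v ≫ av' ^ k = (GmPts.ptOfUnit v ≫ av') ^ k := fun k => by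
              induction k with
              | zero => rw [pow_zero, pow_zero, MonObj.comp_one]
              | succ k ihk => rw [pow_succ, pow_succ, MonObj.comp_mul, ihk]
            exact key _
    have hp : ∀ (X : Over S) (t : X ⟶ Red.Gm S) (x x' : X ⟶ Red.Ga S),
        Red.gaFn x' = Red.gmFn (t ≫ av' ≫ α') * Red.gaFn x →
        x' ≫ (pp ≫ f) = ((t ≫ av' ≫ i') ^ q) * (x ≫ pp ≫ f) * ((t ≫ av' ≫ i') ^ q)⁻¹ := fun X t x x' hx => by
      have e1 : t ≫ av' ≫ i' = RankOne.A i' av' (GmPts.unitOfPt t) := RankOne.comp_eq_A i' av' t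
      have e2 : RankOne.A i' av' (GmPts.unitOfPt t) ^ q = RankOne.A i' av' (GmPts.unitOfPt t ^ q) :=
        (map_pow (RankOne16.AHom (i := i') (av := av') X) _ q).symm
      rw [e1, e2, ← hA, ← Category.assoc, ← Category.assoc, ← GrpObj.inv_comp, ← MonObj.mul_comp, ← MonObj.mul_comp]
      congr 1
      rw [RankOne.comp_eq_P pp x', RankOne.comp_eq_P pp x, RankOne.A_conj_P D, mul_inv_cancel_right, hx,
        ← GmPts.val_unitOfPt, hsq, Units.val_mul]
    obtain ⟨ν, hν, hP0⟩ := RankOne16.exists_coeff (j := av') hT' (RankOne16.isTorus_Gm S)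
      (fun s => RankOne16.map_pow_ne_one _ 2 two_ne_zero s fun x v => ⟨GmPts.ptOfUnit v, by
        rw [hsq, GmPts.unitOfPt_ptOfUnit, pow_two]⟩) hpp' hpm' hΩ' hp
    have hPν : ∀ (X : Over S) (a : Γ(X.left, ⊤)), RankOne.P pp a ≫ f = RankOne.P pp' (ν X * a ^ q) := fun X a => by
      rw [← hP0, RankOne.P, RankOne.P, Category.assoc]
    have hu : IsUnit (ν (𝟙_ (Over S))) := RankOne16.isUnit_of_geom _ fun s hs => by
      set X := RankOne16.kPt (Red.geomPt s ≫ (𝟙_ (Over S)).hom)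
      rw [hν _ _ (RankOne16.geomHom s)] at hs
      have hP1 : ∀ a : Γ(X.left, ⊤), RankOne.P pp a ≫ f = 1 := fun a => by
        rw [hPν, hs, zero_mul, RankOne.P_zero]
      have hM1 : ∀ a : Γ(X.left, ⊤), RankOne.P pm a ≫ f = 1 := fun a => by
        have hb : RankOne16.W pp pm * RankOne.P pp (-a) * (RankOne16.W pp pm : X ⟶ G)⁻¹ = RankOne.P pm a := by
          rw [RankOne16.W_conj_P D, neg_neg]
        rw [← hb, MonObj.mul_comp, MonObj.mul_comp, hP1, _root_.mul_one, GrpObj.inv_comp, mul_inv_cancel]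
      have hW1 : (RankOne16.W pp pm : X ⟶ G) ≫ f = 1 := by
        simp only [RankOne16.W, RankOne.w, MonObj.mul_comp, hP1, hM1, _root_.one_mul]
      obtain ⟨v, hv⟩ := RankOne16.exists_zpow_ne_one (Red.geomPt s ≫ (𝟙_ (Over S)).hom) ((q : ℤ) * 4) (by positivity)
      have h1 := congrArg (· ≫ f) (RankOne16.W_conj_A D v)
      simp only [MonObj.mul_comp, GrpObj.inv_comp, hW1, hA _, _root_.one_mul, inv_one, _root_.mul_one] at h1
      rw [← RankOne.A_inv] at h1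
      have h2 : GmPts.ptOfUnit (v ^ q) ≫ av' = GmPts.ptOfUnit (v ^ q)⁻¹ ≫ av' := by
        rw [← cancel_mono i', Category.assoc, Category.assoc]
        exact h1
      have h3 := congrArg (fun z => GmPts.unitOfPt (z ≫ α')) h2
      simp only [RankOne.unitOfPt_av D'] at h3
      refine hv ?_
      rw [show ((q : ℤ) * 4) = (((q : ℤ) + q) + (q + q)) by ring, zpow_add, zpow_add, zpow_natCast]
      nth_rewrite 1 [h3]
      group
    refine ⟨GmPts.ptOfUnit hu.unit, ?_, fun c' hc' => ?_⟩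
    · have hP : RankOne16.CompatP f (GmPts.ptOfUnit hu.unit) q pp pp' := fun X a => by
        rw [hPν, RankOne16.val_cU, GmPts.gmFn_comp, GmPts.gmFn_ptOfUnit, IsUnit.unit_spec, hν]
      exact ⟨(RankOne16.compatP_iff f _ q).1 hP, (RankOne16.compatM_iff f _ q).1
        (RankOne16.compatM_of_compatA f _ q hq0 hq D D' hT' hΩ' hR' hP hA)⟩
    · apply GmPts.gmFn_injective
      show Red.gmFn c' = Red.gmFn (GmPts.ptOfUnit _)
      rw [GmPts.gmFn_ptOfUnit, IsUnit.unit_spec]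
      have h := (RankOne16.compatP_iff f c' q).2 hc'.1 (𝟙_ (Over S)) 1
      rw [hPν, one_pow, _root_.mul_one, _root_.mul_one, RankOne16.val_cU,
        Subsingleton.elim (toUnit (𝟙_ (Over S))) (𝟙 _), Category.id_comp] at h
      have h2 := congrArg Red.gaFn ((cancel_mono pp').1 h)
      rw [GaPts.gaFn_ptOfFn, GaPts.gaFn_ptOfFn] at h2
      exact h2.symm
  · rintro ⟨c, ⟨hc1, hc2⟩, -⟩
    have hP := (RankOne16.compatP_iff f c q).2 hc1
    have hM := (RankOne16.compatM_iff f c q).2 hc2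
    have hA := RankOne16.compatA_of_compatM f c q hq0 hq D D' hP hM
    obtain ⟨fT, hfT⟩ := RankOne16.mem_torus D' hT' hΩ' hR' (q : ℤ) (by exact_mod_cast hq0.ne') (i ≫ f) fun X' e v => by
      rw [zpow_natCast, ← hA X' v, commute_iff_eq, ← Category.assoc, ← MonObj.mul_comp, ← MonObj.mul_comp,
        RankOne16.A_comm_T D hT]
    haveI hfm : IsMonHom fT := TorsorSch25.isMonHom_of_points fT fun X x y => by
      rw [← cancel_mono i']
      simp only [Category.assoc, hfT, MonObj.mul_comp]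
    refine ⟨fT, hfm, hfT.symm, ?_, ?_⟩
    · apply GmPts.gmFn_injective
      show Red.gmFn _ = Red.gmFn _
      have hqp : GmPts.unitOfPt (α ^ q) = GmPts.unitOfPt α ^ q := map_pow (GmPts.equiv T) α q
      rw [← GmPts.val_unitOfPt, ← GmPts.val_unitOfPt, hqp]
      have h1 := RankOne.conj_P D (𝟙 T) 1
      rw [Category.id_comp, Category.id_comp, _root_.mul_one] at h1
      have h2 := congrArg (· ≫ f) h1
      simp only [MonObj.mul_comp, GrpObj.inv_comp, ← hfT, hP _, one_pow, _root_.mul_one] at h2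
      rw [RankOne.conj_P D'] at h2
      have h3 := congrArg Red.gaFn ((cancel_mono pp').1 h2)
      rw [GaPts.gaFn_ptOfFn, GaPts.gaFn_ptOfFn, _root_.mul_comm] at h3
      rw [Units.val_pow_eq_pow_val]
      exact (RankOne16.cU c T).isUnit.mul_left_cancel h3
    · rw [← cancel_mono i', Category.assoc, hfT, ← Category.assoc]
      have h1 := hA (Red.Gm S) (GmPts.unitOfPt (𝟙 _))
      rw [← RankOne.comp_eq_A, Category.id_comp] at h1
      rw [h1]
      have h := RankOne16.zpow_av_i (i := i') (av := av') (𝟙 (Red.Gm S)) (q : ℤ)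
      rw [zpow_natCast, zpow_natCast, Category.id_comp] at h
      exact h.symm

end Groth.Agent.S8452
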