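import Groth.Statements.S8453
import Groth.Agent.Lib.RatHom19.RankOne
import Groth.Agent.Lib.RankOne16.GmTorus
-- import your own Groth.Agent.* helpers here

set_option autoImplicit false
universe u
open CategoryTheory MonoidalCategory CartesianMonoidalCategory MonObj GrpObj AlgebraicGeometry CategoryTheory.Limits
open Red

namespace Groth.Agent.S8453

set_option linter.style.haveILetI false
set_option backward.isDefEq.respectTransparency false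
set_option backward.isDefEq.respectTransparency.types false


/-- Isomorphism thm for groups of semisimple rank 1: Let (G, T, α, p₊, p₋, α^*) and (G', T', α', p'₊,
p'₋, α'^*) be two rank-one systems over S: G reductive, i : T ⟶ G a maximal torus, α a character of
T non-trivial on every geometric fibre, p₊, p₋ : 𝔾_a ⟶ G monomorphisms normalised by T with
multipliers α, α⁻¹ whose cell map (y, t, x) ↦ p₋(y) i(t) p₊(x) is an open immersion, α^* : 𝔾_m ⟶ T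
with α ∘ α^* the squaring map and p₊(x) p₋(y) = p₋(y/(1+xy)) · i(α^*(1+xy)) · p₊(x/(1+xy)) whenever
1 + xy is invertible; likewise for the primed data. Let q > 0 be an integer such that x ↦ x^q is
additive on all functions of S-schemes. Let c be an S-point of 𝔾_m (a trivialisation of the
isomorphism (𝔤^α)^{⊗q} ≅ 𝔤'^{α'}) and f_T : T ⟶ T' a homomorphism with α' ∘ f_T = α^q and f_T ∘ α^*
= (α'^*)^q. Then there is exactly one homomorphism f : G ⟶ G' extending f_T (i ∘ f = f_T ∘ i') with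
f(p₊(x)) = p'₊(c x^q) for all points x of 𝔾_a; moreover every such f satisfies f(p₋(y)) = p'₋(c⁻¹
y^q) for all points y. -/
theorem result (S : Scheme.{u}) (G T : Over S) [GrpObj G] [GrpObj T] (i : T ⟶ G) [IsMonHom i] [Mono i] (hG : Red.IsReductive G) (hTm : Red.IsMaximalTorus i)
    (α : T ⟶ Red.Gm S) [IsMonHom α] (hα : ∀ s : S, (Over.pullback (Red.geomPt s)).map α ≠ 1)
    (pp pm : Red.Ga S ⟶ G) [IsMonHom pp] [Mono pp] [IsMonHom pm] [Mono pm]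
    (hpp : ∀ (X : Over S) (t : X ⟶ T) (x : X ⟶ Red.Ga S), ∃ x' : X ⟶ Red.Ga S,
      x' ≫ pp = (t ≫ i) * (x ≫ pp) * (t ≫ i)⁻¹ ∧ Red.gaFn x' = Red.gmFn (t ≫ α) * Red.gaFn x)
    (hpm : ∀ (X : Over S) (t : X ⟶ T) (y : X ⟶ Red.Ga S), ∃ y' : X ⟶ Red.Ga S,
      y' ≫ pm = (t ≫ i) * (y ≫ pm) * (t ≫ i)⁻¹ ∧ Red.gaFn y' * Red.gmFn (t ≫ α) = Red.gaFn y)
    (hΩ : IsOpenImmersion (((pm ⊗ₘ i) ⊗ₘ pp) ≫ (μ[G] ▷ G) ≫ μ[G]).left)
    (av : Red.Gm S ⟶ T) [IsMonHom av] (h2 : av ≫ α = (𝟙 (Red.Gm S)) ^ 2)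
    (hF : ∀ (X : Over S) (x y : X ⟶ Red.Ga S), IsUnit (1 + Red.gaFn x * Red.gaFn y) →
      ∃ (x' y' : X ⟶ Red.Ga S) (z : X ⟶ Red.Gm S), Red.gmFn z = 1 + Red.gaFn x * Red.gaFn y ∧
        Red.gaFn x' * Red.gmFn z = Red.gaFn x ∧ Red.gaFn y' * Red.gmFn z = Red.gaFn y ∧
        (x ≫ pp) * (y ≫ pm) = (y' ≫ pm) * (z ≫ av ≫ i) * (x' ≫ pp))
    (G' T' : Over S) [GrpObj G'] [GrpObj T'] (i' : T' ⟶ G') [IsMonHom i'] [Mono i'] (hG' : Red.IsReductive G') (hTm' : Red.IsMaximalTorus i')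
    (α' : T' ⟶ Red.Gm S) [IsMonHom α'] (hα' : ∀ s : S, (Over.pullback (Red.geomPt s)).map α' ≠ 1)
    (pp' pm' : Red.Ga S ⟶ G') [IsMonHom pp'] [Mono pp'] [IsMonHom pm'] [Mono pm']
    (hpp' : ∀ (X : Over S) (t : X ⟶ T') (x : X ⟶ Red.Ga S), ∃ x' : X ⟶ Red.Ga S,
      x' ≫ pp' = (t ≫ i') * (x ≫ pp') * (t ≫ i')⁻¹ ∧ Red.gaFn x' = Red.gmFn (t ≫ α') * Red.gaFn x)
    (hpm' : ∀ (X : Over S) (t : X ⟶ T') (y : X ⟶ Red.Ga S), ∃ y' : X ⟶ Red.Ga S,
      y' ≫ pm' = (t ≫ i') * (y ≫ pm') * (t ≫ i')⁻¹ ∧ Red.gaFn y' * Red.gmFn (t ≫ α') = Red.gaFn y)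
    (hΩ' : IsOpenImmersion (((pm' ⊗ₘ i') ⊗ₘ pp') ≫ (μ[G'] ▷ G') ≫ μ[G']).left)
    (av' : Red.Gm S ⟶ T') [IsMonHom av'] (h2' : av' ≫ α' = (𝟙 (Red.Gm S)) ^ 2)
    (hF' : ∀ (X : Over S) (x y : X ⟶ Red.Ga S), IsUnit (1 + Red.gaFn x * Red.gaFn y) →
      ∃ (x' y' : X ⟶ Red.Ga S) (z : X ⟶ Red.Gm S), Red.gmFn z = 1 + Red.gaFn x * Red.gaFn y ∧
        Red.gaFn x' * Red.gmFn z = Red.gaFn x ∧ Red.gaFn y' * Red.gmFn z = Red.gaFn y ∧
        (x ≫ pp') * (y ≫ pm') = (y' ≫ pm') * (z ≫ av' ≫ i') * (x' ≫ pp'))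
    (q : ℕ) (hq0 : 0 < q) (hq : ∀ (X : Over S) (a b : Γ(X.left, ⊤)), (a + b) ^ q = a ^ q + b ^ q) (c : 𝟙_ (Over S) ⟶ Red.Gm S) (fT : T ⟶ T') [IsMonHom fT]
    (hfTα : fT ≫ α' = α ^ q) (hfTav : av ≫ fT = av' ^ q) :
    (∃! f : G ⟶ G', IsMonHom f ∧ i ≫ f = fT ≫ i' ∧
        ∀ (X : Over S) (x y : X ⟶ Red.Ga S), Red.gaFn y = Red.gmFn (toUnit X ≫ c) * Red.gaFn x ^ q →
          (x ≫ pp) ≫ f = y ≫ pp') ∧
      ∀ f : G ⟶ G', IsMonHom f → i ≫ f = fT ≫ i' →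
        (∀ (X : Over S) (x y : X ⟶ Red.Ga S), Red.gaFn y = Red.gmFn (toUnit X ≫ c) * Red.gaFn x ^ q →
          (x ≫ pp) ≫ f = y ≫ pp') →
        ∀ (X : Over S) (x y : X ⟶ Red.Ga S), Red.gaFn y * Red.gmFn (toUnit X ≫ c) = Red.gaFn x ^ q →
          (x ≫ pm) ≫ f = y ≫ pm' := by
  classical
  have hT : Red.IsTorus T := hTm.2.2.1
  have hT' : Red.IsTorus T' := hTm'.2.2.1
  have D : Groth.Agent.RankOne.Datum i α pp pm av := ⟨‹_›, ‹_›, ‹_›, ‹_›, hpp, hpm, h2, hF⟩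
  have D' : Groth.Agent.RankOne.Datum i' α' pp' pm' av' := ⟨‹_›, ‹_›, ‹_›, ‹_›, hpp', hpm', h2', hF'⟩
  have hR := Groth.Agent.RankOne16.Rig.of_isReductive hG
  have hR' := Groth.Agent.RankOne16.Rig.of_isReductive hG'
  haveI : IsOpenImmersion (Groth.Agent.RankOne16.cellMap i pp pm).left := hΩ
  have key : ∀ (f : G ⟶ G') (hf : IsMonHom f), i ≫ f = fT ≫ i' → Groth.Agent.RankOne16.CompatP f c q pp pp' →
      Groth.Agent.RankOne16.CompatM f c q pm pm' := by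
    intro f hf hfi hP
    refine Groth.Agent.RankOne16.compatM_of_compatA f c q hq0 hq D D' hT' hΩ' hR' hP fun X v => ?_
    have h := Groth.Agent.RankOne16.zpow_av_i (i := i') (av := av') (GmPts.ptOfUnit v) (q : ℤ)
    rw [zpow_natCast, zpow_natCast, GmPts.unitOfPt_ptOfUnit] at h
    rw [Groth.Agent.RankOne.A, Category.assoc, Category.assoc, hfi, reassoc_of% hfTav, ← Category.assoc,
      MonObj.comp_pow]
    exact h
  obtain ⟨f, ⟨hfm, hfj⟩, -⟩ := Groth.Agent.RatHom19.existsUnique_extend (Groth.Agent.RankOne16.cellMap i pp pm)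
    (Groth.Agent.RatHom19.cellHom T c q fT i' pp' pm') hR
    (Groth.Agent.RankOne16.unit_mem_cell (i := i) (pp := pp) (pm := pm))
    (fun X a b z h => Groth.Agent.RatHom19.cellHom_mul c q fT D D' hq0 hq hfTα hfTav hT hΩ X a b z h)
  haveI := hfm
  have hcell : ∀ (X : Over S) (y : Γ(X.left, ⊤)) (t : X ⟶ T) (x : Γ(X.left, ⊤)),
      Groth.Agent.RankOne16.cell i pp pm y t x ≫ f = Groth.Agent.RankOne16.cell i' pp' pm'
        ((((Groth.Agent.RankOne16.cU c X)⁻¹ : (Γ(X.left, ⊤))ˣ) : Γ(X.left, ⊤)) * y ^ q) (t ≫ fT)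
        ((Groth.Agent.RankOne16.cU c X : Γ(X.left, ⊤)) * x ^ q) := fun X y t x => by
    rw [Groth.Agent.RankOne16.cell_eq, Category.assoc, hfj, Groth.Agent.RatHom19.comp_cellHom]
    simp only [Groth.Agent.RatHom19.cy, Groth.Agent.RatHom19.ct, Groth.Agent.RatHom19.cx, lift_fst, lift_snd,
      lift_fst_assoc, Groth.Agent.GaPts.gaFn_ptOfFn]
  have hfi : i ≫ f = fT ≫ i' := by
    have h := hcell T 0 (𝟙 T) 0
    rw [← Groth.Agent.RankOne16.torus_eq_cell, zero_pow hq0.ne', MulZeroClass.mul_zero, MulZeroClass.mul_zero,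
      ← Groth.Agent.RankOne16.torus_eq_cell, Category.id_comp, Category.id_comp] at h
    exact h
  have hfP : Groth.Agent.RankOne16.CompatP f c q pp pp' := fun X a => by
    have h := hcell X 0 1 a
    simpa [Groth.Agent.RankOne16.cell, Groth.Agent.RankOne.P_zero, zero_pow hq0.ne', MonObj.one_comp] using h
  refine ⟨⟨f, ⟨hfm, hfi, (Groth.Agent.RankOne16.compatP_iff f c q).1 hfP⟩, ?_⟩, ?_⟩
  · rintro f' ⟨hfm', hfi', hfP'⟩
    haveI := hfm'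
    have hP' := (Groth.Agent.RankOne16.compatP_iff f' c q).2 hfP'
    have hM' := key f' hfm' hfi' hP'
    have hM := key f hfm hfi hfP
    refine Groth.Agent.RankOne16.hom_ext_gens hΩ hR f' f (hfi'.trans hfi.symm) ?_ ?_
    · have e := Groth.Agent.RankOne.comp_eq_P pp (𝟙 (Red.Ga S))
      rw [Category.id_comp] at e
      rw [e, hP', hfP]
    · have e := Groth.Agent.RankOne.comp_eq_P pm (𝟙 (Red.Ga S))
      rw [Category.id_comp] at e
      rw [e, hM', hM]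
  · intro f' hfm' hfi' hfP'
    haveI := hfm'
    exact (Groth.Agent.RankOne16.compatM_iff f' c q).1
      (key f' hfm' hfi' ((Groth.Agent.RankOne16.compatP_iff f' c q).2 hfP'))

end Groth.Agent.S8453
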