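import Groth.Statements.S8456
import Groth.Agent.Lib.RankOne16.Closed
import Groth.Agent.Lib.RankOne16.GaFibre
import Groth.Agent.S8446

set_option linter.style.haveILetI false
set_option backward.isDefEq.respectTransparency false
set_option backward.isDefEq.respectTransparency.types false
-- import your own Groth.Agent.* helpers here

set_option autoImplicit false
universe u
open CategoryTheory MonoidalCategory CartesianMonoidalCategory MonObj GrpObj AlgebraicGeometry CategoryTheory.Limits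
open Red

namespace Groth.Agent.S8456

/-- Let G be a reductive S-group, i : T ⟶ G a maximal torus, α a character of T non-trivial on every
geometric fibre, and p₊, p₋ : 𝔾_a ⟶ G monomorphisms of groups normalised by T with multipliers α and
α⁻¹ such that 𝔾_a ×_S T ×_S 𝔾_a ⟶ G, (y, t, x) ↦ p₋(y) i(t) p₊(x), is an open immersion (a rank-one
system: G has semisimple rank 1 and p₊, p₋ trivialise the root groups of α and -α). Then the
subgroups U_α = im p₊, U_{-α} = im p₋, T·U_α and T·U_{-α} are closed in G: p₊ and p₋ are closed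
immersions, and so are the morphisms T ×_S 𝔾_a ⟶ G, (t, x) ↦ i(t) p₊(x) and (t, y) ↦ i(t) p₋(y). -/
theorem result (S : Scheme.{u}) (G T : Over S) [GrpObj G] [GrpObj T] (i : T ⟶ G) [IsMonHom i] [Mono i] (hG : Red.IsReductive G) (hTm : Red.IsMaximalTorus i)
    (α : T ⟶ Red.Gm S) [IsMonHom α] (hα : ∀ s : S, (Over.pullback (Red.geomPt s)).map α ≠ 1)
    (pp pm : Red.Ga S ⟶ G) [IsMonHom pp] [Mono pp] [IsMonHom pm] [Mono pm]
    (hpp : ∀ (X : Over S) (t : X ⟶ T) (x : X ⟶ Red.Ga S), ∃ x' : X ⟶ Red.Ga S,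
      x' ≫ pp = (t ≫ i) * (x ≫ pp) * (t ≫ i)⁻¹ ∧ Red.gaFn x' = Red.gmFn (t ≫ α) * Red.gaFn x)
    (hpm : ∀ (X : Over S) (t : X ⟶ T) (y : X ⟶ Red.Ga S), ∃ y' : X ⟶ Red.Ga S,
      y' ≫ pm = (t ≫ i) * (y ≫ pm) * (t ≫ i)⁻¹ ∧ Red.gaFn y' * Red.gmFn (t ≫ α) = Red.gaFn y)
    (hΩ : IsOpenImmersion (((pm ⊗ₘ i) ⊗ₘ pp) ≫ (μ[G] ▷ G) ≫ μ[G]).left) :
    IsClosedImmersion pp.left ∧ IsClosedImmersion pm.left ∧
      IsClosedImmersion ((i ⊗ₘ pp) ≫ μ[G]).left ∧ IsClosedImmersion ((i ⊗ₘ pm) ≫ μ[G]).left := by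
  have hT : Red.IsTorus T := hTm.2.2.1
  have hR : RankOne16.Rig G := RankOne16.Rig.of_isReductive hG
  have K : RankOne16.Cellular i α pp pm :=
    ⟨inferInstance, inferInstance, inferInstance, inferInstance, hT, hα, hpp, hpm, hΩ⟩
  have hnc : ∀ s : S, ¬ ∀ (X : Over S) (_ : X ⟶ RankOne16.sp (Red.geomPt s)) (u v : Γ(X.left, ⊤)),
      RankOne.P pp u * RankOne.P pm v = RankOne.P pm v * RankOne.P pp u := by
    intro s h
    obtain ⟨X, x, y, hne⟩ := Groth.Agent.S8446.result S G T i hG hTm α hα pp pm hpp hpm hΩ s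
    refine hne ?_
    let ψ := Red.geomPt s
    let adj := Over.mapPullbackAdj ψ
    let X₀ := (Over.map ψ).obj X
    obtain ⟨x₀, hx₀⟩ := (adj.homEquiv X (Red.Ga S)).surjective x
    obtain ⟨y₀, hy₀⟩ := (adj.homEquiv X (Red.Ga S)).surjective y
    have hx : x ≫ (Over.pullback ψ).map pp = RankOne16.bcHom ψ G X (x₀ ≫ pp) := by
      rw [← hx₀]; exact (adj.homEquiv_naturality_right x₀ pp).symm
    have hy : y ≫ (Over.pullback ψ).map pm = RankOne16.bcHom ψ G X (y₀ ≫ pm) := by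
      rw [← hy₀]; exact (adj.homEquiv_naturality_right y₀ pm).symm
    rw [hx, hy, ← MonoidHom.map_mul, ← MonoidHom.map_mul, RankOne.comp_eq_P pp x₀, RankOne.comp_eq_P pm y₀,
      h X₀ (Over.homMk X.hom) (Red.gaFn x₀) (Red.gaFn y₀)]
  obtain ⟨σ, av, hσ, D, hΩ'⟩ := RankOne16.exists_datum K hnc
  haveI := hσ
  haveI : IsIso σ.left := ((Over.forget _).mapIso (asIso σ)).isIso_hom
  obtain ⟨h1, h2⟩ := RankOne16.isClosedImmersion_root D hT hΩ' hR
  haveI := h1
  haveI : IsIso (inv σ).left := ((Over.forget _).mapIso (asIso (inv σ))).isIso_hom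
  haveI := RankOne16.isClosedImmersion_borel D hT hΩ' hR
  have e1 : pp = inv σ ≫ (σ ≫ pp) := by rw [IsIso.inv_hom_id_assoc]
  have e2 : (i ⊗ₘ pp) ≫ μ[G] = ((𝟙 T) ⊗ₘ inv σ) ≫ ((i ⊗ₘ (σ ≫ pp)) ≫ μ[G]) := by
    rw [← Category.assoc, MonoidalCategory.tensorHom_comp_tensorHom, Category.id_comp, IsIso.inv_hom_id_assoc]
  haveI : IsIso ((𝟙 T) ⊗ₘ inv σ).left := ((Over.forget _).mapIso (asIso ((𝟙 T) ⊗ₘ inv σ))).isIso_hom
  refine ⟨?_, h2, ?_, RankOne16.isClosedImmersion_borel_neg D hT hΩ' hR⟩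
  · rw [e1, Over.comp_left]; infer_instance
  · rw [e2, Over.comp_left]; infer_instance

end Groth.Agent.S8456
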