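import Groth.Statements.S8457
import Groth.Agent.Lib.RankOne16.Extend

set_option linter.style.haveILetI false
set_option backward.isDefEq.respectTransparency false
set_option backward.isDefEq.respectTransparency.types false
-- import your own Groth.Agent.* helpers here

set_option autoImplicit false
universe u
open CategoryTheory MonoidalCategory CartesianMonoidalCategory MonObj GrpObj AlgebraicGeometry CategoryTheory.Limits
open Red

namespace Groth.Agent.S8457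

/-- Generators and relations for a group of semisimple rank 1: for H an S-group scheme. Let G be a
reductive S-group, i : T ⟶ G a maximal torus, α a character of T non-trivial on every geometric
fibre, p₊, p₋ : 𝔾_a ⟶ G monomorphisms of groups normalised by T with multipliers α and α⁻¹ whose
cell map (y, t, x) ↦ p₋(y) i(t) p₊(x) is an open immersion 𝔾_a ×_S T ×_S 𝔾_a ⟶ G, and α^* : 𝔾_m ⟶ T
the coroot: α ∘ α^* is the squaring map and p₊(x) p₋(y) = p₋(y/(1+xy)) · i(α^*(1+xy)) · p₊(x/(1+xy))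
whenever 1 + xy is invertible (so p₊ and p₋ are dual to each other). Let e₁, em be the S-points of
𝔾_a with coordinates 1, -1 and m the S-point of 𝔾_m with coordinate -1; put u = p₊(e₁) and w =
p₊(e₁) p₋(em) p₊(e₁). Let H be an S-group scheme, f_T : T ⟶ H and f_α : 𝔾_a ⟶ H homomorphisms and h
an S-point of H. Then there is exactly one homomorphism f : G ⟶ H with f ∘ i = f_T, f ∘ p₊ = f_α and
f(w) = h if and only if: (1) f_T(t) f_α(x) f_T(t)⁻¹ = f_α(α(t) x) for all points t of T and x of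
𝔾_a; (2) h f_T(t) h⁻¹ = f_T(t · α^*(α(t))⁻¹) for all points t of T; (3) h² = f_T(α^*(m)); (4) (h ·
f_α(e₁))³ = e. (The published statement allows H to be any fppf sheaf of groups.) -/
theorem result (S : Scheme.{u}) (G T : Over S) [GrpObj G] [GrpObj T] (i : T ⟶ G) [IsMonHom i] [Mono i] (hG : Red.IsReductive G) (hTm : Red.IsMaximalTorus i)
    (α : T ⟶ Red.Gm S) [IsMonHom α] (hα : ∀ s : S, (Over.pullback (Red.geomPt s)).map α ≠ 1)
    (pp pm : Red.Ga S ⟶ G) [IsMonHom pp] [Mono pp] [IsMonHom pm] [Mono pm]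
    (hpp : ∀ (X : Over S) (t : X ⟶ T) (x : X ⟶ Red.Ga S), ∃ x' : X ⟶ Red.Ga S,
      x' ≫ pp = (t ≫ i) * (x ≫ pp) * (t ≫ i)⁻¹ ∧ Red.gaFn x' = Red.gmFn (t ≫ α) * Red.gaFn x)
    (hpm : ∀ (X : Over S) (t : X ⟶ T) (y : X ⟶ Red.Ga S), ∃ y' : X ⟶ Red.Ga S,
      y' ≫ pm = (t ≫ i) * (y ≫ pm) * (t ≫ i)⁻¹ ∧ Red.gaFn y' * Red.gmFn (t ≫ α) = Red.gaFn y)
    (hΩ : IsOpenImmersion (((pm ⊗ₘ i) ⊗ₘ pp) ≫ (μ[G] ▷ G) ≫ μ[G]).left)
    (av : Red.Gm S ⟶ T) [IsMonHom av] (h2 : av ≫ α = (𝟙 (Red.Gm S)) ^ 2)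
    (hF : ∀ (X : Over S) (x y : X ⟶ Red.Ga S), IsUnit (1 + Red.gaFn x * Red.gaFn y) →
      ∃ (x' y' : X ⟶ Red.Ga S) (z : X ⟶ Red.Gm S), Red.gmFn z = 1 + Red.gaFn x * Red.gaFn y ∧
        Red.gaFn x' * Red.gmFn z = Red.gaFn x ∧ Red.gaFn y' * Red.gmFn z = Red.gaFn y ∧
        (x ≫ pp) * (y ≫ pm) = (y' ≫ pm) * (z ≫ av ≫ i) * (x' ≫ pp))
    (e₁ em : 𝟙_ (Over S) ⟶ Red.Ga S) (he₁ : Red.gaFn e₁ = 1) (hem : Red.gaFn em = -1)
    (m : 𝟙_ (Over S) ⟶ Red.Gm S) (hm : Red.gmFn m = -1)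
    (H : Over S) [GrpObj H] (fT : T ⟶ H) [IsMonHom fT] (fα : Red.Ga S ⟶ H) [IsMonHom fα] (h : 𝟙_ (Over S) ⟶ H) :
    (∃! f : G ⟶ H, IsMonHom f ∧ i ≫ f = fT ∧ pp ≫ f = fα ∧ ((e₁ ≫ pp) * (em ≫ pm) * (e₁ ≫ pp)) ≫ f = h) ↔
      ((∀ (X : Over S) (t : X ⟶ T) (x x' : X ⟶ Red.Ga S), Red.gaFn x' = Red.gmFn (t ≫ α) * Red.gaFn x →
          (t ≫ fT) * (x ≫ fα) * (t ≫ fT)⁻¹ = x' ≫ fα) ∧
        (∀ (X : Over S) (t : X ⟶ T), (toUnit X ≫ h) * (t ≫ fT) * (toUnit X ≫ h)⁻¹ = (t * (t ≫ α ≫ av)⁻¹) ≫ fT) ∧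
        h ^ 2 = m ≫ av ≫ fT ∧ (h * (e₁ ≫ fα)) ^ 3 = 1) := by
  have hT : Red.IsTorus T := hTm.2.2.1
  have hR : RankOne16.Rig G := RankOne16.Rig.of_isReductive hG
  have D : RankOne.Datum i α pp pm av := ⟨inferInstance, inferInstance, inferInstance, inferInstance, hpp, hpm, h2, hF⟩
  have hP1 : e₁ ≫ pp = RankOne.P pp 1 := by rw [RankOne.comp_eq_P, he₁]
  have hW0 : (e₁ ≫ pp) * (em ≫ pm) * (e₁ ≫ pp) = RankOne16.W pp pm := by
    rw [hP1, RankOne.comp_eq_P pm, hem]; rfl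
  have hmu : GmPts.unitOfPt m = -1 := Units.ext (by rw [GmPts.val_unitOfPt, hm]; simp)
  have hA : ∀ (X : Over S), toUnit X ≫ m ≫ av ≫ fT = RankOne.A fT av (-1) := fun X => by
    rw [RankOne.comp_eq_A, hmu, RankOne16.comp_A]
    congr 1
    ext; simp
  constructor
  · rintro ⟨f, ⟨hf, hi, hp, hw⟩, -⟩
    haveI := hf
    rw [hW0] at hw
    have hr := RankOne16.relG D hT
    refine ⟨fun X t x x' hx => ?_, fun X t => ?_, ?_, ?_⟩
    · obtain ⟨x'', e1, e2⟩ := hpp X t x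
      rw [GaPts.gaFn_injective (hx.trans e2.symm), ← hi, ← hp, ← Category.assoc x'', e1]
      simp only [← Category.assoc, ← GrpObj.inv_comp, ← MonObj.mul_comp]
    · have := congrArg (fun z => z ≫ f) (hr.r2 t)
      simp only [MonObj.mul_comp, GrpObj.inv_comp, Category.assoc] at this
      rw [← hw, ← hi]
      simp only [MonObj.mul_comp, GrpObj.inv_comp, Category.assoc]
      exact this
    · have := congrArg (fun z => z ≫ f) (RankOne16.W_mul_W D (X := 𝟙_ (Over S)))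
      simp only [MonObj.mul_comp, hw] at this
      rw [pow_two, this, ← hi, ← GmPts.ptOfUnit_unitOfPt m, hmu]
      simp only [RankOne.A, Category.assoc]
    · have := congrArg (fun z => z ≫ f) (RankOne.w_mul_P_pow D (X := 𝟙_ (Over S)) 1 (-1) (by simp))
      simp only [pow_succ, pow_zero, MonObj.mul_comp, MonObj.one_comp] at this
      rw [← hp, ← Category.assoc, hP1, ← hw]
      simp only [pow_succ, pow_zero]
      exact this
  · rintro ⟨r1, r2, r3, r4⟩
    have R : RankOne16.Rel T α av H fT fα h :=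
      { hom_T := inferInstance, hom_P := inferInstance, hom_av := inferInstance, hom_α := inferInstance
        comm := fun s t => RankOne16.torus_comm hT s t
        h2 := fun v => RankOne.unitOfPt_av D v
        r1 := fun {X} t a => by
          rw [RankOne.P, RankOne.P, r1 X t (GaPts.ptOfFn a) _]
          rw [GaPts.gaFn_ptOfFn, GaPts.gaFn_ptOfFn, GmPts.val_unitOfPt]
        r2 := fun {X} t => r2 X t
        r3 := fun X => by rw [← MonObj.comp_mul, ← pow_two, r3, hA]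
        r4 := fun X => by
          rw [show RankOne.P fα (1 : Γ(X.left, ⊤)) = toUnit X ≫ e₁ ≫ fα by
            rw [RankOne.comp_eq_P, RankOne.comp_P, he₁, map_one], ← MonObj.comp_mul]
          have := congrArg (fun z => toUnit X ≫ z) r4
          simp only [pow_succ, pow_zero, MonObj.comp_mul, MonObj.comp_one] at this ⊢
          exact this }
    obtain ⟨f, hf, hi, hp, hw⟩ := RankOne16.exists_hom D hT hΩ hR R
    refine ⟨f, ⟨hf, hi, hp, by rw [hW0]; exact hw⟩, ?_⟩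
    rintro f' ⟨hf', hi', hp', hw'⟩
    haveI := hf; haveI := hf'
    rw [hW0] at hw'
    exact RankOne16.hom_unique D hT hΩ hR f' f (hi'.trans hi.symm) (hp'.trans hp.symm) (hw'.trans hw.symm)

end Groth.Agent.S8457
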