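import Groth.Statements.S8458
import Groth.Agent.Lib.RedCell16.WeightApps

set_option linter.style.haveILetI false
set_option backward.isDefEq.respectTransparency false
set_option backward.isDefEq.respectTransparency.types false
-- import your own Groth.Agent.* helpers here

set_option autoImplicit false
universe u
open CategoryTheory MonoidalCategory CartesianMonoidalCategory MonObj GrpObj AlgebraicGeometry CategoryTheory.Limits
open Red

namespace Groth.Agent.S8458

/-- Let G be a split reductive S-group with splitting D (root homomorphisms u_c : 𝔾_a ⟶ G for all roots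
c) and let a, b be two roots with a + b ≠ 0 such that a + b is not a root. Then u_a(x) u_b(y) =
u_b(y) u_a(x) for all points x, y of 𝔾_a with values in any S-scheme. -/
theorem result (S : Scheme.{u}) (G : Over S) [GrpObj G] (D : Red.SplitRed G)
    (a b : D.idx) (h0 : D.P.root a + D.P.root b ≠ 0) (hab : D.P.root a + D.P.root b ∉ Set.range D.P.root)
    (X : Over S) (x y : X ⟶ Red.Ga S) :
    (x ≫ D.u a) * (y ≫ D.u b) = (y ≫ D.u b) * (x ≫ D.u a) := by
  rcases isEmpty_or_nonempty S with hS | ⟨⟨s⟩⟩
  · exact (RedCell16.hom_subsingleton X G).2.elim _ _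
  haveI := RedCell16.isReduced D s
  obtain ⟨bb⟩ := RedCell16.nonempty_base D s
  rw [RankOne.comp_eq_P (D.u a) x, RankOne.comp_eq_P (D.u b) y]
  exact RedCell16.commute_rootGroups D bb a b h0 hab X _ _

end Groth.Agent.S8458
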