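import Groth.Statements.S8465
import Groth.Agent.Lib.RedCell16.Pinned
import Groth.Agent.Lib.RedCell16.PairG2

set_option linter.style.haveILetI false
set_option backward.isDefEq.respectTransparency false
set_option backward.isDefEq.respectTransparency.types false
-- import your own Groth.Agent.* helpers here

set_option autoImplicit false
universe u
open CategoryTheory MonoidalCategory CartesianMonoidalCategory MonObj GrpObj AlgebraicGeometry CategoryTheory.Limits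
open Red

namespace Groth.Agent.S8465

/-- Let G be a pinned reductive S-group: a splitting D (maximal torus T ≅ D_S(M), root datum with root
homomorphisms u_c : 𝔾_a ⟶ G for all roots c, system of simple roots Δ) such that for every simple
root a the root homomorphisms of a and -a are dual to each other: u_a(x) u_{-a}(y) =
u_{-a}(y/(1+xy)) · a^∨(1+xy) · u_a(x/(1+xy)) whenever 1 + xy is invertible, where a^∨ : 𝔾_m ⟶ T is
the coroot of a read through the splitting. For a root a put w_a = u_a(1) u_{-a}(-1) u_a(1) (an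
S-point of G). Let a ≠ b be simple roots with ⟨b, a^∨⟩ = -3 and ⟨a, b^∨⟩ = -1 (type G₂, a the short
root); put u_{a+b}(x) = w_b u_a(x) w_b⁻¹, u_{2a+b}(x) = (w_a w_b) u_a(x) (w_a w_b)⁻¹, u_{3a+b}(x) =
w_a u_b(-x) w_a⁻¹ and u_{3a+2b}(x) = (w_b w_a) u_b(-x) (w_b w_a)⁻¹. Then for all points x, y of 𝔾_a:
u_b(y) u_a(x) = u_a(x) u_b(y) u_{a+b}(xy) u_{2a+b}(x²y) u_{3a+b}(x³y) u_{3a+2b}(x³y²); u_{a+b}(y)
u_a(x) = u_a(x) u_{a+b}(y) u_{2a+b}(2xy) u_{3a+b}(3x²y) u_{3a+2b}(3xy²); u_{2a+b}(y) u_a(x) = u_a(x)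
u_{2a+b}(y) u_{3a+b}(3xy); u_{3a+b}(y) u_b(x) = u_b(x) u_{3a+b}(y) u_{3a+2b}(-xy); u_{2a+b}(y)
u_{a+b}(x) = u_{a+b}(x) u_{2a+b}(y) u_{3a+2b}(3xy). (The published statement is for a pinned group
whose simple roots are exactly a and b; this row states it for two simple roots a ≠ b of any pinned
group.) -/
theorem result (S : Scheme.{u}) (e₁ : 𝟙_ (Over S) ⟶ Red.Ga S) (he₁ : Red.gaFn e₁ = 1)
    (G : Over S) [GrpObj G] (D : Red.Pinning G)
    (avc : D.idx → (Red.Gm S ⟶ D.T))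
    (havc : ∀ a, avc a = Red.DSmap S (D.P.coroot a).toAddMonoidHom ≫ D.split.inv.hom.hom)
    (hpair : ∀ a ∈ D.base.support, ∀ (X : Over S) (x y : X ⟶ Red.Ga S), IsUnit (1 + Red.gaFn x * Red.gaFn y) →
        ∃ (x' y' : X ⟶ Red.Ga S) (z : X ⟶ Red.Gm S), Red.gmFn z = 1 + Red.gaFn x * Red.gaFn y ∧
          Red.gaFn x' * Red.gmFn z = Red.gaFn x ∧ Red.gaFn y' * Red.gmFn z = Red.gaFn y ∧
          (x ≫ D.u a) * (y ≫ D.u (D.P.reflectionPerm a a)) = (y' ≫ D.u (D.P.reflectionPerm a a)) * (z ≫ avc a ≫ D.i) * (x' ≫ D.u a))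
    (w : D.idx → (𝟙_ (Over S) ⟶ G))
    (hw : ∀ a, w a = (e₁ ≫ D.u a) * (e₁ ≫ D.u (D.P.reflectionPerm a a))⁻¹ * (e₁ ≫ D.u a))
    (a b : D.idx) (ha : a ∈ D.base.support) (hb : b ∈ D.base.support) (hne : a ≠ b)
    (hba : D.P.pairing b a = -3) (hab : D.P.pairing a b = -1)
    (u11 : ∀ X : Over S, (X ⟶ Red.Ga S) → (X ⟶ G))
    (hu11 : ∀ (X : Over S) (x : X ⟶ Red.Ga S), u11 X x = (toUnit X ≫ w b) * (x ≫ D.u a) * (toUnit X ≫ w b)⁻¹)
    (u21 : ∀ X : Over S, (X ⟶ Red.Ga S) → (X ⟶ G))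
    (hu21 : ∀ (X : Over S) (x : X ⟶ Red.Ga S), u21 X x = (toUnit X ≫ (w a * w b)) * (x ≫ D.u a) * (toUnit X ≫ (w a * w b))⁻¹)
    (u31 : ∀ X : Over S, (X ⟶ Red.Ga S) → (X ⟶ G))
    (hu31 : ∀ (X : Over S) (x : X ⟶ Red.Ga S), u31 X x = (toUnit X ≫ w a) * (x ≫ D.u b)⁻¹ * (toUnit X ≫ w a)⁻¹)
    (u32 : ∀ X : Over S, (X ⟶ Red.Ga S) → (X ⟶ G))
    (hu32 : ∀ (X : Over S) (x : X ⟶ Red.Ga S), u32 X x = (toUnit X ≫ (w b * w a)) * (x ≫ D.u b)⁻¹ * (toUnit X ≫ (w b * w a))⁻¹)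
    (X : Over S) (x y c11 c21 c31 c32 d21 d31 d32 f31 g32 k32 : X ⟶ Red.Ga S)
    (h11 : Red.gaFn c11 = Red.gaFn x * Red.gaFn y) (h21 : Red.gaFn c21 = Red.gaFn x ^ 2 * Red.gaFn y)
    (h31 : Red.gaFn c31 = Red.gaFn x ^ 3 * Red.gaFn y) (h32 : Red.gaFn c32 = Red.gaFn x ^ 3 * Red.gaFn y ^ 2)
    (hd21 : Red.gaFn d21 = 2 * Red.gaFn x * Red.gaFn y) (hd31 : Red.gaFn d31 = 3 * Red.gaFn x ^ 2 * Red.gaFn y)
    (hd32 : Red.gaFn d32 = 3 * Red.gaFn x * Red.gaFn y ^ 2) (hf31 : Red.gaFn f31 = 3 * Red.gaFn x * Red.gaFn y)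
    (hg32 : Red.gaFn g32 = - (Red.gaFn x * Red.gaFn y)) (hk32 : Red.gaFn k32 = 3 * Red.gaFn x * Red.gaFn y) :
    (y ≫ D.u b) * (x ≫ D.u a) = (x ≫ D.u a) * (y ≫ D.u b) * u11 X c11 * u21 X c21 * u31 X c31 * u32 X c32 ∧
      u11 X y * (x ≫ D.u a) = (x ≫ D.u a) * u11 X y * u21 X d21 * u31 X d31 * u32 X d32 ∧
      u21 X y * (x ≫ D.u a) = (x ≫ D.u a) * u21 X y * u31 X f31 ∧
      u31 X y * (x ≫ D.u b) = (x ≫ D.u b) * u31 X y * u32 X g32 ∧
      u21 X y * u11 X x = u11 X x * u21 X y * u32 X k32 := by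
  rcases isEmpty_or_nonempty S with hS | ⟨⟨s⟩⟩
  · have := (RedCell16.hom_subsingleton X G).2; refine ⟨?_, ?_, ?_, ?_, ?_⟩ <;> exact Subsingleton.elim _ _
  haveI : D.P.IsReduced := RedCell16.isReduced D.toSplitRed s
  haveI := fun c => (D.rootHom c).1
  have Ea := RedCell16.pinned_dualPair D avc havc hpair ha
  have Eb := RedCell16.pinned_dualPair D avc havc hpair hb
  have hc := fun (c d : D.idx) (Y : Over S) (z : Y ⟶ Red.Ga S) => RedCell16.pinned_cj D e₁ he₁ w hw c d z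
  have h := RedCell16.pinned_pairSys D a b ha hb (p := 3) (Or.inr (Or.inr rfl)) hba hab
  have hW := RedCell16.pinned_Wy D e₁ he₁ w hw
  have g11 : ∀ (z : X ⟶ Red.Ga S), u11 X z = RedCell16.g11 (D := D.toSplitRed) a b X (Red.gaFn z) := fun z => by
    rw [hu11, hc]
  have g21 : ∀ (z : X ⟶ Red.Ga S), u21 X z = RedCell16.g21 (D := D.toSplitRed) a b X (Red.gaFn z) := fun z => by
    rw [hu21, MonObj.comp_mul, hW, hW, RankOne.comp_eq_P (D.u a) z, RedCell16.g21, RedCell16.g11, RedCell16.cj_cj]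
  have g31 : ∀ (z : X ⟶ Red.Ga S), u31 X z = RedCell16.g31 (D := D.toSplitRed) a b X (Red.gaFn z) := fun z => by
    rw [hu31, hW, RankOne.comp_eq_P (D.u b) z, ← RankOne.P_neg]
  have g32 : ∀ (z : X ⟶ Red.Ga S), u32 X z = RedCell16.g32 (D := D.toSplitRed) a b X (Red.gaFn z) := fun z => by
    rw [hu32, MonObj.comp_mul, hW, hW, RankOne.comp_eq_P (D.u b) z, ← RankOne.P_neg, RedCell16.g32, RedCell16.g31,
      RedCell16.cj_cj]
  have n11 : ∀ t : Γ(X.left, ⊤), RedCell16.g11 (D := D.toSplitRed) a b X (-t) =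
      (RedCell16.g11 (D := D.toSplitRed) a b X t)⁻¹ := fun t => by
    rw [RedCell16.g11, RedCell16.g11, RankOne.P_neg, RedCell16.cj_inv]
  have n21 : ∀ t : Γ(X.left, ⊤), RedCell16.g21 (D := D.toSplitRed) a b X (-t) =
      (RedCell16.g21 (D := D.toSplitRed) a b X t)⁻¹ := fun t => by
    simp only [RedCell16.g21, RedCell16.g11, RankOne.P_neg, RedCell16.cj_inv]
  have n31 : ∀ t : Γ(X.left, ⊤), RedCell16.g31 (D := D.toSplitRed) a b X (-t) =
      (RedCell16.g31 (D := D.toSplitRed) a b X t)⁻¹ := fun t => by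
    rw [RedCell16.g31, RedCell16.g31, RankOne.P_neg (-t), RedCell16.cj_inv]
  have n32 : ∀ t : Γ(X.left, ⊤), RedCell16.g32 (D := D.toSplitRed) a b X (-t) =
      (RedCell16.g32 (D := D.toSplitRed) a b X t)⁻¹ := fun t => by
    simp only [RedCell16.g32, RedCell16.g31, RankOne.P_neg (-t), RedCell16.cj_inv]
  obtain ⟨e1, e2, e3, -, e5⟩ := RedCell16.G2_main h D.base Ea Eb X (-Red.gaFn x) (-Red.gaFn y)
  obtain ⟨-, -, -, e4, -⟩ := RedCell16.G2_main h D.base Ea Eb X (-Red.gaFn y) (-Red.gaFn x)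
  ring_nf at e1 e2 e3 e4 e5
  simp only [g11, g21, g31, g32, h11, h21, h31, h32, hd21, hd31, hd32, hf31, hg32, hk32,
    RankOne.comp_eq_P (D.u b) y, RankOne.comp_eq_P (D.u b) x, RankOne.comp_eq_P (D.u a) x]
  refine ⟨?_, ?_, ?_, ?_, ?_⟩
  · refine Eq.trans (RedCell16.exchange (RankOne.P_neg _) (RankOne.P_neg _) e1) ?_
    ring_nf
    simp only [_root_.mul_assoc]
  · refine Eq.trans (RedCell16.exchange (n11 _) (RankOne.P_neg _) e2) ?_
    ring_nf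
    simp only [_root_.mul_assoc]
  · refine Eq.trans (RedCell16.exchange (n21 _) (RankOne.P_neg _) e3) ?_
    ring_nf
  · refine Eq.trans (RedCell16.exchange' (RankOne.P_neg _) (n31 _) e4) ?_
    rw [← n32]
    ring_nf
  · refine Eq.trans (RedCell16.exchange (n21 _) (n11 _) e5) ?_
    ring_nf

end Groth.Agent.S8465
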