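import Groth.Statements.S8467
import Groth.Agent.Lib.RedCell16.Conj

set_option linter.style.haveILetI false
set_option backward.isDefEq.respectTransparency false
set_option backward.isDefEq.respectTransparency.types false
-- import your own Groth.Agent.* helpers here

set_option autoImplicit false
universe u
open CategoryTheory MonoidalCategory CartesianMonoidalCategory MonObj GrpObj AlgebraicGeometry CategoryTheory.Limits
open Red

namespace Groth.Agent.S8467

/-- (iii) implies (i), with the target a group scheme. Let G be a pinned reductive S-group: a splitting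
D (maximal torus T ≅ D_S(M), root datum with root homomorphisms u_c : 𝔾_a ⟶ G for all roots c,
system of simple roots Δ) such that for every simple root a the root homomorphisms of a and -a are
dual to each other: u_a(x) u_{-a}(y) = u_{-a}(y/(1+xy)) · a^∨(1+xy) · u_a(x/(1+xy)) whenever 1 + xy
is invertible, where a^∨ : 𝔾_m ⟶ T is the coroot of a read through the splitting. For a root a put
w_a = u_a(1) u_{-a}(-1) u_a(1) (an S-point of G). Let H be an S-group scheme and f, g : G ⟶ H two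
homomorphisms which agree on T, on u_a for every simple root a, and on the S-points w_a for every
simple root a. Then f = g. -/
theorem result (S : Scheme.{u}) (e₁ : 𝟙_ (Over S) ⟶ Red.Ga S) (he₁ : Red.gaFn e₁ = 1)
    (G : Over S) [GrpObj G] (D : Red.Pinning G)
    (avc : D.idx → (Red.Gm S ⟶ D.T))
    (havc : ∀ a, avc a = Red.DSmap S (D.P.coroot a).toAddMonoidHom ≫ D.split.inv.hom.hom)
    (hpair : ∀ a ∈ D.base.support, ∀ (X : Over S) (x y : X ⟶ Red.Ga S), IsUnit (1 + Red.gaFn x * Red.gaFn y) →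
        ∃ (x' y' : X ⟶ Red.Ga S) (z : X ⟶ Red.Gm S), Red.gmFn z = 1 + Red.gaFn x * Red.gaFn y ∧
          Red.gaFn x' * Red.gmFn z = Red.gaFn x ∧ Red.gaFn y' * Red.gmFn z = Red.gaFn y ∧
          (x ≫ D.u a) * (y ≫ D.u (D.P.reflectionPerm a a)) = (y' ≫ D.u (D.P.reflectionPerm a a)) * (z ≫ avc a ≫ D.i) * (x' ≫ D.u a))
    (w : D.idx → (𝟙_ (Over S) ⟶ G))
    (hw : ∀ a, w a = (e₁ ≫ D.u a) * (e₁ ≫ D.u (D.P.reflectionPerm a a))⁻¹ * (e₁ ≫ D.u a))
    (H : Over S) [GrpObj H] (f g : G ⟶ H) [IsMonHom f] [IsMonHom g] (hT : D.i ≫ f = D.i ≫ g)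
    (hU : ∀ a ∈ D.base.support, D.u a ≫ f = D.u a ≫ g) (hwfg : ∀ a ∈ D.base.support, w a ≫ f = w a ≫ g) :
    f = g := by
  classical
  rcases isEmpty_or_nonempty S with hS | ⟨⟨s⟩⟩
  · exact (RedCell16.hom_subsingleton G H).2.elim _ _
  let D' := D.toSplitRed
  haveI := D.fintypeIdx
  haveI : D.P.IsReduced := RedCell16.isReduced D' s
  let b := D.base
  have hΔ := RootComb21.isSimpleSys_support b
  let Sg : Set D.idx := {c | D.u c ≫ f = D.u c ≫ g}
  have step : ∀ a ∈ b.support, ∀ c ∈ Sg, D.P.reflectionPerm a c ∈ Sg := fun a ha c hc => by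
    have E := RedCell16.datum_of_pair D' a (by
      intro X x y hu
      obtain ⟨x', y', z, h1, h2, h3, h4⟩ := hpair a ha X x y hu
      refine ⟨x', y', z, h1, h2, h3, ?_⟩
      rw [h4, havc])
    obtain ⟨ν, hν⟩ := RedCell16.exists_weyl_conj D' a E b c
    have hWw : ∀ X : Over S, (RankOne16.W (D.u a) (D.u (D.P.reflectionPerm a a)) : X ⟶ G) = toUnit X ≫ w a := fun X => by
      haveI := (D.rootHom (D.P.reflectionPerm a a)).1
      rw [hw, RankOne.comp_eq_P (D.u a) e₁, RankOne.comp_eq_P (D.u (D.P.reflectionPerm a a)) e₁, he₁, ← RankOne.P_neg]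
      simp only [MonObj.comp_mul, RankOne.comp_P, map_one, map_neg]
      rfl
    show D.u _ ≫ f = D.u _ ≫ g
    have key : ∀ (h : G ⟶ H) [IsMonHom h] (X : Over S) (x : X ⟶ Red.Ga S), x ≫ D.u (D.P.reflectionPerm a c) ≫ h =
        (toUnit X ≫ w a ≫ h) * (GaPts.ptOfFn (S := S) ((((ν X)⁻¹ : (Γ(X.left, ⊤))ˣ) : Γ(X.left, ⊤)) * Red.gaFn x) ≫ D.u c ≫ h) *
          (toUnit X ≫ w a ≫ h)⁻¹ := fun h _ X x => by
      rw [← Category.assoc x, RankOne.comp_eq_P (D.u (D.P.reflectionPerm a c)) x, hν X, hWw,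
        MonObj.mul_comp, MonObj.mul_comp, GrpObj.inv_comp]
      simp only [RankOne.P, Category.assoc]
      rfl
    rw [← Category.id_comp (D.u _ ≫ f), key f _ (𝟙 (Red.Ga S)), ← Category.id_comp (D.u _ ≫ g), key g _ (𝟙 (Red.Ga S)),
      hwfg a ha, show D.u c ≫ f = D.u c ≫ g from hc]
  have hgen : ∀ w' ∈ Subgroup.closure ((fun i : D.idx => RootPairing.Equiv.reflection D.P i) '' (b.support : Set D.idx)),
      ∀ c, (c ∈ Sg → w' • c ∈ Sg) ∧ (c ∈ Sg → w'⁻¹ • c ∈ Sg) := by
    intro w' hw'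
    induction hw' using Subgroup.closure_induction with
    | mem x hx =>
      obtain ⟨a, ha, rfl⟩ := hx
      intro c
      refine ⟨fun hc => by rw [RootDLib.refl_smul]; exact step a ha c hc, fun hc => ?_⟩
      rw [inv_eq_of_mul_eq_one_left (RootDLib.refl_mul_self (P := D.P) a), RootDLib.refl_smul]
      exact step a ha c hc
    | one => intro c; simp
    | mul x y _ _ hx hy =>
      intro c
      exact ⟨fun hc => by rw [mul_smul]; exact (hx _).1 ((hy c).1 hc),
        fun hc => by rw [_root_.mul_inv_rev, mul_smul]; exact (hy _).2 ((hx c).2 hc)⟩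
    | inv x _ hx => intro c; exact ⟨(hx c).2, by rw [_root_.inv_inv]; exact (hx c).1⟩
  have hall : ∀ c, c ∈ Sg := fun c => by
    obtain ⟨w', hw', i, hi, rfl⟩ := RootDLib.exists_conj_simple hΔ (k := c) fun j hj =>
      RootComb21.root_ne_two_smul j c hj.symm
    exact (hgen w' hw' i).1 (hU i hi)
  obtain ⟨n, m, eneg, epos, hneg, hpos⟩ := RedCell16.exists_enum D' b
  refine RedCell16.hom_ext_cell D' eneg epos hneg hpos f g ?_
  have hprod : ∀ (k : ℕ) (e : Fin k → D.idx), RedSub.prodMap (Red.Ga S) k (fun j => D.u (e j)) ≫ f =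
      RedSub.prodMap (Red.Ga S) k (fun j => D.u (e j)) ≫ g := by
    intro k
    induction k with
    | zero => intro e; simp only [RedSub.prodMap, MonObj.one_comp]
    | succ k ih =>
      intro e
      simp only [RedSub.prodMap, MonObj.mul_comp, Category.assoc]
      rw [ih, show D.u (e 0) ≫ f = D.u (e 0) ≫ g from hall _]
  simp only [RedSub.cellMap, MonObj.mul_comp, Category.assoc]
  rw [show D'.i ≫ f = D'.i ≫ g from hT,
    show (RedSub.prodMap (Red.Ga S) n fun k => D'.u (eneg k)) ≫ f = (RedSub.prodMap (Red.Ga S) n fun k => D'.u (eneg k)) ≫ g from hprod n eneg,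
    show (RedSub.prodMap (Red.Ga S) m fun k => D'.u (epos k)) ≫ f = (RedSub.prodMap (Red.Ga S) m fun k => D'.u (epos k)) ≫ g from hprod m epos]

end Groth.Agent.S8467
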