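import Groth.Statements.S8469
import Groth.Agent.Lib.PMor16.Types
import Groth.Agent.Lib.AttrBorel21.IsogUnique
import Groth.Agent.S3901

set_option linter.style.haveILetI false
set_option backward.isDefEq.respectTransparency false
set_option backward.isDefEq.respectTransparency.types false
-- import your own Groth.Agent.* helpers here

set_option autoImplicit false
universe u
open CategoryTheory MonoidalCategory CartesianMonoidalCategory MonObj GrpObj AlgebraicGeometry CategoryTheory.Limits
open Red

namespace Groth.Agent.S8469

/-- Let G and G' be reductive S-groups each admitting a splitting, and let s be a point of S such that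
the geometric fibres G_{s̄} and G'_{s̄} have the same type: both are split of type Q for one root
datum Q. Then G and G' are isomorphic as S-group schemes. -/
theorem result (S : Scheme.{u}) (G G' : Over S) [GrpObj G] [GrpObj G']
    (D : Red.SplitRed G) (D' : Red.SplitRed G') (s : S)
    {ι' M' N' : Type} [AddCommGroup M'] [Module ℤ M'] [AddCommGroup N'] [Module ℤ N'] (Q : RootPairing ι' ℤ M' N')
    (hs : Red.IsSplitOfType Q (Red.geomFibre s G)) (hs' : Red.IsSplitOfType Q (Red.geomFibre s G')) :
    Nonempty (Grp.mk G ≅ Grp.mk G') := by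
  have key : ∀ (H : Over S) [GrpObj H] (E : Red.SplitRed H), Red.IsSplitOfType Q (Red.geomFibre s H) →
      Nonempty (RootPairing.Equiv E.P Q) := by
    intro H _ E ⟨F, ⟨e⟩⟩
    have hR := RedCell16.isReductive_geomFibre E s
    obtain ⟨hGa, hGs, hGc⟩ := TorPts21.props_of_isReductive hR
    haveI := hGa
    haveI := hGs
    haveI := hGc
    obtain ⟨e'⟩ := AttrBorel21.nonempty_rootPairing_equiv (G := Red.geomFibre s H)
      (fun T T' _ _ i i' hi hi' => by
        obtain ⟨g, f, hf⟩ := Groth.Agent.S3901.result _ (Red.geomFibre s H) T T' i i'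
          (TorPts21.isMaxTorus_of_isMaximalTorus hi) (TorPts21.isMaxTorus_of_isMaximalTorus hi')
        refine ⟨g, fun X t => ⟨t ≫ f.hom, ?_⟩⟩
        rw [Category.assoc, hf, AGF.conjBy]
        simp only [MonObj.comp_mul, GrpObj.comp_inv, comp_toUnit_assoc])
      (RedCell16.geomSplit E s) F
    exact ⟨RootPairing.Equiv.comp e e'⟩
  obtain ⟨a⟩ := key G D hs
  obtain ⟨a'⟩ := key G' D' hs'
  exact PMor16.nonempty_iso D D' (RootPairing.Equiv.comp (RootPairing.Equiv.symm _ _ a) a')

end Groth.Agent.S8469
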