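import Groth.Statements.S8471
import Mathlib.RingTheory.Polynomial.IntegralNormalization
import Mathlib.Algebra.MvPolynomial.Equiv
import Mathlib.RingTheory.Algebraic.MvPolynomial
import Mathlib.FieldTheory.AlgebraicClosure
import Mathlib.FieldTheory.IsAlgClosed.AlgebraicClosure
import Mathlib.FieldTheory.RatFunc.AsPolynomial
-- import your own Groth.Agent.* helpers here

set_option autoImplicit false
open Red

namespace Groth.Agent.S8471

/-- Let k be a field and F ∈ k(X) a rational function whose denominator does not vanish at 0 and with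
F(0) = 1. Suppose that in the field of fractions L of k[X₀, X₁] one has F(X₀ + X₁ · F(X₀)) = F(X₀) ·
F(X₁) (the functional equation F(x + y F(x)) = F(x) F(y)). Then there is a ∈ k with F = 1 + a X.
(The published statement takes the identity on an open neighbourhood of the origin of 𝔾_a × 𝔾_a on
which all terms are defined; this row takes it as an identity of rational functions in two
variables.) -/
theorem result (k : Type) [Field k] (F : RatFunc k)
    (h0 : F.denom.eval 0 ≠ 0) (h1 : F.num.eval 0 = F.denom.eval 0)
    (hFE : RatFunc.eval (algebraMap k (FractionRing (MvPolynomial (Fin 2) k)))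
        (algebraMap (MvPolynomial (Fin 2) k) (FractionRing (MvPolynomial (Fin 2) k)) (MvPolynomial.X 0) +
          algebraMap (MvPolynomial (Fin 2) k) (FractionRing (MvPolynomial (Fin 2) k)) (MvPolynomial.X 1) *
            RatFunc.eval (algebraMap k (FractionRing (MvPolynomial (Fin 2) k)))
              (algebraMap (MvPolynomial (Fin 2) k) (FractionRing (MvPolynomial (Fin 2) k)) (MvPolynomial.X 0)) F) F =
      RatFunc.eval (algebraMap k (FractionRing (MvPolynomial (Fin 2) k)))
          (algebraMap (MvPolynomial (Fin 2) k) (FractionRing (MvPolynomial (Fin 2) k)) (MvPolynomial.X 0)) F *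
        RatFunc.eval (algebraMap k (FractionRing (MvPolynomial (Fin 2) k)))
          (algebraMap (MvPolynomial (Fin 2) k) (FractionRing (MvPolynomial (Fin 2) k)) (MvPolynomial.X 1)) F) :
    ∃ a : k, F = 1 + RatFunc.C a * RatFunc.X := by
  classical
  let K := RatFunc k
  set P := F.num
  set Q := F.denom
  have hQ0 : Q ≠ 0 := F.denom_ne_zero
  have hP0 : P ≠ 0 := fun h => h0 (by rw [← h1, h, Polynomial.eval_zero])
  have hF0 : F ≠ 0 := fun h => hP0 (RatFunc.num_eq_zero_iff.mpr h)
  -- L → k(X)(Y)
  let M := RatFunc K
  let h : MvPolynomial (Fin 1) k →+* K :=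
    (algebraMap (Polynomial k) K).comp (MvPolynomial.uniqueAlgEquiv k (Fin 1)).toRingHom
  let j : MvPolynomial (Fin 2) k →+* Polynomial K :=
    (Polynomial.mapRingHom h).comp
      ((MvPolynomial.finSuccEquiv k 1).toRingHom.comp (MvPolynomial.rename (Equiv.swap (0 : Fin 2) 1)).toRingHom)
  have hj : Function.Injective j :=
    (Polynomial.map_injective h ((IsFractionRing.injective (Polynomial k) K).comp
      (MvPolynomial.uniqueAlgEquiv k (Fin 1)).injective)).comp
      ((MvPolynomial.finSuccEquiv k 1).injective.comp (MvPolynomial.rename_injective _ (Equiv.injective _)))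
  have hj0 : j (MvPolynomial.X 0) = Polynomial.C RatFunc.X := by
    have e : MvPolynomial.finSuccEquiv k 1 (MvPolynomial.X (Fin.succ 0)) = Polynomial.C (MvPolynomial.X 0) :=
      MvPolynomial.finSuccEquiv_X_succ
    simp [j, h] at e ⊢
    simp [e]
    exact RatFunc.algebraMap_X
  have hj1 : j (MvPolynomial.X 1) = Polynomial.X := by
    simp [j, MvPolynomial.finSuccEquiv_X_zero]
  have hjC : ∀ c, j (MvPolynomial.C c) = Polynomial.C (algebraMap k K c) := fun c => by
    simp [j, h, MvPolynomial.finSuccEquiv_apply, IsScalarTower.algebraMap_apply k (Polynomial k) K]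
  let g : MvPolynomial (Fin 2) k →+* M := (algebraMap (Polynomial K) M).comp j
  have hg : Function.Injective g := (IsFractionRing.injective (Polynomial K) M).comp hj
  let ψ : FractionRing (MvPolynomial (Fin 2) k) →+* M := IsFractionRing.lift hg
  have hψ : ∀ p, ψ (algebraMap (MvPolynomial (Fin 2) k) _ p) = algebraMap (Polynomial K) M (j p) :=
    fun p => IsFractionRing.lift_algebraMap hg p
  have hψk : ψ.comp (algebraMap k (FractionRing (MvPolynomial (Fin 2) k))) =
      ((algebraMap (Polynomial K) M).comp Polynomial.C).comp (algebraMap k K) := RingHom.ext fun c => by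
    rw [RingHom.comp_apply, IsScalarTower.algebraMap_apply k (MvPolynomial (Fin 2) k), hψ,
      MvPolynomial.algebraMap_eq, hjC]; rfl
  let Pm := P.map (algebraMap k K)
  let Qm := Q.map (algebraMap k K)
  have hev : ∀ (R : Polynomial k) (z : FractionRing (MvPolynomial (Fin 2) k)) (w : Polynomial K),
      ψ z = algebraMap (Polynomial K) M w →
      ψ (R.eval₂ (algebraMap k _) z) = algebraMap (Polynomial K) M ((R.map (algebraMap k K)).comp w) := by
    intro R z w hz
    rw [Polynomial.hom_eval₂, hψk, hz, Polynomial.comp, Polynomial.eval₂_map, Polynomial.hom_eval₂]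
    rfl
  have hFx : ∀ R : Polynomial k, (R.map (algebraMap k K)).comp (Polynomial.C RatFunc.X) =
      Polynomial.C (algebraMap (Polynomial k) K R) := fun R => by
    rw [Polynomial.comp_C, Polynomial.eval_map_algebraMap, ← RatFunc.algebraMap_X, Polynomial.aeval_algebraMap_apply,
      Polynomial.aeval_X_left_apply]
  have hevG : ∀ (z : FractionRing (MvPolynomial (Fin 2) k)) (w : Polynomial K), ψ z = algebraMap (Polynomial K) M w →
      ψ (RatFunc.eval (algebraMap k _) z F) =
        algebraMap (Polynomial K) M (Pm.comp w) / algebraMap (Polynomial K) M (Qm.comp w) := fun z w hz => by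
    rw [RatFunc.eval, map_div₀, hev _ _ _ hz, hev _ _ _ hz]
  let u : Polynomial K := Polynomial.C RatFunc.X + Polynomial.X * Polynomial.C F
  have hF : F = algebraMap (Polynomial k) K P / algebraMap (Polynomial k) K Q := F.num_div_denom.symm
  have hFM : algebraMap (Polynomial K) M (Polynomial.C F) =
      algebraMap (Polynomial K) M (Polynomial.C (algebraMap (Polynomial k) K P)) /
        algebraMap (Polynomial K) M (Polynomial.C (algebraMap (Polynomial k) K Q)) :=
    (congrArg ((algebraMap (Polynomial K) M).comp Polynomial.C) hF).trans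
      (map_div₀ ((algebraMap (Polynomial K) M).comp Polynomial.C) _ _)
  have hX0 := hψ (MvPolynomial.X 0)
  rw [hj0] at hX0
  have hX1 := hψ (MvPolynomial.X 1)
  rw [hj1] at hX1
  have hevx : ψ (RatFunc.eval (algebraMap k _) (algebraMap (MvPolynomial (Fin 2) k) _ (MvPolynomial.X 0)) F) =
      algebraMap (Polynomial K) M (Polynomial.C F) := by
    rw [RatFunc.eval, map_div₀, hev _ _ _ hX0, hev _ _ _ hX0, hFx, hFx, hFM]
  have hu : ψ (algebraMap (MvPolynomial (Fin 2) k) _ (MvPolynomial.X 0) +
      algebraMap (MvPolynomial (Fin 2) k) _ (MvPolynomial.X 1) *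
      RatFunc.eval (algebraMap k _) (algebraMap (MvPolynomial (Fin 2) k) _ (MvPolynomial.X 0)) F) =
      algebraMap (Polynomial K) M u := by
    rw [map_add, map_mul, hevx, hX0, hX1, ← map_mul, ← map_add]
  have key := congrArg ψ hFE
  rw [map_mul, hevx, hevG _ _ hu, hevG _ _ hX1, Polynomial.comp_X, Polynomial.comp_X] at key
  have hQu : Qm.comp u ≠ 0 := by
    rw [Ne, Polynomial.comp_eq_zero_iff]
    rintro (h | ⟨-, h⟩)
    · exact hQ0 ((Polynomial.map_eq_zero _).mp h)
    · have := congrArg (fun p => Polynomial.coeff p 1) h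
      simp [u, Polynomial.coeff_C_succ] at this
      exact hF0 this
  rw [← mul_div_assoc, div_eq_div_iff
    ((map_ne_zero_iff _ (IsFractionRing.injective (Polynomial K) M)).mpr hQu)
    ((map_ne_zero_iff _ (IsFractionRing.injective (Polynomial K) M)).mpr
      (fun h => hQ0 ((Polynomial.map_eq_zero _).mp h))), ← map_mul, ← map_mul, ← map_mul] at key
  have hpoly := IsFractionRing.injective (Polynomial K) M key
  -- algebraic closure of k(X)
  let Ω := AlgebraicClosure K
  let x : Ω := algebraMap K Ω RatFunc.X
  have hxP : ∀ R : Polynomial k, Polynomial.aeval x R = algebraMap K Ω (algebraMap (Polynomial k) K R) := fun R => by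
    rw [Polynomial.aeval_algebraMap_apply, ← RatFunc.algebraMap_X, Polynomial.aeval_algebraMap_apply,
      Polynomial.aeval_X_left_apply]
  have hcop : IsCoprime P Q := F.isCoprime_num_denom
  let k' := algebraicClosure k Ω
  have hx : Transcendental k' x := by
    intro halg
    have hx0 : IsIntegral k x := isIntegral_trans (A := k') x halg.isIntegral
    obtain ⟨p, hp, hpx⟩ := hx0.isAlgebraic
    rw [hxP] at hpx
    exact hp (IsFractionRing.injective (Polynomial k) K ((algebraMap K Ω).injective (by rw [hpx]; simp)))
  have main : ∀ β : Ω, Polynomial.aeval β P = 0 ∨ Polynomial.aeval β Q = 0 → Q.natDegree = 0 ∧ P.natDegree ≤ 1 := by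
    intro β hβ
    let α : Ω := x + β * algebraMap K Ω F
    have hid := congrArg (Polynomial.aeval β) hpoly
    simp only [map_mul, Pm, Qm, u, Polynomial.aeval_comp, map_add, Polynomial.aeval_C, Polynomial.aeval_X,
      Polynomial.aeval_map_algebraMap] at hid
    have hα : Polynomial.aeval α P = 0 ∨ Polynomial.aeval α Q = 0 := by
      have hne := fun h0 h0' => Polynomial.aeval_ne_zero_of_isCoprime hcop β |>.elim (· h0) (· h0')
      rcases hβ with h | h
      · rw [h, mul_zero, zero_mul] at hid
        exact Or.inl ((mul_eq_zero.mp hid).resolve_right fun h' => hne h h')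
      · rw [h, mul_zero] at hid
        right
        refine (mul_eq_zero.mp hid.symm).resolve_left fun h' => ?_
        exact (mul_eq_zero.mp h').elim (fun h'' => hF0 ((algebraMap K Ω).injective (by rw [h'', map_zero])))
          (fun h'' => hne h'' h)
    have halg : ∀ z : Ω, Polynomial.aeval z P = 0 ∨ Polynomial.aeval z Q = 0 → z ∈ k' := fun z hz =>
      mem_algebraicClosure_iff.mpr (hz.elim (fun h => ⟨P, hP0, h⟩) (fun h => ⟨Q, hQ0, h⟩))
    have hβ0 : β ≠ 0 := by
      rintro rfl
      rw [← Polynomial.coeff_zero_eq_aeval_zero', ← Polynomial.coeff_zero_eq_aeval_zero', map_eq_zero,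
        map_eq_zero, Polynomial.coeff_zero_eq_eval_zero, Polynomial.coeff_zero_eq_eval_zero, h1, or_self] at hβ
      exact h0 hβ
    let β' : k' := ⟨β, halg β hβ⟩
    let α' : k' := ⟨α, halg α hα⟩
    have hrel : P.map (algebraMap k k') * Polynomial.C β' =
        (Polynomial.C α' - Polynomial.X) * Q.map (algebraMap k k') := by
      refine (transcendental_iff_injective.mp hx) ?_
      simp only [map_mul, map_sub, Polynomial.aeval_C, Polynomial.aeval_X, Polynomial.aeval_map_algebraMap, hxP]
      change _ * β = (α - x) * _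
      rw [show α - x = β * algebraMap K Ω F by simp [α], _root_.mul_assoc, ← map_mul, hF,
        div_mul_cancel₀ _ ((map_ne_zero_iff _ (IsFractionRing.injective (Polynomial k) K)).mpr hQ0),
        _root_.mul_comm]
    have hβ' : β' ≠ 0 := fun h => hβ0 (congrArg Subtype.val h)
    have hQd : Q.natDegree = 0 := by
      have hdvd : Q.map (algebraMap k k') ∣ Polynomial.C β' :=
        ((hcop.symm.map (Polynomial.mapRingHom (algebraMap k k'))).dvd_of_dvd_mul_left
          (hrel ▸ dvd_mul_left _ _))
      have := Polynomial.natDegree_le_of_dvd hdvd (Polynomial.C_ne_zero.mpr hβ')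
      simpa using this
    refine ⟨hQd, ?_⟩
    have := congrArg Polynomial.natDegree hrel
    rw [Polynomial.natDegree_mul_C hβ', Polynomial.natDegree_map] at this
    rw [this]
    refine Polynomial.natDegree_mul_le.trans ?_
    rw [Polynomial.natDegree_map, hQd, add_zero]
    exact (Polynomial.natDegree_sub_le _ _).trans (by simp)
  have hdeg : Q.natDegree = 0 ∧ P.natDegree ≤ 1 := by
    by_cases h : P.natDegree = 0 ∧ Q.natDegree = 0
    · exact ⟨h.2, by omega⟩
    · rw [not_and_or] at h
      rcases h with h | h
      · obtain ⟨β, hβ⟩ := IsAlgClosed.exists_aeval_eq_zero Ω P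
          (fun h' => h (Polynomial.natDegree_eq_of_degree_eq_some h'))
        exact main β (Or.inl hβ)
      · obtain ⟨β, hβ⟩ := IsAlgClosed.exists_aeval_eq_zero Ω Q
          (fun h' => h (Polynomial.natDegree_eq_of_degree_eq_some h'))
        exact main β (Or.inr hβ)
  have hQ1 : Q = 1 := (F.monic_denom).natDegree_eq_zero.mp hdeg.1
  have hc : P.coeff 0 = 1 := by
    rw [Polynomial.coeff_zero_eq_eval_zero, h1, hQ1, Polynomial.eval_one]
  refine ⟨P.coeff 1, ?_⟩
  conv_lhs => rw [hF, hQ1, map_one, div_one, Polynomial.eq_X_add_C_of_natDegree_le_one hdeg.2, hc]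
  simp [add_comm]
  rw [RatFunc.algebraMap_C, RatFunc.algebraMap_X]

end Groth.Agent.S8471
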