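import Groth.Statements.S8472
import Groth.Agent.Lib.RedCell16.ChevExists

set_option linter.style.haveILetI false
set_option backward.isDefEq.respectTransparency false
set_option backward.isDefEq.respectTransparency.types false
-- import your own Groth.Agent.* helpers here

set_option autoImplicit false
universe u
open CategoryTheory MonoidalCategory CartesianMonoidalCategory MonObj GrpObj AlgebraicGeometry CategoryTheory.Limits
open Red

namespace Groth.Agent.S8472

/-- Existence of a Chevalley system extending a pinning: at the level of root groups. Let G be a pinned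
reductive S-group: a splitting D (maximal torus T ≅ D_S(M), root datum with root homomorphisms u_c :
𝔾_a ⟶ G for all roots c, system of simple roots Δ) such that for every simple root a the root
homomorphisms of a and -a are dual to each other: u_a(x) u_{-a}(y) = u_{-a}(y/(1+xy)) · a^∨(1+xy) ·
u_a(x/(1+xy)) whenever 1 + xy is invertible, where a^∨ : 𝔾_m ⟶ T is the coroot of a read through the
splitting. For a root a put w_a = u_a(1) u_{-a}(-1) u_a(1) (an S-point of G). Then the pinning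
extends to a Chevalley system: there is a family (v_c)_{c} of root homomorphisms v_c : 𝔾_a ⟶ G, one
for each root c, normalised by T through the character of c, with v_a = u_a for every simple root a,
such that every v_c admits a dual root homomorphism v_c⁻ (v_c(x) v_c⁻(y) = v_c⁻(y/(1+xy)) c^∨(1+xy)
v_c(x/(1+xy)) for 1 + xy invertible) for which, writing n_c = v_c(1) v_c⁻(1)⁻¹ v_c(1), one has for
every root b a sign ε ∈ {1, -1} with n_c v_b(x) n_c⁻¹ = v_{s_c(b)}(ε x) for all points x of 𝔾_a. -/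
theorem result (S : Scheme.{u}) (e₁ : 𝟙_ (Over S) ⟶ Red.Ga S) (he₁ : Red.gaFn e₁ = 1)
    (G : Over S) [GrpObj G] (D : Red.Pinning G)
    (avc : D.idx → (Red.Gm S ⟶ D.T))
    (havc : ∀ a, avc a = Red.DSmap S (D.P.coroot a).toAddMonoidHom ≫ D.split.inv.hom.hom)
    (hpair : ∀ a ∈ D.base.support, ∀ (X : Over S) (x y : X ⟶ Red.Ga S), IsUnit (1 + Red.gaFn x * Red.gaFn y) →
        ∃ (x' y' : X ⟶ Red.Ga S) (z : X ⟶ Red.Gm S), Red.gmFn z = 1 + Red.gaFn x * Red.gaFn y ∧
          Red.gaFn x' * Red.gmFn z = Red.gaFn x ∧ Red.gaFn y' * Red.gmFn z = Red.gaFn y ∧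
          (x ≫ D.u a) * (y ≫ D.u (D.P.reflectionPerm a a)) = (y' ≫ D.u (D.P.reflectionPerm a a)) * (z ≫ avc a ≫ D.i) * (x' ≫ D.u a)) :
    ∃ v : D.idx → (Red.Ga S ⟶ G),
      (∀ c, Red.IsRootHom D.i (D.split.hom.hom.hom ≫ Red.chi S (D.P.root c)) (v c)) ∧
      (∀ a ∈ D.base.support, v a = D.u a) ∧
      ∀ c, ∃ vd : Red.Ga S ⟶ G, IsMonHom vd ∧
        (∀ (X : Over S) (x y : X ⟶ Red.Ga S), IsUnit (1 + Red.gaFn x * Red.gaFn y) →
        ∃ (x' y' : X ⟶ Red.Ga S) (z : X ⟶ Red.Gm S), Red.gmFn z = 1 + Red.gaFn x * Red.gaFn y ∧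
          Red.gaFn x' * Red.gmFn z = Red.gaFn x ∧ Red.gaFn y' * Red.gmFn z = Red.gaFn y ∧
          (x ≫ v c) * (y ≫ vd) = (y' ≫ vd) * (z ≫ avc c ≫ D.i) * (x' ≫ v c)) ∧
        ∀ b, ∃ ε : ℤ, (ε = 1 ∨ ε = -1) ∧ ∀ (X : Over S) (x y : X ⟶ Red.Ga S), Red.gaFn y = (ε : Γ(X.left, ⊤)) * Red.gaFn x →
          (toUnit X ≫ ((e₁ ≫ v c) * (e₁ ≫ vd)⁻¹ * (e₁ ≫ v c))) * (x ≫ v b) *
              (toUnit X ≫ ((e₁ ≫ v c) * (e₁ ≫ vd)⁻¹ * (e₁ ≫ v c)))⁻¹ = y ≫ v (D.P.reflectionPerm c b) := by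
  rcases isEmpty_or_nonempty S with hS | ⟨⟨s⟩⟩
  · refine ⟨D.u, fun c => D.rootHom c, fun a _ => rfl, fun c => ⟨D.u c, (D.rootHom c).1, fun X x y hu => ?_,
      fun b => ⟨1, Or.inl rfl, fun X x y _ => (RedCell16.hom_subsingleton X G).2.elim _ _⟩⟩⟩
    refine ⟨GaPts.ptOfFn (Red.gaFn x * (hu.unit⁻¹ : (Γ(X.left, ⊤))ˣ)),
      GaPts.ptOfFn (Red.gaFn y * (hu.unit⁻¹ : (Γ(X.left, ⊤))ˣ)), GmPts.ptOfUnit hu.unit, ?_, ?_, ?_,
      (RedCell16.hom_subsingleton X G).2.elim _ _⟩
    · rw [← GmPts.val_unitOfPt, GmPts.unitOfPt_ptOfUnit]; rfl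
    all_goals
      rw [GaPts.gaFn_ptOfFn, ← GmPts.val_unitOfPt, GmPts.unitOfPt_ptOfUnit, _root_.mul_assoc, Units.inv_mul,
        _root_.mul_one]
  haveI : D.P.IsReduced := RedCell16.isReduced D.toSplitRed s
  haveI := D.fintypeIdx
  classical
  let D' := D.toSplitRed
  have hchoice : ∀ c : D.idx, ∃ (l : List D.idx) (a : D.idx), (∀ x ∈ l, x ∈ D.base.support) ∧ a ∈ D.base.support ∧
      RootDLib.wprod D.P l • a = c ∧ (c ∈ D.base.support → l = [] ∧ a = c) := fun c => by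
    by_cases hc : c ∈ D.base.support
    · exact ⟨[], c, by simp, hc, by simp, fun _ => ⟨rfl, rfl⟩⟩
    obtain ⟨g, hg, a, ha, hga⟩ := RootDLib.exists_conj_simple (RootComb21.isSimpleSys_support D.base) (k := c)
      fun j hj => RootComb21.root_ne_two_smul j c hj.symm
    obtain ⟨l, hl, rfl⟩ := RootDLib.exists_word hg
    exact ⟨l, a, hl, ha, hga, fun h => absurd h hc⟩
  choose lw av hlw hav hca hsimple using hchoice
  have E : ∀ {a}, a ∈ D.base.support → RedCell16.DualPair D' a := fun ha =>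
    RedCell16.pinned_dualPair D avc havc hpair ha
  have hEl : ∀ c, ∀ x ∈ lw c, RedCell16.DualPair D' x := fun c x hx => E (hlw c x hx)
  let g := fun c => RedCell16.Wd D' (lw c)
  let v : D.idx → (Red.Ga S ⟶ G) := fun c => D.u (av c) ≫ RedCell16.kap (g c)
  have hWy : ∀ a, (e₁ ≫ D.u a) * (e₁ ≫ D.u (D.P.reflectionPerm a a))⁻¹ * (e₁ ≫ D.u a) = RedCell16.W₁ D' a := fun a => by
    have := RedCell16.pinned_Wy D e₁ he₁
      (fun c => (e₁ ≫ D.u c) * (e₁ ≫ D.u (D.P.reflectionPerm c c))⁻¹ * (e₁ ≫ D.u c)) (fun c => rfl) a (𝟙_ (Over S))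
    rw [show toUnit (𝟙_ (Over S)) = 𝟙 _ from Subsingleton.elim _ _, Category.id_comp] at this
    exact this
  have hP : ∀ (c : D.idx) (X : Over S) (x : X ⟶ Red.Ga S),
      x ≫ v c = RedCell16.cj (toUnit X ≫ g c) (RankOne.P (D.u (av c)) (Red.gaFn x)) := fun c X x => by
    rw [RankOne.comp_eq_P (v c) x, RedCell16.P_comp_kap]
  refine ⟨v, fun c => RedCell16.isRootHom_kap D' D.base (lw c) (hEl c) (av c) c (hca c), fun a ha => ?_, fun c => ?_⟩
  · obtain ⟨h1, h2⟩ := hsimple a ha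
    show D.u (av a) ≫ RedCell16.kap (RedCell16.Wd D' (lw a)) = _
    rw [h1, h2, RedCell16.comp_kap]
    simp [RedCell16.cj, RedCell16.Wd]
  let u' := D.u (D.P.reflectionPerm (av c) (av c))
  haveI := (D.rootHom (D.P.reflectionPerm (av c) (av c))).1
  refine ⟨u' ≫ RedCell16.kap (g c), inferInstance, fun X x y hu => ?_, fun b => ?_⟩
  · obtain ⟨x', y', z, h1, h2, h3, h4⟩ := (E (hav c)).hF X x y hu
    refine ⟨x', y', z, h1, h2, h3, ?_⟩
    have h5 := congrArg (RedCell16.cj (toUnit X ≫ g c)) h4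
    rw [RedCell16.cj_mul, RedCell16.cj_mul, RedCell16.cj_mul, RankOne.comp_eq_A D.i (RedCell16.coChar D' (av c)) z,
      RedCell16.cj_Wd_Ac D' (lw c) (hEl c) (av c) (GmPts.unitOfPt z), hca c] at h5
    rw [← Category.assoc y u', ← Category.assoc y' u', RedCell16.comp_kap, RedCell16.comp_kap, hP, hP,
      ← RankOne.comp_eq_P (D.u (av c)) x, ← RankOne.comp_eq_P (D.u (av c)) x', RankOne.comp_eq_A D.i (avc c) z, havc]
    exact h5
  · have hn : (e₁ ≫ v c) * (e₁ ≫ u' ≫ RedCell16.kap (g c))⁻¹ * (e₁ ≫ v c) =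
        g c * RedCell16.W₁ D' (av c) * (g c)⁻¹ := by
      rw [hP, ← RankOne.comp_eq_P (D.u (av c)) e₁, ← Category.assoc, RedCell16.comp_kap,
        show toUnit (𝟙_ (Over S)) = 𝟙 _ from Subsingleton.elim _ _, Category.id_comp, ← hWy]
      simp only [RedCell16.cj, u']
      group
    set d := D.P.reflectionPerm c b with hd
    set n := g c * RedCell16.W₁ D' (av c) * (g c)⁻¹ with hn'
    have hr : ∀ c, RedCell16.Rel D (g c) (RootDLib.wprod D.P (lw c)) := fun c => RedCell16.Rel.word D (hlw c)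
    have hW : RedCell16.Rel D (RedCell16.W₁ D' (av c)) (RootPairing.Equiv.reflection D.P (av c)) := by
      have := RedCell16.Rel.word D (l := [av c]) (fun x hx => by rw [List.mem_singleton] at hx; rw [hx]; exact hav c)
      simpa [RedCell16.Wd] using this
    have hn2 : RedCell16.Rel D n (RootPairing.Equiv.reflection D.P c) := by
      have := ((hr c).mul D avc havc hpair hW).mul D avc havc hpair ((hr c).inv D avc havc hpair)
      rwa [RootDLib.conj_reflection, hca c] at this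
    have hh := (((hr d).inv D avc havc hpair).mul D avc havc hpair hn2).mul D avc havc hpair (hr b)
    obtain ⟨ε, hε, hs⟩ := hh.sgn D avc havc hpair (hav b) (hav d) (by
      rw [mul_smul, mul_smul, hca b, RootDLib.refl_smul, ← hd, inv_smul_eq_iff, hca d])
    refine ⟨ε, hε, fun X x y hy => ?_⟩
    rw [hn, hP, hP, hy, ← hs, RedCell16.cj_cj]
    show RedCell16.cj (toUnit X ≫ n) (RedCell16.cj (toUnit X ≫ g b) _) = _
    rw [RedCell16.cj_cj, ← MonObj.comp_mul, ← MonObj.comp_mul,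
      show g d * ((g d)⁻¹ * n * g b) = n * g b by simp only [_root_.mul_assoc, mul_inv_cancel_left]]

end Groth.Agent.S8472
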