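import Groth.Statements.S8473
import Groth.Agent.Lib.PtsDetect19.Basic
import Groth.Agent.Lib.TorPts21.Max
import Groth.Agent.Lib.GaPts.Basic
import Groth.Agent.Lib.GrpUnr20.Basic
import Groth.Agent.Lib.AbRigid.Maximal
import Groth.Agent.Lib.AbRigid.SmoothGI
import Groth.Agent.Lib.EtStalk.FiniteSplit

set_option autoImplicit false
universe u
open CategoryTheory MonoidalCategory CartesianMonoidalCategory MonObj GrpObj AlgebraicGeometry CategoryTheory.Limits
open Red

namespace Groth.Agent.S8473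

set_option linter.style.haveILetI false
set_option backward.isDefEq.respectTransparency.types false
open Groth.Agent

/-- Let k be an algebraically closed field, T a k-torus, α : T ⟶ 𝔾_m a non-trivial character and P the
semi-direct product T ⋉_α 𝔾_a, given as a k-group P with homomorphisms j_T : T ⟶ P and j_U : 𝔾_a ⟶ P
such that (t, x) ↦ j_T(t) j_U(x) is an isomorphism of schemes T × 𝔾_a ≅ P and j_T(t) j_U(x) j_T(t)⁻¹
= j_U(α(t) x). Let n : N ⟶ P be a normal subgroup scheme which is étale over k and such that N ∩ T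
is trivial (a point of N whose image is in j_T(T) is the unit). Then N is the trivial group. -/
theorem result (K : Type u) [Field K] [IsAlgClosed K]
    (T P N : Over (Spec (CommRingCat.of K))) [GrpObj T] [GrpObj P] [GrpObj N] (hT : Red.IsTorus T)
    (α : T ⟶ Red.Gm (Spec (CommRingCat.of K))) [IsMonHom α] (hα : α ≠ 1)
    (jT : T ⟶ P) [IsMonHom jT] (jU : Red.Ga (Spec (CommRingCat.of K)) ⟶ P) [IsMonHom jU] (hiso : IsIso ((jT ⊗ₘ jU) ≫ μ[P]))
    (hconj : ∀ (X : Over (Spec (CommRingCat.of K))) (t : X ⟶ T) (x x' : X ⟶ Red.Ga (Spec (CommRingCat.of K))), Red.gaFn x' = Red.gmFn (t ≫ α) * Red.gaFn x →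
      (t ≫ jT) * (x ≫ jU) * (t ≫ jT)⁻¹ = x' ≫ jU)
    (n : N ⟶ P) [IsMonHom n] [Mono n] (hn : AlgGrp.IsNormalHom n) (het : Etale N.hom)
    (hNT : ∀ (X : Over (Spec (CommRingCat.of K))) (t : X ⟶ T) (m : X ⟶ N), t ≫ jT = m ≫ n → m = 1) :
    Red.IsTrivialGrp N := by
  obtain ⟨-, hTs, hTc, -⟩ := TorPts21.props_of_isTorus hT
  haveI := hTs
  haveI := hTc
  haveI : GeometricallyReduced T.hom := AbRigid.geometricallyReduced_of_smooth _
  haveI : Subsingleton ↥(Spec (CommRingCat.of K)) := inferInstanceAs (Subsingleton (PrimeSpectrum K))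
  haveI : LocallyQuasiFinite N.hom := FiniteSplit.locallyQuasiFinite_of_etale N.hom
  haveI : DiscreteTopology N.left := isDiscrete_univ_iff.1 (by
    have h := N.hom.isDiscrete_preimage_singleton (IsLocalRing.closedPoint K : Spec (CommRingCat.of K))
    have hu : N.hom ⁻¹' {(IsLocalRing.closedPoint K : Spec (CommRingCat.of K))} = Set.univ :=
      Set.eq_univ_of_forall fun _ => Subsingleton.elim _ _
    exact hu ▸ h)
  haveI : IsSeparated (Red.Gm (Spec (CommRingCat.of K))).hom := AbRigid.isSeparated_of_grpObj _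
  -- rational points are determined by their images
  have hext : ∀ a b : 𝟙_ (Over (Spec (CommRingCat.of K))) ⟶ N,
      a.left (IsLocalRing.closedPoint K) = b.left (IsLocalRing.closedPoint K) → a = b := fun a b h =>
    Over.OverMorphism.ext (ext_of_apply_closedPoint_eq N.hom (Over.w a) (Over.w b) h)
  -- rational points of `N` are trivial
  have hpts : ∀ m : 𝟙_ (Over (Spec (CommRingCat.of K))) ⟶ N, m = 1 := by
    intro m
    obtain ⟨c, hc⟩ := hn T jT (toUnit T ≫ m)
    have hfix : ∀ τ : 𝟙_ (Over (Spec (CommRingCat.of K))) ⟶ T,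
        (τ ≫ jT) * (m ≫ n) * (τ ≫ jT)⁻¹ = m ≫ n := by
      have hval : ∀ τ : 𝟙_ (Over (Spec (CommRingCat.of K))) ⟶ T,
          (τ ≫ jT) * (m ≫ n) * (τ ≫ jT)⁻¹ = (τ ≫ c) ≫ n := by
        intro τ
        rw [Category.assoc τ, ← hc, MonObj.comp_mul, MonObj.comp_mul, GrpObj.comp_inv,
          Category.assoc (toUnit T), ← Category.assoc τ (toUnit T), Subsingleton.elim (τ ≫ toUnit T) (𝟙 _),
          Category.id_comp]
      have h1 : (1 : 𝟙_ (Over (Spec (CommRingCat.of K))) ⟶ T) ≫ c = m := by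
        rw [← cancel_mono n, ← hval, MonObj.one_comp]
        simp
      intro τ
      rw [hval]
      congr 1
      refine Eq.trans ?_ h1
      refine hext _ _ ?_
      rw [Over.comp_left, Over.comp_left, Scheme.Hom.comp_apply, Scheme.Hom.comp_apply]
      exact PreconnectedSpace.constant inferInstance c.left.continuous
    haveI := hiso
    let p := (m ≫ n) ≫ inv ((jT ⊗ₘ jU) ≫ μ[P])
    have hp : m ≫ n = ((p ≫ fst _ _) ≫ jT) * ((p ≫ snd _ _) ≫ jU) := by
      rw [Hom.mul_def, ← lift_map_assoc, ← comp_lift, lift_fst_snd, Category.comp_id]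
      simp [p]
    generalize p ≫ fst _ _ = t at hp
    generalize p ≫ snd _ _ = x at hp
    obtain ⟨τ, hτ⟩ : ∃ τ : 𝟙_ (Over (Spec (CommRingCat.of K))) ⟶ T, τ ≫ α ≠ 1 := by
      by_contra hcon
      push Not at hcon
      refine hα (PtsDetect19.hom_ext_points K α 1 fun w => ?_)
      let u₀ : 𝟙_ (Over (Spec (CommRingCat.of K))) ⟶ PtsDetect19.sp (k := K) K := Over.homMk (𝟙 _) (by
        show 𝟙 _ ≫ Spec.map (CommRingCat.ofHom (algebraMap K K)) = 𝟙 _
        rw [Category.id_comp]
        exact Spec.map_id _)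
      haveI : IsIso u₀ := ⟨toUnit _, Subsingleton.elim _ _, Over.OverMorphism.ext (by
        show (toUnit (PtsDetect19.sp (k := K) K)).left ≫ 𝟙 _ = 𝟙 _
        rw [Category.comp_id, Over.toUnit_left]
        exact Spec.map_id _)⟩
      rw [← cancel_epi u₀, ← Category.assoc, hcon, MonObj.comp_one, MonObj.comp_one]
    let x' : 𝟙_ (Over (Spec (CommRingCat.of K))) ⟶ Red.Ga (Spec (CommRingCat.of K)) :=
      GaPts.ptOfFn (Red.gmFn (τ ≫ α) * Red.gaFn x)
    have hx' := hconj _ τ x x' (GaPts.gaFn_ptOfFn _)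
    have hcomb : (τ * t * τ⁻¹ = t) ∧ x' = x := by
      have e : ((τ * t * τ⁻¹) ≫ jT) * (x' ≫ jU) = (t ≫ jT) * (x ≫ jU) := by
        rw [← hp, ← hfix τ, hp, ← hx', MonObj.mul_comp, MonObj.mul_comp, GrpObj.inv_comp]
        group
      have key : ∀ (a : 𝟙_ (Over (Spec (CommRingCat.of K))) ⟶ T) (b : 𝟙_ (Over (Spec (CommRingCat.of K))) ⟶
          Red.Ga (Spec (CommRingCat.of K))),
          (a ≫ jT) * (b ≫ jU) = lift a b ≫ (jT ⊗ₘ jU) ≫ μ[P] := fun a b => by
        rw [Hom.mul_def, lift_map_assoc]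
      rw [key, key, cancel_mono] at e
      exact ⟨by simpa using congrArg (· ≫ fst _ _) e, by simpa using congrArg (· ≫ snd _ _) e⟩
    have hzero : Red.gaFn x = 0 := by
      have h := congrArg Red.gaFn hcomb.2
      rw [GaPts.gaFn_ptOfFn] at h
      have h2 : (Red.gmFn (τ ≫ α) - 1) * Red.gaFn x = 0 := by rw [sub_mul, h, _root_.one_mul, sub_self]
      haveI : IsDomain Γ((𝟙_ (Over (Spec (CommRingCat.of K)))).left, ⊤) :=
        MulEquiv.isDomain K (Scheme.ΓSpecIso (CommRingCat.of K)).commRingCatIsoToRingEquiv.toMulEquiv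
      rcases mul_eq_zero.1 h2 with h3 | h3
      · exact absurd (GmPts.gmFn_injective (by
          show Red.gmFn (τ ≫ α) = Red.gmFn 1
          rw [GmPts.gmFn_one, ← sub_eq_zero, h3])) hτ
      · exact h3
    have hx1 : x = 1 := GaPts.gaFn_injective (by
      show Red.gaFn x = Red.gaFn 1
      rw [hzero, GaPts.gaFn_one])
    rw [hx1, MonObj.one_comp, _root_.mul_one] at hp
    exact hNT _ t m hp.symm
  -- a single point
  haveI : IsOpenImmersion η[N].left := GrpUnr20.isOpenImmersion_unit N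
  haveI : JacobsonSpace N.left := LocallyOfFiniteType.jacobsonSpace (Y := Spec _) N.hom
  haveI : Surjective η[N].left := ⟨fun y => by
    refine ⟨(IsLocalRing.closedPoint K : Spec (CommRingCat.of K)), ?_⟩
    let m : 𝟙_ (Over (Spec (CommRingCat.of K))) ⟶ N :=
      Over.homMk (pointOfClosedPoint N.hom y (isClosed_discrete _)) (by simp)
    have h := congrArg (fun z : 𝟙_ (Over (Spec (CommRingCat.of K))) ⟶ N => z.left (IsLocalRing.closedPoint K)) (hpts m)
    simp only [Hom.one_def, toUnit_unique (toUnit _) (𝟙 _), Category.id_comp] at h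
    simpa [m] using h.symm⟩
  haveI : IsIso η[N].left := (isIso_iff_isOpenImmersion_and_epi_base η[N].left).2
    ⟨inferInstance, (TopCat.epi_iff_surjective _).2 η[N].left.surjective⟩
  show IsIso N.hom
  refine ⟨η[N].left, ?_, Over.w η[N]⟩
  rw [← cancel_epi η[N].left, reassoc_of% (Over.w η[N])]
  exact (Category.id_comp _).trans (Category.comp_id _).symm

end Groth.Agent.S8473
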