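import Groth.Statements.S8477
import Groth.Agent.Lib.RedCell16.WordStep

set_option linter.style.haveILetI false
set_option backward.isDefEq.respectTransparency false
set_option backward.isDefEq.respectTransparency.types false
-- import your own Groth.Agent.* helpers here

set_option autoImplicit false
universe u
open CategoryTheory MonoidalCategory CartesianMonoidalCategory MonObj GrpObj AlgebraicGeometry CategoryTheory.Limits
open Red

namespace Groth.Agent.S8477

/-- At the level of root groups: Let G be a pinned reductive S-group: a splitting D (maximal torus T ≅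
D_S(M), root datum with root homomorphisms u_c : 𝔾_a ⟶ G for all roots c, system of simple roots Δ)
such that for every simple root a the root homomorphisms of a and -a are dual to each other: u_a(x)
u_{-a}(y) = u_{-a}(y/(1+xy)) · a^∨(1+xy) · u_a(x/(1+xy)) whenever 1 + xy is invertible, where a^∨ :
𝔾_m ⟶ T is the coroot of a read through the splitting. For a root a put w_a = u_a(1) u_{-a}(-1)
u_a(1) (an S-point of G). Let l = (a₁, …, aₙ) be a list of simple roots and a, a₀ simple roots with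
s_{a₁} ∘ ⋯ ∘ s_{aₙ} (a) = a₀ (as a permutation of the roots). Then there is a sign ε ∈ {1, -1} such
that (w_{a₁} ⋯ w_{aₙ}) u_a(x) (w_{a₁} ⋯ w_{aₙ})⁻¹ = u_{a₀}(ε x) for all points x of 𝔾_a. -/
theorem result (S : Scheme.{u}) (e₁ : 𝟙_ (Over S) ⟶ Red.Ga S) (he₁ : Red.gaFn e₁ = 1)
    (G : Over S) [GrpObj G] (D : Red.Pinning G)
    (avc : D.idx → (Red.Gm S ⟶ D.T))
    (havc : ∀ a, avc a = Red.DSmap S (D.P.coroot a).toAddMonoidHom ≫ D.split.inv.hom.hom)
    (hpair : ∀ a ∈ D.base.support, ∀ (X : Over S) (x y : X ⟶ Red.Ga S), IsUnit (1 + Red.gaFn x * Red.gaFn y) →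
        ∃ (x' y' : X ⟶ Red.Ga S) (z : X ⟶ Red.Gm S), Red.gmFn z = 1 + Red.gaFn x * Red.gaFn y ∧
          Red.gaFn x' * Red.gmFn z = Red.gaFn x ∧ Red.gaFn y' * Red.gmFn z = Red.gaFn y ∧
          (x ≫ D.u a) * (y ≫ D.u (D.P.reflectionPerm a a)) = (y' ≫ D.u (D.P.reflectionPerm a a)) * (z ≫ avc a ≫ D.i) * (x' ≫ D.u a))
    (w : D.idx → (𝟙_ (Over S) ⟶ G))
    (hw : ∀ a, w a = (e₁ ≫ D.u a) * (e₁ ≫ D.u (D.P.reflectionPerm a a))⁻¹ * (e₁ ≫ D.u a))
    (l : List D.idx) (hl : ∀ c ∈ l, c ∈ D.base.support) (a a₀ : D.idx) (ha : a ∈ D.base.support) (ha₀ : a₀ ∈ D.base.support)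
    (hw₀ : (l.map D.P.reflectionPerm).prod a = a₀) :
    ∃ ε : ℤ, (ε = 1 ∨ ε = -1) ∧ ∀ (X : Over S) (x y : X ⟶ Red.Ga S), Red.gaFn y = (ε : Γ(X.left, ⊤)) * Red.gaFn x →
      (toUnit X ≫ (l.map w).prod) * (x ≫ D.u a) * (toUnit X ≫ (l.map w).prod)⁻¹ = y ≫ D.u a₀ := by
  rcases isEmpty_or_nonempty S with hS | ⟨⟨s⟩⟩
  · exact ⟨1, Or.inl rfl, fun X x y _ => (RedCell16.hom_subsingleton X G).2.elim _ _⟩
  haveI : D.P.IsReduced := RedCell16.isReduced D.toSplitRed s
  have he : RootDLib.wprod D.P l • a = a₀ := by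
    rw [← RootComb21.wordPerm_apply]; exact hw₀
  obtain ⟨ε, hε, h⟩ := RedCell16.word_sign D avc havc hpair l hl ha ha₀ he
  refine ⟨ε, hε, fun X x y hy => ?_⟩
  have hW : l.map w = l.map (RedCell16.W₁ D.toSplitRed) := List.map_congr_left fun c _ => by
    have := RedCell16.pinned_Wy D e₁ he₁ w hw c (𝟙_ (Over S))
    rw [show toUnit (𝟙_ (Over S)) = 𝟙 _ from Subsingleton.elim _ _, Category.id_comp] at this
    exact this
  rw [hW, RankOne.comp_eq_P (D.u a) x, RankOne.comp_eq_P (D.u a₀) y, hy]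
  exact h X _

end Groth.Agent.S8477
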