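import Groth.Statements.S8478
import Groth.Agent.Lib.RankOne16.Hom

set_option linter.style.haveILetI false
set_option backward.isDefEq.respectTransparency false
set_option backward.isDefEq.respectTransparency.types false
-- import your own Groth.Agent.* helpers here

set_option autoImplicit false
universe u
open CategoryTheory MonoidalCategory CartesianMonoidalCategory MonObj GrpObj AlgebraicGeometry CategoryTheory.Limits
open Red

namespace Groth.Agent.S8478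

/-- Let (G, T, α, p₊, p₋, α^*) and (G', T', α', p'₊, p'₋, α'^*) be two rank-one systems over S: G
reductive, i : T ⟶ G a maximal torus, α a character of T non-trivial on every geometric fibre, p₊,
p₋ : 𝔾_a ⟶ G monomorphisms normalised by T with multipliers α, α⁻¹ whose cell map (y, t, x) ↦ p₋(y)
i(t) p₊(x) is an open immersion, α^* : 𝔾_m ⟶ T with α ∘ α^* the squaring map and p₊(x) p₋(y) =
p₋(y/(1+xy)) · i(α^*(1+xy)) · p₊(x/(1+xy)) whenever 1 + xy is invertible; likewise for the primed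
data. Let q > 0 be an integer such that x ↦ x^q is additive on all functions of S-schemes. Let c be
an S-point of 𝔾_m and f : G ⟶ G' a homomorphism with f(p₊(x)) = p'₊(c x^q) for all points x of 𝔾_a.
Write w(x) = p₊(x) p₋(-x⁻¹) p₊(x) and w'(x) = p'₊(x) p'₋(-x⁻¹) p'₊(x) for points x with invertible
coordinate. Then the following are equivalent: (i) f(i(α^*(z))) = i'(α'^*(z))^q for all points z of
𝔾_m; (ii) f(w(x)) = w'(c x^q) for all x with invertible coordinate; (iii) f(p₋(y)) = p'₋(c⁻¹ y^q)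
for all points y. -/
theorem result (S : Scheme.{u}) (G T : Over S) [GrpObj G] [GrpObj T] (i : T ⟶ G) [IsMonHom i] [Mono i] (hG : Red.IsReductive G) (hTm : Red.IsMaximalTorus i)
    (α : T ⟶ Red.Gm S) [IsMonHom α] (hα : ∀ s : S, (Over.pullback (Red.geomPt s)).map α ≠ 1)
    (pp pm : Red.Ga S ⟶ G) [IsMonHom pp] [Mono pp] [IsMonHom pm] [Mono pm]
    (hpp : ∀ (X : Over S) (t : X ⟶ T) (x : X ⟶ Red.Ga S), ∃ x' : X ⟶ Red.Ga S,
      x' ≫ pp = (t ≫ i) * (x ≫ pp) * (t ≫ i)⁻¹ ∧ Red.gaFn x' = Red.gmFn (t ≫ α) * Red.gaFn x)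
    (hpm : ∀ (X : Over S) (t : X ⟶ T) (y : X ⟶ Red.Ga S), ∃ y' : X ⟶ Red.Ga S,
      y' ≫ pm = (t ≫ i) * (y ≫ pm) * (t ≫ i)⁻¹ ∧ Red.gaFn y' * Red.gmFn (t ≫ α) = Red.gaFn y)
    (hΩ : IsOpenImmersion (((pm ⊗ₘ i) ⊗ₘ pp) ≫ (μ[G] ▷ G) ≫ μ[G]).left)
    (av : Red.Gm S ⟶ T) [IsMonHom av] (h2 : av ≫ α = (𝟙 (Red.Gm S)) ^ 2)
    (hF : ∀ (X : Over S) (x y : X ⟶ Red.Ga S), IsUnit (1 + Red.gaFn x * Red.gaFn y) →
      ∃ (x' y' : X ⟶ Red.Ga S) (z : X ⟶ Red.Gm S), Red.gmFn z = 1 + Red.gaFn x * Red.gaFn y ∧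
        Red.gaFn x' * Red.gmFn z = Red.gaFn x ∧ Red.gaFn y' * Red.gmFn z = Red.gaFn y ∧
        (x ≫ pp) * (y ≫ pm) = (y' ≫ pm) * (z ≫ av ≫ i) * (x' ≫ pp))
    (G' T' : Over S) [GrpObj G'] [GrpObj T'] (i' : T' ⟶ G') [IsMonHom i'] [Mono i'] (hG' : Red.IsReductive G') (hTm' : Red.IsMaximalTorus i')
    (α' : T' ⟶ Red.Gm S) [IsMonHom α'] (hα' : ∀ s : S, (Over.pullback (Red.geomPt s)).map α' ≠ 1)
    (pp' pm' : Red.Ga S ⟶ G') [IsMonHom pp'] [Mono pp'] [IsMonHom pm'] [Mono pm']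
    (hpp' : ∀ (X : Over S) (t : X ⟶ T') (x : X ⟶ Red.Ga S), ∃ x' : X ⟶ Red.Ga S,
      x' ≫ pp' = (t ≫ i') * (x ≫ pp') * (t ≫ i')⁻¹ ∧ Red.gaFn x' = Red.gmFn (t ≫ α') * Red.gaFn x)
    (hpm' : ∀ (X : Over S) (t : X ⟶ T') (y : X ⟶ Red.Ga S), ∃ y' : X ⟶ Red.Ga S,
      y' ≫ pm' = (t ≫ i') * (y ≫ pm') * (t ≫ i')⁻¹ ∧ Red.gaFn y' * Red.gmFn (t ≫ α') = Red.gaFn y)
    (hΩ' : IsOpenImmersion (((pm' ⊗ₘ i') ⊗ₘ pp') ≫ (μ[G'] ▷ G') ≫ μ[G']).left)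
    (av' : Red.Gm S ⟶ T') [IsMonHom av'] (h2' : av' ≫ α' = (𝟙 (Red.Gm S)) ^ 2)
    (hF' : ∀ (X : Over S) (x y : X ⟶ Red.Ga S), IsUnit (1 + Red.gaFn x * Red.gaFn y) →
      ∃ (x' y' : X ⟶ Red.Ga S) (z : X ⟶ Red.Gm S), Red.gmFn z = 1 + Red.gaFn x * Red.gaFn y ∧
        Red.gaFn x' * Red.gmFn z = Red.gaFn x ∧ Red.gaFn y' * Red.gmFn z = Red.gaFn y ∧
        (x ≫ pp') * (y ≫ pm') = (y' ≫ pm') * (z ≫ av' ≫ i') * (x' ≫ pp'))
    (q : ℕ) (hq0 : 0 < q) (hq : ∀ (X : Over S) (a b : Γ(X.left, ⊤)), (a + b) ^ q = a ^ q + b ^ q) (c : 𝟙_ (Over S) ⟶ Red.Gm S) (f : G ⟶ G') [IsMonHom f]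
    (hf : ∀ (X : Over S) (x y : X ⟶ Red.Ga S), Red.gaFn y = Red.gmFn (toUnit X ≫ c) * Red.gaFn x ^ q →
      (x ≫ pp) ≫ f = y ≫ pp') :
    [∀ (X : Over S) (z : X ⟶ Red.Gm S), (z ≫ av ≫ i) ≫ f = ((z ≫ av') ^ q) ≫ i',
      ∀ (X : Over S) (x x' y y' : X ⟶ Red.Ga S), Red.gaFn x' * Red.gaFn x = -1 →
        Red.gaFn y = Red.gmFn (toUnit X ≫ c) * Red.gaFn x ^ q → Red.gaFn y' * Red.gaFn y = -1 →
        ((x ≫ pp) * (x' ≫ pm) * (x ≫ pp)) ≫ f = (y ≫ pp') * (y' ≫ pm') * (y ≫ pp'),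
      ∀ (X : Over S) (x y : X ⟶ Red.Ga S), Red.gaFn y * Red.gmFn (toUnit X ≫ c) = Red.gaFn x ^ q →
        (x ≫ pm) ≫ f = y ≫ pm'].TFAE := by
  have hT' : Red.IsTorus T' := hTm'.2.2.1
  have D : RankOne.Datum i α pp pm av := ⟨‹_›, ‹_›, ‹_›, ‹_›, hpp, hpm, h2, hF⟩
  have D' : RankOne.Datum i' α' pp' pm' av' := ⟨‹_›, ‹_›, ‹_›, ‹_›, hpp', hpm', h2', hF'⟩
  have hR' : RankOne16.Rig G' := RankOne16.Rig.of_isReductive hG'
  have hP : RankOne16.CompatP f c q pp pp' := (RankOne16.compatP_iff f c q).2 hf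
  have hpw : ∀ (X : Over S) (z : X ⟶ Red.Gm S),
      ((z ≫ av') ^ q) ≫ i' = RankOne.A i' av' (GmPts.unitOfPt z ^ q) := fun X z => by
    have h := RankOne16.zpow_av_i (i := i') (av := av') z (q : ℤ)
    simpa only [zpow_natCast] using h
  tfae_have 1 → 3 := fun h => by
    rw [← RankOne16.compatM_iff f c q]
    refine RankOne16.compatM_of_compatA f c q hq0 hq D D' hT' hΩ' hR' hP fun X v => ?_
    rw [RankOne.A, h X (GmPts.ptOfUnit v), hpw, GmPts.unitOfPt_ptOfUnit]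
  tfae_have 3 → 1 := fun h X z => by
    rw [RankOne.comp_eq_A, hpw, RankOne16.compatA_of_compatM f c q hq0 hq D D' hP
      ((RankOne16.compatM_iff f c q).2 h) X]
  tfae_have 3 → 2 := fun h X x x' y y' hxx hy hyy => by
    have hM := (RankOne16.compatM_iff f c q).2 h
    simp only [RankOne.comp_eq_P pp, RankOne.comp_eq_P pm, RankOne.comp_eq_P pp', RankOne.comp_eq_P pm']
    refine (RankOne16.compat_w f c q hq0 hq hP hM (Red.gaFn x) (Red.gaFn x')).trans ?_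
    rw [← RankOne16.val_cU] at hy
    rw [← hy]
    unfold RankOne.w
    congr 3
    have h1 : Red.gaFn y' * ((RankOne16.cU c X : Γ(X.left, ⊤)) * Red.gaFn x ^ q) = -1 := by rw [← hy]; exact hyy
    have h2 : (Red.gaFn x' * Red.gaFn x) ^ q = -1 := by rw [hxx, RankOne16.neg_one_pow q hq0 hq]
    rw [mul_pow] at h2
    have hu := Units.mul_inv (RankOne16.cU c X)
    linear_combination (((RankOne16.cU c X)⁻¹ : (Γ(X.left, ⊤))ˣ) : Γ(X.left, ⊤)) * Red.gaFn x' ^ q * h1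
      - Red.gaFn y' * h2 - Red.gaFn y' * Red.gaFn x' ^ q * Red.gaFn x ^ q * hu
  tfae_have 2 → 3 := fun h => by
    rw [← RankOne16.compatM_iff f c q]
    refine RankOne16.compatM_of_W f c q hq0 hq D D' hP fun X => ?_
    have h1 := h X (GaPts.ptOfFn 1) (GaPts.ptOfFn (-1)) (GaPts.ptOfFn (RankOne16.cU c X : Γ(X.left, ⊤)))
      (GaPts.ptOfFn (-(((RankOne16.cU c X)⁻¹ : (Γ(X.left, ⊤))ˣ) : Γ(X.left, ⊤))))
    simp only [GaPts.gaFn_ptOfFn] at h1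
    rw [← RankOne16.w_cU c q hq0 hq D']
    exact h1 (by simp) (by rw [← RankOne16.val_cU, one_pow, _root_.mul_one]) (by simp)
  tfae_finish

end Groth.Agent.S8478
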