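import Groth.Statements.S8479
import Groth.Agent.Lib.RedCell16.ChevPair

set_option linter.style.haveILetI false
set_option backward.isDefEq.respectTransparency false
set_option backward.isDefEq.respectTransparency.types false
-- import your own Groth.Agent.* helpers here

set_option autoImplicit false
universe u
open CategoryTheory MonoidalCategory CartesianMonoidalCategory MonObj GrpObj AlgebraicGeometry CategoryTheory.Limits
open Red

namespace Groth.Agent.S8479

/-- The cases (p, q) = (1,1), (2,1), (3,1) of the table. Let G be a split reductive S-group with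
splitting D (torus T ≅ D_S(M), root datum) and a Chevalley system at the level of root groups: for
every root c a root homomorphism v_c : 𝔾_a ⟶ G (normalised by T through the character of c) with a
dual root homomorphism v_c⁻ (v_c(x) v_c⁻(y) = v_c⁻(y/(1+xy)) c^∨(1+xy) v_c(x/(1+xy)) for 1 + xy
invertible), such that with n_c = v_c(1) v_c⁻(1)⁻¹ v_c(1) one has, for all roots c, b, n_c v_b(x)
n_c⁻¹ = v_{s_c(b)}(± x) for a sign depending on (c, b). Let a, b be two linearly independent roots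
with |⟨a, b^∨⟩| ≤ |⟨b, a^∨⟩| (a is not longer than b). Suppose a + b is a root, with index c, and b
+ 2a is not a root (q = 1); let p ≥ 1 be such that b - k a is a root for k < p and b - p a is not a
root. Then there is a sign ε ∈ {1, -1} with v_b(y) v_a(x) v_b(y)⁻¹ v_a(x)⁻¹ = v_c(ε p x y) for all
points x, y of 𝔾_a. -/
theorem result (S : Scheme.{u}) (e₁ : 𝟙_ (Over S) ⟶ Red.Ga S) (he₁ : Red.gaFn e₁ = 1)
    (G : Over S) [GrpObj G] (D : Red.SplitRed G)
    (avc : D.idx → (Red.Gm S ⟶ D.T))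
    (havc : ∀ a, avc a = Red.DSmap S (D.P.coroot a).toAddMonoidHom ≫ D.split.inv.hom.hom)
    (v vd : D.idx → (Red.Ga S ⟶ G)) (hv : ∀ c, Red.IsRootHom D.i (D.split.hom.hom.hom ≫ Red.chi S (D.P.root c)) (v c))
    (hvd : ∀ c, IsMonHom (vd c) ∧ ∀ (X : Over S) (x y : X ⟶ Red.Ga S), IsUnit (1 + Red.gaFn x * Red.gaFn y) →
        ∃ (x' y' : X ⟶ Red.Ga S) (z : X ⟶ Red.Gm S), Red.gmFn z = 1 + Red.gaFn x * Red.gaFn y ∧
          Red.gaFn x' * Red.gmFn z = Red.gaFn x ∧ Red.gaFn y' * Red.gmFn z = Red.gaFn y ∧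
          (x ≫ v c) * (y ≫ vd c) = (y' ≫ vd c) * (z ≫ avc c ≫ D.i) * (x' ≫ v c))
    (n : D.idx → (𝟙_ (Over S) ⟶ G)) (hn : ∀ c, n c = (e₁ ≫ v c) * (e₁ ≫ vd c)⁻¹ * (e₁ ≫ v c))
    (hSC : ∀ c b, ∃ ε : ℤ, (ε = 1 ∨ ε = -1) ∧ ∀ (X : Over S) (x y : X ⟶ Red.Ga S),
      Red.gaFn y = (ε : Γ(X.left, ⊤)) * Red.gaFn x →
        (toUnit X ≫ n c) * (x ≫ v b) * (toUnit X ≫ n c)⁻¹ = y ≫ v (D.P.reflectionPerm c b))
    (a b : D.idx) (hind : ∀ r s : ℤ, r • D.P.root a + s • D.P.root b = 0 → r = 0 ∧ s = 0)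
    (hlen : |D.P.pairing a b| ≤ |D.P.pairing b a|)
    (c : D.idx) (hc : D.P.root c = D.P.root a + D.P.root b) (hq : D.P.root b + (2 : ℤ) • D.P.root a ∉ Set.range D.P.root)
    (p : ℕ) (hp1 : 1 ≤ p) (hpk : ∀ k : ℕ, k < p → D.P.root b - (k : ℤ) • D.P.root a ∈ Set.range D.P.root)
    (hp : D.P.root b - (p : ℤ) • D.P.root a ∉ Set.range D.P.root) :
    ∃ ε : ℤ, (ε = 1 ∨ ε = -1) ∧ ∀ (X : Over S) (x y z : X ⟶ Red.Ga S),
      Red.gaFn z = (ε : Γ(X.left, ⊤)) * (p : Γ(X.left, ⊤)) * Red.gaFn x * Red.gaFn y → (y ≫ v b) * (x ≫ v a) * (y ≫ v b)⁻¹ * (x ≫ v a)⁻¹ = z ≫ v c := by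
  rcases isEmpty_or_nonempty S with hS | ⟨⟨s⟩⟩
  · refine ⟨1, Or.inl rfl, fun X x y z _ => ?_⟩
    exact (RedCell16.hom_subsingleton X G).2.elim _ _
  haveI := D.fintypeIdx
  haveI : D.P.IsReduced := RedCell16.isReduced D s
  obtain ⟨b₀⟩ := RedCell16.nonempty_base D s
  haveI := fun c => (hv c).1
  obtain ⟨p', rfl⟩ : ∃ p' : ℕ, p = p' + 1 := ⟨p - 1, by omega⟩
  obtain ⟨hpair, hle⟩ := RedCell16.pairing_of_string hind p' 1 (hpk p' (by omega)) hp
    (by rw [Nat.cast_one, one_smul, add_comm]; exact ⟨c, hc⟩) (Or.inr (by simpa using hq))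
  obtain ⟨b', hb'⟩ := hpk p' (by omega)
  have hpb : D.P.pairing b' a = -(p' : ℤ) - 1 := by
    rw [← RootPairing.root_coroot'_eq_pairing, hb', map_sub, map_zsmul, RootPairing.root_coroot'_eq_pairing,
      RootPairing.root_coroot'_eq_pairing, RootPairing.pairing_same, hpair, smul_eq_mul]
    push_cast
    ring
  have hne : D.P.root b' ≠ -D.P.root a := fun e => by
    have := hind (1 - (p' : ℤ)) 1 (by rw [e] at hb'; rw [sub_smul, one_smul, one_smul, ← sub_eq_zero.2 hb'.symm]; abel)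
    omega
  have hp' : p' = 0 ∨ p' = 1 ∨ p' = 2 := by omega
  have hsub : D.P.root b' - D.P.root a ∉ Set.range D.P.root := by
    rw [hb', sub_sub, show (p' : ℤ) • D.P.root a + D.P.root a = ((p' + 1 : ℕ) : ℤ) • D.P.root a by
      push_cast; rw [add_smul, one_smul]]
    exact hp
  have hab1 : D.P.pairing a b' = -1 := by
    refine RedCell16.pairing_neg_one (p := (p' : ℤ) + 1) (by omega) (by rw [hpb]; ring) ?_ hne
    rcases Nat.eq_zero_or_pos p' with rfl | hp0
    · left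
      have eb : b' = b := D.P.root.injective (by simpa using hb')
      rw [eb]; exact hlen
    · right; omega
  have h : RedCell16.PairSys D.P a b' ((p' : ℤ) + 1) := ⟨by omega, hab1, by rw [hpb]; ring, hsub⟩
  obtain ⟨w, hw, Ea, Eb, hwa, hwb, hsgn⟩ := RedCell16.chev_frame D e₁ he₁ avc havc v vd hv hvd n hn hSC
    (a := a) (b := b') (fun e => by rw [← e, RootPairing.pairing_same] at hpb; omega)
    (fun e => hne (by rw [e, RootDLib.root_ng, neg_neg]))
  haveI : (RedCell16.withU D w hw).P.IsReduced := ‹D.P.IsReduced›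
  set d11 := D.P.reflectionPerm b' a
  obtain ⟨ε₁, hε₁, s₁⟩ := hsgn b' (Or.inr rfl) a
  obtain ⟨ε₂, hε₂, s₂⟩ := hsgn a (Or.inl rfl) d11
  obtain ⟨ε₃, hε₃, s₃⟩ := hsgn a (Or.inl rfl) b'
  have rc : D.P.root d11 = (1 : ℤ) • D.P.root a + (1 : ℤ) • D.P.root b' :=
    (h.root_refl_b (RedCell16.root_coords_a a b')).trans (by norm_num)
  rcases hp' with rfl | rfl | rfl
  · have eb : b' = b := D.P.root.injective (by simpa using hb')
    subst eb
    have e1 : c = d11 := RedCell16.eq_of_coords (by rw [hc]; simp) rc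
    refine ⟨ε₁, hε₁, fun X x y z hz => ?_⟩
    have k := RedCell16.A2_comm (D := RedCell16.withU D w hw) (by simpa using h) b₀ Eb X (Red.gaFn x) (Red.gaFn y)
    simp only [RedCell16.comm, hwa, hwb] at k
    rw [s₁] at k
    rw [RankOne.comp_eq_P (v b') y, RankOne.comp_eq_P (v a) x, RankOne.comp_eq_P (v c) z, k, hz, e1]
    congr 1
    push_cast
    ring
  · have eb : b = d11 := RedCell16.eq_of_coords (by rw [hb']; simp) rc
    have e1 : c = D.P.reflectionPerm a b' := RedCell16.eq_of_coords (by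
      rw [hc, hb']; simp only [Nat.cast_one, one_smul, two_smul]; abel)
      ((h.root_refl_a (RedCell16.root_coords_b a b')).trans
        (by norm_num : _ = (2 : ℤ) • D.P.root a + (1 : ℤ) • D.P.root b'))
    refine ⟨ε₁ * ε₃, by rcases hε₁ with rfl | rfl <;> rcases hε₃ with rfl | rfl <;> simp, fun X x y z hz => ?_⟩
    have hsq : (ε₁ : Γ(X.left, ⊤)) * ε₁ = 1 := by rcases hε₁ with rfl | rfl <;> simp
    obtain ⟨-, h2, -⟩ := RedCell16.B2_main (D := RedCell16.withU D w hw) (by simpa using h) b₀ Ea Eb X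
    have k := h2 (Red.gaFn x) ((ε₁ : Γ(X.left, ⊤)) * Red.gaFn y)
    simp only [hwa, hwb] at k
    rw [s₁, s₃, ← _root_.mul_assoc (ε₁ : Γ(X.left, ⊤)), hsq, _root_.one_mul] at k
    subst eb
    rw [RankOne.comp_eq_P (v d11) y, RankOne.comp_eq_P (v a) x, RankOne.comp_eq_P (v c) z, k, hz, e1]
    congr 1
    push_cast
    ring
  · have eb : b = D.P.reflectionPerm a d11 := RedCell16.eq_of_coords (by
      rw [hb', Nat.cast_ofNat]; simp only [one_smul]; abel)
      ((h.root_refl_a rc).trans (by norm_num : _ = (2 : ℤ) • D.P.root a + (1 : ℤ) • D.P.root b'))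
    have e1 : c = D.P.reflectionPerm a b' := RedCell16.eq_of_coords (by
      rw [hc, hb', Nat.cast_ofNat, show (3 : ℤ) = 2 + 1 from rfl, add_smul]; simp only [one_smul]; abel)
      ((h.root_refl_a (RedCell16.root_coords_b a b')).trans
        (by norm_num : _ = (3 : ℤ) • D.P.root a + (1 : ℤ) • D.P.root b'))
    refine ⟨-(ε₁ * ε₂ * ε₃), by
      rcases hε₁ with rfl | rfl <;> rcases hε₂ with rfl | rfl <;> rcases hε₃ with rfl | rfl <;> simp,
      fun X x y z hz => ?_⟩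
    have hsq : (ε₂ : Γ(X.left, ⊤)) * ((ε₁ : Γ(X.left, ⊤)) * ((ε₁ : Γ(X.left, ⊤)) * (ε₂ : Γ(X.left, ⊤)))) = 1 := by
      rcases hε₁ with rfl | rfl <;> rcases hε₂ with rfl | rfl <;> simp
    obtain ⟨-, -, k, -⟩ := RedCell16.G2_main (D := RedCell16.withU D w hw) (by simpa using h) b₀ Ea Eb X (Red.gaFn x)
      ((ε₁ : Γ(X.left, ⊤)) * (ε₂ : Γ(X.left, ⊤)) * Red.gaFn y)
    simp only [RedCell16.g31, RedCell16.g21, RedCell16.g11, hwa, hwb] at k
    rw [s₁, s₂, s₃] at k
    simp only [← _root_.mul_assoc (ε₁ : Γ(X.left, ⊤)), ← _root_.mul_assoc (ε₂ : Γ(X.left, ⊤))] at k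
    simp only [← _root_.mul_assoc] at hsq
    rw [hsq, _root_.one_mul] at k
    subst eb
    rw [RankOne.comp_eq_P (v (D.P.reflectionPerm a d11)) y, RankOne.comp_eq_P (v a) x, RankOne.comp_eq_P (v c) z, k, hz, e1]
    congr 1
    push_cast
    ring

end Groth.Agent.S8479
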