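import Groth.Statements.S8481
import Groth.Agent.Lib.RedCell16.ChevPair

set_option linter.style.haveILetI false
set_option backward.isDefEq.respectTransparency false
set_option backward.isDefEq.respectTransparency.types false
-- import your own Groth.Agent.* helpers here

set_option autoImplicit false
universe u
open CategoryTheory MonoidalCategory CartesianMonoidalCategory MonObj GrpObj AlgebraicGeometry CategoryTheory.Limits
open Red

namespace Groth.Agent.S8481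

/-- The case (p, q) = (1,3) of the table. Let G be a split reductive S-group with splitting D (torus T ≅
D_S(M), root datum) and a Chevalley system at the level of root groups: for every root c a root
homomorphism v_c : 𝔾_a ⟶ G (normalised by T through the character of c) with a dual root
homomorphism v_c⁻ (v_c(x) v_c⁻(y) = v_c⁻(y/(1+xy)) c^∨(1+xy) v_c(x/(1+xy)) for 1 + xy invertible),
such that with n_c = v_c(1) v_c⁻(1)⁻¹ v_c(1) one has, for all roots c, b, n_c v_b(x) n_c⁻¹ =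
v_{s_c(b)}(± x) for a sign depending on (c, b). Let a, b be two linearly independent roots with |⟨a,
b^∨⟩| ≤ |⟨b, a^∨⟩| (a is not longer than b). Suppose b - a is not a root and a + b, 2a + b, 3a + b,
3a + 2b are roots with indices c₁, c₂, c₃, c₄. Then there are signs ε₁, …, ε₄ ∈ {1, -1} with v_b(y)
v_a(x) v_b(y)⁻¹ v_a(x)⁻¹ = v_{c₁}(ε₁ x y) v_{c₂}(ε₂ x² y) v_{c₃}(ε₃ x³ y) v_{c₄}(ε₄ x³ y²) for all
points x, y of 𝔾_a. -/
theorem result (S : Scheme.{u}) (e₁ : 𝟙_ (Over S) ⟶ Red.Ga S) (he₁ : Red.gaFn e₁ = 1)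
    (G : Over S) [GrpObj G] (D : Red.SplitRed G)
    (avc : D.idx → (Red.Gm S ⟶ D.T))
    (havc : ∀ a, avc a = Red.DSmap S (D.P.coroot a).toAddMonoidHom ≫ D.split.inv.hom.hom)
    (v vd : D.idx → (Red.Ga S ⟶ G)) (hv : ∀ c, Red.IsRootHom D.i (D.split.hom.hom.hom ≫ Red.chi S (D.P.root c)) (v c))
    (hvd : ∀ c, IsMonHom (vd c) ∧ ∀ (X : Over S) (x y : X ⟶ Red.Ga S), IsUnit (1 + Red.gaFn x * Red.gaFn y) →
        ∃ (x' y' : X ⟶ Red.Ga S) (z : X ⟶ Red.Gm S), Red.gmFn z = 1 + Red.gaFn x * Red.gaFn y ∧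
          Red.gaFn x' * Red.gmFn z = Red.gaFn x ∧ Red.gaFn y' * Red.gmFn z = Red.gaFn y ∧
          (x ≫ v c) * (y ≫ vd c) = (y' ≫ vd c) * (z ≫ avc c ≫ D.i) * (x' ≫ v c))
    (n : D.idx → (𝟙_ (Over S) ⟶ G)) (hn : ∀ c, n c = (e₁ ≫ v c) * (e₁ ≫ vd c)⁻¹ * (e₁ ≫ v c))
    (hSC : ∀ c b, ∃ ε : ℤ, (ε = 1 ∨ ε = -1) ∧ ∀ (X : Over S) (x y : X ⟶ Red.Ga S),
      Red.gaFn y = (ε : Γ(X.left, ⊤)) * Red.gaFn x →
        (toUnit X ≫ n c) * (x ≫ v b) * (toUnit X ≫ n c)⁻¹ = y ≫ v (D.P.reflectionPerm c b))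
    (a b : D.idx) (hind : ∀ r s : ℤ, r • D.P.root a + s • D.P.root b = 0 → r = 0 ∧ s = 0)
    (hlen : |D.P.pairing a b| ≤ |D.P.pairing b a|)
    (hm : D.P.root b - D.P.root a ∉ Set.range D.P.root) (c₁ c₂ c₃ c₄ : D.idx) (hc₁ : D.P.root c₁ = D.P.root a + D.P.root b)
    (hc₂ : D.P.root c₂ = (2 : ℤ) • D.P.root a + D.P.root b) (hc₃ : D.P.root c₃ = (3 : ℤ) • D.P.root a + D.P.root b)
    (hc₄ : D.P.root c₄ = (3 : ℤ) • D.P.root a + (2 : ℤ) • D.P.root b) :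
    ∃ ε : Fin 4 → ℤ, (∀ j, ε j = 1 ∨ ε j = -1) ∧ ∀ (X : Over S) (x y z₁ z₂ z₃ z₄ : X ⟶ Red.Ga S),
      Red.gaFn z₁ = (ε 0 : Γ(X.left, ⊤)) * Red.gaFn x * Red.gaFn y →
      Red.gaFn z₂ = (ε 1 : Γ(X.left, ⊤)) * Red.gaFn x ^ 2 * Red.gaFn y →
      Red.gaFn z₃ = (ε 2 : Γ(X.left, ⊤)) * Red.gaFn x ^ 3 * Red.gaFn y →
      Red.gaFn z₄ = (ε 3 : Γ(X.left, ⊤)) * Red.gaFn x ^ 3 * Red.gaFn y ^ 2 →
        (y ≫ v b) * (x ≫ v a) * (y ≫ v b)⁻¹ * (x ≫ v a)⁻¹ = (z₁ ≫ v c₁) * (z₂ ≫ v c₂) * (z₃ ≫ v c₃) * (z₄ ≫ v c₄) := by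
  rcases isEmpty_or_nonempty S with hS | ⟨⟨s⟩⟩
  · refine ⟨fun _ => 1, fun _ => Or.inl rfl, fun X x y z₁ z₂ z₃ z₄ _ _ _ _ => ?_⟩
    exact (RedCell16.hom_subsingleton X G).2.elim _ _
  haveI := D.fintypeIdx
  haveI : D.P.IsReduced := RedCell16.isReduced D s
  obtain ⟨b₀⟩ := RedCell16.nonempty_base D s
  haveI := fun c => (hv c).1
  obtain ⟨hpair, -⟩ := RedCell16.pairing_of_string hind 0 3 (by simp) (by simpa using hm)
    (by simp only [Nat.cast_ofNat]; rw [add_comm]; exact ⟨c₃, hc₃⟩) (Or.inl rfl)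
  have hne : D.P.root b ≠ -D.P.root a := fun e => by have := hind 1 1 (by rw [e]; simp); omega
  have hab1 := RedCell16.pairing_neg_one (p := 3) (Or.inr (Or.inr rfl)) (by simpa using hpair) (Or.inl hlen) hne
  have h : RedCell16.PairSys D.P a b 3 := ⟨Or.inr (Or.inr rfl), hab1, by simpa using hpair, hm⟩
  obtain ⟨w, hw, Ea, Eb, hwa, hwb, hsgn⟩ := RedCell16.chev_frame D e₁ he₁ avc havc v vd hv hvd n hn hSC
    (a := a) (b := b) (fun e => by have := hind 1 (-1) (by rw [e]; simp); omega)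
    (fun e => hne (by rw [e, RootDLib.root_ng, neg_neg]))
  set d11 := D.P.reflectionPerm b a
  set d31 := D.P.reflectionPerm a b
  obtain ⟨ε₁, hε₁, s₁⟩ := hsgn b (Or.inr rfl) a
  obtain ⟨ε₂, hε₂, s₂⟩ := hsgn a (Or.inl rfl) d11
  obtain ⟨ε₃, hε₃, s₃⟩ := hsgn a (Or.inl rfl) b
  obtain ⟨ε₄, hε₄, s₄⟩ := hsgn b (Or.inr rfl) d31
  haveI : (RedCell16.withU D w hw).P.IsReduced := ‹D.P.IsReduced›
  have rc : D.P.root d11 = (1 : ℤ) • D.P.root a + (1 : ℤ) • D.P.root b :=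
    (h.root_refl_b (RedCell16.root_coords_a a b)).trans (by norm_num)
  have rd : D.P.root d31 = (3 : ℤ) • D.P.root a + (1 : ℤ) • D.P.root b :=
    (h.root_refl_a (RedCell16.root_coords_b a b)).trans (by norm_num)
  have e1 : c₁ = d11 := RedCell16.eq_of_coords (by rw [hc₁]; simp) rc
  have e2 : c₂ = D.P.reflectionPerm a d11 := RedCell16.eq_of_coords (by rw [hc₂, one_smul])
    ((h.root_refl_a rc).trans (by norm_num : _ = (2 : ℤ) • D.P.root a + (1 : ℤ) • D.P.root b))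
  have e3 : c₃ = d31 := RedCell16.eq_of_coords (by rw [hc₃, one_smul]) rd
  have e4 : c₄ = D.P.reflectionPerm b d31 := RedCell16.eq_of_coords hc₄
    ((h.root_refl_b rd).trans (by norm_num : _ = (3 : ℤ) • D.P.root a + (2 : ℤ) • D.P.root b))
  refine ⟨![ε₁, -(ε₂ * ε₁), -ε₃, ε₄ * ε₃], fun j => by fin_cases j <;> rcases hε₁ with rfl | rfl <;>
    rcases hε₂ with rfl | rfl <;> rcases hε₃ with rfl | rfl <;> rcases hε₄ with rfl | rfl <;> simp,
    fun X x y z₁ z₂ z₃ z₄ h₁ h₂ h₃ h₄ => ?_⟩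
  obtain ⟨k, -⟩ := RedCell16.G2_main (D := RedCell16.withU D w hw) h b₀ Ea Eb X (Red.gaFn x) (Red.gaFn y)
  simp only [RedCell16.comm, RedCell16.g32, RedCell16.g31, RedCell16.g21, RedCell16.g11, hwa, hwb] at k
  rw [s₁, s₁, s₂, s₃, s₃, s₄] at k
  simp only [RankOne.comp_eq_P (v b) y, RankOne.comp_eq_P (v a) x, RankOne.comp_eq_P (v c₁) z₁,
    RankOne.comp_eq_P (v c₂) z₂, RankOne.comp_eq_P (v c₃) z₃, RankOne.comp_eq_P (v c₄) z₄]
  rw [k, h₁, h₂, h₃, h₄, e1, e2, e3, e4]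
  simp only [Matrix.cons_val]
  push_cast
  congr 1
  · congr 1
    · congr 1 <;> (congr 1; ring)
    · congr 1; ring
  · congr 1; ring

end Groth.Agent.S8481
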