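import Groth.Statements.S8482
import Groth.Agent.Lib.RedCell16.ChevPair

set_option linter.style.haveILetI false
set_option backward.isDefEq.respectTransparency false
set_option backward.isDefEq.respectTransparency.types false
-- import your own Groth.Agent.* helpers here

set_option autoImplicit false
universe u
open CategoryTheory MonoidalCategory CartesianMonoidalCategory MonObj GrpObj AlgebraicGeometry CategoryTheory.Limits
open Red

namespace Groth.Agent.S8482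

/-- The case (p, q) = (2,2) of the table. Let G be a split reductive S-group with splitting D (torus T ≅
D_S(M), root datum) and a Chevalley system at the level of root groups: for every root c a root
homomorphism v_c : 𝔾_a ⟶ G (normalised by T through the character of c) with a dual root
homomorphism v_c⁻ (v_c(x) v_c⁻(y) = v_c⁻(y/(1+xy)) c^∨(1+xy) v_c(x/(1+xy)) for 1 + xy invertible),
such that with n_c = v_c(1) v_c⁻(1)⁻¹ v_c(1) one has, for all roots c, b, n_c v_b(x) n_c⁻¹ =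
v_{s_c(b)}(± x) for a sign depending on (c, b). Let a, b be two linearly independent roots with |⟨a,
b^∨⟩| ≤ |⟨b, a^∨⟩| (a is not longer than b). Suppose b - a is a root and b - 2a is not, a + b and 2a
+ b are roots with indices c₁, c₂, 3a + b is not a root, and a + 2b is a root with index c₃. Then
there are signs ε₁, ε₂, ε₃ ∈ {1, -1} with v_b(y) v_a(x) v_b(y)⁻¹ v_a(x)⁻¹ = v_{c₁}(2 ε₁ x y)
v_{c₂}(3 ε₂ x² y) v_{c₃}(3 ε₃ x y²) for all points x, y of 𝔾_a. -/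
theorem result (S : Scheme.{u}) (e₁ : 𝟙_ (Over S) ⟶ Red.Ga S) (he₁ : Red.gaFn e₁ = 1)
    (G : Over S) [GrpObj G] (D : Red.SplitRed G)
    (avc : D.idx → (Red.Gm S ⟶ D.T))
    (havc : ∀ a, avc a = Red.DSmap S (D.P.coroot a).toAddMonoidHom ≫ D.split.inv.hom.hom)
    (v vd : D.idx → (Red.Ga S ⟶ G)) (hv : ∀ c, Red.IsRootHom D.i (D.split.hom.hom.hom ≫ Red.chi S (D.P.root c)) (v c))
    (hvd : ∀ c, IsMonHom (vd c) ∧ ∀ (X : Over S) (x y : X ⟶ Red.Ga S), IsUnit (1 + Red.gaFn x * Red.gaFn y) →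
        ∃ (x' y' : X ⟶ Red.Ga S) (z : X ⟶ Red.Gm S), Red.gmFn z = 1 + Red.gaFn x * Red.gaFn y ∧
          Red.gaFn x' * Red.gmFn z = Red.gaFn x ∧ Red.gaFn y' * Red.gmFn z = Red.gaFn y ∧
          (x ≫ v c) * (y ≫ vd c) = (y' ≫ vd c) * (z ≫ avc c ≫ D.i) * (x' ≫ v c))
    (n : D.idx → (𝟙_ (Over S) ⟶ G)) (hn : ∀ c, n c = (e₁ ≫ v c) * (e₁ ≫ vd c)⁻¹ * (e₁ ≫ v c))
    (hSC : ∀ c b, ∃ ε : ℤ, (ε = 1 ∨ ε = -1) ∧ ∀ (X : Over S) (x y : X ⟶ Red.Ga S),
      Red.gaFn y = (ε : Γ(X.left, ⊤)) * Red.gaFn x →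
        (toUnit X ≫ n c) * (x ≫ v b) * (toUnit X ≫ n c)⁻¹ = y ≫ v (D.P.reflectionPerm c b))
    (a b : D.idx) (hind : ∀ r s : ℤ, r • D.P.root a + s • D.P.root b = 0 → r = 0 ∧ s = 0)
    (hlen : |D.P.pairing a b| ≤ |D.P.pairing b a|)
    (hm1 : D.P.root b - D.P.root a ∈ Set.range D.P.root) (hm2 : D.P.root b - (2 : ℤ) • D.P.root a ∉ Set.range D.P.root)
    (c₁ c₂ c₃ : D.idx) (hc₁ : D.P.root c₁ = D.P.root a + D.P.root b)
    (hc₂ : D.P.root c₂ = (2 : ℤ) • D.P.root a + D.P.root b) (hq : D.P.root b + (3 : ℤ) • D.P.root a ∉ Set.range D.P.root)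
    (hc₃ : D.P.root c₃ = D.P.root a + (2 : ℤ) • D.P.root b) :
    ∃ ε₁ ε₂ ε₃ : ℤ, (ε₁ = 1 ∨ ε₁ = -1) ∧ (ε₂ = 1 ∨ ε₂ = -1) ∧ (ε₃ = 1 ∨ ε₃ = -1) ∧
      ∀ (X : Over S) (x y z₁ z₂ z₃ : X ⟶ Red.Ga S),
      Red.gaFn z₁ = 2 * (ε₁ : Γ(X.left, ⊤)) * Red.gaFn x * Red.gaFn y →
      Red.gaFn z₂ = 3 * (ε₂ : Γ(X.left, ⊤)) * Red.gaFn x ^ 2 * Red.gaFn y →
      Red.gaFn z₃ = 3 * (ε₃ : Γ(X.left, ⊤)) * Red.gaFn x * Red.gaFn y ^ 2 →
        (y ≫ v b) * (x ≫ v a) * (y ≫ v b)⁻¹ * (x ≫ v a)⁻¹ = (z₁ ≫ v c₁) * (z₂ ≫ v c₂) * (z₃ ≫ v c₃) := by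
  rcases isEmpty_or_nonempty S with hS | ⟨⟨s⟩⟩
  · refine ⟨1, 1, 1, Or.inl rfl, Or.inl rfl, Or.inl rfl, fun X x y z₁ z₂ z₃ _ _ _ => ?_⟩
    exact (RedCell16.hom_subsingleton X G).2.elim _ _
  haveI := D.fintypeIdx
  haveI : D.P.IsReduced := RedCell16.isReduced D s
  obtain ⟨b₀⟩ := RedCell16.nonempty_base D s
  haveI := fun c => (hv c).1
  obtain ⟨hpair, -⟩ := RedCell16.pairing_of_string hind 1 2 (by simpa using hm1) (by simpa using hm2)
    (by simp only [Nat.cast_ofNat]; rw [add_comm]; exact ⟨c₂, hc₂⟩) (Or.inr (by simpa using hq))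
  obtain ⟨b', hb'⟩ := hm1
  have hne : D.P.root b' ≠ -D.P.root a := fun e => by
    have := hind 0 1 (by rw [e] at hb'; simpa using hb'.symm); omega
  have hp3 : D.P.pairing b' a = -3 := by
    rw [← RootPairing.root_coroot'_eq_pairing, hb', map_sub, RootPairing.root_coroot'_eq_pairing,
      RootPairing.root_coroot'_eq_pairing, RootPairing.pairing_same, hpair]
    norm_num
  have hab1 := RedCell16.pairing_neg_one (p := 3) (Or.inr (Or.inr rfl)) hp3 (Or.inr (by norm_num)) hne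
  have h : RedCell16.PairSys D.P a b' 3 := ⟨Or.inr (Or.inr rfl), hab1, hp3, by
    rw [hb', sub_sub, ← two_smul ℤ]; exact hm2⟩
  obtain ⟨w, hw, Ea, Eb, hwa, hwb, hsgn⟩ := RedCell16.chev_frame D e₁ he₁ avc havc v vd hv hvd n hn hSC
    (a := a) (b := b') (fun e => by rw [← e, RootPairing.pairing_same] at hp3; omega)
    (fun e => hne (by rw [e, RootDLib.root_ng, neg_neg]))
  set d11 := D.P.reflectionPerm b' a
  set d31 := D.P.reflectionPerm a b'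
  obtain ⟨ε₁, hε₁, s₁⟩ := hsgn b' (Or.inr rfl) a
  obtain ⟨ε₂, hε₂, s₂⟩ := hsgn a (Or.inl rfl) d11
  obtain ⟨ε₃, hε₃, s₃⟩ := hsgn a (Or.inl rfl) b'
  obtain ⟨ε₄, hε₄, s₄⟩ := hsgn b' (Or.inr rfl) d31
  haveI : (RedCell16.withU D w hw).P.IsReduced := ‹D.P.IsReduced›
  have rc : D.P.root d11 = (1 : ℤ) • D.P.root a + (1 : ℤ) • D.P.root b' :=
    (h.root_refl_b (RedCell16.root_coords_a a b')).trans (by norm_num)
  have rd : D.P.root d31 = (3 : ℤ) • D.P.root a + (1 : ℤ) • D.P.root b' :=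
    (h.root_refl_a (RedCell16.root_coords_b a b')).trans (by norm_num)
  have eb : b = d11 := RedCell16.eq_of_coords (by rw [hb']; simp) rc
  have e1 : c₁ = D.P.reflectionPerm a d11 := RedCell16.eq_of_coords
    (by rw [hc₁, hb', two_smul, one_smul]; abel)
    ((h.root_refl_a rc).trans (by norm_num : _ = (2 : ℤ) • D.P.root a + (1 : ℤ) • D.P.root b'))
  have e2 : c₂ = d31 := RedCell16.eq_of_coords (by
    rw [hc₂, hb', show (3 : ℤ) = 2 + 1 from rfl, add_smul]; simp only [one_smul]; abel) rd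
  have e3 : c₃ = D.P.reflectionPerm b' d31 := RedCell16.eq_of_coords (by
    rw [hc₃, hb', show (3 : ℤ) = 2 + 1 from rfl, add_smul, smul_sub]; simp only [one_smul]; abel)
    ((h.root_refl_b rd).trans (by norm_num : _ = (3 : ℤ) • D.P.root a + (2 : ℤ) • D.P.root b'))
  refine ⟨ε₂ * ε₁ * ε₁, ε₃ * ε₁, ε₄ * ε₃, by rcases hε₁ with rfl | rfl <;> rcases hε₂ with rfl | rfl <;> simp,
    by rcases hε₁ with rfl | rfl <;> rcases hε₃ with rfl | rfl <;> simp,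
    by rcases hε₄ with rfl | rfl <;> rcases hε₃ with rfl | rfl <;> simp, fun X x y z₁ z₂ z₃ h₁ h₂ h₃ => ?_⟩
  have hsq : (ε₁ : Γ(X.left, ⊤)) * ε₁ = 1 := by rcases hε₁ with rfl | rfl <;> simp
  obtain ⟨-, k, -⟩ := RedCell16.G2_main (D := RedCell16.withU D w hw) h b₀ Ea Eb X (Red.gaFn x) ((ε₁ : Γ(X.left, ⊤)) * Red.gaFn y)
  simp only [RedCell16.comm, RedCell16.g32, RedCell16.g31, RedCell16.g21, RedCell16.g11, hwa, hwb] at k
  rw [s₁, s₁, s₂, s₃, s₃, s₄, ← _root_.mul_assoc (ε₁ : Γ(X.left, ⊤)), hsq, _root_.one_mul] at k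
  subst eb
  simp only [RankOne.comp_eq_P (v d11) y, RankOne.comp_eq_P (v a) x, RankOne.comp_eq_P (v c₁) z₁,
    RankOne.comp_eq_P (v c₂) z₂, RankOne.comp_eq_P (v c₃) z₃]
  rw [k, h₁, h₂, h₃, e1, e2, e3]
  push_cast
  congr 1
  · congr 1
    · congr 1; ring
    · congr 1; ring
  · congr 1
    linear_combination 3 * Red.gaFn x * Red.gaFn y ^ 2 * (ε₄ : Γ(X.left, ⊤)) * ε₃ * hsq

end Groth.Agent.S8482
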