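import Groth.Statements.S8484
import Groth.Agent.Lib.RedCell16.Pinned
import Groth.Agent.Lib.RedCell16.PairA2

set_option linter.style.haveILetI false
set_option backward.isDefEq.respectTransparency false
set_option backward.isDefEq.respectTransparency.types false
-- import your own Groth.Agent.* helpers here

set_option autoImplicit false
universe u
open CategoryTheory MonoidalCategory CartesianMonoidalCategory MonObj GrpObj AlgebraicGeometry CategoryTheory.Limits
open Red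

namespace Groth.Agent.S8484

/-- At the level of root groups. Let G be a pinned reductive S-group: a splitting D (maximal torus T ≅
D_S(M), root datum with root homomorphisms u_c : 𝔾_a ⟶ G for all roots c, system of simple roots Δ)
such that for every simple root a the root homomorphisms of a and -a are dual to each other: u_a(x)
u_{-a}(y) = u_{-a}(y/(1+xy)) · a^∨(1+xy) · u_a(x/(1+xy)) whenever 1 + xy is invertible, where a^∨ :
𝔾_m ⟶ T is the coroot of a read through the splitting. For a root a put w_a = u_a(1) u_{-a}(-1)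
u_a(1) (an S-point of G). Let a ≠ b be simple roots with ⟨b, a^∨⟩ = ⟨a, b^∨⟩ = -1 (type A₂) and put
u_{a+b}(x) = w_b u_a(x) w_b⁻¹. Then for all points x of 𝔾_a: w_a u_b(x) w_a⁻¹ = u_{a+b}(-x), w_a
u_{a+b}(x) w_a⁻¹ = u_b(x) and w_b u_{a+b}(x) w_b⁻¹ = u_a(-x) (the relations Ad(w_a) X_b = -X_{a+b},
Ad(w_a) X_{a+b} = X_b, Ad(w_b) X_{a+b} = -X_a). (The published statement is for a pinned group whose
simple roots are exactly a and b; this row states it for two simple roots a ≠ b of any pinned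
group.) -/
theorem result (S : Scheme.{u}) (e₁ : 𝟙_ (Over S) ⟶ Red.Ga S) (he₁ : Red.gaFn e₁ = 1)
    (G : Over S) [GrpObj G] (D : Red.Pinning G)
    (avc : D.idx → (Red.Gm S ⟶ D.T))
    (havc : ∀ a, avc a = Red.DSmap S (D.P.coroot a).toAddMonoidHom ≫ D.split.inv.hom.hom)
    (hpair : ∀ a ∈ D.base.support, ∀ (X : Over S) (x y : X ⟶ Red.Ga S), IsUnit (1 + Red.gaFn x * Red.gaFn y) →
        ∃ (x' y' : X ⟶ Red.Ga S) (z : X ⟶ Red.Gm S), Red.gmFn z = 1 + Red.gaFn x * Red.gaFn y ∧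
          Red.gaFn x' * Red.gmFn z = Red.gaFn x ∧ Red.gaFn y' * Red.gmFn z = Red.gaFn y ∧
          (x ≫ D.u a) * (y ≫ D.u (D.P.reflectionPerm a a)) = (y' ≫ D.u (D.P.reflectionPerm a a)) * (z ≫ avc a ≫ D.i) * (x' ≫ D.u a))
    (w : D.idx → (𝟙_ (Over S) ⟶ G))
    (hw : ∀ a, w a = (e₁ ≫ D.u a) * (e₁ ≫ D.u (D.P.reflectionPerm a a))⁻¹ * (e₁ ≫ D.u a))
    (a b : D.idx) (ha : a ∈ D.base.support) (hb : b ∈ D.base.support) (hne : a ≠ b)
    (hba : D.P.pairing b a = -1) (hab : D.P.pairing a b = -1)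
    (uab : ∀ X : Over S, (X ⟶ Red.Ga S) → (X ⟶ G))
    (huab : ∀ (X : Over S) (x : X ⟶ Red.Ga S), uab X x = (toUnit X ≫ w b) * (x ≫ D.u a) * (toUnit X ≫ w b)⁻¹)
    (X : Over S) (x nx : X ⟶ Red.Ga S) (hnx : Red.gaFn nx = - Red.gaFn x) :
    (toUnit X ≫ w a) * (x ≫ D.u b) * (toUnit X ≫ w a)⁻¹ = uab X nx ∧
      (toUnit X ≫ w a) * uab X x * (toUnit X ≫ w a)⁻¹ = x ≫ D.u b ∧
      (toUnit X ≫ w b) * uab X x * (toUnit X ≫ w b)⁻¹ = nx ≫ D.u a := by
  rcases isEmpty_or_nonempty S with hS | ⟨⟨s⟩⟩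
  · have := (RedCell16.hom_subsingleton X G).2; refine ⟨?_, ?_, ?_⟩ <;> exact Subsingleton.elim _ _
  haveI : D.P.IsReduced := RedCell16.isReduced D.toSplitRed s
  haveI := fun c => (D.rootHom c).1
  have Ea := RedCell16.pinned_dualPair D avc havc hpair ha
  have Eb := RedCell16.pinned_dualPair D avc havc hpair hb
  have hc := fun (c d : D.idx) (Y : Over S) (z : Y ⟶ Red.Ga S) => RedCell16.pinned_cj D e₁ he₁ w hw c d z
  have hW := RedCell16.pinned_Wy D e₁ he₁ w hw
  have ww := fun (d : D.idx) (E : RedCell16.DualPair D.toSplitRed d) (c : D.idx) (t : Γ(X.left, ⊤)) (k : ℤ) (hk : D.P.pairing c d = k) =>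
    RedCell16.cj_Wy_Wy D.toSplitRed E c X t k hk
  have hP := fun (c : D.idx) (z : X ⟶ Red.Ga S) => RankOne.comp_eq_P (D.u c) z
  have h := RedCell16.pinned_pairSys D a b ha hb (p := 1) (Or.inl rfl) hba hab
  have e := RedCell16.A2_cj_a h D.base Ea Eb X
  refine ⟨?_, ?_, ?_⟩
  · rw [huab, hW, hW, hP, hP, hnx]; exact e _
  · rw [huab, hW, hW, hP, hP, ← neg_neg (Red.gaFn x)]
    show RedCell16.cj _ (RedCell16.cj _ (RankOne.P (D.u a) (- -Red.gaFn x))) = _
    rw [← e, ww a Ea b _ (-1) hba]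
    congr 1
    simp
  · rw [huab, hW, hP, hP, hnx]
    show RedCell16.cj _ (RedCell16.cj _ _) = _
    rw [ww b Eb a _ (-1) hab]
    congr 1
    simp

end Groth.Agent.S8484
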