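import Groth.Statements.S8485
import Groth.Agent.Lib.RedCell16.Pinned
import Groth.Agent.Lib.RedCell16.PairB2

set_option linter.style.haveILetI false
set_option backward.isDefEq.respectTransparency false
set_option backward.isDefEq.respectTransparency.types false
-- import your own Groth.Agent.* helpers here

set_option autoImplicit false
universe u
open CategoryTheory MonoidalCategory CartesianMonoidalCategory MonObj GrpObj AlgebraicGeometry CategoryTheory.Limits
open Red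

namespace Groth.Agent.S8485

/-- At the level of root groups. Let G be a pinned reductive S-group: a splitting D (maximal torus T ≅
D_S(M), root datum with root homomorphisms u_c : 𝔾_a ⟶ G for all roots c, system of simple roots Δ)
such that for every simple root a the root homomorphisms of a and -a are dual to each other: u_a(x)
u_{-a}(y) = u_{-a}(y/(1+xy)) · a^∨(1+xy) · u_a(x/(1+xy)) whenever 1 + xy is invertible, where a^∨ :
𝔾_m ⟶ T is the coroot of a read through the splitting. For a root a put w_a = u_a(1) u_{-a}(-1)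
u_a(1) (an S-point of G). Let a ≠ b be simple roots with ⟨b, a^∨⟩ = -2 and ⟨a, b^∨⟩ = -1 (type B₂);
put u_{a+b}(x) = w_b u_a(x) w_b⁻¹ and u_{2a+b}(x) = w_a u_b(x) w_a⁻¹. Then for all points x of 𝔾_a:
w_a u_{a+b}(x) w_a⁻¹ = u_{a+b}(-x), w_a u_{2a+b}(x) w_a⁻¹ = u_b(x), w_b u_{a+b}(x) w_b⁻¹ = u_a(-x)
and w_b u_{2a+b}(x) w_b⁻¹ = u_{2a+b}(x). (The published statement is for a pinned group whose simple
roots are exactly a and b; this row states it for two simple roots a ≠ b of any pinned group.) -/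
theorem result (S : Scheme.{u}) (e₁ : 𝟙_ (Over S) ⟶ Red.Ga S) (he₁ : Red.gaFn e₁ = 1)
    (G : Over S) [GrpObj G] (D : Red.Pinning G)
    (avc : D.idx → (Red.Gm S ⟶ D.T))
    (havc : ∀ a, avc a = Red.DSmap S (D.P.coroot a).toAddMonoidHom ≫ D.split.inv.hom.hom)
    (hpair : ∀ a ∈ D.base.support, ∀ (X : Over S) (x y : X ⟶ Red.Ga S), IsUnit (1 + Red.gaFn x * Red.gaFn y) →
        ∃ (x' y' : X ⟶ Red.Ga S) (z : X ⟶ Red.Gm S), Red.gmFn z = 1 + Red.gaFn x * Red.gaFn y ∧
          Red.gaFn x' * Red.gmFn z = Red.gaFn x ∧ Red.gaFn y' * Red.gmFn z = Red.gaFn y ∧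
          (x ≫ D.u a) * (y ≫ D.u (D.P.reflectionPerm a a)) = (y' ≫ D.u (D.P.reflectionPerm a a)) * (z ≫ avc a ≫ D.i) * (x' ≫ D.u a))
    (w : D.idx → (𝟙_ (Over S) ⟶ G))
    (hw : ∀ a, w a = (e₁ ≫ D.u a) * (e₁ ≫ D.u (D.P.reflectionPerm a a))⁻¹ * (e₁ ≫ D.u a))
    (a b : D.idx) (ha : a ∈ D.base.support) (hb : b ∈ D.base.support) (hne : a ≠ b)
    (hba : D.P.pairing b a = -2) (hab : D.P.pairing a b = -1)
    (uab : ∀ X : Over S, (X ⟶ Red.Ga S) → (X ⟶ G))
    (huab : ∀ (X : Over S) (x : X ⟶ Red.Ga S), uab X x = (toUnit X ≫ w b) * (x ≫ D.u a) * (toUnit X ≫ w b)⁻¹)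
    (uaab : ∀ X : Over S, (X ⟶ Red.Ga S) → (X ⟶ G))
    (huaab : ∀ (X : Over S) (x : X ⟶ Red.Ga S), uaab X x = (toUnit X ≫ w a) * (x ≫ D.u b) * (toUnit X ≫ w a)⁻¹)
    (X : Over S) (x nx : X ⟶ Red.Ga S) (hnx : Red.gaFn nx = - Red.gaFn x) :
    (toUnit X ≫ w a) * uab X x * (toUnit X ≫ w a)⁻¹ = uab X nx ∧ (toUnit X ≫ w a) * uaab X x * (toUnit X ≫ w a)⁻¹ = x ≫ D.u b ∧
      (toUnit X ≫ w b) * uab X x * (toUnit X ≫ w b)⁻¹ = nx ≫ D.u a ∧ (toUnit X ≫ w b) * uaab X x * (toUnit X ≫ w b)⁻¹ = uaab X x := by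
  rcases isEmpty_or_nonempty S with hS | ⟨⟨s⟩⟩
  · have := (RedCell16.hom_subsingleton X G).2; refine ⟨?_, ?_, ?_, ?_⟩ <;> exact Subsingleton.elim _ _
  haveI : D.P.IsReduced := RedCell16.isReduced D.toSplitRed s
  haveI := fun c => (D.rootHom c).1
  have Ea := RedCell16.pinned_dualPair D avc havc hpair ha
  have Eb := RedCell16.pinned_dualPair D avc havc hpair hb
  have hc := fun (c d : D.idx) (Y : Over S) (z : Y ⟶ Red.Ga S) => RedCell16.pinned_cj D e₁ he₁ w hw c d z
  have hW := RedCell16.pinned_Wy D e₁ he₁ w hw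
  have ww := fun (d : D.idx) (E : RedCell16.DualPair D.toSplitRed d) (c : D.idx) (t : Γ(X.left, ⊤)) (k : ℤ) (hk : D.P.pairing c d = k) =>
    RedCell16.cj_Wy_Wy D.toSplitRed E c X t k hk
  have hP := fun (c : D.idx) (z : X ⟶ Red.Ga S) => RankOne.comp_eq_P (D.u c) z
  have h := RedCell16.pinned_pairSys D a b ha hb (p := 2) (Or.inr (Or.inl rfl)) hba hab
  obtain ⟨-, -, h3⟩ := RedCell16.B2_main h D.base Ea Eb X
  refine ⟨?_, ?_, ?_, ?_⟩
  · rw [huab, huab, hW, hW, hP, hP, hnx]; exact h3 _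
  · simp only [huaab, hW, hP]
    show RedCell16.cj _ (RedCell16.cj _ _) = _
    rw [ww a Ea b _ (-2) hba]
    congr 1
    simp
  · rw [huab, hW, hP, hP, hnx]
    show RedCell16.cj _ (RedCell16.cj _ _) = _
    rw [ww b Eb a _ (-1) hab]
    congr 1
    simp
  · rw [huaab, hW, hW, hP]
    obtain ⟨ν, -, hν⟩ := RedCell16.exists_cj_coeff D.toSplitRed D.base Ea b _ rfl
    have rd := (h.root_refl_a (RedCell16.root_coords_b a b)).trans
      (show (2 * 1 - 0 : ℤ) • D.P.root a + (1 : ℤ) • D.P.root b = (2 : ℤ) • D.P.root a + (1 : ℤ) • D.P.root b by norm_num)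
    show RedCell16.cj _ (RedCell16.cj _ (RankOne.P (D.u b) (Red.gaFn x))) = RedCell16.cj _ (RankOne.P (D.u b) (Red.gaFn x))
    rw [hν]
    haveI := D.fintypeIdx
    refine RedCell16.commute_Wy D.toSplitRed D.base ?_ ?_ ?_ ?_ X _
    all_goals rw [rd]
    · rw [show D.P.root b + ((2 : ℤ) • D.P.root a + (1 : ℤ) • D.P.root b) =
        (2 : ℤ) • D.P.root a + (2 : ℤ) • D.P.root b by simp only [two_smul, one_smul]; abel]
      exact h.notMem (by decide)
    · rw [show (2 : ℤ) • D.P.root a + (1 : ℤ) • D.P.root b - D.P.root b =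
        (2 : ℤ) • D.P.root a + (0 : ℤ) • D.P.root b by simp]
      exact h.notMem (by decide)
    · intro he
      have := h.coords_inj (i := 2) (j := 2) (by rw [← he]; simp only [two_smul, one_smul]; abel)
      omega
    · intro he
      have := h.coords_inj (i := 2) (j := 0) (by rw [← he]; simp)
      omega

end Groth.Agent.S8485
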