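import Groth.Statements.S8486
import Groth.Agent.Lib.RedCell16.Pinned
import Groth.Agent.Lib.RedCell16.PairG2

set_option linter.style.haveILetI false
set_option backward.isDefEq.respectTransparency false
set_option backward.isDefEq.respectTransparency.types false
-- import your own Groth.Agent.* helpers here

set_option autoImplicit false
universe u
open CategoryTheory MonoidalCategory CartesianMonoidalCategory MonObj GrpObj AlgebraicGeometry CategoryTheory.Limits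
open Red

namespace Groth.Agent.S8486

/-- At the level of root groups. Let G be a pinned reductive S-group: a splitting D (maximal torus T ≅
D_S(M), root datum with root homomorphisms u_c : 𝔾_a ⟶ G for all roots c, system of simple roots Δ)
such that for every simple root a the root homomorphisms of a and -a are dual to each other: u_a(x)
u_{-a}(y) = u_{-a}(y/(1+xy)) · a^∨(1+xy) · u_a(x/(1+xy)) whenever 1 + xy is invertible, where a^∨ :
𝔾_m ⟶ T is the coroot of a read through the splitting. For a root a put w_a = u_a(1) u_{-a}(-1)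
u_a(1) (an S-point of G). Let a ≠ b be simple roots with ⟨b, a^∨⟩ = -3 and ⟨a, b^∨⟩ = -1 (type G₂);
put u_{a+b}(x) = w_b u_a(x) w_b⁻¹, u_{2a+b}(x) = (w_a w_b) u_a(x) (w_a w_b)⁻¹, u_{3a+b}(x) = w_a
u_b(-x) w_a⁻¹, u_{3a+2b}(x) = (w_b w_a) u_b(-x) (w_b w_a)⁻¹. Then for all points x of 𝔾_a: w_a
u_{2a+b}(x) w_a⁻¹ = u_{a+b}(-x), w_a u_{3a+b}(x) w_a⁻¹ = u_b(x), w_a u_{3a+2b}(x) w_a⁻¹ =
u_{3a+2b}(x), w_b u_{a+b}(x) w_b⁻¹ = u_a(-x), w_b u_{2a+b}(x) w_b⁻¹ = u_{2a+b}(x) and w_b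
u_{3a+2b}(x) w_b⁻¹ = u_{3a+b}(-x). (The published statement is for a pinned group whose simple roots
are exactly a and b; this row states it for two simple roots a ≠ b of any pinned group.) -/
theorem result (S : Scheme.{u}) (e₁ : 𝟙_ (Over S) ⟶ Red.Ga S) (he₁ : Red.gaFn e₁ = 1)
    (G : Over S) [GrpObj G] (D : Red.Pinning G)
    (avc : D.idx → (Red.Gm S ⟶ D.T))
    (havc : ∀ a, avc a = Red.DSmap S (D.P.coroot a).toAddMonoidHom ≫ D.split.inv.hom.hom)
    (hpair : ∀ a ∈ D.base.support, ∀ (X : Over S) (x y : X ⟶ Red.Ga S), IsUnit (1 + Red.gaFn x * Red.gaFn y) →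
        ∃ (x' y' : X ⟶ Red.Ga S) (z : X ⟶ Red.Gm S), Red.gmFn z = 1 + Red.gaFn x * Red.gaFn y ∧
          Red.gaFn x' * Red.gmFn z = Red.gaFn x ∧ Red.gaFn y' * Red.gmFn z = Red.gaFn y ∧
          (x ≫ D.u a) * (y ≫ D.u (D.P.reflectionPerm a a)) = (y' ≫ D.u (D.P.reflectionPerm a a)) * (z ≫ avc a ≫ D.i) * (x' ≫ D.u a))
    (w : D.idx → (𝟙_ (Over S) ⟶ G))
    (hw : ∀ a, w a = (e₁ ≫ D.u a) * (e₁ ≫ D.u (D.P.reflectionPerm a a))⁻¹ * (e₁ ≫ D.u a))
    (a b : D.idx) (ha : a ∈ D.base.support) (hb : b ∈ D.base.support) (hne : a ≠ b)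
    (hba : D.P.pairing b a = -3) (hab : D.P.pairing a b = -1)
    (u11 : ∀ X : Over S, (X ⟶ Red.Ga S) → (X ⟶ G))
    (hu11 : ∀ (X : Over S) (x : X ⟶ Red.Ga S), u11 X x = (toUnit X ≫ w b) * (x ≫ D.u a) * (toUnit X ≫ w b)⁻¹)
    (u21 : ∀ X : Over S, (X ⟶ Red.Ga S) → (X ⟶ G))
    (hu21 : ∀ (X : Over S) (x : X ⟶ Red.Ga S), u21 X x = (toUnit X ≫ (w a * w b)) * (x ≫ D.u a) * (toUnit X ≫ (w a * w b))⁻¹)
    (u31 : ∀ X : Over S, (X ⟶ Red.Ga S) → (X ⟶ G))
    (hu31 : ∀ (X : Over S) (x : X ⟶ Red.Ga S), u31 X x = (toUnit X ≫ w a) * (x ≫ D.u b)⁻¹ * (toUnit X ≫ w a)⁻¹)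
    (u32 : ∀ X : Over S, (X ⟶ Red.Ga S) → (X ⟶ G))
    (hu32 : ∀ (X : Over S) (x : X ⟶ Red.Ga S), u32 X x = (toUnit X ≫ (w b * w a)) * (x ≫ D.u b)⁻¹ * (toUnit X ≫ (w b * w a))⁻¹)
    (X : Over S) (x nx : X ⟶ Red.Ga S) (hnx : Red.gaFn nx = - Red.gaFn x) :
    (toUnit X ≫ w a) * u21 X x * (toUnit X ≫ w a)⁻¹ = u11 X nx ∧ (toUnit X ≫ w a) * u31 X x * (toUnit X ≫ w a)⁻¹ = x ≫ D.u b ∧
      (toUnit X ≫ w a) * u32 X x * (toUnit X ≫ w a)⁻¹ = u32 X x ∧ (toUnit X ≫ w b) * u11 X x * (toUnit X ≫ w b)⁻¹ = nx ≫ D.u a ∧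
      (toUnit X ≫ w b) * u21 X x * (toUnit X ≫ w b)⁻¹ = u21 X x ∧ (toUnit X ≫ w b) * u32 X x * (toUnit X ≫ w b)⁻¹ = u31 X nx := by
  rcases isEmpty_or_nonempty S with hS | ⟨⟨s⟩⟩
  · have := (RedCell16.hom_subsingleton X G).2; refine ⟨?_, ?_, ?_, ?_, ?_, ?_⟩ <;> exact Subsingleton.elim _ _
  haveI : D.P.IsReduced := RedCell16.isReduced D.toSplitRed s
  haveI := fun c => (D.rootHom c).1
  have Ea := RedCell16.pinned_dualPair D avc havc hpair ha
  have Eb := RedCell16.pinned_dualPair D avc havc hpair hb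
  have hc := fun (c d : D.idx) (Y : Over S) (z : Y ⟶ Red.Ga S) => RedCell16.pinned_cj D e₁ he₁ w hw c d z
  have hW := RedCell16.pinned_Wy D e₁ he₁ w hw
  have ww := fun (d : D.idx) (E : RedCell16.DualPair D.toSplitRed d) (c : D.idx) (t : Γ(X.left, ⊤)) (k : ℤ) (hk : D.P.pairing c d = k) =>
    RedCell16.cj_Wy_Wy D.toSplitRed E c X t k hk
  have hP := fun (c : D.idx) (z : X ⟶ Red.Ga S) => RankOne.comp_eq_P (D.u c) z
  have h := RedCell16.pinned_pairSys D a b ha hb (p := 3) (Or.inr (Or.inr rfl)) hba hab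
  haveI := D.fintypeIdx
  obtain ⟨ν1, -, hν1⟩ := RedCell16.exists_cj_coeff D.toSplitRed D.base Eb a _ rfl
  obtain ⟨q, -, hq⟩ := RedCell16.exists_cj_coeff D.toSplitRed D.base Ea (D.P.reflectionPerm b a) _ rfl
  obtain ⟨ρ, -, hρ⟩ := RedCell16.exists_cj_coeff D.toSplitRed D.base Ea b _ rfl
  obtain ⟨l4, -, hl4⟩ := RedCell16.exists_cj_coeff D.toSplitRed D.base Eb (D.P.reflectionPerm a b) _ rfl
  have rc : D.P.root (D.P.reflectionPerm b a) = (1 : ℤ) • D.P.root a + (1 : ℤ) • D.P.root b :=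
    (h.root_refl_b (RedCell16.root_coords_a a b)).trans (by norm_num)
  have rd : D.P.root (D.P.reflectionPerm a b) = (3 : ℤ) • D.P.root a + (1 : ℤ) • D.P.root b :=
    (h.root_refl_a (RedCell16.root_coords_b a b)).trans (by norm_num)
  have rf : D.P.root (D.P.reflectionPerm b (D.P.reflectionPerm a b)) = (3 : ℤ) • D.P.root a + (2 : ℤ) • D.P.root b :=
    (h.root_refl_b rd).trans (by norm_num)
  have re : D.P.root (D.P.reflectionPerm a (D.P.reflectionPerm b a)) = (2 : ℤ) • D.P.root a + (1 : ℤ) • D.P.root b :=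
    (h.root_refl_a rc).trans (by norm_num)
  have fix : ∀ (p c : D.idx) (p1 p2 c1 c2 : ℤ) (t : Γ(X.left, ⊤)),
      D.P.root p = p1 • D.P.root a + p2 • D.P.root b → D.P.root c = c1 • D.P.root a + c2 • D.P.root b →
      (p1 + c1, p2 + c2) ∉ RedCell16.pairList 3 → (c1 - p1, c2 - p2) ∉ RedCell16.pairList 3 →
      (p1 + c1, p2 + c2) ≠ (0 : ℤ × ℤ) → (c1 - p1, c2 - p2) ≠ (0 : ℤ × ℤ) →
      RedCell16.cj (RedCell16.Wy D.toSplitRed p X) (RankOne.P (D.u c) t) = RankOne.P (D.u c) t := by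
    intro p c p1 p2 c1 c2 t hp hc' n1 n2 z1 z2
    have e1 : D.P.root p + D.P.root c = (p1 + c1) • D.P.root a + (p2 + c2) • D.P.root b := by
      rw [hp, hc']; simp only [add_smul]; abel
    have e2 : D.P.root c - D.P.root p = (c1 - p1) • D.P.root a + (c2 - p2) • D.P.root b := by
      rw [hp, hc']; simp only [sub_smul]; abel
    refine RedCell16.commute_Wy D.toSplitRed D.base (e1 ▸ h.notMem n1) (e2 ▸ h.notMem n2)
      (fun he => z1 ?_) (fun he => z2 ?_) X t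
    · obtain ⟨r1, r2⟩ := h.coords_inj (e1.symm.trans he); simp [r1, r2]
    · obtain ⟨r1, r2⟩ := h.coords_inj (e2.symm.trans he); simp [r1, r2]
  simp only [hu11, hu21, hu31, hu32, MonObj.comp_mul, hW, hP, hnx, ← RankOne.P_neg]
  refine ⟨?_, ?_, ?_, ?_, ?_, ?_⟩
  · show RedCell16.cj (RedCell16.Wy D.toSplitRed a X) (RedCell16.cj ((RedCell16.Wy D.toSplitRed a X) * (RedCell16.Wy D.toSplitRed b X)) (RankOne.P (D.u a) (Red.gaFn x))) = _
    rw [← RedCell16.cj_cj]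
    show RedCell16.cj _ (RedCell16.cj _ (RedCell16.cj _ _)) = RedCell16.cj _ _
    rw [hν1, hν1, ww a Ea _ _ (-1) (by rw [← RootPairing.root_coroot'_eq_pairing, rc, (h.coroot_eval 1 1).1]; norm_num)]
    congr 1
    simp
  · show RedCell16.cj _ (RedCell16.cj _ _) = _
    rw [ww a Ea b _ (-3) hba]
    congr 1
    simp [zpow_neg, pow_succ]
  · show RedCell16.cj (RedCell16.Wy D.toSplitRed a X) (RedCell16.cj ((RedCell16.Wy D.toSplitRed b X) * (RedCell16.Wy D.toSplitRed a X)) (RankOne.P (D.u b) (-Red.gaFn x))) =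
      RedCell16.cj ((RedCell16.Wy D.toSplitRed b X) * (RedCell16.Wy D.toSplitRed a X)) (RankOne.P (D.u b) (-Red.gaFn x))
    rw [← RedCell16.cj_cj]
    rw [hρ, hl4]
    exact fix a _ 1 0 3 2 _ (RedCell16.root_coords_a a b) rf (by decide) (by decide) (by decide) (by decide)
  · show RedCell16.cj _ (RedCell16.cj _ _) = _
    rw [ww b Eb a _ (-1) hab]
    congr 1
    simp
  · show RedCell16.cj (RedCell16.Wy D.toSplitRed b X) (RedCell16.cj ((RedCell16.Wy D.toSplitRed a X) * (RedCell16.Wy D.toSplitRed b X)) (RankOne.P (D.u a) (Red.gaFn x))) =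
      RedCell16.cj ((RedCell16.Wy D.toSplitRed a X) * (RedCell16.Wy D.toSplitRed b X)) (RankOne.P (D.u a) (Red.gaFn x))
    rw [← RedCell16.cj_cj]
    rw [hν1, hq]
    exact fix b _ 0 1 2 1 _ (RedCell16.root_coords_b a b) re (by decide) (by decide) (by decide) (by decide)
  · show RedCell16.cj (RedCell16.Wy D.toSplitRed b X) (RedCell16.cj ((RedCell16.Wy D.toSplitRed b X) * (RedCell16.Wy D.toSplitRed a X)) (RankOne.P (D.u b) (-Red.gaFn x))) = _
    rw [← RedCell16.cj_cj]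
    show RedCell16.cj _ (RedCell16.cj _ (RedCell16.cj _ _)) = RedCell16.cj _ _
    rw [hρ, hρ, ww b Eb _ _ (-1) (by rw [← RootPairing.root_coroot'_eq_pairing, rd, (h.coroot_eval 3 1).2]; norm_num)]
    congr 1
    simp

end Groth.Agent.S8486
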