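import Groth.Statements.S8487
import Groth.Agent.Lib.RankOne16.Centr

set_option linter.style.haveILetI false
set_option backward.isDefEq.respectTransparency false
set_option backward.isDefEq.respectTransparency.types false
-- import your own Groth.Agent.* helpers here

set_option autoImplicit false
universe u
open CategoryTheory MonoidalCategory CartesianMonoidalCategory MonObj GrpObj AlgebraicGeometry CategoryTheory.Limits
open Red

namespace Groth.Agent.S8487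

/-- Let G be a reductive S-group, i : T ⟶ G a maximal torus, α a character of T non-trivial on every
geometric fibre, p₊, p₋ : 𝔾_a ⟶ G monomorphisms of groups normalised by T with multipliers α and α⁻¹
whose cell map (y, t, x) ↦ p₋(y) i(t) p₊(x) is an open immersion 𝔾_a ×_S T ×_S 𝔾_a ⟶ G, and α^* :
𝔾_m ⟶ T the coroot: α ∘ α^* is the squaring map and p₊(x) p₋(y) = p₋(y/(1+xy)) · i(α^*(1+xy)) ·
p₊(x/(1+xy)) whenever 1 + xy is invertible (so p₊ and p₋ are dual to each other). Let n be a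
non-zero integer and w an S-point of G such that w · i(α^*(z))^n · w⁻¹ = i(α^*(z))^{-n} for all
points z of 𝔾_m (after base change). Then w is a point of N^× = Norm_G(T) − T: it normalises T, with
w i(t) w⁻¹ = i(α^*(α(t)))⁻¹ i(t) for all points t of T, and for no geometric point s̄ of S does
w(s̄) lie in T. (The published statement is an equivalence; this row states only this implication.) -/
theorem result (S : Scheme.{u}) (G T : Over S) [GrpObj G] [GrpObj T] (i : T ⟶ G) [IsMonHom i] [Mono i] (hG : Red.IsReductive G) (hTm : Red.IsMaximalTorus i)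
    (α : T ⟶ Red.Gm S) [IsMonHom α] (hα : ∀ s : S, (Over.pullback (Red.geomPt s)).map α ≠ 1)
    (pp pm : Red.Ga S ⟶ G) [IsMonHom pp] [Mono pp] [IsMonHom pm] [Mono pm]
    (hpp : ∀ (X : Over S) (t : X ⟶ T) (x : X ⟶ Red.Ga S), ∃ x' : X ⟶ Red.Ga S,
      x' ≫ pp = (t ≫ i) * (x ≫ pp) * (t ≫ i)⁻¹ ∧ Red.gaFn x' = Red.gmFn (t ≫ α) * Red.gaFn x)
    (hpm : ∀ (X : Over S) (t : X ⟶ T) (y : X ⟶ Red.Ga S), ∃ y' : X ⟶ Red.Ga S,
      y' ≫ pm = (t ≫ i) * (y ≫ pm) * (t ≫ i)⁻¹ ∧ Red.gaFn y' * Red.gmFn (t ≫ α) = Red.gaFn y)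
    (hΩ : IsOpenImmersion (((pm ⊗ₘ i) ⊗ₘ pp) ≫ (μ[G] ▷ G) ≫ μ[G]).left)
    (av : Red.Gm S ⟶ T) [IsMonHom av] (h2 : av ≫ α = (𝟙 (Red.Gm S)) ^ 2)
    (hF : ∀ (X : Over S) (x y : X ⟶ Red.Ga S), IsUnit (1 + Red.gaFn x * Red.gaFn y) →
      ∃ (x' y' : X ⟶ Red.Ga S) (z : X ⟶ Red.Gm S), Red.gmFn z = 1 + Red.gaFn x * Red.gaFn y ∧
        Red.gaFn x' * Red.gmFn z = Red.gaFn x ∧ Red.gaFn y' * Red.gmFn z = Red.gaFn y ∧
        (x ≫ pp) * (y ≫ pm) = (y' ≫ pm) * (z ≫ av ≫ i) * (x' ≫ pp))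
    (n : ℤ) (hn : n ≠ 0) (w : 𝟙_ (Over S) ⟶ G)
    (hw : ∀ (X : Over S) (z : X ⟶ Red.Gm S),
      (toUnit X ≫ w) * (((z ≫ av) ^ n) ≫ i) * (toUnit X ≫ w)⁻¹ = ((((z ≫ av) ^ n) ≫ i))⁻¹) :
    (∀ (X : Over S) (t : X ⟶ T), (toUnit X ≫ w) * (t ≫ i) * (toUnit X ≫ w)⁻¹ = (t ≫ α ≫ av ≫ i)⁻¹ * (t ≫ i)) ∧
      ∀ s : S, ¬ ∃ t : Over.mk (Red.geomPt s) ⟶ T, t ≫ i = toUnit (Over.mk (Red.geomPt s)) ≫ w := by
  have hT : Red.IsTorus T := hTm.2.2.1
  have D : RankOne.Datum i α pp pm av := ⟨‹_›, ‹_›, ‹_›, ‹_›, hpp, hpm, h2, hF⟩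
  have hR : RankOne16.Rig G := RankOne16.Rig.of_isReductive hG
  obtain ⟨t₀, ht₀⟩ := RankOne16.eq_torus_mul_W D hT hΩ hR n hn w fun X' e v => by
    rw [Subsingleton.elim e (toUnit X')]
    have h1 := hw X' (GmPts.ptOfUnit v)
    rwa [RankOne16.zpow_av_i, GmPts.unitOfPt_ptOfUnit] at h1
  refine ⟨fun X t => ?_, fun s => ?_⟩
  · rw [ht₀, MonObj.comp_mul, RankOne16.comp_W, ← Category.assoc]
    set r := toUnit X ≫ t₀
    rw [show (t ≫ α ≫ av ≫ i) = RankOne.A i av (GmPts.unitOfPt (t ≫ α)) by rw [← Category.assoc, RankOne.comp_eq_A],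
      show (r ≫ i) * RankOne16.W pp pm * (t ≫ i) * ((r ≫ i) * RankOne16.W pp pm)⁻¹ =
        (r ≫ i) * (RankOne16.W pp pm * (t ≫ i) * (RankOne16.W pp pm)⁻¹) * (r ≫ i)⁻¹ by simp [_root_.mul_assoc],
      RankOne16.W_conj_T D, ← RankOne.A_inv]
    rw [← _root_.mul_assoc (r ≫ i), ← RankOne16.A_comm_T D hT, _root_.mul_assoc, _root_.mul_assoc, ← _root_.mul_assoc (r ≫ i),
      ← MonObj.mul_comp r t i, RankOne16.torus_comm hT r t, MonObj.mul_comp, mul_inv_cancel_right]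
  · rintro ⟨t, ht⟩
    obtain ⟨v, hv⟩ := RankOne16.exists_zpow_ne_one (Red.geomPt s) 4 (by norm_num)
    set r := toUnit (Over.mk (Red.geomPt s)) ≫ t₀
    have e1 : RankOne16.W pp pm = ((r⁻¹ * t) ≫ i : RankOne16.kPt (Red.geomPt s) ⟶ G) := by
      rw [MonObj.mul_comp, GrpObj.inv_comp, ht, ht₀, MonObj.comp_mul, RankOne16.comp_W, ← Category.assoc,
        inv_mul_cancel_left]
    have e2 := RankOne16.W_conj_A D v
    rw [e1, ← RankOne16.A_comm_T D hT, mul_inv_cancel_right, ← RankOne.A_inv] at e2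
    have e3 : GmPts.ptOfUnit v ≫ av = GmPts.ptOfUnit v⁻¹ ≫ av := by
      rw [← cancel_mono i, Category.assoc, Category.assoc]
      exact e2
    have e4 := congrArg (fun z => GmPts.unitOfPt (z ≫ α)) e3
    simp only [RankOne.unitOfPt_av D] at e4
    refine hv ?_
    rw [show (4 : ℤ) = (1 + 1) + (1 + 1) by norm_num, zpow_add, zpow_add, zpow_one]
    nth_rewrite 1 [e4]
    group

end Groth.Agent.S8487
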