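import Groth.Statements.S8489
import Groth.Agent.Lib.RankOne16.UnitVal

set_option linter.style.haveILetI false
set_option backward.isDefEq.respectTransparency false
set_option backward.isDefEq.respectTransparency.types false
-- import your own Groth.Agent.* helpers here

set_option autoImplicit false
universe u
open CategoryTheory MonoidalCategory CartesianMonoidalCategory MonObj GrpObj AlgebraicGeometry CategoryTheory.Limits
open Red

namespace Groth.Agent.S8489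

/-- At the level of root homomorphisms. Let G be a reductive S-group, i : T ⟶ G a maximal torus, α a
character of T non-trivial on every geometric fibre, and p₊, p₋ : 𝔾_a ⟶ G monomorphisms of groups
normalised by T with multipliers α and α⁻¹ such that 𝔾_a ×_S T ×_S 𝔾_a ⟶ G, (y, t, x) ↦ p₋(y) i(t)
p₊(x), is an open immersion (a rank-one system: G has semisimple rank 1 and p₊, p₋ trivialise the
root groups of α and -α). Then every monomorphism of groups p : 𝔾_a ⟶ G normalised by T with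
multiplier α is a rescaling of p₊ by a unit: there is exactly one S-point c of 𝔾_m with p(x) = p₊(c
x) for all points x of 𝔾_a. (The published statement is a bijection between the nowhere-vanishing
sections of the root line bundle and such monomorphisms; this row states it after fixing p₊.) -/
theorem result (S : Scheme.{u}) (G T : Over S) [GrpObj G] [GrpObj T] (i : T ⟶ G) [IsMonHom i] [Mono i] (hG : Red.IsReductive G) (hTm : Red.IsMaximalTorus i)
    (α : T ⟶ Red.Gm S) [IsMonHom α] (hα : ∀ s : S, (Over.pullback (Red.geomPt s)).map α ≠ 1)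
    (pp pm : Red.Ga S ⟶ G) [IsMonHom pp] [Mono pp] [IsMonHom pm] [Mono pm]
    (hpp : ∀ (X : Over S) (t : X ⟶ T) (x : X ⟶ Red.Ga S), ∃ x' : X ⟶ Red.Ga S,
      x' ≫ pp = (t ≫ i) * (x ≫ pp) * (t ≫ i)⁻¹ ∧ Red.gaFn x' = Red.gmFn (t ≫ α) * Red.gaFn x)
    (hpm : ∀ (X : Over S) (t : X ⟶ T) (y : X ⟶ Red.Ga S), ∃ y' : X ⟶ Red.Ga S,
      y' ≫ pm = (t ≫ i) * (y ≫ pm) * (t ≫ i)⁻¹ ∧ Red.gaFn y' * Red.gmFn (t ≫ α) = Red.gaFn y)
    (hΩ : IsOpenImmersion (((pm ⊗ₘ i) ⊗ₘ pp) ≫ (μ[G] ▷ G) ≫ μ[G]).left)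
    (p : Red.Ga S ⟶ G) [IsMonHom p] [Mono p]
    (hp : ∀ (X : Over S) (t : X ⟶ T) (x : X ⟶ Red.Ga S), ∃ x' : X ⟶ Red.Ga S,
      x' ≫ p = (t ≫ i) * (x ≫ p) * (t ≫ i)⁻¹ ∧ Red.gaFn x' = Red.gmFn (t ≫ α) * Red.gaFn x) :
    ∃! c : 𝟙_ (Over S) ⟶ Red.Gm S, ∀ (X : Over S) (x y : X ⟶ Red.Ga S),
      Red.gaFn y = Red.gmFn (toUnit X ≫ c) * Red.gaFn x → x ≫ p = y ≫ pp := by
  have hT : Red.IsTorus T := hTm.2.2.1
  have hp1 : ∀ (X : Over S) (t : X ⟶ T) (x x' : X ⟶ Red.Ga S),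
      Red.gaFn x' = Red.gmFn (t ≫ 𝟙 T ≫ α) * Red.gaFn x →
      x' ≫ p = ((t ≫ 𝟙 T ≫ i) ^ 1) * (x ≫ p) * ((t ≫ 𝟙 T ≫ i) ^ 1)⁻¹ := fun X t x x' hx => by
    obtain ⟨y, hy, hy'⟩ := hp X t x
    rw [Category.id_comp] at hx ⊢
    rw [pow_one, ← hy, GaPts.gaFn_eq_iff.1 (hy'.trans hx.symm)]
  obtain ⟨ν, hν, hP⟩ := RankOne16.exists_coeff (j := 𝟙 T) hT hT (fun s => by rw [Category.id_comp]; exact hα s)
    hpp hpm hΩ hp1
  simp only [pow_one] at hP
  have hu : IsUnit (ν (𝟙_ (Over S))) := RankOne16.isUnit_of_geom _ fun s hs => by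
    have h1 : RankOne.P p (1 : Γ((RankOne16.kPt (Red.geomPt s ≫ (𝟙_ (Over S)).hom)).left, ⊤)) = RankOne.P p 0 := by
      rw [hP, hP, ← hν _ _ (RankOne16.geomHom s), hs, zero_mul, zero_mul]
    have h2 := congrArg Red.gaFn ((cancel_mono p).1 h1)
    rw [GaPts.gaFn_ptOfFn, GaPts.gaFn_ptOfFn] at h2
    obtain ⟨v, hv⟩ := RankOne16.exists_zpow_ne_one (Red.geomPt s ≫ (𝟙_ (Over S)).hom) 1 one_ne_zero
    rw [zpow_one] at hv
    haveI := subsingleton_of_zero_eq_one h2.symm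
    exact hv (Subsingleton.elim _ _)
  refine ⟨GmPts.ptOfUnit hu.unit, fun X x y hy => ?_, fun c' hc' => ?_⟩
  · rw [RankOne.comp_eq_P p, RankOne.comp_eq_P pp, hP, hy, GmPts.gmFn_comp, GmPts.gmFn_ptOfUnit, IsUnit.unit_spec,
      hν _ _ (toUnit X)]
  · apply GmPts.gmFn_injective
    show Red.gmFn c' = Red.gmFn (GmPts.ptOfUnit _)
    rw [GmPts.gmFn_ptOfUnit, IsUnit.unit_spec]
    have h := hc' (𝟙_ (Over S)) (GaPts.ptOfFn 1) (GaPts.ptOfFn (Red.gmFn c')) (by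
      rw [GaPts.gaFn_ptOfFn, GaPts.gaFn_ptOfFn, Subsingleton.elim (toUnit (𝟙_ (Over S))) (𝟙 _),
        Category.id_comp, _root_.mul_one])
    rw [show GaPts.ptOfFn 1 ≫ p = RankOne.P p 1 from rfl, hP, _root_.mul_one] at h
    have h2 := congrArg Red.gaFn ((cancel_mono pp).1 h)
    rw [GaPts.gaFn_ptOfFn, GaPts.gaFn_ptOfFn] at h2
    exact h2.symm

end Groth.Agent.S8489
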