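import Groth.Statements.S8496
import Groth.Agent.Lib.FibreLocus.Apps
import Mathlib.AlgebraicGeometry.Morphisms.LocalFlatDescent

set_option autoImplicit false
set_option linter.style.haveILetI false
open CategoryTheory MonoidalCategory CartesianMonoidalCategory MonObj GrpObj AlgebraicGeometry
universe u
open Par
open CategoryTheory.Limits

namespace Groth.Agent.S8496

open Groth.Agent.FibreLocus

set_option backward.isDefEq.respectTransparency false

theorem isPullback_map_left {S T : Scheme.{u}} (g : T ⟶ S) {X G : Over S} (m : X ⟶ G) :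
    IsPullback (pullback.fst X.hom g) ((Over.pullback g).map m).left m.left (pullback.fst G.hom g) := by
  refine IsPullback.of_bot (v₂₁ := pullback.snd G.hom g) (v₂₂ := G.hom) ?_
    (by simp) (IsPullback.of_hasPullback _ _)
  simpa using IsPullback.of_hasPullback X.hom g

theorem smooth_map_of_smooth_comp {S T T' : Scheme.{u}} (g : T ⟶ S) (c : T' ⟶ T) [Surjective c] [Flat c]
    [QuasiCompact c] {X G : Over S} (m : X ⟶ G)
    (h : Smooth ((Over.pullback (c ≫ g)).map m).left) : Smooth ((Over.pullback g).map m).left := by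
  let β : pullback G.hom (c ≫ g) ⟶ pullback G.hom g :=
    pullback.lift (pullback.fst _ _) (pullback.snd _ _ ≫ c) (by rw [Category.assoc]; exact pullback.condition)
  let α : pullback X.hom (c ≫ g) ⟶ pullback X.hom g :=
    pullback.lift (pullback.fst _ _) (pullback.snd _ _ ≫ c) (by rw [Category.assoc]; exact pullback.condition)
  have hβ₀ : IsPullback β (pullback.snd G.hom (c ≫ g)) (pullback.snd G.hom g) c :=
    IsPullback.of_right (by simpa [β] using IsPullback.of_hasPullback G.hom (c ≫ g))
      (pullback.lift_snd _ _ _) (IsPullback.of_hasPullback G.hom g)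
  have hβ : (@Surjective ⊓ @Flat ⊓ @QuasiCompact : MorphismProperty Scheme.{u}) β :=
    ⟨⟨MorphismProperty.of_isPullback hβ₀.flip ‹Surjective c›,
      MorphismProperty.of_isPullback hβ₀.flip ‹Flat c›⟩,
      MorphismProperty.of_isPullback hβ₀.flip ‹QuasiCompact c›⟩
  have key : IsPullback α ((Over.pullback (c ≫ g)).map m).left ((Over.pullback g).map m).left β := by
    refine IsPullback.of_right (h₁₂ := pullback.fst X.hom g) (h₂₂ := pullback.fst G.hom g) (v₁₃ := m.left)
      ?_ ?_ (isPullback_map_left g m)
    · simpa [α, β] using isPullback_map_left (c ≫ g) m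
    · apply pullback.hom_ext <;> simp [α, β]
  exact MorphismProperty.of_isPullback_of_descendsAlong (P := @Smooth)
    (Q := @Surjective ⊓ @Flat ⊓ @QuasiCompact) key.flip hβ h

theorem isPullback_comp {S T T' : Scheme.{u}} (g : T ⟶ S) (c : T' ⟶ T) {X G : Over S} (m : X ⟶ G) :
    IsPullback (pullback.lift (pullback.fst X.hom (c ≫ g)) (pullback.snd _ _ ≫ c)
        (by rw [Category.assoc]; exact pullback.condition) : pullback X.hom (c ≫ g) ⟶ pullback X.hom g)
      ((Over.pullback (c ≫ g)).map m).left ((Over.pullback g).map m).left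
      (pullback.lift (pullback.fst G.hom (c ≫ g)) (pullback.snd _ _ ≫ c)
        (by rw [Category.assoc]; exact pullback.condition)) := by
  refine IsPullback.of_right (h₁₂ := pullback.fst X.hom g) (h₂₂ := pullback.fst G.hom g) (v₁₃ := m.left)
    ?_ ?_ (isPullback_map_left g m)
  · simpa using isPullback_map_left (c ≫ g) m
  · apply pullback.hom_ext <;> simp

theorem smooth_of_fibres {X Y S : Scheme.{u}} (f : X ⟶ Y) (g : Y ⟶ S) (h : X ⟶ S) (w : f ≫ g = h)
    [Smooth g] [Smooth h] (H : ∀ s, Smooth (CohIII.fiberMapOver f h g w s)) : Smooth f := by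
  subst w
  rw [← forall_smoothPt_iff]
  intro x
  obtain ⟨x', hx⟩ : x ∈ Set.range ((f ≫ g).fiberι ((f ≫ g) x)) := by
    rw [Scheme.Hom.range_fiberι]; rfl
  rw [← hx, smoothPt_iff_fiberMapOver f g x' (Flat.stalkMap (f ≫ g) _)]
  exact (forall_smoothPt_iff _).2 (H _) x'

theorem smooth_iff_fibrewise {S : Scheme.{u}} {X G : Over S} (m : X ⟶ G) [Smooth X.hom] [Smooth G.hom] :
    Smooth m.left ↔ ∀ s : S, Smooth ((Over.pullback (S.fromSpecResidueField s)).map m).left := by
  refine ⟨fun h s => MorphismProperty.of_isPullback (P := @Smooth) (isPullback_map_left _ m) h, fun h => ?_⟩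
  refine smooth_of_fibres m.left G.hom X.hom (Over.w m) fun s => ?_
  have e : ((Over.pullback (S.fromSpecResidueField s)).map m).left =
      CohIII.fiberMapOver m.left X.hom G.hom (Over.w m) s := by
    apply pullback.hom_ext <;> simp [CohIII.fiberMapOver]
  exact e ▸ h s


/-- Transversal position of a pair of parabolic subgroups is read here as smoothness of the
multiplication morphism P ×_S Q ⟶ G (one of its equivalent characterisations). Let G be a reductive
S-group and P, Q parabolic subgroups. Then (P, Q) is in transversal position if and only if (P_s,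
Q_s) is for every point s of S; and if (P_{S'}, Q_{S'}) is in transversal position for some
surjective S' ⟶ S then so is (P, Q). -/
theorem result {S : Scheme.{u}} {G P Q : Over S} [GrpObj G] [GrpObj P]
    [GrpObj Q] (hG : Red.IsReductive G) (p : P ⟶ G) (q : Q ⟶ G) (hP : Red.IsParabolic p) (hQ : Red.IsParabolic q) :
    (Smooth ((p ⊗ₘ q) ≫ μ[G]).left ↔
      ∀ s : S, Smooth ((Over.pullback (S.fromSpecResidueField s)).map ((p ⊗ₘ q) ≫ μ[G])).left) ∧
    ∀ (S' : Scheme.{u}) (g : S' ⟶ S), Surjective g →
      Smooth ((Over.pullback g).map ((p ⊗ₘ q) ≫ μ[G])).left → Smooth ((p ⊗ₘ q) ≫ μ[G]).left := by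
  haveI := hP.2.2.1
  haveI := hQ.2.2.1
  haveI : Smooth G.hom := hG.2.1
  haveI : Smooth (P ⊗ Q).hom := by
    rw [Over.tensorObj_hom]; infer_instance
  refine ⟨smooth_iff_fibrewise _, fun S' g hg h => (smooth_iff_fibrewise _).2 fun s => ?_⟩
  obtain ⟨s', rfl⟩ := hg.surj s
  haveI := h
  let c := Spec.map (g.residueFieldMap s')
  haveI : Surjective c := ⟨fun x => ⟨IsLocalRing.closedPoint _, Subsingleton.elim _ _⟩⟩
  haveI : Flat c := by
    rw [HasRingHomProperty.Spec_iff (P := @Flat)]
    exact RingHom.Flat.of_isField (Field.toIsField _) _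
  refine smooth_map_of_smooth_comp _ c _ ?_
  rw [show c ≫ S.fromSpecResidueField (g s') = S'.fromSpecResidueField s' ≫ g from
    g.SpecMap_residueFieldMap_fromSpecResidueField s']
  exact MorphismProperty.of_isPullback (P := @Smooth) (isPullback_comp g (S'.fromSpecResidueField s') _) h

end Groth.Agent.S8496
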