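import Groth.Statements.S8513
-- import your own Groth.Agent.* helpers here

set_option autoImplicit false
set_option linter.style.haveILetI false
open CategoryTheory MonoidalCategory CartesianMonoidalCategory MonObj GrpObj AlgebraicGeometry
universe u
open Par
open CategoryTheory.Limits

namespace Groth.Agent.S8513

/-- Let G be a reductive S-group and P, Q two parabolic subgroups of G in transversal position (the
multiplication morphism P ×_S Q ⟶ G is smooth). Then P ∩ Q (a fibre product of P and Q over G) is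
smooth over S. -/
theorem result {S : Scheme.{u}} {G P Q I : Over S} [GrpObj G] [GrpObj P] [GrpObj Q]
    (hG : Red.IsReductive G) (p : P ⟶ G) (q : Q ⟶ G) (hP : Red.IsParabolic p) (hQ : Red.IsParabolic q)
    (htr : Smooth ((p ⊗ₘ q) ≫ μ[G]).left) (m : I ⟶ P) (m' : I ⟶ Q) (hI : IsPullback m m' p q) :
    Smooth I.hom := by
  haveI := hP.1
  haveI := hQ.1
  let l : I ⟶ P ⊗ Q := lift m (m' ≫ ι[Q])
  let μ' : P ⊗ Q ⟶ G := (p ⊗ₘ q) ≫ μ[G]
  let one : 𝟙_ (Over S) ⟶ G := η[G]
  have hμ : ∀ {T : Over S} (x : T ⟶ P ⊗ Q), x ≫ μ' = (x ≫ fst P Q ≫ p) * (x ≫ snd P Q ≫ q) := by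
    intro T x
    rw [Hom.mul_def, show μ' = (p ⊗ₘ q) ≫ μ[G] from rfl, ← Category.assoc]
    congr 1
    ext <;> simp
  have hone : ∀ {T : Over S}, toUnit T ≫ one = 1 := fun {T} => rfl
  have hw : l ≫ μ' = toUnit I ≫ one := by
    rw [hμ, hone, ← Category.assoc, ← Category.assoc, lift_fst, lift_snd, hI.w, Category.assoc,
      GrpObj.inv_hom q, ← Category.assoc, ← Hom.inv_def, mul_inv_cancel]
  have key : IsPullback l (toUnit I) μ' one := by
    refine ⟨⟨hw⟩, ⟨PullbackCone.IsLimit.mk _ (fun s => hI.lift (s.fst ≫ fst P Q) ((s.fst ≫ snd P Q) ≫ ι[Q]) ?_)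
      (fun s => ?_) (fun s => toUnit_unique _ _) (fun s j h1 _ => ?_)⟩⟩
    · have h := s.condition
      rw [hμ, toUnit_unique s.snd (toUnit _), hone, mul_eq_one_iff_eq_inv] at h
      rw [Category.assoc, h, Category.assoc (s.fst ≫ snd P Q), GrpObj.inv_hom q, ← Category.assoc,
        ← Hom.inv_def, GrpObj.comp_inv, Category.assoc]
    · ext
      · rw [Category.assoc, lift_fst, hI.lift_fst]
      · rw [Category.assoc, lift_snd, ← Category.assoc, hI.lift_snd, Category.assoc, GrpObj.inv_comp_inv,
          Category.comp_id]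
    · refine hI.hom_ext ?_ ?_
      · rw [hI.lift_fst, ← h1, Category.assoc, lift_fst]
      · rw [hI.lift_snd, ← h1]
        simp only [Category.assoc, lift_snd_assoc, GrpObj.inv_comp_inv, Category.comp_id, l]
  haveI : Smooth μ'.left := htr
  have h : Smooth (toUnit I).left := MorphismProperty.of_isPullback (P := @Smooth) (key.map (Over.forget S)) ‹Smooth μ'.left›
  rwa [show (toUnit I).left = I.hom from (by simpa using Over.w (toUnit I))] at h

end Groth.Agent.S8513
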