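import Groth.Statements.S8517
import Groth.Agent.Lib.RootComb21.Exchange
-- import your own Groth.Agent.* helpers here

set_option autoImplicit false
open CategoryTheory MonoidalCategory CartesianMonoidalCategory MonObj GrpObj AlgebraicGeometry
universe u
open RedSub

namespace Groth.Agent.S8517

/-- Let R be the set of roots of a root pairing over ℤ with finitely many roots, and R₁, R₂ two closed
subsets of R (if a, b ∈ Rᵢ and root a + root b is a root c then c ∈ Rᵢ), each containing a system of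
positive roots (the positive roots of some base). If R₁ ∪ R₂ = R, then R₁ ∩ (−R₂) (the roots of R₁
whose negative is a root in R₂) contains a system of positive roots. -/
theorem result {idx M N : Type} [Finite idx] [AddCommGroup M] [AddCommGroup N] (P : RootPairing idx ℤ M N) (R₁ R₂ : Set idx)
    (h₁ : ∀ a b c : idx, a ∈ R₁ → b ∈ R₁ → P.root a + P.root b = P.root c → c ∈ R₁)
    (h₂ : ∀ a b c : idx, a ∈ R₂ → b ∈ R₂ → P.root a + P.root b = P.root c → c ∈ R₂)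
    (hb₁ : ∃ b : P.Base, RedSub.posRoots P b ⊆ R₁) (hb₂ : ∃ b : P.Base, RedSub.posRoots P b ⊆ R₂)
    (hunion : R₁ ∪ R₂ = Set.univ) :
    ∃ b : P.Base, RedSub.posRoots P b ⊆ {a | a ∈ R₁ ∧ ∃ c ∈ R₂, P.root a = -P.root c} := by
  have hmem : ∀ a, (∃ c ∈ R₂, P.root a = -P.root c) ↔ RootDLib.ng P a ∈ R₂ := by
    refine fun a => ⟨?_, fun h => ⟨_, h, by rw [RootDLib.root_ng, neg_neg]⟩⟩
    rintro ⟨c, hc, h⟩
    have : c = RootDLib.ng P a := RootDLib.root_eq_ng P (by rw [h, neg_neg])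
    exact this ▸ hc
  have hcov : ∀ (R : Set idx), (∃ b : P.Base, RedSub.posRoots P b ⊆ R) →
      ∀ a, a ∈ R ∨ RootDLib.ng P a ∈ R := by
    rintro R ⟨b, hb⟩ a
    have hΔ := RootComb21.isSimpleSys_support b
    exact ((RootDLib.isPosSys_posOf hΔ).cover a).imp (fun h => hb h) (fun h => hb h)
  have hb₁' := hb₁
  obtain ⟨b, -⟩ := hb₁
  refine RootComb21.exists_posRoots_subset b ?_ fun a => ?_
  · rintro i j k ⟨hi, hi'⟩ ⟨hj, hj'⟩ hk
    refine ⟨h₁ i j k hi hj hk.symm, (hmem k).2 ?_⟩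
    refine h₂ _ _ _ ((hmem i).1 hi') ((hmem j).1 hj') ?_
    rw [RootDLib.root_ng, RootDLib.root_ng, RootDLib.root_ng, hk, neg_add]
  · change (a ∈ R₁ ∧ ∃ c ∈ R₂, P.root a = -P.root c) ∨
      (RootDLib.ng P a ∈ R₁ ∧ ∃ c ∈ R₂, P.root (RootDLib.ng P a) = -P.root c)
    rw [hmem, hmem, RootDLib.ng_ng]
    have e1 := hcov R₁ hb₁' a
    have e2 := hcov R₂ hb₂ a
    have e3 : a ∈ R₁ ∨ a ∈ R₂ := (hunion.symm ▸ Set.mem_univ a : a ∈ R₁ ∪ R₂)
    have e4 : RootDLib.ng P a ∈ R₁ ∨ RootDLib.ng P a ∈ R₂ :=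
      (hunion.symm ▸ Set.mem_univ (RootDLib.ng P a) : RootDLib.ng P a ∈ R₁ ∪ R₂)
    tauto

end Groth.Agent.S8517
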