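import Groth.Statements.S8522
import Groth.Agent.Lib.RedLR15.BaseChange
import Groth.Agent.Lib.CoalgH23.Hochschild
import Groth.Agent.Lib.CoalgH23.Integral
-- import your own Groth.Agent.* helpers here

set_option autoImplicit false
open CategoryTheory MonoidalCategory CartesianMonoidalCategory MonObj GrpObj AlgebraicGeometry
universe u
open Hoch

namespace Groth.Agent.S8522

/-- Let k be a field of characteristic 0, G = Spec A a reductive k-group (A a commutative Hopf algebra
over k) and V a finite-dimensional linear representation of G (a finite-dimensional A-comodule).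
Then H^n(G, V) = 0 for every n ≥ 1, the cohomology being that of the comodule cochain complex V ⊗
A^{⊗n}. (The first assertion, H^0(G, V) = H^0(Lie G, V), is not stated.) -/
theorem result (k : Type u) [Field k] [CharZero k] (A : Type u) [CommRing A]
    [HopfAlgebra k A] (hG : Red.IsReductive ((Spec (CommRingCat.of A)).asOver (Spec (CommRingCat.of k))))
    (V : Type u) [AddCommGroup V] [Module k V] [Module.Finite k V] [HopfRep.Comod k A V] (n : ℕ) (hn : 1 ≤ n) :
    Subsingleton (Hoch.H k A V n) := by
  haveI : Smooth (Spec.map (CommRingCat.ofHom (algebraMap k A))) := hG.2.1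
  haveI : Algebra.FiniteType k A := by
    have h := (HasRingHomProperty.Spec_iff (P := @LocallyOfFiniteType)).1
      (inferInstance : LocallyOfFiniteType (Spec.map (CommRingCat.ofHom (algebraMap k A))))
    exact RingHom.finiteType_algebraMap.1 h
  obtain ⟨l, hl1, hl⟩ := CoalgH23.exists_integral_of_hasFixedLifts
    (CoalgH23.hasFixedLifts_of_isLinearlyReductive (RedLR15.isLinearlyReductive_of_isReductive k A hG))
  obtain ⟨r, hr, hid⟩ := CoalgH23.exists_retract V hl1 hl
  obtain ⟨m, rfl⟩ := Nat.exists_eq_add_of_le' hn
  refine Submodule.Quotient.subsingleton_iff.2 ?_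
  rw [eq_top_iff]
  rintro ⟨z, hz⟩ -
  exact CoalgH23.cocycles_le_of_retract r hr hid m hz

end Groth.Agent.S8522
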