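import Groth.Statements.S8525
import Groth.Agent.Lib.EtStalk.Agree

set_option autoImplicit false
universe u
open CategoryTheory CategoryTheory.Limits AlgebraicGeometry Opposite
open EtAcyc

namespace Groth.Agent.S8525
open Groth.Agent.EtStalk

/-- Let L be a set of primes and F an abelian sheaf on the small etale site of a scheme X. Then F is an
L-torsion sheaf if and only if for every geometric point ξ of X every element of the stalk F_ξ is
killed by a positive integer all of whose prime factors lie in L. -/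
theorem result {X : Scheme.{u}} (L : Set ℕ) (F : EtCoh.Ab X) :
    EtAcyc.IsLTorsion L F ↔
      ∀ (Ω : Type u) [Field Ω] [IsSepClosed Ω] (ξ : Spec (CommRingCat.of Ω) ⟶ X)
        (t : (EtCoh.stalk ξ).obj F), ∃ m : ℕ, EtAcyc.PrimesIn L m ∧ m • t = 0 := by
  constructor
  · intro hF Ω _ _ ξ t
    obtain ⟨U, φ, s, rfl⟩ := germ_surjective ξ F t
    obtain ⟨V, g, m, hv, hm, hms⟩ := hF U s (fibPt φ)
    refine ⟨m, hm, ?_⟩
    rw [← map_nsmul, (mem_agree_iff_germ F φ (m • s) 0).1 ⟨V, g, hv, by rw [map_nsmul, hms, map_zero]⟩,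
      map_zero]
  · intro h U s x
    obtain ⟨φ, hφ⟩ := exists_fib U x
    obtain ⟨m, hm, hms⟩ := h _ _ (germ _ F φ s)
    obtain ⟨V, g, hv, he⟩ := (mem_agree_iff_germ F φ (m • s) 0).2 (by rw [map_nsmul, hms, map_zero])
    exact ⟨V, g, m, hφ ▸ hv, hm, by rw [← map_nsmul, he, map_zero]⟩

end Groth.Agent.S8525
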