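import Groth.Statements.S8528
import Groth.Agent.S2787
import Groth.Agent.Lib.NormSep24.ConstPoint
import Groth.Agent.Lib.FieldH25.H1
import Groth.Agent.Lib.Branch14.Main
import Groth.Agent.Lib.StalkCrit24.Fibres
import Groth.Agent.Lib.EtAcyc24.PushClasses

set_option autoImplicit false
universe u
open CategoryTheory CategoryTheory.Limits AlgebraicGeometry Opposite
open EtPBC

namespace Groth.Agent.S8528

set_option linter.style.haveILetI false
set_option backward.isDefEq.respectTransparency.types false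
open Groth.Agent.NormSep24 Groth.Agent.EtSite

/-- Geometric unibranchness from the strict localizations. -/
theorem isGeomUnibranch (A : Type u) [CommRing A] [IsLocalRing A]
    (h : ∀ (R : Type u) [CommRing R] [IsLocalRing R] [Algebra A R] [IsLocalHom (algebraMap A R)]
      [Hensel.IsStrictHenselization A R], IrreducibleSpace (PrimeSpectrum R)) :
    CAlg2.IsGeomUnibranch A := by
  obtain ⟨R, _, _, _, _, hR⟩ := StalkCrit24.exists_strictHenselization_of_local A
  haveI := hR
  have hP := PrimeSpectrum.irreducibleSpace_iff_isPrime_nilradical.1 (h R)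
  rw [← Branch14.numGeomBranches_eq_one_iff, ← Branch14.card_minimalPrimes_strictHenselization A R]
  have e : minimalPrimes R = {nilradical R} := by
    refine Set.eq_singleton_iff_unique_mem.2 ⟨⟨⟨hP, bot_le⟩, fun Q hQ _ => @nilradical_le_prime _ _ Q hQ.1⟩,
      fun Q hQ => ?_⟩
    haveI := hQ.1.1
    exact le_antisymm (hQ.2 ⟨hP, bot_le⟩ (nilradical_le_prime Q)) (nilradical_le_prime Q)
  rw [e, ENat.card_eq_one_iff_unique, unique_iff_subsingleton_and_nonempty]
  exact ⟨⟨fun a b => Subtype.ext (a.2.trans b.2.symm)⟩, ⟨⟨_, rfl⟩⟩⟩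

/-- Torsion-free constant sheaves have no first cohomology over a field. -/
theorem subsingleton_H_one_field (k : Type u) [Field k] (M : Type) [AddCommGroup M] [IsAddTorsionFree M] :
    Subsingleton (EtCoh.H (Spec (CommRingCat.of k)) (EtCoh.const (Spec (CommRingCat.of k)) M) 1) := by
  refine FieldH25.subsingleton_H_one _ fun L _ _ _ _ c hc => ⟨0, fun σ => ?_⟩
  rw [map_zero, sub_zero]
  have hirr : IrreducibleSpace (FieldH25.ext k L).left := inferInstanceAs (IrreducibleSpace (Spec (CommRingCat.of L)))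
  have hb := cst_bijective M (FieldH25.ext k L) hirr
  have htriv : ∀ (γ : L ≃ₐ[k] L) (z : (EtCoh.const (Spec (CommRingCat.of k)) M).obj.obj (op (FieldH25.ext k L))),
      FieldH25.galAct _ γ z = z := fun γ z => by
    obtain ⟨m, rfl⟩ := hb.2 z
    exact cst_res M (FieldH25.extMap k γ.toAlgHom) m
  have hadd : ∀ σ τ, c (σ * τ) = c τ + c σ := fun σ τ => by rw [hc, htriv]
  have h1 : c 1 = 0 := by simpa using hadd 1 1
  have hp : ∀ n : ℕ, c (σ ^ n) = n • c σ := fun n => by
    induction n with
    | zero => simpa using h1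
    | succ n ih => rw [pow_succ, hadd, ih, succ_nsmul, add_comm]
  have h0 := hp (Fintype.card (L ≃ₐ[k] L))
  rw [pow_card_eq_one, h1] at h0
  obtain ⟨m, hm⟩ := hb.2 (c σ)
  let φ : ULift.{u + 1} M →+ (EtCoh.const (Spec (CommRingCat.of k)) M).obj.obj (op (FieldH25.ext k L)) :=
    ((toSheafify (Spec (CommRingCat.of k)).smallEtaleTopology
      ((Functor.const (Spec (CommRingCat.of k)).Etaleᵒᵖ).obj (AddCommGrpCat.of (ULift.{u + 1} M)))).app
        (op (FieldH25.ext k L))).hom
  have hφ : φ m = c σ := hm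
  have h2 : Fintype.card (L ≃ₐ[k] L) • m = 0 := hb.1 (show φ _ = φ 0 by rw [map_nsmul, map_zero, hφ, ← h0])
  have h3 : m.down = 0 := nsmul_right_injective Fintype.card_ne_zero
    (show Fintype.card (L ≃ₐ[k] L) • m.down = Fintype.card (L ≃ₐ[k] L) • (0 : M) by
      rw [smul_zero]; exact congrArg ULift.down h2)
  rw [← hφ, show m = 0 from ULift.ext _ _ h3, map_zero]

/-- Let X be an irreducible scheme all of whose strict localizations are irreducible (for every point x
and every strict henselization R of the local ring at x, Spec R is irreducible; that is, X is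
geometrically unibranch), and M a torsion-free abelian group. Then H^1(X, M_X) = 0 for the constant
sheaf M_X on the small etale site. -/
theorem result (X : Scheme.{u}) [IrreducibleSpace X]
    (hX : ∀ (x : X) (R : Type u) [CommRing R] [IsLocalRing R] [Algebra (X.presheaf.stalk x) R]
      [IsLocalHom (algebraMap (X.presheaf.stalk x) R)] [Hensel.IsStrictHenselization (X.presheaf.stalk x) R],
      IrreducibleSpace (PrimeSpectrum R))
    (M : Type) [AddCommGroup M] [IsAddTorsionFree M] :
    Subsingleton (EtCoh.H X (EtCoh.const X M) 1) := by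
  have hU : ∀ x : X, CAlg2.IsGeomUnibranch (X.presheaf.stalk x) := fun x => isGeomUnibranch _ (hX x)
  let f := X.fromSpecResidueField (genericPoint X)
  have hr : Set.range f = {genericPoint X} := X.range_fromSpecResidueField _
  have hb : ∀ (V : X.Etale) (v : V.left), ∃ W : V.left.Opens, v ∈ W ∧ IrreducibleSpace W ∧
      IrreducibleSpace ((EtCoh.bc f).obj (sub V W)).left := by
    intro V v
    haveI : AlgebraicGeometry.Etale V.hom := V.prop
    obtain ⟨h1, h2⟩ := S2787.result (X := V.left) (Y := X) V.hom hU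
    obtain ⟨Z, ⟨hZ, hvZ⟩, -⟩ := h1 v
    obtain ⟨hZo, s, ⟨hsZ, hs⟩, hsu⟩ := h2 Z hZ
    have hZi : IsIrreducible Z := ⟨⟨v, hvZ⟩, hZ.1.2⟩
    refine ⟨⟨Z, hZo⟩, hvZ, isIrreducible_iff_irreducibleSpace.mp hZi, ?_⟩
    let g : (sub V (⟨Z, hZo⟩ : V.left.Opens)).left ⟶ X := (sub V (⟨Z, hZo⟩ : V.left.Opens)).hom
    haveI : IsPreimmersion (pullback.fst g f) := inferInstance
    refine irreducibleSpace_of_isEmbedding (φ := EtStalk.bcFst f (sub V (⟨Z, hZo⟩ : V.left.Opens)))
      (pullback.fst g f).isEmbedding ?_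
    rw [range_bcFst, hr]
    have e : (sub V (⟨Z, hZo⟩ : V.left.Opens)).hom ⁻¹' {genericPoint X} = {⟨s, hsZ⟩} := by
      ext z
      exact ⟨fun hz => Subtype.ext (hsu z.1 ⟨z.2, hz⟩), fun hz => hz ▸ hs⟩
    rw [e]
    exact isIrreducible_singleton
  haveI := isIso_unit_of_isIso_toPush M f (isIso_toPush M f hb)
  haveI := EtStalk.preservesFiniteLimits_pull f
  haveI : Subsingleton (EtCoh.H (Spec (X.residueField (genericPoint X)))
      ((EtCoh.pull f).obj (EtCoh.const X M)) 1) :=
    @Equiv.subsingleton _ _ ((EtCoh.HF _ 1).mapIso (EtCore.pullConst f M)).addCommGroupIsoToAddEquiv.toEquiv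
      (subsingleton_H_one_field (X.residueField (genericPoint X)) M)
  have h3 : Subsingleton (EtCoh.H X ((EtCoh.push f).obj ((EtCoh.pull f).obj (EtCoh.const X M))) 1) :=
    (EtAcyc24.injective_HofPush_one f _).subsingleton
  exact @Equiv.subsingleton _ _ ((EtCoh.HF X 1).mapIso
    (asIso ((EtCoh.pullPushAdj f).unit.app (EtCoh.const X M)))).addCommGroupIsoToAddEquiv.toEquiv h3

end Groth.Agent.S8528
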