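import Groth.Statements.S8539
import Groth.Agent.Lib.SHClosed19.Scheme
import Groth.Agent.Lib.RInv29.Henselian
import Groth.Agent.S0538
-- import your own Groth.Agent.* helpers here

set_option autoImplicit false
universe u
open CategoryTheory CategoryTheory.Limits AlgebraicGeometry Opposite
open EtCd

namespace Groth.Agent.S8539

set_option linter.style.haveILetI false
set_option backward.isDefEq.respectTransparency.types false


/-- Let X be a scheme of finite type over a field k, x a point of X and A a strict henselization of the
local ring of X at x. Then there are a separably closed field k', a scheme X' of finite type over k'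
and a closed point x' of X' such that A is (isomorphic to) a strict henselization of the local ring
of X' at x': some local algebra structure over that local ring makes A a strict henselization of it. -/
theorem result (k : Type u) [Field k] {X : Scheme.{u}}
    (f : X ⟶ Spec (CommRingCat.of k)) [LocallyOfFiniteType f] [QuasiCompact f] (x : X)
    (A : Type u) [CommRing A] [IsLocalRing A] [Algebra (X.presheaf.stalk x) A]
    [IsLocalHom (algebraMap (X.presheaf.stalk x) A)] [Hensel.IsStrictHenselization (X.presheaf.stalk x) A] :
    ∃ (k' : Type u) (_ : Field k') (_ : IsSepClosed k') (X' : Scheme.{u}) (f' : X' ⟶ Spec (CommRingCat.of k'))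
      (_ : LocallyOfFiniteType f') (_ : QuasiCompact f') (x' : X') (_ : IsClosed ({x'} : Set X'))
      (_ : Algebra (X'.presheaf.stalk x') A) (_ : IsLocalHom (algebraMap (X'.presheaf.stalk x') A)),
      Hensel.IsStrictHenselization (X'.presheaf.stalk x') A := by
  obtain ⟨V, hV, hxV, -⟩ := exists_isAffineOpen_mem_and_subset (X := X) (x := x) (U := ⊤) trivial
  let ψ := Spec.preimage (hV.fromSpec ≫ f)
  have hψ : Spec.map ψ = hV.fromSpec ≫ f := Spec.map_preimage _
  let B := Γ(X, V)
  letI : Algebra k B := ψ.hom.toAlgebra
  haveI : Algebra.FiniteType k B := RingHom.finiteType_algebraMap.1 (HasRingHomProperty.Spec_iff.1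
    (show LocallyOfFiniteType (Spec.map ψ) by rw [hψ]; infer_instance))
  letI := X.presheaf.algebra_section_stalk ⟨x, hxV⟩
  haveI := hV.isLocalization_stalk ⟨x, hxV⟩
  let q := (hV.primeIdealOf ⟨x, hxV⟩).asIdeal
  let eS : Localization.AtPrime q ≃+* X.presheaf.stalk x :=
    (IsLocalization.algEquiv q.primeCompl (Localization.AtPrime q) (X.presheaf.stalk x)).toRingEquiv
  letI : Algebra (Localization.AtPrime q) A := ((algebraMap (X.presheaf.stalk x) A).comp eS.toRingHom).toAlgebra
  haveI : IsLocalHom eS.toRingHom := ⟨fun y hy => (isLocalHom_equiv eS).map_nonunit y hy⟩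
  haveI : IsLocalHom (algebraMap (Localization.AtPrime q) A) := RingHom.isLocalHom_comp _ _
  haveI : Hensel.IsStrictHenselization (Localization.AtPrime q) A :=
    Groth.Agent.LocAcyc24.isStrictHenselization_of_ringEquiv eS fun a => rfl
  let κ := IsLocalRing.ResidueField (Localization.AtPrime q)
  let π : B →+* κ := (IsLocalRing.residue _).comp (algebraMap B (Localization.AtPrime q))
  letI : Algebra k κ := (π.comp (algebraMap k B)).toAlgebra
  obtain ⟨s, hs⟩ := ‹Algebra.FiniteType k B›.out
  have hgen : ∀ b, π b ∈ Algebra.adjoin k (π '' (s : Set B)) := fun b => by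
    have hb : b ∈ Algebra.adjoin k (s : Set B) := by rw [hs]; exact Algebra.mem_top
    induction hb using Algebra.adjoin_induction with
    | mem y hy => exact Algebra.subset_adjoin ⟨y, hy, rfl⟩
    | algebraMap r => exact Subalgebra.algebraMap_mem (Algebra.adjoin k (π '' (s : Set B))) r
    | add y z _ _ hy hz => rw [map_add]; exact add_mem hy hz
    | mul y z _ _ hy hz => rw [map_mul]; exact mul_mem hy hz
  obtain ⟨ι, _, v, hv, halg⟩ := Groth.Agent.SHClosed19.exists_lifts k B π s hgen
    (Groth.Agent.SHClosed19.gen_and_frac q)
  let P := MvPolynomial ι k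
  letI : Algebra P B := (MvPolynomial.aeval v).toRingHom.toAlgebra
  haveI : IsScalarTower k P B := IsScalarTower.of_algebraMap_eq fun r => ((MvPolynomial.aeval v).commutes r).symm
  haveI : Algebra.FiniteType P B := Algebra.FiniteType.of_restrictScalars_finiteType k P B
  let p : Ideal P := q.under P
  have hcomp : ∀ F : P, π (algebraMap P B F) = MvPolynomial.aeval (fun i => π (v i)) F := fun F => by
    show π (MvPolynomial.aeval v F) = _
    induction F using MvPolynomial.induction_on with
    | C r =>
      rw [MvPolynomial.aeval_C, MvPolynomial.aeval_C]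
      rfl
    | add a b ha hb => simp only [map_add, ha, hb]
    | mul_X a i ha => simp only [map_mul, ha, MvPolynomial.aeval_X]
  have hp : p = ⊥ := by
    have h : ∀ F : P, F ∈ p ↔ π (algebraMap P B F) = 0 := fun F => by
      show algebraMap P B F ∈ q ↔ IsLocalRing.residue _ _ = 0
      rw [IsLocalRing.residue_eq_zero_iff]
      exact (IsLocalization.AtPrime.to_map_mem_maximal_iff (Localization.AtPrime q) q _).symm
    ext F
    rw [h, hcomp, Ideal.mem_bot]
    exact map_eq_zero_iff _ hv
  haveI : Algebra.IsAlgebraic (Algebra.adjoin k (Set.range fun i => π (v i))) κ := halg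
  have halg' : letI := (IsLocalRing.ResidueField.map (Localization.localRingHom p q (algebraMap P B)
      (Ideal.over_def q p))).toAlgebra
      Algebra.IsAlgebraic (IsLocalRing.ResidueField (Localization.AtPrime p)) κ := by
    letI := (IsLocalRing.ResidueField.map (Localization.localRingHom p q (algebraMap P B)
      (Ideal.over_def q p))).toAlgebra
    refine Groth.Agent.SHClosed19.isAlgebraic_of_mem_range (Algebra.adjoin k (Set.range fun i => π (v i))) fun a ha => ?_
    have him : ∀ F : P, π (algebraMap P B F) ∈ (algebraMap (IsLocalRing.ResidueField (Localization.AtPrime p)) κ).range :=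
      fun F => ⟨IsLocalRing.residue _ (algebraMap P (Localization.AtPrime p) F), by
        show IsLocalRing.residue _ (Localization.localRingHom p q (algebraMap P B) _ (algebraMap P _ F)) = _
        rw [Localization.localRingHom_to_map]
        rfl⟩
    induction ha using Algebra.adjoin_induction with
    | mem y hy =>
      obtain ⟨i, rfl⟩ := hy
      have := him (MvPolynomial.X i)
      rwa [show algebraMap P B (MvPolynomial.X i) = v i from MvPolynomial.aeval_X v i] at this
    | algebraMap c =>
      have := him (algebraMap k P c)
      rwa [← IsScalarTower.algebraMap_apply k P B c] at this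
    | add y z _ _ hy hz => exact add_mem hy hz
    | mul y z _ _ hy hz => exact mul_mem hy hz
  obtain ⟨Rh, _, _, _, _, hRh, S', _, _, _, Q, _, hQ, _, _, hQA⟩ :=
    Groth.Agent.SHClosed19.exists_model P B p q halg' A
  haveI := hRh
  haveI := hQA
  let L := Localization.AtPrime p
  have hmR : IsLocalRing.maximalIdeal Rh = ⊥ := by
    rw [← Groth.Agent.S0538.result L Rh, ← Localization.AtPrime.map_eq_maximalIdeal,
      (congrArg (Ideal.map (algebraMap P L)) hp).trans Ideal.map_bot, Ideal.map_bot]
  have hF : IsField Rh := IsLocalRing.isField_iff_maximalIdeal_eq.2 hmR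
  haveI := Hensel.IsStrictHenselization.isSepClosure (R := L) (S := Rh)
  haveI hsep : IsSepClosed (IsLocalRing.ResidueField Rh) :=
    IsSepClosure.sep_closed (IsLocalRing.ResidueField L)
  obtain ⟨X', f', h1, h2, x', h3, -, h5, h6, h7⟩ := Groth.Agent.SHClosed19.exists_scheme Rh S' A Q hQ
  let inst : Field Rh := hF.toField
  refine ⟨Rh, inst, ?_, X', f', h1, h2, x', h3, h5, h6, h7⟩
  exact RInv29.isSepClosed_of_ringEquiv (l := Rh)
    (RingEquiv.ofBijective (IsLocalRing.residue Rh)
      ⟨(RingHom.injective_iff_ker_eq_bot _).2 (IsLocalRing.ker_residue.trans hmR), IsLocalRing.residue_surjective⟩).symm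

end Groth.Agent.S8539
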