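import Groth.Statements.S8541
import Groth.Agent.Lib.ProjThick19.Main
-- import your own Groth.Agent.* helpers here

set_option autoImplicit false
universe u
open CategoryTheory CategoryTheory.Limits AlgebraicGeometry Opposite
open EtCd

namespace Groth.Agent.S8541

set_option linter.style.haveILetI false
set_option backward.isDefEq.respectTransparency.types false


/-- Let A be a Noetherian local ring, S = Spec A, and X a closed subscheme of the projective space P^N_S
(closed immersion i) whose fibres over S all have dimension at most n. Then there is a closed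
subscheme Z of P^N_S which is flat over S with all fibres of dimension at most n and which contains
X: a closed immersion j : Z → P^N_S with Z → S flat of relative dimension ≤ n and a closed immersion
g : X → Z with g ≫ j = i. -/
theorem result (A : Type u) [CommRing A] [IsNoetherianRing A] [IsLocalRing A]
    (N n : ℕ) {X : Scheme.{u}} (i : X ⟶ CohB1.ProjSpaceOver N (Spec (CommRingCat.of A))) [IsClosedImmersion i]
    (hdim : ∀ s : ↥(Spec (CommRingCat.of A)),
      topologicalKrullDim ↥((i ≫ CohB1.ProjSpaceOver.toBase N (Spec (CommRingCat.of A))).fiber s) ≤ n) :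
    ∃ (Z : Scheme.{u}) (j : Z ⟶ CohB1.ProjSpaceOver N (Spec (CommRingCat.of A))) (g : X ⟶ Z),
      IsClosedImmersion j ∧ IsClosedImmersion g ∧ g ≫ j = i ∧
      Flat (j ≫ CohB1.ProjSpaceOver.toBase N (Spec (CommRingCat.of A))) ∧
      ∀ s : ↥(Spec (CommRingCat.of A)),
        topologicalKrullDim ↥((j ≫ CohB1.ProjSpaceOver.toBase N (Spec (CommRingCat.of A))).fiber s) ≤ n := by
  classical
let S := Spec (CommRingCat.of A)
let i' : X ⟶ CohB1.ProjSpace N A := i ≫ (ProjSpace.overSpecIso N A).inv
have hinv : (ProjSpace.overSpecIso N A).inv ≫ CohB1.ProjSpace.toSpec N A = CohB1.ProjSpaceOver.toBase N S := by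
  rw [Iso.inv_comp_eq, ProjSpace.overSpecIso_hom_toBase]
have hi' : i' ≫ CohB1.ProjSpace.toSpec N A = i ≫ CohB1.ProjSpaceOver.toBase N S := by
  rw [Category.assoc, hinv]
obtain ⟨Z, j, g, hj, hg, hgj, hflat, hd⟩ := ProjThick19.exists_thickening_proj N n i' (by
  rw [hi']; exact hdim _)
refine ⟨Z, j ≫ (ProjSpace.overSpecIso N A).hom, g, inferInstance, hg, ?_, ?_, fun s => ?_⟩
· rw [← Category.assoc, hgj, Category.assoc, Iso.inv_hom_id, Category.comp_id]
· rw [Category.assoc, ProjSpace.overSpecIso_hom_toBase]; exact hflat
· rw [Category.assoc, ProjSpace.overSpecIso_hom_toBase]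
  haveI : IsProper (CohB1.ProjSpace.toSpec N A) := ProjSpace.isProper_toSpec N A
  exact ProjThick19.fibre_dim_le_of_closed _ n hd s

end Groth.Agent.S8541
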