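import Groth.Statements.S8550
import Groth.Agent.Lib.PicLift19.Main
-- import your own Groth.Agent.* helpers here

set_option autoImplicit false
universe u
open CategoryTheory CategoryTheory.Limits AlgebraicGeometry Opposite
open EtCd

namespace Groth.Agent.S8550

set_option linter.style.haveILetI false
set_option backward.isDefEq.respectTransparency.types false


/-- In the case where X₀ admits an ample invertible sheaf (so that every finite set of points of X₀ lies
in an affine open of X₀): let X be a Noetherian scheme and i : X₀ → X a closed immersion such that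
(a) dim X₀ ≤ 1 and (b) for every nonempty connected closed subset Y of X, Y ∩ i(X₀) is nonempty and
connected. If X₀ carries an ample invertible module, then Pic(X) → Pic(X₀) is surjective: every
invertible module class on X₀ is the pullback of an invertible module class on X. -/
theorem result (X X₀ : Scheme.{u}) [IsNoetherian X]
    (i : X₀ ⟶ X) [IsClosedImmersion i] (ha : topologicalKrullDim X₀ ≤ 1)
    (hb : ∀ Y : Set X, IsClosed Y → Y.Nonempty → _root_.IsConnected Y →
      (Y ∩ Set.range i.base).Nonempty ∧ _root_.IsConnected (Y ∩ Set.range i.base))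
    (hamp : ∃ L : X₀.Modules, CohB1.IsAmple L)
    (c : PicF.Cl X₀) (hc : PicF.IsInvertibleCl c) :
    ∃ d : PicF.Cl X, PicF.IsInvertibleCl d ∧ PicF.pullCl i d = c := by
  classical
  haveI : IsNoetherian X₀ :=
    { toIsLocallyNoetherian := LocallyOfFiniteType.isLocallyNoetherian i
      toCompactSpace := i.isClosedEmbedding.compactSpace }
  obtain ⟨L, rfl, hL⟩ := hc
  obtain ⟨L', hL', ⟨e⟩⟩ := PicLift19.exists_lift i ha hb L hL
  exact ⟨PicF.cl L', ⟨L', rfl, hL'⟩, Quot.sound ⟨e⟩⟩

end Groth.Agent.S8550
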