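import Groth.Statements.S8552
import Groth.Agent.Lib.PhiCd24.Main

set_option autoImplicit false
set_option linter.style.haveILetI false
universe u
open CategoryTheory CategoryTheory.Limits AlgebraicGeometry Opposite
open EtCd

namespace Groth.Agent.S8552

/-- (ii) ⇒ (i): let X be a Noetherian scheme, ℓ a prime, and φ an ℕ-valued function on schemes over X
which, on integral schemes finite over X, is monotone for X-morphisms and strictly monotone for
closed immersions that are not isomorphisms (for a general Y finite over X one puts φ(Y) = the sup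
of φ over its irreducible components with reduced structure). If H^q(Y, Z/ℓ) = 0 for every integral
Y finite over X and every q > φ(Y), then for every Y finite over X, every abelian ℓ-torsion sheaf F
on Y and every q with q > φ(Z) for all integral closed subschemes Z of Y inside the closure of the
support of F, one has H^q(Y, F) = 0. (The converse implication is the special case F = Z/ℓ.) -/
theorem result (X : Scheme.{u}) [IsNoetherian X] (ℓ : ℕ) (hℓ : ℓ.Prime)
    (φ : ∀ (Y : Scheme.{u}), (Y ⟶ X) → ℕ)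
    (hmono : ∀ (Y₁ Y₂ : Scheme.{u}) (g₁ : Y₁ ⟶ X) (g₂ : Y₂ ⟶ X) [IsIntegral Y₁] [IsIntegral Y₂] [IsFinite g₁] [IsFinite g₂]
      (m : Y₁ ⟶ Y₂), m ≫ g₂ = g₁ → φ Y₁ g₁ ≤ φ Y₂ g₂ ∧ (IsClosedImmersion m → ¬ IsIso m → φ Y₁ g₁ < φ Y₂ g₂))
    (h2 : ∀ (Y : Scheme.{u}) (g : Y ⟶ X) [IsIntegral Y] [IsFinite g] (q : ℕ), φ Y g < q →
      Subsingleton (EtCoh.H Y (EtCoh.const Y (ZMod ℓ)) q))
    (Y : Scheme.{u}) (g : Y ⟶ X) [IsFinite g] (F : EtCoh.Ab Y) (hF : EtAcyc.IsLTorsion {ℓ} F) (q : ℕ)
    (hq : ∀ (Z : Scheme.{u}) (c : Z ⟶ Y) [IsIntegral Z] [IsClosedImmersion c],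
      Set.range c.base ⊆ closure (EtPBC.supp F) → φ Z (c ≫ g) < q) :
    Subsingleton (EtCoh.H Y F q) := by
  haveI : Fact ℓ.Prime := ⟨hℓ⟩
  haveI := PhiCd24.isNoetherian_of_finite g
  obtain ⟨W, c, hc, hred, hr⟩ := PhiCd24.exists_reduced_closed Y (closure (EtPBC.supp F)) isClosed_closure
  haveI := hc
  haveI := hred
  haveI := EtStalk.isIso_unit_integral c F (hr ▸ subset_closure)
  rcases isEmpty_or_nonempty W with hW | ⟨⟨w⟩⟩
  · have hz : IsZero F := ((EtCoh.push c).map_isZero (PhiCd24.isZero_of_isEmpty _)).of_iso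
      (asIso ((EtCoh.pullPushAdj c).unit.app F))
    exact subsingleton_of_forall_eq 0 fun v => by
      rw [← Abelian.Ext.comp_mk₀_id v, hz.eq_of_src (𝟙 _) 0, Abelian.Ext.mk₀_zero, Abelian.Ext.comp_zero]
  have hD : ∀ (Z : Scheme.{u}) (d : Z ⟶ W), IsIntegral Z → IsClosedImmersion d → φ Z (d ≫ c ≫ g) < q := by
    intro Z d hZ hd
    haveI := hZ; haveI := hd
    simpa only [Category.assoc] using hq Z (d ≫ c) (by
      rw [← hr]
      rintro _ ⟨z, rfl⟩
      exact ⟨d z, (Scheme.Hom.comp_apply d c z).symm⟩)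
  haveI := PhiCd24.isNoetherian_of_finite (c ≫ g)
  obtain ⟨Z, d, hd, hZred, hrZ⟩ := PhiCd24.exists_reduced_closed W (closure {w}) isClosed_closure
  haveI := hd
  haveI := hZred
  have hq0 := hD Z d (PhiCd24.isIntegral_of_range d (hrZ ▸ isIrreducible_singleton.closure)) hd
  exact PhiCd24.van_of_unit c (hr ▸ subset_closure)
    (PhiCd24.van_primary (PhiCd24.cls_dle hmono h2 (q - 1))
      ⟨c ≫ g, inferInstance, fun Z d h1 h2 => by have := hD Z d h1 h2; omega⟩
      (PhiCd24.isPrimaryTorsion_of_pTors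
        ((CdP3.PTors.of_primary (PhiCd24.isPrimaryTorsion_of_isLTorsion hF)).pull c))) q (by omega)

end Groth.Agent.S8552
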