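import Groth.Statements.S8554
import Groth.Agent.Lib.Torsor25.Godement
import Mathlib.AlgebraicGeometry.Sites.EtalePoint

set_option autoImplicit false
universe u
open CategoryTheory CategoryTheory.Limits AlgebraicGeometry Opposite
open NonAbH1

namespace Groth.Agent.S8554

/-- Every sheaf of groups F on the small etale site of a scheme X embeds into a sheaf of groups G with
vanishing first non-abelian cohomology on every etale X-scheme: there are G and a morphism u : F ⟶
G, injective on sections over every object of the site, such that for every etale X-scheme U every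
torsor under the restriction of G to the induced site over U is trivial, i.e. H¹(U, G) is reduced to
its base point. (The published statement adds that the first higher direct images of G along any
morphism of schemes then vanish as pointed sheaves; that clause follows from this one and is not
stated here.) -/
theorem result {X : Scheme.{u}}
    (F : Sheaf X.smallEtaleTopology GrpCat.{u + 1}) :
    ∃ (G : Sheaf X.smallEtaleTopology GrpCat.{u + 1}) (φ : F ⟶ G),
      (∀ U : X.Etaleᵒᵖ, Function.Injective (φ.hom.app U)) ∧
      ∀ (U : X.Etale) (P : NonAbH1.Torsor (G.over U)), P.IsTrivial := by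
  let ξ : ∀ x : X, Spec (CommRingCat.of (SeparableClosure (X.residueField x))) ⟶ X := fun x =>
    (Scheme.SpecToEquivOfField (SeparableClosure (X.residueField x)) _).2
      ⟨x, CommRingCat.ofHom (algebraMap (X.residueField x) _)⟩
  have hξ : ∀ x : X, ξ x default = x := fun x => by simp [ξ, Scheme.SpecToEquivOfField]
  let Φ : X → X.smallEtaleTopology.Point := fun x => Scheme.pointSmallEtale (ξ x)
  have eX : X.smallEtaleTopology =
      (X.smallPretopology (P := EtCoh.etaleMP) (Q := EtCoh.etaleMP)).toGrothendieck :=
    Scheme.smallGrothendieckTopology_eq_toGrothendieck_smallPretopology X le_rfl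
  refine ⟨Torsor25.godement Φ (Torsor25.stalkGrp Φ F.obj), Torsor25.toGodement Φ F,
    Torsor25.toGodement_injective Φ F (fun V R hR => ?_), fun U P => ?_⟩
  · rw [eX]
    refine (Scheme.mem_toGrothendieck_smallPretopology _ _).2 fun v => ?_
    obtain ⟨t, ht⟩ := Scheme.pointSmallEtaleFiberObjToPreimage_surjective (ξ (V.hom v))
      (hξ (V.hom v)) V ⟨v, rfl⟩
    obtain ⟨Y, f, hf, y, hy⟩ := hR (V.hom v) t
    refine ⟨Y, f, (Scheme.pointSmallEtaleFiberObjToPreimage (ξ (V.hom v)) (hξ (V.hom v)) y).1, hf,
      ?_, ?_⟩
    · haveI : Etale (f.left ≫ V.hom) := by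
        rw [show f.left ≫ V.hom = Y.hom from Over.w f.hom]; exact Y.prop
      haveI : Etale V.hom := V.prop
      exact Etale.of_comp f.left V.hom
    · have h1 : v = t.left (default : Spec (CommRingCat.of (SeparableClosure (X.residueField (V.hom v))))) :=
        (congrArg Subtype.val ht).symm
      exact (Eq.trans (congrArg (fun z : (Φ (V.hom v)).fiber.obj V => z.left
        (default : Spec (CommRingCat.of (SeparableClosure (X.residueField (V.hom v)))))) hy) h1.symm)
  · obtain ⟨σ, hσ⟩ := Torsor25.hasSection_godement Φ _ U P
    let ψ : NonAbH1.GSheaf.trivial.{u + 1, u, u + 1}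
        ((Torsor25.godement Φ (Torsor25.stalkGrp Φ F.obj)).over U) ⟶ P.toGSheaf :=
      Torsor25.homMk (fun V a => P.smul (NonAbH1.GSheaf.toGrp.{u + 1, u, u + 1} a) (σ (op V)))
        (fun V W e a => by
          rw [P.map_smul, hσ e.op]
          rfl)
        (fun V a c => P.mul_smul a _ _)
    exact Torsor25.nonempty_iso (NonAbH1.GSheaf.isTorsor_trivial.{u + 1, u, u + 1} _) P.isTorsor ψ

end Groth.Agent.S8554
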