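import Groth.Statements.S8556
import Groth.Agent.Lib.Torsor25.Basic

set_option autoImplicit false
universe u
open CategoryTheory CategoryTheory.Limits AlgebraicGeometry Opposite
open NonAbH1

namespace Groth.Agent.S8556

/-- Exactness of the non-abelian cohomology sequence at H¹(X, F): let u : F ⟶ G be a morphism of sheaves
of groups on the small etale site of a scheme X that is injective on sections over every object, and
let the G-sheaf Q with its equivariant map π from G (acting on itself by left translation) be the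
quotient G/F (π identifies two sections of G exactly when they differ by right multiplication by a
section of F, and is locally surjective). Then for an F-torsor T the following are equivalent: the
image of the class of T under u is the base point of H¹(X, G), in the sense that there is a
u-equivariant morphism of sheaves of sets from T to G acting on itself by left translation; T is the
sheaf of local liftings to G of some global section c of Q (with F acting on liftings by f · g = g
u(f)⁻¹), that is, the class of T is a boundary ∂c. -/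
theorem result {X : Scheme.{u}} {F G : Sheaf X.smallEtaleTopology GrpCat.{u + 1}}
    (u : F ⟶ G) (hu : ∀ U : X.Etaleᵒᵖ, Function.Injective (u.hom.app U))
    {Q : NonAbH1.GSheaf G} (π : NonAbH1.GSheaf.trivial.{u + 1, u, u + 1} G ⟶ Q) (hQ : NonAbH1.GSheaf.IsQuotientBy.{u + 1, u, u + 1} u π)
    (T : NonAbH1.Torsor F) :
    NonAbH1.GSheaf.IsPushforwardAlong.{u + 1, u, u + 1} u T.toGSheaf (NonAbH1.GSheaf.trivial.{u + 1, u, u + 1} G) ↔
      ∃ c : Q.P.obj.sections, NonAbH1.GSheaf.IsFibreOver.{u + 1, u, u + 1} u π c T.toGSheaf := by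
  constructor
  · rintro ⟨f, hf⟩
    let ι₀ : ∀ V : X.Etaleᵒᵖ, T.P.obj.obj V → G.obj.obj V := fun V t =>
      (NonAbH1.GSheaf.toGrp.{u + 1, u, u + 1} (f.hom.app V t))⁻¹
    have heq : ∀ (V : X.Etaleᵒᵖ) a t, ι₀ V (T.smul a t) = ι₀ V t * (u.hom.app V a)⁻¹ := by
      intro V a t
      simp only [ι₀]
      rw [hf V a t]
      exact mul_inv_rev _ _
    have hιn : ∀ {V W : X.Etaleᵒᵖ} (e : V ⟶ W) (t : T.P.obj.obj V),
        ι₀ W (T.P.obj.map e t) = G.obj.map e (ι₀ V t) := by
      intro V W e t
      simp only [ι₀]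
      rw [map_inv, NatTrans.naturality_apply f.hom e t]
      rfl
    let p : ∀ V : X.Etaleᵒᵖ, T.P.obj.obj V → Q.P.obj.obj V := fun V t =>
      π.hom.hom.app V (NonAbH1.GSheaf.ofGrp.{u + 1, u, u + 1} (ι₀ V t))
    have hp : ∀ V t t', p V t = p V t' := by
      intro V t t'
      obtain ⟨a, ha, -⟩ := T.isTorsor.1 _ t t'
      rw [← ha]
      exact ((Torsor25.π_eq_iff hQ _ _).2 ⟨a⁻¹, by rw [map_inv, heq]⟩)
    have hpn : ∀ {V W : X.Etaleᵒᵖ} (e : V ⟶ W) (t : T.P.obj.obj V),
        p W (T.P.obj.map e t) = Q.P.obj.map e (p V t) := by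
      intro V W e t
      simp only [p]
      rw [hιn]
      exact Torsor25.π_map π e.unop _
    have hglue : ∀ V : X.Etale, ∃! q : Q.P.obj.obj (op V),
        ∀ ⦃W : X.Etale⦄ (e : W ⟶ V) (t : T.P.obj.obj (op W)), Q.P.obj.map e.op q = p (op W) t := by
      intro V
      obtain ⟨S, hS, hne⟩ := T.isTorsor.2 V
      obtain ⟨q, hq, huniq⟩ := Torsor25.existsUnique_glue_type Q.P hS
        (fun W e he => p (op W) (hne e he).some) (fun W W' d e he => by rw [← hpn]; exact hp _ _ _)
      refine ⟨q, fun W e t => ?_, fun q' hq' => huniq q' fun W e he => hq' e _⟩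
      refine Torsor25.ext_type Q.P (X.smallEtaleTopology.pullback_stable e hS) fun W' d hd => ?_
      rw [← hpn]
      simp only [← ConcreteCategory.comp_apply, ← Functor.map_comp, ← op_comp]
      exact (hq (d ≫ e) hd).trans (hp _ _ _)
    choose c hc hcuniq using hglue
    have hcc : ∀ (V : X.Etale) (t : T.P.obj.obj (op V)), c V = p (op V) t := fun V t => by
      simpa using hc V (𝟙 V) t
    refine ⟨⟨fun V => c V.unop, fun {V W} e => hcuniq W.unop _ fun Y d t => ?_⟩, ?_⟩
    · simp only [← ConcreteCategory.comp_apply, ← Functor.map_comp]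
      exact hc V.unop (d ≫ e.unop) t
    refine ⟨⟨{ app := fun V => TypeCat.ofHom fun t => NonAbH1.GSheaf.ofGrp.{u + 1, u, u + 1} (ι₀ V t)
               naturality := fun V W e => by ext t; exact hιn e t }⟩, fun V a b h => ?_,
      fun V g => ⟨?_, fun hg => ?_⟩, fun V a t => heq V a t⟩
    · obtain ⟨d, hd, -⟩ := T.isTorsor.1 _ a b
      have h1 : ι₀ V a = ι₀ V b := h
      rw [← hd, heq, left_eq_mul, inv_eq_one] at h1
      rw [← hd, hu V (h1.trans (map_one _).symm), T.one_smul]
    · rintro ⟨t, rfl⟩
      exact (hcc V.unop t).symm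
    · obtain ⟨S, hS, hne⟩ := T.isTorsor.2 V.unop
      have hloc : ∀ ⦃W : X.Etale⦄ (e : W ⟶ V.unop), S e →
          ∃! t, ι₀ (op W) t = G.obj.map e.op g := by
        intro W e he
        obtain ⟨t⟩ := hne e he
        have h1 : π.hom.hom.app (op W) (NonAbH1.GSheaf.ofGrp.{u + 1, u, u + 1} (ι₀ (op W) t)) =
            π.hom.hom.app (op W) (NonAbH1.GSheaf.ofGrp.{u + 1, u, u + 1} (G.obj.map e.op g)) := by
          refine ((hc V.unop e t).symm.trans ?_).trans (Torsor25.π_map π e g).symm
          exact congrArg _ hg.symm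
        obtain ⟨a, ha⟩ := (Torsor25.π_eq_iff hQ _ _).1 h1
        refine ⟨T.smul a⁻¹ t, by beta_reduce; rw [heq, map_inv, inv_inv, ha], fun t' ht' => ?_⟩
        beta_reduce at ht' 
        obtain ⟨b, hb, -⟩ := T.isTorsor.1 _ t t'
        rw [← hb, heq, ha, mul_left_cancel_iff] at ht'
        rw [← hb]
        congr 1
        exact hu _ (by rw [map_inv, ← ht', inv_inv])
      choose x hx hxuniq using hloc
      obtain ⟨t, ht, -⟩ := Torsor25.existsUnique_glue_type T.P hS x
        (fun W W' d e he => hxuniq _ _ _ (by beta_reduce; rw [hιn, hx]; simp))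
      refine ⟨t, Torsor25.ext_group G hS fun W e he => ?_⟩
      change G.obj.map e.op (ι₀ V t) = _
      rw [← hιn, ht e he, hx]
  · rintro ⟨c, ι, hinj, himg, heq⟩
    refine ⟨⟨{ app := fun V => TypeCat.ofHom fun t => NonAbH1.GSheaf.ofGrp.{u + 1, u, u + 1}
                (NonAbH1.GSheaf.toGrp.{u + 1, u, u + 1} (ι.hom.app V t))⁻¹
               naturality := fun V W e => by
                 ext t
                 change _⁻¹ = G.obj.map e _⁻¹
                 rw [map_inv]
                 exact congrArg _ (NatTrans.naturality_apply ι.hom e t) }⟩, fun V a t => ?_⟩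
    change _⁻¹ = u.hom.app V a * _
    rw [heq, mul_inv_rev, inv_inv]
    rfl

end Groth.Agent.S8556
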