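import Groth.Statements.S8557
import Groth.Agent.Lib.Torsor25.Basic

set_option autoImplicit false
universe u
open CategoryTheory CategoryTheory.Limits AlgebraicGeometry Opposite
open NonAbH1

namespace Groth.Agent.S8557

/-- The equivalence relation defined by the boundary map is the one given by the action of the global
sections of G on those of Q: let u : F ⟶ G be a morphism of sheaves of groups on the small etale
site of a scheme X that is injective on sections over every object, and let the G-sheaf Q with its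
equivariant map π from G (acting on itself by left translation) be the quotient G/F (π identifies
two sections of G exactly when they differ by right multiplication by a section of F, and is locally
surjective). Let c and c' be global sections of Q and let T and T' be F-sheaves which are the
sheaves of local liftings of c and of c' to G (F acting by f · g = g u(f)⁻¹). Then T and T' are
equivariantly isomorphic, i.e. ∂c = ∂c' in H¹(X, F), if and only if there is a global section g of G
with g · c = c' (componentwise over every object of the site). -/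
theorem result {X : Scheme.{u}} {F G : Sheaf X.smallEtaleTopology GrpCat.{u + 1}}
    (u : F ⟶ G) (hu : ∀ U : X.Etaleᵒᵖ, Function.Injective (u.hom.app U))
    {Q : NonAbH1.GSheaf G} (π : NonAbH1.GSheaf.trivial.{u + 1, u, u + 1} G ⟶ Q) (hQ : NonAbH1.GSheaf.IsQuotientBy.{u + 1, u, u + 1} u π)
    (c c' : Q.P.obj.sections) (T T' : NonAbH1.GSheaf F)
    (hT : NonAbH1.GSheaf.IsFibreOver.{u + 1, u, u + 1} u π c T) (hT' : NonAbH1.GSheaf.IsFibreOver.{u + 1, u, u + 1} u π c' T') :
    Nonempty (T ≅ T') ↔
      ∃ g : (NonAbH1.GSheaf.uSh.{u + 1, u, u + 1} G).obj.sections,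
        ∀ U : X.Etaleᵒᵖ, Q.smul (NonAbH1.GSheaf.toGrp.{u + 1, u, u + 1} (g.1 U)) (c.1 U) = c'.1 U := by
  obtain ⟨ι, hinj, himg, heq⟩ := hT
  constructor
  · rintro ⟨φ⟩
    obtain ⟨ι', hinj', himg', heq'⟩ := hT'
    have hTt := Torsor25.isTorsor_of_isFibreOver hu hQ ⟨ι, hinj, himg, heq⟩
    let d : ∀ (V : X.Etale), T.P.obj.obj (op V) → G.obj.obj (op V) := fun V t =>
      NonAbH1.GSheaf.toGrp.{u + 1, u, u + 1} (ι'.hom.app (op V) (φ.hom.hom.hom.app (op V) t)) *
        (NonAbH1.GSheaf.toGrp.{u + 1, u, u + 1} (ι.hom.app (op V) t))⁻¹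
    have hd : ∀ V t t', d V t = d V t' := by
      intro V t t'
      obtain ⟨a, ha, -⟩ := hTt.1 _ t t'
      have e1 := heq (op V) a t
      have e2 := heq' (op V) a (φ.hom.hom.hom.app (op V) t)
      rw [← φ.hom.map_smul, ha] at e2
      rw [ha] at e1
      simp only [d]
      rw [e1, e2]
      simp [mul_assoc]
    have hdn : ∀ {V W : X.Etale} (f : W ⟶ V) (t : T.P.obj.obj (op V)),
        G.obj.map f.op (d V t) = d W (T.P.obj.map f.op t) := by
      intro V W f t
      have e1 := NatTrans.naturality_apply ι.hom f.op t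
      have e2 := NatTrans.naturality_apply ι'.hom f.op (φ.hom.hom.hom.app (op V) t)
      have e3 := NatTrans.naturality_apply φ.hom.hom.hom f.op t
      simp only [d]
      rw [map_mul, map_inv, e1, e3, e2]
      rfl
    have hglue : ∀ V : X.Etale, ∃! g : G.obj.obj (op V),
        ∀ ⦃W : X.Etale⦄ (f : W ⟶ V) (t : T.P.obj.obj (op W)), G.obj.map f.op g = d W t := by
      intro V
      obtain ⟨S, hS, hne⟩ := hTt.2 V
      obtain ⟨g, hg, huniq⟩ := Torsor25.existsUnique_glue G hS
        (fun W f hf => d W (hne f hf).some) (fun W W' e f hf => by rw [hdn]; exact hd _ _ _)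
      refine ⟨g, fun W f t => ?_, fun g' hg' => huniq g' fun W f hf => hg' f _⟩
      refine Torsor25.ext_group G (X.smallEtaleTopology.pullback_stable f hS) fun W' e he => ?_
      rw [hdn]
      simp only [← ConcreteCategory.comp_apply, ← Functor.map_comp, ← op_comp]
      exact (hg (e ≫ f) he).trans (hd _ _ _)
    choose g hg hguniq using hglue
    refine ⟨⟨fun V => g V.unop, fun {V W} f => ?_⟩, fun U => ?_⟩
    · refine hguniq W.unop _ fun Y e t => ?_
      change G.obj.map e.op (G.obj.map f (g V.unop)) = _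
      simp only [← ConcreteCategory.comp_apply, ← Functor.map_comp]
      exact hg V.unop (e ≫ f.unop) t
    · obtain ⟨S, hS, hne⟩ := hTt.2 U.unop
      refine Torsor25.ext_type Q.P hS fun W f hf => ?_
      obtain ⟨t⟩ := hne f hf
      rw [Q.map_smul]
      have e1 : Q.P.obj.map f.op (c.1 U) = c.1 (op W) := c.2 f.op
      have e2 : Q.P.obj.map f.op (c'.1 U) = c'.1 (op W) := c'.2 f.op
      rw [e1, e2, ← (himg _ _).1 ⟨t, rfl⟩, ← (himg' _ _).1 ⟨φ.hom.hom.hom.app _ t, rfl⟩]
      change Q.smul (G.obj.map f.op (g U.unop)) _ = _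
      rw [hg U.unop f t, ← Torsor25.π_mul π]
      simp [d]
  · rintro ⟨g, hg⟩
    refine Torsor25.nonempty_iso_of_isFibreOver.{u + 1, u, u + 1} ?_ hT'
    refine ⟨⟨{ app := fun U => TypeCat.ofHom fun t => NonAbH1.GSheaf.ofGrp.{u + 1, u, u + 1}
                (NonAbH1.GSheaf.toGrp.{u + 1, u, u + 1} (g.1 U) *
                  NonAbH1.GSheaf.toGrp.{u + 1, u, u + 1} (ι.hom.app U t))
               naturality := fun U V f => by
                 ext t
                 change _ * _ = G.obj.map f (_ * _)
                 rw [map_mul]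
                 exact congr_arg₂ (· * ·) (g.2 f).symm (NatTrans.naturality_apply ι.hom f t) }⟩,
      fun U a b h => hinj U (mul_left_cancel (G := G.obj.obj U) h), fun U x => ⟨?_, fun hx => ?_⟩,
      fun U a t => ?_⟩
    · rintro ⟨t, rfl⟩
      rw [← hg U, ← (himg _ _).1 ⟨t, rfl⟩]
      exact Torsor25.π_mul π _ _
    · obtain ⟨t, ht⟩ := (himg U ((NonAbH1.GSheaf.toGrp.{u + 1, u, u + 1} (g.1 U))⁻¹ * x)).2 (by
        rw [Torsor25.π_mul π, hx, ← hg U, ← Q.mul_smul, inv_mul_cancel, Q.one_smul])
      refine ⟨t, ?_⟩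
      change _ * _ = x
      rw [ht, mul_inv_cancel_left]
    · exact (congrArg (fun z : G.obj.obj U => NonAbH1.GSheaf.toGrp.{u + 1, u, u + 1} (g.1 U) * z)
        (heq U a t)).trans (mul_assoc (G := G.obj.obj U) _ _ _).symm

end Groth.Agent.S8557
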