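import Groth.Statements.S8558
import Groth.Agent.Lib.Torsor25.Basic

set_option autoImplicit false
universe u
open CategoryTheory CategoryTheory.Limits AlgebraicGeometry Opposite
open NonAbH1

namespace Groth.Agent.S8558

/-- Exactness of the non-abelian cohomology sequence at the global sections of the quotient: let u : F ⟶
G be a morphism of sheaves of groups on the small etale site of a scheme X that is injective on
sections over every object, and let the G-sheaf Q with its equivariant map π from G (acting on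
itself by left translation) be the quotient G/F (π identifies two sections of G exactly when they
differ by right multiplication by a section of F, and is locally surjective). If the F-torsor T is
the sheaf of local liftings of a global section c of Q to G (F acting by f · g = g u(f)⁻¹), then the
class of T in H¹(X, F) is the base point, ∂c = 1, if and only if c is the image under π of a global
section of G. -/
theorem result {X : Scheme.{u}} {F G : Sheaf X.smallEtaleTopology GrpCat.{u + 1}}
    (u : F ⟶ G) (hu : ∀ U : X.Etaleᵒᵖ, Function.Injective (u.hom.app U))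
    {Q : NonAbH1.GSheaf G} (π : NonAbH1.GSheaf.trivial.{u + 1, u, u + 1} G ⟶ Q) (hQ : NonAbH1.GSheaf.IsQuotientBy.{u + 1, u, u + 1} u π)
    (c : Q.P.obj.sections) (T : NonAbH1.Torsor F) (hT : NonAbH1.GSheaf.IsFibreOver.{u + 1, u, u + 1} u π c T.toGSheaf) :
    T.cl = 1 ↔
      ∃ g : (NonAbH1.GSheaf.uSh.{u + 1, u, u + 1} G).obj.sections, ∀ U : X.Etaleᵒᵖ, π.hom.hom.app U (g.1 U) = c.1 U := by
  obtain ⟨ι, hinj, himg, heq⟩ := hT
  refine (Torsor25.cl_eq_iff T (NonAbH1.trivialTorsor.{u + 1, u, u + 1} F)).trans ⟨?_, ?_⟩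
  · rintro ⟨φ⟩
    let t : ∀ V : X.Etaleᵒᵖ, T.P.obj.obj V := fun V =>
      φ.inv.hom.hom.app V (NonAbH1.GSheaf.ofGrp.{u + 1, u, u + 1} (1 : F.obj.obj V))
    refine ⟨⟨fun V => ι.hom.app V (t V), fun {V W} e => ?_⟩, fun V => (himg V _).1 ⟨t V, rfl⟩⟩
    refine (NatTrans.naturality_apply ι.hom e (t V)).symm.trans (congrArg _ ?_)
    refine (NatTrans.naturality_apply φ.inv.hom.hom e _).symm.trans (congrArg _ ?_)
    exact map_one (F.obj.map e).hom
  · rintro ⟨g, hg⟩
    choose t ht using fun V : X.Etaleᵒᵖ =>
      (himg V (NonAbH1.GSheaf.toGrp.{u + 1, u, u + 1} (g.1 V))).2 (hg V)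
    have htn : ∀ {V W : X.Etaleᵒᵖ} (e : V ⟶ W), T.P.obj.map e (t V) = t W := fun {V W} e =>
      hinj W (((NatTrans.naturality_apply ι.hom e (t V)).trans (congrArg _ (ht V))).trans
        ((g.2 e).trans (ht W).symm))
    let ψ : NonAbH1.GSheaf.trivial.{u + 1, u, u + 1} F ⟶ T.toGSheaf :=
      Torsor25.homMk (fun V a => T.smul (NonAbH1.GSheaf.toGrp.{u + 1, u, u + 1} a) (t (op V)))
        (fun V W e a => by
          rw [T.map_smul, htn]
          rfl)
        (fun V a b => T.mul_smul a _ _)
    obtain ⟨e⟩ := Torsor25.nonempty_iso (NonAbH1.GSheaf.isTorsor_trivial F) T.isTorsor ψ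
    exact ⟨e.symm⟩

end Groth.Agent.S8558
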