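import Groth.Statements.S8565
import Mathlib

set_option autoImplicit false
open CategoryTheory CategoryTheory.Limits Opposite
universe v u
open Hyper

namespace Groth.Agent.S8565


section
open Simplicial SimplexCategory

variable {E : Type u} [Category.{v} E] [HasFiniteLimits E] (n : ℕ)

instance finiteObj (q : SimplexCategory) :
    Finite (StructuredArrow (op q) (SimplexCategory.Truncated.inclusion n).op) := by
  refine Finite.of_surjective (α := Σ m : Fin (n + 1), (⦋m.val⦌ ⟶ q))
    (fun p => StructuredArrow.mk (Y := op (⟨⦋p.1.val⦌, Nat.lt_succ_iff.1 p.1.isLt⟩ :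
      SimplexCategory.Truncated n)) p.2.op) ?_
  rintro ⟨⟨⟨⟩⟩, ⟨⟨⟨m⟩, hm⟩⟩, θ⟩
  exact ⟨⟨⟨m, Nat.lt_succ_of_le hm⟩, θ.unop⟩, rfl⟩

noncomputable instance finCat (q : SimplexCategory) :
    FinCategory (StructuredArrow (op q) (SimplexCategory.Truncated.inclusion n).op) := by
  haveI : ∀ j j' : StructuredArrow (op q) (SimplexCategory.Truncated.inclusion n).op,
      Finite (j ⟶ j') := fun j j' =>
    Finite.of_injective (fun φ => (φ.right.unop.hom : j'.right.unop.obj ⟶ j.right.unop.obj))
      (fun φ ψ h => StructuredArrow.hom_ext _ _ (Quiver.Hom.unop_inj (ObjectProperty.hom_ext _ h)))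
  exact @FinCategory.mk _ _ (Fintype.ofFinite _) fun j j' => Fintype.ofFinite _

instance hasPtwise (F : (SimplexCategory.Truncated n)ᵒᵖ ⥤ E) :
    (SimplexCategory.Truncated.inclusion n).op.HasPointwiseRightKanExtension F := fun q => by
  obtain ⟨q⟩ := q
  infer_instance

variable {n}
variable {F : (SimplexCategory.Truncated n)ᵒᵖ ⥤ E} (B : SimplicialObject E)
  (ε : (SimplexCategory.Truncated.inclusion n).op ⋙ B ⟶ F) [B.IsRightKanExtension ε]

theorem hom_ext_pt {T : E} {q : SimplexCategory} {h h' : T ⟶ B.obj (op q)}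
    (e : ∀ (d : (SimplexCategory.Truncated n)ᵒᵖ)
      (θ : op q ⟶ (SimplexCategory.Truncated.inclusion n).op.obj d),
      h ≫ B.map θ ≫ ε.app d = h' ≫ B.map θ ≫ ε.app d) : h = h' :=
  ((Functor.isPointwiseRightKanExtensionOfIsRightKanExtension B ε) (op q)).hom_ext
    fun w => e w.right w.hom

theorem exists_lift_pt {T : E} {q : SimplexCategory}
    (c : ∀ (d : (SimplexCategory.Truncated n)ᵒᵖ)
      (_ : op q ⟶ (SimplexCategory.Truncated.inclusion n).op.obj d), T ⟶ F.obj d)
    (hc : ∀ (d d' : (SimplexCategory.Truncated n)ᵒᵖ) (φ : d ⟶ d')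
      (θ : op q ⟶ (SimplexCategory.Truncated.inclusion n).op.obj d),
      c d θ ≫ F.map φ = c d' (θ ≫ (SimplexCategory.Truncated.inclusion n).op.map φ)) :
    ∃ h : T ⟶ B.obj (op q), ∀ d θ, h ≫ B.map θ ≫ ε.app d = c d θ := by
  have hl : IsLimit ((Functor.RightExtension.mk B ε).coneAt (op q)) :=
    (Functor.isPointwiseRightKanExtensionOfIsRightKanExtension B ε) (op q)
  let s : Cone (StructuredArrow.proj (op q) (SimplexCategory.Truncated.inclusion n).op ⋙ F) :=
    { pt := T
      π := { app := fun w => c w.right w.hom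
             naturality := fun w w' φ => by
               simp only [Functor.const_obj_map, Category.id_comp]
               exact (Category.id_comp _).trans (Eq.trans (hc w.right w'.right φ.right w.hom)
                 (congrArg (c w'.right) (StructuredArrow.w φ))).symm } }
  exact ⟨hl.lift s, fun d θ => hl.fac s (StructuredArrow.mk θ)⟩

variable {X X' : SimplicialObject E} (f g : X ⟶ X')

open scoped Classical in
/-- `g` if the simplex lies in the upper end, `f` otherwise -/
noncomputable def sel (d : (SimplexCategory.Truncated n)ᵒᵖ) (C : Prop) :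
    ((SimplexCategory.Truncated.inclusion n).op ⋙ X).obj d ⟶
      ((SimplexCategory.Truncated.inclusion n).op ⋙ X').obj d :=
  if C then g.app _ else f.app _

theorem map_comp_eq_of_not_surjective
    (hfg : ∀ p : ℕ, p < n → f.app (op ⦋p⦌) = g.app (op ⦋p⦌))
    {x y : SimplexCategory} (hx : x.len ≤ n) (α : y ⟶ x) (hs : ¬ Function.Surjective α.toOrderHom) :
    X.map α.op ≫ f.app (op y) = X.map α.op ≫ g.app (op y) := by
  obtain ⟨m⟩ := x
  cases m with
  | zero => exact (hs fun y => ⟨0, Subsingleton.elim (α := Fin 1) _ _⟩).elim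
  | succ k =>
    obtain ⟨a, r, rfl⟩ := SimplexCategory.eq_comp_δ_of_not_surjective α hs
    rw [op_comp, X.map_comp, Category.assoc, Category.assoc]
    refine congrArg (X.map (SimplexCategory.δ a).op ≫ ·) ?_
    exact (f.naturality r.op).trans
      ((congrArg (· ≫ X'.map r.op) (hfg k (Nat.lt_of_succ_le hx))).trans (g.naturality r.op).symm)

theorem map_sel (hfg : ∀ p : ℕ, p < n → f.app (op ⦋p⦌) = g.app (op ⦋p⦌))
    {d d' : (SimplexCategory.Truncated n)ᵒᵖ} (φ : d ⟶ d') (P : Fin (d.unop.obj.len + 1) → Prop) :
    sel f g d (∀ l, P l) ≫ ((SimplexCategory.Truncated.inclusion n).op ⋙ X').map φ =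
      ((SimplexCategory.Truncated.inclusion n).op ⋙ X).map φ ≫
        sel f g d' (∀ l, P (φ.unop.hom.toOrderHom l)) := by
  classical
  have key : ¬ ((∀ l, P (φ.unop.hom.toOrderHom l)) ↔ ∀ l, P l) →
      X.map φ.unop.hom.op ≫ f.app (op d'.unop.obj) = X.map φ.unop.hom.op ≫ g.app (op d'.unop.obj) := by
    intro hne
    refine map_comp_eq_of_not_surjective f g hfg d.unop.property φ.unop.hom fun hs => hne ?_
    exact (Function.Surjective.forall (p := P) hs).symm
  by_cases h1 : ∀ l, P l <;> by_cases h2 : ∀ l, P (φ.unop.hom.toOrderHom l)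
  · rw [sel, if_pos h1, sel, if_pos h2]
    exact (g.naturality _).symm
  · rw [sel, if_pos h1, sel, if_neg h2]
    exact (g.naturality _).symm.trans (key fun h => h2 (h.2 h1)).symm
  · rw [sel, if_neg h1, sel, if_pos h2]
    exact (f.naturality _).symm.trans (key fun h => h1 (h.1 h2))
  · rw [sel, if_neg h1, sel, if_neg h2]
    exact (f.naturality _).symm

variable {A : SimplicialObject E}
  (εA : (SimplexCategory.Truncated.inclusion n).op ⋙ A ⟶ (SimplexCategory.Truncated.inclusion n).op ⋙ X)
  (εB : (SimplexCategory.Truncated.inclusion n).op ⋙ B ⟶ (SimplexCategory.Truncated.inclusion n).op ⋙ X')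
  [B.IsRightKanExtension εB]

/-- components of the prism maps -/
noncomputable def comp' {p q : SimplexCategory} (s : q ⟶ p) (P : Fin (q.len + 1) → Prop)
    (d : (SimplexCategory.Truncated n)ᵒᵖ)
    (θ : op q ⟶ (SimplexCategory.Truncated.inclusion n).op.obj d) :
    A.obj (op p) ⟶ ((SimplexCategory.Truncated.inclusion n).op ⋙ X').obj d :=
  A.map (s.op ≫ θ) ≫ εA.app d ≫ sel f g d (∀ l, P (θ.unop.toOrderHom l))

theorem exists_prism (hfg : ∀ p : ℕ, p < n → f.app (op ⦋p⦌) = g.app (op ⦋p⦌))
    {p q : SimplexCategory} (s : q ⟶ p) (P : Fin (q.len + 1) → Prop) :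
    ∃ h : A.obj (op p) ⟶ B.obj (op q), ∀ d θ, h ≫ B.map θ ≫ εB.app d = comp' f g εA s P d θ := by
  refine exists_lift_pt B εB (comp' f g εA s P) fun d d' φ θ => ?_
  simp only [comp', Category.assoc]
  refine (congrArg (fun x => A.map (s.op ≫ θ) ≫ εA.app d ≫ x)
    (map_sel f g hfg φ (fun l => P (θ.unop.toOrderHom l)))).trans ?_
  rw [← NatTrans.naturality_assoc εA φ, Functor.comp_map]
  simp only [← Functor.map_comp_assoc, Category.assoc]
  rfl

variable (hfg : ∀ p : ℕ, p < n → f.app (op ⦋p⦌) = g.app (op ⦋p⦌))

/-- the prism maps -/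
noncomputable def prism {p q : SimplexCategory} (s : q ⟶ p) (P : Fin (q.len + 1) → Prop) :
    A.obj (op p) ⟶ B.obj (op q) :=
  (exists_prism B f g εA εB hfg s P).choose

theorem prism_fac {p q : SimplexCategory} (s : q ⟶ p) (P : Fin (q.len + 1) → Prop) (d θ) :
    prism B f g εA εB hfg s P ≫ B.map θ ≫ εB.app d = comp' f g εA s P d θ :=
  (exists_prism B f g εA εB hfg s P).choose_spec d θ

theorem prism_comp {p q q' : SimplexCategory} (s : q ⟶ p) (P : Fin (q.len + 1) → Prop)
    (β : q' ⟶ q) :
    prism B f g εA εB hfg s P ≫ B.map β.op =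
      prism B f g εA εB hfg (β ≫ s) (fun l => P (β.toOrderHom l)) := by
  refine hom_ext_pt B εB fun d θ => ?_
  rw [prism_fac, Category.assoc, ← Functor.map_comp_assoc, prism_fac]
  simp only [comp', op_comp, Category.assoc]
  rfl

theorem comp_prism {p p' q : SimplexCategory} (t : p ⟶ p') (s : q ⟶ p)
    (P : Fin (q.len + 1) → Prop) :
    A.map t.op ≫ prism B f g εA εB hfg s P = prism B f g εA εB hfg (s ≫ t) P := by
  refine hom_ext_pt B εB fun d θ => ?_
  rw [Category.assoc, prism_fac, prism_fac]
  simp only [comp', op_comp, Category.assoc, ← Functor.map_comp_assoc]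

theorem prism_congr {p q : SimplexCategory} {s s' : q ⟶ p} (hs : s = s')
    {P P' : Fin (q.len + 1) → Prop} (hP : ∀ l, P l ↔ P' l) :
    prism B f g εA εB hfg s P = prism B f g εA εB hfg s' P' := by
  rw [hs, show P = P' from funext fun l => propext (hP l)]

/-- prism identities give a homotopy -/
theorem homotopy_of_prism {F G : A ⟶ B}
    (hF : ∀ p : SimplexCategory, F.app (op p) = prism B f g εA εB hfg (𝟙 p) (fun _ => False))
    (hG : ∀ p : SimplexCategory, G.app (op p) = prism B f g εA εB hfg (𝟙 p) (fun _ => True)) :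
    Nonempty (SimplicialObject.Homotopy F G) := by
  refine ⟨{
    h := fun {m} i => prism B f g εA εB hfg (SimplexCategory.σ i) (fun l => i.val < l.val)
    h_zero_comp_δ_zero := fun m => ?_
    h_last_comp_δ_last := fun m => ?_
    h_succ_comp_δ_castSucc_of_lt := fun {m} i j hij => ?_
    h_succ_comp_δ_castSucc_succ := fun {m} j => ?_
    h_castSucc_comp_δ_succ_of_lt := fun {m} i j hij => ?_
    h_comp_σ_castSucc_of_le := fun {m} i j hij => ?_
    h_comp_σ_succ_of_lt := fun {m} i j hij => ?_ }⟩
  · rw [hG, SimplicialObject.δ, prism_comp]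
    refine prism_congr B f g εA εB hfg SimplexCategory.δ_comp_σ_self fun l => ?_
    change 0 < ((0 : Fin (m + 2)).succAbove l).val ↔ True
    simp
  · rw [hF, SimplicialObject.δ, prism_comp]
    refine prism_congr B f g εA εB hfg
      (by simpa using SimplexCategory.δ_comp_σ_succ (i := Fin.last m)) fun l => ?_
    change m < ((Fin.last (m + 1)).succAbove l).val ↔ False
    have hl : l.val < m + 1 := l.isLt
    simp only [Fin.succAbove_last, Fin.val_castSucc, SimplexCategory.len_mk] at hl ⊢
    simp only [iff_false, not_lt]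
    exact Nat.le_of_lt_succ l.isLt
  · rw [SimplicialObject.δ, SimplicialObject.δ, prism_comp, comp_prism]
    refine prism_congr B f g εA εB hfg (SimplexCategory.δ_comp_σ_of_le hij) fun l => ?_
    change j.succ.val < (i.castSucc.succAbove l).val ↔ j.val < l.val
    simp only [Fin.succAbove, Fin.lt_def, Fin.val_castSucc, Fin.le_def] at *
    split_ifs <;> simp <;> omega
  · rw [SimplicialObject.δ, prism_comp, prism_comp]
    refine prism_congr B f g εA εB hfg ?_ fun l => ?_
    · rw [← Fin.castSucc_succ]
      rw [SimplexCategory.δ_comp_σ_self]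
      rw [Fin.castSucc_succ, SimplexCategory.δ_comp_σ_succ]
    · change j.succ.val < (j.castSucc.succ.succAbove l).val ↔
        j.castSucc.val < (j.castSucc.succ.succAbove l).val
      simp only [Fin.succAbove, Fin.lt_def, Fin.val_castSucc, Fin.val_succ] at *
      split_ifs <;> simp <;> omega
  · rw [SimplicialObject.δ, SimplicialObject.δ, prism_comp, comp_prism]
    refine prism_congr B f g εA εB hfg (SimplexCategory.δ_comp_σ_of_gt hij) fun l => ?_
    change j.castSucc.val < (i.succ.succAbove l).val ↔ j.val < l.val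
    simp only [Fin.succAbove, Fin.lt_def, Fin.val_castSucc, Fin.val_succ] at *
    split_ifs <;> simp <;> omega
  · rw [SimplicialObject.σ, SimplicialObject.σ, prism_comp, comp_prism]
    refine prism_congr B f g εA εB hfg (SimplexCategory.σ_comp_σ hij) fun l => ?_
    change j.val < (i.castSucc.predAbove l).val ↔ j.succ.val < l.val
    simp only [Fin.predAbove, Fin.lt_def, Fin.val_castSucc, Fin.le_def] at *
    split_ifs <;> simp <;> omega
  · rw [SimplicialObject.σ, SimplicialObject.σ, prism_comp, comp_prism]
    refine prism_congr B f g εA εB hfg (SimplexCategory.σ_comp_σ hij).symm fun l => ?_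
    change j.val < (i.succ.predAbove l).val ↔ j.castSucc.val < l.val
    simp only [Fin.predAbove, Fin.lt_def, Fin.val_castSucc, Fin.le_def, Fin.val_succ] at *
    split_ifs <;> simp <;> omega

end


/-- Let E be a category with finite limits, n a natural number and f, g : X ⟶ X' two morphisms of
simplicial objects of E whose components agree in every degree p < n. Then there is a simplicial
homotopy between the morphisms cosk_n(f) and cosk_n(g) of n-coskeleta (cosk_n = right Kan extension
of the n-truncation; Mathlib's combinatorial simplicial homotopies). For n = 0 the hypothesis is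
empty. -/
theorem result {E : Type u} [Category.{v} E] [HasFiniteLimits E] (n : ℕ)
    [∀ (F : (SimplexCategory.Truncated n)ᵒᵖ ⥤ E), (SimplexCategory.Truncated.inclusion n).op.HasRightKanExtension F]
    {X X' : SimplicialObject E} (f g : X ⟶ X')
    (hfg : ∀ p : ℕ, p < n → f.app (op (SimplexCategory.mk p)) = g.app (op (SimplexCategory.mk p))) :
    Nonempty (SimplicialObject.Homotopy ((SimplicialObject.cosk n).map f) ((SimplicialObject.cosk n).map g)) := by
  classical
  let εA : (SimplexCategory.Truncated.inclusion n).op ⋙ (SimplicialObject.cosk n).obj X ⟶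
      (SimplexCategory.Truncated.inclusion n).op ⋙ X :=
    (SimplicialObject.coskAdj (C := E) n).counit.app ((SimplicialObject.truncation n).obj X)
  let εB : (SimplexCategory.Truncated.inclusion n).op ⋙ (SimplicialObject.cosk n).obj X' ⟶
      (SimplexCategory.Truncated.inclusion n).op ⋙ X' :=
    (SimplicialObject.coskAdj (C := E) n).counit.app ((SimplicialObject.truncation n).obj X')
  haveI hB : ((SimplicialObject.cosk n).obj X').IsRightKanExtension εB := by
    show ((SimplexCategory.Truncated.inclusion n).op.ran.obj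
      ((SimplicialObject.truncation n).obj X')).IsRightKanExtension
      (((SimplexCategory.Truncated.inclusion n).op.ranAdjunction E).counit.app
        ((SimplicialObject.truncation n).obj X'))
    rw [Functor.ranAdjunction_counit]
    infer_instance
  have hw : ∀ (k : X ⟶ X') (p : SimplexCategory) (P : Fin (p.len + 1) → Prop)
      (hk : ∀ (d : (SimplexCategory.Truncated n)ᵒᵖ)
        (θ : op p ⟶ (SimplexCategory.Truncated.inclusion n).op.obj d),
        sel f g d (∀ l, P (θ.unop.toOrderHom l)) = k.app _),
      ((SimplicialObject.cosk n).map k).app (op p) =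
        prism ((SimplicialObject.cosk n).obj X') f g εA εB hfg (𝟙 p) P := by
    intro k p P hk
    refine hom_ext_pt _ εB fun d θ => ?_
    rw [prism_fac, ← NatTrans.naturality_assoc]
    simp only [comp', op_id, Category.id_comp, hk d θ]
    congr 1
    exact NatTrans.congr_app ((SimplicialObject.coskAdj (C := E) n).counit.naturality
      ((SimplicialObject.truncation n).map k)) d
  refine homotopy_of_prism _ f g εA εB hfg (fun p => hw f p _ fun d θ => ?_)
    (fun p => hw g p _ fun d θ => ?_)
  · exact if_neg fun hc => hc 0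
  · exact if_pos fun _ => trivial

end Groth.Agent.S8565
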