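import Groth.Statements.S8566
import Mathlib

set_option autoImplicit false
open CategoryTheory CategoryTheory.Limits
universe v u
open CohDer

namespace Groth.Agent.S8566

open CategoryTheory CategoryTheory.Limits HomologicalComplex₂
set_option backward.isDefEq.respectTransparency false
set_option maxHeartbeats 800000

noncomputable section
variable {A : Type u} [Category.{v} A] [Abelian A]

local notation "cℤ" => ComplexShape.up ℤ

/-- Exactness of the cone, in elementwise form. -/
def ConeExact {K L : CochainComplex A ℤ} (f : K ⟶ L) : Prop :=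
  ∀ (n n' n'' m : ℤ) (_ : n + 1 = n') (_ : n' + 1 = n'') (_ : m + 1 = n) ⦃T : A⦄ (x : T ⟶ K.X n') (y : T ⟶ L.X n),
    x ≫ K.d n' n'' = 0 → x ≫ f.f n' + y ≫ L.d n n' = 0 →
    ∃ (T' : A) (π : T' ⟶ T) (_ : Epi π) (x' : T' ⟶ K.X n) (y' : T' ⟶ L.X m),
      π ≫ x + x' ≫ K.d n n' = 0 ∧ π ≫ y = x' ≫ f.f n + y' ≫ L.d m n

theorem coneExact_of_quasiIso {K L : CochainComplex A ℤ} (f : K ⟶ L) [QuasiIso f] : ConeExact f := by
  intro n n' n'' m hn hn' hm T x y hx hxy
  have hmono : Mono (HomologicalComplex.homologyMap f n') := inferInstance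
  rw [HomologicalComplex.mono_homologyMap_iff_up_to_refinements f n n' n'' (by simp; omega) (by simp; omega)] at hmono
  obtain ⟨T₁, π₁, _, x₁, h₁⟩ := hmono x hx (-y) (by rw [Preadditive.neg_comp]; exact eq_neg_of_add_eq_zero_left hxy)
  have hepi : Epi (HomologicalComplex.homologyMap f n) := inferInstance
  rw [HomologicalComplex.epi_homologyMap_iff_up_to_refinements f m n n' (by simp; omega) (by simp; omega)] at hepi
  have hz : (π₁ ≫ y + x₁ ≫ f.f n) ≫ L.d n n' = 0 := by
    rw [Preadditive.add_comp, Category.assoc, Category.assoc, f.comm, ← Category.assoc x₁, ← h₁, Category.assoc,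
      ← Preadditive.comp_add, add_comm, hxy, comp_zero]
  obtain ⟨T₂, π₂, _, x₂, hx₂, y₁, h₂⟩ := hepi _ hz
  refine ⟨T₂, π₂ ≫ π₁, inferInstance, x₂ - π₂ ≫ x₁, y₁, ?_, ?_⟩
  · rw [Preadditive.sub_comp, hx₂, Category.assoc, Category.assoc, h₁]; simp
  · rw [Preadditive.sub_comp, sub_add_eq_add_sub, ← h₂]
    simp

theorem quasiIso_of_coneExact {K L : CochainComplex A ℤ} (f : K ⟶ L) (h : ConeExact f) : QuasiIso f := by
  refine ⟨fun n => ?_⟩
  rw [quasiIsoAt_iff_isIso_homologyMap]
  have hmono : Mono (HomologicalComplex.homologyMap f n) := by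
    rw [HomologicalComplex.mono_homologyMap_iff_up_to_refinements f (n - 1) n (n + 1) (by simp) (by simp)]
    intro T x hx y hxy
    obtain ⟨T', π, hπ, x', y', e, -⟩ := h (n - 1) n (n + 1) (n - 2) (by omega) rfl (by omega) x (-y) hx
      (by rw [Preadditive.neg_comp, hxy, add_neg_cancel])
    exact ⟨T', π, hπ, -x', by rw [Preadditive.neg_comp]; exact eq_neg_of_add_eq_zero_left e⟩
  have hepi : Epi (HomologicalComplex.homologyMap f n) := by
    rw [HomologicalComplex.epi_homologyMap_iff_up_to_refinements f (n - 1) n (n + 1) (by simp) (by simp)]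
    intro T y hy
    obtain ⟨T', π, hπ, x', y', e, e'⟩ := h n (n + 1) (n + 2) (n - 1) rfl (by omega) (by omega)
      (0 : T ⟶ K.X (n + 1)) y zero_comp (by rw [zero_comp, hy, add_zero])
    rw [comp_zero, zero_add] at e
    exact ⟨T', π, hπ, x', e, y', e'⟩
  exact isIso_of_mono_of_epi _

section
variable (K : HomologicalComplex₂ A cℤ cℤ) [K.HasTotal cℤ]

/-- projection of the total complex to a summand. -/
def pr (p q n : ℤ) : (K.total cℤ).X n ⟶ (K.X p).X q :=
  K.totalDesc fun i j _ => if h : i = p ∧ j = q then (K.XXIsoOfEq _ _ _ h.1 h.2).hom else 0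

theorem ι_pr_self {p q n : ℤ} (h : p + q = n) : K.ιTotal cℤ p q n h ≫ pr K p q n = 𝟙 _ := by
  rw [pr, ι_totalDesc, dif_pos ⟨rfl, rfl⟩]
  simp [HomologicalComplex₂.XXIsoOfEq]

theorem ι_pr_of_ne {i j p q n : ℤ} (h : i + j = n) (hne : ¬ (i = p ∧ j = q)) :
    K.ιTotal cℤ i j n h ≫ pr K p q n = 0 := by
  rw [pr, ι_totalDesc, dif_neg hne]

theorem D_pr (n n' p q p₀ q₀ : ℤ) (hn : n + 1 = n') (hpq : p + q = n') (hp : p₀ + 1 = p) (hq : q₀ + 1 = q) :
    (K.total cℤ).d n n' ≫ pr K p q n' = pr K p₀ q n ≫ (K.d p₀ p).f q +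
      p.negOnePow • (pr K p q₀ n ≫ (K.X p).d q₀ q) := by
  ext i j hij
  change i + j = n at hij
  simp only [HomologicalComplex₂.total_d, Preadditive.add_comp, Preadditive.comp_add, Linear.comp_units_smul,
    ι_D₁_assoc, ι_D₂_assoc]
  rw [d₁_eq K cℤ (show i + 1 = i + 1 from rfl) j n' (show i + 1 + j = n' by omega),
    d₂_eq K cℤ i (show j + 1 = j + 1 from rfl) n' (show i + (j + 1) = n' by omega)]
  simp only [Linear.units_smul_comp, Category.assoc]
  have e₁ : ComplexShape.ε₁ cℤ cℤ cℤ (i, j) = 1 := rfl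
  have e₂ : ComplexShape.ε₂ cℤ cℤ cℤ (i, j) = i.negOnePow := rfl
  rw [e₁, e₂, one_smul]
  congr 1
  · by_cases h : i = p₀ ∧ j = q
    · obtain ⟨rfl, rfl⟩ := h
      obtain rfl := hp
      rw [ι_pr_self, Category.comp_id, ← Category.assoc, ι_pr_self, Category.id_comp]
    · rw [ι_pr_of_ne K _ (fun h' => h ⟨by omega, h'.2⟩), comp_zero, ← Category.assoc, ι_pr_of_ne K hij h, zero_comp]
  · by_cases h : i = p ∧ j = q₀
    · obtain ⟨rfl, rfl⟩ := h
      obtain rfl := hq
      rw [ι_pr_self, Category.comp_id, ← Category.assoc, ι_pr_self, Category.id_comp]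
    · rw [ι_pr_of_ne K _ (fun h' => h ⟨h'.1, by omega⟩), comp_zero, ← Category.assoc, ι_pr_of_ne K hij h, zero_comp,
        smul_zero, smul_zero]

variable (a b : ℤ) (hK : ∀ p q : ℤ, p < a ∨ q < b → IsZero ((K.X p).X q))
include hK

theorem sum_pr (n : ℤ) :
    ∑ q ∈ Finset.Icc b (n - a), pr K (n - q) q n ≫ K.ιTotal cℤ (n - q) q n (sub_add_cancel n q) =
      𝟙 ((K.total cℤ).X n) := by
  ext i j hij
  change i + j = n at hij
  by_cases hj : j ∈ Finset.Icc b (n - a)
  · rw [Preadditive.comp_sum, Finset.sum_eq_single j]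
    · obtain rfl : i = n - j := by omega
      rw [← Category.assoc, ι_pr_self, Category.id_comp, Category.comp_id]
    · intro q _ hq
      rw [← Category.assoc, ι_pr_of_ne K hij (fun h => hq h.2.symm), zero_comp]
    · exact fun h => absurd hj h
  · exact (hK i j (by simp only [Finset.mem_Icc] at hj; omega)).eq_of_src _ _

theorem eq_zero_of_pr {T : A} {n : ℤ} (x : T ⟶ (K.total cℤ).X n)
    (h : ∀ p q, p + q = n → a ≤ p → b ≤ q → x ≫ pr K p q n = 0) : x = 0 := by
  rw [← Category.comp_id x, ← sum_pr K a b hK n, Preadditive.comp_sum]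
  refine Finset.sum_eq_zero fun q hq => ?_
  simp only [Finset.mem_Icc] at hq
  rw [← Category.assoc, h (n - q) q (sub_add_cancel n q) (by omega) hq.1, zero_comp]

end

theorem map_pr {K L : HomologicalComplex₂ A cℤ cℤ} [K.HasTotal cℤ] [L.HasTotal cℤ] (φ : K ⟶ L) {p q n : ℤ}
    (h : p + q = n) : (total.map φ cℤ).f n ≫ pr L p q n = pr K p q n ≫ (φ.f p).f q := by
  ext i j hij
  rw [ιTotal_map_assoc]
  by_cases h' : i = p ∧ j = q
  · obtain ⟨rfl, rfl⟩ := h'
    rw [ι_pr_self, Category.comp_id, ← Category.assoc, ι_pr_self, Category.id_comp]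
  · rw [ι_pr_of_ne L hij h', comp_zero, ← Category.assoc, ι_pr_of_ne K hij h', zero_comp]

/-- row `q` of a double complex. -/
abbrev row (q : ℤ) : HomologicalComplex₂ A cℤ cℤ ⥤ CochainComplex A ℤ :=
  (HomologicalComplex.eval A cℤ q).mapHomologicalComplex cℤ

variable {K L : HomologicalComplex₂ A cℤ cℤ} [K.HasTotal cℤ] [L.HasTotal cℤ] (φ : K ⟶ L) (a b : ℤ)
  (hK : ∀ p q : ℤ, p < a ∨ q < b → IsZero ((K.X p).X q))
  (hL : ∀ p q : ℤ, p < a ∨ q < b → IsZero ((L.X p).X q))
  (hrow : ∀ q, ConeExact ((row q).map φ))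
include hK hL hrow

theorem step (n n' n'' k : ℤ) (hn : n + 1 = n') (hn' : n' + 1 = n'') (hk : k + 1 = n) (j : ℕ) :
    ∀ ⦃T : A⦄ (x : T ⟶ (K.total cℤ).X n') (y : T ⟶ (L.total cℤ).X n),
      x ≫ (K.total cℤ).d n' n'' = 0 → x ≫ (total.map φ cℤ).f n' + y ≫ (L.total cℤ).d n n' = 0 →
      (∀ p q, p + q = n' → q < n' + 1 - a - j → x ≫ pr K p q n' = 0) →
      (∀ p q, p + q = n → q < n' + 1 - a - j → y ≫ pr L p q n = 0) →
      ∃ (T' : A) (π : T' ⟶ T) (_ : Epi π) (x' : T' ⟶ (K.total cℤ).X n) (y' : T' ⟶ (L.total cℤ).X k),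
        π ≫ x + x' ≫ (K.total cℤ).d n n' = 0 ∧ π ≫ y = x' ≫ (total.map φ cℤ).f n + y' ≫ (L.total cℤ).d k n := by
  induction j with
  | zero =>
    intro T x y hx hxy hxz hyz
    refine ⟨T, 𝟙 T, inferInstance, 0, 0, ?_, ?_⟩
    · rw [zero_comp, add_zero, Category.id_comp]
      exact eq_zero_of_pr K a b hK x fun p q h h1 h2 => hxz p q h (by simp only [Nat.cast_zero]; omega)
    · rw [zero_comp, zero_comp, add_zero, Category.id_comp]
      exact eq_zero_of_pr L a b hL y fun p q h h1 h2 => hyz p q h (by simp only [Nat.cast_zero]; omega)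
  | succ j ih =>
    intro T x y hx hxy hxz hyz
    obtain ⟨m, hm⟩ : ∃ m : ℤ, n' + 1 - a - ((j + 1 : ℕ) : ℤ) = m := ⟨_, rfl⟩
    have hm' : n' + 1 - a - (j : ℤ) = m + 1 := by omega
    rw [hm] at hxz hyz
    have hx0 : (x ≫ pr K (n' - m) m n') ≫ (K.d (n' - m) (n'' - m)).f m = 0 := by
      have := (Category.assoc x _ _).symm.trans (congrArg (· ≫ pr K (n'' - m) m n'') hx)
      rw [D_pr K n' n'' (n'' - m) m (n' - m) (m - 1) hn' (by omega) (by omega) (by omega), Preadditive.comp_add,
        Linear.comp_units_smul, ← Category.assoc, ← Category.assoc, hxz (n'' - m) (m - 1) (by omega) (by omega), zero_comp,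
        smul_zero, add_zero, zero_comp] at this
      exact this
    have hy0 : (x ≫ pr K (n' - m) m n') ≫ (φ.f (n' - m)).f m +
        (y ≫ pr L (n - m) m n) ≫ (L.d (n - m) (n' - m)).f m = 0 := by
      have := congrArg (· ≫ pr L (n' - m) m n') hxy
      simp only [Preadditive.add_comp, zero_comp, Category.assoc] at this
      rw [map_pr φ (show n' - m + m = n' by omega),
        D_pr L n n' (n' - m) m (n - m) (m - 1) hn (by omega) (by omega) (by omega), Preadditive.comp_add,
        Linear.comp_units_smul, ← Category.assoc y (pr L (n' - m) (m - 1) n), hyz (n' - m) (m - 1) (by omega) (by omega),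
        zero_comp, smul_zero, add_zero, ← Category.assoc, ← Category.assoc] at this
      exact this
    obtain ⟨T₁, π₁, _, x₁, y₁, e₁, e₂⟩ := hrow m (n - m) (n' - m) (n'' - m) (k - m) (by omega) (by omega) (by omega)
      (x ≫ pr K (n' - m) m n') (y ≫ pr L (n - m) m n) hx0 hy0
    let X' := x₁ ≫ K.ιTotal cℤ (n - m) m n (show n - m + m = n by omega)
    let Y' := y₁ ≫ L.ιTotal cℤ (k - m) m k (show k - m + m = k by omega)
    let nx := π₁ ≫ x + X' ≫ (K.total cℤ).d n n'
    let ny := π₁ ≫ y - X' ≫ (total.map φ cℤ).f n - Y' ≫ (L.total cℤ).d k n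
    have hnx : nx ≫ (K.total cℤ).d n' n'' = 0 := by simp [nx, hx]
    have hnxy : nx ≫ (total.map φ cℤ).f n' + ny ≫ (L.total cℤ).d n n' = 0 := by
      simp only [nx, ny, Preadditive.add_comp, Preadditive.sub_comp, Category.assoc, HomologicalComplex.Hom.comm,
        HomologicalComplex.d_comp_d, comp_zero, sub_zero]
      rw [show ∀ u v w : T₁ ⟶ (L.total cℤ).X n', u + v + (w - v) = u + w from fun u v w => by abel,
        ← Preadditive.comp_add, hxy, comp_zero]
    have hX : ∀ p q, ¬ (n - m = p ∧ m = q) → X' ≫ pr K p q n = 0 := fun p q h => by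
      rw [Category.assoc, ι_pr_of_ne K _ h, comp_zero]
    have hY : ∀ p q, ¬ (k - m = p ∧ m = q) → Y' ≫ pr L p q k = 0 := fun p q h => by
      rw [Category.assoc, ι_pr_of_ne L _ h, comp_zero]
    have hX0 : X' ≫ pr K (n - m) m n = x₁ := by
      rw [Category.assoc, ι_pr_self]
      exact Category.comp_id _
    have hY0 : Y' ≫ pr L (k - m) m k = y₁ := by
      rw [Category.assoc, ι_pr_self]
      exact Category.comp_id _
    have hnx0 : ∀ p q, p + q = n' → q < m + 1 → nx ≫ pr K p q n' = 0 := fun p q hpq hq => by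
      simp only [nx, Preadditive.add_comp, Category.assoc]
      rw [D_pr K n n' p q (p - 1) (q - 1) hn hpq (by omega) (by omega), Preadditive.comp_add, Linear.comp_units_smul,
        ← Category.assoc X', ← Category.assoc X', hX p (q - 1) (by omega), zero_comp, smul_zero, add_zero]
      by_cases hqm : q = m
      · obtain rfl := hqm
        obtain rfl : p = n' - q := by omega
        rw [show n' - q - 1 = n - q by omega, hX0]
        exact e₁
      · rw [hxz p q hpq (by omega), comp_zero, zero_add, hX _ _ (by omega), zero_comp]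
    have hny0 : ∀ p q, p + q = n → q < m + 1 → ny ≫ pr L p q n = 0 := fun p q hpq hq => by
      simp only [ny, Preadditive.sub_comp, Category.assoc]
      rw [map_pr φ hpq, D_pr L k n p q (p - 1) (q - 1) hk hpq (by omega) (by omega), Preadditive.comp_add,
        Linear.comp_units_smul, ← Category.assoc X', ← Category.assoc Y', ← Category.assoc Y',
        hY p (q - 1) (by omega), zero_comp, smul_zero, add_zero]
      by_cases hqm : q = m
      · obtain rfl := hqm
        obtain rfl : p = n - q := by omega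
        rw [show n - q - 1 = k - q by omega, hX0, hY0, sub_sub]
        exact sub_eq_zero.2 e₂
      · rw [hyz p q hpq (by omega), comp_zero, zero_sub, hX _ _ (by omega), zero_comp, neg_zero, zero_sub,
          hY _ _ (by omega), zero_comp, neg_zero]
    obtain ⟨T₂, π₂, _, x₂, y₂, f₁, f₂⟩ := ih nx ny hnx hnxy (by rw [hm']; exact hnx0) (by rw [hm']; exact hny0)
    refine ⟨T₂, π₂ ≫ π₁, inferInstance, x₂ + π₂ ≫ X', y₂ + π₂ ≫ Y', ?_, ?_⟩
    · simp only [nx, Preadditive.comp_add] at f₁
      rw [Preadditive.add_comp, Category.assoc, Category.assoc, ← f₁]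
      abel
    · simp only [ny, Preadditive.comp_sub, sub_sub, sub_eq_iff_eq_add] at f₂
      simp only [X', Y', Preadditive.add_comp, Preadditive.comp_add, Category.assoc] at f₂ ⊢
      rw [f₂]
      abel

theorem coneExact_total : ConeExact (total.map φ cℤ) := by
  intro n n' n'' k hn hn' hk T x y hx hxy
  obtain ⟨j, hj⟩ : ∃ j : ℕ, n' + 1 - a - j ≤ b := ⟨(n' + 1 - a - b).toNat, by omega⟩
  exact step φ a b hK hL hrow n n' n'' k hn hn' hk j x y hx hxy
    (fun p q _ hq => (hK p q (Or.inr (by omega))).eq_of_tgt _ _)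
    (fun p q _ hq => (hL p q (Or.inr (by omega))).eq_of_tgt _ _)

end


/-- Let A be an abelian category, K and L double complexes in A with integer bidegrees whose terms
vanish in every bidegree (p, q) with p < a or q < b, and φ : K ⟶ L a morphism which is a
quasi-isomorphism when K and L are viewed as complexes (first index) with values in the abelian
category of complexes (second index). Then the morphism of total complexes induced by φ is a
quasi-isomorphism; in words, the simple (total) complex functor preserves quasi-isomorphisms. (The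
published statement is for bounded below complexes of bounded below complexes; this row takes the
two bounds uniform, so that every term of the total complex is a finite sum.) -/
theorem result {A : Type u} [Category.{v} A] [Abelian A]
    (K L : HomologicalComplex₂ A (ComplexShape.up ℤ) (ComplexShape.up ℤ)) (φ : K ⟶ L) (a b : ℤ)
    (hK : ∀ p q : ℤ, p < a ∨ q < b → IsZero ((K.X p).X q))
    (hL : ∀ p q : ℤ, p < a ∨ q < b → IsZero ((L.X p).X q))
    [K.HasTotal (ComplexShape.up ℤ)] [L.HasTotal (ComplexShape.up ℤ)] [QuasiIso φ] :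
    QuasiIso (HomologicalComplex₂.total.map φ (ComplexShape.up ℤ)) := by
  refine quasiIso_of_coneExact _ (coneExact_total φ a b hK hL fun q => ?_)
  haveI : QuasiIso ((row q).map φ) := HomologicalComplex.quasiIso_map_of_preservesHomology φ _
  exact coneExact_of_quasiIso _


end Groth.Agent.S8566
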