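import Groth.Statements.S8567
import Groth.Agent.Lib.SheafVan16.Hausdorff

set_option autoImplicit false
open CategoryTheory TopologicalSpace Opposite
universe u
open CohTop

namespace Groth.Agent.S8567

/-- Let X be a topological space, K ⊆ X a compact subset such that any two distinct points of K have
disjoint neighbourhoods in X, and F a flasque abelian sheaf on X. Then the inverse image F|K of F on
the subspace K is a soft sheaf: for every closed subset A of K, every section of (F|K)|A over A is
the restriction of a section of F|K over K (the restriction map is the unit of the inverse image /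
direct image adjunction for the inclusion A → K, taken on global sections). -/
theorem result {X : TopCat.{u}} {K : Set X} (hK : IsCompact K)
    (hsep : ∀ x ∈ K, ∀ y ∈ K, x ≠ y → ∃ U V : Set X, IsOpen U ∧ IsOpen V ∧ x ∈ U ∧ y ∈ V ∧ Disjoint U V)
    (F : CohTop.Ab X) [TopCat.Sheaf.IsFlasque F] {A : Set K} (hA : IsClosed A) :
    Function.Surjective
      ((((TopCat.Sheaf.pullbackPushforwardAdjunction AddCommGrpCat.{u}
        (TopCat.ofHom ⟨((↑) : A → K), continuous_subtype_val⟩ : TopCat.of A ⟶ TopCat.of K)).unit.app
        ((CohTop.pull (TopCat.ofHom ⟨((↑) : K → X), continuous_subtype_val⟩ : TopCat.of K ⟶ X)).obj F)).hom.app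
        (op ⊤)).hom) := by
  let i : TopCat.of K ⟶ X := TopCat.ofHom ⟨((↑) : K → X), continuous_subtype_val⟩
  let j : TopCat.of A ⟶ TopCat.of K := TopCat.ofHom ⟨((↑) : A → K), continuous_subtype_val⟩
  haveI : CompactSpace (TopCat.of K) := isCompact_iff_compactSpace.1 hK
  have hp : SheafVan16.PairSep i := ⟨Subtype.val_injective, fun z z' hne =>
    hsep z.1 z.2 z'.1 z'.2 fun e => hne (Subtype.ext e)⟩
  haveI := hp.t2
  haveI : CompactSpace (TopCat.of A) := isCompact_iff_compactSpace.1 hA.isCompact
  have hq : SheafVan16.PairSep j := ⟨Subtype.val_injective, fun z z' hne => t2_separation fun e => hne (Subtype.ext e)⟩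
  intro t
  let G := (CohTop.pull i).obj F
  obtain ⟨U, s, hs⟩ := SheafVan16.exists_rel G hq (O := ⊤) isCompact_univ (fun z _ => trivial) t
  have hAU : A ⊆ (U : Set K) := fun x hx => (hs ⟨x, hx⟩ trivial).2.1
  obtain ⟨g, hg⟩ := SheafVan16.soft_pull F hp A hA.isCompact U hAU s
  refine ⟨g, TopCat.Presheaf.section_ext ((CohTop.pull j).obj G) _ _ _ fun z _ => ?_⟩
  obtain ⟨h1, h2, e⟩ := hs z trivial
  exact ((SheafVan16.σ_germ j G g z (Set.mem_univ _)).symm.trans (congrArg _ (hg z.1 z.2))).trans e.symm

end Groth.Agent.S8567
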