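import Groth.Statements.S8580
import Groth.Agent.Lib.EtDesc24.Descent
import Groth.Agent.Lib.SpSeqDeg16.Basic

set_option autoImplicit false
open CategoryTheory CategoryTheory.Limits AlgebraicGeometry
universe u
open EtDesc

namespace Groth.Agent.S8580

/-- In the setting of schemes and abelian sheaves on their small etale sites (where every morphism is
flat for the inverse image of sheaves), let f : X → Y be a morphism of schemes with a section s, s
followed by f being the identity, and F any abelian sheaf on the small etale site of Y. Then f is of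
universal cohomological descent, and the descent spectral sequence reads, in existence form: there
is a bounded spectral sequence of abelian groups starting at page one with E_1^{p,q} isomorphic, for
p, q ≥ 0, to the etale cohomology group H^q(X_p, F|X_p), where X_p is the (p+1)-fold fibre product
of X over Y and F|X_p the inverse image of F along its projection to Y, and zero otherwise, together
with abutment data whose filtrations are finite on H^n(Y_et, F) for n ≥ 0 (zero for n < 0). (The E_1
identifications and the abutment isomorphisms are asserted to exist only; the differentials are not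
part of this statement.) -/
theorem result {X Y : Scheme.{u}} (f : X ⟶ Y) (s : Y ⟶ X)
    (hs : s ≫ f = 𝟙 Y) (F : EtCoh.Ab Y) :
    ∃ (E : CohomologicalSpectralSequence AddCommGrpCat.{u + 1} 1)
      (a : SpSeq.Abutment E (fun n : ℤ =>
        if 0 ≤ n then AddCommGrpCat.of (EtCoh.H Y F n.toNat) else AddCommGrpCat.of PUnit.{u + 2})),
      (∀ n, a.IsFinite n) ∧ SpSeq.IsBounded E ∧
      ∀ p q : ℤ, Nonempty ((E.page 1 le_rfl).X (p, q) ≅
        (if 0 ≤ p ∧ 0 ≤ q then
          AddCommGrpCat.of (EtCoh.H (widePullback Y (fun _ : Fin (p.toNat + 1) => X) (fun _ => f))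
            ((EtCoh.pull (WidePullback.base (fun _ : Fin (p.toNat + 1) => f) :
              widePullback Y (fun _ : Fin (p.toNat + 1) => X) (fun _ => f) ⟶ Y)).obj F) q.toNat)
         else AddCommGrpCat.of PUnit.{u + 2})) := by
  classical
  let R : ℤ → CochainComplex AddCommGrpCat.{u + 1} ℤ := fun q =>
    if 0 ≤ q then (Groth.Agent.EtDesc24.row f F q.toNat).extend ComplexShape.embeddingUpNat else HomologicalComplex.zero
  have hz : IsZero (AddCommGrpCat.of PUnit.{u + 2}) := AddCommGrpCat.isZero_of_subsingleton _
  have hneg : ∀ p q : ℤ, p < 0 ∨ q < 0 → IsZero ((R q).X p) := by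
    intro p q h
    by_cases hq : 0 ≤ q
    · rw [show R q = _ from if_pos hq]
      exact HomologicalComplex.isZero_extend_X _ _ p fun i => by
        simp only [ComplexShape.embeddingUpNat_f]; omega
    · rw [show R q = _ from if_neg hq]
      exact isZero_zero _
  have hex : ∀ q p : ℤ, p ≠ 0 → IsZero ((R q).homology p) := by
    intro q p hp
    by_cases hp' : p < 0
    · exact ShortComplex.isZero_homology_of_isZero_X₂ _ (hneg p q (Or.inl hp'))
    by_cases hq : 0 ≤ q
    · rw [show R q = _ from if_pos hq]
      obtain ⟨n, rfl⟩ : ∃ n : ℕ, p = ((n + 1 : ℕ) : ℤ) := ⟨(p - 1).toNat, by omega⟩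
      exact (Groth.Agent.EtDesc24.exactAt_row f s hs F q.toNat n).isZero_homology.of_iso
        (HomologicalComplex.extendHomologyIso _ ComplexShape.embeddingUpNat (j := n + 1) rfl)
    · exact ShortComplex.isZero_homology_of_isZero_X₂ _ (hneg p q (Or.inr (by omega)))
  have e : ∀ q, Nonempty ((R q).homology 0 ≅
      (if 0 ≤ q then AddCommGrpCat.of (EtCoh.H Y F q.toNat) else AddCommGrpCat.of PUnit.{u + 2})) := by
    intro q
    by_cases hq : 0 ≤ q
    · rw [show R q = _ from if_pos hq, if_pos hq]
      obtain ⟨i⟩ := Groth.Agent.EtDesc24.nonempty_homology_row_zero f s hs F q.toNat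
      exact ⟨HomologicalComplex.extendHomologyIso _ ComplexShape.embeddingUpNat (j := 0) rfl ≪≫ i⟩
    · rw [if_neg hq]
      exact ⟨IsZero.iso (ShortComplex.isZero_homology_of_isZero_X₂ _ (hneg 0 q (Or.inr (by omega)))) hz⟩
  obtain ⟨E, a, hfin, hbdd, hpage⟩ := Groth.Agent.SpSeqDeg16.exists_degenerate R hneg hex _ fun q => (e q).some
  refine ⟨E, a, hfin, hbdd, fun p q => ?_⟩
  obtain ⟨i⟩ := hpage p q
  by_cases h : 0 ≤ p ∧ 0 ≤ q
  · obtain ⟨j⟩ := Groth.Agent.EtDesc24.nonempty_row_X f F q.toNat p.toNat
    rw [if_pos h]
    have hp : ComplexShape.embeddingUpNat.f p.toNat = p := by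
      simp only [ComplexShape.embeddingUpNat_f]; omega
    exact ⟨i ≪≫ eqToIso (by rw [show R q = _ from if_pos h.2]) ≪≫
      HomologicalComplex.extendXIso (Groth.Agent.EtDesc24.row f F q.toNat) ComplexShape.embeddingUpNat hp ≪≫ j⟩
  · rw [if_neg h]
    exact ⟨i ≪≫ IsZero.iso (hneg p q (by omega)) hz⟩


end Groth.Agent.S8580
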