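import Groth.Statements.S8591
import Mathlib.RingTheory.Polynomial.Resultant.Basic
import Mathlib.RingTheory.AdjoinRoot
import Mathlib.RingTheory.Norm.Basic
import Mathlib.LinearAlgebra.Matrix.Charpoly.Minpoly
import Mathlib.LinearAlgebra.Charpoly.ToMatrix
import Mathlib.FieldTheory.IsAlgClosed.AlgebraicClosure
import Mathlib.Algebra.MvPolynomial.Basic

set_option autoImplicit false
universe u
open CAlg

namespace Groth.Agent.S8591

open Polynomial Matrix

lemma det_aeval_algClosed {K : Type*} [Field K] [IsAlgClosed K] {n : Type*} [Fintype n] [DecidableEq n]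
    (A : Matrix n n K) (P : K[X]) (m : ℕ) (hm : P.natDegree ≤ m) :
    (aeval A P).det = resultant A.charpoly P (Fintype.card n) m := by
  have hχ : A.charpoly.Splits := IsAlgClosed.splits _
  have hP : P.Splits := IsAlgClosed.splits _
  have hn : Fintype.card n = A.charpoly.natDegree := (charpoly_natDegree_eq_dim A).symm
  have hev : ∀ r : K, (aeval A (X - C r)).det = (A.charpoly.roots.map (fun α => α - r)).prod := by
    intro r
    have h1 : aeval A (X - C r) = -(Matrix.scalar n r - A) := by
      simp [Algebra.algebraMap_eq_smul_one, Matrix.smul_one_eq_diagonal, Matrix.scalar_apply]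
    rw [h1, Matrix.det_neg, ← Matrix.eval_charpoly]
    conv_lhs => arg 2; rw [hχ.eq_prod_roots_of_monic (charpoly_monic A)]
    rw [eval_multiset_prod, Multiset.map_map, hn, hχ.natDegree_eq_card_roots,
      ← Multiset.prod_replicate, ← Multiset.map_const', ← Multiset.prod_map_mul]
    congr 1
    refine Multiset.map_congr rfl fun α _ => ?_
    simp
  have hmul : ∀ s : Multiset K, (aeval A (s.map (fun a => X - C a)).prod).det
      = (s.map fun r => (A.charpoly.roots.map (fun α => α - r)).prod).prod := by
    intro s
    induction s using Multiset.induction with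
    | empty => simp
    | cons a s ih => rw [Multiset.map_cons, Multiset.prod_cons, map_mul, Matrix.det_mul, ih, hev, Multiset.map_cons, Multiset.prod_cons]
  rw [hn, resultant_eq_prod_eval _ _ _ hm hχ, (charpoly_monic A).leadingCoeff, one_pow, one_mul]
  conv_lhs => rw [hP.eq_prod_roots, map_mul, Matrix.det_mul, aeval_C, hmul]
  rw [Multiset.prod_map_prod_map, Algebra.algebraMap_eq_smul_one, Matrix.det_smul, Matrix.det_one, mul_one,
    hn, hχ.natDegree_eq_card_roots, ← Multiset.prod_replicate, ← Multiset.map_const', ← Multiset.prod_map_mul]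
  congr 1
  refine Multiset.map_congr rfl fun α _ => ?_
  conv_rhs => rw [hP.eq_prod_roots]
  rw [eval_mul, eval_C, eval_multiset_prod, Multiset.map_map]
  simp

lemma det_aeval {R : Type*} [CommRing R] {n : Type*} [Fintype n] [DecidableEq n]
    (A : Matrix n n R) (P : R[X]) :
    (aeval A P).det = resultant A.charpoly P (Fintype.card n) P.natDegree := by
  let π : MvPolynomial R ℤ →+* R := (MvPolynomial.aeval (fun r : R => r)).toRingHom
  have hπ : Function.Surjective π := fun r => ⟨MvPolynomial.X r, by simp [π]⟩
  let s : R → MvPolynomial R ℤ := Function.surjInv hπ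
  have hs : ∀ r, π (s r) = r := Function.surjInv_eq hπ
  have hA : π.mapMatrix (A.map s) = A := by ext i j; simp [hs]
  obtain ⟨P₀, hP₀, hdeg⟩ := Polynomial.exists_degree_eq_of_mem_lifts (Polynomial.map_surjective π hπ P)
  let K := AlgebraicClosure (FractionRing (MvPolynomial R ℤ))
  let ι : MvPolynomial R ℤ →+* K := (algebraMap (FractionRing (MvPolynomial R ℤ)) K).comp (algebraMap _ _)
  have hι : Function.Injective ι :=
    (algebraMap (FractionRing (MvPolynomial R ℤ)) K).injective.comp (IsFractionRing.injective _ _)
  have key : (aeval (A.map s) P₀).det = resultant (A.map s).charpoly P₀ (Fintype.card n) P.natDegree := by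
    apply hι
    rw [RingHom.map_det, ← resultant_map_map, ← Matrix.charpoly_map]
    have hd : (P₀.map ι).natDegree ≤ P.natDegree :=
      natDegree_map_le.trans (natDegree_eq_natDegree hdeg).le
    rw [← det_aeval_algClosed _ _ _ hd]
    congr 1
    rw [aeval_def, aeval_def, hom_eval₂, eval₂_map]
    congr 1
    refine RingHom.ext fun r => Matrix.ext fun i j => ?_
    by_cases h : i = j <;> simp [h, Algebra.algebraMap_eq_smul_one]
  have := congrArg π key
  rw [RingHom.map_det, ← resultant_map_map, hP₀, ← Matrix.charpoly_map] at this
  have h2 : π.mapMatrix (aeval (A.map s) P₀) = aeval A P := by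
    rw [aeval_def, aeval_def, hom_eval₂, ← hP₀, eval₂_map, hA]
    congr 1
    refine RingHom.ext fun r => Matrix.ext fun i j => ?_
    by_cases h : i = j <;> simp [h, Algebra.algebraMap_eq_smul_one]
  rw [h2] at this
  rw [this]
  congr 2


/-- Let k be a commutative ring, M a finite free k-module, u an endomorphism of M with characteristic
polynomial χ, and P a polynomial over k. Then the norm, from the k-algebra k[T]/(χ) (free of rank
the rank of M) down to k, of the class of P(T) equals det(P(u)). (The published statement writes the
quotient by det(u - T), which generates the same ideal as χ(T) = det(T - u).) -/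
theorem result (k : Type u) [CommRing k] (M : Type u) [AddCommGroup M] [Module k M]
    [Module.Free k M] [Module.Finite k M] (u : M →ₗ[k] M) (P : Polynomial k) :
    Algebra.norm k (AdjoinRoot.mk u.charpoly P) = LinearMap.det (Polynomial.aeval u P) := by
  classical
  rcases subsingleton_or_nontrivial k with h | h
  · exact Subsingleton.elim _ _
  let b := Module.Free.chooseBasis k M
  set f := u.charpoly with hf
  have hmon : f.Monic := LinearMap.charpoly_monic u
  let pb := AdjoinRoot.powerBasis' hmon
  have hmin : minpoly k pb.gen = f := by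
    refine (minpoly.unique' k pb.gen hmon ?_ fun q hq => or_iff_not_imp_left.2 fun h0 => ?_).symm
    · simp [pb, AdjoinRoot.aeval_eq, AdjoinRoot.mk_self]
    · intro hc
      rw [show pb.gen = AdjoinRoot.root f from rfl, AdjoinRoot.aeval_eq, AdjoinRoot.mk_eq_zero] at hc
      exact hmon.not_dvd_of_degree_lt h0 hq hc
  have hC : (Algebra.leftMulMatrix pb.basis pb.gen).charpoly = f := by rw [charpoly_leftMulMatrix, hmin]
  have hroot : AdjoinRoot.mk f P = aeval pb.gen P := (AdjoinRoot.aeval_eq P).symm
  rw [Algebra.norm_eq_matrix_det pb.basis, hroot, ← aeval_algHom_apply, det_aeval, hC,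
    ← LinearMap.det_toMatrix b]
  have h2 : LinearMap.toMatrix b b (aeval u P) = aeval (LinearMap.toMatrix b b u) P :=
    (aeval_algHom_apply (LinearMap.toMatrixAlgEquiv b).toAlgHom u P).symm
  rw [h2, det_aeval, LinearMap.charpoly_toMatrix]
  congr 1
  simp only [Fintype.card_fin, pb, AdjoinRoot.powerBasis'_dim]
  rw [hf, LinearMap.charpoly_natDegree, Module.finrank_eq_card_chooseBasisIndex]

end Groth.Agent.S8591
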