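import Groth.Statements.S8595
import Groth.Agent.Lib.ShriekAdj6.Derived
-- import your own Groth.Agent.* helpers here

set_option autoImplicit false
set_option backward.isDefEq.respectTransparency false
set_option backward.isDefEq.respectTransparency.types false
universe u
open CategoryTheory CategoryTheory.Limits AlgebraicGeometry Opposite
attribute [local instance] HasDerivedCategory.standard
open EtDl

namespace Groth.Agent.S8595

/-- Induction isomorphism, third special case: WEAK FORM (existence of an isomorphism of functors only),
constant torsion coefficients: let X' = X x_S S' be a cartesian square of quasi-compact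
quasi-separated schemes with f : X -> S, f' : X' -> S', g : S' -> S, g' : X' -> X, let c and c' be
compactifications of f and f', Λ a commutative ring with n·1 = 0 for some n ≥ 1, and let G (resp.
G') be a right adjoint of Rf_! = R(fbar)_* ∘ j_! computed through c (resp. of Rf'_! through c') on
bounded-below derived categories of sheaves of Λ-modules. Then the functors L ↦ Rg'_*(G' L) and L ↦
G(Rg_* L) from D^+(S'_et, Λ) to D^+(X_et, Λ) are isomorphic. The published statement names the
isomorphism (transpose of the base change isomorphism for Rf_!); only the existence of an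
isomorphism of functors is asserted here. -/
theorem result {X S X' S' : Scheme.{u}}
    [CompactSpace ↥X] [QuasiSeparatedSpace ↥X] [CompactSpace ↥S] [QuasiSeparatedSpace ↥S]
    [CompactSpace ↥X'] [QuasiSeparatedSpace ↥X'] [CompactSpace ↥S'] [QuasiSeparatedSpace ↥S']
    {f : X ⟶ S} (c : DEt.Compactification f) {f' : X' ⟶ S'} (c' : DEt.Compactification f')
    (g : S' ⟶ S) (g' : X' ⟶ X) (h : IsPullback g' f' f g)
    (Λ : Type (u + 1)) [CommRing Λ] (n : ℕ) (hn : 0 < n) (hΛ : (n : Λ) = 0)
    (G : DerivedCategory.Plus (EtModW.Mod Λ S) ⥤ DerivedCategory.Plus (EtModW.Mod Λ X))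
    (adj : EtDl.RshriekPlus Λ c ⊣ G)
    (G' : DerivedCategory.Plus (EtModW.Mod Λ S') ⥤ DerivedCategory.Plus (EtModW.Mod Λ X'))
    (adj' : EtDl.RshriekPlus Λ c' ⊣ G') :
    Nonempty (G' ⋙ EtDl.pushPlus Λ g' ≅ EtDl.pushPlus Λ g ⋙ G) := by
  exact ShriekAdj6.nonempty_upperShriek_pushPlus Λ hn hΛ c c' g g' h G adj G' adj'

end Groth.Agent.S8595
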