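import Groth.Statements.S8596
import Groth.Agent.Lib.ResExact.Tor

set_option autoImplicit false
universe u
open CategoryTheory CategoryTheory.Limits
open CAlg

namespace Groth.Agent.S8596

/-- Case of a complex reduced to a single module in degree 0: let A be a commutative Noetherian ring, M
an A-module (not necessarily finitely generated) and n ≥ 0. Then M has tor-dimension at most n —
Tor_i^A(N, M) = 0 for every A-module N and every i > n, the Tor being the left derived functors of N
⊗ - evaluated at M — if and only if Tor_i^A(k(x), M) = 0 for every prime ideal x of A, with residue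
field k(x), and every i > n. (The published statement gives the equivalence for bounded-above
complexes K and the derived tensor product K ⊗^L k(x); this is the case K = M[0].) -/
theorem result (A : Type u) [CommRing A] [IsNoetherianRing A]
    (M : ModuleCat.{u} A) (n : ℕ) :
    (∀ (N : ModuleCat.{u} A) (i : ℕ), n < i → IsZero (((Tor (ModuleCat.{u} A) i).obj N).obj M)) ↔
    (∀ (x : Ideal A) [x.IsPrime] (i : ℕ), n < i →
      IsZero (((Tor (ModuleCat.{u} A) i).obj (ModuleCat.of A x.ResidueField)).obj M)) := by
  refine ⟨fun h x _ i hi => h _ i hi, fun h N i hi => ?_⟩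
  obtain ⟨k, rfl⟩ : ∃ k, i = k + 1 := ⟨i - 1, by omega⟩
  let Pr := ProjectiveResolution.of M
  haveI : ∀ i, Module.Flat A (Pr.complex.X i) := Groth.Agent.FlatSyz.flat_X Pr
  refine (Groth.Agent.ResExact.isZero_tor_iff_ex Pr N k).2 ?_
  refine Groth.Agent.ResExact.ex_of_residueField (Groth.Agent.ResExact.dLin_comp Pr) n (fun p hp j hj => ?_) N k (by omega)
  exact (Groth.Agent.ResExact.isZero_tor_iff_ex Pr p.ResidueField j).1 (h p (j + 1) (by omega))

end Groth.Agent.S8596
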