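import Groth.Statements.S8597
import Groth.Agent.Lib.ResExact.Tor

set_option autoImplicit false
universe u
open CategoryTheory CategoryTheory.Limits
open CAlg

namespace Groth.Agent.S8597

open scoped TensorProduct
open Groth.Agent.FlatSyz Groth.Agent.ResExact MonoidalCategory

theorem elements_of_isIso {A : Type u} [CommRing A] {K L : HomologicalComplex (ModuleCat.{u} A) (ComplexShape.down ℕ)}
    (φ : K ⟶ L) (i j k : ℕ) (hj : (ComplexShape.down ℕ).prev i = j) (hk : (ComplexShape.down ℕ).next i = k)
    [IsIso (HomologicalComplex.homologyMap φ i)] :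
    (∀ x, K.d i k x = 0 → φ.f i x ∈ LinearMap.range (L.d j i).hom → x ∈ LinearMap.range (K.d j i).hom) ∧
      ∀ z, L.d i k z = 0 → ∃ x, K.d i k x = 0 ∧ z - φ.f i x ∈ LinearMap.range (L.d j i).hom := by
  subst hj hk
  haveI : IsIso (ShortComplex.homologyMap ((HomologicalComplex.shortComplexFunctor (ModuleCat.{u} A) _ i).map φ)) :=
    inferInstanceAs (IsIso (HomologicalComplex.homologyMap φ i))
  exact homologyMap_elements ((HomologicalComplex.shortComplexFunctor (ModuleCat.{u} A) _ i).map φ)

theorem homologyMap_isIso {A : Type u} [CommRing A] {M N : ModuleCat.{u} A} (u : M ⟶ N) (P : ProjectiveResolution M)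
    (Q : ProjectiveResolution N) (K : ModuleCat.{u} A) (i : ℕ)
    [IsIso (((Tor (ModuleCat.{u} A) i).obj K).map u)] :
    IsIso (HomologicalComplex.homologyMap ((((tensoringLeft (ModuleCat.{u} A)).obj K).mapHomologicalComplex _).map
      (ProjectiveResolution.lift u P Q)) i) := by
  let F := (tensoringLeft (ModuleCat.{u} A)).obj K
  haveI : IsIso ((F.leftDerived i).map u) := inferInstanceAs (IsIso (((Tor (ModuleCat.{u} A) i).obj K).map u))
  have h := ProjectiveResolution.isoLeftDerivedObj_hom_naturality u P Q (ProjectiveResolution.lift u P Q)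
    (ProjectiveResolution.lift_commutes_zero u P Q) F i
  rw [← Iso.inv_comp_eq] at h
  show IsIso ((F.mapHomologicalComplex _ ⋙ HomologicalComplex.homologyFunctor _ _ i).map (ProjectiveResolution.lift u P Q))
  rw [← h]
  infer_instance


/-- Case of modules placed in degree 0: let A be a commutative Noetherian ring and u : M -> N a
homomorphism of A-modules such that for every prime ideal x of A, with residue field k(x), and every
i ≥ 0, the induced map Tor_i^A(k(x), M) -> Tor_i^A(k(x), N) (left derived functors of k(x) ⊗ -) is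
an isomorphism. Then u is an isomorphism. (The published statement is for a morphism of
bounded-above complexes and the derived tensor products with k(x); this is the case of two modules.) -/
theorem result (A : Type u) [CommRing A] [IsNoetherianRing A]
    {M N : ModuleCat.{u} A} (u : M ⟶ N)
    (h : ∀ (x : Ideal A) [x.IsPrime] (i : ℕ),
      IsIso (((Tor (ModuleCat.{u} A) i).obj (ModuleCat.of A x.ResidueField)).map u)) :
    IsIso u := by
  let P := ProjectiveResolution.of M
  let Q := ProjectiveResolution.of N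
  let φ := ProjectiveResolution.lift u P Q
  have hex : ∀ i, Ex (coneD P Q φ) A i := fun i =>
    ex_of_residueField (coneD_comp P Q φ) 0 (fun p hp j _ => by
      let κ := ModuleCat.of A p.ResidueField
      let F := (tensoringLeft (ModuleCat.{u} A)).obj κ
      let Φ := (F.mapHomologicalComplex (ComplexShape.down ℕ)).map φ
      have hel := fun i j k hj hk =>
        haveI := h p i
        haveI : IsIso (HomologicalComplex.homologyMap Φ i) := homologyMap_isIso u P Q κ i
        elements_of_isIso Φ i j k hj hk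
      have e0 := hel 0 1 0 (by simp) (by simp)
      have e := fun k => hel (k + 1) (k + 2) k (by simp) (by simp)
      refine ex_cone P Q φ p.ResidueField (fun k a ha b hb => ?_) (fun a b hb => ?_) (fun k z hz => ?_)
        (fun z => ?_) j
      · exact (e k).1 a ha ⟨b, hb⟩
      · refine e0.1 a ?_ ⟨b, hb⟩
        rw [HomologicalComplex.shape _ 0 0 (by simp)]
        rfl
      · obtain ⟨c, hc, q, hq⟩ := (e k).2 z hz
        exact ⟨c, hc, q, hq⟩
      · obtain ⟨c, -, q, hq⟩ := e0.2 z (by rw [HomologicalComplex.shape _ 0 0 (by simp)]; rfl)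
        exact ⟨c, q, hq⟩) A i (Nat.zero_le _)
  have he1 : Function.Exact (coneD P Q φ 2) (coneD P Q φ 1) := exact_of_ex_self 1 (hex 1)
  have he0 : Function.Exact (coneD P Q φ 1) (coneD P Q φ 0) := exact_of_ex_self 0 (hex 0)
  have hP : Function.Surjective (P.π.f 0).hom := (ModuleCat.epi_iff_surjective (P.π.f 0)).1 inferInstance
  have hQ : Function.Surjective (Q.π.f 0).hom := (ModuleCat.epi_iff_surjective (Q.π.f 0)).1 inferInstance
  have hcomm : ∀ p, (Q.π.f 0).hom ((φ.f 0).hom p) = u.hom ((P.π.f 0).hom p) := fun p =>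
    LinearMap.congr_fun (congrArg ModuleCat.Hom.hom (ProjectiveResolution.lift_commutes_zero u P Q)) p
  have hdQ : ∀ q, (Q.π.f 0).hom (dLin Q 0 q) = 0 := fun q =>
    LinearMap.congr_fun (congrArg ModuleCat.Hom.hom Q.complex_d_comp_π_f_zero) q
  rw [ConcreteCategory.isIso_iff_bijective]
  refine ⟨(injective_iff_map_eq_zero u.hom).2 fun m hm => ?_, fun y => ?_⟩
  · obtain ⟨p, rfl⟩ := hP m
    obtain ⟨q, hq⟩ := (ShortComplex.moduleCat_exact_iff _).1 Q.exact₀ ((φ.f 0).hom p) (by
      show (Q.π.f 0).hom _ = 0
      rw [hcomm, hm]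
      rfl)
    have hq' : dLin Q 0 q = (φ.f 0).hom p := hq
    obtain ⟨⟨p', q'⟩, hw⟩ := (he1 (p, -q)).1 (by
      show (φ.f 0).hom p + dLin Q 0 (-q) = 0
      rw [map_neg, hq', add_neg_cancel])
    have h1 : -(dLin P 0 p') = p := congrArg Prod.fst hw
    rw [← h1, map_neg]
    exact neg_eq_zero.2 (LinearMap.congr_fun (congrArg ModuleCat.Hom.hom P.complex_d_comp_π_f_zero) p')
  · obtain ⟨q, rfl⟩ := hQ y
    obtain ⟨⟨p, q'⟩, hw⟩ := (he0 q).1 rfl
    refine ⟨(P.π.f 0).hom p, ?_⟩
    have hw' : (φ.f 0).hom p + dLin Q 0 q' = q := hw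
    show u.hom _ = _
    rw [← hw', map_add, hdQ, add_zero, hcomm]

end Groth.Agent.S8597
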