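import Groth.Statements.S8604
import Groth.Agent.Lib.SigmaLin.Basic
import Mathlib.FieldTheory.Finite.Basic
import Mathlib.FieldTheory.Perfect

set_option autoImplicit false
universe u
open CAlg

namespace Groth.Agent.S8604

open Groth.Agent.SigmaLinLib


/-- Over an algebraically closed field: let k be an algebraically closed field of characteristic p > 0,
V a finite-dimensional k-vector space and F : V -> V a p-linear endomorphism (additive with F(a·v) =
a^p·F(v)). Let V^F be the set of vectors fixed by F (an F_p-subspace), V_0 the k-span of V^F and V_n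
the k-span of the vectors killed by some iterate of F (these already form an F-stable subspace on
which F is nilpotent). Then V = V_0 ⊕ V_n, and V^F ⊗ k -> V_0 is bijective in the sense that any
finitely many F-fixed vectors linearly independent over Z/p (every vanishing integer combination has
all coefficients divisible by p) are linearly independent over k. (The published statement asserts
this decomposition, with V^F ⊗ k ≅ V_0, for every PERFECT field k; that is false when k is not
separably closed — for k = Z/3, V = k and F = multiplication by 2 there are no nonzero fixed vectors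
although F is bijective — and the decomposition is stated here over an algebraically closed field,
the case in which it holds.) -/
theorem result (p : ℕ) [Fact p.Prime] (k : Type u) [Field k]
    [IsAlgClosed k] [CharP k p] (V : Type u) [AddCommGroup V] [Module k V] [FiniteDimensional k V]
    (F : V →+ V) (hF : ∀ (a : k) (v : V), F (a • v) = a ^ p • F v) :
    IsCompl (Submodule.span k {v : V | F v = v})
        (Submodule.span k {v : V | ∃ m : ℕ, (⇑F)^[m] v = 0}) ∧
      ∀ (s : Finset V), (∀ v ∈ s, F v = v) →
        (∀ c : s → ℤ, (∑ v : s, c v • (v : V)) = 0 → ∀ v : s, (p : ℤ) ∣ c v) →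
          LinearIndependent k (fun v : s => (v : V)) := by
  classical
  haveI : ExpChar k p := ExpChar.prime (Fact.out : p.Prime)
  let T : V →ₛₗ[iterateFrobenius k p 1] V := ofQLinear F (by simpa using hF)
  have hT : ∀ v, T v = F v := fun v => rfl
  have hσ : ∀ a : k, iterateFrobenius k p 1 a = a ^ p := fun a => by simp [iterateFrobenius_def, frobenius_def]
  have hsurj : Function.Surjective (iterateFrobenius k p 1) := fun a => by
    obtain ⟨y, hy⟩ := IsAlgClosed.exists_pow_nat_eq a (n := p) (Fact.out : p.Prime).pos
    exact ⟨y, by rw [hσ, hy]⟩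
  have hzero : ∀ m, (⇑T)^[m] (0 : V) = 0 := fun m => iterate_map_zero T m
  let Nil : Submodule k V :=
    { carrier := {v | ∃ m : ℕ, (⇑T)^[m] v = 0}
      zero_mem' := ⟨0, rfl⟩
      add_mem' := by
        rintro a b ⟨m, hm⟩ ⟨m', hm'⟩
        refine ⟨m + m', ?_⟩
        rw [iterate_add', add_comm m m', Function.iterate_add_apply, hm, hzero, zero_add, add_comm m' m,
          Function.iterate_add_apply, hm', hzero]
      smul_mem' := fun c a => fun ⟨m, hm⟩ => ⟨m, by rw [iterate_smul', hm, smul_zero]⟩ }
  have hnil : Submodule.span k {v : V | ∃ m : ℕ, (⇑F)^[m] v = 0} = Nil := Submodule.span_eq Nil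
  obtain ⟨N, hN, hinf⟩ := W_stab T
  have h2 := cond2_frobenius (k := k) (p := p) (r := 1) one_pos
  have h3 := cond3_frobenius (k := k) (p := p) (r := 1) one_pos
  obtain ⟨b, hb⟩ := exists_basis_fixed (Tss T) (span_range_Tss T) h2 h3
  have hfix : ∀ i, T (b i : V) = b i := fun i => congrArg Subtype.val (hb i)
  have hss : Submodule.span k {v : V | F v = v} = ⨅ n, W T n := by
    refine le_antisymm (Submodule.span_le.2 fun v hv => mem_inf_of_fixed T hv) fun v hv => ?_
    have h : v = ∑ i, b.repr ⟨v, hv⟩ i • (b i : V) := by
      have h := congrArg Subtype.val (b.sum_repr ⟨v, hv⟩)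
      simp only [AddSubmonoidClass.coe_finsetSum, SetLike.val_smul] at h
      exact h.symm
    rw [h]
    exact Submodule.sum_mem _ fun i _ => Submodule.smul_mem _ _ (Submodule.subset_span (hfix i))
  refine ⟨⟨?_, ?_⟩, ?_⟩
  · rw [hnil, hss, disjoint_iff_inf_le]
    rintro v ⟨hv, hv'⟩
    exact eq_zero_of_nil T hv' fun n => (iInf_le (W T) n) hv
  · rw [hnil, hss, codisjoint_iff_le_sup]
    intro v _
    have hv : (⇑T)^[N] v ∈ ⨅ n, W T n := by rw [hinf]; exact Submodule.subset_span ⟨v, rfl⟩
    choose a ha using fun i => (hsurj.iterate N) (b.repr ⟨_, hv⟩ i)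
    let w : V := ∑ i, a i • (b i : V)
    have hTw : (⇑T)^[N] w = (⇑T)^[N] v := by
      conv_rhs => rw [show (⇑T)^[N] v = ((∑ i, b.repr ⟨_, hv⟩ i • b i : ↥(⨅ n, W T n)) : V) by rw [b.sum_repr]]
      simp only [w, iterate_sum', iterate_smul', ha, Function.iterate_fixed (hfix _), AddSubmonoidClass.coe_finsetSum, SetLike.val_smul]
    refine Submodule.mem_sup.2 ⟨w, Submodule.sum_mem _ fun i _ => Submodule.smul_mem _ _ (b i).2, v - w, ⟨N, ?_⟩, add_sub_cancel w v⟩
    have h := iterate_add' T N (v - w) w
    rw [sub_add_cancel, hTw] at h
    simpa using h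
  · intro s hs hind
    suffices ∀ t : Finset V, t ⊆ s → LinearIndependent k (fun v : t => (v : V)) from this s le_rfl
    intro t
    induction t using Finset.induction with
    | empty => exact fun _ => linearIndependent_empty_type
    | insert v₀ t hv₀ ih =>
      intro hsub
      have hts : t ⊆ s := (Finset.subset_insert _ _).trans hsub
      have hli := ih hts
      have hli' : LinearIndepOn k id (↑t : Set V) := hli
      show LinearIndepOn k id (↑(insert v₀ t) : Set V)
      rw [Finset.coe_insert]
      refine hli'.id_insert fun hmem => ?_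
      rw [show (↑t : Set V) = Set.range (fun v : t => (v : V)) by simp] at hmem
      obtain ⟨a, ha⟩ := (Submodule.mem_span_range_iff_exists_fun k).1 hmem
      have hTa : ∀ v : t, a v ^ p = a v := by
        have e : ∑ v : t, (a v ^ p - a v) • (v : V) = 0 := by
          have h1 := congrArg F ha
          simp only [map_sum, hF, hs v₀ (hsub (Finset.mem_insert_self _ _))] at h1
          rw [Finset.sum_congr rfl (fun (v : t) _ => by rw [hs v.1 (hts v.2)] : ∀ v ∈ Finset.univ, a v ^ p • F (v : V) = a v ^ p • (v : V))] at h1
          simp only [sub_smul, Finset.sum_sub_distrib, h1, ha, sub_self]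
        exact fun v => sub_eq_zero.1 (Fintype.linearIndependent_iff.1 hli _ e v)
      have hint : ∀ v : t, ∃ n : ℤ, (n : k) = a v := fun v => by
        have h := (Subfield.mem_bot_iff_pow_eq_self (F := k) (p := p)).2 (hTa v)
        have hle : (⊥ : Subfield k) ≤ (ZMod.castHom (dvd_refl p) k).fieldRange := bot_le
        obtain ⟨z, hz⟩ := hle h
        exact ⟨(z.val : ℤ), by rw [← hz]; simp⟩
      choose n hn using hint
      let c : s → ℤ := fun v => if hv : (v : V) ∈ t then n ⟨v, hv⟩ else if (v : V) = v₀ then -1 else 0
      have hsum : ∑ v : s, c v • (v : V) = 0 := by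
        let g : V → V := fun v => (if hv : v ∈ t then n ⟨v, hv⟩ else if v = v₀ then -1 else 0) • v
        show ∑ v : s, g (v : V) = 0
        rw [Finset.sum_coe_sort s g, ← Finset.sum_subset hsub (fun v _ hv => ?_), Finset.sum_insert hv₀, ← Finset.sum_coe_sort t g]
        · have : ∀ v : t, g (v : V) = a v • (v : V) := fun v => by
            simp only [g, dif_pos v.2, ← hn, Int.cast_smul_eq_zsmul]
          simp only [this, ha]
          simp [g, hv₀]
        · simp only [Finset.mem_insert, not_or] at hv
          simp [g, hv.1, hv.2]
      have := hind c hsum ⟨v₀, hsub (Finset.mem_insert_self _ _)⟩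
      simp [c, hv₀] at this
      exact (Fact.out : p.Prime).ne_one (Nat.dvd_one.1 (Int.natCast_dvd_natCast.1 (by simpa using this)))

end Groth.Agent.S8604
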