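import Groth.Statements.S8605
import Groth.Agent.Lib.PBC24.CdSupp
import Groth.Agent.Lib.PBC24.Final
import Groth.Agent.Lib.PBC24.ProjLine

set_option autoImplicit false
universe u
open CategoryTheory CategoryTheory.Limits AlgebraicGeometry Opposite
open EtDl

namespace Groth.Agent.S8605

/-- Let f : X -> S be a morphism of quasi-compact quasi-separated schemes with a compactification c (f =
j followed by the proper fbar), all of whose fibres have dimension at most d. Then the functor
R^{2d} f_!, computed through c as F ↦ R^{2d} fbar_* (j_! F), is right exact on torsion abelian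
sheaves; stated here as: for every epimorphism φ : F -> G of torsion abelian sheaves on X_et, the
map R^{2d} fbar_*(j_! φ) is an epimorphism. (The published statement also asserts that R^i f_! F
vanishes for i > 2d.) -/
theorem result {X S : Scheme.{u}} [CompactSpace ↥X] [QuasiSeparatedSpace ↥X]
    [CompactSpace ↥S] [QuasiSeparatedSpace ↥S]
    {f : X ⟶ S} (c : DEt.Compactification f) (d : ℕ)
    (hdim : ∀ s : S, topologicalKrullDim ↥(f.fiber s) ≤ d)
    {F G : EtCoh.Ab X} (hF : EtCoh.IsTorsion F) (hG : EtCoh.IsTorsion G) (φ : F ⟶ G) [Epi φ] :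
    Epi ((EtCoh.Rpush c.fbar (2 * d)).map ((EtShriek.extZero c.j).map φ)) := by
  haveI : EtShriek.JCont c.j := inferInstance
  let L := EtShriek.extZero c.j
  haveI : PreservesFiniteLimits L := EtStalk.preservesFiniteLimits_extZero c.j
  haveI : PreservesFiniteColimits L :=
    haveI : L.IsLeftAdjoint := (EtShriek.extZeroAdj c.j).isLeftAdjoint
    inferInstance
  haveI : L.Additive := (EtShriek.extZeroAdj c.j).left_adjoint_additive
  have hS : (ShortComplex.mk (kernel.ι φ) φ (kernel.condition φ)).ShortExact :=
    { exact := ShortComplex.exact_of_f_is_kernel _ (kernelIsKernel φ) }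
  obtain ⟨T⟩ := RDerLES.exists_sesRes (hS.map_of_exact L)
  obtain ⟨-, ⟨w, hw⟩, -⟩ := RDerLES.exact_sequences (EtCoh.push c.fbar) T (2 * d) (2 * d + 1) rfl
  have hK : EtCoh.IsTorsion (kernel φ) := PBC24.isTorsion_of_isLTorsion
    (EtAcyc24.isLTorsion_of_mono Set.univ (kernel.ι φ) (PBC24.isLTorsion_univ hF))
  exact hw.epi_f ((PBC24.isZero_Rpush_extZero (PBC24.properBC_of_projLine fun A _ _ _ => PBC24.clCompN_projLine A) c.j c.fbar d (by rw [c.fac]; exact hdim) _ hK (2 * d + 1)
    (by omega)).eq_of_tgt _ _)

end Groth.Agent.S8605
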