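import Groth.Statements.S8607

set_option autoImplicit false
universe u
open CategoryTheory CategoryTheory.Limits AlgebraicGeometry Opposite
open DEt

namespace Groth.Agent.S8607

open CategoryTheory CategoryTheory.Limits AlgebraicGeometry


/-- The equalizing half of 'the category of compactifications of f is cofiltering': let f : X -> Y be a
morphism of quasi-compact quasi-separated schemes, (Xbar_1, j_1, fbar_1) and (Xbar_2, j_2, fbar_2)
two compactifications of f, and r, s : Xbar_1 -> Xbar_2 two morphisms of compactifications (r ∘ j_1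
= j_2 = s ∘ j_1 and fbar_2 ∘ r = fbar_1 = fbar_2 ∘ s). Then there are a compactification (Xbar, j,
fbar) of f and a proper morphism t : Xbar -> Xbar_1 of compactifications (t ∘ j = j_1, fbar_1 ∘ t =
fbar) with r ∘ t = s ∘ t. -/
theorem result {X Y : Scheme.{u}} [CompactSpace ↥X] [QuasiSeparatedSpace ↥X]
    [CompactSpace ↥Y] [QuasiSeparatedSpace ↥Y] {f : X ⟶ Y} (c₁ c₂ : DEt.Compactification f)
    (r s : c₁.Xbar ⟶ c₂.Xbar) (hr : c₁.j ≫ r = c₂.j) (hs : c₁.j ≫ s = c₂.j)
    (hr' : r ≫ c₂.fbar = c₁.fbar) (hs' : s ≫ c₂.fbar = c₁.fbar) :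
    ∃ (c : DEt.Compactification f) (t : c.Xbar ⟶ c₁.Xbar), IsProper t ∧ c.j ≫ t = c₁.j ∧ t ≫ c₁.fbar = c.fbar ∧
      t ≫ r = t ≫ s := by
  let r' : Over.mk c₁.fbar ⟶ Over.mk c₂.fbar := Over.homMk r hr'
  let s' : Over.mk c₁.fbar ⟶ Over.mk c₂.fbar := Over.homMk s hs'
  haveI : IsSeparated (Over.mk c₂.fbar).hom := show IsSeparated c₂.fbar from inferInstance
  let E := (equalizer r' s').left
  let e : E ⟶ c₁.Xbar := (equalizer.ι r' s').left
  haveI : IsClosedImmersion e := isClosedImmersion_equalizer_ι_left r' s'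
  let j₀ : Over.mk f ⟶ Over.mk c₁.fbar := Over.homMk c₁.j c₁.fac
  let j : X ⟶ E := (equalizer.lift (f := r') (g := s') j₀ (Over.OverMorphism.ext (hr.trans hs.symm))).left
  have hje : j ≫ e = c₁.j := congrArg Over.Hom.left (equalizer.lift_ι (f := r') (g := s') j₀ (Over.OverMorphism.ext (hr.trans hs.symm)))
  haveI : IsImmersion (j ≫ e) := by rw [hje]; infer_instance
  haveI : IsImmersion j := IsImmersion.of_comp j e
  haveI : IsProper (e ≫ c₁.fbar) := inferInstance
  have hjq : j ≫ e ≫ c₁.fbar = f := by rw [← Category.assoc, hje]; exact c₁.fac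
  haveI : QuasiCompact f := inferInstance
  haveI : QuasiCompact (j ≫ e ≫ c₁.fbar) := by rw [hjq]; infer_instance
  haveI : QuasiCompact j := QuasiCompact.of_comp j (e ≫ c₁.fbar)
  refine ⟨⟨j.image, j.toImage, j.imageι ≫ e ≫ c₁.fbar, inferInstance, inferInstance, by rw [j.toImage_imageι_assoc]; exact hjq⟩,
    j.imageι ≫ e, inferInstance, ?_, Category.assoc _ _ _, ?_⟩
  · show j.toImage ≫ j.imageι ≫ e = _
    rw [j.toImage_imageι_assoc, hje]
  · rw [Category.assoc, Category.assoc]
    exact congrArg (j.imageι ≫ ·) (congrArg Over.Hom.left (equalizer.condition r' s'))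


end Groth.Agent.S8607
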