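import Groth.Statements.S8614
import Groth.Agent.Lib.EtAcyc24.LqfMain

set_option autoImplicit false
universe u
open CategoryTheory CategoryTheory.Limits AlgebraicGeometry
open SGA4h CategoryTheory.Abelian
set_option backward.isDefEq.respectTransparency.types false

namespace Groth.Agent.S8614

/-- Let X be a Noetherian scheme and i : X₀ → X a subscheme (an immersion). Assume that for every
natural number n (n = 0 giving ℤ) and every finite morphism p : X' → X, with X'₀ = X' ×_X X₀, the
restriction map H^q(X', ℤ/n) → H^q(X'₀, ℤ/n) is bijective for q = 0 and surjective for q > 0. Then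
for every torsion abelian etale sheaf F on X and every q the restriction map H^q(X, F) → H^q(X₀,
i⁻¹F) is bijective. -/
theorem result {X X₀ : Scheme.{u}} [IsNoetherian X] (i : X₀ ⟶ X)
    [IsImmersion i]
    (h : ∀ (n : ℕ) (X' : Scheme.{u}) (p : X' ⟶ X) [IsFinite p]
      [PreservesFiniteLimits (EtCoh.pull (pullback.fst p i))],
      Function.Bijective (EtCore.Hpull (pullback.fst p i) (EtCoh.const X' (ZMod n)) 0) ∧
        ∀ q : ℕ, 0 < q → Function.Surjective (EtCore.Hpull (pullback.fst p i) (EtCoh.const X' (ZMod n)) q))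
    (F : EtCoh.Ab X) (hF : EtCoh.IsTorsion F) [PreservesFiniteLimits (EtCoh.pull i)] (q : ℕ) :
    Function.Bijective (EtCore.Hpull i F q) := by
  have hL : EtAcyc.IsLTorsion Set.univ F := fun U s z =>
    let ⟨V, r, hv, ho⟩ := hF U s z
    let ⟨m, hm, h0⟩ := isOfFinAddOrder_iff_nsmul_eq_zero.1 ho
    ⟨V, r, m, hv, ⟨hm, fun _ _ _ => trivial⟩, h0⟩
  haveI : CompactSpace X₀ := ⟨by
    rw [(Scheme.Hom.isEmbedding i).isCompact_iff]
    exact TopologicalSpace.NoetherianSpace.isCompact _⟩
  haveI : QuasiCompact i := inferInstance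
  haveI : QuasiSeparated i := inferInstance
  have hb : EtAcyc.CompN i Set.univ q := by
    refine Groth.Agent.EtAcyc24.compN_of_test_zero i Set.univ q ?_
      (Groth.Agent.EtAcyc24.injective_Hpull_zero_of_test i Set.univ ?_)
    · intro Z f _ _ l _ _ ν _ m _
      haveI : PreservesFiniteLimits (EtCoh.pull (pullback.fst f i)) :=
        Groth.Agent.EtStalk.preservesFiniteLimits_pull _
      refine Groth.Agent.EtAcyc24.surjective_Hpull_congr (pullbackSymmetry_hom_comp_fst i f) _ _ ?_
      rw [Groth.Agent.EtAcyc24.Hpull_comp_eq]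
      refine (Groth.Agent.EtAcyc24.bijective_comp_iso _ m).2.comp
        ((Groth.Agent.LocAcyc24.bijective_Hpull_of_isIso _ _ m).2.comp ?_)
      rcases Nat.eq_zero_or_pos m with rfl | hm
      · exact (h (l ^ ν) Z f).1.2
      · exact (h (l ^ ν) Z f).2 m hm
    · intro Z f _ _ l _ _ ν _
      haveI : PreservesFiniteLimits (EtCoh.pull (pullback.fst f i)) :=
        Groth.Agent.EtStalk.preservesFiniteLimits_pull _
      refine Groth.Agent.EtAcyc24.injective_Hpull_congr (pullbackSymmetry_hom_comp_fst i f) _ _ ?_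
      rw [Groth.Agent.EtAcyc24.Hpull_comp_eq]
      exact (Groth.Agent.EtAcyc24.bijective_comp_iso _ 0).1.comp
        ((Groth.Agent.LocAcyc24.bijective_Hpull_of_isIso _ _ 0).1.comp (h (l ^ ν) Z f).1.1)
  exact (hb F hL).1 q le_rfl

end Groth.Agent.S8614
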