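import Groth.Statements.S8615
import Groth.Agent.S6641
import Groth.Agent.Lib.CurveCartier25.RelDim
import Groth.Agent.Lib.VB17.Setup
import Groth.Agent.Lib.AlgSpRel14.FlatDim
-- import your own Groth.Agent.* helpers here

set_option autoImplicit false
universe u
open CategoryTheory CategoryTheory.Limits AlgebraicGeometry
open SGA4h

namespace Groth.Agent.S8615

/-- Let k be an algebraically closed field and X a connected smooth proper curve over k. For the family,
indexed by the closed points x of X, of direct images i_{x*} ℤ of the constant sheaf ℤ along i_x :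
Spec κ(x) → X, any coproduct (given as a colimit cofan) has vanishing etale cohomology in every
degree q > 0. -/
theorem result {k : Type u} [Field k] [IsAlgClosed k]
    {X : Scheme.{u}} (f : X ⟶ Spec (CommRingCat.of k)) [IsProper f] [SmoothOfRelativeDimension 1 f]
    [ConnectedSpace ↥X]
    (c : Cofan fun x : {x : X // IsClosed ({x} : Set X)} =>
      (EtCoh.push (X.fromSpecResidueField x.1)).obj (EtCoh.const (Spec (X.residueField x.1)) ℤ))
    (hc : IsColimit c) (q : ℕ) (hq : 0 < q) :
    Subsingleton (EtCoh.H X c.pt q) := by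
  haveI : Smooth f := SmoothOfRelativeDimension.smooth 1 f
  haveI : IsLocallyNoetherian X := LocallyOfFiniteType.isLocallyNoetherian f
  haveI : CompactSpace X := QuasiCompact.compactSpace_of_compactSpace f
  haveI : IsNoetherian X := {}
  haveI : IsIntegral X := Groth.Agent.VB17.isIntegral_of_connected fun x =>
    Groth.Agent.SmoothReg17.isDomain_stalk f x
  have hcl : ∀ x : X, IsClosed ({x} : Set X) → ringKrullDim (X.presheaf.stalk x) = 1 := fun x hx => by
    obtain ⟨U, hU, V, hV, hxV, e, hs⟩ := SmoothOfRelativeDimension.exists_isStandardSmoothOfRelativeDimension (n := 1) (f := f) x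
    haveI : Subsingleton (Spec (CommRingCat.of k)) := inferInstanceAs (Subsingleton (PrimeSpectrum k))
    have hUtop : U = ⊤ := TopologicalSpace.Opens.ext (Set.eq_univ_of_forall fun y => by
      rw [Subsingleton.elim (α := Spec (CommRingCat.of k)) y (f x)]; exact e hxV)
    subst hUtop
    let ε : k ≃+* Γ(Spec (CommRingCat.of k), ⊤) :=
      (Scheme.ΓSpecIso (CommRingCat.of k)).symm.commRingCatIsoToRingEquiv
    letI : Algebra k Γ(X, V) := ((f.appLE ⊤ V e).hom.comp ε.toRingHom).toAlgebra
    haveI : Algebra.IsStandardSmoothOfRelativeDimension 1 k Γ(X, V) :=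
      (RingHom.isStandardSmoothOfRelativeDimension_respectsIso (n := 1)).2 _ ε hs
    let M := hV.primeIdealOf ⟨x, hxV⟩
    haveI hM : M.asIdeal.IsMaximal := by
      rw [← PrimeSpectrum.isClosed_singleton_iff_isMaximal]
      have h1 : (hV.fromSpec ⁻¹' {x} : Set (PrimeSpectrum Γ(X, V))) = {M} := by
        ext y
        show hV.fromSpec y = x ↔ y = M
        exact ⟨fun h => hV.fromSpec.isOpenEmbedding.injective (h.trans (hV.fromSpec_primeIdealOf ⟨x, hxV⟩).symm),
          fun h => by rw [h]; exact hV.fromSpec_primeIdealOf ⟨x, hxV⟩⟩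
      have h2 : IsClosed (hV.fromSpec ⁻¹' {x} : Set (PrimeSpectrum Γ(X, V))) := hx.preimage hV.fromSpec.continuous
      rwa [h1] at h2
    letI := X.presheaf.algebra_section_stalk (U := V) ⟨x, hxV⟩
    haveI := hV.isLocalization_stalk ⟨x, hxV⟩
    rw [← ringKrullDim_eq_of_ringEquiv (IsLocalization.algEquiv M.asIdeal.primeCompl
      (Localization.AtPrime M.asIdeal) (X.presheaf.stalk x)).toRingEquiv]
    exact_mod_cast Groth.Agent.CurveCartier25.ringKrullDim_atPrime_of_standardSmooth k Γ(X, V) 1 M.asIdeal
  haveI : JacobsonSpace X := LocallyOfFiniteType.jacobsonSpace f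
  have hdim : topologicalKrullDim X = 1 := by
    refine le_antisymm ?_ ?_
    · rw [Groth.Agent.AlgSpRel14.dim_eq_iSup_stalk]
      refine iSup_le fun a => ?_
      obtain ⟨z, hza, hz⟩ := nonempty_inter_closedPoints (X := X) (Z := closure {a})
        (Set.singleton_nonempty a).closure isClosed_closure.isLocallyClosed
      rw [← hcl z hz, ringKrullDim_stalk_eq_coheight, ringKrullDim_stalk_eq_coheight]
      exact WithBot.coe_le_coe.2 (Order.coheight_anti (specializes_iff_mem_closure.2 hza))
    · obtain ⟨a⟩ : Nonempty X := inferInstance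
      obtain ⟨z, -, hz⟩ := nonempty_inter_closedPoints (X := X) (Z := Set.univ) ⟨a, trivial⟩
        isClosed_univ.isLocallyClosed
      rw [← hcl z hz]
      exact Groth.Agent.AlgSpRel14.stalkDim_le_dim X z
  exact Groth.Agent.S6641.result k X f hdim c hc q hq

end Groth.Agent.S8615
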