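import Groth.Statements.S8618
import Mathlib
import Groth.Agent.S8604
import Groth.Agent.Lib.PLin2.Basic

set_option autoImplicit false
set_option maxHeartbeats 300000
universe u
open SGA4h

namespace Groth.Agent.S8618

open TensorProduct in
/-- Let k be a finite field with q = p^f elements, F₀ ⊂ k its prime field, K an algebraically closed
extension of k, V a finite-dimensional k-vector space and φ a p-linear endomorphism of V (φ(λx) =
λ^p φ(x)); let F = φ^f, a k-linear endomorphism, F_K its K-linear extension to K ⊗_k V and φ_K the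
p-linear extension of φ (φ_K(μ ⊗ v) = μ^p ⊗ φ(v)). Then F_K preserves the F₀-subspace W = Ker(φ_K -
1) of K ⊗_k V, W is finite-dimensional over F₀, and the trace of F_K on W (an element of F₀) equals
the trace of F on V. -/
theorem result {p : ℕ} [Fact p.Prime] (k : Type u) [Field k] [Fintype k]
    [CharP k p] (f : ℕ) (hq : Fintype.card k = p ^ f) (K : Type u) [Field K] [Algebra k K] [IsAlgClosed K]
    (V : Type u) [AddCommGroup V] [Module k V] [FiniteDimensional k V]
    (φ : V →ₛₗ[frobenius k p] V) (F : V →ₗ[k] V) (hF : ∀ x, F x = (⇑φ)^[f] x)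
    (φK : K ⊗[k] V →+ K ⊗[k] V) (hφK : ∀ (μ : K) (v : V), φK (μ ⊗ₜ[k] v) = (μ ^ p) ⊗ₜ[k] φ v)
    (W : Submodule (↥(⊥ : Subfield k)) (K ⊗[k] V)) (hW : ∀ y, y ∈ W ↔ φK y = y) :
    (∀ y, φK y = y → φK (F.baseChange K y) = F.baseChange K y) ∧
    Module.Finite (↥(⊥ : Subfield k)) ↥W ∧
    ∀ (G : ↥W →ₗ[↥(⊥ : Subfield k)] ↥W), (∀ y : ↥W, (↑(G y) : K ⊗[k] V) = F.baseChange K ↑y) →
      algebraMap k K (algebraMap (↥(⊥ : Subfield k)) k (LinearMap.trace (↥(⊥ : Subfield k)) ↥W G)) =
        algebraMap k K (LinearMap.trace k V F) := by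
  classical
  haveI : CharP K p := charP_of_injective_algebraMap (algebraMap k K).injective p
  have hp : p.Prime := Fact.out
  have hf0 : 0 < f := by
    rcases Nat.eq_zero_or_pos f with h | h
    · subst h
      have := Fintype.one_lt_card (α := k)
      simp [hq] at this
    · exact h
  have hsl : ∀ (a : K) (y : K ⊗[k] V), φK (a • y) = a ^ p • φK y := by
    intro a y
    induction y using TensorProduct.induction_on with
    | zero => simp
    | tmul μ v => rw [TensorProduct.smul_tmul', hφK, hφK, TensorProduct.smul_tmul', smul_eq_mul, smul_eq_mul, mul_pow]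
    | add x y hx hy => rw [smul_add, map_add, hx, hy, map_add, smul_add]
  have hcomm : ∀ y, φK (F.baseChange K y) = F.baseChange K (φK y) := by
    intro y
    induction y using TensorProduct.induction_on with
    | zero => simp
    | tmul μ v =>
      rw [LinearMap.baseChange_tmul, hφK, hφK, LinearMap.baseChange_tmul, hF, hF,
        ← Function.iterate_succ_apply' (⇑φ) f v, Function.iterate_succ_apply (⇑φ) f v]
    | add x y hx hy => rw [map_add, map_add, hx, hy, map_add, map_add]
  obtain ⟨hcompl, hindep⟩ := Groth.Agent.S8604.result p K (K ⊗[k] V) φK hsl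
  refine ⟨fun y hy => by rw [hcomm, hy], ?_⟩
  haveI : CharP (↥(⊥ : Subfield k)) p :=
    ((⊥ : Subfield k).subtype.charP_iff_charP p).mpr inferInstance
  let bW := Module.Basis.ofVectorSpace (↥(⊥ : Subfield k)) ↥W
  let β : _ → K ⊗[k] V := fun i => ((bW i : ↥W) : K ⊗[k] V)
  have hβinj : Function.Injective β := Subtype.val_injective.comp bW.injective
  have hβfix : ∀ i, φK (β i) = β i := fun i => (hW _).mp (bW i).2
  have hβ : LinearIndependent K β := by
    rw [linearIndependent_iff']
    intro t g hg i hi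
    obtain ⟨S, hS⟩ : ∃ S : Finset (K ⊗[k] V), ∀ x, x ∈ S ↔ ∃ j ∈ t, β j = x :=
      ⟨t.image β, fun _ => Finset.mem_image⟩
    let E : ↥t → ↥S := fun l => ⟨β l.1, (hS _).mpr ⟨l.1, l.2, rfl⟩⟩
    have hE : Function.Bijective E := by
      refine ⟨fun a b h => Subtype.ext (hβinj (congrArg Subtype.val h :)), fun v => ?_⟩
      obtain ⟨j, hj, hjv⟩ := (hS _).mp v.2
      exact ⟨⟨j, hj⟩, Subtype.ext hjv⟩
    have hfix : ∀ v ∈ S, φK v = v := fun v hv => by
      obtain ⟨j, _, rfl⟩ := (hS _).mp hv
      exact hβfix j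
    have hs : LinearIndependent K (fun v : ↥S => (v : K ⊗[k] V)) := hindep S hfix (fun c hc v => by
        obtain ⟨j, rfl⟩ := hE.2 v
        have h1 : (∑ l : ↥t, c (E l) • bW l.1) = 0 := by
          apply Subtype.ext
          rw [Submodule.coe_sum, Submodule.coe_zero]
          refine Eq.trans ?_ hc
          exact Fintype.sum_bijective E hE _ (fun v : ↥S => c v • (v : K ⊗[k] V)) fun l => rfl
        exact Groth.Agent.PLin2.dvd_of_zsmul_relation (F0 := ↥(⊥ : Subfield k)) p
          (fun l : ↥t => bW l.1) (bW.linearIndependent.comp _ Subtype.val_injective)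
          (fun l => c (E l)) h1 j)
    have h3 := hs.comp _ hE.1
    refine Fintype.linearIndependent_iff.mp h3 (fun l => g l.1) ?_ ⟨i, hi⟩
    rw [← hg, ← Finset.sum_coe_sort t]
    rfl
  have hfinι := hβ.finite
  haveI := Fintype.ofFinite (Module.Basis.ofVectorSpaceIndex (↥(⊥ : Subfield k)) ↥W)
  refine ⟨Module.Finite.of_basis bW, fun G hG => ?_⟩
  set U := Submodule.span K {v : K ⊗[k] V | φK v = v} with hU
  set N := Submodule.span K {v : K ⊗[k] V | ∃ m : ℕ, (⇑φK)^[m] v = 0} with hN
  have hUβ : U = Submodule.span K (Set.range β) := by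
    refine le_antisymm (Submodule.span_le.mpr fun v hv => ?_) (Submodule.span_mono ?_)
    · have hv' : v ∈ W := (hW v).mpr hv
      have := bW.mem_span ⟨v, hv'⟩
      have h2 := congrArg (Subtype.val : ↥W → K ⊗[k] V) (bW.sum_repr ⟨v, hv'⟩)
      show v ∈ Submodule.span K (Set.range β)
      rw [← show _ = v from h2, Submodule.coe_sum]
      refine Submodule.sum_mem _ fun i _ => ?_
      rw [Submodule.coe_smul, Subfield.smul_def, ← algebraMap_smul K ((bW.repr ⟨v, hv'⟩ i : k))]
      exact Submodule.smul_mem _ _ (Submodule.subset_span ⟨i, rfl⟩)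
    · rintro _ ⟨i, rfl⟩
      exact hβfix i
  set T := F.baseChange K with hT
  have hit : ∀ (m : ℕ) (y : K ⊗[k] V), T ((⇑φK)^[m] y) = (⇑φK)^[m] (T y) := fun m y =>
    ((Function.Semiconj.iterate_right (f := ⇑T) (fun z => (hcomm z).symm) m) y)
  have hTU : ∀ x ∈ U, T x ∈ U := fun x hx => by
    refine (Submodule.span_le.mpr ?_ : U ≤ U.comap T) hx
    exact fun v hv => Submodule.subset_span (show φK (T v) = T v by rw [hcomm, hv])
  have hTN : ∀ x ∈ N, T x ∈ N := fun x hx => by
    refine (Submodule.span_le.mpr ?_ : N ≤ N.comap T) hx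
    rintro v ⟨m, hm⟩
    exact Submodule.subset_span ⟨m, by rw [← hit, hm, map_zero]⟩
  let frq : K →ₐ[k] K :=
    { iterateFrobenius K p f with
      commutes' := fun r => by
        show (algebraMap k K r) ^ p ^ f = algebraMap k K r
        rw [← map_pow, ← hq, FiniteField.pow_card] }
  let σ : K ⊗[k] V →ₗ[k] K ⊗[k] V := frq.toLinearMap.rTensor V
  have hσinj : Function.Injective σ :=
    Module.Flat.rTensor_preserves_injective_linearMap _ frq.toRingHom.injective
  have hitK : ∀ (m : ℕ) (μ : K) (v : V),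
      (⇑φK)^[m] (μ ⊗ₜ[k] v) = (μ ^ p ^ m) ⊗ₜ[k] ((⇑φ)^[m] v) := by
    intro m
    induction m with
    | zero => intro μ v; simp
    | succ m ih =>
      intro μ v
      rw [Function.iterate_succ_apply', ih, hφK, ← pow_mul, ← pow_succ, Function.iterate_succ_apply']
  have hσ : ∀ y, (⇑φK)^[f] y = σ (T y) := by
    intro y
    induction y using TensorProduct.induction_on with
    | zero => simp [iterate_map_zero]
    | tmul μ v =>
      rw [hitK, hT, LinearMap.baseChange_tmul, hF]
      rfl
    | add x y hx hy => rw [iterate_map_add, hx, hy, map_add, map_add]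
  have hnilv : ∀ v, (∃ m : ℕ, (⇑φK)^[m] v = 0) → ∃ m : ℕ, (T ^ m) v = 0 := by
    rintro v ⟨m, hm⟩
    refine ⟨m, ?_⟩
    have key : ∀ (n : ℕ) (y : K ⊗[k] V), (⇑φK)^[f * n] y = 0 → (T ^ n) y = 0 := by
      intro n
      induction n with
      | zero => intro y hy; simpa using hy
      | succ n ih =>
        intro y hy
        rw [Nat.mul_succ, add_comm, Function.iterate_add_apply, hσ] at hy
        have h0 : T ((⇑φK)^[f * n] y) = 0 := hσinj (by rw [hy, map_zero])
        rw [hit] at h0
        rw [pow_succ, Module.End.mul_apply]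
        exact ih _ h0
    refine key m v ?_
    obtain ⟨d, hd⟩ : ∃ d, f * m = d + m := ⟨f * m - m, (Nat.sub_add_cancel (Nat.le_mul_of_pos_left m hf0)).symm⟩
    rw [hd, Function.iterate_add_apply, hm, iterate_map_zero]
  have hNnil : ∀ x ∈ N, ∃ m : ℕ, (T ^ m) x = 0 := fun x hx => by
    have hpad : ∀ (m d : ℕ) (y : K ⊗[k] V), (T ^ m) y = 0 → (T ^ (d + m)) y = 0 := fun m d y h => by
      rw [pow_add, Module.End.mul_apply, h, map_zero]
    induction hx using Submodule.span_induction with
    | mem y hy => exact hnilv y hy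
    | zero => exact ⟨0, map_zero _⟩
    | add y z _ _ hy hz =>
      obtain ⟨m, hm⟩ := hy
      obtain ⟨n, hn⟩ := hz
      exact ⟨n + m, by rw [map_add, hpad m n y hm, add_comm n m, hpad n m z hn, add_zero]⟩
    | smul a y _ hy =>
      obtain ⟨m, hm⟩ := hy
      exact ⟨m, by rw [map_smul, hm, smul_zero]⟩
  have hsplit : LinearMap.trace K (K ⊗[k] V) T = LinearMap.trace K U (T.restrict hTU) :=
    Groth.Agent.PLin2.trace_eq_of_isCompl T U N hcompl hTU hTN hNnil
  have hbU : ∃ bU : Module.Basis _ K U, ∀ i, ((bU i : U) : K ⊗[k] V) = β i :=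
    ⟨(Module.Basis.span hβ).map (LinearEquiv.ofEq _ _ hUβ.symm), fun i => by
      simp [Module.Basis.span_apply]⟩
  obtain ⟨bU, hbU⟩ := hbU
  have htrU : LinearMap.trace K U (T.restrict hTU) =
      algebraMap k K (algebraMap (↥(⊥ : Subfield k)) k (LinearMap.trace (↥(⊥ : Subfield k)) ↥W G)) := by
    rw [LinearMap.trace_eq_matrix_trace K bU, LinearMap.trace_eq_matrix_trace _ bW, Matrix.trace,
      Matrix.trace, map_sum, map_sum]
    refine Finset.sum_congr rfl fun i _ => ?_
    have hcol : T.restrict hTU (bU i) =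
        ∑ j, algebraMap k K ((LinearMap.toMatrix bW bW G j i : ↥(⊥ : Subfield k)) : k) • bU j := by
      apply Subtype.ext
      rw [LinearMap.restrict_coe_apply, hbU, Submodule.coe_sum]
      have h2 := congrArg (Subtype.val : ↥W → K ⊗[k] V) (bW.sum_repr (G (bW i)))
      rw [hT, show β i = ((bW i : ↥W) : K ⊗[k] V) from rfl, ← hG, ← h2, Submodule.coe_sum]
      refine Finset.sum_congr rfl fun j _ => ?_
      rw [Submodule.coe_smul, Submodule.coe_smul, hbU, Subfield.smul_def, algebraMap_smul,
        LinearMap.toMatrix_apply]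
    rw [Matrix.diag_apply, Matrix.diag_apply, LinearMap.toMatrix_apply, hcol, bU.repr_sum_self]
    rfl
  rw [← LinearMap.trace_baseChange, hsplit, htrU]

end Groth.Agent.S8618
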