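import Groth.Statements.S8622
import Groth.Agent.Lib.FinSupp9.Main
-- import your own Groth.Agent.* helpers here

set_option autoImplicit false
universe u
open CategoryTheory CategoryTheory.Limits AlgebraicGeometry
open SGA4h

namespace Groth.Agent.S8622

/-- Let k be a field, m a natural number invertible in k, ι a finite index type, e : X → 𝔸^ι_k an
immersion, F an abelian etale sheaf on X killed by m, and η̄ : Spec Ω → 𝔸¹_k (Ω separably closed) a
geometric point over the generic point of the affine line. For i ∈ ι let X_{η̄,i} be the geometric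
generic fibre of the i-th coordinate projection X → 𝔸¹_k and F_{η̄,i} the restriction of F to it. If
every F_{η̄,i} is constructible, then there is a constructible subsheaf F' ⊂ F such that every
section of F/F' over a quasi-compact etale X-scheme has finite support. -/
theorem result {k : Type u} [Field k] (m : ℕ)
    (hm : IsUnit (m : k)) {ι : Type u} [Finite ι] {X : Scheme.{u}}
    (e : X ⟶ 𝔸(ι; Spec (CommRingCat.of k))) [IsImmersion e]
    (F : EtCoh.Ab X) (hFm : EtCoh.KilledBy m F)
    {Ω : Type u} [Field Ω] [IsSepClosed Ω] (η : Spec (CommRingCat.of Ω) ⟶ 𝔸(PUnit.{u + 1}; Spec (CommRingCat.of k)))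
    (hη : closure (Set.range η.base) = Set.univ)
    (hF : ∀ i : ι, EtPBC.IsConstructible
      ((EtCoh.pull (pullback.fst (e ≫ AffineSpace.reindex (fun _ : PUnit.{u + 1} => i) _) η)).obj F)) :
    ∃ (F' : EtCoh.Ab X) (u : F' ⟶ F), Mono u ∧ EtPBC.IsConstructible F' ∧
      ∀ (U : X.Etale) [CompactSpace ↥U.left] (s : EtCoh.sect (cokernel u) U),
        (EtShriek.sectSupp (cokernel u) U s).Finite := by
  exact Groth.Agent.FinSupp9.exists_constructible_sub m hm e F hFm η hη hF

end Groth.Agent.S8622
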