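import Groth.Statements.S8625
import Mathlib.Tactic.Group

set_option autoImplicit false
universe u
open SGA4h

namespace Groth.Agent.S8625

/-- Let G be a group with an endomorphism F, and assume the Lang map g ↦ F(g)g⁻¹ is surjective (for
instance the geometric points of a connected algebraic group over F_q with its Frobenius, where the
surjectivity is the classical result of Lang; the other Lang map g ↦ g⁻¹F(g) is then surjective too,
by g ↦ g⁻¹). Let G^F be the subgroup of fixed points of F. (i) If F(g)g⁻¹ is fixed by F then so is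
g⁻¹F(g). (ii), (iii) There is a bijection of the set of conjugacy classes of G^F with itself
sending, for every g with F(g)g⁻¹ ∈ G^F, the class of F(g)g⁻¹ to the class of g⁻¹F(g) (in particular
the latter class depends only on the former). -/
theorem result {G : Type u} [Group G] (F : G →* G)
    (hL : Function.Surjective fun g : G => F g * g⁻¹) :
    (∀ g : G, F (F g * g⁻¹) = F g * g⁻¹ → F (g⁻¹ * F g) = g⁻¹ * F g) ∧
    ∃ φ : ConjClasses ↥(F.eqLocus (MonoidHom.id G)) → ConjClasses ↥(F.eqLocus (MonoidHom.id G)),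
      Function.Bijective φ ∧
      ∀ (g : G) (h : F (F g * g⁻¹) = F g * g⁻¹) (h' : F (g⁻¹ * F g) = g⁻¹ * F g),
        φ (ConjClasses.mk (⟨F g * g⁻¹, h⟩ : ↥(F.eqLocus (MonoidHom.id G)))) =
          ConjClasses.mk (⟨g⁻¹ * F g, h'⟩ : ↥(F.eqLocus (MonoidHom.id G))) := by
  have hfix : ∀ g : G, F (F g * g⁻¹) = F g * g⁻¹ → F (g⁻¹ * F g) = g⁻¹ * F g := by
    intro g h
    rw [map_mul, map_inv] at h ⊢
    have h2 : F (F g) = F g * g⁻¹ * F g := by rw [← h]; group
    rw [h2]; group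
  refine ⟨hfix, ?_⟩
  let H := F.eqLocus (MonoidHom.id G)
  choose L hL using hL
  replace hL : ∀ b, F (L b) * (L b)⁻¹ = b := hL
  have hmem : ∀ x : H, F x = x := fun x => x.2
  let raw : H → ConjClasses H := fun x =>
    ConjClasses.mk ⟨(L x)⁻¹ * F (L x), hfix (L x) (by rw [hL]; exact x.2)⟩
  have key : ∀ (x : H) (g : G) (h : F g * g⁻¹ = (x : G)),
      raw x = ConjClasses.mk (⟨g⁻¹ * F g, hfix g (by rw [h]; exact x.2)⟩ : H) := by
    intro x g h
    refine ConjClasses.mk_eq_mk_iff_isConj.2 (isConj_iff.2 ⟨⟨g⁻¹ * L x, ?_⟩, Subtype.ext ?_⟩)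
    · show F (g⁻¹ * L x) = g⁻¹ * L x
      rw [map_mul, map_inv, mul_inv_eq_iff_eq_mul.1 (hL x), mul_inv_eq_iff_eq_mul.1 h]
      group
    · show g⁻¹ * L x * ((L x)⁻¹ * F (L x)) * (g⁻¹ * L x)⁻¹ = g⁻¹ * F g
      rw [mul_inv_eq_iff_eq_mul.1 (hL x), mul_inv_eq_iff_eq_mul.1 h]
      group
  have conj : ∀ (g : G) (c : H), F ((c : G) * g) * ((c : G) * g)⁻¹ = c * (F g * g⁻¹) * (c : G)⁻¹ := by
    intro g c; rw [map_mul, hmem c]; group
  let φ : ConjClasses H → ConjClasses H := Quotient.lift raw fun x y hxy => by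
    obtain ⟨c, hc⟩ := isConj_iff.1 hxy
    have hc' : (c : G) * x * (c : G)⁻¹ = y := congrArg Subtype.val hc
    have hcy : F ((c : G) * L x) * ((c : G) * L x)⁻¹ = (y : G) :=
      (conj (L x) c).trans (by rw [hL x]; exact hc')
    rw [key y ((c : G) * L x) hcy]
    show ConjClasses.mk _ = _
    refine congrArg _ (Subtype.ext ?_)
    show (L x)⁻¹ * F (L x) = ((c : G) * L x)⁻¹ * F ((c : G) * L x)
    rw [map_mul, hmem c]; group
  have hφ : ∀ (g : G) (h : F (F g * g⁻¹) = F g * g⁻¹),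
      φ (ConjClasses.mk (⟨F g * g⁻¹, h⟩ : H)) = ConjClasses.mk (⟨g⁻¹ * F g, hfix g h⟩ : H) :=
    fun g h => key _ g rfl
  refine ⟨φ, ⟨?_, ?_⟩, fun g h _ => hφ g h⟩
  · intro a b hab
    obtain ⟨x, rfl⟩ := ConjClasses.exists_rep a
    obtain ⟨y, rfl⟩ := ConjClasses.exists_rep b
    obtain ⟨c, hc⟩ := isConj_iff.1 (ConjClasses.mk_eq_mk_iff_isConj.1 (hab : raw x = raw y))
    have hc' : (c : G) * ((L x)⁻¹ * F (L x)) * (c : G)⁻¹ = (L y)⁻¹ * F (L y) := congrArg Subtype.val hc
    have hFy : F (L y) = L y * c * ((L x)⁻¹ * F (L x)) * (c : G)⁻¹ := by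
      rw [mul_assoc (L y), mul_assoc (L y), hc']; group
    refine ConjClasses.mk_eq_mk_iff_isConj.2 (isConj_iff.2 ⟨⟨L y * c * (L x)⁻¹, ?_⟩, Subtype.ext ?_⟩)
    · show F (L y * c * (L x)⁻¹) = L y * c * (L x)⁻¹
      rw [map_mul, map_mul, map_inv, hmem c, hFy]; group
    · show L y * c * (L x)⁻¹ * (x : G) * (L y * c * (L x)⁻¹)⁻¹ = y
      clear hc hab
      have h1 := hL x
      have h2 := hL y
      generalize L (x : G) = a at *
      generalize L (y : G) = b at *
      rw [← h1, ← h2, hFy]; group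
  · intro b
    obtain ⟨y, rfl⟩ := ConjClasses.exists_rep b
    have hy := hmem y
    let g := (L (y : G)⁻¹)⁻¹
    have hg : g⁻¹ * F g = (y : G) := by
      have := hL ((y : G)⁻¹)
      rw [← inv_inv (y : G), ← this]
      simp [g]
    have hx : F (F g * g⁻¹) = F g * g⁻¹ := by
      have : F g = g * y := by rw [← hg]; group
      rw [this, map_mul, map_inv, map_mul, this, hy]; group
    exact ⟨ConjClasses.mk ⟨_, hx⟩, (hφ g hx).trans (congrArg _ (Subtype.ext hg))⟩

end Groth.Agent.S8625
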