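import Groth.Statements.S8626
import Groth.Agent.Lib.AdaptedAcyclic.Basic

set_option autoImplicit false
universe v v' u u'
open CategoryTheory CategoryTheory.Limits
open SGA4h

namespace Groth.Agent.S8626

/-- Acyclicity assertion; A with enough injectives so that R^n f is the usual right derived functor: let
f : A → B be an additive functor between abelian categories and 𝒪 a class of objects of A, stable
under binary direct sums, such that (1) f carries every acyclic bounded-below cochain complex of
objects of 𝒪 (indexed by ℕ, exact in every degree, in degree 0 meaning the first differential is a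
monomorphism) to an acyclic complex, and (2) every object of A admits a monomorphism into a member
of 𝒪. Then every member of 𝒪 is right f-acyclic: R^n f(X) = 0 for all n > 0. -/
theorem result {A : Type u} [Category.{v} A] [Abelian A] [EnoughInjectives A]
    {B : Type u'} [Category.{v'} B] [Abelian B] (f : A ⥤ B) [f.Additive] (𝒪 : ObjectProperty A)
    (h0 : ∀ X Y : A, 𝒪 X → 𝒪 Y → 𝒪 (X ⊞ Y))
    (h1 : ∀ K : CochainComplex A ℕ, (∀ i, 𝒪 (K.X i)) → K.Acyclic →
      ((f.mapHomologicalComplex (ComplexShape.up ℕ)).obj K).Acyclic)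
    (h2 : ∀ X : A, ∃ (Y : A) (i : X ⟶ Y), 𝒪 Y ∧ Mono i)
    (X : A) (hX : 𝒪 X) (n : ℕ) (hn : 0 < n) :
    IsZero ((f.rightDerived n).obj X) := by
  obtain ⟨m, rfl⟩ := Nat.exists_eq_succ_of_ne_zero hn.ne'
  let I := InjectiveResolution.of X
  have w : I.ι.f 0 ≫ I.cocomplex.d 0 1 = 0 := I.ι_f_zero_comp_complex_d
  let L := CochainComplex.augment I.cocomplex (I.ι.f 0) w
  have hL : ∀ i, ∃ (Y : A) (a : L.X i ⟶ Y) (r : Y ⟶ L.X i), 𝒪 Y ∧ a ≫ r = 𝟙 _ := by
    rintro (_ | i)
    · exact ⟨X, 𝟙 X, 𝟙 X, hX, Category.comp_id _⟩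
    · obtain ⟨Y, a, hY, ha⟩ := h2 (I.cocomplex.X i)
      haveI := I.injective i
      refine ⟨Y, a, @Injective.factorThru _ _ (I.cocomplex.X i) (I.cocomplex.X i) Y (I.injective i) (𝟙 _) a ha, hY, ?_⟩
      exact @Injective.comp_factorThru _ _ (I.cocomplex.X i) (I.cocomplex.X i) Y (I.injective i) (𝟙 _) a ha
  obtain ⟨K, e, hK⟩ := AdaptedAcyclic.exists_adapted L 𝒪 h0 hL
  have hLac : L.Acyclic := by
    rintro (_ | i)
    · rw [HomologicalComplex.exactAt_iff' L 0 0 1 (by simp) (by simp)]
      refine (ShortComplex.exact_iff_mono _ (L.shape 0 0 (by simp))).mpr ?_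
      show Mono (I.ι.f 0)
      infer_instance
    · rw [HomologicalComplex.exactAt_iff' L i (i + 1) (i + 2) (by simp) (by simp)]
      cases i with
      | zero => exact I.exact₀
      | succ j => exact I.exact_succ j
  have hf := AdaptedAcyclic.acyclic_of_homotopyEquiv (f.mapHomotopyEquiv e).symm
    (h1 K hK (AdaptedAcyclic.acyclic_of_homotopyEquiv e hLac)) (m + 2)
  refine IsZero.of_iso ?_ (I.isoRightDerivedObj f (m + 1))
  refine (HomologicalComplex.exactAt_iff_isZero_homology _ _).mp ?_
  rw [HomologicalComplex.exactAt_iff' _ m (m + 1) (m + 2) (by simp) (by simp)]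
  rw [HomologicalComplex.exactAt_iff' _ (m + 1) (m + 2) (m + 3) (by simp) (by simp)] at hf
  exact hf

end Groth.Agent.S8626
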