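import Groth.Statements.S8627
import Groth.Agent.Lib.PointLim24.PointPush

set_option autoImplicit false
universe u
open CategoryTheory CategoryTheory.Limits AlgebraicGeometry
open SGA4h
open Groth.Agent.LocConst24

namespace Groth.Agent.S8627

/-- Let f : X → S be a locally acyclic morphism of quasi-compact quasi-separated schemes
(vanishing-cycle varieties have the ℤ/n-cohomology of a point for n prime to the residue
characteristics), n a natural number invertible on S, and ε : t = Spec Ω → S a geometric point (Ω
separably closed), with cartesian square X_t = X ×_S t, ε' : X_t → X, f_t : X_t → t. Then the base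
change map f⁻¹ ε_* (ℤ/n) → ε'_* f_t⁻¹(ℤ/n) (= ε'_* ℤ/n) is an isomorphism and R^q ε'_* (ℤ/n) = 0 for
every q > 0. (The published statement takes the geometric point t with an algebraically closed
field; this row allows any separably closed field Ω.) -/
theorem result {X S : Scheme.{u}}
    [CompactSpace ↥X] [QuasiSeparatedSpace ↥X] [CompactSpace ↥S] [QuasiSeparatedSpace ↥S]
    (f : X ⟶ S) (hf : EtRest.IsLocallyAcyclic f) (n : ℕ) (hn : IsUnit (n : Γ(S, ⊤)))
    {Ω : Type u} [Field Ω] [IsSepClosed Ω] (t : Spec (CommRingCat.of Ω) ⟶ S) :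
    IsIso (EtCoh.baseChange0 t f (pullback.fst f t) (pullback.snd f t) (pullback.condition).symm
      (EtCoh.const (Spec (CommRingCat.of Ω)) (ZMod n))) ∧
    ∀ q : ℕ, 0 < q →
      IsZero ((EtCoh.Rpush (pullback.fst f t) q).obj (EtCoh.const (pullback f t) (ZMod n))) := by
  have sq : IsPullback (pullback.snd f t) (pullback.fst f t) t f := (IsPullback.of_hasPullback f t).flip
  refine ⟨PointLim24.isIso_bc0_of_const f hf t (pullback.fst f t) (pullback.snd f t) sq
    (EtCoh.const (Spec (CommRingCat.of Ω)) (ZMod n)) (constSec _ (ZMod n) (EtCoh.top _))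
    (fun _ _ _ ξ v => bijAt_constSec _ (ZMod n) (EtCoh.top _) _ ξ v), fun q hq =>
    PointLim24.isZero_Rpush_const f hf t (pullback.fst f t) (pullback.snd f t) sq n (fun x => ?_) q hq⟩
  intro h
  have hx' := (hn.map f.appTop.hom).map (X.evaluation ⊤ x trivial).hom
  rw [map_natCast, map_natCast, h] at hx'
  exact not_isUnit_zero hx'

end Groth.Agent.S8627
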