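import Groth.Statements.S8655
import Groth.Agent.Lib.CI2.RImmComp
import Groth.Prelude.Def_RegImm
import Mathlib

set_option autoImplicit false
universe u
open CategoryTheory CategoryTheory.Limits AlgebraicGeometry
open RegImm

namespace Groth.Agent.S8655
open CategoryTheory CategoryTheory.Limits AlgebraicGeometry

/-- Let i : Y ⟶ X be a Koszul-regular immersion of constant codimension n and j : Z ⟶ Y a Koszul-regular
immersion of constant codimension m (around every point the ideal is generated by a Koszul-regular
sequence of that length). Then j ≫ i is a Koszul-regular immersion of constant codimension m + n. -/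
theorem result {X Y Z : Scheme.{u}} (n m : ℕ) (i : Y ⟶ X) (j : Z ⟶ Y)
    (hi : RegImm.IsRegularImmersionOfCodim .koszul n i) (hj : RegImm.IsRegularImmersionOfCodim .koszul m j) :
    RegImm.IsRegularImmersionOfCodim .koszul (m + n) (j ≫ i) := by
  haveI := hi.1
  haveI := hj.1
  refine ⟨inferInstance, fun z => ?_⟩
  obtain ⟨U, hzU, hclU, rs, hn, hrs, hkrs⟩ := hi.2 (j z)
  obtain ⟨V, hzV, hclV, ts, hm, hts, hkts⟩ := hj.2 z
  haveI := hclU
  haveI := hclV
  obtain ⟨D, hzD, hclD, L, hlen, hL, hkL⟩ :=
    Groth.Agent.CI2.exists_comp_data i j U.2 hzU hrs hkrs V.2 hzV hts hkts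
  exact ⟨D, hzD, hclD, L, by rw [hlen, hm, hn], hL, hkL⟩

end Groth.Agent.S8655
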