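import Groth.Statements.S8664
import Groth.Agent.Lib.CMReg18.UnifVan

set_option autoImplicit false
universe v u
open CategoryTheory CategoryTheory.Limits AlgebraicGeometry
attribute [local instance] HasDerivedCategory.standard
open SGA6

open Groth.Agent Groth.Agent.CMReg18
namespace Groth.Agent.S8664

/-- Let S be a quasi-compact scheme, f : P = P^r_S ⟶ S the projection, and F a finitely presented
O_P-module which is flat over S (all stalks of F flat over the corresponding local rings of S). Then
there is n₀ such that for all n ≥ n₀ one has R^q f_*(F(n)) = 0 for every q ≥ 1 (higher direct images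
of the underlying abelian sheaf) and f_*(F(n)) is finite locally free on S, with F(n) = O_P(n) ⊗ F.
(The published statement is for the projective bundle of any finite locally free O_S-module and also
asserts (iii) that ⊕_{n ≥ n₀} f_*(F(n)) is a finitely presented graded module over the symmetric
algebra; this row takes the trivial bundle and states (i), (ii) only.) -/
theorem result (S : Scheme.{u}) [CompactSpace ↥S] (r : ℕ)
    (F : (KRR.PY r S).Modules) (hF : CohB1.IsFP F) (hfl : FlatMod.IsFlatOver (KRR.pr r S) F) :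
    ∃ n₀ : ℕ, ∀ n : ℕ, n₀ ≤ n →
      (∀ q : ℕ, 1 ≤ q → IsZero ((Coh.RpushAb (KRR.pr r S) q).obj (Coh.toAb (KRR.twF r S (n : ℤ) F)))) ∧
      FlatMod.IsFinLocFree ((Scheme.Modules.pushforward (KRR.pr r S)).obj (KRR.twF r S (n : ℤ) F)) := by
  let D := (projData (ULift.{u} ℤ) r).pullback
    (pullback.fst (CohB1.ProjSpace.toSpec r (ULift.{u} ℤ)) (specULiftZIsTerminal.from S))
  haveI : IsProper (KRR.pr r S) := inferInstanceAs (IsProper (CohB1.ProjSpaceOver.toBase r S))
  haveI : LocallyOfFinitePresentation (KRR.pr r S) := inferInstance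
  obtain ⟨N, hN⟩ := exists_forall_vanishing (f := KRR.pr r S) hF hfl D (isRelAmple_O1 r S)
  refine ⟨N, fun n hn => ?_⟩
  obtain ⟨h1, h2⟩ := isFinLocFree_push_of_vanishing (f := KRR.pr r S) (isFP_tensor_inv hF (D.inv n))
    (FlatTwist13.isFlatOver_tensor _ hfl (D.inv n)) fun s p hp => hN s n (Int.ofNat_le.2 hn) p hp
  let e : KRR.twF r S (n : ℤ) F ≅ D.tw F n := M2.tensorComm (Twist.twistOver r S (n : ℤ)) F
  exact ⟨fun q hq => (h2 q hq).of_iso ((Coh.RpushAb (KRR.pr r S) q).mapIso ((SheafOfModules.toSheaf _).mapIso e)),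
    M2.isFinLocFree_of_iso ((Scheme.Modules.pushforward (KRR.pr r S)).mapIso e.symm) h1⟩

end Groth.Agent.S8664
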