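import Groth.Statements.S8666
import Mathlib

set_option autoImplicit false
universe u
open CAlg

namespace Groth.Agent.S8666


namespace Aux8666

universe v w

variable {A : Type v} [CommRing A] {M : Type v} [AddCommGroup M] [Module A M] [Module.Invertible A M]

theorem exists_dual_apply (p : Ideal A) [p.IsPrime] : ∃ m : M, ∃ f : Module.Dual A M, f m ∉ p := by
  by_contra! h
  refine Ideal.IsPrime.ne_top ‹_› ((Ideal.eq_top_iff_one p).2 ?_)
  have : ∀ z : TensorProduct A (Module.Dual A M) M, Module.Invertible.linearEquiv A M z ∈ p := by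
    intro z
    induction z with
    | zero => simp
    | add a b ha hb => rw [map_add]; exact add_mem ha hb
    | tmul f m => exact h m f
  simpa using this ((Module.Invertible.linearEquiv A M).symm 1)

theorem span_eq_top {p : Ideal A} [p.IsPrime] {s : M} {f : Module.Dual A M} (h : f s ∉ p) :
    Submodule.span (Localization.AtPrime p) {LocalizedModule.mkLinearMap p.primeCompl M s} = ⊤ := by
  let S := p.primeCompl
  let f' : LocalizedModule S M →ₗ[Localization S] Localization S :=
    .extendScalarsOfIsLocalization S _ <| IsLocalizedModule.map S (LocalizedModule.mkLinearMap S M)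
      (Algebra.linearMap A (Localization S)) f
  have hs : f' (LocalizedModule.mkLinearMap S M s) = algebraMap A (Localization S) (f s) := by
    exact IsLocalizedModule.map_apply S (LocalizedModule.mkLinearMap S M) (Algebra.linearMap A (Localization S)) f s
  have hu : IsUnit (f' (LocalizedModule.mkLinearMap S M s)) :=
    hs ▸ IsLocalization.map_units (Localization S) (⟨f s, h⟩ : S)
  have hsurj : Function.Surjective f' := LinearMap.range_eq_top.1
    (Ideal.eq_top_of_isUnit_mem _ ⟨_, rfl⟩ hu)
  have hb := Module.Invertible.bijective_of_surjective hsurj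
  refine eq_top_iff.2 fun z _ => ?_
  obtain ⟨u, hu'⟩ := hu
  have : z = (f' z * ↑u⁻¹) • LocalizedModule.mkLinearMap S M s := hb.1 (by
    rw [map_smul, smul_eq_mul, ← hu', mul_assoc, Units.inv_mul, mul_one])
  rw [this]
  exact Submodule.smul_mem _ _ (Submodule.mem_span_singleton_self _)

theorem avoid (t : Finset (PrimeSpectrum A)) : ∃ s : M, ∀ p ∈ t, ∃ f : Module.Dual A M, f s ∉ p.asIdeal := by
  classical
  induction t using Finset.strongInduction with
  | H t ih =>
    rcases t.eq_empty_or_nonempty with rfl | ht
    · exact ⟨0, by simp⟩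
    obtain ⟨k, hk, hmin⟩ := t.exists_minimal ht
    obtain ⟨s, hs⟩ := ih (t.erase k) (Finset.erase_ssubset hk)
    by_cases h : ∃ f : Module.Dual A M, f s ∉ k.asIdeal
    · exact ⟨s, fun p hp => if e : p = k then e ▸ h else hs p (Finset.mem_erase.2 ⟨e, hp⟩)⟩
    push Not at h
    obtain ⟨a, ha, hak⟩ : ∃ a ∈ (t.erase k).inf PrimeSpectrum.asIdeal, a ∉ k.asIdeal := by
      refine Set.not_subset.1 fun hsub => ?_
      obtain ⟨q, hq, hqk⟩ := (Ideal.IsPrime.inf_le' k.isPrime).1 hsub
      exact (Finset.mem_erase.1 hq).1 (le_antisymm hqk (hmin (Finset.mem_erase.1 hq).2 hqk))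
    obtain ⟨m, f, hf⟩ := exists_dual_apply (M := M) k.asIdeal
    refine ⟨s + a • m, fun p hp => ?_⟩
    by_cases e : p = k
    · subst e
      refine ⟨f, fun hc => ?_⟩
      rw [map_add, map_smul, smul_eq_mul] at hc
      exact (p.isPrime.mem_or_mem ((Submodule.add_mem_iff_right _ (h f)).1 hc)).elim hak hf
    · obtain ⟨g, hg⟩ := hs p (Finset.mem_erase.2 ⟨e, hp⟩)
      refine ⟨g, fun hc => hg ?_⟩
      rw [map_add, map_smul, smul_eq_mul] at hc
      exact (Submodule.add_mem_iff_left _ (Ideal.mul_mem_right _ _
        (Submodule.mem_finsetInf.1 ha p (Finset.mem_erase.2 ⟨e, hp⟩)))).1 hc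

end Aux8666



/-- Let A be a Noetherian ring, M an invertible A-module and p_1, …, p_k finitely many primes of A
(points of Spec A). Then there is a single element s ∈ M whose image generates M_{p_i} as an
A_{p_i}-module for every i, i.e. s is a basis of the stalk of M at each of the given points. -/
theorem result (A : Type u) [CommRing A] [IsNoetherianRing A]
    (M : Type u) [AddCommGroup M] [Module A M] [Module.Invertible A M] (ι : Type) [Finite ι] (p : ι → PrimeSpectrum A) :
    ∃ s : M, ∀ i : ι, Submodule.span (Localization.AtPrime (p i).asIdeal)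
      {LocalizedModule.mkLinearMap (p i).asIdeal.primeCompl M s} = ⊤ := by
  classical
  haveI := Fintype.ofFinite ι
  obtain ⟨s, hs⟩ := Aux8666.avoid (M := M) (Finset.univ.image p)
  refine ⟨s, fun i => ?_⟩
  obtain ⟨f, hf⟩ := hs (p i) (Finset.mem_image_of_mem _ (Finset.mem_univ i))
  exact Aux8666.span_eq_top hf

end Groth.Agent.S8666
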