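import Groth.Statements.S8668
import Groth.Agent.Lib.SyntRank2.ConormalFree
import Groth.Agent.Lib.CI2.RImmSmooth
import Groth.Agent.Lib.Omega12.BaseChange
import Groth.Agent.Lib.Omega12.Exists
import Groth.Agent.Lib.Omega12.LocFree
import Groth.Agent.Lib.GrMap12.MonoRel
import Groth.Agent.Lib.SmoothLift15.Main
import Groth.Agent.Lib.K0Cat.Basic

set_option autoImplicit false
universe u
open CategoryTheory CategoryTheory.Limits AlgebraicGeometry
attribute [local instance] HasDerivedCategory.standard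
open Synt

namespace Groth.Agent.S8668
open CategoryTheory CategoryTheory.Limits AlgebraicGeometry
open Synt

open Groth.Agent

/-- The class of the conormal sheaf in the product. -/
lemma cl_conormal_eq {X Y V V' P : Scheme.{u}} (f : X ⟶ Y) (hf : ∀ x : X, Synt.IsKoszulAt f x)
    (g : V ⟶ Y) [Smooth g] (g' : V' ⟶ Y) [Smooth g'] (a : P ⟶ V) (b : P ⟶ V') (sq : IsPullback b a g' g)
    (O : P.Opens) (k : X ⟶ O) [IsClosedImmersion k]
    (i : X ⟶ V) [IsClosedImmersion i] (hi : i ≫ g = f) (hk : k ≫ O.ι ≫ a = i)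
    (i' : X ⟶ V') (hk' : (k ≫ O.ι) ≫ b = i')
    (Ω' : V'.Modules) (d' : OmegaSh.Der g' Ω') (hd' : OmegaSh.IsUniversal d') :
    FlatMod.IsFinLocFree ((Scheme.Modules.pullback i').obj Ω') ∧ FlatMod.IsFinLocFree (Omega.conormal i) ∧
      KRR.cl X (Omega.conormal k) =
        KRR.cl X (Omega.conormal i) + KRR.cl X ((Scheme.Modules.pullback i').obj Ω') := by
  haveI : Smooth a := MorphismProperty.of_isPullback sq inferInstance
  let p := O.ι ≫ a
  obtain ⟨ΩP, dP, hdP⟩ := Omega12.exists_isUniversal a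
  obtain ⟨c₁, hc₁, -⟩ := Omega12.existsUnique_diffCompat (h := b) (f := g') (f' := a) (b := g) sq.w.symm hd' dP
  haveI : IsIso c₁ := Omega12.isIso_diffCompat_of_isPullback sq hd' hdP c₁ hc₁
  obtain ⟨Ω₀, d₀, hd₀⟩ := Omega12.exists_isUniversal p
  obtain ⟨c₂, hc₂, -⟩ := Omega12.existsUnique_diffCompat (h := O.ι) (f := a) (f' := p) (b := 𝟙 V) (Category.comp_id _) hdP d₀
  haveI := Omega12.isIso_diffCompat_of_etale (h := O.ι) (b := 𝟙 V) (f := a) (f' := p) (Category.comp_id _).symm hdP hd₀ c₂ hc₂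
  let e : (Scheme.Modules.pullback k).obj Ω₀ ≅ (Scheme.Modules.pullback i').obj Ω' :=
    (Scheme.Modules.pullback k).mapIso ((asIso c₂).symm ≪≫ (Scheme.Modules.pullback O.ι).mapIso (asIso c₁).symm) ≪≫
      (Scheme.Modules.pullbackComp k O.ι).app _ ≪≫ (Scheme.Modules.pullbackComp (k ≫ O.ι) b).app Ω' ≪≫
      (Scheme.Modules.pullbackCongr hk').app Ω'
  obtain ⟨ψ, hψ, -⟩ := GrMap12.existsUnique_conormalMap (i := k) (i' := i) (g := p) (gZ := 𝟙 X)
    (by rw [Category.id_comp]; exact hk.symm)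
  obtain ⟨φ, hφ, -⟩ := GrMap12.existsUnique_conormalDiff (i := k) d₀
  haveI : Mono ψ := GrMap12.mono_conormalMap_of_formallySmooth
    (SmoothLift15.isFormallySmoothHom_of_smooth p) hk hψ
  obtain ⟨w, hex, hepi⟩ := GrMap12.exact_relative hk hd₀ ψ hψ φ hφ
  haveI := hepi
  have hS : (ShortComplex.mk ψ φ w).ShortExact := { exact := hex, mono_f := inferInstanceAs (Mono ψ), epi_g := hepi }
  let ψ' := (Scheme.Modules.pullbackId X).inv.app (Omega.conormal i) ≫ ψ
  have hS' : (ShortComplex.mk ψ' (φ ≫ e.hom) (by simp [ψ', reassoc_of% w])).ShortExact :=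
    ShortComplex.shortExact_of_iso
      (ShortComplex.isoMk (S₁ := ShortComplex.mk ψ φ w)
        (S₂ := ShortComplex.mk ψ' (φ ≫ e.hom) (by simp [ψ', reassoc_of% w]))
        ((Scheme.Modules.pullbackId X).app (Omega.conormal i)) (Iso.refl _) e (by simp [ψ']) (by simp)) hS
  have h₀ : (k ≫ p) ≫ g = f := by
    show (k ≫ O.ι ≫ a) ≫ g = f
    rw [hk, hi]
  have hKi := CI2.koszul_of_isKoszulAt i f hf g hi
  have hKk := CI2.koszul_of_isKoszulAt k f hf (p ≫ g) (by rw [← Category.assoc, h₀])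
  have h1 : FlatMod.IsFinLocFree ((Scheme.Modules.pullback i').obj Ω') :=
    M2.isFinLocFree_pullback i' (Omega12.isFinLocFree_receptacle_of_smooth g' hd')
  have h2 := SyntRank2.isFinLocFree_conormal_of_koszul i hKi
  exact ⟨h1, h2, K0Cat.clSub_ses _ hS' h2 (SyntRank2.isFinLocFree_conormal_of_koszul k hKk) h1⟩

/-- Let f : X ⟶ Y be a local complete intersection morphism in the factorisation sense (around each
point, locally of finite type and factoring as a Koszul-regular immersion followed by a smooth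
morphism), and let f = i ≫ g = i' ≫ g' be two factorisations with g : V ⟶ Y and g' : V' ⟶ Y smooth
and i, i' closed immersions. Let d : O_V → Ω and d' : O_{V'} → Ω' be universal Y-derivations
(sheaves of relative differentials of V and V' over Y). Then i^*Ω, i'^*Ω' and the conormal sheaves
N_i, N_{i'} are finite locally free, and in K₀ of finite locally free O_X-modules one has [i^*Ω] −
[N_i] = [i'^*Ω'] − [N_{i'}]: the virtual cotangent class of f does not depend on the factorisation. -/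
theorem result {X Y V V' : Scheme.{u}} (f : X ⟶ Y) (hf : ∀ x : X, Synt.IsKoszulAt f x)
    (g : V ⟶ Y) [Smooth g] (i : X ⟶ V) [IsClosedImmersion i] (hi : i ≫ g = f)
    (g' : V' ⟶ Y) [Smooth g'] (i' : X ⟶ V') [IsClosedImmersion i'] (hi' : i' ≫ g' = f)
    (Ω : V.Modules) (d : OmegaSh.Der g Ω) (hd : OmegaSh.IsUniversal d)
    (Ω' : V'.Modules) (d' : OmegaSh.Der g' Ω') (hd' : OmegaSh.IsUniversal d') :
    FlatMod.IsFinLocFree ((Scheme.Modules.pullback i).obj Ω) ∧ FlatMod.IsFinLocFree (Omega.conormal i) ∧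
    FlatMod.IsFinLocFree ((Scheme.Modules.pullback i').obj Ω') ∧ FlatMod.IsFinLocFree (Omega.conormal i') ∧
    KRR.cl X ((Scheme.Modules.pullback i).obj Ω) - KRR.cl X (Omega.conormal i) =
      KRR.cl X ((Scheme.Modules.pullback i').obj Ω') - KRR.cl X (Omega.conormal i') := by
  let k₁ := pullback.lift i i' (hi.trans hi'.symm)
  haveI : IsImmersion (k₁ ≫ pullback.fst g g') := by
    rw [pullback.lift_fst]; infer_instance
  haveI : IsImmersion k₁ := IsImmersion.of_comp k₁ (pullback.fst g g')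
  let O := k₁.coborderRange
  let k := k₁.liftCoborder
  have hk : k ≫ O.ι = k₁ := k₁.liftCoborder_ι
  have hki : k ≫ O.ι ≫ pullback.fst g g' = i := by rw [← Category.assoc, hk, pullback.lift_fst]
  have hki' : k ≫ O.ι ≫ pullback.snd g g' = i' := by rw [← Category.assoc, hk, pullback.lift_snd]
  obtain ⟨A1, A2, A⟩ := cl_conormal_eq f hf g g' _ _ (IsPullback.of_hasPullback g g').flip O k i hi hki i'
    (by rw [Category.assoc]; exact hki') Ω' d' hd'
  obtain ⟨B1, B2, B⟩ := cl_conormal_eq f hf g' g _ _ (IsPullback.of_hasPullback g g') O k i' hi' hki' i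
    (by rw [Category.assoc]; exact hki) Ω d hd
  refine ⟨B1, A2, A1, B2, ?_⟩
  rw [sub_eq_sub_iff_add_eq_add]
  rw [A] at B
  rw [add_comm, ← B]
  abel

end Groth.Agent.S8668
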