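import Groth.Statements.S8669
import Groth.Agent.Lib.CMReg18.PushKvb

set_option autoImplicit false
universe v u
open CategoryTheory CategoryTheory.Limits AlgebraicGeometry
attribute [local instance] HasDerivedCategory.standard
open SGA6

open Groth.Agent Groth.Agent.CMReg18
namespace Groth.Agent.S8669

/-- Let S be a quasi-compact scheme, f : P = P^r_S ⟶ S the projection, and F, G finite locally free
O_P-modules whose classes in K₀ of finite locally free O_P-modules coincide. Then there is n₀ such
that for every n ≥ n₀ the modules f_*(F(n)) and f_*(G(n)) are finite locally free on S and have the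
same class in K₀ of finite locally free O_S-modules, where F(n) = O_P(n) ⊗ F. (The published
statement is for the projective bundle of any finite locally free module of rank r + 1; this row
takes the trivial bundle.) -/
theorem result (S : Scheme.{u}) [CompactSpace ↥S] (r : ℕ)
    (F G : (KRR.PY r S).Modules) (hF : FlatMod.IsFinLocFree F) (hG : FlatMod.IsFinLocFree G)
    (h : KRR.cl (KRR.PY r S) F = KRR.cl (KRR.PY r S) G) :
    ∃ n₀ : ℕ, ∀ n : ℕ, n₀ ≤ n →
      FlatMod.IsFinLocFree ((Scheme.Modules.pushforward (KRR.pr r S)).obj (KRR.twF r S (n : ℤ) F)) ∧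
      FlatMod.IsFinLocFree ((Scheme.Modules.pushforward (KRR.pr r S)).obj (KRR.twF r S (n : ℤ) G)) ∧
      KRR.cl S ((Scheme.Modules.pushforward (KRR.pr r S)).obj (KRR.twF r S (n : ℤ) F)) =
        KRR.cl S ((Scheme.Modules.pushforward (KRR.pr r S)).obj (KRR.twF r S (n : ℤ) G)) := by
  classical
  obtain ⟨a, ha⟩ := exists_acyclic_twist (r := r) hF
  obtain ⟨b, hb⟩ := exists_acyclic_twist (r := r) hG
  have hmem : FreeAbelianGroup.of (⟨F, hF⟩ : Subtype (KRR.vbP (KRR.PY r S))) -
      FreeAbelianGroup.of (⟨G, hG⟩ : Subtype (KRR.vbP (KRR.PY r S))) ∈ KZero.relSub (KRR.vbP (KRR.PY r S)) := by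
    simp only [KRR.cl, KZero.clSub] at h
    rw [dif_pos (show KRR.vbP (KRR.PY r S) F from hF), dif_pos (show KRR.vbP (KRR.PY r S) G from hG)] at h
    exact (QuotientAddGroup.eq_iff_sub_mem).1 h
  obtain ⟨c, hc⟩ := exists_pushClass_eq_zero hmem
  refine ⟨a + b + c, fun n hn => ⟨(ha n (by omega)).2, (hb n (by omega)).2, ?_⟩⟩
  have := hc n (by omega)
  rw [map_sub, pushClass, FreeAbelianGroup.lift_apply_of, FreeAbelianGroup.lift_apply_of, sub_eq_zero] at this
  exact this

end Groth.Agent.S8669
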