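import Groth.Statements.S8675
import Groth.Agent.Lib.Conormal2.Incl
import Groth.Agent.Lib.Cyc26.KoszulH1
import Groth.Agent.Lib.RegSeq26.FlatBC
import Groth.Agent.Lib.CI2.RImm
import Groth.Agent.Lib.CI2.KRPeel
import Groth.Agent.Lib.CI2.KoszulInv
import Groth.Agent.Lib.ModM1.Stalk

set_option autoImplicit false
universe u
open CategoryTheory CategoryTheory.Limits AlgebraicGeometry
open RegImm

namespace Groth.Agent.S8675
open CategoryTheory CategoryTheory.Limits AlgebraicGeometry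
open RegImm

open Groth.Agent TensorProduct

lemma coeff_mem_of_h1 {S : Type u} [CommRing S] [IsLocalRing S] {r : ℕ} (f : Fin r → S) (hf : CAlgX.IsH1Regular f)
    (hfm : ∀ k, f k ∈ IsLocalRing.maximalIdeal S) (c : Fin r → S)
    (hc : ∑ k, c k * f k ∈ IsLocalRing.maximalIdeal S * Ideal.span (Set.range f)) :
    ∀ k, c k ∈ IsLocalRing.maximalIdeal S := by
  classical
  rw [← smul_eq_mul, Submodule.mem_ideal_smul_span_iff_exists_sum] at hc
  obtain ⟨a, ha, hsum⟩ := hc
  have h0 : ∑ k, (c k - a k) * f k = 0 := by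
    simp only [sub_mul, Finset.sum_sub_distrib]
    rw [← hsum, Finsupp.sum_fintype a (fun i c => c • f i) (fun _ => zero_smul _ _)]
    simp [smul_eq_mul]
  have hm : (fun k => c k - a k) ∈
      Submodule.pi Set.univ (fun _ : Fin r => (IsLocalRing.maximalIdeal S : Submodule S S)) := by
    refine Submodule.span_le.2 ?_ (hf _ h0)
    rintro _ ⟨i, j, rfl⟩ k -
    simp only [Pi.sub_apply, Pi.single_apply]
    refine sub_mem ?_ ?_ <;> split_ifs <;> first | exact hfm _ | exact zero_mem _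
  intro k
  simpa using add_mem (hm k trivial) (ha k)

lemma mem_comap_smul_of_one_tmul_mem {R S M : Type u} [CommRing R] [CommRing S] [Algebra R S]
    [AddCommGroup M] [Module R M] (h : Function.Surjective (algebraMap R S)) {n : Ideal S} {m : M}
    (hm : (1 : S) ⊗ₜ[R] m ∈ n • (⊤ : Submodule S (S ⊗[R] M))) :
    m ∈ n.comap (algebraMap R S) • (⊤ : Submodule R M) := by
  have key : ∀ x ∈ n • (⊤ : Submodule S (S ⊗[R] M)),
      ∃ y ∈ n.comap (algebraMap R S) • (⊤ : Submodule R M), (1 : S) ⊗ₜ[R] y = x := by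
    intro x hx
    refine Submodule.smul_induction_on hx (fun r hr t _ => ?_) (fun a b ha hb => ?_)
    · obtain ⟨y, rfl⟩ := TensorProduct.mk_surjective R M S h t
      obtain ⟨r', rfl⟩ := h r
      exact ⟨r' • y, Submodule.smul_mem_smul hr trivial, by
        rw [TensorProduct.mk_apply, tmul_smul, algebraMap_smul]⟩
    · obtain ⟨y, hy, rfl⟩ := ha
      obtain ⟨y', hy', rfl⟩ := hb
      exact ⟨y + y', add_mem hy hy', tmul_add _ _ _⟩
  obtain ⟨y, hy, hyx⟩ := key _ hm
  have h2 := Conormal2.mem_smul_top_of_one_tmul_eq_zero h (m := m - y) (by rw [tmul_sub, hyx, sub_self])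
  have h3 : RingHom.ker (algebraMap R S) ≤ n.comap (algebraMap R S) := fun a ha => by
    rw [Ideal.mem_comap, show algebraMap R S a = 0 from ha]; exact zero_mem _
  simpa using add_mem (Submodule.smul_mono h3 le_rfl h2) hy

lemma exists_completion {S : Type u} [CommRing S] [IsLocalRing S] {r s : ℕ} (f : Fin r → S) (g : Fin s → S)
    (hle : ∀ k, f k ∈ Ideal.span (Set.range g))
    (H : ∀ c : Fin r → S, ∑ k, c k * f k ∈ IsLocalRing.maximalIdeal S * Ideal.span (Set.range g) →
      ∀ k, c k ∈ IsLocalRing.maximalIdeal S) :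
    ∃ (n : ℕ) (w : Fin n → S), n + r = s ∧ (∀ t, w t ∈ Ideal.span (Set.range g)) ∧
      Ideal.span (Set.range g) ≤ Ideal.span (Set.range f ∪ Set.range w) := by
  classical
  let m := IsLocalRing.maximalIdeal S
  let k := IsLocalRing.ResidueField S
  let K := Ideal.span (Set.range g)
  let Φ : (Fin s → S) →ₗ[S] S := Fintype.linearCombination S g
  let π : (Fin s → S) →ₗ[S] (Fin s → k) := (Algebra.linearMap S k).compLeft (Fin s)
  have hπ : Function.Surjective π := fun v => by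
    choose a ha using fun i => IsLocalRing.residue_surjective (v i)
    exact ⟨a, funext ha⟩
  have hΦK : ∀ v, Φ v ∈ K := fun v => by
    rw [Fintype.linearCombination_apply]
    exact Ideal.sum_mem _ fun i _ => Ideal.mul_mem_left _ _ (Ideal.subset_span ⟨i, rfl⟩)
  have hΦ0 : ∀ v, π v = 0 → Φ v ∈ m * K := fun v hv => by
    rw [Fintype.linearCombination_apply]
    refine Ideal.sum_mem _ fun i _ => Ideal.mul_mem_mul ?_ (Ideal.subset_span ⟨i, rfl⟩)
    exact (IsLocalRing.residue_eq_zero_iff _).1 (congrFun hv i)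
  choose M hM using fun a => Ideal.mem_span_range_iff_exists_fun.1 (hle a)
  have hMf : ∀ a, Φ (M a) = f a := fun a => by
    rw [Fintype.linearCombination_apply]; simpa only [smul_eq_mul] using hM a
  have hli : LinearIndependent k (fun a => π (M a)) := by
    rw [Fintype.linearIndependent_iff]
    intro c hc a
    choose c' hc' using fun i => IsLocalRing.residue_surjective (c i)
    have h0 : π (∑ i, c' i • M i) = 0 := by
      rw [map_sum, ← hc]
      refine Finset.sum_congr rfl fun i _ => ?_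
      rw [map_smul]
      ext x
      simp only [Pi.smul_apply, Algebra.smul_def, ← hc' i]
      rfl
    have h1 := hΦ0 _ h0
    simp only [map_sum, map_smul, hMf, smul_eq_mul] at h1
    rw [← hc' a, IsLocalRing.residue_eq_zero_iff]
    exact H c' h1 a
  let b := Module.Basis.sumExtend hli
  haveI : Fintype (Fin r ⊕ (Module.Basis.sumExtendIndex hli : Set (Fin s → k))) :=
    FiniteDimensional.fintypeBasisIndex b
  haveI : Fintype (Module.Basis.sumExtendIndex hli : Set (Fin s → k)) :=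
    @Fintype.sumRight (Fin r) _ _
  have hcard := Module.finrank_eq_nat_card_basis b
  rw [Module.finrank_fin_fun, Nat.card_sum, Nat.card_eq_fintype_card, Nat.card_eq_fintype_card, Fintype.card_fin] at hcard
  choose l hl using fun x => hπ (b x)
  let e := Fintype.equivFin (Module.Basis.sumExtendIndex hli : Set (Fin s → k))
  refine ⟨_, fun t => Φ (l (Sum.inr (e.symm t))), (Nat.add_comm _ _).trans hcard.symm, fun t => hΦK _, ?_⟩
  refine Submodule.le_of_le_smul_of_le_jacobson_bot (I := m) (Submodule.fg_span (Set.finite_range g))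
    (IsLocalRing.maximalIdeal_le_jacobson ⊥) ?_
  refine Ideal.span_le.2 ?_
  rintro _ ⟨i, rfl⟩
  have hN : ∀ x, Φ (l x) ∈ Ideal.span (Set.range f ∪ Set.range fun t => Φ (l (Sum.inr (e.symm t)))) ⊔ m • K := by
    rintro (a | t)
    · have hb : b (Sum.inl a) = π (M a) := by
        simp [b, Module.Basis.sumExtend]
        rfl
      have h0 := hΦ0 (l (Sum.inl a) - M a) (by rw [map_sub, hl, hb, sub_self])
      rw [map_sub, hMf] at h0
      exact Submodule.mem_sup.2 ⟨f a, Ideal.subset_span (Or.inl ⟨a, rfl⟩), _, h0, add_sub_cancel _ _⟩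
    · exact Submodule.mem_sup_left (Ideal.subset_span (Or.inr ⟨e t, by simp⟩))
  choose α hα using fun x => IsLocalRing.residue_surjective (b.repr (π (Pi.single i 1)) x)
  have h0 := hΦ0 (Pi.single i 1 - ∑ x, α x • l x) (by
    rw [map_sub, map_sum, sub_eq_zero]
    conv_lhs => rw [← b.sum_repr (π (Pi.single i 1))]
    refine Finset.sum_congr rfl fun x _ => ?_
    rw [map_smul, hl]
    ext y
    simp only [Pi.smul_apply, Algebra.smul_def, ← hα x]
    rfl)
  have hg : Φ (Pi.single i 1) = g i := by simp [Φ]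
  rw [map_sub, hg] at h0
  have := add_mem (Submodule.mem_sup_right (S := Ideal.span (Set.range f ∪ Set.range fun t => Φ (l (Sum.inr (e.symm t))))) h0)
    (show Φ (∑ x, α x • l x) ∈ Ideal.span (Set.range f ∪ Set.range fun t => Φ (l (Sum.inr (e.symm t)))) ⊔ m • K by
      rw [map_sum]; exact Submodule.sum_mem _ fun x _ => by rw [map_smul]; exact Submodule.smul_mem _ _ (hN x))
  simpa using this

noncomputable def rsEquiv {X : Scheme.{u}} (F : X.Modules) (U : X.Opens) (z : (U : Scheme.{u})) :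
    (F.restrict U.ι).presheaf.stalk z ≃+ F.presheaf.stalk z.1 :=
  ((Scheme.Modules.restrictStalkNatIso U.ι z).app F).addCommGroupIsoToAddEquiv

lemma rsEquiv_smul {X : Scheme.{u}} (F : X.Modules) (U : X.Opens) (z : (U : Scheme.{u}))
    (a : (U : Scheme.{u}).presheaf.stalk z) (v : (F.restrict U.ι).presheaf.stalk z) :
    rsEquiv F U z (a • v) = (U.stalkIso z).hom a • rsEquiv F U z v := by
  let e := rsEquiv F U z
  obtain ⟨W, hW, r, rfl⟩ := (U : Scheme.{u}).presheaf.exists_germ_eq a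
  obtain ⟨W', hW', m, rfl⟩ := (F.restrict U.ι).presheaf.exists_germ_eq v
  have key : ∀ (V : (U : Scheme.{u}).Opens) (hV : z ∈ V) (t : Γ(F.restrict U.ι, V)),
      e ((F.restrict U.ι).presheaf.germ V z hV t) =
        F.presheaf.germ (U.ι ''ᵁ V) z.1 ⟨z, hV, rfl⟩ ((F.restrictAppIso U.ι V).hom t) := fun V hV t =>
    ConcreteCategory.congr_hom (Scheme.Modules.germ_restrictStalkNatIso_hom_app U.ι z F hV) t
  have hstalk : ∀ (V : (U : Scheme.{u}).Opens) (hV : z ∈ V) (t : Γ((U : Scheme.{u}), V)),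
      (U.stalkIso z).hom ((U : Scheme.{u}).presheaf.germ V z hV t) =
        X.presheaf.germ (U.ι ''ᵁ V) z.1 ⟨z, hV, rfl⟩ (show Γ(X, U.ι ''ᵁ V) from t) := fun V hV t =>
    ConcreteCategory.congr_hom (Scheme.Opens.germ_stalkIso_hom U z hV) t
  show e _ = _ • e _
  rw [← TopCat.Presheaf.germ_res_apply (U : Scheme.{u}).presheaf (homOfLE (inf_le_left : W ⊓ W' ≤ W)) z ⟨hW, hW'⟩ r,
    ← TopCat.Presheaf.germ_res_apply (F.restrict U.ι).presheaf (homOfLE (inf_le_right : W ⊓ W' ≤ W')) z ⟨hW, hW'⟩ m,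
    ← M1.germ_smul, key, key, hstalk, ← M1.germ_smul]
  congr 1
  exact M1.restrict_ι_smul (M := F) _ _

lemma smul_top_map {R R' M N : Type u} [CommRing R] [IsLocalRing R] [CommRing R'] [IsLocalRing R']
    [AddCommGroup M] [Module R M] [AddCommGroup N] [Module R' N] (σ : R ≃+* R') (e : M →+ N)
    (he : ∀ a v, e (a • v) = σ a • e v) {v : M}
    (hv : v ∈ IsLocalRing.maximalIdeal R • (⊤ : Submodule R M)) :
    e v ∈ IsLocalRing.maximalIdeal R' • (⊤ : Submodule R' N) := by
  refine Submodule.smul_induction_on hv (fun r hr n _ => ?_) (fun a b ha hb => ?_)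
  · rw [he]
    refine Submodule.smul_mem_smul ?_ trivial
    rw [IsLocalRing.mem_maximalIdeal, mem_nonunits_iff] at hr ⊢
    rwa [isUnit_map_iff σ]
  · rw [map_add]; exact add_mem ha hb

lemma mem_smul_top_of_retraction {Z : Scheme.{u}} {F G : Z.Modules} (φ : F ⟶ G) (U : Z.Opens)
    (ρ : (Scheme.Modules.restrictFunctor U.ι).obj G ⟶ (Scheme.Modules.restrictFunctor U.ι).obj F)
    (h : (Scheme.Modules.restrictFunctor U.ι).map φ ≫ ρ = 𝟙 _) {z : Z} (hz : z ∈ U)
    (w : (F.presheaf.stalk z : Type u))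
    (hw : KFlat.Sch.stk φ z w ∈ IsLocalRing.maximalIdeal (Z.presheaf.stalk z) •
      (⊤ : Submodule (Z.presheaf.stalk z) (G.presheaf.stalk z : Type u))) :
    w ∈ IsLocalRing.maximalIdeal (Z.presheaf.stalk z) • (⊤ : Submodule (Z.presheaf.stalk z) (F.presheaf.stalk z : Type u)) := by
  let zU : (U : Scheme.{u}) := ⟨z, hz⟩
  let σ : (U : Scheme.{u}).presheaf.stalk zU ≃+* Z.presheaf.stalk z := (U.stalkIso zU).commRingCatIsoToRingEquiv
  obtain ⟨v, rfl⟩ := (rsEquiv F U zU).surjective w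
  have hnat : rsEquiv G U zU (KFlat.Sch.stk ((Scheme.Modules.restrictFunctor U.ι).map φ) zU v) =
      KFlat.Sch.stk φ z (rsEquiv F U zU v) :=
    ConcreteCategory.congr_hom ((Scheme.Modules.restrictStalkNatIso U.ι zU).hom.naturality φ) v
  rw [← hnat] at hw
  have h1 := smul_top_map σ.symm (rsEquiv G U zU).symm.toAddMonoidHom (fun a y => by
    apply (rsEquiv G U zU).injective
    rw [rsEquiv_smul]
    simp only [AddEquiv.coe_toAddMonoidHom, AddEquiv.apply_symm_apply]
    exact congrArg (· • y) (σ.apply_symm_apply a).symm) hw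
  rw [AddEquiv.coe_toAddMonoidHom, AddEquiv.symm_apply_apply] at h1
  have h2 := smul_top_map (RingEquiv.refl ((U : Scheme.{u}).presheaf.stalk zU))
    (KFlat.Sch.stk ρ zU).toAddMonoidHom (fun a y => map_smul (KFlat.Sch.stk ρ zU) a y) h1
  rw [LinearMap.toAddMonoidHom_coe] at h2
  have h3 : KFlat.Sch.stk ρ zU (KFlat.Sch.stk ((Scheme.Modules.restrictFunctor U.ι).map φ) zU v) = v := by
    have := congrArg (fun q => (TopCat.Presheaf.stalkFunctor AddCommGrpCat zU).map
      ((Scheme.Modules.toPresheaf (U : Scheme.{u})).map q)) h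
    simp only [Functor.map_comp, CategoryTheory.Functor.map_id] at this
    exact ConcreteCategory.congr_hom this v
  rw [h3] at h2
  exact smul_top_map σ (rsEquiv F U zU).toAddMonoidHom (fun a y => rsEquiv_smul F U zU a y) h2

lemma coeff_mem {X Y Z : Scheme.{u}} (i : Y ⟶ X) [IsClosedImmersion i] (j : Z ⟶ Y) [IsClosedImmersion j]
    (φ₁ : (Scheme.Modules.pullback j).obj (Omega.conormal i) ⟶ Omega.conormal (j ≫ i))
    (hφ₁ : OmegaSh.IsConormalMap (j ≫ i) i (𝟙 X) j φ₁) (z : Z)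
    (hret : ∀ w, KFlat.Sch.stk φ₁ z w ∈ IsLocalRing.maximalIdeal (Z.presheaf.stalk z) • (⊤ : Submodule (Z.presheaf.stalk z) _) →
      w ∈ IsLocalRing.maximalIdeal (Z.presheaf.stalk z) • (⊤ : Submodule (Z.presheaf.stalk z) _))
    (a : X.presheaf.stalk (i (j z))) (haI : a ∈ RingHom.ker (i.stalkMap (j z)).hom)
    (haK : a ∈ IsLocalRing.maximalIdeal (X.presheaf.stalk (i (j z))) *
      (RingHom.ker ((j ≫ i).stalkMap z).hom : Ideal (X.presheaf.stalk (i (j z))))) :
    a ∈ IsLocalRing.maximalIdeal (X.presheaf.stalk (i (j z))) * RingHom.ker (i.stalkMap (j z)).hom := by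
  obtain ⟨m, rfl⟩ := Conormal2.exists_incl_eq i (j z) a haI
  obtain ⟨V, hV, s, rfl⟩ := (ClSub.idealMod i.ker).presheaf.exists_germ_eq m
  rw [Conormal2.incl_germ] at haK
  obtain ⟨t, ht⟩ := GrMap12.exists_idealSect_of_app_eq_zero (j ≫ i) (M2.idealIncl i.ker s) (by
    rw [Scheme.Hom.comp_app]
    exact (congrArg (j.app (i ⁻¹ᵁ V)) (GrMap12.app_idealIncl_zero i s)).trans (map_zero _))
  -- the germ of `t` lies in `m • ⊤`
  have hsurj : ∀ b ∈ RingHom.ker ((j ≫ i).stalkMap z).hom, ∃ n, Conormal2.incl (j ≫ i) ((j ≫ i) z) n = b :=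
    fun b hb => Conormal2.exists_incl_eq (j ≫ i) z b hb
  have hle : IsLocalRing.maximalIdeal (X.presheaf.stalk ((j ≫ i) z)) * RingHom.ker ((j ≫ i).stalkMap z).hom ≤
      Submodule.map (Conormal2.incl (j ≫ i) ((j ≫ i) z)) (IsLocalRing.maximalIdeal (X.presheaf.stalk ((j ≫ i) z)) • ⊤) := by
    rw [Ideal.mul_le]
    intro r hr b hb
    obtain ⟨n, rfl⟩ := hsurj b hb
    exact ⟨r • n, Submodule.smul_mem_smul hr trivial, by rw [map_smul, smul_eq_mul]⟩
  have haK' : X.presheaf.germ V ((j ≫ i) z) hV (M2.idealIncl (j ≫ i).ker t) ∈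
      IsLocalRing.maximalIdeal (X.presheaf.stalk ((j ≫ i) z)) * RingHom.ker ((j ≫ i).stalkMap z).hom := by
    rw [ht]; exact haK
  obtain ⟨n, hn, hne⟩ := hle haK'
  rw [← Conormal2.incl_germ] at hne
  rw [Conormal2.incl_injective (j ≫ i) _ hne] at hn
  -- so does its class
  have hcl : M2.pullStalkEquiv (j ≫ i) z (ClSub.idealMod (j ≫ i).ker)
      (1 ⊗ₜ (ClSub.idealMod (j ≫ i).ker).presheaf.germ V ((j ≫ i) z) hV t) ∈
      IsLocalRing.maximalIdeal (Z.presheaf.stalk z) • (⊤ : Submodule (Z.presheaf.stalk z) _) := by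
    refine Submodule.smul_induction_on hn (fun r hr y _ => ?_) (fun a b ha hb => ?_)
    · rw [tmul_smul, ← algebraMap_smul (Z.presheaf.stalk z) r, map_smul]
      refine Submodule.smul_mem_smul ?_ trivial
      rw [IsLocalRing.mem_maximalIdeal, mem_nonunits_iff] at hr ⊢
      exact fun hu => hr ((isUnit_map_iff ((j ≫ i).stalkMap z).hom r).1 hu)
    · rw [tmul_add, map_add]; exact add_mem ha hb
  rw [M2.pullStalkEquiv_tmul] at hcl
  have e0 : ∀ (G : Z.Modules) (O : Z.Opens) (m : Γ(G, O)), M1.mres G (le_rfl : O ≤ O) m = m :=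
    fun G O m => ConcreteCategory.congr_hom (G.presheaf.map_id (Opposite.op O)) m
  have hφ : φ₁.app (j ⁻¹ᵁ (i ⁻¹ᵁ V)) (OmegaSh.pullSect j _ (i ⁻¹ᵁ V) (OmegaSh.conormalSect i V s)) =
      OmegaSh.conormalSect (j ≫ i) V t :=
    (e0 _ _ _).symm.trans ((hφ₁.2 V s t ht _ le_rfl le_rfl).trans (e0 _ _ _))
  let u : (Y.presheaf.stalk (j z)) ⊗[X.presheaf.stalk (i (j z))]
      ((ClSub.idealMod i.ker).presheaf.stalk (i (j z)) : Type u) :=
    1 ⊗ₜ (ClSub.idealMod i.ker).presheaf.germ V (i (j z)) hV s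
  have hw := hret (M2.pullStalkEquiv j z (Omega.conormal i) (1 ⊗ₜ M2.pullStalkEquiv i (j z) (ClSub.idealMod i.ker) u)) (by
    rw [M2.pullStalkEquiv_tmul]
    erw [M2.pullStalkEquiv_tmul j z (Omega.conormal i) (U := i ⁻¹ᵁ V) hV]
    refine (congrArg (· ∈ _) ?_).mpr hcl
    refine (TopCat.Presheaf.stalkFunctor_map_germ_apply (j ⁻¹ᵁ (i ⁻¹ᵁ V)) z hV
      ((Scheme.Modules.toPresheaf Z).map φ₁) _).trans ?_
    exact congrArg (fun q => (Omega.conormal (j ≫ i)).presheaf.germ (j ⁻¹ᵁ (i ⁻¹ᵁ V)) z hV q) hφ)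
  have hw2 : (1 : Z.presheaf.stalk z) ⊗ₜ[Y.presheaf.stalk (j z)] M2.pullStalkEquiv i (j z) (ClSub.idealMod i.ker) u ∈
      IsLocalRing.maximalIdeal (Z.presheaf.stalk z) • (⊤ : Submodule (Z.presheaf.stalk z) _) := by
    have := Submodule.mem_map_of_mem (f := (M2.pullStalkEquiv j z (Omega.conormal i)).symm.toLinearMap) hw
    rw [Submodule.map_smul'', LinearEquiv.coe_coe, LinearEquiv.symm_apply_apply] at this
    exact Submodule.smul_mono le_rfl le_top this
  have hw3 := mem_comap_smul_of_one_tmul_mem (j.stalkMap_surjective z) hw2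
  have hc1 : (IsLocalRing.maximalIdeal (Z.presheaf.stalk z)).comap
      (algebraMap (Y.presheaf.stalk (j z)) (Z.presheaf.stalk z)) ≤ IsLocalRing.maximalIdeal _ :=
    IsLocalRing.le_maximalIdeal (Ideal.comap_ne_top _ (IsLocalRing.maximalIdeal.isMaximal _).ne_top)
  have hw4 : u ∈ IsLocalRing.maximalIdeal (Y.presheaf.stalk (j z)) • (⊤ : Submodule (Y.presheaf.stalk (j z)) _) := by
    have := Submodule.mem_map_of_mem (f := (M2.pullStalkEquiv i (j z) (ClSub.idealMod i.ker)).symm.toLinearMap)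
      (Submodule.smul_mono hc1 le_rfl hw3)
    rw [Submodule.map_smul'', LinearEquiv.coe_coe, LinearEquiv.symm_apply_apply] at this
    exact Submodule.smul_mono le_rfl le_top this
  have hw5 := mem_comap_smul_of_one_tmul_mem (i.stalkMap_surjective (j z)) hw4
  have hc2 : (IsLocalRing.maximalIdeal (Y.presheaf.stalk (j z))).comap
      (algebraMap (X.presheaf.stalk (i (j z))) (Y.presheaf.stalk (j z))) ≤ IsLocalRing.maximalIdeal _ :=
    IsLocalRing.le_maximalIdeal (Ideal.comap_ne_top _ (IsLocalRing.maximalIdeal.isMaximal _).ne_top)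
  refine Submodule.smul_induction_on (Submodule.smul_mono hc2 le_rfl hw5) (fun r hr y _ => ?_) (fun a b ha hb => ?_)
  · rw [map_smul, smul_eq_mul]
    exact Ideal.mul_mem_mul hr (Conormal2.incl_mem_ker i (j z) y)
  · rw [map_add]; exact add_mem ha hb

lemma ker_stalkMap_eq {X Y : Scheme.{u}} (j : Y ⟶ X) {U : X.Opens} (hU : IsAffineOpen U) [IsClosedImmersion (j ∣_ U)]
    (z : Y) (hz : j z ∈ U) :
    RingHom.ker (j.stalkMap z).hom = (RingHom.ker (j.app U).hom).map (X.presheaf.germ U (j z) hz).hom := by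
  obtain ⟨hW, hs⟩ := CI2.surjective_app_of_closed j hU
  let L := X.presheaf.stalk (j z)
  letI : Algebra Γ(X, U) L := X.presheaf.algebra_section_stalk (⟨j z, hz⟩ : U)
  haveI : IsLocalization.AtPrime L (hU.primeIdealOf ⟨j z, hz⟩).asIdeal := hU.isLocalization_stalk ⟨j z, hz⟩
  letI : Algebra Γ(Y, j ⁻¹ᵁ U) (Y.presheaf.stalk z) := Y.presheaf.algebra_section_stalk (⟨z, hz⟩ : (j ⁻¹ᵁ U : Y.Opens))
  haveI : IsLocalization.AtPrime (Y.presheaf.stalk z) (hW.primeIdealOf ⟨z, hz⟩).asIdeal := hW.isLocalization_stalk ⟨z, hz⟩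
  have hgerm : ∀ a : Γ(X, U), (j.stalkMap z).hom (algebraMap Γ(X, U) L a) =
      algebraMap Γ(Y, j ⁻¹ᵁ U) (Y.presheaf.stalk z) ((j.app U).hom a) := fun a =>
    Scheme.Hom.germ_stalkMap_apply j U z hz a
  have hp : hU.primeIdealOf ⟨j z, hz⟩ = (hW.primeIdealOf ⟨z, hz⟩).comap (j.app U).hom := by
    rw [← IsAffineOpen.comap_primeIdealOf_appLE U hU (j ⁻¹ᵁ U) hW le_rfl hz, Scheme.Hom.app_eq_appLE]
  show _ = (RingHom.ker (j.app U).hom).map (algebraMap Γ(X, U) L)
  refine le_antisymm (fun x hx => ?_) (Ideal.map_le_iff_le_comap.2 fun a ha => ?_)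
  · obtain ⟨a, s, rfl⟩ := IsLocalization.exists_mk'_eq (hU.primeIdealOf ⟨j z, hz⟩).asIdeal.primeCompl x
    rw [IsLocalization.mk'_mem_iff]
    have h0 : (j.stalkMap z).hom (algebraMap Γ(X, U) L a) = 0 := by
      rw [← IsLocalization.mk'_spec L a s, map_mul, show (j.stalkMap z).hom (IsLocalization.mk' L a s) = 0 from hx,
        zero_mul]
    rw [hgerm, IsLocalization.map_eq_zero_iff (hW.primeIdealOf ⟨z, hz⟩).asIdeal.primeCompl] at h0
    obtain ⟨⟨t, ht⟩, hta⟩ := h0
    obtain ⟨t', rfl⟩ := hs t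
    have ht' : t' ∈ (hU.primeIdealOf ⟨j z, hz⟩).asIdeal.primeCompl := by rw [hp]; exact ht
    refine (Ideal.unit_mul_mem_iff_mem _ (IsLocalization.map_units L ⟨t', ht'⟩)).1 ?_
    rw [← map_mul]
    refine Ideal.mem_map_of_mem _ ?_
    rw [RingHom.mem_ker, map_mul]
    exact hta
  · show (j.stalkMap z).hom (algebraMap Γ(X, U) L a) = 0
    rw [hgerm, show (j.app U).hom a = 0 from ha, map_zero]

lemma span_range_map_get {A L : Type u} [CommRing A] [CommRing L] (φ : A →+* L) (l : List A) :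
    Ideal.span (Set.range fun k => φ (l.get k)) = (Ideal.ofList l).map φ := by
  rw [Set.range_comp' φ l.get, Set.range_list_get, ← Ideal.map_span]

/-- Let i : Y ⟶ X and j : Z ⟶ Y be closed immersions such that i and j ≫ i are Koszul-regular
immersions. Let φ₁ : j^* N_{Y/X} ⟶ N_{Z/X} and φ₂ : N_{Z/X} ⟶ N_{Z/Y} be the canonical maps between
conormal sheaves (pinned by their values on classes of local sections of the ideals). If 0 → j^*
N_{Y/X} → N_{Z/X} → N_{Z/Y} → 0 is a short exact sequence which is locally split (locally on Z, φ₁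
admits a retraction), then j is a Koszul-regular immersion. (The published statement allows
arbitrary immersions and reduces to closed ones locally; this row takes closed immersions.) -/
theorem result {X Y Z : Scheme.{u}}
    (i : Y ⟶ X) [IsClosedImmersion i] (j : Z ⟶ Y) [IsClosedImmersion j]
    (hi : RegImm.IsRegularImmersion .koszul i) (hij : RegImm.IsRegularImmersion .koszul (j ≫ i))
    (φ₁ : (Scheme.Modules.pullback j).obj (Omega.conormal i) ⟶ Omega.conormal (j ≫ i))
    (hφ₁ : OmegaSh.IsConormalMap (j ≫ i) i (𝟙 X) j φ₁)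
    (φ₂ : (Scheme.Modules.pullback (𝟙 Z)).obj (Omega.conormal (j ≫ i)) ⟶ Omega.conormal j)
    (hφ₂ : OmegaSh.IsConormalMap j (j ≫ i) i (𝟙 Z) φ₂)
    (w : φ₁ ≫ ((Scheme.Modules.pullbackId Z).inv.app (Omega.conormal (j ≫ i)) ≫ φ₂) = 0)
    (hex : (ShortComplex.mk φ₁ ((Scheme.Modules.pullbackId Z).inv.app (Omega.conormal (j ≫ i)) ≫ φ₂) w).ShortExact)
    (hsplit : ∀ z : Z, ∃ (U : Z.Opens) (ρ : (Scheme.Modules.restrictFunctor U.ι).obj (Omega.conormal (j ≫ i)) ⟶
        (Scheme.Modules.restrictFunctor U.ι).obj ((Scheme.Modules.pullback j).obj (Omega.conormal i))),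
        z ∈ U ∧ (Scheme.Modules.restrictFunctor U.ι).map φ₁ ≫ ρ = 𝟙 _) :
    RegImm.IsRegularImmersion .koszul j := by
  classical
  refine ⟨inferInstance, fun z => ?_⟩
  obtain ⟨⟨U, hU⟩, hzU, hclU, rs, hrs, hkrs⟩ := hi.2 (j z)
  obtain ⟨⟨U', hU'⟩, hzU', hclU', ts, hts, hkts⟩ := hij.2 z
  haveI := hclU
  haveI := hclU'
  obtain ⟨a, b, hab, hxa⟩ := exists_basicOpen_le_affine_inter hU hU' (i (j z)) ⟨hzU, hzU'⟩
  let D := X.basicOpen a
  have hD : IsAffineOpen D := hU.basicOpen a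
  haveI : IsLocalization.Away a Γ(X, D) := hU.isLocalization_basicOpen a
  have hleU' : D ≤ U' := le_of_eq_of_le hab (X.basicOpen_le b)
  letI : Algebra Γ(X, U') Γ(X, D) := (X.presheaf.map (homOfLE hleU').op).hom.toAlgebra
  haveI : IsLocalization.Away b Γ(X, D) := hU'.isLocalization_of_eq_basicOpen b (homOfLE hleU') hab
  let F : List Γ(X, D) := rs.map (algebraMap Γ(X, U) Γ(X, D))
  let G : List Γ(X, D) := ts.map (algebraMap Γ(X, U') Γ(X, D))
  have hF : CI2.Ex Γ(X, D) Γ(X, D) F :=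
    CI2.Ex.localization (Submonoid.powers a) ((CI2.isKoszulRegularSeq_iff_ex rs).1 hrs)
  have hG : CI2.Ex Γ(X, D) Γ(X, D) G :=
    CI2.Ex.localization (Submonoid.powers b) ((CI2.isKoszulRegularSeq_iff_ex ts).1 hts)
  have hkF : RingHom.ker (i.app D).hom = Ideal.ofList F := by
    rw [CI2.ker_app_basicOpen i hU a rfl (X.basicOpen_le a), hkrs, Ideal.map_ofList]; rfl
  have hkG : RingHom.ker ((j ≫ i).app D).hom = Ideal.ofList G := by
    rw [CI2.ker_app_basicOpen (j ≫ i) hU' b hab hleU', hkts, Ideal.map_ofList]; rfl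
  let L := X.presheaf.stalk (i (j z))
  letI : Algebra Γ(X, D) L := X.presheaf.algebra_section_stalk (⟨i (j z), hxa⟩ : D)
  let p := (hD.primeIdealOf ⟨i (j z), hxa⟩).asIdeal
  haveI : IsLocalization.AtPrime L p := hD.isLocalization_stalk ⟨i (j z), hxa⟩
  haveI : Module.Flat Γ(X, D) L := IsLocalization.flat L p.primeCompl
  let f : Fin F.length → L := fun k => algebraMap Γ(X, D) L (F.get k)
  let g : Fin G.length → L := fun k => algebraMap Γ(X, D) L (G.get k)
  have hkf : RingHom.ker (i.stalkMap (j z)).hom = Ideal.span (Set.range f) := by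
    rw [ker_stalkMap_eq i hD (j z) hxa, hkF, span_range_map_get]; rfl
  have hkg : RingHom.ker ((j ≫ i).stalkMap z).hom = Ideal.span (Set.range g) := by
    rw [ker_stalkMap_eq (j ≫ i) hD z hxa, hkG, span_range_map_get]; rfl
  have hfg : Ideal.ofList F ≤ Ideal.ofList G := by
    rw [← hkF, ← hkG]; intro x hx
    rw [RingHom.mem_ker, Scheme.Hom.comp_app]
    exact (congrArg (j.app (i ⁻¹ᵁ D)) hx).trans (map_zero _)
  obtain ⟨V, ρ, hzV, hρ⟩ := hsplit z
  obtain ⟨n, w', hn, hw', hspan⟩ := exists_completion f g (fun k => by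
    rw [span_range_map_get]
    exact Ideal.mem_map_of_mem _ (hfg (Ideal.subset_span (List.get_mem F k)))) (fun c hc => by
    refine coeff_mem_of_h1 f (RegSeq26.isH1Regular_of_flat
      (Cyc26.isH1Regular_of_isKoszulRegularSeq F ((CI2.isKoszulRegularSeq_iff_ex F).2 hF))) (fun k => ?_) c ?_
    · exact IsLocalRing.le_maximalIdeal (RingHom.ker_ne_top (i.stalkMap (j z)).hom)
        (hkf ▸ Ideal.subset_span ⟨k, rfl⟩)
    · rw [← hkf]
      refine coeff_mem i j φ₁ hφ₁ z (fun w => mem_smul_top_of_retraction φ₁ V ρ hρ hzV w) _ ?_ ?_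
      · rw [hkf]; exact Ideal.sum_mem _ fun k _ => Ideal.mul_mem_left _ _ (Ideal.subset_span ⟨k, rfl⟩)
      · exact (congrArg (IsLocalRing.maximalIdeal L * ·) hkg).symm.le hc)
  -- clear denominators
  have hw'' : ∀ t, ∃ a' ∈ Ideal.ofList G, ∃ v : L, IsUnit v ∧ w' t * v = algebraMap Γ(X, D) L a' := by
    intro t
    have := hw' t
    rw [span_range_map_get, IsLocalization.mem_map_algebraMap_iff p.primeCompl] at this
    obtain ⟨⟨⟨a', ha'⟩, s⟩, hs⟩ := this
    exact ⟨a', ha', _, IsLocalization.map_units L s, hs⟩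
  choose T hT v hv hTv using hw''
  let H : List Γ(X, D) := List.ofFn T ++ F
  have hHG : Ideal.ofList H ≤ Ideal.ofList G := by
    rw [Ideal.ofList_append]
    refine sup_le (Ideal.span_le.2 fun x hx => ?_) hfg
    obtain ⟨t, rfl⟩ := List.mem_ofFn.1 hx
    exact hT t
  have hclear : ∀ k : Fin G.length, ∃ s ∉ p, s * G.get k ∈ Ideal.ofList H := by
    intro k
    have hmem : algebraMap Γ(X, D) L (G.get k) ∈ (Ideal.ofList H).map (algebraMap Γ(X, D) L) := by
      refine Ideal.span_le.2 ?_ (hspan (Ideal.subset_span ⟨k, rfl⟩))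
      rintro _ (⟨l, rfl⟩ | ⟨t, rfl⟩)
      · exact Ideal.mem_map_of_mem _ (Ideal.subset_span (List.mem_append_right _ (List.get_mem F l)))
      · refine (Ideal.mul_unit_mem_iff_mem _ (hv t)).1 ?_
        rw [hTv]
        exact Ideal.mem_map_of_mem _ (Ideal.subset_span (List.mem_append_left _ (List.mem_ofFn.2 ⟨t, rfl⟩)))
    rw [IsLocalization.mem_map_algebraMap_iff p.primeCompl] at hmem
    obtain ⟨⟨⟨x, hx⟩, s⟩, hs⟩ := hmem
    rw [← map_mul, IsLocalization.eq_iff_exists p.primeCompl] at hs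
    obtain ⟨c, hc⟩ := hs
    refine ⟨c * s, mul_mem c.2 s.2, ?_⟩
    rw [mul_assoc, mul_comm (s : Γ(X, D)), hc]
    exact Ideal.mul_mem_left _ _ hx
  choose s hs hsG using hclear
  let h : Γ(X, D) := ∏ k, s k
  let E := X.basicOpen h
  have hE : IsAffineOpen E := hD.basicOpen h
  haveI : IsLocalization.Away h Γ(X, E) := hD.isLocalization_basicOpen h
  have hxE : i (j z) ∈ E := by
    have hp : h ∉ p := fun hh => by
      obtain ⟨k, -, hk⟩ := Ideal.IsPrime.prod_mem_iff.1 hh
      exact hs k hk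
    have h1 := hD.fromSpec_preimage_basicOpen h
    have h2 : hD.primeIdealOf ⟨i (j z), hxa⟩ ∈ hD.fromSpec ⁻¹ᵁ X.basicOpen h := by rw [h1]; exact hp
    have h3 : hD.fromSpec (hD.primeIdealOf ⟨i (j z), hxa⟩) ∈ X.basicOpen h := h2
    rwa [hD.fromSpec_primeIdealOf] at h3
  let r := algebraMap Γ(X, D) Γ(X, E)
  have heq : Ideal.ofList (H.map r) = Ideal.ofList (G.map r) := by
    rw [← Ideal.map_ofList, ← Ideal.map_ofList]
    refine le_antisymm (Ideal.map_mono hHG) ?_
    rw [Ideal.map_le_iff_le_comap]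
    refine Ideal.span_le.2 fun x hx => ?_
    obtain ⟨k, rfl⟩ := List.mem_iff_get.1 hx
    have hu : IsUnit (r (s k)) := isUnit_of_dvd_unit (map_dvd _ (Finset.dvd_prod_of_mem s (Finset.mem_univ k)))
      (IsLocalization.Away.algebraMap_isUnit h)
    show r (G.get k) ∈ (Ideal.ofList H).map r
    refine (Ideal.unit_mul_mem_iff_mem _ hu).1 ?_
    rw [← map_mul]
    exact Ideal.mem_map_of_mem _ (hsG k)
  have hlen : (H.map r).length = (G.map r).length := by simpa [H] using hn
  have hHex := CI2.ex_of_ofList_eq (CI2.Ex.localization (B := Γ(X, E)) (Submonoid.powers h) hG) heq hlen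
  rw [List.map_append] at hHex
  obtain ⟨hWE, hσ⟩ := CI2.surjective_app_of_closed i hE
  have hkFE : RingHom.ker (i.app E).hom = Ideal.ofList (F.map r) := by
    rw [CI2.ker_app_basicOpen i hD h rfl (X.basicOpen_le h), hkF, Ideal.map_ofList]; rfl
  have hkHE : RingHom.ker ((j ≫ i).app E).hom = Ideal.ofList ((List.ofFn T).map r ++ F.map r) := by
    rw [CI2.ker_app_basicOpen (j ≫ i) hD h rfl (X.basicOpen_le h), hkG, Ideal.map_ofList,
      ← List.map_append]
    exact heq.symm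
  have hex' := CI2.ex_of_append_of_surjective (i.app E).hom hσ hkFE
    (CI2.Ex.localization (B := Γ(X, E)) (Submonoid.powers h) hF) hHex
  refine ⟨⟨i ⁻¹ᵁ E, hWE⟩, hxE, inferInstance, _, (CI2.isKoszulRegularSeq_iff_ex _).2 hex', ?_⟩
  show RingHom.ker (j.app (i ⁻¹ᵁ E)).hom = _
  have hcomp : RingHom.ker ((j ≫ i).app E).hom = (RingHom.ker (j.app (i ⁻¹ᵁ E)).hom).comap (i.app E).hom := by
    rw [Scheme.Hom.comp_app, RingHom.comap_ker]; rfl
  rw [← Ideal.map_comap_of_surjective (i.app E).hom hσ (RingHom.ker (j.app (i ⁻¹ᵁ E)).hom), ← hcomp, hkHE,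
    Ideal.ofList_append, Ideal.map_sup, Ideal.map_ofList, ← hkFE,
    (Ideal.map_eq_bot_iff_le_ker _).2 le_rfl, sup_bot_eq]

end Groth.Agent.S8675
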