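import Groth.Statements.S8678
import Groth.Agent.Lib.Lambda.Series

set_option autoImplicit false
universe u
open Finset
open LambdaRing

namespace Groth.Agent.S8678

/-- As the identity it proves in the pre-λ-ring K(Y') of the exceptional divisor: let K be a pre-λ-ring
(λ^0 = 1, λ^1 = id, additive formula) with λ^k(1) = 0 for all k ≥ 2, let d ≥ 2, and let F, L, N' ∈ K
satisfy λ^j(L) = 0 for j ≥ 2 (L is the class of an invertible module), λ^i(N') = 0 for i ≥ d − 1 (N'
is the class of a bundle of rank d − 2) and F + L = N' + 2 (for the blowing up of a regular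
immersion of codimension d: on the exceptional divisor the pulled-back conormal class is F + L, and
N = N' + 2). Then 1 − L divides λ_{−1}(F) = Σ_{i<d} (−1)^i λ^i(F). (The published proof uses only
additivity of λ_t and λ_t(1) = 1 + t, the hypotheses taken here.) -/
theorem result (K : Type u) [CommRing K] [LambdaRing.LambdaOps K]
    (h1 : ∀ k : ℕ, 2 ≤ k → LambdaRing.LambdaOps.lam k (1 : K) = 0) (d : ℕ) (hd : 2 ≤ d) (F L N' : K)
    (hL : ∀ j : ℕ, 2 ≤ j → LambdaRing.LambdaOps.lam j L = 0) (hN' : ∀ i : ℕ, d - 1 ≤ i → LambdaRing.LambdaOps.lam i N' = 0)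
    (hrel : F + L = N' + 2) :
    (1 - L) ∣ ∑ i ∈ range d, (-1 : K) ^ i * LambdaRing.LambdaOps.lam i F := by
  classical
  let π := Ideal.Quotient.mk (Ideal.span {1 - L})
  suffices h : π (∑ i ∈ range d, (-1 : K) ^ i * LambdaRing.LambdaOps.lam i F) = 0 by
    exact Ideal.mem_span_singleton.1 (Ideal.Quotient.eq_zero_iff_mem.1 h)
  have hL1 : π L = 1 := by
    rw [← map_one π, eq_comm, Ideal.Quotient.eq]; exact Ideal.mem_span_singleton_self _
  have h := congrArg (fun z => PowerSeries.map π (LambdaRing.lamSeries z)) hrel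
  have h2 : (2 : K) = ((2 : ℕ) : K) := by norm_num
  simp only [Groth.Agent.Lambda.lamSeries_add, h2, Groth.Agent.Lambda.lamSeries_natCast h1,
    Groth.Agent.Lambda.lamSeries_of_lam_eq_zero hL, map_mul, map_add, map_one, map_pow,
    PowerSeries.map_C, PowerSeries.map_X, hL1, one_mul, pow_two, ← mul_assoc] at h
  have hu : IsUnit (1 + PowerSeries.X : PowerSeries (K ⧸ Ideal.span {1 - L})) :=
    PowerSeries.isUnit_iff_constantCoeff.2 (by simp)
  replace h := hu.mul_right_cancel h
  have hc : ∀ i, π (LambdaRing.LambdaOps.lam (i + 1) F) =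
      π (LambdaRing.LambdaOps.lam (i + 1) N') + π (LambdaRing.LambdaOps.lam i N') := by
    intro i
    have := congrArg (PowerSeries.coeff (i + 1)) h
    rwa [mul_add, mul_one, map_add, PowerSeries.coeff_succ_mul_X, PowerSeries.coeff_map,
      PowerSeries.coeff_map, PowerSeries.coeff_map, Groth.Agent.Lambda.coeff_lamSeries,
      Groth.Agent.Lambda.coeff_lamSeries, Groth.Agent.Lambda.coeff_lamSeries] at this
  have ht : ∀ m, π (∑ i ∈ range (m + 1), (-1 : K) ^ i * LambdaRing.LambdaOps.lam i F) =
      (-1) ^ m * π (LambdaRing.LambdaOps.lam m N') := by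
    intro m
    induction m with
    | zero => simp [LambdaRing.LambdaOps.lam_zero]
    | succ m ih => rw [Finset.sum_range_succ, map_add, ih, map_mul, map_pow, map_neg, map_one, hc,
        pow_succ]; ring
  obtain ⟨e, rfl⟩ : ∃ e, d = e + 1 := ⟨d - 1, by omega⟩
  rw [ht, hN' e (by omega), map_zero, mul_zero]

end Groth.Agent.S8678
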