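import Groth.Statements.S8679
import Groth.Agent.Lib.Conormal2.Incl
import Groth.Agent.Lib.Cyc26.KoszulH1
import Groth.Agent.Lib.RegSeq26.FlatBC
import Groth.Agent.Lib.CI2.RImm

set_option autoImplicit false
universe u
open CategoryTheory CategoryTheory.Limits AlgebraicGeometry
open RegImm

namespace Groth.Agent.S8679
open CategoryTheory AlgebraicGeometry
open RegImm

open Groth.Agent TensorProduct

lemma inf_mul_le {R S : Type u} [CommRing R] [CommRing S] (p : R →+* S) (hp : Function.Surjective p)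
    {c : ℕ} (g : Fin c → S) (hg : CAlgX.IsH1Regular g) (K : Ideal R)
    (hK : K = (Ideal.span (Set.range g)).comap p) {x : R} (hx : x ∈ RingHom.ker p) (hx2 : x ∈ K * K) :
    x ∈ RingHom.ker p * K := by
  classical
  choose G hG using fun k => hp (g k)
  have hGK : ∀ k, G k ∈ K := fun k => by
    rw [hK, Ideal.mem_comap, hG]; exact Ideal.subset_span ⟨k, rfl⟩
  have hdec : ∀ b ∈ K, ∃ b₀ ∈ RingHom.ker p, ∃ v : Fin c → R, b = b₀ + ∑ k, v k * G k := by
    intro b hb
    rw [hK, Ideal.mem_comap] at hb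
    obtain ⟨u, hu⟩ := Ideal.mem_span_range_iff_exists_fun.1 hb
    choose v hv using fun k => hp (u k)
    exact ⟨b - ∑ k, v k * G k, by simp [RingHom.mem_ker, hv, hG, hu], v, by ring⟩
  have hdec2 : ∀ y ∈ K * K, ∃ w ∈ RingHom.ker p * K, ∃ v : Fin c → R, y = w + ∑ k, v k * G k := by
    intro y hy
    induction hy using Submodule.mul_induction_on' with
    | mem_mul_mem a ha b hb =>
      obtain ⟨b₀, hb₀, v, rfl⟩ := hdec b hb
      refine ⟨b₀ * a, Ideal.mul_mem_mul hb₀ ha, fun k => a * v k, ?_⟩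
      rw [mul_add, mul_comm a b₀, Finset.mul_sum]
      simp only [mul_assoc]
    | add a _ b _ ha hb =>
      obtain ⟨w, hw, v, rfl⟩ := ha
      obtain ⟨w', hw', v', rfl⟩ := hb
      refine ⟨w + w', add_mem hw hw', v + v', ?_⟩
      simp only [Pi.add_apply, add_mul, Finset.sum_add_distrib]
      abel
  have hlift : ∀ u ∈ Submodule.span S {v : Fin c → S | ∃ i j : Fin c, v = Pi.single i (g j) - Pi.single j (g i)},
      ∃ U : Fin c → R, (∀ k, p (U k) = u k) ∧ ∑ k, U k * G k ∈ RingHom.ker p * K := by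
    intro u hu
    induction hu using Submodule.span_induction with
    | mem u hu =>
      obtain ⟨i, j, rfl⟩ := hu
      refine ⟨Pi.single i (G j) - Pi.single j (G i), fun k => ?_, ?_⟩
      · simp [Pi.single_apply, apply_ite p, hG]
      · simp [Pi.single_apply, sub_mul, ite_mul, mul_comm (G j)]
    | zero => exact ⟨0, fun k => map_zero p, by simp⟩
    | add a b _ _ ha hb =>
      obtain ⟨U, hU, hU'⟩ := ha
      obtain ⟨V, hV, hV'⟩ := hb
      exact ⟨U + V, fun k => by simp [hU, hV], by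
        simp only [Pi.add_apply, add_mul, Finset.sum_add_distrib]; exact add_mem hU' hV'⟩
    | smul s a _ ha =>
      obtain ⟨U, hU, hU'⟩ := ha
      obtain ⟨r, rfl⟩ := hp s
      refine ⟨r • U, fun k => by simp [hU], ?_⟩
      simp only [Pi.smul_apply, smul_eq_mul, mul_assoc, ← Finset.mul_sum]
      exact Ideal.mul_mem_left _ _ hU'
  obtain ⟨w, hw, v, rfl⟩ := hdec2 x hx2
  have hw0 : p w = 0 := Ideal.mul_le_left hw
  have hsum : ∑ k, p (v k) * g k = 0 := by
    simpa [RingHom.mem_ker, hw0, hG] using hx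
  obtain ⟨U, hU, hU'⟩ := hlift _ (hg _ hsum)
  have e : ∑ k, v k * G k = ∑ k, (v k - U k) * G k + ∑ k, U k * G k := by
    rw [← Finset.sum_add_distrib]; simp [← add_mul]
  rw [e]
  exact add_mem hw (add_mem (Ideal.sum_mem _ fun k _ =>
    Ideal.mul_mem_mul (by simp [RingHom.mem_ker, hU]) (hGK k)) hU')

lemma one_tmul_smul_eq_zero {S T N : Type u} [CommRing S] [CommRing T] [Algebra S T] [AddCommGroup N]
    [Module S N] {s : S} (hs : algebraMap S T s = 0) (n : N) : (1 : T) ⊗ₜ[S] (s • n) = 0 := by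
  rw [tmul_smul, smul_tmul', Algebra.smul_def, hs, zero_mul, zero_tmul]

lemma exists_h1_ker_stalkMap {X Y : Scheme.{u}} (j : Y ⟶ X) (hj : RegImm.IsRegularImmersion .koszul j) (z : Y) :
    ∃ (c : ℕ) (g : Fin c → X.presheaf.stalk (j z)), CAlgX.IsH1Regular g ∧
      RingHom.ker (j.stalkMap z).hom = Ideal.span (Set.range g) := by
  obtain ⟨U, hz, hcl, rs, hrs, hker⟩ := hj.2 z
  haveI := hcl
  obtain ⟨hW, hs⟩ := CI2.surjective_app_of_closed j U.2
  let L := X.presheaf.stalk (j z)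
  letI : Algebra Γ(X, U.1) L := X.presheaf.algebra_section_stalk (⟨j z, hz⟩ : U.1)
  haveI : IsLocalization.AtPrime L (U.2.primeIdealOf ⟨j z, hz⟩).asIdeal := U.2.isLocalization_stalk ⟨j z, hz⟩
  haveI : Module.Flat Γ(X, U.1) L := IsLocalization.flat L (U.2.primeIdealOf ⟨j z, hz⟩).asIdeal.primeCompl
  letI : Algebra Γ(Y, j ⁻¹ᵁ U.1) (Y.presheaf.stalk z) := Y.presheaf.algebra_section_stalk (⟨z, hz⟩ : (j ⁻¹ᵁ U.1 : Y.Opens))
  haveI : IsLocalization.AtPrime (Y.presheaf.stalk z) (hW.primeIdealOf ⟨z, hz⟩).asIdeal := hW.isLocalization_stalk ⟨z, hz⟩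
  have hgerm : ∀ a : Γ(X, U.1), (j.stalkMap z).hom (algebraMap Γ(X, U.1) L a) =
      algebraMap Γ(Y, j ⁻¹ᵁ U.1) (Y.presheaf.stalk z) ((j.app U.1).hom a) := fun a =>
    Scheme.Hom.germ_stalkMap_apply j U.1 z hz a
  have hp : U.2.primeIdealOf ⟨j z, hz⟩ = (hW.primeIdealOf ⟨z, hz⟩).comap (j.app U.1).hom := by
    rw [← IsAffineOpen.comap_primeIdealOf_appLE U.1 U.2 (j ⁻¹ᵁ U.1) hW le_rfl hz, Scheme.Hom.app_eq_appLE]
  refine ⟨rs.length, fun k => algebraMap Γ(X, U.1) L (rs.get k),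
    RegSeq26.isH1Regular_of_flat (Cyc26.isH1Regular_of_isKoszulRegularSeq rs hrs), ?_⟩
  rw [Set.range_comp' (algebraMap Γ(X, U.1) L) rs.get, Set.range_list_get, ← Ideal.map_span,
    show Ideal.span {x | x ∈ rs} = RingHom.ker (j.app U.1).hom from hker.symm]
  refine le_antisymm (fun x hx => ?_) (Ideal.map_le_iff_le_comap.2 fun a ha => ?_)
  · obtain ⟨a, s, rfl⟩ := IsLocalization.exists_mk'_eq (U.2.primeIdealOf ⟨j z, hz⟩).asIdeal.primeCompl x
    rw [IsLocalization.mk'_mem_iff]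
    have h0 : (j.stalkMap z).hom (algebraMap Γ(X, U.1) L a) = 0 := by
      rw [← IsLocalization.mk'_spec L a s, map_mul, show (j.stalkMap z).hom (IsLocalization.mk' L a s) = 0 from hx,
        zero_mul]
    rw [hgerm, IsLocalization.map_eq_zero_iff (hW.primeIdealOf ⟨z, hz⟩).asIdeal.primeCompl] at h0
    obtain ⟨⟨t, ht⟩, hta⟩ := h0
    obtain ⟨t', rfl⟩ := hs t
    have ht' : t' ∈ (U.2.primeIdealOf ⟨j z, hz⟩).asIdeal.primeCompl := by rw [hp]; exact ht
    refine (Ideal.unit_mul_mem_iff_mem _ (IsLocalization.map_units L ⟨t', ht'⟩)).1 ?_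
    rw [← map_mul]
    refine Ideal.mem_map_of_mem _ ?_
    rw [RingHom.mem_ker, map_mul]
    exact hta
  · show (j.stalkMap z).hom (algebraMap Γ(X, U.1) L a) = 0
    rw [hgerm, show (j.app U.1).hom a = 0 from ha, map_zero]

/-- Let i : Y ⟶ X and j : Z ⟶ Y be Koszul-regular closed immersions and let φ₁ : j^* N_{Y/X} ⟶ N_{Z/X},
φ₂ : N_{Z/X} ⟶ N_{Z/Y} be the canonical maps between conormal sheaves (pinned by their values on
classes of local sections of the ideals). Then the composite is zero and 0 → j^* N_{Y/X} → N_{Z/X} →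
N_{Z/Y} → 0 is short exact. (The published statement allows arbitrary immersions; this row takes
closed immersions.) -/
theorem result {X Y Z : Scheme.{u}}
    (i : Y ⟶ X) [IsClosedImmersion i] (j : Z ⟶ Y) [IsClosedImmersion j]
    (hi : RegImm.IsRegularImmersion .koszul i) (hj : RegImm.IsRegularImmersion .koszul j)
    (φ₁ : (Scheme.Modules.pullback j).obj (Omega.conormal i) ⟶ Omega.conormal (j ≫ i))
    (hφ₁ : OmegaSh.IsConormalMap (j ≫ i) i (𝟙 X) j φ₁)
    (φ₂ : (Scheme.Modules.pullback (𝟙 Z)).obj (Omega.conormal (j ≫ i)) ⟶ Omega.conormal j)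
    (hφ₂ : OmegaSh.IsConormalMap j (j ≫ i) i (𝟙 Z) φ₂) :
    ∃ w : φ₁ ≫ ((Scheme.Modules.pullbackId Z).inv.app (Omega.conormal (j ≫ i)) ≫ φ₂) = 0,
      (ShortComplex.mk φ₁ ((Scheme.Modules.pullbackId Z).inv.app (Omega.conormal (j ≫ i)) ≫ φ₂) w).ShortExact := by
  obtain ⟨h0, hex, hepi⟩ := GrMap12.exact_conormal φ₁ hφ₁ φ₂ hφ₂
  haveI := hepi
  refine ⟨h0, { exact := hex, mono_f := ?_, epi_g := epi_comp _ _ }⟩
  refine (M1.mono_iff_stalk _).2 fun z => ?_
  refine (injective_iff_map_eq_zero _).2 fun w hw => ?_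
  obtain ⟨u, rfl⟩ := (M2.pullStalkEquiv j z (Omega.conormal i)).surjective w
  obtain ⟨a, rfl⟩ := TensorProduct.mk_surjective (Y.presheaf.stalk (j z))
    ((Omega.conormal i).presheaf.stalk (j z) : Type u) (Z.presheaf.stalk z) (j.stalkMap_surjective z) u
  obtain ⟨u', rfl⟩ := (M2.pullStalkEquiv i (j z) (ClSub.idealMod i.ker)).surjective a
  obtain ⟨m, rfl⟩ := TensorProduct.mk_surjective (X.presheaf.stalk (i (j z)))
    ((ClSub.idealMod i.ker).presheaf.stalk (i (j z)) : Type u) (Y.presheaf.stalk (j z)) (i.stalkMap_surjective _) u'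
  suffices hm : m ∈ RingHom.ker (((i.stalkMap (j z)) ≫ j.stalkMap z).hom) • (⊤ : Submodule _ _) by
    rw [TensorProduct.mk_apply, TensorProduct.mk_apply]
    refine Submodule.smul_induction_on hm (fun r hr n _ => ?_) (fun a b ha hb => ?_)
    · rw [tmul_smul, ← algebraMap_smul (Y.presheaf.stalk (j z)) r, map_smul]
      exact (congrArg (M2.pullStalkEquiv j z (Omega.conormal i)) (one_tmul_smul_eq_zero (T := Z.presheaf.stalk z) (s := algebraMap (X.presheaf.stalk (i (j z))) (Y.presheaf.stalk (j z)) r) hr _)).trans (map_zero _)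
    · rw [tmul_add, map_add]
      refine ((congrArg (M2.pullStalkEquiv j z (Omega.conormal i)) (TensorProduct.tmul_add _ _ _)).trans
        (map_add _ _ _)).trans ?_
      exact (congrArg₂ (· + ·) ha hb).trans (add_zero _)
  obtain ⟨V, hV, s, rfl⟩ := (ClSub.idealMod i.ker).presheaf.exists_germ_eq m
  obtain ⟨t, ht⟩ := GrMap12.exists_idealSect_of_app_eq_zero (j ≫ i) (M2.idealIncl i.ker s) (by
    rw [Scheme.Hom.comp_app]
    exact (congrArg (j.app (i ⁻¹ᵁ V)) (GrMap12.app_idealIncl_zero i s)).trans (map_zero _))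
  have e0 : ∀ (G : Z.Modules) (O : Z.Opens) (m : Γ(G, O)), M1.mres G (le_rfl : O ≤ O) m = m :=
    fun G O m => ConcreteCategory.congr_hom (G.presheaf.map_id (Opposite.op O)) m
  have hφ : φ₁.app (j ⁻¹ᵁ (i ⁻¹ᵁ V)) (OmegaSh.pullSect j _ (i ⁻¹ᵁ V) (OmegaSh.conormalSect i V s)) =
      OmegaSh.conormalSect (j ≫ i) V t :=
    (e0 _ _ _).symm.trans ((hφ₁.2 V s t ht _ le_rfl le_rfl).trans (e0 _ _ _))
  rw [TensorProduct.mk_apply, TensorProduct.mk_apply, M2.pullStalkEquiv_tmul] at hw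
  erw [M2.pullStalkEquiv_tmul j z (Omega.conormal i) (U := i ⁻¹ᵁ V) hV] at hw
  have hw' : M2.pullStalkEquiv (j ≫ i) z (ClSub.idealMod (j ≫ i).ker)
      (1 ⊗ₜ (ClSub.idealMod (j ≫ i).ker).presheaf.germ V ((j ≫ i) z) hV t) = 0 := by
    rw [M2.pullStalkEquiv_tmul]
    refine Eq.trans ?_ hw
    refine Eq.trans ?_ (TopCat.Presheaf.stalkFunctor_map_germ_apply (j ⁻¹ᵁ (i ⁻¹ᵁ V)) z hV
      ((Scheme.Modules.toPresheaf Z).map φ₁) _).symm
    exact congrArg (fun q => (Omega.conormal (j ≫ i)).presheaf.germ (j ⁻¹ᵁ (i ⁻¹ᵁ V)) z hV q) hφ.symm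
  rw [LinearEquiv.map_eq_zero_iff] at hw'
  have hK := Conormal2.mem_smul_top_of_one_tmul_eq_zero ((j ≫ i).stalkMap_surjective z) hw'
  let K : Ideal (X.presheaf.stalk (i (j z))) := RingHom.ker (((i.stalkMap (j z)) ≫ j.stalkMap z).hom)
  have hcomp : RingHom.ker ((j ≫ i).stalkMap z).hom = K := by rw [Scheme.Hom.stalkMap_comp]; rfl
  have hb0 : Conormal2.incl (j ≫ i) ((j ≫ i) z) ((ClSub.idealMod (j ≫ i).ker).presheaf.germ V ((j ≫ i) z) hV t) ∈
      RingHom.ker ((j ≫ i).stalkMap z).hom * RingHom.ker ((j ≫ i).stalkMap z).hom :=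
    Submodule.smul_induction_on hK (fun r hr n _ => by
      rw [map_smul, smul_eq_mul]
      exact Ideal.mul_mem_mul hr (Conormal2.incl_mem_ker (j ≫ i) z n))
      (fun a b ha hb => by rw [map_add]; exact add_mem ha hb)
  rw [Conormal2.incl_germ, hcomp, ht] at hb0
  have hb : X.presheaf.germ V (i (j z)) hV (M2.idealIncl i.ker s) ∈ K * K := hb0
  obtain ⟨c, g, hg, hgker⟩ := exists_h1_ker_stalkMap j hj z
  have hI : X.presheaf.germ V (i (j z)) hV (M2.idealIncl i.ker s) ∈ RingHom.ker (i.stalkMap (j z)).hom := by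
    rw [← Conormal2.incl_germ]; exact Conormal2.incl_mem_ker i (j z) _
  have hIK := inf_mul_le (i.stalkMap (j z)).hom (i.stalkMap_surjective _) g hg K (by
    rw [← hgker, RingHom.comap_ker]; rfl) hI hb
  have hle : RingHom.ker (i.stalkMap (j z)).hom * K ≤
      Submodule.map (Conormal2.incl i (i (j z))) (K • ⊤) := by
    rw [Ideal.mul_le]
    intro a ha b hbK
    obtain ⟨n, rfl⟩ := Conormal2.exists_incl_eq i (j z) a ha
    exact ⟨b • n, Submodule.smul_mem_smul hbK trivial, by rw [map_smul, smul_eq_mul, mul_comm]⟩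
  obtain ⟨n, hn, hne⟩ := hle hIK
  rw [← Conormal2.incl_germ] at hne
  rwa [← Conormal2.incl_injective i _ hne]

end Groth.Agent.S8679
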