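import Groth.Statements.S8682
import Groth.Agent.Lib.SyntRank2.Double
import Groth.Agent.Lib.Omega12.Exists
import Groth.Agent.Lib.Omega12.LocFree
import Groth.Agent.Lib.Omega12.MonoFS
import Groth.Agent.Lib.Omega12.Transitive
import Groth.Agent.Lib.GrMap12.MonoRel
import Groth.Agent.Lib.GrMap12.ConormalDiff
import Groth.Agent.Lib.SmoothLift15.Main
import Groth.Agent.Lib.KFlat.LpullPC

set_option autoImplicit false
universe u
open CategoryTheory CategoryTheory.Limits AlgebraicGeometry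
attribute [local instance] HasDerivedCategory.standard
open Synt

namespace Groth.Agent.S8682
open CategoryTheory CategoryTheory.Limits AlgebraicGeometry
open Synt

open Groth.Agent

lemma conormal_hom_ext {X V : Scheme.{u}} (i : X ⟶ V) {F : X.Modules} {φ φ' : Omega.conormal i ⟶ F}
    (h : ∀ (U : V.Opens) (s : Γ(ClSub.idealMod i.ker, U)),
      φ.app (i ⁻¹ᵁ U) (OmegaSh.conormalSect i U s) = φ'.app (i ⁻¹ᵁ U) (OmegaSh.conormalSect i U s)) : φ = φ' := by
  let adj := Scheme.Modules.pullbackPushforwardAdjunction i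
  have e : ∀ (φ : Omega.conormal i ⟶ F) (U : V.Opens) (s : Γ(ClSub.idealMod i.ker, U)),
      (adj.homEquiv _ _ φ).app U s = φ.app (i ⁻¹ᵁ U) (OmegaSh.conormalSect i U s) := fun φ U s => by
    rw [Adjunction.homEquiv_unit]; rfl
  refine (adj.homEquiv _ _).injective (Scheme.Modules.hom_ext _ _ fun U => ?_)
  ext s
  exact ((e φ U s).trans (h U s)).trans (e φ' U s).symm

/-- A factorisation lifted to a scheme smooth over it has the same complex. -/
lemma main {X Y V W : Scheme.{u}} (g : V ⟶ Y) [Smooth g] (p : W ⟶ V) [Smooth p] (k : X ⟶ W) [IsClosedImmersion k]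
    (h : W ⟶ Y) (hp : p ≫ g = h) (i : X ⟶ V) [IsClosedImmersion i] (hk : k ≫ p = i)
    (Ω : V.Modules) (d : OmegaSh.Der g Ω) (hd : OmegaSh.IsUniversal d)
    (φ : Omega.conormal i ⟶ (Scheme.Modules.pullback i).obj Ω) (hφ : OmegaSh.IsConormalDiff i d φ)
    (Ω₀ : W.Modules) (d₀ : OmegaSh.Der h Ω₀) (hd₀ : OmegaSh.IsUniversal d₀)
    (φ₀ : Omega.conormal k ⟶ (Scheme.Modules.pullback k).obj Ω₀) (hφ₀ : OmegaSh.IsConormalDiff k d₀ φ₀) :
    Nonempty (DCoh.toD X (HomologicalComplex.double φ (show (ComplexShape.up ℤ).Rel (-1 : ℤ) 0 from neg_add_cancel (1 : ℤ))) ≅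
      DCoh.toD X (HomologicalComplex.double φ₀ (show (ComplexShape.up ℤ).Rel (-1 : ℤ) 0 from neg_add_cancel (1 : ℤ)))) := by
  subst hp
  subst hk
  have hfs := SmoothLift15.isFormallySmoothHom_of_smooth p
  -- differentials
  obtain ⟨Ωp, dp, hdp⟩ := Omega12.exists_isUniversal p
  obtain ⟨c, hc, -⟩ := Omega12.existsUnique_diffCompat (h := p) (f := g) (f' := p ≫ g) (b := 𝟙 Y) (Category.comp_id _) hd d₀
  obtain ⟨c', hc', -⟩ := Omega12.existsUnique_diffCompat (h := 𝟙 W) (f := p ≫ g) (f' := p) (b := g)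
    (by rw [Category.id_comp]) hd₀ dp
  haveI : Mono c := Omega12.mono_diffCompat_of_formallySmooth rfl hfs hd hd₀ hc
  obtain ⟨hepi, himg⟩ := Omega12.exact_comp p g Ω d hd Ω₀ d₀ hd₀ Ωp dp hdp c hc c' hc'
  let e₀ := (Scheme.Modules.pullbackId W).inv.app Ω₀ ≫ c'
  haveI : Epi e₀ := by haveI := hepi; exact epi_comp _ _
  have hw0 : c ≫ e₀ = 0 := by
    refine (kernelSubobject_factors_iff e₀ c).1 ?_
    show (kernelSubobject ((Scheme.Modules.pullbackId W).inv.app Ω₀ ≫ c')).Factors c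
    rw [← himg]
    exact (Category.id_comp c) ▸ imageSubobject_factors_comp_self c (𝟙 _)
  have hS0 : (ShortComplex.mk c e₀ hw0).ShortExact :=
    { exact := (ShortComplex.exact_iff_image_eq_kernel _).2 himg }
  haveI : Mono ((Scheme.Modules.pullback k).map c) := KFlat.Sch.mono_pullback_map k _ hS0
    ((KFlat.Sch.isFlat_iff _).2 (KFlat.Sch.isFlat_of_isFinLocFree (Omega12.isFinLocFree_receptacle_of_smooth p hdp)))
  haveI : PreservesFiniteColimits (Scheme.Modules.pullback k) := KFlat.Sch.preservesFiniteColimits_pullback k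
  haveI : (Scheme.Modules.pullback k).PreservesZeroMorphisms := inferInstance
  have hSk : ((ShortComplex.mk c e₀ hw0).map (Scheme.Modules.pullback k)).ShortExact :=
    { exact := hS0.exact.map_of_epi_of_preservesCokernel _ inferInstance inferInstance
      mono_f := inferInstanceAs (Mono ((Scheme.Modules.pullback k).map c))
      epi_g := inferInstanceAs (Epi ((Scheme.Modules.pullback k).map e₀)) }
  let q := (Scheme.Modules.pullback k).map e₀
  let η := (Scheme.Modules.pullbackComp k p).app Ω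
  let b : (Scheme.Modules.pullback (k ≫ p)).obj Ω ⟶ (Scheme.Modules.pullback k).obj Ω₀ :=
    η.inv ≫ (Scheme.Modules.pullback k).map c
  have wb : b ≫ q = 0 := by
    rw [Category.assoc, ← Functor.map_comp, hw0, Functor.map_zero, comp_zero]
  have hb : (ShortComplex.mk b q wb).ShortExact :=
    ShortComplex.shortExact_of_iso (ShortComplex.isoMk (S₁ := (ShortComplex.mk c e₀ hw0).map (Scheme.Modules.pullback k))
      (S₂ := ShortComplex.mk b q wb) η (Iso.refl _) (Iso.refl _)
      ((Iso.hom_inv_id_assoc η _).trans (Category.comp_id _).symm) ((Category.id_comp _).trans (Category.comp_id _).symm)) hSk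
  -- conormal sheaves
  obtain ⟨ψ, hψ, -⟩ := GrMap12.existsUnique_conormalMap (i := k) (i' := k ≫ p) (g := p) (gZ := 𝟙 X)
    (Category.id_comp _)
  obtain ⟨φp, hφp, -⟩ := GrMap12.existsUnique_conormalDiff (i := k) dp
  haveI : Mono ψ := GrMap12.mono_conormalMap_of_formallySmooth hfs rfl hψ
  obtain ⟨w, hex, hepi'⟩ := GrMap12.exact_relative rfl hdp ψ hψ φp hφp
  haveI := hepi'
  have hS : (ShortComplex.mk ψ φp w).ShortExact := { exact := hex, mono_f := inferInstanceAs (Mono ψ), epi_g := hepi' }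
  let a := (Scheme.Modules.pullbackId X).inv.app (Omega.conormal (k ≫ p)) ≫ ψ
  have wa : a ≫ φp = 0 := by rw [Category.assoc, w, comp_zero]
  have ha : (ShortComplex.mk a φp wa).ShortExact :=
    ShortComplex.shortExact_of_iso (ShortComplex.isoMk (S₁ := ShortComplex.mk ψ φp w) (S₂ := ShortComplex.mk a φp wa)
      ((Scheme.Modules.pullbackId X).app (Omega.conormal (k ≫ p)))
      (Iso.refl _) (Iso.refl _) (by simp [a]) (by simp)) hS
  -- the squares
  have hq : φ₀ ≫ q = φp := conormal_hom_ext k fun U s => by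
    rw [Scheme.Modules.Hom.comp_app]
    show q.app _ (φ₀.app _ (OmegaSh.conormalSect k U s)) = _
    rw [hφ₀ U s, hφp U s]
    refine (FormalH7.pullSec_naturality k e₀ _).trans (congrArg (M2.pullSec k Ωp) ?_)
    show c'.app U (((Scheme.Modules.pullbackId W).inv.app Ω₀).app U (d₀.app U (OmegaSh.idealSect k.ker U s))) = _
    rw [Omega12.pullbackId_inv_app]
    exact (hc' U _).trans rfl
  have hab : a ≫ φ₀ = φ ≫ b := conormal_hom_ext (k ≫ p) fun U s => by
    obtain ⟨t, ht⟩ := GrMap12.exists_lift_idealSect (i := k) (p := p) (j := k ≫ p) rfl s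
    have e0 : ∀ (G : X.Modules) (O : X.Opens) (m : Γ(G, O)), M1.mres G (le_rfl : O ≤ O) m = m :=
      fun G O m => ConcreteCategory.congr_hom (G.presheaf.map_id (Opposite.op O)) m
    have ha' : a.app _ (OmegaSh.conormalSect (k ≫ p) U s) = OmegaSh.conormalSect k (p ⁻¹ᵁ U) t := by
      show ψ.app _ (((Scheme.Modules.pullbackId X).inv.app _).app _ (OmegaSh.conormalSect (k ≫ p) U s)) = _
      rw [Omega12.pullbackId_inv_app]
      exact (e0 _ _ _).symm.trans ((hψ.2 U s t ht _ le_rfl le_rfl).trans (e0 _ _ _))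
    show φ₀.app (k ⁻¹ᵁ (p ⁻¹ᵁ U)) (a.app _ (OmegaSh.conormalSect (k ≫ p) U s)) =
      b.app _ (φ.app _ (OmegaSh.conormalSect (k ≫ p) U s))
    refine ((congrArg (φ₀.app (k ⁻¹ᵁ (p ⁻¹ᵁ U))) ha').trans (hφ₀ (p ⁻¹ᵁ U) t)).trans ?_
    refine Eq.trans ?_ (congrArg (b.app _) (hφ U s)).symm
    rw [show OmegaSh.idealSect k.ker (p ⁻¹ᵁ U) t = p.app U (OmegaSh.idealSect (k ≫ p).ker U s) from ht, ← hc]
    refine (FormalH7.pullSec_naturality k c _).symm.trans ?_
    show ((Scheme.Modules.pullback k).map c).app _ _ = ((Scheme.Modules.pullback k).map c).app _ (η.inv.app _ _)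
    refine congrArg (((Scheme.Modules.pullback k).map c).app _) ?_
    have h1 := congrArg (η.inv.app (k ⁻¹ᵁ (p ⁻¹ᵁ U))) (ModLimH13.pullbackComp_pullSec k p Ω (d.app U (OmegaSh.idealSect (k ≫ p).ker U s)))
    refine Eq.trans ?_ h1
    exact (congrArg (fun f => f.app (k ⁻¹ᵁ (p ⁻¹ᵁ U)) (M2.pullSec k _ (M2.pullSec p Ω (d.app U (OmegaSh.idealSect (k ≫ p).ker U s)))))
      η.hom_inv_id).symm
  exact SyntRank2.nonempty_iso_Q_of_doubleMap φ φ₀ a b hab φp q hq wa wb ha hb

/-- Let f : X ⟶ Y admit two factorisations f = i ≫ g = i' ≫ g' with g : V ⟶ Y, g' : V' ⟶ Y smooth and i,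
i' closed immersions. Let d : O_V → Ω and d' : O_{V'} → Ω' be universal Y-derivations and let φ :
N_i ⟶ i^*Ω, φ' : N_{i'} ⟶ i'^*Ω' be the maps induced by d and d' on the conormal sheaves (pinned by
their values on classes of local sections of the ideals). Then the cotangent complexes [N_i → i^*Ω]
and [N_{i'} → i'^*Ω'], placed in degrees −1 and 0, are isomorphic in the derived category of
O_X-modules. The published statement names a canonical isomorphism; this row asserts only that an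
isomorphism exists. -/
theorem result {X Y V V' : Scheme.{u}} (f : X ⟶ Y)
    (g : V ⟶ Y) [Smooth g] (i : X ⟶ V) [IsClosedImmersion i] (hi : i ≫ g = f)
    (g' : V' ⟶ Y) [Smooth g'] (i' : X ⟶ V') [IsClosedImmersion i'] (hi' : i' ≫ g' = f)
    (Ω : V.Modules) (d : OmegaSh.Der g Ω) (hd : OmegaSh.IsUniversal d)
    (Ω' : V'.Modules) (d' : OmegaSh.Der g' Ω') (hd' : OmegaSh.IsUniversal d')
    (φ : Omega.conormal i ⟶ (Scheme.Modules.pullback i).obj Ω) (hφ : OmegaSh.IsConormalDiff i d φ)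
    (φ' : Omega.conormal i' ⟶ (Scheme.Modules.pullback i').obj Ω') (hφ' : OmegaSh.IsConormalDiff i' d' φ') :
    Nonempty (DCoh.toD X (HomologicalComplex.double φ (show (ComplexShape.up ℤ).Rel (-1 : ℤ) 0 from neg_add_cancel (1 : ℤ))) ≅
      DCoh.toD X (HomologicalComplex.double φ' (show (ComplexShape.up ℤ).Rel (-1 : ℤ) 0 from neg_add_cancel (1 : ℤ)))) := by
  let k₁ := pullback.lift i i' (hi.trans hi'.symm)
  haveI : IsImmersion (k₁ ≫ pullback.fst g g') := by
    rw [pullback.lift_fst]; infer_instance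
  haveI : IsImmersion k₁ := IsImmersion.of_comp k₁ (pullback.fst g g')
  let O := k₁.coborderRange
  let k := k₁.liftCoborder
  have hk : k ≫ O.ι = k₁ := k₁.liftCoborder_ι
  have hki : k ≫ O.ι ≫ pullback.fst g g' = i := by rw [← Category.assoc, hk, pullback.lift_fst]
  have hki' : k ≫ O.ι ≫ pullback.snd g g' = i' := by rw [← Category.assoc, hk, pullback.lift_snd]
  let h := (O.ι ≫ pullback.fst g g') ≫ g
  have hh : (O.ι ≫ pullback.snd g g') ≫ g' = h := by
    rw [Category.assoc, ← pullback.condition, ← Category.assoc]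
  obtain ⟨Ω₀, d₀, hd₀⟩ := Omega12.exists_isUniversal h
  obtain ⟨φ₀, hφ₀, -⟩ := GrMap12.existsUnique_conormalDiff (i := k) d₀
  obtain ⟨e₁⟩ := main g (O.ι ≫ pullback.fst g g') k h rfl i hki Ω d hd φ hφ Ω₀ d₀ hd₀ φ₀ hφ₀
  obtain ⟨e₂⟩ := main g' (O.ι ≫ pullback.snd g g') k h hh i' hki' Ω' d' hd' φ' hφ' Ω₀ d₀ hd₀ φ₀ hφ₀
  exact ⟨e₁ ≪≫ e₂.symm⟩

end Groth.Agent.S8682
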