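import Groth.Statements.S8683
import Groth.Agent.Lib.SyntRank2.Basic
import Groth.Agent.Lib.SyntRank2.Compose
import Groth.Agent.Lib.CI2.KoszulComp

set_option autoImplicit false
universe u
open CategoryTheory CategoryTheory.Limits AlgebraicGeometry
open Synt

namespace Groth.Agent.S8683
open CategoryTheory CategoryTheory.Limits AlgebraicGeometry
open Synt

open Groth.Agent

set_option maxHeartbeats 4000000 in
lemma main {X Y Z V W T : Scheme.{u}} (f : X ⟶ Y)
    (gg : W ⟶ Z) [Smooth gg] (jg : Y ⟶ W) [IsClosedImmersion jg]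
    (hf : ∀ x : X, Synt.IsKoszulAt f x) (hg : ∀ y : Y, Synt.IsKoszulAt (jg ≫ gg) y)
    (gf : V ⟶ Y) [Smooth gf] (jf : X ⟶ V) [IsClosedImmersion jf] (hjf : jf ≫ gf = f)
    (gh : T ⟶ Z) [Smooth gh] (jh : X ⟶ T) [IsClosedImmersion jh] (hjh : jh ≫ gh = f ≫ jg ≫ gg)
    (Ωf : V.Modules) (df : OmegaSh.Der gf Ωf) (hdf : OmegaSh.IsUniversal df)
    (Ωg : W.Modules) (dg : OmegaSh.Der gg Ωg) (hdg : OmegaSh.IsUniversal dg)
    (Ωh : T.Modules) (dh : OmegaSh.Der gh Ωh) (hdh : OmegaSh.IsUniversal dh)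
    (x : X) (af bf ag bg ah bh : ℕ) (U₁ U₂ U₃ U₄ : X.Opens) (U₅ U₆ : Y.Opens)
    (h₁ : x ∈ U₁) (h₂ : x ∈ U₂) (h₃ : x ∈ U₃) (h₄ : x ∈ U₄) (h₅ : f x ∈ U₅) (h₆ : f x ∈ U₆)
    (haf : FlatMod.IsFinLocFreeOfRank af ((Scheme.Modules.restrictFunctor U₁.ι).obj ((Scheme.Modules.pullback jf).obj Ωf)))
    (hbf : FlatMod.IsFinLocFreeOfRank bf ((Scheme.Modules.restrictFunctor U₂.ι).obj (Omega.conormal jf)))
    (hah : FlatMod.IsFinLocFreeOfRank ah ((Scheme.Modules.restrictFunctor U₃.ι).obj ((Scheme.Modules.pullback jh).obj Ωh)))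
    (hbh : FlatMod.IsFinLocFreeOfRank bh ((Scheme.Modules.restrictFunctor U₄.ι).obj (Omega.conormal jh)))
    (hag : FlatMod.IsFinLocFreeOfRank ag ((Scheme.Modules.restrictFunctor U₅.ι).obj ((Scheme.Modules.pullback jg).obj Ωg)))
    (hbg : FlatMod.IsFinLocFreeOfRank bg ((Scheme.Modules.restrictFunctor U₆.ι).obj (Omega.conormal jg))) :
    (ah : ℤ) - bh = ((af : ℤ) - bf) + ((ag : ℤ) - bg) := by
  classical
  haveI := CI2.locallyOfFiniteType_of_isKoszulAt f hf
  have hjgK := CI2.koszul_of_isKoszulAt jg (jg ≫ gg) hg gg rfl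
  obtain ⟨Qa, hQa, hyQ, -⟩ := exists_isAffineOpen_mem_and_subset (X := W) (x := jg (f x)) (U := ⊤) trivial
  obtain ⟨hWa, hσs⟩ := CI2.surjective_app_of_closed jg hQa
  let Wa : Y.Opens := jg ⁻¹ᵁ Qa
  have hxWa : f x ∈ Wa := hyQ
  obtain ⟨U, hU, hxU, hUW⟩ := exists_isAffineOpen_mem_and_subset (U := f ⁻¹ᵁ Wa) (show x ∈ f ⁻¹ᵁ Wa from hxWa)
  let BY := Γ(Y, Wa)
  let BX := Γ(X, U)
  let AQ := Γ(W, Qa)
  letI : Algebra BY BX := (f.appLE Wa U hUW).hom.toAlgebra
  haveI : Algebra.FiniteType BY BX := Scheme.Hom.finiteType_appLE f hWa hU hUW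
  obtain ⟨n, φ, hφ⟩ :=
    Algebra.FiniteType.iff_quotient_mvPolynomial''.1 (inferInstance : Algebra.FiniteType BY BX)
  -- the kernel of `φ` is Koszul regular
  let PW : CommRingCat.{u} := CommRingCat.of (MvPolynomial (Fin n) BY)
  let eW : Γ(Y, Wa) ⟶ PW := CommRingCat.ofHom (algebraMap BY (MvPolynomial (Fin n) BY))
  let ψ : PW ⟶ Γ(X, U) := CommRingCat.ofHom φ.toRingHom
  haveI : IsClosedImmersion (Spec.map ψ) := IsClosedImmersion.spec_of_surjective ψ hφ
  haveI : Smooth (Spec.map eW) := by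
    rw [HasRingHomProperty.Spec_iff (P := @Smooth)]
    exact RingHom.smooth_algebraMap.2
      (show Algebra.Smooth BY (MvPolynomial (Fin n) BY) from ⟨inferInstance, inferInstance⟩)
  have hψ : eW ≫ ψ = f.appLE Wa U hUW := CommRingCat.hom_ext (AlgHom.comp_algebraMap φ)
  have hUι : hU.isoSpec.hom ≫ hU.fromSpec = U.ι := by rw [← hU.isoSpec_inv_ι, Iso.hom_inv_id_assoc]
  have hfac : (hU.isoSpec.hom ≫ Spec.map ψ) ≫ Spec.map eW ≫ hWa.fromSpec = U.ι ≫ f := by
    rw [Category.assoc, ← Spec.map_comp_assoc, hψ, IsAffineOpen.SpecMap_appLE_fromSpec f hWa hU hUW,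
      ← Category.assoc, hUι]
  have hψi := CI2.koszul_of_isKoszulAt (hU.isoSpec.hom ≫ Spec.map ψ) (U.ι ≫ f) (CI2.isKoszulAt_comp_open f hf U.ι)
    (Spec.map eW ≫ hWa.fromSpec) hfac
  have hψi2 : RegImm.IsRegularImmersion .koszul (Spec.map ψ) := by
    have := CI2.isRegularImmersion_comp_open _ hψi hU.isoSpec.inv
    rwa [Iso.inv_hom_id_assoc] at this
  have hφKR : LCI.IsKoszulRegularIdeal (RingHom.ker φ.toRingHom) := (CI2.koszul_spec_iff ψ hφ).1 hψi2
  have hσKR : LCI.IsKoszulRegularIdeal (RingHom.ker (jg.app Qa).hom) := CI2.isKR_of_isRegularImmersion jg hjgK hQa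
  -- the primes
  let pX := (hU.primeIdealOf ⟨x, hxU⟩).asIdeal
  let pB := (hWa.primeIdealOf ⟨f x, hxWa⟩).asIdeal
  let pA := (hQa.primeIdealOf ⟨jg (f x), hyQ⟩).asIdeal
  have hpB : pB = pX.comap (f.appLE Wa U hUW).hom :=
    congrArg PrimeSpectrum.asIdeal (IsAffineOpen.comap_primeIdealOf_appLE (f := f) Wa hWa U hU hUW hxU).symm
  have hpA : pA = pB.comap (jg.app Qa).hom := by
    have h := congrArg PrimeSpectrum.asIdeal
      (IsAffineOpen.comap_primeIdealOf_appLE (f := jg) Qa hQa (jg ⁻¹ᵁ Qa) hWa le_rfl hxWa).symm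
    rw [← Scheme.Hom.app_eq_appLE] at h
    exact h
  let q : Ideal (MvPolynomial (Fin n) BY) := pX.comap φ.toRingHom
  let τ : MvPolynomial (Fin n) AQ →+* MvPolynomial (Fin n) BY := MvPolynomial.map (jg.app Qa).hom
  have hτs : Function.Surjective τ := MvPolynomial.map_surjective _ hσs
  let q' : Ideal (MvPolynomial (Fin n) AQ) := q.comap τ
  have hqB : ∀ b : BY, (MvPolynomial.C b : MvPolynomial (Fin n) BY) ∈ q ↔ b ∈ pB := fun b => by
    rw [hpB]
    show φ (MvPolynomial.C b) ∈ pX ↔ _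
    rw [← MvPolynomial.algebraMap_eq, φ.commutes]; rfl
  have hqA : ∀ a : AQ, (MvPolynomial.C a : MvPolynomial (Fin n) AQ) ∈ q' ↔ a ∈ pA := fun a => by
    rw [hpA]
    show τ (MvPolynomial.C a) ∈ q ↔ _
    rw [MvPolynomial.map_C, hqB]; rfl
  -- the local rings
  let Q := X.presheaf.stalk x
  let S' := Y.presheaf.stalk (f x)
  let R := W.presheaf.stalk (jg (f x))
  let S := Z.presheaf.stalk ((jg ≫ gg) (f x))
  let L := Localization.AtPrime q
  let P := Localization.AtPrime q'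
  letI : Algebra BX Q := X.presheaf.algebra_section_stalk (⟨x, hxU⟩ : U)
  haveI : IsLocalization.AtPrime Q pX := hU.isLocalization_stalk ⟨x, hxU⟩
  letI : Algebra BY S' := Y.presheaf.algebra_section_stalk (⟨f x, hxWa⟩ : Wa)
  haveI : IsLocalization.AtPrime S' pB := hWa.isLocalization_stalk ⟨f x, hxWa⟩
  letI : Algebra AQ R := W.presheaf.algebra_section_stalk (⟨jg (f x), hyQ⟩ : Qa)
  haveI : IsLocalization.AtPrime R pA := hQa.isLocalization_stalk ⟨jg (f x), hyQ⟩
  -- `L` over `S'`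
  let βL : S' →+* L := IsLocalization.lift (M := pB.primeCompl) (g := algebraMap BY L) fun b => by
    rw [IsScalarTower.algebraMap_apply BY (MvPolynomial (Fin n) BY) L]
    exact IsLocalization.map_units L (⟨algebraMap BY (MvPolynomial (Fin n) BY) b, fun h => b.2 ((hqB b).1 h)⟩ : q.primeCompl)
  letI algS'L : Algebra S' L := βL.toAlgebra
  haveI : IsScalarTower BY S' L := IsScalarTower.of_algebraMap_eq fun b => (IsLocalization.lift_eq _ b).symm
  -- `P` over `R` and over `S`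
  let βP : R →+* P := IsLocalization.lift (M := pA.primeCompl) (g := algebraMap AQ P) fun a => by
    rw [IsScalarTower.algebraMap_apply AQ (MvPolynomial (Fin n) AQ) P]
    exact IsLocalization.map_units P (⟨algebraMap AQ (MvPolynomial (Fin n) AQ) a, fun h => a.2 ((hqA a).1 h)⟩ : q'.primeCompl)
  letI algRP : Algebra R P := βP.toAlgebra
  haveI : IsScalarTower AQ R P := IsScalarTower.of_algebraMap_eq fun a => (IsLocalization.lift_eq _ a).symm
  letI algSR : Algebra S R := (gg.stalkMap (jg (f x))).hom.toAlgebra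
  obtain ⟨m, -, hsmR, ⟨bR⟩⟩ := SyntRank2.exists_basis_kaehler_stalk gg (jg (f x))
  letI algSP : Algebra S P := (βP.comp (algebraMap S R)).toAlgebra
  haveI : IsScalarTower S R P := IsScalarTower.of_algebraMap_eq' rfl
  obtain ⟨hsmL, ⟨bL⟩⟩ := SyntRank2.formallySmooth_and_basis_of_localization BY (MvPolynomial (Fin n) BY) S' L
    pB.primeCompl q.primeCompl (KaehlerDifferential.mvPolynomialBasis BY (Fin n))
  obtain ⟨hsmP, ⟨bP'⟩⟩ := SyntRank2.formallySmooth_and_basis_of_localization AQ (MvPolynomial (Fin n) AQ) R P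
    pA.primeCompl q'.primeCompl (KaehlerDifferential.mvPolynomialBasis AQ (Fin n))
  haveI := hsmP
  haveI : Algebra.FormallySmooth S R := hsmR
  haveI : Algebra.FormallySmooth S P := .comp S R P
  have hbP := @SyntRank2.nonempty_basis_kaehler_trans.{u} S R P _ _ _ algSR algRP algSP _ hsmP _ _ bR bP'
  obtain ⟨bP⟩ := hbP
  -- the maps
  haveI : IsLocalization (pX.primeCompl.comap φ.toRingHom) L :=
    (inferInstance : IsLocalization q.primeCompl L)
  haveI : IsLocalization (q.primeCompl.comap τ) P := (inferInstance : IsLocalization q'.primeCompl P)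
  haveI : IsLocalization (pB.primeCompl.comap (jg.app Qa).hom) R := by
    have e : pA.primeCompl = pB.primeCompl.comap (jg.app Qa).hom := by
      ext a
      show a ∉ pA ↔ (jg.app Qa).hom a ∉ pB
      rw [hpA]; rfl
    rw [← e]; infer_instance
  let α : L →+* Q := IsLocalization.lift (M := q.primeCompl) (g := (algebraMap BX Q).comp φ.toRingHom)
    fun t => IsLocalization.map_units Q (⟨φ.toRingHom t, t.2⟩ : pX.primeCompl)
  have hα : α.comp (algebraMap (MvPolynomial (Fin n) BY) L) = (algebraMap BX Q).comp φ.toRingHom := IsLocalization.lift_comp _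
  let π : P →+* L := IsLocalization.lift (M := q'.primeCompl) (g := (algebraMap (MvPolynomial (Fin n) BY) L).comp τ)
    fun t => IsLocalization.map_units L (⟨τ t, t.2⟩ : q.primeCompl)
  have hπ : π.comp (algebraMap (MvPolynomial (Fin n) AQ) P) = (algebraMap (MvPolynomial (Fin n) BY) L).comp τ :=
    IsLocalization.lift_comp _
  let θ : R →+* S' := (jg.stalkMap (f x)).hom
  have hθ : θ.comp (algebraMap AQ R) = (algebraMap BY S').comp (jg.app Qa).hom :=
    RingHom.ext fun a => Scheme.Hom.germ_stalkMap_apply jg Qa (f x) hyQ a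
  obtain ⟨hαs, hαk⟩ := SyntRank2.surjective_and_ker_of_localization φ.toRingHom hφ pX.primeCompl α hα
  obtain ⟨hπs, hπk⟩ := SyntRank2.surjective_and_ker_of_localization τ hτs q.primeCompl π hπ
  obtain ⟨hθs, hθk⟩ := SyntRank2.surjective_and_ker_of_localization (jg.app Qa).hom hσs pB.primeCompl θ hθ
  -- generators
  obtain ⟨r, g₀, hg₀, hg₀k⟩ := SyntRank2.exists_h1_gen (L := R) hσKR pA (fun a ha => by
    rw [hpA, Ideal.mem_comap, show (jg.app Qa).hom a = 0 from ha]; exact zero_mem _)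
  obtain ⟨c, g₁, hg₁, hg₁k⟩ := SyntRank2.exists_h1_gen (L := L) hφKR q (fun a ha => by
    show φ.toRingHom a ∈ pX
    rw [show φ.toRingHom a = 0 from ha]; exact zero_mem _)
  haveI : Module.Flat AQ P :=
    haveI : Module.Flat (MvPolynomial (Fin n) AQ) P := IsLocalization.flat P q'.primeCompl
    Module.Flat.trans AQ (MvPolynomial (Fin n) AQ) P
  haveI : Module.Flat R P := (Module.flat_iff_of_isLocalization R pA.primeCompl P).2 inferInstance
  have hg₀P := RegSeq26.isH1Regular_of_flat (B := P) hg₀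
  have hπk' : RingHom.ker π = Ideal.span (Set.range fun k => algebraMap R P (g₀ k)) := by
    rw [hπk, MvPolynomial.ker_map, Ideal.map_map, Set.range_comp' (algebraMap R P) g₀, ← Ideal.map_span, ← hg₀k,
      Ideal.map_map, ← IsScalarTower.algebraMap_eq, ← MvPolynomial.algebraMap_eq, ← IsScalarTower.algebraMap_eq]
  -- compatibility with the stalk maps
  letI algS'Q : Algebra S' Q := (f.stalkMap x).hom.toAlgebra
  have hS'L : α.comp βL = (f.stalkMap x).hom := by
    refine IsLocalization.ringHom_ext pB.primeCompl (RingHom.ext fun b => ?_)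
    show α (βL (algebraMap BY S' b)) = (f.stalkMap x).hom (algebraMap BY S' b)
    rw [IsLocalization.lift_eq, IsScalarTower.algebraMap_apply BY (MvPolynomial (Fin n) BY) L]
    refine (RingHom.congr_fun hα _).trans ?_
    show algebraMap BX Q (φ (algebraMap BY _ b)) = _
    rw [φ.commutes]
    refine Eq.trans ?_ (Scheme.Hom.germ_stalkMap_apply f Wa x hxWa b).symm
    exact TopCat.Presheaf.germ_res_apply X.presheaf (homOfLE hUW) x hxU ((f.app Wa).hom b)
  have hRP : (α.comp π).comp βP = (f.stalkMap x).hom.comp θ := by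
    refine IsLocalization.ringHom_ext pA.primeCompl (RingHom.ext fun a => ?_)
    show α (π (βP (algebraMap AQ R a))) = (f.stalkMap x).hom (θ (algebraMap AQ R a))
    rw [IsLocalization.lift_eq, IsScalarTower.algebraMap_apply AQ (MvPolynomial (Fin n) AQ) P,
      show θ (algebraMap AQ R a) = algebraMap BY S' ((jg.app Qa).hom a) from RingHom.congr_fun hθ a,
      ← RingHom.congr_fun hS'L]
    refine congrArg α ((RingHom.congr_fun hπ _).trans ?_)
    show algebraMap (MvPolynomial (Fin n) BY) L (τ (algebraMap AQ _ a)) = βL (algebraMap BY S' _)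
    rw [IsLocalization.lift_eq, MvPolynomial.algebraMap_eq, MvPolynomial.map_C, ← MvPolynomial.algebraMap_eq,
      ← IsScalarTower.algebraMap_apply]
  -- the three comparisons
  let E₁ : Algebra.Extension.{u} S' Q := Algebra.Extension.ofSurjective
    ({ α with commutes' := fun s => RingHom.congr_fun hS'L s } : L →ₐ[S'] Q) hαs
  haveI : Algebra.FormallySmooth S' E₁.Ring := hsmL
  obtain ⟨e₁⟩ := SyntRank2.nonempty_cotangent_equiv_h1 E₁ g₁ hg₁ (hαk.trans hg₁k)
  obtain ⟨Ef, hEf, ⟨vf⟩, ⟨cf⟩⟩ := SyntRank2.exists_extension f gf jf hjf hdf x h₁ h₂ haf hbf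
  haveI := hEf
  letI : Algebra L Q := α.toAlgebra
  have eq1 := SyntRank2.sub_eq_of_extensions Ef E₁ vf cf (bL.baseChange Q).equivFun e₁
  letI algSS' : Algebra S S' := ((jg ≫ gg).stalkMap (f x)).hom.toAlgebra
  have hS : (jg ≫ gg).stalkMap (f x) = gg.stalkMap (jg (f x)) ≫ jg.stalkMap (f x) := Scheme.Hom.stalkMap_comp _ _ _
  let E₂ : Algebra.Extension.{u} S S' := Algebra.Extension.ofSurjective
    ({ θ with commutes' := fun s => (congrArg (fun h => h.hom s) hS).symm } : R →ₐ[S] S') hθs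
  haveI : Algebra.FormallySmooth S E₂.Ring := hsmR
  obtain ⟨e₂⟩ := SyntRank2.nonempty_cotangent_equiv_h1 E₂ g₀ hg₀ (hθk.trans hg₀k)
  obtain ⟨Eg, hEg, ⟨vg⟩, ⟨cg⟩⟩ := SyntRank2.exists_extension (jg ≫ gg) gg jg rfl hdg (f x) h₅ h₆ hag hbg
  haveI := hEg
  letI : Algebra R S' := θ.toAlgebra
  have eq2 := SyntRank2.sub_eq_of_extensions Eg E₂ vg cg (bR.baseChange S').equivFun e₂
  letI algSQ : Algebra S Q := ((f ≫ jg ≫ gg).stalkMap x).hom.toAlgebra
  have hcomm : ∀ s : S, (α.comp π) (algebraMap S P s) = algebraMap S Q s := fun s => by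
    refine (RingHom.congr_fun hRP _).trans ?_
    show (f.stalkMap x).hom (θ (algebraMap S R s)) = ((f ≫ jg ≫ gg).stalkMap x).hom s
    rw [Scheme.Hom.stalkMap_comp f (jg ≫ gg) x]
    exact congrArg (f.stalkMap x).hom (congrArg (fun h => h.hom s) hS).symm
  let E₃ : Algebra.Extension.{u} S Q := Algebra.Extension.ofSurjective
    ({ α.comp π with commutes' := hcomm } : P →ₐ[S] Q) (hαs.comp hπs)
  have hS3 : Algebra.FormallySmooth S P := inferInstance
  obtain ⟨e₃⟩ := SyntRank2.nonempty_cotangent_equiv_comp E₃ π hπs α rfl _ hg₀P hπk' g₁ hg₁ (hαk.trans hg₁k)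
  obtain ⟨Eh, hEh, ⟨vh⟩, ⟨ch⟩⟩ := SyntRank2.exists_extension (f ≫ jg ≫ gg) gh jh hjh hdh x h₃ h₄ hah hbh
  haveI := hEh
  letI : Algebra P Q := (α.comp π).toAlgebra
  have eq3 := @SyntRank2.sub_eq_of_extensions.{u} _ _ _ _ _ _ Eh E₃ hEh hS3 _ _ _ _ vh ch (bP.baseChange Q).equivFun e₃
  omega

/-- Let f : X ⟶ Y and g : Y ⟶ Z be local complete intersection morphisms in the factorisation sense,
with factorisations f = i_f ≫ g_f, g = i_g ≫ g_g and f ≫ g = i_h ≫ g_h through smooth morphisms g_f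
: V ⟶ Y, g_g : W ⟶ Z, g_h : T ⟶ Z by closed immersions, universal derivations d_f, d_g, d_h (sheaves
of differentials Ω_f, Ω_g, Ω_h of V/Y, W/Z, T/Z), and x ∈ X. Suppose that on open neighbourhoods of
x the modules i_f^*Ω_f, N_{i_f}, i_h^*Ω_h, N_{i_h} are free of ranks a_f, b_f, a_h, b_h and that on
open neighbourhoods of f(x) the modules i_g^*Ω_g, N_{i_g} are free of ranks a_g, b_g. Then a_h − b_h
= (a_f − b_f) + (a_g − b_g): virtual relative dimensions add under composition. (The published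
statement allows local factorisations through arbitrary immersions; this row takes global
closed-immersion factorisations.) -/
theorem result {X Y Z V W T : Scheme.{u}} (f : X ⟶ Y) (g : Y ⟶ Z)
    (hf : ∀ x : X, Synt.IsKoszulAt f x) (hg : ∀ y : Y, Synt.IsKoszulAt g y)
    (gf : V ⟶ Y) [Smooth gf] (jf : X ⟶ V) [IsClosedImmersion jf] (hjf : jf ≫ gf = f)
    (gg : W ⟶ Z) [Smooth gg] (jg : Y ⟶ W) [IsClosedImmersion jg] (hjg : jg ≫ gg = g)
    (gh : T ⟶ Z) [Smooth gh] (jh : X ⟶ T) [IsClosedImmersion jh] (hjh : jh ≫ gh = f ≫ g)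
    (Ωf : V.Modules) (df : OmegaSh.Der gf Ωf) (hdf : OmegaSh.IsUniversal df)
    (Ωg : W.Modules) (dg : OmegaSh.Der gg Ωg) (hdg : OmegaSh.IsUniversal dg)
    (Ωh : T.Modules) (dh : OmegaSh.Der gh Ωh) (hdh : OmegaSh.IsUniversal dh)
    (x : X) (af bf ag bg ah bh : ℕ) (U₁ U₂ U₃ U₄ : X.Opens) (U₅ U₆ : Y.Opens)
    (h₁ : x ∈ U₁) (h₂ : x ∈ U₂) (h₃ : x ∈ U₃) (h₄ : x ∈ U₄) (h₅ : f x ∈ U₅) (h₆ : f x ∈ U₆)
    (haf : FlatMod.IsFinLocFreeOfRank af ((Scheme.Modules.restrictFunctor U₁.ι).obj ((Scheme.Modules.pullback jf).obj Ωf)))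
    (hbf : FlatMod.IsFinLocFreeOfRank bf ((Scheme.Modules.restrictFunctor U₂.ι).obj (Omega.conormal jf)))
    (hah : FlatMod.IsFinLocFreeOfRank ah ((Scheme.Modules.restrictFunctor U₃.ι).obj ((Scheme.Modules.pullback jh).obj Ωh)))
    (hbh : FlatMod.IsFinLocFreeOfRank bh ((Scheme.Modules.restrictFunctor U₄.ι).obj (Omega.conormal jh)))
    (hag : FlatMod.IsFinLocFreeOfRank ag ((Scheme.Modules.restrictFunctor U₅.ι).obj ((Scheme.Modules.pullback jg).obj Ωg)))
    (hbg : FlatMod.IsFinLocFreeOfRank bg ((Scheme.Modules.restrictFunctor U₆.ι).obj (Omega.conormal jg))) :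
    (ah : ℤ) - bh = ((af : ℤ) - bf) + ((ag : ℤ) - bg) := by
  subst hjg
  exact main f gg jg hf hg gf jf hjf gh jh hjh Ωf df hdf Ωg dg hdg Ωh dh hdh x af bf ag bg ah bh U₁ U₂ U₃ U₄ U₅ U₆
    h₁ h₂ h₃ h₄ h₅ h₆ haf hbf hah hbh hag hbg

end Groth.Agent.S8683
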