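import Groth.Statements.S8692
import Groth.Agent.Lib.PBK5.Special

set_option autoImplicit false
universe v u
open CategoryTheory CategoryTheory.Limits AlgebraicGeometry
attribute [local instance] HasDerivedCategory.standard
open SGA6

namespace Groth.Agent.S8692

/-- Let S be a quasi-compact scheme and K the Grothendieck ring of finite locally free O_S-modules with
the pre-λ-structure given by exterior powers. Concretely: every finite locally free O_S-module is
assumed to have finite locally free exterior powers (hext), and K is a commutative ring with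
λ-operations together with an additive bijection φ from K₀ of finite locally free O_S-modules
carrying [O_S] to 1, [E]·[F] to [E ⊗ F], and with λ^i(φ[E]) = φ[L] whenever L is an i-th exterior
power of E. Then K is a λ-ring in the strict sense: λ_t(1) = 1 + t, λ^n(xy) = P_n(λ^1 x, …; λ^1 y,
…) and λ^j(λ^i x) = Q_{i,j}(λ^1 x, …) for the universal polynomials. -/
theorem result (S : Scheme.{u}) [CompactSpace ↥S]
    (hext : ∀ (i : ℕ) (E : S.Modules), FlatMod.IsFinLocFree E →
      ∃ L : S.Modules, FlatMod.IsFinLocFree L ∧ ExtPow.IsExtPow i E L)
    (K : Type v) [CommRing K] [LambdaRing.LambdaOps K] (φ : SGA6.Kvb S →+ K) (hφ : Function.Bijective φ)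
    (h1 : φ (KRR.cl S (Coh.structureModule S)) = 1)
    (hmul : ∀ E F : S.Modules, FlatMod.IsFinLocFree E → FlatMod.IsFinLocFree F →
      φ (KRR.cl S E) * φ (KRR.cl S F) = φ (KRR.cl S (((DCoh.tensorBi (X := S)).obj E).obj F)))
    (hlam : ∀ (i : ℕ) (E L : S.Modules), FlatMod.IsFinLocFree E → FlatMod.IsFinLocFree L →
      ExtPow.IsExtPow i E L → LambdaRing.LambdaOps.lam i (φ (KRR.cl S E)) = φ (KRR.cl S L)) :
    LambdaRing.IsSpecial K := by
  letI := ExtFil4.kvbRing S
  let ψ : SGA6.Kvb S →+* K :=
    { φ with
      toFun := φ
      map_one' := h1
      map_mul' := fun x y => by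
        induction x using K0Cat.clSub_induction with
        | h0 => simp
        | hneg a ha => simp only [neg_mul, map_neg, ha]
        | hadd a b ha hb => simp only [add_mul, map_add, ha, hb]
        | hcl A hA =>
          induction y using K0Cat.clSub_induction with
          | h0 => simp
          | hneg a ha => simp only [mul_neg, map_neg, ha]
          | hadd a b ha hb => simp only [mul_add, map_add, ha, hb]
          | hcl B hB => exact Eq.trans (congrArg φ (PBK5.cl_mul hA hB)) (hmul A B hA hB).symm }
  exact PBK5.isSpecial ψ ⟨fun i E L hE hL h => hlam i E L hE hL h⟩ hφ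

end Groth.Agent.S8692
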