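import Groth.Statements.S8693
import Groth.Agent.Lib.KNil5.Main
import Groth.Agent.Lib.KNil5.Subring

set_option autoImplicit false
universe v u
open CategoryTheory CategoryTheory.Limits AlgebraicGeometry
attribute [local instance] HasDerivedCategory.standard
open KRR

namespace Groth.Agent.S8693

/-- Let X be a connected quasi-compact scheme with an ample invertible O_X-module L, (K, P, φ) a model
of the λ-ring K(X) of finite locally free modules with its positive structure (augmentation ε =
rank), and E_1, …, E_k finite locally free O_X-modules. Let R ⊆ K(X) be the subring generated by the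
elements λ^j[E_i] for all i and j, which is the sub-λ-ring generated by the classes [E_i]. Then the
ideal R ∩ Ker ε of R is nilpotent: there is n such that every product of n elements of R of
augmentation zero vanishes; and R is finitely generated as an abelian group. (The published
statement allows X disconnected, with R a module of finite type over R ∩ H^0(X, ℤ), and also asserts
that the λ-ring filtration of R is discrete; this row takes X connected, as the model requires, and
states the nilpotency and the finite generation over the integers.) -/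
theorem result (X : Scheme.{u}) [ConnectedSpace ↥X] (L : X.Modules) (hL : CohB1.IsAmple L)
    (K : Type v) [CommRing K] [LambdaRing.LambdaOps K] (P : LambdaRing.PosStructure K) (φ : SGA6.Kvb X →+ K)
    (hK : KRR.IsModel X K P φ)
    (k : ℕ) (E : Fin k → X.Modules) (hE : ∀ i : Fin k, FlatMod.IsFinLocFree (E i)) :
    (∃ n : ℕ, ∀ f : Fin n → K,
      (∀ t : Fin n, f t ∈ Subring.closure {y : K | ∃ (i : Fin k) (j : ℕ), y = LambdaRing.LambdaOps.lam j (φ (KRR.cl X (E i)))} ∧ P.aug (f t) = 0) →
        ∏ t, f t = 0) ∧
    (Subring.closure {y : K | ∃ (i : Fin k) (j : ℕ), y = LambdaRing.LambdaOps.lam j (φ (KRR.cl X (E i)))}).toAddSubgroup.FG := by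
  refine Groth.Agent.KNil5.closure_nilpotent_fg P.aug
    (fun x hx => Groth.Agent.KNil5.isNilpotent_of_aug_eq_zero hL hK hx) _ ?_
  obtain ⟨x₀⟩ := (inferInstance : Nonempty X)
  let r : Fin k → ℕ := fun i => Groth.Agent.KModel5.rk x₀ (E i)
  refine Set.Finite.subset ((Set.finite_iUnion fun i : Fin k => (Set.finite_Iic (r i)).image
    fun j => LambdaRing.LambdaOps.lam j (φ (KRR.cl X (E i)))).union (Set.finite_singleton (0 : K))) ?_
  rintro _ ⟨i, j, rfl⟩
  by_cases hj : j ≤ r i
  · exact Or.inl (Set.mem_iUnion.2 ⟨i, ⟨j, hj, rfl⟩⟩)
  · refine Or.inr ?_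
    obtain ⟨L', hL', hLE⟩ := Groth.Agent.KModel5.hasExt X j (E i) (hE i)
    rw [Set.mem_singleton_iff, hK.map_lam j (E i) L' (hE i) hL' hLE,
      show KRR.cl X L' = 0 from Groth.Agent.K0Cat.clSub_of_isZero (Groth.Agent.DeRhamH7.isZero_extPow hLE fun x => by
        obtain ⟨D, e, hxD, he⟩ := Groth.Agent.P1Split.exists_isBas_nhd (Groth.Agent.KModel5.exists_rank x₀ (hE i)) x
        exact ⟨r i, D, e, hxD, not_le.1 hj, he⟩) hL', map_zero]

end Groth.Agent.S8693
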