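import Groth.Statements.S8702
import Groth.Agent.Lib.Lambda.Universal

set_option autoImplicit false
universe u
open LambdaRing

namespace Groth.Agent.S8702

/-- Let K be a commutative ring which is an algebra over the rationals, and let ψ^k : K → K, k ≥ 1, be
additive maps with ψ^1 the identity. Then there is one and only one pre-λ-structure on K whose Adams
operations (defined through the logarithmic derivative of λ_t) are the ψ^k for every k ≥ 1, namely
λ_t(x) = exp(Σ_{k ≥ 1} (−1)^{k−1} ψ^k(x) t^k / k): in characteristic zero, pre-λ-structures and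
families of additive operations ψ^k with ψ^1 = id determine each other. (The value of the family at
k = 0 is ignored.) -/
theorem result (K : Type u) [CommRing K] [Algebra ℚ K]
    (ψ : ℕ → K →+ K) (hψ : ψ 1 = AddMonoidHom.id K) :
    ∃! L : LambdaRing.LambdaOps K, ∀ k : ℕ, 1 ≤ k → ∀ x : K, @LambdaRing.adamsOp K _ L k x = ψ k x := by
  refine ⟨Groth.Agent.Lambda.lambdaOpsOfAdams K ψ hψ,
    fun k hk x => Groth.Agent.Lambda.adamsOp_lambdaOpsOfAdams K ψ hψ k hk x, fun L hL => ?_⟩
  refine Groth.Agent.Lambda.lambdaOps_ext L _ fun k hk x => ?_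
  rw [hL k hk x, Groth.Agent.Lambda.adamsOp_lambdaOpsOfAdams K ψ hψ k hk x]

end Groth.Agent.S8702
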