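import Groth.Statements.S8703
import Groth.Agent.Lib.Lambda.Universal

set_option autoImplicit false
universe u
open LambdaRing

namespace Groth.Agent.S8703

/-- The Adams operations commute with λ-homomorphisms, and conversely, if K and K' are pre-λ-rings which
are algebras over the rationals, a ring homomorphism f : K → K' commuting with the ψ^k for all k ≥ 1
is a λ-homomorphism (commutes with all λ^i), the λ^i being expressible through the ψ^k in
characteristic zero. -/
theorem result (K K' : Type u) [CommRing K] [CommRing K']
    [LambdaRing.LambdaOps K] [LambdaRing.LambdaOps K'] [Algebra ℚ K] [Algebra ℚ K'] (f : K →+* K') :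
    LambdaRing.IsLambdaHom f ↔
      ∀ k : ℕ, 1 ≤ k → ∀ x : K, f (LambdaRing.adamsOp k x) = LambdaRing.adamsOp k (f x) := by
  constructor
  · intro hf k hk x
    obtain ⟨m, rfl⟩ : ∃ m, k = m + 1 := ⟨k - 1, by omega⟩
    have h1 : PowerSeries.map f (LambdaRing.lamSeries x) = LambdaRing.lamSeries (f x) := by
      ext n; simp [LambdaRing.lamSeries, hf n x]
    have h2 : PowerSeries.map f (LambdaRing.logDerivSeries x) = LambdaRing.logDerivSeries (f x) := by
      refine (Groth.Agent.Lambda.isUnit_lamSeries (f x)).mul_right_cancel ?_
      rw [← Groth.Agent.Lambda.lamSeries_mul_logDeriv, ← h1, ← map_mul,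
        ← Groth.Agent.Lambda.lamSeries_mul_logDeriv]
      ext n
      simp [PowerSeries.coeff_derivative]
    rw [LambdaRing.adamsOp, LambdaRing.adamsOp, ← h2, PowerSeries.coeff_map]
    simp
  · intro h i x
    rw [Groth.Agent.Lambda.lam_eq_E, Groth.Agent.Lambda.lam_eq_E, Groth.Agent.Lambda.map_E]
    exact Groth.Agent.Lambda.E_congr i fun k hk _ => h k hk x

end Groth.Agent.S8703
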