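import Groth.Statements.S8705
import Groth.Agent.Lib.SymCocycle.Basic
import Mathlib.LinearAlgebra.Isomorphisms
import Mathlib.LinearAlgebra.Finsupp.LinearCombination

set_option autoImplicit false
universe u
open SGA7

namespace Groth.Agent.S8705

/-- In the case of the punctual topos (ordinary abelian groups): let P be an abelian group and consider
the complex of free abelian groups Z[P × P × P] ⊕ Z[P × P] → Z[P × P] → Z[P], augmented to P by [p]
↦ p, with d₀[p, q] = [p + q] − [p] − [q], with d₁ on the first summand given by [p, q, r] ↦ [p + q,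
r] − [p, q + r] + [p, q] − [q, r] and on the second summand by [p, q] ↦ [p, q] − [q, p]. Then the
augmentation is surjective with kernel the image of d₀ (so H₀ is P), and the kernel of d₀ is the sum
of the images of the two components of d₁ (so H₁ vanishes). (The published statement is for abelian
sheaves on an arbitrary topos; this row is its case of a one-point space.) -/
theorem result (P : Type u) [AddCommGroup P] :
    letI ε : (P →₀ ℤ) →ₗ[ℤ] P := Finsupp.linearCombination ℤ (fun p : P => p)
    letI d₀ : (P × P →₀ ℤ) →ₗ[ℤ] (P →₀ ℤ) := Finsupp.linearCombination ℤ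
      (fun pq : P × P => Finsupp.single (pq.1 + pq.2) 1 - Finsupp.single pq.1 1 - Finsupp.single pq.2 1)
    letI d₁ : (P × P × P →₀ ℤ) →ₗ[ℤ] (P × P →₀ ℤ) := Finsupp.linearCombination ℤ
      (fun t : P × P × P => Finsupp.single (t.1 + t.2.1, t.2.2) 1 - Finsupp.single (t.1, t.2.1 + t.2.2) 1
        + Finsupp.single (t.1, t.2.1) 1 - Finsupp.single (t.2.1, t.2.2) 1)
    letI d₁' : (P × P →₀ ℤ) →ₗ[ℤ] (P × P →₀ ℤ) := Finsupp.linearCombination ℤ
      (fun pq : P × P => Finsupp.single pq 1 - Finsupp.single (pq.2, pq.1) 1)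
    Function.Surjective ε ∧ LinearMap.ker ε = LinearMap.range d₀ ∧
      LinearMap.ker d₀ = LinearMap.range d₁ ⊔ LinearMap.range d₁' := by
  classical
  set ε : (P →₀ ℤ) →ₗ[ℤ] P := Finsupp.linearCombination ℤ (fun p : P => p) with hε
  set d₀ : (P × P →₀ ℤ) →ₗ[ℤ] (P →₀ ℤ) := Finsupp.linearCombination ℤ
      (fun pq : P × P => Finsupp.single (pq.1 + pq.2) 1 - Finsupp.single pq.1 1 - Finsupp.single pq.2 1) with hd
  set d₁ : (P × P × P →₀ ℤ) →ₗ[ℤ] (P × P →₀ ℤ) := Finsupp.linearCombination ℤ
      (fun t : P × P × P => Finsupp.single (t.1 + t.2.1, t.2.2) 1 - Finsupp.single (t.1, t.2.1 + t.2.2) 1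
        + Finsupp.single (t.1, t.2.1) 1 - Finsupp.single (t.2.1, t.2.2) 1) with he
  set d₁' : (P × P →₀ ℤ) →ₗ[ℤ] (P × P →₀ ℤ) := Finsupp.linearCombination ℤ
      (fun pq : P × P => Finsupp.single pq 1 - Finsupp.single (pq.2, pq.1) 1) with he'
  have hd₀ : ∀ pq : P × P, d₀ (Finsupp.single pq 1) =
      Finsupp.single (pq.1 + pq.2) 1 - Finsupp.single pq.1 1 - Finsupp.single pq.2 1 := fun pq => by
    simp [d₀]
  refine ⟨fun p => ⟨Finsupp.single p 1, by simp [ε]⟩, le_antisymm ?_ ?_, le_antisymm ?_ ?_⟩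
  · intro x hx
    let g : P →+ (P →₀ ℤ) ⧸ LinearMap.range d₀ :=
      AddMonoidHom.mk' (fun p => (LinearMap.range d₀).mkQ (Finsupp.single p 1)) fun a b => by
        rw [← map_add, ← sub_eq_zero, ← map_sub]
        refine (Submodule.Quotient.mk_eq_zero _).2 ⟨Finsupp.single (a, b) 1, ?_⟩
        rw [hd₀]
        abel
    have hg : (LinearMap.range d₀).mkQ = g.toIntLinearMap.comp ε := by
      refine Finsupp.lhom_ext' fun p => LinearMap.ext_ring ?_
      simp [ε, g]
    refine (Submodule.Quotient.mk_eq_zero _).1 ((LinearMap.congr_fun hg x).trans ?_)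
    rw [LinearMap.comp_apply, LinearMap.mem_ker.1 hx, map_zero]
  · rintro x ⟨y, rfl⟩
    rw [LinearMap.mem_ker, ← LinearMap.comp_apply]
    refine LinearMap.congr_fun (?_ : _ = (0 : _ →ₗ[ℤ] _)) y
    refine Finsupp.lhom_ext' fun t => LinearMap.ext_ring ?_
    simp [d₀, ε]
  · intro x hx
    let T : Submodule ℤ (P × P →₀ ℤ) := LinearMap.range d₁ ⊔ LinearMap.range d₁'
    let h : P → P → (P × P →₀ ℤ) ⧸ T := fun p q => T.mkQ (Finsupp.single (p, q) 1)
    have hcoc : ∀ a b c, h (a + b) c + h a b = h a (b + c) + h b c := fun a b c => by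
      rw [← sub_eq_zero]
      refine Eq.trans ?_ ((Submodule.Quotient.mk_eq_zero T).2
        (Submodule.mem_sup_left ⟨Finsupp.single (a, b, c) 1, rfl⟩))
      simp only [d₁, Finsupp.linearCombination_single, one_smul, h, Submodule.mkQ_apply,
        Submodule.Quotient.mk_sub, Submodule.Quotient.mk_add]
      abel
    have hsymm : ∀ a b, h a b = h b a := fun a b => by
      rw [← sub_eq_zero]
      refine Eq.trans ?_ ((Submodule.Quotient.mk_eq_zero T).2
        (Submodule.mem_sup_right ⟨Finsupp.single (a, b) 1, rfl⟩))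
      simp only [d₁', Finsupp.linearCombination_single, one_smul, h, Submodule.mkQ_apply,
        Submodule.Quotient.mk_sub]
    obtain ⟨E, _, i, hi, s, hs⟩ := Groth.Agent.SymCocycle.exists_extension h hcoc hsymm
    let F : (P →₀ ℤ) →ₗ[ℤ] E := Finsupp.linearCombination ℤ s
    have hF : F.comp d₀ = -(i.comp T.mkQ) := by
      refine Finsupp.lhom_ext' fun pq => LinearMap.ext_ring ?_
      simp only [LinearMap.comp_apply, Finsupp.lsingle_apply, LinearMap.neg_apply, hd₀, map_sub,
        F, Finsupp.linearCombination_single, one_smul]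
      have := hs pq.1 pq.2
      simp only [h] at this
      rw [sub_sub, this]
      abel
    rw [LinearMap.mem_ker] at hx
    have : i (T.mkQ x) = 0 := by
      have e := LinearMap.congr_fun hF x
      rw [LinearMap.comp_apply, hx, map_zero] at e
      exact neg_eq_zero.1 e.symm
    exact (Submodule.Quotient.mk_eq_zero T).1 (hi (this.trans (map_zero i).symm))
  · refine sup_le ?_ ?_ <;>
    · rintro x ⟨y, rfl⟩
      rw [LinearMap.mem_ker, ← LinearMap.comp_apply]
      refine LinearMap.congr_fun (?_ : _ = (0 : _ →ₗ[ℤ] _)) y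
      refine Finsupp.lhom_ext' fun t => LinearMap.ext_ring ?_
      simp [d₁, d₁', d₀, add_assoc, add_comm, add_left_comm]
      try abel

end Groth.Agent.S8705
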