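import Groth.Statements.S8714
import Groth.Agent.Lib.PicAxes15.Main
import Mathlib.FieldTheory.IsAlgClosed.AlgebraicClosure
-- import your own Groth.Agent.* helpers here

set_option autoImplicit false
universe u
open CategoryTheory CategoryTheory.Limits MonoidalCategory CartesianMonoidalCategory MonObj AlgebraicGeometry
open SGA7

namespace Groth.Agent.S8714

/-- First case, over a perfect field: let k be a perfect field, P and Q smooth connected commutative
k-group schemes of finite type with P affine, and L an invertible O-module on P ×_k Q whose
pullbacks along P × e_Q → P × Q and e_P × Q → P × Q (e the unit sections) are trivial. Then L is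
trivial: isomorphic to the structure sheaf. (The published statement assumes, instead of k perfect,
that P has a composition series with successive quotients tori or the additive group, a condition it
notes is automatic over a perfect field; it also treats a second case with Q an extension of an
abelian variety by such a group, and deduces that every biextension of (P, Q) by the multiplicative
group is trivial; those are not stated here.) -/
theorem result (k : Type u) [Field k] [PerfectField k]
    (P Q : Over (Spec (CommRingCat.of k))) [GrpObj P] [GrpObj Q] [IsCommMonObj P] [IsCommMonObj Q]
    [IsAffine P.left] [Smooth P.hom] [ConnectedSpace ↥P.left]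
    [Smooth Q.hom] [QuasiCompact Q.hom] [ConnectedSpace ↥Q.left]
    (L : (P ⊗ Q).left.Modules) (hL : PicF.IsInvertible L)
    (hP : PicF.IsTrivialCl (PicF.pullCl (lift (𝟙 P) (toUnit P ≫ η[Q])).left (PicF.cl L)))
    (hQ : PicF.IsTrivialCl (PicF.pullCl (lift (toUnit Q ≫ η[P]) (𝟙 Q)).left (PicF.cl L))) :
    PicF.IsTrivialCl (PicF.cl L) := by
  haveI : IsGalois k (AlgebraicClosure k) := inferInstance
  exact PicAxes15.isTrivialCl_of_axes (K := AlgebraicClosure k) P Q L hL hP hQ

end Groth.Agent.S8714
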