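import Groth.Statements.S8716
import Groth.Agent.Lib.CentExt24.Basic
import Mathlib.AlgebraicGeometry.Limits
import Mathlib.GroupTheory.OrderOfElement
-- import your own Groth.Agent.* helpers here

set_option autoImplicit false
universe u
open CategoryTheory CategoryTheory.Limits MonoidalCategory CartesianMonoidalCategory MonObj AlgebraicGeometry
open SGA7

namespace Groth.Agent.S8716

set_option linter.style.haveILetI false
set_option backward.isDefEq.respectTransparency.types false


/-- Let k be a field, Z a commutative group without non-trivial elements of finite order, P a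
commutative k-group scheme of finite type (so that its group of connected components is a finite,
hence torsion, group), G the constant k-group scheme Z_k (through the isomorphism eG), and u : G →
E, v : E → P homomorphisms of commutative k-group schemes forming a sequence 1 → G → E → P → 1 exact
for the fppf topology. Then the extension is rigid: every automorphism of the k-group scheme E
compatible with u and v is the identity. (The published statement assumes only P locally of finite
type with torsion component group; this row takes P of finite type, the case it names.) -/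
theorem result (k : Type u) [Field k]
    (Z : Type u) [CommGroup Z] (hZ : ∀ z : Z, IsOfFinOrder z → z = 1)
    (P E G : Over (Spec (CommRingCat.of k))) [GrpObj P] [GrpObj E] [GrpObj G]
    [IsCommMonObj P] [IsCommMonObj E]
    [LocallyOfFiniteType P.hom] [QuasiCompact P.hom]
    (eG : G ≅ TwC.const (Spec (CommRingCat.of k)) Z) (hG : TwC.IsConstGrp Z G eG)
    (u : G ⟶ E) (v : E ⟶ P) (hex : NonAbH1.IsExactSeq Scheme.fppfPrecoverage u v)
    (φ : E ≅ E) [IsMonHom φ.hom] (hφu : u ≫ φ.hom = u) (hφv : φ.hom ≫ v = v) :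
    φ.hom = 𝟙 E := by
  classical
  haveI := hex.1; haveI := hex.2.1
  let S := Spec (CommRingCat.of k)
  let δ₀ : E ⟶ E := φ.hom * (𝟙 E)⁻¹
  obtain ⟨δ, hδ⟩ := CentExt24.exists_u hex δ₀ (by
    show (φ.hom * (𝟙 E)⁻¹) ≫ v = 1
    rw [MonObj.mul_comp, GrpObj.inv_comp, hφv, Category.id_comp, mul_inv_cancel])
  have hδp : ∀ {T : Over S} (x : T ⟶ E), (x ≫ δ) ≫ u = (x ≫ φ.hom) * x⁻¹ := fun x => by
    rw [Category.assoc, hδ]
    show x ≫ (φ.hom * (𝟙 E)⁻¹) = _
    rw [MonObj.comp_mul, GrpObj.comp_inv, Category.comp_id]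
  have hδm : ∀ {T : Over S} (x y : T ⟶ E), (x * y) ≫ δ = (x ≫ δ) * (y ≫ δ) := fun x y => by
    refine CentExt24.cancel_u hex ?_
    rw [hδp, MonObj.mul_comp, MonObj.mul_comp, hδp, hδp, mul_inv]
    exact mul_mul_mul_comm _ _ _ _
  have huδ : u ≫ δ = 1 := CentExt24.cancel_u hex (by
    rw [hδp, hφu, mul_inv_cancel, MonObj.one_comp])
  have hloc := CentExt24.locLift_of_trivial v hex.2.2.2.2
  obtain ⟨c, hc⟩ := CentExt24.exists_desc hloc δ fun T x x' h => by
    obtain ⟨g, rfl, -⟩ := CentExt24.existsUnique_mul hex x x' h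
    rw [hδm, Category.assoc, huδ, MonObj.comp_one, _root_.mul_one]
  suffices hc1 : c = 1 by
    have h1 : δ₀ = 1 := by rw [← hδ, ← hc, hc1, MonObj.comp_one, MonObj.one_comp]
    exact mul_inv_eq_one.1 h1
  have hpow : ∀ n : ℕ, ((𝟙 P : P ⟶ P) ^ n) ≫ c = c ^ n := fun n => by
    refine CentExt24.hom_ext_of_locLift hloc ?_
    rw [← Category.assoc, MonObj.comp_pow, Category.comp_id, MonObj.comp_pow, hc,
      show v ^ n = ((𝟙 E) ^ n) ≫ v by rw [MonObj.pow_comp, Category.id_comp], Category.assoc, hc]
    induction n with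
    | zero =>
      rw [pow_zero, pow_zero]
      have h := hδm (1 : E ⟶ E) 1
      rw [_root_.one_mul] at h
      exact right_eq_mul.1 h
    | succ n ih => rw [pow_succ, pow_succ, hδm, ih, Category.id_comp]
  let f : P ⟶ TwC.const S Z := c ≫ eG.hom
  let ι₀ : ∀ m : Z, S ⟶ (TwC.const S Z).left := fun m => Sigma.ι (fun _ : Z => S) m
  haveI : ∀ m, IsOpenImmersion (ι₀ m) := fun m => inferInstanceAs (IsOpenImmersion (Sigma.ι (fun _ : Z => S) m))
  have hidx : ∀ z : ↥(TwC.const S Z).left, ∃ m y, (ι₀ m).base y = z := fun z =>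
    (sigmaOpenCover fun _ : Z => S).exists_eq z
  choose idx pre hpre using hidx
  have hidxeq : ∀ (m : Z) (y : ↥S), idx ((ι₀ m).base y) = m := fun m y =>
    congrArg Sigma.fst ((sigmaι_eq_iff (fun _ : Z => S) _ _ _ _).1 (hpre _))
  haveI : CompactSpace ↥P.left := QuasiCompact.compactSpace_of_compactSpace P.hom
  obtain ⟨t, ht⟩ := isCompact_univ.elim_finite_subcover (fun m : Z => f.left.base ⁻¹' Set.range (ι₀ m).base)
    (fun m => (ι₀ m).isOpenEmbedding.isOpen_range.preimage f.left.continuous)
    (fun p _ => Set.mem_iUnion.2 ⟨idx _, _, hpre _⟩)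
  have hfin : ∀ p : ↥P.left, idx (f.left.base p) ∈ t := fun p => by
    obtain ⟨m, hm, y, hy⟩ : ∃ m ∈ t, f.left.base p ∈ Set.range (ι₀ m).base := by simpa using ht (Set.mem_univ p)
    rw [← hy, hidxeq]; exact hm
  have hone : TwC.pt S Z 1 ≫ eG.inv = (1 : 𝟙_ (Over S) ⟶ G) := by
    have h := hG 1 1
    rw [_root_.mul_one] at h
    exact mul_left_cancel (h.trans (_root_.mul_one _).symm)
  have hval : ∀ p : ↥P.left, idx (f.left.base p) = 1 := by
    intro p
    let T : Over S := Over.mk (P.left.fromSpecResidueField p ≫ P.hom)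
    let x : T ⟶ P := Over.homMk (P.left.fromSpecResidueField p) rfl
    let pp : ↥T.left := IsLocalRing.closedPoint (P.left.residueField p)
    haveI : Subsingleton ↥T.left := inferInstanceAs (Subsingleton (PrimeSpectrum (P.left.residueField p)))
    let m := idx (f.left.base p)
    have hxp : x.left.base pp = p := Scheme.fromSpecResidueField_apply _ _
    have hrange : Set.range (x ≫ f).left.base ⊆ Set.range (ι₀ m).base := by
      rintro _ ⟨s, rfl⟩
      rw [Subsingleton.elim s pp, Over.comp_left, Scheme.Hom.comp_apply, hxp]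
      exact ⟨pre _, hpre _⟩
    have hl : IsOpenImmersion.lift (ι₀ m) (x ≫ f).left hrange = T.hom := by
      have h1 := IsOpenImmersion.lift_fac (ι₀ m) (x ≫ f).left hrange
      have h2 := congrArg (fun q => q ≫ (TwC.const S Z).hom) h1
      have h3 : ι₀ m ≫ (TwC.const S Z).hom = 𝟙 S := Sigma.ι_desc _ m
      simp only [Category.assoc] at h2
      rw [h3, Category.comp_id, Over.w (x ≫ f)] at h2
      exact h2
    have hx : x ≫ f = toUnit T ≫ TwC.pt S Z m := by
      refine Over.OverMorphism.ext ?_
      rw [← IsOpenImmersion.lift_fac (ι₀ m) (x ≫ f).left hrange, hl]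
      rfl
    have hxc : x ≫ c = toUnit T ≫ TwC.pt S Z m ≫ eG.inv := by
      rw [← Category.assoc, ← hx]
      show x ≫ c = (x ≫ c ≫ eG.hom) ≫ eG.inv
      rw [Category.assoc, Category.assoc, eG.hom_inv_id, Category.comp_id]
    have hn : ∀ n : ℕ, m ^ n ∈ t := fun n => by
      have e1 : (x ^ n) ≫ c = toUnit T ≫ TwC.pt S Z (m ^ n) ≫ eG.inv := by
        rw [show x ^ n = x ≫ ((𝟙 P : P ⟶ P) ^ n) by rw [MonObj.comp_pow, Category.comp_id], Category.assoc, hpow,
          MonObj.comp_pow, hxc, ← MonObj.comp_pow]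
        congr 1
        induction n with
        | zero => rw [pow_zero, pow_zero, hone]
        | succ n ih => rw [pow_succ, pow_succ, ih, hG]
      have e2 : (x ^ n) ≫ f = toUnit T ≫ TwC.pt S Z (m ^ n) := by
        show (x ^ n) ≫ c ≫ eG.hom = _
        rw [← Category.assoc, e1]
        simp only [Category.assoc, eG.inv_hom_id]; exact congrArg _ (Category.comp_id _)
      have e3 : f.left.base ((x ^ n).left.base pp) = (ι₀ (m ^ n)).base (T.hom.base pp) := by
        rw [← Scheme.Hom.comp_apply, ← Over.comp_left, e2]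
        rfl
      have h := hfin ((x ^ n).left.base pp)
      rwa [e3, hidxeq] at h
    refine hZ m (not_not.1 fun hni => ?_)
    exact (Set.infinite_of_injective_forall_mem (injective_pow_iff_not_isOfFinOrder.2 hni) hn) t.finite_toSet
  have hr : Set.range f.left.base ⊆ Set.range (ι₀ 1).base := by
    rintro _ ⟨p, rfl⟩
    exact ⟨pre _, by
      have h := hpre (f.left.base p)
      rwa [hval p] at h⟩
  have hl : IsOpenImmersion.lift (ι₀ 1) f.left hr = P.hom := by
    have h1 := IsOpenImmersion.lift_fac (ι₀ 1) f.left hr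
    have h2 := congrArg (fun q => q ≫ (TwC.const S Z).hom) h1
    have h3 : ι₀ 1 ≫ (TwC.const S Z).hom = 𝟙 S := Sigma.ι_desc _ (1 : Z)
    simp only [Category.assoc] at h2
    rw [h3, Category.comp_id, Over.w f] at h2
    exact h2
  have hf : f = toUnit P ≫ TwC.pt S Z 1 := by
    refine Over.OverMorphism.ext ?_
    rw [← IsOpenImmersion.lift_fac (ι₀ 1) f.left hr, hl]
    rfl
  calc c = f ≫ eG.inv := by
        show c = (c ≫ eG.hom) ≫ eG.inv
        rw [Category.assoc, eG.hom_inv_id, Category.comp_id]
    _ = 1 := by rw [hf, Category.assoc, hone, MonObj.comp_one]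

end Groth.Agent.S8716
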