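import Groth.Statements.S8720
import Groth.Agent.Lib.PSIdeal.Basic
import Mathlib.Algebra.CharP.Two
import Mathlib.LinearAlgebra.Isomorphisms
import Mathlib.LinearAlgebra.Dimension.Constructions

set_option autoImplicit false
universe u
open VanCyc

namespace Groth.Agent.S8720

/-- The formal computation carried out in its proof: let k be a field of characteristic 2, m a natural
number, and f a power series over k in the variables x_0 and x_i, x_i' (i = 1, ..., m) whose terms
of degree less than 3 are exactly those of x_0^2 + x_1 x_1' + ... + x_m x_m'. Then the ideal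
generated by f and all its partial derivatives is the ideal generated by x_0^2 and the x_i, x_i',
and the quotient of the power series ring by this ideal is two-dimensional over k. (Characteristic 2
is what makes the derivative in x_0 lose its linear term.) -/
theorem result (k : Type u) [Field k] [CharP k 2] (m : ℕ)
    (f : MvPowerSeries (Option (Fin m ⊕ Fin m)) k)
    (hf : ∀ d : Option (Fin m ⊕ Fin m) →₀ ℕ, d.degree < 3 →
      MvPowerSeries.coeff d f = MvPowerSeries.coeff d
        (MvPowerSeries.X none ^ 2 +
          ∑ i : Fin m, MvPowerSeries.X (some (Sum.inl i)) * MvPowerSeries.X (some (Sum.inr i)))) :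
    Ideal.span ({f} ∪ Set.range fun i : Option (Fin m ⊕ Fin m) => MvPowerSeries.pderiv k i f) =
      Ideal.span ({MvPowerSeries.X none ^ 2} ∪
        Set.range fun j : Fin m ⊕ Fin m => (MvPowerSeries.X (some j) : MvPowerSeries (Option (Fin m ⊕ Fin m)) k)) ∧
    Module.finrank k (MvPowerSeries (Option (Fin m ⊕ Fin m)) k ⧸
      Ideal.span ({MvPowerSeries.X none ^ 2} ∪
        Set.range fun j : Fin m ⊕ Fin m => (MvPowerSeries.X (some j) : MvPowerSeries (Option (Fin m ⊕ Fin m)) k))) = 2 := by
  classical
  let σ := Option (Fin m ⊕ Fin m)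
  let V := PSIdeal.varIdeal σ k
  set S₀ : Set (MvPowerSeries σ k) := {MvPowerSeries.X none ^ 2} ∪ Set.range fun j : Fin m ⊕ Fin m => MvPowerSeries.X (some j) with hS₀
  let I := Ideal.span S₀
  let Q : MvPowerSeries σ k := ∑ i : Fin m, MvPowerSeries.X (some (Sum.inl i)) * MvPowerSeries.X (some (Sum.inr i))
  let q : MvPowerSeries σ k := MvPowerSeries.X none ^ 2 + Q
  have hX2 : MvPowerSeries.X none ^ 2 ∈ I := Ideal.subset_span (Or.inl rfl)
  have hXs : ∀ j, (MvPowerSeries.X (some j) : MvPowerSeries σ k) ∈ I := fun j => Ideal.subset_span (Or.inr ⟨j, rfl⟩)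
  have hIV : I ≤ V := Ideal.span_le.mpr (by
    rintro x (hx | ⟨j, rfl⟩)
    · rw [Set.mem_singleton_iff] at hx
      rw [hx, pow_two]; exact Ideal.mul_mem_right _ _ (PSIdeal.X_mem _)
    · exact PSIdeal.X_mem _)
  have hV2 : V ^ 2 ≤ I := by
    rw [pow_two, show V = Ideal.span (Set.range fun i : σ => (MvPowerSeries.X i : MvPowerSeries σ k)) from rfl,
      Ideal.span_mul_span, Ideal.span_le]
    intro x hx
    obtain ⟨_, ⟨a, rfl⟩, _, ⟨b, rfl⟩, rfl⟩ := Set.mem_mul.mp hx
    rcases a with _ | a
    · rcases b with _ | b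
      · rw [← pow_two]; exact hX2
      · exact Ideal.mul_mem_left _ _ (hXs b)
    · exact Ideal.mul_mem_right _ _ (hXs a)
  have hV3 : V ^ 3 ≤ V * I := by
    rw [pow_succ']; exact Ideal.mul_mono_right hV2
  set r := f - q with hr
  have hrq : ∀ d : σ →₀ ℕ, d.degree < 3 → MvPowerSeries.coeff d r = 0 := fun d hd => by
    rw [hr, map_sub, hf d hd, sub_self]
  have hr3 : r ∈ V ^ 3 := PSIdeal.mem_varIdeal_cube hrq
  have hdr : ∀ i, MvPowerSeries.pderiv k i r ∈ V ^ 2 := fun i => by
    refine PSIdeal.mem_varIdeal_sq ?_ fun j => ?_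
    · rw [← MvPowerSeries.coeff_zero_eq_constantCoeff_apply, MvPowerSeries.coeff_pderiv, hrq _ (by simp), zero_mul]
    · rw [MvPowerSeries.coeff_pderiv, hrq _ (by simp [map_add]), zero_mul]
  have hder : ∀ i, MvPowerSeries.pderiv k i q = match i with
      | none => 0
      | some (Sum.inl i) => MvPowerSeries.X (some (Sum.inr i))
      | some (Sum.inr i) => MvPowerSeries.X (some (Sum.inl i)) := by
    intro i
    have h2 : (2 : MvPowerSeries σ k) = 0 := by
      rw [← map_ofNat (MvPowerSeries.C : k →+* MvPowerSeries σ k) 2, CharTwo.two_eq_zero, map_zero]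
    rcases i with _ | (i | i) <;>
      simp [σ, q, Q, pow_two, MvPowerSeries.pderiv_X, Pi.single_apply, ← two_mul, h2]
  set J := Ideal.span ({f} ∪ Set.range fun i : σ => MvPowerSeries.pderiv k i f) with hJ
  have hfq : f = q + r := by rw [hr]; ring
  have hqI : q ∈ I := add_mem hX2 (sum_mem fun i _ => Ideal.mul_mem_left _ _ (hXs _))
  have hJI : J = I := by
    refine le_antisymm ?_ ?_
    · refine Ideal.span_le.mpr ?_
      rintro x (hx | ⟨i, rfl⟩)
      · rw [Set.mem_singleton_iff] at hx
        rw [hx, hfq]
        exact add_mem hqI (hV2 (Ideal.pow_le_pow_right (by norm_num) hr3))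
      · show MvPowerSeries.pderiv k i f ∈ I
        rw [hfq, map_add, hder]
        refine add_mem ?_ (hV2 (hdr i))
        rcases i with _ | (i | i)
        · exact zero_mem _
        · exact hXs _
        · exact hXs _
    · refine PSIdeal.le_of_le_sup_varIdeal_mul (Submodule.fg_span ((Set.finite_singleton _).union (Set.finite_range _))) ?_
      set T := J ⊔ PSIdeal.varIdeal σ k * I
      have hT1 : ∀ i : σ, MvPowerSeries.pderiv k i q ∈ J ⊔ V ^ 2 := fun i => by
        have h1 : MvPowerSeries.pderiv k i f ∈ J ⊔ V ^ 2 := Ideal.mem_sup_left (Ideal.subset_span (Or.inr ⟨i, rfl⟩))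
        rw [hfq, map_add] at h1
        simpa using sub_mem h1 (Ideal.mem_sup_right (hdr i))
      have hX0 : (MvPowerSeries.X none : MvPowerSeries σ k) ^ 2 ∈ T := by
        have hQ : Q ∈ V * I := sum_mem fun i _ => Ideal.mul_mem_mul (PSIdeal.X_mem _) (hXs _)
        have h1 : f ∈ T := Ideal.mem_sup_left (Ideal.subset_span (Or.inl rfl))
        have h2 : Q + r ∈ T := Ideal.mem_sup_right (add_mem hQ (hV3 hr3))
        have := sub_mem h1 h2
        rwa [show f - (Q + r) = MvPowerSeries.X none ^ 2 by rw [hfq]; ring] at this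
      have hV2T : V ^ 2 ≤ T := by
        rw [pow_two, show V = Ideal.span (Set.range fun i : σ => (MvPowerSeries.X i : MvPowerSeries σ k)) from rfl,
          Ideal.span_mul_span, Ideal.span_le]
        intro x hx
        obtain ⟨_, ⟨a, rfl⟩, _, ⟨b, rfl⟩, rfl⟩ := Set.mem_mul.mp hx
        rcases b with _ | b
        · rcases a with _ | a
          · rw [← pow_two]; exact hX0
          · show _ * _ ∈ T
            rw [mul_comm]
            exact Ideal.mem_sup_right (Ideal.mul_mem_mul (PSIdeal.X_mem _) (hXs a))
        · exact Ideal.mem_sup_right (Ideal.mul_mem_mul (PSIdeal.X_mem _) (hXs b))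
      have hle : J ⊔ V ^ 2 ≤ T := sup_le le_sup_left hV2T
      refine Ideal.span_le.mpr ?_
      rintro x (hx | ⟨j, rfl⟩)
      · rw [Set.mem_singleton_iff] at hx
        rw [hx]; exact hX0
      · rcases j with i | i
        · have := hle (hT1 (some (Sum.inr i))); rw [hder] at this; exact this
        · have := hle (hT1 (some (Sum.inl i))); rw [hder] at this; exact this
  refine ⟨hJI, ?_⟩
  let φ : MvPowerSeries σ k →ₗ[k] k × k :=
    (MvPowerSeries.coeff (0 : σ →₀ ℕ)).prod (MvPowerSeries.coeff (Finsupp.single none 1))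
  have hker : LinearMap.ker φ = I.restrictScalars k := by
    refine le_antisymm ?_ ?_
    · intro g hg
      obtain ⟨h0, h1⟩ : MvPowerSeries.coeff 0 g = 0 ∧ MvPowerSeries.coeff (Finsupp.single none 1) g = 0 := by
        simpa [φ, LinearMap.mem_ker] using hg
      obtain ⟨c, hgc, hc⟩ := PSIdeal.exists_eq_sum_X_mul (f := g) (by simpa using h0)
      show g ∈ I
      rw [hgc]
      refine sum_mem fun i _ => ?_
      rcases i with _ | j
      · exact hV2 (by rw [pow_two]; exact Ideal.mul_mem_mul (PSIdeal.X_mem _) (PSIdeal.mem_varIdeal (by rw [hc, h1])))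
      · exact Ideal.mul_mem_right _ _ (hXs j)
    · intro g hg
      change g ∈ I at hg
      have key : ∀ (x : MvPowerSeries σ k), x ∈ I → ∀ y, φ (y * x) = 0 := by
        intro x hx
        induction hx using Submodule.span_induction with
        | mem x hx =>
          intro y
          rcases hx with hx | ⟨j, rfl⟩
          · rw [Set.mem_singleton_iff] at hx
            subst hx
            rw [MvPowerSeries.X_pow_eq]
            simp [φ, MvPowerSeries.coeff_mul_monomial, Finsupp.single_le_iff, -MvPowerSeries.coeff_zero_eq_constantCoeff, -MvPowerSeries.coeff_zero_eq_constantCoeff_apply]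
          · simp [φ, MvPowerSeries.X_def, MvPowerSeries.coeff_mul_monomial, Finsupp.single_le_iff, -MvPowerSeries.coeff_zero_eq_constantCoeff, -MvPowerSeries.coeff_zero_eq_constantCoeff_apply]
        | zero => simp
        | add a b _ _ ha hb => intro y; rw [mul_add, map_add, ha, hb, add_zero]
        | smul a b _ hb => intro y; rw [smul_eq_mul, ← mul_assoc]; exact hb _
      simpa using key g hg 1
  have hsurj : Function.Surjective φ := fun p =>
    ⟨MvPowerSeries.C p.1 + MvPowerSeries.C p.2 * MvPowerSeries.X none, by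
      refine Prod.ext ?_ ?_ <;> simp [φ, MvPowerSeries.coeff_C, MvPowerSeries.coeff_C_mul, MvPowerSeries.coeff_X]⟩
  have e := (Submodule.quotEquivOfEq _ _ hker.symm).trans (φ.quotKerEquivOfSurjective hsurj)
  have := ((Submodule.Quotient.restrictScalarsEquiv k I).symm.trans e).finrank_eq
  rw [this, Module.finrank_prod, Module.finrank_self]

end Groth.Agent.S8720
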