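import Groth.Statements.S8721
import Groth.Agent.Lib.SigmaLin.Basic

set_option autoImplicit false
universe u v
open SGA7II

namespace Groth.Agent.S8721

/-- Let k be a separably closed field of characteristic p > 0, q = p^r with r >= 1, V a
finite-dimensional k-vector space and phi : V -> V additive with phi(c v) = c^q phi(v). Let V_ss be
the intersection, over n >= 1, of the k-subspaces spanned by the images of the iterates phi^n (the
semisimple part of V). Then V_ss has a k-basis consisting of phi-fixed vectors, and every phi-fixed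
vector of V is a linear combination of this basis with coefficients c satisfying c^q = c; that is,
V_ss is obtained from the F_q-space of fixed vectors by extension of scalars. -/
theorem result (k : Type u) [Field k] [IsSepClosed k] (p : ℕ)
    [Fact p.Prime] [CharP k p] (r : ℕ) (hr : 0 < r) (V : Type v) [AddCommGroup V] [Module k V]
    [FiniteDimensional k V] (φ : V →+ V) (hφ : ∀ (c : k) (v : V), φ (c • v) = c ^ (p ^ r) • φ v) :
    let Vss : Submodule k V := ⨅ n : ℕ, Submodule.span k (Set.range (φ^[n + 1]))
    ∃ b : Module.Basis (Fin (Module.finrank k ↥Vss)) k ↥Vss, (∀ i, φ (b i : V) = (b i : V)) ∧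
      ∀ v : V, φ v = v → ∃ c : Fin (Module.finrank k ↥Vss) → k,
        (∀ i, c i ^ (p ^ r) = c i) ∧ v = ∑ i, c i • (b i : V) := by
  have h2 := Groth.Agent.SigmaLinLib.cond2_frobenius k p r hr
  have h3 := Groth.Agent.SigmaLinLib.cond3_frobenius k p r hr
  let T := Groth.Agent.SigmaLinLib.ofQLinear φ hφ
  intro Vss
  have hVss : Vss = ⨅ n, Groth.Agent.SigmaLinLib.W T n := Groth.Agent.SigmaLinLib.inf_succ_eq T
  clear_value Vss
  subst hVss
  obtain ⟨b, hb⟩ := Groth.Agent.SigmaLinLib.exists_basis_fixed _
    (Groth.Agent.SigmaLinLib.span_range_Tss T) h2 h3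
  refine ⟨b, fun i => congrArg Subtype.val (hb i), fun v hv => ?_⟩
  have hmem := Groth.Agent.SigmaLinLib.mem_inf_of_fixed T (x := v) hv
  refine ⟨fun i => b.repr ⟨v, hmem⟩ i, fun i => ?_, ?_⟩
  · have := Groth.Agent.SigmaLinLib.fixed_coords _ b hb (n := 1) (v := ⟨v, hmem⟩) (Subtype.ext hv) i
    rwa [Groth.Agent.SigmaLinLib.iterateFrobenius_iterate, pow_one] at this
  · have hrep := congrArg Subtype.val (b.sum_repr ⟨v, hmem⟩)
    simp only [AddSubmonoidClass.coe_finsetSum, SetLike.val_smul] at hrep
    exact hrep.symm

end Groth.Agent.S8721
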