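import Groth.Statements.S8722
import Groth.Agent.Lib.SigmaLin.Basic

set_option autoImplicit false
universe u v
open SGA7II

namespace Groth.Agent.S8722

/-- Let k be a separably closed field of characteristic p > 0, q = p^r with r >= 1, V a
finite-dimensional k-vector space and phi : V -> V additive with phi(c v) = c^q phi(v), semisimple
in the sense that its image spans V. Then for n >= 1 the fixed vectors of the n-th iterate of phi
are exactly the finite linear combinations of phi-fixed vectors with coefficients c satisfying
c^(q^n) = c; that is, the fixed space of phi^n is obtained from the F_q-space of phi-fixed vectors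
by extending scalars to F_{q^n}. -/
theorem result (k : Type u) [Field k] [IsSepClosed k] (p : ℕ)
    [Fact p.Prime] [CharP k p] (r : ℕ) (hr : 0 < r) (V : Type v) [AddCommGroup V] [Module k V]
    [FiniteDimensional k V] (φ : V →+ V) (hφ : ∀ (c : k) (v : V), φ (c • v) = c ^ (p ^ r) • φ v)
    (hss : Submodule.span k (Set.range φ) = ⊤) (n : ℕ) (hn : 0 < n) (v : V) :
    φ^[n] v = v ↔ ∃ (s : Finset V) (c : V → k), (∀ w ∈ s, φ w = w) ∧
      (∀ w ∈ s, c w ^ ((p ^ r) ^ n) = c w) ∧ v = ∑ w ∈ s, c w • w := by
  have h2 := Groth.Agent.SigmaLinLib.cond2_frobenius k p r hr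
  have h3 := Groth.Agent.SigmaLinLib.cond3_frobenius k p r hr
  let T := Groth.Agent.SigmaLinLib.ofQLinear φ hφ
  constructor
  · intro hv
    classical
    obtain ⟨b, hb⟩ := Groth.Agent.SigmaLinLib.exists_basis_fixed T hss h2 h3
    have hco := Groth.Agent.SigmaLinLib.fixed_coords T b hb (n := n) hv
    refine ⟨Finset.univ.image b, Function.extend b (b.repr v) 0, ?_, ?_, ?_⟩
    · intro w hw
      obtain ⟨i, -, rfl⟩ := Finset.mem_image.1 hw
      exact hb i
    · intro w hw
      obtain ⟨i, -, rfl⟩ := Finset.mem_image.1 hw
      rw [b.injective.extend_apply]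
      have := hco i
      rwa [Groth.Agent.SigmaLinLib.iterateFrobenius_iterate] at this
    · rw [Finset.sum_image b.injective.injOn]
      simp only [b.injective.extend_apply]
      exact (b.sum_repr v).symm
  · rintro ⟨s, c, hs, hc, rfl⟩
    show (⇑T)^[n] _ = _
    rw [Groth.Agent.SigmaLinLib.iterate_sum']
    refine Finset.sum_congr rfl fun w hw => ?_
    rw [Groth.Agent.SigmaLinLib.iterate_smul', Groth.Agent.SigmaLinLib.iterateFrobenius_iterate,
      hc w hw, Function.iterate_fixed (show T w = w from hs w hw)]

end Groth.Agent.S8722
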