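import Groth.Statements.S8723
import Groth.Agent.Lib.ArInter.Geometric
-- import your own Groth.Agent.* helpers here

set_option autoImplicit false
universe u
open CategoryTheory CategoryTheory.Limits AlgebraicGeometry
open ArSurf

namespace Groth.Agent.S8723

/-- Let R be a discrete valuation ring with residue field k and X an integral regular scheme of Krull
dimension 2, proper and flat over Spec R by f (a regular proper flat model whose fibres are curves).
Write X_s for the special fibre and X_sbar for its base change to an algebraic closure of k. Assume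
that X_s is geometrically connected (its base change to every field extension of k is connected) and
that the multiplicities of the irreducible components of X_sbar, i.e. the lengths of the local rings
of X_sbar at its maximal points, have greatest common divisor 1 (no prime divides all of them). Then
the canonical map k -> H^0(X_s, O_{X_s}) is bijective (X is cohomologically flat over R in degree
0). -/
theorem result (R : Type u) [CommRing R] [IsDomain R]
    [IsDiscreteValuationRing R] {X : Scheme.{u}} (f : X ⟶ Spec (CommRingCat.of R)) [IsProper f] [Flat f]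
    [IsIntegral X] (hreg : ∀ x : X, IsRegularLocalRing (X.presheaf.stalk x))
    (hdim : topologicalKrullDim X = 2)
    (hconn : ∀ (K : Type u) [Field K] [Algebra (IsLocalRing.ResidueField R) K],
      ConnectedSpace ↥(pullback f (Spec.map (CommRingCat.ofHom
        ((algebraMap (IsLocalRing.ResidueField R) K).comp (IsLocalRing.residue R))))))
    (hd : letI Xb := pullback f (Spec.map (CommRingCat.ofHom
        ((algebraMap (IsLocalRing.ResidueField R) (AlgebraicClosure (IsLocalRing.ResidueField R))).comp
          (IsLocalRing.residue R))))
      ∀ ℓ : ℕ, ℓ.Prime → ∃ x : ↥Xb, (∀ y : ↥Xb, y ⤳ x → y = x) ∧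
        ¬ (ℓ ∣ (Module.length (Xb.presheaf.stalk x) (Xb.presheaf.stalk x)).toNat)) :
    Function.Bijective
      (pullback.snd f (Spec.map (CommRingCat.ofHom (IsLocalRing.residue R)))).appTop.hom := by
  classical
  let k := IsLocalRing.ResidueField R
  let Kb := AlgebraicClosure k
  let g := Spec.map (CommRingCat.ofHom (IsLocalRing.residue R))
  let j := Spec.map (CommRingCat.ofHom (algebraMap k Kb))
  have h₁ : ConnectedSpace ↥(pullback f g) := hconn k
  have hjg : Spec.map (CommRingCat.ofHom ((algebraMap k Kb).comp (IsLocalRing.residue R))) = j ≫ g := by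
    rw [CommRingCat.ofHom_comp, Spec.map_comp]
  let e : pullback (pullback.snd f g) j ≅ pullback f (Spec.map (CommRingCat.ofHom ((algebraMap k Kb).comp (IsLocalRing.residue R)))) :=
    pullbackLeftPullbackSndIso f g j ≪≫ pullback.congrHom rfl hjg.symm
  have := hconn Kb
  have : ConnectedSpace ↥(pullback (pullback.snd f g) j) :=
    e.inv.homeomorph.surjective.connectedSpace e.inv.continuous
  refine @Groth.Agent.ArInter.bijective_fibre_constants R _ _ _ (Over.mk f) ⟨‹IsProper f›, ‹IsIntegral X›, ‹Flat f›⟩
    hreg hdim Kb _ _ _ h₁ this fun ℓ hℓ => ?_
  obtain ⟨x, hmax, hx⟩ := hd ℓ hℓ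
  obtain ⟨w, rfl⟩ := e.hom.surjective x
  refine ⟨w, fun y hy => e.hom.isOpenEmbedding.injective (hmax _ (hy.map e.hom.continuous)), ?_⟩
  intro hdvd
  apply hx
  rw [Groth.Agent.ArInter.length_stalk_congr (asIso (e.hom.stalkMap w)).commRingCatIsoToRingEquiv]
  exact hdvd

end Groth.Agent.S8723
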