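import Groth.Statements.S8727
import Groth.Agent.Lib.ArInter.Form
import Groth.Agent.S8728

set_option autoImplicit false
universe u
open CategoryTheory CategoryTheory.Limits AlgebraicGeometry
open ArSurf

namespace Groth.Agent.S8727

/-- The assertion on the kernel of the intersection form: let R be a discrete valuation ring, X an
arithmetic surface over Spec R (regular, integral, of dimension 2, flat and projective over R) whose
special fibre is connected, Γ_1, ..., Γ_r pairwise distinct vertical prime divisors whose union is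
the whole special fibre, n_i the multiplicity of Γ_i in the special fibre, i.e. the length of
O_{X,γ_i}/m_R O_{X,γ_i} for γ_i the generic point of Γ_i, and L_j invertible O_X-modules with L_j ⊗
I(Γ_j) ≅ O_X. Then for integers a_1, ..., a_r one has Σ_j a_j (Γ_i · Γ_j) = 0 for every i, where Γ_i
· Γ_j = deg(L_j|_{Γ_i}) over the residue field, if and only if (a_1, ..., a_r) is a rational
multiple of (n_1, ..., n_r): the kernel of the (negative semi-definite) intersection form on
vertical divisors is spanned by the special fibre. -/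
theorem result (R : Type u) [CommRing R] [IsDomain R] [IsDiscreteValuationRing R]
    (X : Over (Spec (CommRingCat.of R))) (hX : ArSurf.IsArithSurface R X)
    (hconn : _root_.IsConnected {x : ↥X.left | X.hom.base x = IsLocalRing.closedPoint R})
    {r : ℕ} (Γ : Fin r → ArSurf.VertComp R X)
    (hdist : Function.Injective fun i => Set.range (Γ i).ι.base)
    (hcov : ∀ x : ↥X.left, X.hom.base x = IsLocalRing.closedPoint R → ∃ i, x ∈ Set.range (Γ i).ι.base)
    (L : Fin r → X.left.Modules) (hL : ∀ j, ClSub.IsInverseOf (L j) (ClSub.idealMod ((Γ j).ι.ker)))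
    (a : Fin r → ℤ) :
    let γ : Fin r → ↥X.left := fun i => (Γ i).ι.base (genericPoint ↥(Γ i).curve.left)
    let ρ : ∀ i, R →+* ↑(X.left.presheaf.stalk (γ i)) := fun i =>
      (X.left.presheaf.germ ⊤ (γ i) trivial).hom.comp
        (X.hom.appTop.hom.comp (Scheme.ΓSpecIso (CommRingCat.of R)).inv.hom)
    let n : Fin r → ℕ := fun i => (Module.length ↑(X.left.presheaf.stalk (γ i))
      (↑(X.left.presheaf.stalk (γ i)) ⧸ (IsLocalRing.maximalIdeal R).map (ρ i))).toNat
    (∀ i, ∑ j, a j * ArSurf.inter R X (L j) (Γ i) = 0) ↔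
      ∃ c : ℚ, ∀ i, (a i : ℚ) = c * (n i : ℚ) := by
  intro γ ρ n
  classical
  obtain ⟨w, Q, hw, -, -, hsum, -, hc⟩ := Groth.Agent.ArInter.exists_weights (Groth.Agent.ArInter.isSurf hX) hdist hL
  obtain ⟨rfl, hm⟩ := hc hcov
  have hn : ∀ i, n i = w i := fun i => hm i
  have hrow : ∀ p, ∑ q, (w q : ℚ) * (ArSurf.inter R X (L q) (Γ p) : ℚ) = 0 := fun p => by
    have h := congrArg (fun z : ℤ => (z : ℚ)) ((hsum (Γ p)).trans (Groth.Agent.ArInter.ideg_top (Groth.Agent.ArInter.isSurf hX) (Γ p)))
    push_cast at h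
    exact h
  constructor
  · intro hker
    let y := fun p => (a p : ℚ) / (w p : ℚ)
    have hy : ∀ p q, ArSurf.inter R X (L q) (Γ p) ≠ 0 → y p = y q := fun p q hpq =>
      Groth.Agent.ArInter.eq_of_kernel (fun q p => (ArSurf.inter R X (L q) (Γ p) : ℚ)) (fun p => (w p : ℚ))
        (fun p => Nat.cast_pos.mpr (hw p))
        (fun p q h => Int.cast_nonneg (Groth.Agent.ArInter.inter_nonneg (Groth.Agent.ArInter.isSurf hX) hdist hL p q h))
        (fun p q => congrArg _ (Groth.Agent.ArInter.inter_symm (Groth.Agent.ArInter.isSurf hX) hdist hL p q)) hrow (fun p => (a p : ℚ))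
        (fun p => by
          have h := congrArg (fun z : ℤ => (z : ℚ)) (hker p)
          push_cast at h
          exact h) (Int.cast_ne_zero.mpr hpq)
    obtain ⟨x₀, hx₀⟩ := hconn.nonempty
    obtain ⟨p₀, hp₀⟩ := hcov x₀ hx₀
    refine ⟨y p₀, fun i => ?_⟩
    suffices h : y i = y p₀ by
      rw [hn i, ← h]
      exact (div_mul_cancel₀ _ (Nat.cast_ne_zero.mpr (hw i).ne')).symm
    by_contra hi
    let A := ⋃ p ∈ {p | y p = y p₀}, Set.range (Γ p).ι.base
    let B := ⋃ p ∈ {p | y p ≠ y p₀}, Set.range (Γ p).ι.base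
    have hA : IsClosed A := (Set.toFinite _).isClosed_biUnion fun p _ => (Γ p).ι.isClosedEmbedding.isClosed_range
    have hB : IsClosed B := (Set.toFinite _).isClosed_biUnion fun p _ => (Γ p).ι.isClosedEmbedding.isClosed_range
    have hpre := isPreconnected_closed_iff.mp hconn.isPreconnected A B hA hB
      (fun x hx => by
        obtain ⟨p, hp⟩ := hcov x hx
        rcases em (y p = y p₀) with h | h
        · exact Or.inl (Set.mem_biUnion h hp)
        · exact Or.inr (Set.mem_biUnion h hp))
      ⟨x₀, hx₀, Set.mem_biUnion (s := {p | y p = y p₀}) rfl hp₀⟩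
      ⟨γ i, Groth.Agent.ArInter.genPtOf_mem_specialFibreSet (Γ i),
        Set.mem_biUnion (s := {p | y p ≠ y p₀}) hi ⟨_, rfl⟩⟩
    obtain ⟨x, -, hxA, hxB⟩ := hpre
    obtain ⟨p, hp, hxp⟩ := Set.mem_iUnion₂.mp hxA
    obtain ⟨q, hq, hxq⟩ := Set.mem_iUnion₂.mp hxB
    have hpq : p ≠ q := fun h => hq (h ▸ hp)
    have hEq := Groth.Agent.ArInter.isEffCartierIdeal_ker (hL q)
    have hgen : (Γ p).ι.base (genericPoint ↥(Γ p).curve.left) ∉ ((Γ q).ι.ker.support : Set ↥X.left) := by
      rw [Groth.Agent.ArInter.coe_support_ker]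
      exact Groth.Agent.ArInter.genPtOf_notMem_range (Groth.Agent.ArInter.isSurf hX).pre (Groth.Agent.ArInter.isEffCartierIdeal_ker (hL p)) hEq
        fun e => hpq (hdist e)
    refine hq ((hy p q fun h0 => ?_).symm.trans hp)
    have hdisj := (Groth.Agent.S8728.result R X hX (Γ p) (Γ q).ι.ker hEq hgen (L q) (hL q)).2.mp h0
    rw [Groth.Agent.ArInter.coe_support_ker] at hdisj
    exact Set.disjoint_left.mp hdisj hxp hxq
  · rintro ⟨t, ht⟩ i
    suffices h : ((∑ j, a j * ArSurf.inter R X (L j) (Γ i) : ℤ) : ℚ) = 0 by exact_mod_cast h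
    push_cast
    simp only [ht, hn, mul_assoc, ← Finset.mul_sum, hrow i, mul_zero]

end Groth.Agent.S8727
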