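import Groth.Statements.S8729
import Groth.Agent.Lib.ArInter.Deg
import Groth.Agent.Lib.SecDiv18.Basic
import Groth.Agent.Lib.TensorMod.InvCrit

set_option autoImplicit false
universe u
open CategoryTheory CategoryTheory.Limits AlgebraicGeometry
open ArSurf

namespace Groth.Agent.S8729

/-- For a vertical prime divisor: let R be a discrete valuation ring, X an arithmetic surface over Spec
R (regular, integral, of dimension 2, flat and projective), Γ a vertical prime divisor of X over the
closed point with ideal sheaf I, N = I/I^2 its conormal sheaf (an invertible O_Γ-module) and L an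
O_X-module with L ⊗ I ≅ O_X (L = O_X(Γ)). Then the self-intersection number (Γ · Γ) = deg_k(L|_Γ)
equals -deg_k(N), degrees over the residue field k being differences of Euler characteristics. -/
theorem result (R : Type u) [CommRing R] [IsDomain R] [IsDiscreteValuationRing R]
    (X : Over (Spec (CommRingCat.of R))) (hX : ArSurf.IsArithSurface R X) (Γ : ArSurf.VertComp R X)
    (L : X.left.Modules) (hL : ClSub.IsInverseOf L (ClSub.idealMod Γ.ι.ker)) :
    ArSurf.inter R X L Γ =
      - ArSurf.curveDeg (IsLocalRing.ResidueField R) Γ.curve.left (Omega.conormal Γ.ι) := by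
  haveI : IsProper (Γ.curve.left ↘ Spec (CommRingCat.of (IsLocalRing.ResidueField R))) :=
    Groth.Agent.ArInter.isProper_curve (Groth.Agent.ArInter.isSurf hX) Γ
  have hc := Groth.Agent.CurveAmple18.curveLike (IsLocalRing.ResidueField R) Γ.curve.left Γ.dim_eq.le
  haveI := hc.noetherian
  obtain ⟨e⟩ := hL
  have hI : PicF.IsInvertible (ClSub.idealMod Γ.ι.ker) :=
    Groth.Agent.M2.isInvertible_of_tensor_iso_unit _ L (Groth.Agent.M2.tensorComm _ _ ≪≫ e)
  have hLi : PicF.IsInvertible L := Groth.Agent.M2.isInvertible_of_tensor_iso hI e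
  have hLC := PicLoc.isInvertible_pullback Γ.ι hLi
  have hN : PicF.IsInvertible (Omega.conormal Γ.ι) := PicLoc.isInvertible_pullback Γ.ι hI
  let i : CohB1.tensorMod ((Scheme.Modules.pullback Γ.ι).obj L) (Omega.conormal Γ.ι) ≅
      Coh.structureModule Γ.curve.left :=
    (Groth.Agent.M2.pullTensorIso Γ.ι L (ClSub.idealMod Γ.ι.ker)).symm ≪≫
      (Scheme.Modules.pullback Γ.ι).mapIso e ≪≫ PicLoc.pullbackStructureIso Γ.ι
  have h := hc.deg_tensor_invertible hLC hN
  rw [Groth.Agent.CurveCoh17.deg_iso i, Groth.Agent.CurveCoh17.deg_structureModule] at h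
  unfold ArSurf.inter
  rw [Groth.Agent.ArInter.curveDeg_eq_deg (Groth.Agent.ArInter.isSurf hX) Γ (Groth.Agent.Snapper.isCoh_of_isInvertible hLC),
    Groth.Agent.ArInter.curveDeg_eq_deg (Groth.Agent.ArInter.isSurf hX) Γ (Groth.Agent.Snapper.isCoh_of_isInvertible hN)]
  linarith

end Groth.Agent.S8729
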