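import Groth.Statements.S8730
import Groth.Agent.Lib.ArInter.Deg
import Groth.Agent.Lib.SecDiv18.Basic
import Groth.Agent.Lib.TensorMod.InvCrit
import Groth.Agent.Lib.AmpleFin18.PushEuler
import Groth.Agent.Lib.CurveCoh17.RegPoint

set_option autoImplicit false
universe u
open CategoryTheory CategoryTheory.Limits AlgebraicGeometry
open ArSurf

namespace Groth.Agent.S8730

/-- For two distinct vertical prime divisors: let R be a discrete valuation ring, X an arithmetic
surface over Spec R (regular, integral, of dimension 2, flat and projective), Γ_1 ≠ Γ_2 vertical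
prime divisors of X over the closed point, and L_1, L_2 O_X-modules with L_i ⊗ I(Γ_i) ≅ O_X (L_i =
O_X(Γ_i)). Then the intersection number is symmetric: deg_k(L_2|_{Γ_1}) = deg_k(L_1|_{Γ_2}), both
being the length over k of the scheme-theoretic intersection Γ_1 ∩ Γ_2. -/
theorem result (R : Type u) [CommRing R] [IsDomain R] [IsDiscreteValuationRing R]
    (X : Over (Spec (CommRingCat.of R))) (hX : ArSurf.IsArithSurface R X) (Γ₁ Γ₂ : ArSurf.VertComp R X)
    (hne : Set.range Γ₁.ι.base ≠ Set.range Γ₂.ι.base)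
    (L₁ L₂ : X.left.Modules) (h₁ : ClSub.IsInverseOf L₁ (ClSub.idealMod Γ₁.ι.ker))
    (h₂ : ClSub.IsInverseOf L₂ (ClSub.idealMod Γ₂.ι.ker)) :
    ArSurf.inter R X L₂ Γ₁ = ArSurf.inter R X L₁ Γ₂ := by
  have key : ∀ (Γ Γ' : ArSurf.VertComp R X), Set.range Γ.ι.base ≠ Set.range Γ'.ι.base →
      ∀ L : X.left.Modules, ClSub.IsInverseOf L (ClSub.idealMod Γ'.ι.ker) →
      ArSurf.inter R X L Γ = (Models.lengthH R X (ClSub.quotMod (Γ'.ι.ker ⊔ Γ.ι.ker)) 0 : ℤ) := by
    intro Γ Γ' hne' L hL
    obtain ⟨e⟩ := hL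
    have hI : PicF.IsInvertible (ClSub.idealMod Γ'.ι.ker) :=
      Groth.Agent.M2.isInvertible_of_tensor_iso_unit _ L (Groth.Agent.M2.tensorComm _ _ ≪≫ e)
    refine Groth.Agent.ArInter.inter_eq_lengthH (Groth.Agent.ArInter.isSurf hX) Γ (Groth.Agent.SecDiv.isEffCartierIdeal_of_isInvertible _ hI) ?_ ⟨e⟩
    intro hmem
    rw [Scheme.Hom.support_ker] at hmem
    have hc1 : IsClosed (Set.range Γ'.ι.base) := Γ'.ι.isClosedEmbedding.isClosed_range
    have hmem' : Γ.ι.base (genericPoint Γ.curve.left) ∈ Set.range Γ'.ι.base := hc1.closure_eq ▸ hmem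
    obtain ⟨w, hw⟩ := hmem'
    have hwη : w = genericPoint Γ'.curve.left := by
      by_contra hne''
      have hcl := Groth.Agent.AmpleFin18.isClosed_of_ne_genericPoint Γ'.dim_eq.le hne''
      have hx : IsClosed ({Γ.ι.base (genericPoint Γ.curve.left)} : Set X.left) := by
        rw [← hw]
        simpa using Γ'.ι.isClosedEmbedding.isClosedMap _ hcl
      refine Groth.Agent.CurveCoh17.genericPoint_ne_of_isClosed Γ.dim_eq ?_ rfl
      have := hx.preimage Γ.ι.continuous
      rwa [← Set.image_singleton, Set.preimage_image_eq _ Γ.ι.isClosedEmbedding.injective] at this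
    refine hne' ?_
    have hr : ∀ Δ : ArSurf.VertComp R X, Set.range Δ.ι.base = closure {Δ.ι.base (genericPoint Δ.curve.left)} := fun Δ => by
      rw [← Set.image_singleton, Δ.ι.isClosedEmbedding.closure_image_eq, genericPoint_closure, Set.image_univ]
    rw [hr Γ, hr Γ', ← hw, hwη]
  rw [key Γ₁ Γ₂ hne L₂ h₂, key Γ₂ Γ₁ hne.symm L₁ h₁, sup_comm]

end Groth.Agent.S8730
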