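import Groth.Statements.S8731
import Groth.Agent.Lib.CIProj14.Hyp
import Groth.Agent.S2768
import Groth.Agent.Lib.ProjSpace.Basic

set_option autoImplicit false
universe u
open CategoryTheory CategoryTheory.Limits AlgebraicGeometry
open LefPen

namespace Groth.Agent.S8731

/-- (iv), the assertions on the structure sheaf: let k be an algebraically closed field, n >= 1, and Q a
quadratic form in n + 2 variables whose zero scheme X = V(Q) ⊂ P^{n+1}_k is smooth over k of
relative dimension n (a smooth quadric of dimension n). Then H^i(X, O_X) = 0 for every i >= 1, and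
the structure map identifies k with H^0(X, O_X). (The published item also computes H^1(X, O_X(1)),
the canonical sheaf and the Picard group, not stated here.) -/
theorem result (k : Type u) [Field k] [IsAlgClosed k] (n : ℕ) (hn : 1 ≤ n)
    (Q : LefPen.Form (n + 1) k 2)
    [SmoothOfRelativeDimension n ((LefPen.hypIdeal Q).subschemeι ≫ CohB1.ProjSpace.toSpec (n + 1) k)] :
    (∀ i : ℕ, 1 ≤ i → Subsingleton (Coh.HH (LefPen.hypIdeal Q).subscheme
        (Coh.structureModule (LefPen.hypIdeal Q).subscheme) i)) ∧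
      Function.Bijective ((LefPen.hypIdeal Q).subschemeι ≫ CohB1.ProjSpace.toSpec (n + 1) k).appTop.hom := by
  let ι := (LefPen.hypIdeal Q).subschemeι
  haveI : IsProper (CohB1.ProjSpace.toSpec (n + 1) k) := Groth.Agent.ProjSpace.isProper_toSpec (n + 1) k
  by_cases hne : Nonempty ↥(LefPen.hypIdeal Q).subscheme
  swap
  · exfalso
    have hs : (LefPen.hypIdeal Q).support = ⊥ := by
      refine SetLike.coe_injective ?_
      rw [← (LefPen.hypIdeal Q).range_subschemeι, TopologicalSpace.Closeds.coe_bot, Set.range_eq_empty_iff]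
      exact not_nonempty_iff.1 hne
    obtain ⟨y, hy⟩ := (Groth.Agent.ProjDim18.codim_components_inter_zeroLocus k (n + 1) Set.univ isClosed_univ
      (haveI : IsIntegral (CohB1.ProjSpace (n + 1) k) := Groth.Agent.RegExt.isIntegral_projSpace (n + 1) k
       IrreducibleSpace.isIrreducible_univ ↥(CohB1.ProjSpace (n + 1) k))
      (fun _ : Fin 1 => Q.1) (fun _ => 2) (fun _ => (MvPolynomial.mem_homogeneousSubmodule _ _).1 Q.2)
      (fun _ => two_pos)).2 (by
        refine le_trans ?_ (Groth.Agent.ProjDim18.coheight_le_dim k (n + 1) isClosed_univ (x := Groth.Agent.ProjDim18.mkPt k (n + 1) ⊥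
          Ideal.isPrime_bot (Ideal.IsHomogeneous.bot _) (fun hle => by
            have : (MvPolynomial.X 0 : MvPolynomial (Fin (n + 1 + 1)) k) ∈ (⊥ : Ideal _) :=
              hle (Ideal.subset_span ⟨0, rfl⟩)
            exact MvPolynomial.X_ne_zero 0 (Ideal.mem_bot.1 this))) trivial)
        generalize hg : Groth.Agent.ProjDim18.mkPt k (n + 1) ⊥ _ _ _ = g
        have h1 := Groth.Agent.ProjDim18.ringKrullDim_quotient_eq k (n + 1) g
        rw [← hg] at h1 ⊢
        revert h1
        generalize Order.coheight (Groth.Agent.ProjDim18.mkPt k (n + 1) ⊥ _ _ _) = c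
        intro h1
        have h2 : ringKrullDim (MvPolynomial (Fin (n + 1 + 1)) k ⧸ (⊥ : Ideal (MvPolynomial (Fin (n + 1 + 1)) k))) =
            ((n + 2 : ℕ) : WithBot ℕ∞) := (ringKrullDim_eq_of_ringEquiv
              (RingEquiv.quotientBot _)).trans (Groth.Agent.VarDim.ringKrullDim_mvPolynomial k (n + 2))
        have h3 := h2.symm.trans h1
        induction c using ENat.recTopCoe with
        | top => exact le_top
        | coe c =>
          have : n + 2 = c + 1 := Nat.cast_inj.1 (WithBot.coe_inj.1 (h3.trans (by push_cast; rfl)) :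
            ((n + 2 : ℕ) : ℕ∞) = ((c + 1 : ℕ) : ℕ∞))
          exact WithBot.coe_le_coe.2 (Nat.cast_le.2 (show 1 ≤ c by omega)))
    have hy' : y ∈ (LefPen.hypIdeal Q).support := by
      rw [Groth.Agent.ProjDim18.support_hypIdeal]
      exact (Groth.Agent.ProjDim18.mem_hypZero_iff Q y).2 (hy.2 ⟨0, rfl⟩)
    rw [hs] at hy'
    exact hy'
  haveI := hne
  have hQ : Q.1 ≠ 0 := by
    intro h0
    have hbot : LefPen.hypIdeal Q = ⊥ := by
      refine le_bot_iff.1 fun U => (Scheme.IdealSheafData.ideal_ofIdeals_le _ U).trans ?_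
      intro x hx
      rw [LefPen.hypFamily, Ideal.mem_iInf] at hx
      rw [Scheme.IdealSheafData.ideal_bot, Pi.bot_apply, Ideal.mem_bot]
      refine TopCat.Sheaf.eq_of_locally_eq' (CohB1.ProjSpace (n + 1) k).sheaf
        (fun i => U.1 ⊓ LefPen.chart (n + 1) k i) U.1 (fun i => homOfLE inf_le_left) ?_ x 0 (fun i => ?_)
      · intro z hz
        obtain ⟨i, hi⟩ := Groth.Agent.ProjSpace.exists_mem_chart (n + 1) k z
        rw [Groth.Agent.ProjSpace.opensRange_chart] at hi
        exact TopologicalSpace.Opens.mem_iSup.2 ⟨i, hz, hi⟩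
      · have h := hx i
        have hd : LefPen.dehom Q i = 0 := by
          rw [Groth.Agent.LefPen13.dehom_eq_dh, h0, map_zero]
        rw [Ideal.mem_comap, hd, map_zero, Ideal.span_singleton_zero, Ideal.mem_bot] at h
        rw [map_zero]
        exact h
    haveI : IsIso ι := by
      show IsIso (LefPen.hypIdeal Q).subschemeι
      rw [hbot]; infer_instance
    haveI : SmoothOfRelativeDimension (n + 1) (CohB1.ProjSpace.toSpec (n + 1) k) :=
      Groth.Agent.ProjSpace.smoothOfRelativeDimension_toSpec (n + 1) k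
    haveI : SmoothOfRelativeDimension (0 + (n + 1)) (ι ≫ CohB1.ProjSpace.toSpec (n + 1) k) := inferInstance
    have h1 := Groth.Agent.S2768.result n (ι ≫ CohB1.ProjSpace.toSpec (n + 1) k) hne.some
    have h2 := Groth.Agent.S2768.result (0 + (n + 1)) (ι ≫ CohB1.ProjSpace.toSpec (n + 1) k) hne.some
    have h3 := h1.symm.trans h2
    have : n = 0 + (n + 1) := by exact_mod_cast h3
    omega
  have hI := Groth.Agent.CIProj14.nonempty_idealMod_hypIdeal Q hQ
  refine ⟨fun i hi => ?_, ?_⟩
  · obtain ⟨e₀⟩ := Groth.Agent.Twist.nonempty_twist_zero_iso (CohB1.polyGrading (n + 1) k)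
    rw [Groth.Agent.CohFound.subsingleton_HH_iff]
    refine Groth.Agent.CohFound.subsingleton_hc_of_iso
      ((Scheme.Modules.pullback ι).mapIso e₀ ≪≫ Groth.Agent.Twist.pullbackUnitIso ι) i ⊤ ?_
    exact (Groth.Agent.CohFound.subsingleton_HH_iff _ _).1
      (Groth.Agent.CIProj14.subsingleton_HH_hyp (LefPen.hypIdeal Q) (d := 2) hI 0 i hi (Or.inl (by omega)) (Or.inl (by omega)))
  · have hsurj := Groth.Agent.CIProj14.surjective_appTop ι
      (Groth.Agent.CIProj14.surjective_pullSec (LefPen.hypIdeal Q) _ (Groth.Agent.Twist.isInvertible_twistProjSpace _ k 0)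
        (Groth.Agent.CIProj14.subsingleton_HH_tensor_idealMod (LefPen.hypIdeal Q) (d := 2) hI 0 1 one_pos (Or.inl (by omega))))
    haveI : Nonempty (⊤ : (LefPen.hypIdeal Q).subscheme.Opens) := ⟨⟨Classical.arbitrary _, trivial⟩⟩
    haveI : Nontrivial Γ((LefPen.hypIdeal Q).subscheme, ⊤) :=
      Scheme.component_nontrivial (LefPen.hypIdeal Q).subscheme ⊤
    have hb : Function.Bijective ((ι ≫ CohB1.ProjSpace.toSpec (n + 1) k).appTop.hom.comp
        (Scheme.ΓSpecIso (CommRingCat.of k)).inv.hom) := ⟨RingHom.injective _, hsurj⟩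
    exact (Function.Bijective.of_comp_iff _
      (ConcreteCategory.bijective_of_isIso (Scheme.ΓSpecIso (CommRingCat.of k)).inv)).1 hb

end Groth.Agent.S8731
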