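import Groth.Statements.S8734
import Groth.Agent.Lib.Euler2.Hodge

set_option autoImplicit false
set_option backward.isDefEq.respectTransparency.types false
set_option backward.isDefEq.respectTransparency false
set_option synthInstance.maxHeartbeats 400000
set_option linter.style.haveILetI false
set_option linter.unusedVariables false
universe u
open CategoryTheory CategoryTheory.Limits AlgebraicGeometry
open LefPen

namespace Groth.Agent.S8734

/-- Over a field: let k be a field, r >= 1, P = P^r_k, Ω = Ω^1_{P/k}, L an O_P-module which is a j-th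
exterior power of Ω, and n a nonzero integer; write L(n) = L ⊗ O_P(n). Then H^i(P, L(n)) = H^i(P^r,
Ω^j(n)) is zero unless either i = 0 and n > j, or i = r and n < j - r. -/
theorem result (k : Type u) [Field k] (r : ℕ) (hr : 1 ≤ r) (j : ℕ)
    (L : (CohB1.ProjSpace r k).Modules)
    (hL : ExtPow.IsExtPow j (Omega.sheaf (CohB1.ProjSpace.toSpec r k)) L) (n : ℤ) (hn : n ≠ 0) (i : ℕ)
    (h0 : ¬ (i = 0 ∧ (j : ℤ) < n)) (hr' : ¬ (i = r ∧ n < (j : ℤ) - r)) :
    Subsingleton (Coh.HH (CohB1.ProjSpace r k)
      (CohB1.tensorMod L (Twist.twistProjSpace r k n)) i) := by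
  obtain ⟨e⟩ := Groth.Agent.ExtFil4.isoExtPow (Groth.Agent.Euler2.isExtPow_Om r k j) hL
  refine Groth.Agent.Euler2.subsingleton_HH_iso (Groth.Agent.M2.tensorIso e (CategoryTheory.Iso.refl _)) ?_
  rcases lt_or_gt_of_ne hn with hneg | hpos
  · rcases lt_trichotomy i r with h | h | h
    · exact Groth.Agent.Euler2.van_neg r k hneg j i h
    · subst h
      exact Groth.Agent.Euler2.van_neg_top i k hr hneg j (by omega)
    · exact Groth.Agent.Euler2.van_gt r k j i h
  · rcases Nat.eq_zero_or_pos i with h | h
    · subst h
      exact Groth.Agent.Euler2.van_pos_zero r k hpos j (by omega)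
    · exact Groth.Agent.Euler2.van_pos r k hpos j i h

end Groth.Agent.S8734
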