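import Groth.Statements.S8738
import Groth.Agent.Lib.JacPS3.Sufficient
import Mathlib

set_option autoImplicit false
universe u
open SGA7II

namespace Groth.Agent.S8738

/-- Let k be a field of characteristic zero and A a reduced Noetherian local k-algebra of Krull
dimension one, essentially of finite type over k (the local ring of a reduced curve over k at one of
its points), and let A' be the integral closure of A in its total ring of fractions (the
normalization). Then every k-derivation D of A extends to a k-derivation D' of A', i.e. D' agrees
with D on the image of A. -/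
theorem result (k : Type u) [Field k] [CharZero k] (A : Type u) [CommRing A]
    [Algebra k A] [IsReduced A] [IsNoetherianRing A] [IsLocalRing A] [Algebra.EssFiniteType k A]
    (hdim : ringKrullDim A = 1) (D : Derivation k A A) :
    ∃ D' : Derivation k ↥(integralClosure A (FractionRing A)) ↥(integralClosure A (FractionRing A)),
      ∀ a : A, (D' (algebraMap A ↥(integralClosure A (FractionRing A)) a) : FractionRing A) =
        algebraMap A (FractionRing A) (D a) := by
  classical
  let K := FractionRing A
  obtain ⟨Dk, hDk⟩ := Groth.Agent.JacPS3.exists_derivation_localization (R := K) (nonZeroDivisors A) D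
  letI : Algebra ℤ K := Ring.toIntAlgebra K
  letI : Differential K := ⟨Derivation.mk' (AddMonoidHom.toIntLinearMap (Dk.toLinearMap.toAddMonoidHom))
    (fun a b => Dk.leibniz a b)⟩
  have hder : ∀ a : K, Differential.deriv a = Dk a := fun _ => rfl
  have key : ∀ x : K, IsIntegral A x → IsIntegral A (Dk x) := by
    intro x hx
    set R := Algebra.adjoin A ({x} : Set K) with hR
    obtain ⟨s, hs⟩ := hx.fg_adjoin_singleton
    obtain ⟨c, hc⟩ := IsLocalization.exist_integer_multiples_of_finset (nonZeroDivisors A) s
    set g : K := algebraMap A K (c : A) with hg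
    have hcR : ∀ z ∈ R, ∃ a, algebraMap A K a = g * z := by
      intro z hz
      change z ∈ Subalgebra.toSubmodule R at hz
      rw [hR, ← hs] at hz
      induction hz using Submodule.span_induction with
      | mem z hz =>
        obtain ⟨a, ha⟩ := hc z hz
        exact ⟨a, by rw [ha, Algebra.smul_def]⟩
      | zero => exact ⟨0, by simp⟩
      | add z w _ _ hz hw =>
        obtain ⟨a, ha⟩ := hz; obtain ⟨b, hb⟩ := hw
        exact ⟨a + b, by rw [map_add, ha, hb, mul_add]⟩
      | smul r z _ hz =>
        obtain ⟨a, ha⟩ := hz
        exact ⟨r * a, by rw [map_mul, ha, Algebra.smul_def]; ring⟩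
    have hxR : x ∈ R := Algebra.self_mem_adjoin_singleton A x
    set y := Dk x with hy
    have hyR : ∀ n : ℕ, g * y ^ n ∈ R := by
      intro n
      set u : Polynomial K := Polynomial.C x - Polynomial.X with hu
      set Δ := Differential.mapCoeffs (A := K) with hΔ
      have hΔu : Δ u = Polynomial.C y := by
        rw [hu, map_sub, hΔ, Differential.mapCoeffs_C, Differential.mapCoeffs_X, sub_zero, hder]
      set P : Polynomial K := Polynomial.C g * u ^ n with hP
      have hform : ∀ j ≤ n, ∃ Q : Polynomial K, Δ^[j] P =
          u ^ (n - j) * (Polynomial.C ((n.descFactorial j : K) * g * y ^ j) + u * Q) := by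
        intro j
        induction j with
        | zero => intro _; exact ⟨0, by simp [hP, mul_comm]⟩
        | succ j ih =>
          intro hj
          obtain ⟨Q, hQ⟩ := ih (by omega)
          rw [Function.iterate_succ_apply', hQ]
          obtain ⟨r, hr⟩ := Nat.exists_eq_add_of_lt (Nat.lt_of_succ_le hj)
          subst hr
          simp only [show j + r + 1 - j = r + 1 by omega, show j + r + 1 - (j + 1) = r by omega]
          refine ⟨((r + 1 : ℕ) : Polynomial K) * Polynomial.C y * Q +
            Δ (Polynomial.C (((j + r + 1).descFactorial j : K) * g * y ^ j)) + Polynomial.C y * Q + u * Δ Q, ?_⟩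
          have hd : ((j + r + 1).descFactorial (j + 1) : K) =
              ((r + 1 : ℕ) : K) * ((j + r + 1).descFactorial j : K) := by
            rw [Nat.descFactorial_succ, Nat.cast_mul, show j + r + 1 - j = r + 1 by omega]
          rw [Derivation.leibniz, Derivation.leibniz_pow, map_add, Δ.leibniz u Q, hΔu, hd]
          simp only [smul_eq_mul, nsmul_eq_mul, Nat.add_sub_cancel, map_mul, map_natCast, map_pow, Polynomial.C_eq_natCast]
          ring
      obtain ⟨Q, hQ⟩ := hform n le_rfl
      have hev : (Δ^[n] P).eval x = (n.factorial : K) * g * y ^ n := by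
        rw [hQ, Nat.sub_self, Nat.descFactorial_self]; simp [hu]
      have hcoeff : ∀ j i, ∃ a, algebraMap A K a = (Δ^[j] P).coeff i := by
        intro j
        induction j with
        | zero =>
          intro i
          rw [Function.iterate_zero_apply, hP, Polynomial.coeff_C_mul]
          refine hcR _ ?_
          have : ∀ m i, (u ^ m).coeff i ∈ R := by
            intro m
            induction m with
            | zero =>
              intro i; rw [pow_zero, Polynomial.coeff_one]; split_ifs
              · exact R.one_mem
              · exact R.zero_mem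
            | succ m ih =>
              intro i
              rw [pow_succ, hu, mul_sub, Polynomial.coeff_sub, Polynomial.coeff_mul_C]
              cases i with
              | zero => rw [Polynomial.coeff_mul_X_zero, sub_zero]; exact R.mul_mem (ih 0) hxR
              | succ i => rw [Polynomial.coeff_mul_X]; exact R.sub_mem (R.mul_mem (ih _) hxR) (ih i)
          exact this n i
        | succ j ih =>
          intro i
          obtain ⟨a, ha⟩ := ih i
          refine ⟨D a, ?_⟩
          rw [Function.iterate_succ_apply', hΔ, Differential.coeff_mapCoeffs, hder, ← hDk, ha]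
      have hmem : (Δ^[n] P).eval x ∈ R := by
        rw [Polynomial.eval_eq_sum, Polynomial.sum_def]
        refine sum_mem fun i _ => R.mul_mem ?_ (R.pow_mem hxR i)
        obtain ⟨a, ha⟩ := hcoeff n i
        rw [← ha]; exact R.algebraMap_mem a
      rw [hev] at hmem
      obtain ⟨v, hv⟩ : IsUnit ((n.factorial : ℕ) : A) := by
        rw [← map_natCast (algebraMap k A)]
        exact (isUnit_iff_ne_zero.mpr (Nat.cast_ne_zero.mpr n.factorial_ne_zero)).map _
      have h1 := R.mul_mem (R.algebraMap_mem ((v⁻¹ : Aˣ) : A)) hmem
      rwa [mul_assoc, ← mul_assoc, ← map_natCast (algebraMap A K), ← map_mul, ← hv, Units.inv_mul, map_one,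
        one_mul] at h1
    -- `A[y]` is contained in a finite module
    obtain ⟨w, hw⟩ := IsLocalization.map_units K (c * c)
    have hle : Subalgebra.toSubmodule (Algebra.adjoin A ({y} : Set K)) ≤ Submodule.span A {(↑w⁻¹ : K)} := by
      rw [Algebra.adjoin_eq_span, Submodule.span_le]
      intro z hz
      obtain ⟨i, rfl⟩ := Submonoid.mem_closure_singleton.mp hz
      obtain ⟨a, ha⟩ := hcR _ (hyR i)
      refine Submodule.mem_span_singleton.mpr ⟨a, ?_⟩
      rw [Algebra.smul_def, ha, ← mul_assoc, hg, ← map_mul, ← Submonoid.coe_mul, ← hw]
      rw [mul_comm (w : K), mul_assoc, Units.mul_inv, mul_one]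
    haveI : IsNoetherian A (Submodule.span A {(↑w⁻¹ : K)}) := isNoetherian_span_of_finite A (Set.finite_singleton _)
    exact IsIntegral.of_mem_of_fg _ (isNoetherian_submodule.mp this _ hle) y
      (Algebra.self_mem_adjoin_singleton A y)
  refine ⟨Derivation.mk'
    { toFun := fun x => ⟨Dk (x : K), key x.1 x.2⟩
      map_add' := fun x y => Subtype.ext (map_add Dk (x : K) y)
      map_smul' := fun r x => Subtype.ext (Dk.map_smul r (x : K)) }
    (fun x y => Subtype.ext (Dk.leibniz (x : K) y)), fun a => hDk a⟩

end Groth.Agent.S8738
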