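import Groth.Statements.S8741
import Groth.Agent.Lib.AdeqA.Cover

set_option autoImplicit false
universe u
open CategoryTheory Limits
open Adeq

namespace Groth.Agent.S8741


/-- An adequate functor `F` on `A`-algebras admits a surjection `L → F` from a direct sum `L` of
linearly adequate functors: there are linearly adequate `L_i`, a coproduct cocone of the family
which is a colimit, and an epimorphism from its point onto `F`. -/
theorem result (A : Type u) [CommRing A] (F : Adeq.MVF A) (hF : Adeq.adequate A F) :
    ∃ (ι : Type (u + 1)) (L : ι → Adeq.MVF A), (∀ i, Adeq.linAdequate A (L i)) ∧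
      ∃ (c : Cofan L) (_ : IsColimit c) (π : c.pt ⟶ F), Epi π := by
  obtain ⟨ι, L, hL, c, hc, P, P', φ₀, k, π, -, hπ⟩ := Groth.Agent.AdeqA.exists_cover hF
  exact ⟨ι, L, hL, c, hc, π, Groth.Agent.AdeqA.epi_of_surjective π hπ⟩


end Groth.Agent.S8741
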