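import Groth.Statements.S8794
import Groth.Agent.Lib.Bootstrap27.CplKill
import Groth.Agent.Lib.Dlz27.Unique
-- import your own Groth.Agent.* helpers here

set_option autoImplicit false
universe u
open CategoryTheory
attribute [local instance] HasDerivedCategory.standard
open LocCoh

namespace Groth.Agent.S8794

/-- Let (A, m) be a Noetherian local ring with a dualizing complex, I an ideal and d a natural with
cd(A, I) ≤ d, M a finite A-module, p a prime of A and s a natural with depth(M_p) + dim(A/p) > d +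
s. Assume the total right derived functor RΓ_m and derived I-adic completion exist on D(A). Then
there is f ∈ A with f ∉ p annihilating the cohomology modules H^i of the derived I-adic completion
of RΓ_m(M) for all i ≤ s. -/
theorem result (A : Type u) [CommRing A] [IsNoetherianRing A] [IsLocalRing A] (hdc : ∃ ω : Dual.D A, Dual.IsDualizing A ω) (I : Ideal A) [DRing.HasRgammaI (IsLocalRing.maximalIdeal A)] [DRing.HasDerivedCompletion I] (M : Type u) [AddCommGroup M] [Module A M] [Module.Finite A M] (p : PrimeSpectrum A) (s d : ℕ) (h2 : LocCoh.CdLE A I d) (h3 : (((d + s : ℕ) : ℕ∞) : WithBot ℕ∞) < ((LocCoh.depth (Localization.AtPrime p.asIdeal) (LocalizedModule p.asIdeal.primeCompl M) : ℕ∞) : WithBot ℕ∞) + ringKrullDim (A ⧸ p.asIdeal)) : ∃ f : A, f ∉ p.asIdeal ∧ ∀ i : ℤ, i ≤ s → ∀ x : Dual.HD A ((DRing.derivedCompletion I).obj ((DRing.RgammaI (IsLocalRing.maximalIdeal A)).obj (Dual.inD A M))).obj i, f • x = 0 := by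
  letI := HasDerivedCategory.standard (ModuleCat.{u} A)
  obtain ⟨ω, hω⟩ := hdc
  obtain ⟨n, hn⟩ := Dlz27.exists_normalized hω
  have hc : (((d + s + 1 : ℕ) : ℕ∞) : WithBot ℕ∞) ≤
      ((LocCoh.depth (Localization.AtPrime p.asIdeal) (LocalizedModule p.asIdeal.primeCompl M) : ℕ∞) : WithBot ℕ∞) +
        ringKrullDim (A ⧸ p.asIdeal) := by
    obtain ⟨a, ha⟩ : ∃ a : ℕ∞, (a : WithBot ℕ∞) = ringKrullDim (A ⧸ p.asIdeal) := WithBot.ne_bot_iff_exists.1 fun h =>
      absurd (ringKrullDim_nonneg_of_nontrivial (R := A ⧸ p.asIdeal)) (by rw [h]; simp)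
    rw [← ha] at h3 ⊢
    norm_cast at h3 ⊢
    rw [Nat.cast_add, Nat.cast_one]
    exact Order.add_one_le_of_lt h3
  obtain ⟨f, hf, hk⟩ := Bootstrap27.exists_kills_H (Dlz27.isDualizing_shift hω n) hn p M (d + s + 1) hc
  exact ⟨f ^ (d + s + 1), fun h => hf (p.isPrime.mem_of_pow_mem _ h), fun i hi x =>
    Bootstrap27.smul_HD_derivedCompletion I (IsLocalRing.maximalIdeal A) d h2 M s f (fun j hj => hk j (by omega)) i hi x⟩


end Groth.Agent.S8794
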