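import Groth.Statements.S8801
import Groth.Agent.Lib.CplLevelH7.PairQuot

set_option autoImplicit false
universe u
open AdicRing

namespace Groth.Agent.S8801

/-- Let A be a Noetherian ring and I an ideal. Let C be an A-algebra of finite type and Cʰ a
henselization of the pair (C, IC), viewed as an A-algebra through C, and let J be an ideal of Cʰ.
Then there is an A-algebra B of finite type whose IB-adic completion is isomorphic as an A-algebra
to the I(Cʰ/J)-adic completion of Cʰ/J (existence of an isomorphism only; the published statement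
names no particular map). -/
theorem result (A : Type u) [CommRing A] [IsNoetherianRing A] (I : Ideal A) (C : Type u) [CommRing C] [Algebra A C] [Algebra.FiniteType A C] (Ch : Type u) [CommRing Ch] [Algebra C Ch] [Algebra A Ch] [IsScalarTower A C Ch] (hCh : Hens2.IsPairHenselization C (I.map (algebraMap A C)) Ch) (J : Ideal Ch) : ∃ (B : Type u) (_ : CommRing B) (_ : Algebra A B), Algebra.FiniteType A B ∧ Nonempty (AdicCompletion (I.map (algebraMap A B)) B ≃ₐ[A] AdicCompletion (I.map (algebraMap A (Ch ⧸ J))) (Ch ⧸ J)) := by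
  classical
  haveI : IsNoetherianRing C := Algebra.FiniteType.isNoetherianRing A C
  obtain ⟨e⟩ := Groth.Agent.Hens.exists_pairHenselization_equiv (I.map (algebraMap A C)) Ch hCh
  haveI : IsNoetherianRing Ch := by
    haveI := Groth.Agent.HensH7.isNoetherianRing_pHs (I := I.map (algebraMap A C))
    exact isNoetherianRing_of_ringEquiv _ e.toRingEquiv
  obtain ⟨s, hs⟩ := IsNoetherian.noetherian J
  obtain ⟨k, hk⟩ := Groth.Agent.CplLevelH7.exists_stage e s
  let χ := Groth.Agent.CplLevelH7.χ e k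
  haveI : Algebra.FiniteType A k.S := Algebra.FiniteType.trans (S := C) inferInstance inferInstance
  choose y hy using hk
  let L : Ideal k.S := Ideal.span (Set.range fun a : s => y a.1 a.2)
  have hLJ : L.map χ = J := by
    rw [Ideal.map_span, ← hs]
    show _ = Ideal.span (s : Set Ch)
    congr 1
    ext a
    constructor
    · rintro ⟨_, ⟨b, rfl⟩, rfl⟩
      rw [show χ (y b.1 b.2) = b.1 from hy b.1 b.2]
      exact b.2
    · intro ha
      exact ⟨_, ⟨⟨a, ha⟩, rfl⟩, hy a ha⟩
  have hLle : L ≤ J.comap χ := Ideal.map_le_iff_le_comap.mp hLJ.le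
  let f : k.S ⧸ L →ₐ[A] Ch ⧸ J := Ideal.quotientMapₐ J (χ.restrictScalars A) hLle
  refine ⟨k.S ⧸ L, Ideal.Quotient.commRing L, Ideal.Quotient.algebra A, ?_, ?_⟩
  · exact Algebra.FiniteType.of_surjective (Ideal.Quotient.mkₐ A L) Ideal.Quotient.mk_surjective
  refine Groth.Agent.CplLevelH7.exists_cplEquiv (B := k.S ⧸ L) (T := Ch ⧸ J) I f fun n => ?_
  have hb := Groth.Agent.CplLevelH7.chi_bijective hCh e k n
  set M : Ideal k.S := ((I.map (algebraMap A C)).map (algebraMap C k.S)) ^ n with hM
  set M' : Ideal Ch := ((I.map (algebraMap A C)).map (algebraMap C Ch)) ^ n with hM'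
  have hmS : I.map (algebraMap A (k.S ⧸ L) : A →+* k.S ⧸ L) =
      ((I.map (algebraMap A C)).map (algebraMap C k.S)).map (Ideal.Quotient.mk L) := by
    rw [Ideal.map_map, Ideal.map_map]
    rfl
  have hmT : I.map (algebraMap A (Ch ⧸ J) : A →+* Ch ⧸ J) =
      ((I.map (algebraMap A C)).map (algebraMap C Ch)).map (Ideal.Quotient.mk J) := by
    rw [Ideal.map_map, Ideal.map_map, RingHom.comp_assoc, ← IsScalarTower.algebraMap_eq A C Ch]
    rfl
  let g : k.S →+* Ch ⧸ M' := (Ideal.Quotient.mk M').comp χ.toRingHom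
  have hg : Function.Surjective g := fun z => by
    obtain ⟨w, hw⟩ := hb.2 z
    obtain ⟨x, rfl⟩ := Ideal.Quotient.mk_surjective w
    exact ⟨x, hw⟩
  constructor
  · rw [injective_iff_map_eq_zero]
    intro z hz
    obtain ⟨b, rfl⟩ := Ideal.Quotient.mk_surjective z
    obtain ⟨x, rfl⟩ := Ideal.Quotient.mk_surjective b
    rw [Groth.Agent.CplLevelH7.lev_mk, Ideal.Quotient.eq_zero_iff_mem, hmT, ← Ideal.map_pow] at hz
    obtain ⟨m, hm, hmx⟩ := (Ideal.mem_map_iff_of_surjective _ Ideal.Quotient.mk_surjective).mp hz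
    have hxJ : χ x - m ∈ J := Ideal.Quotient.eq.mp hmx.symm
    have hgx : g x ∈ L.map g := by
      rw [← Ideal.map_map, show L.map χ.toRingHom = J from hLJ]
      rw [show g x = Ideal.Quotient.mk M' (χ x - m) from by
        rw [map_sub, show Ideal.Quotient.mk M' m = 0 from Ideal.Quotient.eq_zero_iff_mem.mpr hm, sub_zero]
        rfl]
      exact Ideal.mem_map_of_mem _ hxJ
    obtain ⟨l, hl, hlx⟩ := (Ideal.mem_map_iff_of_surjective g hg).mp hgx
    have hxl : x - l ∈ M := by
      refine Ideal.Quotient.eq_zero_iff_mem.mp (hb.1 ?_)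
      rw [map_zero, Groth.Agent.CplLevelH7.lev_mk, Ideal.Quotient.eq_zero_iff_mem, map_sub]
      exact Ideal.Quotient.eq.mp hlx.symm
    rw [Ideal.Quotient.eq_zero_iff_mem, hmS]
    have h9 := le_of_eq (Ideal.map_pow (Ideal.Quotient.mkₐ C L) ((I.map (algebraMap A C)).map (algebraMap C k.S)) n)
    refine SetLike.le_def.mp h9 ?_
    rw [show Ideal.Quotient.mk L x = Ideal.Quotient.mk L (x - l) from by
      rw [map_sub, show Ideal.Quotient.mk L l = 0 from Ideal.Quotient.eq_zero_iff_mem.mpr hl, sub_zero]]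
    exact Ideal.mem_map_of_mem _ hxl
  · intro z
    obtain ⟨t, rfl⟩ := Ideal.Quotient.mk_surjective z
    obtain ⟨c, rfl⟩ := Ideal.Quotient.mk_surjective t
    obtain ⟨x, hx⟩ := hg (Ideal.Quotient.mk M' c)
    refine ⟨Ideal.Quotient.mk _ (Ideal.Quotient.mk L x), ?_⟩
    rw [Groth.Agent.CplLevelH7.lev_mk, Ideal.Quotient.eq, hmT, ← Ideal.map_pow,
      show f (Ideal.Quotient.mk L x) - Ideal.Quotient.mk J c = Ideal.Quotient.mk J (χ x - c) from
        (map_sub (Ideal.Quotient.mk J) (χ x) c).symm]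
    exact Ideal.mem_map_of_mem _ (Ideal.Quotient.eq.mp hx)

end Groth.Agent.S8801
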