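import Groth.Statements.S8802
import Groth.Agent.Lib.NFlatFormalH7.Points

set_option autoImplicit false
universe u
open CategoryTheory AlgebraicGeometry Opposite
open Algz

namespace Groth.Agent.S8802

/-- Let A be a Noetherian ring, I ⊆ 𝔞 ideals, U the complement of V(𝔞) in Spec A, and (F_n) an object of
Coh(U, IO_U), indexed here from 0. Assume: (1) there are f_1, …, f_d ∈ I such that for every point y
of U lying in V(I) the ideal IO_{U,y} is generated by the images of f_1, …, f_d and f_1, …, f_d form
a regular sequence on the completed stalk F^∧_y over the completed local ring; (2) writing F_0 for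
the first term of the system, both cohomology groups H^1(U, F_0) and H^0(U, F_0) are finitely
generated over A. Under these hypotheses the system (F_n) admits a canonical extension to all of
Spec A. -/
theorem result (A : Type u) [CommRing A] [IsNoetherianRing A] (I 𝔞 : Ideal A) (hI𝔞 : I ≤ 𝔞) (G : ℕᵒᵖ ⥤ (↑(LocCoh.puncturedOpen A 𝔞) : Scheme.{u}).Modules) (hG : Formal.IsCohFormal I G) (d : ℕ) (f : Fin d → A) (hfI : ∀ j, f j ∈ I) (h1 : ∀ (y : (↑(LocCoh.puncturedOpen A 𝔞) : Scheme.{u})), (LocCoh.puncturedOpen A 𝔞).ι.base y ∈ PrimeSpectrum.zeroLocus (R := A) I → Algz.stalkIdeal I y = Ideal.span (Set.range (fun j => Algz.toStalk A (↑(LocCoh.puncturedOpen A 𝔞) : Scheme.{u}) y (f j))) ∧ RingTheory.Sequence.IsRegular ↥(Algz.hatStalk I G y) (List.ofFn (fun j => algebraMap ((↑(LocCoh.puncturedOpen A 𝔞) : Scheme.{u}).presheaf.stalk y) (Algz.hatRing I y) (Algz.toStalk A (↑(LocCoh.puncturedOpen A 𝔞) : Scheme.{u}) y (f j))))) (h2 : Module.Finite A (Coh.HH (↑(LocCoh.puncturedOpen A 𝔞) : Scheme.{u}) (G.obj (op 0)) 0) ∧ Module.Finite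 A (Coh.HH (↑(LocCoh.puncturedOpen A 𝔞) : Scheme.{u}) (G.obj (op 0)) 1)) : Algz.CanonicallyExtends A I (LocCoh.puncturedOpen A 𝔞) G := by
  open Groth.Agent.NFlatFormalH7 Groth.Agent.GExistH7 RingTheory.Sequence in
  obtain ⟨h20, h21⟩ := h2
  classical
  refine canonicallyExtends_of_stalks (isSys_of_isCohFormal hG) (fun n => ?_) h20 h21
  let σ := (Fintype.equivFin (Idx d (n + 1))).symm
  refine ⟨_, fun j => mon d f (n + 1) (σ j), fun i j => if i = j then 1 else 0, fun j => ?_, fun j => ?_,
    fun y hy => ?_⟩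
  · refine Ideal.pow_right_mono (Ideal.span_le.2 (Set.range_subset_iff.2 hfI)) (n + 1) ?_
    rw [← span_mon]
    exact Ideal.subset_span (Set.mem_range_self _)
  · simp
  · obtain ⟨hst, hreg⟩ := h1 y hy
    let ψ := Algz.toStalk A _ y
    let F : Fin d → _ := ψ ∘ f
    have hrange : Set.range (fun j => ψ (mon d f (n + 1) (σ j))) = Set.range (mon d F (n + 1)) := by
      rw [← σ.surjective.range_comp (mon d F (n + 1))]
      exact congrArg Set.range (funext fun j => map_mon ψ d f (n + 1) (σ j))
    refine ⟨?_, fun i Z hZ => ?_⟩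
    · rw [hrange, span_mon, hst]
      exact le_rfl
    · obtain ⟨e⟩ := nonempty_hatStalk_equiv (isSys_of_isCohFormal hG) y
      have hw : IsWeaklyRegular (stFam G y) (List.ofFn F) := by
        rw [e.isWeaklyRegular_congr, ← isWeaklyRegular_map_algebraMap_iff (Algz.hatRing I y), List.map_ofFn]
        exact hreg.toIsWeaklyRegular
      have hq := quasiRegular d F (smul_mem_of_isWeaklyRegular F hw) (n + 1) (fun q => Z (σ.symm q)) (by
        rw [← σ.sum_comp]
        simp only [Equiv.symm_apply_apply]
        rw [show Ideal.span (Set.range F) = Algz.stalkIdeal I y from hst.symm]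
        simp only [F, ← map_mon]
        exact hZ) (σ i)
      rw [show Ideal.span (Set.range F) = Algz.stalkIdeal I y from hst.symm, Equiv.symm_apply_apply] at hq
      simpa [apply_ite ψ, ψ] using hq

end Groth.Agent.S8802
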