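import Groth.Statements.S8803
import Groth.Agent.S0817
import Mathlib.Algebra.Category.ModuleCat.Subobject
-- import your own Groth.Agent.* helpers here

set_option autoImplicit false
universe u
open CategoryTheory
open LocCoh

open Opposite CategoryTheory.Limits

namespace Groth.Agent.S8803

/-- Let (A, m) be a Noetherian local ring and (M_n) an inverse system of finite A-modules. Then for
every i the inverse system H^i_m(M_n) of local cohomology modules satisfies the Mittag-Leffler
condition. -/
theorem result (A : Type u) [CommRing A] [IsNoetherianRing A] [IsLocalRing A] (Msys : ℕᵒᵖ ⥤ ModuleCat.{u} A) (hfin : ∀ n : ℕᵒᵖ, Module.Finite A (Msys.obj n)) (i : ℕ) : ARSys.IsML (Msys ⋙ localCohomology (IsLocalRing.maximalIdeal A) i) := by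
  intro n
  let X := Msys ⋙ localCohomology (IsLocalRing.maximalIdeal A) i
  have hart : IsArtinian A (X.obj (op n)) :=
    Groth.Agent.S0817.result A (Msys.obj (op n)) i
  have hwf : WellFoundedLT (Subobject (X.obj (op n))) :=
    ⟨InvImage.wf (fun S => ModuleCat.subobjectModule (X.obj (op n)) S) hart.wf |> fun h =>
      Subrelation.wf (fun {a b} hab => (ModuleCat.subobjectModule (X.obj (op n))).strictMono hab) h⟩
  have hanti : Antitone fun s => imageSubobject (ARSys.shiftMap X s n) := antitone_nat_of_succ_le fun s => by
    have e : ARSys.shiftMap X (s + 1) n = ARSys.tr X (by omega : n + s ≤ n + (s + 1)) ≫ ARSys.shiftMap X s n := by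
      show ARSys.tr X _ = ARSys.tr X _ ≫ ARSys.tr X _
      simp only [ARSys.tr]
      rw [← X.map_comp]
      rfl
    show imageSubobject (ARSys.shiftMap X (s + 1) n) ≤ imageSubobject (ARSys.shiftMap X s n)
    rw [e]
    exact imageSubobject_comp_le _ _
  obtain ⟨_, ⟨r, rfl⟩, hr⟩ := hwf.wf.has_min (Set.range fun s => imageSubobject (ARSys.shiftMap X s n))
    (Set.range_nonempty _)
  exact ⟨r, fun s hs => eq_of_le_of_not_lt (hanti hs) (hr _ ⟨s, rfl⟩)⟩

end Groth.Agent.S8803
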