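import Groth.Statements.S8823
import Groth.Agent.Lib.ArtinApproxH7.Core
import Groth.Agent.Lib.Hens.Lift
import Groth.Agent.S0599

set_option autoImplicit false
universe u
open AdicRing

namespace Groth.Agent.S8823

/-- Let A be a Noetherian G-ring and I an ideal of A. Let B and C be A-algebras of finite type, φ an
A-algebra map from the IB-adic completion of B to the IC-adic completion of C, and N ≥ 1. Then one
can find an etale C-algebra C' for which the induced map C/IC → C'/IC' is a bijection, together with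
a homomorphism of A-algebras ψ : B → C' that approximates φ to order N: given any b ∈ B, some c ∈ C
satisfies ψ(b) − c ∈ I^N C', while the image of φ(b) in C/I^N C (the N-th truncation of the
completion) coincides with the class of c. -/
theorem result (A : Type u) [CommRing A] (hA : CAlg.IsGRing A) (I : Ideal A) (B C : Type u) [CommRing B] [Algebra A B] [Algebra.FiniteType A B] [CommRing C] [Algebra A C] [Algebra.FiniteType A C] (φ : (AdicCompletion (I.map (algebraMap A B)) B) →ₐ[A] (AdicCompletion (I.map (algebraMap A C)) C)) (N : ℕ) (hN : 1 ≤ N) : ∃ (C' : Type u) (_ : CommRing C') (_ : Algebra C C') (_ : Algebra A C') (_ : IsScalarTower A C C') (_ : Algebra.Etale C C') (ψ : B →ₐ[A] C'), ((∀ c' : C', ∃ c : C, algebraMap C C' c - c' ∈ I.map (algebraMap A C')) ∧ ∀ c : C, algebraMap C C' c ∈ I.map (algebraMap A C') → c ∈ I.map (algebraMap A C)) ∧ ∀ b : B, ∃ c : C, ψ b - algebraMap C C' c ∈ (I.map (algebraMap A C')) ^ N ∧ AdicCompletion.eval (I.map (algebraMap A C)) C N (φ (AdicCompletion.of (I.map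 (algebraMap A B)) B b)) = Submodule.Quotient.mk c := by
  classical
  haveI := hA.1
  haveI : IsNoetherianRing C := Algebra.FiniteType.isNoetherianRing A C
  let IC : Ideal C := I.map (algebraMap A C)
  let T := AdicCompletion IC C
  have hI : IC.FG := IsNoetherian.noetherian IC
  haveI : IsNoetherianRing T := Compl.isNoetherianRing_adicCompletion IC hI
  let J : Ideal T := (IC ^ N).map (algebraMap C T)
  haveI : HenselianRing T J := Groth.Agent.ArtinApproxH7.henselianRing_pow IC hI N (by omega)
  haveI : IsScalarTower A C T := IsScalarTower.of_algebraMap_eq' rfl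
  -- a presentation of the source
  haveI : Algebra.FinitePresentation A B := Algebra.FinitePresentation.of_finiteType.1 inferInstance
  obtain ⟨n, g, hg, hgker⟩ := Algebra.FinitePresentation.out (R := A) (A := B)
  obtain ⟨S, hS⟩ := hgker
  let P := MvPolynomial (Fin n) A
  let toB : B →ₐ[A] AdicCompletion (I.map (algebraMap A B)) B := IsScalarTower.toAlgHom A B _
  let φ0 : B →ₐ[A] T := φ.comp toB
  let a : Fin n → T := fun i => φ0 (g (MvPolynomial.X i))
  let F : Fin S.card → MvPolynomial (Fin n) C := fun j => MvPolynomial.map (algebraMap A C) (S.equivFin.symm j).1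
  have ha : ∀ j, MvPolynomial.aeval a (F j) = 0 := fun j => by
    rw [MvPolynomial.aeval_map_algebraMap]
    have h1 : (MvPolynomial.aeval a : P →ₐ[A] T) = φ0.comp g := (MvPolynomial.aeval_unique (φ0.comp g)).symm
    rw [h1]
    show φ0 (g _) = 0
    rw [show g (S.equivFin.symm j).1 = 0 from hS.le (Submodule.subset_span (S.equivFin.symm j).2), map_zero]
  obtain ⟨R', _, _, het, ψ₀, b, hb, hcong⟩ := Groth.Agent.ArtinApproxH7.exists_etale_solution
    (Groth.Agent.GRing6.isRegularHom_adicCompletion C (Groth.Agent.S0599.result A hA C) IC) J (fun z => by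
      obtain ⟨r, hr⟩ := Groth.Agent.ArtinApproxH7.exists_approx IC hI N z
      exact ⟨1, r, by rw [map_one]; exact isUnit_one, by rwa [map_one, one_mul]⟩) F a ha
  -- trim the étale neighbourhood
  let σ : R' →ₐ[C] C ⧸ IC := (AdicCompletion.evalOneₐ IC).comp ψ₀
  let M : Ideal R' := IC.map (algebraMap C R')
  haveI : IsNoetherianRing R' := Algebra.FiniteType.isNoetherianRing C R'
  let K : Ideal R' := RingHom.ker σ
  have hMK : M ≤ K := by
    rw [Ideal.map_le_iff_le_comap]
    intro x hx
    show σ (algebraMap C R' x) = 0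
    rw [AlgHom.commutes]
    exact Ideal.Quotient.eq_zero_iff_mem.2 hx
  have hK2 : IsIdempotentElem (K.map (Ideal.Quotient.mk M)) := by
    refine le_antisymm Ideal.mul_le_right ?_
    rw [← Ideal.map_mul]
    refine (Ideal.map_mono (Groth.Agent.Hens.ker_le_sq_of_formallyUnramified σ)).trans (le_of_eq ?_)
    rw [Ideal.map_sup, Ideal.map_quotient_self, sup_bot_eq]
  obtain ⟨e, he, hKe⟩ := (Ideal.isIdempotentElem_iff_of_fg _ (IsNoetherian.noetherian _)).1 hK2
  obtain ⟨ε, hε⟩ := Ideal.Quotient.mk_surjective (I := M) (1 - e)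
  have hεK : ∀ x ∈ K, ε * x ∈ M := fun x hx => by
    obtain ⟨c, hc⟩ := Ideal.mem_span_singleton'.1 (hKe.le (Ideal.mem_map_of_mem _ hx))
    rw [← Ideal.Quotient.eq_zero_iff_mem, map_mul, hε, ← hc]
    linear_combination -c * he.eq
  have hε1 : σ ε = 1 := by
    have h1 : Ideal.Quotient.mk M (ε - 1) ∈ K.map (Ideal.Quotient.mk M) := by
      rw [map_sub, hε, map_one, sub_sub_cancel_left]
      exact neg_mem (hKe.ge (Ideal.mem_span_singleton_self e))
    have h2 : ε - 1 ∈ K := by
      obtain ⟨y, hy, hye⟩ := (Ideal.mem_map_iff_of_surjective _ Ideal.Quotient.mk_surjective).1 h1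
      have h3 := hMK ((Ideal.Quotient.eq).1 hye)
      simpa using K.sub_mem hy h3
    have h4 : σ (ε - 1) = 0 := h2
    rwa [map_sub, map_one, sub_eq_zero] at h4
  letI : Algebra A R' := ((algebraMap C R').comp (algebraMap A C)).toAlgebra
  haveI : IsScalarTower A C R' := IsScalarTower.of_algebraMap_eq' rfl
  let C' := Localization.Away ε
  haveI : IsScalarTower A C C' := IsScalarTower.of_algebraMap_eq fun x => by
    rw [IsScalarTower.algebraMap_apply A R' C', IsScalarTower.algebraMap_apply C R' C', ← IsScalarTower.algebraMap_apply A C R']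
  have hψε : IsUnit (ψ₀ ε) := by
    have hmem : ψ₀ ε - 1 ∈ IC.map (algebraMap C T) := by
      rw [← AdicCompletion.ker_evalOneₐ_eq_map IC hI]
      show AdicCompletion.evalOneₐ IC (ψ₀ ε - 1) = 0
      rw [map_sub, map_one]
      exact sub_eq_zero.2 hε1
    have hc : IsAdicComplete (IC.map (algebraMap C T)) T := AdicCompletion.isAdicComplete_self IC hI
    have hj := IsAdicComplete.le_jacobson_bot (IC.map (algebraMap C T)) hmem
    rw [Ideal.mem_jacobson_bot] at hj
    simpa using hj 1
  let ψ' : C' →ₐ[C] T := IsLocalization.Away.liftAlgHom ε (f := ψ₀) hψε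
  have hψ' : ∀ z, ψ' (algebraMap R' C' z) = ψ₀ z := fun z => IsLocalization.Away.lift_eq (g := ψ₀.toRingHom) _ hψε z
  haveI : Algebra.Etale R' C' := Algebra.Etale.of_isLocalizationAway ε
  haveI : Algebra.Etale C C' := Algebra.Etale.comp C R' C'
  let MC : Ideal C' := I.map (algebraMap A C')
  have hMC : IC.map (algebraMap C C') = MC := by rw [Ideal.map_map, ← IsScalarTower.algebraMap_eq]
  have hMC' : M.map (algebraMap R' C') = MC := by rw [Ideal.map_map, ← IsScalarTower.algebraMap_eq, hMC]
  have hεu : IsUnit (algebraMap R' C' ε) := IsLocalization.Away.algebraMap_isUnit ε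
  have hsurj0 : ∀ z : R', ∃ c : C, algebraMap R' C' z - algebraMap C C' c ∈ MC := fun z => by
    obtain ⟨c, hc⟩ := Ideal.Quotient.mk_surjective (σ z)
    refine ⟨c, ?_⟩
    have hzK : z - algebraMap C R' c ∈ K := by
      show σ (z - algebraMap C R' c) = 0
      rw [map_sub, AlgHom.commutes, Ideal.Quotient.algebraMap_eq, hc, sub_self]
    have h1 := Ideal.mem_map_of_mem (algebraMap R' C') (hεK _ hzK)
    rw [hMC', map_mul, Ideal.unit_mul_mem_iff_mem _ hεu, map_sub, ← IsScalarTower.algebraMap_apply] at h1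
    exact h1
  have hsurj : ∀ z : C', ∃ c : C, z - algebraMap C C' c ∈ MC := fun z => by
    obtain ⟨w, ⟨_, k, rfl⟩, rfl⟩ := IsLocalization.exists_mk'_eq (Submonoid.powers ε) z
    obtain ⟨c, hc⟩ := hsurj0 w
    refine ⟨c, ?_⟩
    have hε' : algebraMap R' C' ε - 1 ∈ MC := by
      have hεK1 : ε - 1 ∈ K := by show σ (ε - 1) = 0; rw [map_sub, hε1, map_one, sub_self]
      have h1 := Ideal.mem_map_of_mem (algebraMap R' C') (hεK _ hεK1)
      rw [hMC', map_mul, Ideal.unit_mul_mem_iff_mem _ hεu, map_sub, map_one] at h1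
      exact h1
    rw [← Ideal.Quotient.eq] at hc hε' ⊢
    have h2 := congrArg (Ideal.Quotient.mk MC) (IsLocalization.mk'_spec C' w (⟨ε ^ k, k, rfl⟩ : Submonoid.powers ε))
    rw [map_mul, map_pow, map_pow, hε', map_one, one_pow, mul_one] at h2
    exact h2.trans hc
  have hinj : ∀ c : C, algebraMap C C' c ∈ MC → c ∈ IC := fun c hc => by
    rw [← hMC] at hc
    have h1 := Ideal.mem_map_of_mem ψ'.toRingHom hc
    rw [Ideal.map_map, show ψ'.toRingHom.comp (algebraMap C C') = algebraMap C T from ψ'.comp_algebraMap] at h1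
    change ψ' (algebraMap C C' c) ∈ _ at h1
    rw [ψ'.commutes, ← AdicCompletion.ker_evalOneₐ_eq_map IC hI] at h1
    have h2 : AdicCompletion.evalOneₐ IC (algebraMap C T c) = 0 := h1
    rw [AlgHom.commutes] at h2
    exact Ideal.Quotient.eq_zero_iff_mem.1 h2
  have hsurjN : ∀ k : ℕ, ∀ z : C', ∃ c : C, z - algebraMap C C' c ∈ MC ^ k := by
    intro k
    induction k with
    | zero => exact fun z => ⟨0, by simp⟩
    | succ k ih =>
      intro z
      obtain ⟨c₀, hc₀⟩ := hsurj z
      rw [← hMC, Ideal.map] at hc₀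
      suffices h : ∀ x ∈ Ideal.span ((algebraMap C C') '' (IC : Set C)), ∃ c : C, x - algebraMap C C' c ∈ MC ^ (k + 1) by
        obtain ⟨c, hc⟩ := h _ hc₀
        exact ⟨c₀ + c, by rw [map_add, ← sub_sub]; exact hc⟩
      intro x hx
      induction hx using Submodule.span_induction with
      | mem x hx =>
        obtain ⟨i, -, rfl⟩ := hx
        exact ⟨i, by simp⟩
      | zero => exact ⟨0, by simp⟩
      | add x y _ _ h1 h2 =>
        obtain ⟨c1, h1⟩ := h1
        obtain ⟨c2, h2⟩ := h2
        exact ⟨c1 + c2, by rw [map_add]; convert add_mem h1 h2 using 1; ring⟩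
      | smul r x hx h1 =>
        obtain ⟨c, hc⟩ := h1
        obtain ⟨r0, hr0⟩ := ih r
        have hxM : x ∈ MC := by rw [← hMC]; exact hx
        refine ⟨r0 * c, ?_⟩
        rw [smul_eq_mul, map_mul, show r * x - algebraMap C C' r0 * algebraMap C C' c =
          (r - algebraMap C C' r0) * x + algebraMap C C' r0 * (x - algebraMap C C' c) by ring, pow_succ]
        exact add_mem (Ideal.mul_mem_mul hr0 hxM) (Ideal.mul_mem_left _ _ (by rw [← pow_succ]; exact hc))
  -- the map
  let g' : P →ₐ[A] C' := MvPolynomial.aeval fun i => algebraMap R' C' (b i)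
  have hg' : ∀ x, g x = 0 → g' x = 0 := by
    intro x hx
    have hx' : x ∈ Ideal.span (S : Set P) := hS.ge hx
    refine (Ideal.span_le (I := RingHom.ker g')).2 (fun y hy => ?_) hx'
    show g' y = 0
    have h1 := congrArg (algebraMap R' C') (hb (S.equivFin ⟨y, hy⟩))
    simp only [F, Equiv.symm_apply_apply, map_zero] at h1
    rw [← MvPolynomial.aeval_algebraMap_apply, MvPolynomial.aeval_map_algebraMap] at h1
    exact h1
  let ψ : B →ₐ[A] C' := AlgHom.liftOfSurjective g hg g' fun x hx => hg' x hx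
  refine ⟨C', inferInstance, inferInstance, inferInstance, inferInstance, inferInstance, ψ,
    ⟨fun c' => ?_, fun c hc => hinj c hc⟩, fun x => ?_⟩
  · obtain ⟨c, hc⟩ := hsurj c'
    exact ⟨c, by rw [← neg_sub]; exact MC.neg_mem hc⟩
  obtain ⟨c, hc⟩ := hsurjN N (ψ x)
  refine ⟨c, hc, ?_⟩
  obtain ⟨y, rfl⟩ := hg x
  have h1 : φ0 (g y) - ψ' (ψ (g y)) ∈ J := by
    rw [← Ideal.Quotient.eq]
    have e : ((Ideal.Quotient.mkₐ A J).comp φ0).comp g = (Ideal.Quotient.mkₐ A J).comp ((ψ'.restrictScalars A).comp g') :=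
      MvPolynomial.algHom_ext fun i => by
        simp only [AlgHom.comp_apply, Ideal.Quotient.mkₐ_eq_mk, AlgHom.coe_restrictScalars', g', MvPolynomial.aeval_X, hψ']
        exact Ideal.Quotient.eq.2 (hcong i)
    refine (AlgHom.congr_fun e y).trans ?_
    rw [show ψ (g y) = g' y from AlgHom.liftOfSurjective_apply _ _ _ _ y]
    rfl
  have h2 : ψ' (ψ (g y)) - algebraMap C T c ∈ J := by
    rw [← hMC, ← Ideal.map_pow] at hc
    have h3 := Ideal.mem_map_of_mem ψ'.toRingHom hc
    rw [Ideal.map_map, show ψ'.toRingHom.comp (algebraMap C C') = algebraMap C T from ψ'.comp_algebraMap] at h3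
    change ψ' (ψ (g y) - algebraMap C C' c) ∈ _ at h3
    rwa [map_sub, ψ'.commutes] at h3
  have h4 : φ0 (g y) - algebraMap C T c ∈ J := by
    have := J.add_mem h1 h2
    rwa [sub_add_sub_cancel] at this
  rw [← Submodule.restrictScalars_mem C, ← Ideal.smul_top_eq_map, AdicCompletion.pow_smul_top_eq_ker_eval hI,
    LinearMap.mem_ker, map_sub, sub_eq_zero] at h4
  exact h4

end Groth.Agent.S8823
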