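import Groth.Statements.S8825
import Groth.Agent.S8804
import Groth.Agent.S0598
import Groth.Agent.Lib.GRing6.PowerSeries
-- import your own Groth.Agent.* helpers here

set_option autoImplicit false
set_option linter.style.haveILetI false
universe u
open AdicRing
open Groth.Agent

namespace Groth.Agent.S8825

/-- Let A be a Noetherian ring which is complete for the adic topology of an ideal I, let p be a
rig-closed prime of A (I ⊄ p and p is maximal among the primes not containing I), and let n ≥ 1.
Then the ring map from A/p to the restricted power series ring (A/p){x_1, …, x_n}, i.e. the I-adic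
completion of the polynomial ring (A/p)[x_1, …, x_n], is a regular ring map (flat, with Noetherian
and geometrically regular fibres). (The consequence for the fibre over the fraction field is not
stated.) -/
theorem result (A : Type u) [CommRing A] [IsNoetherianRing A] (I : Ideal A) [IsAdicComplete I A] (p : PrimeSpectrum A) (hp : ¬ I ≤ p.asIdeal ∧ ∀ q : PrimeSpectrum A, p ≤ q → ¬ I ≤ q.asIdeal → q = p) (n : ℕ) (hn : 1 ≤ n) : CAlg.IsRegularHom (A ⧸ p.asIdeal) (AdicCompletion (I.map (algebraMap A (MvPolynomial (Fin n) (A ⧸ p.asIdeal)))) (MvPolynomial (Fin n) (A ⧸ p.asIdeal))) := by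
  obtain ⟨_, hmax, hcpl⟩ := ((Groth.Agent.S8804.result A I p).out 0 2).mp hp
  let B := A ⧸ p.asIdeal
  let m : Ideal B := (I.map (Ideal.Quotient.mk p.asIdeal)).radical
  obtain ⟨m₀, hm₀⟩ := Ideal.exists_maximal B
  haveI hm : m.IsMaximal := by
    have e : m₀ = m := hmax m₀ hm₀
    rw [← e]; exact hm₀
  haveI : IsLocalRing B := IsLocalRing.of_unique_max_ideal ⟨m, hm, hmax⟩
  haveI : IsAdicComplete (IsLocalRing.maximalIdeal B) B := by
    rw [hmax (IsLocalRing.maximalIdeal B) inferInstance]
    exact hcpl
  have hB : CAlg.IsGRing B := Groth.Agent.S0598.result B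
  haveI : IsNoetherianRing (MvPolynomial (Fin n) B) := inferInstance
  let J : Ideal (MvPolynomial (Fin n) B) := I.map (algebraMap A (MvPolynomial (Fin n) B))
  haveI : IsNoetherianRing (AdicCompletion J (MvPolynomial (Fin n) B)) :=
    Compl.isNoetherianRing_adicCompletion J (IsNoetherian.noetherian J)
  exact FlatDepth.isRegularHom_comp B (MvPolynomial (Fin n) B) (AdicCompletion J (MvPolynomial (Fin n) B))
    (GRing6.isRegularHom_mvPolynomial B n)
    (GRing6.isRegularHom_adicCompletion (MvPolynomial (Fin n) B) (GRing6.isGRing_mvPolynomial B hB n) J)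

end Groth.Agent.S8825
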