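import Groth.Statements.S8826
import Groth.Agent.Lib.ElkikUniqH7.Basic
import Groth.Agent.Lib.HensH7.PairNoetherian

set_option autoImplicit false
universe u
open AdicRing

namespace Groth.Agent.S8826

/-- Let A be a Noetherian ring and I an ideal. Let B be an A-algebra of finite type such that Spec B →
Spec A is etale over the complement of V(I) (B_a etale over A for every a ∈ I), let C be a
Noetherian A-algebra with a henselization Cʰ of the pair (C, IC), and let φ be an A-algebra map from
the IB-adic completion of B to the IC-adic completion of C. Then there is exactly one A-algebra map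
ψ : B → Cʰ which induces φ on completions, in the sense that for every n and every b ∈ B there is c
∈ C with ψ(b) − c ∈ I^n Cʰ and with the n-th truncation of φ(b) in C/I^n C equal to the class of c
(recall C/I^n C = Cʰ/I^n Cʰ). (The second assertion, that such maps factor through an etale
neighbourhood, is not stated.) -/
theorem result (A : Type u) [CommRing A] [IsNoetherianRing A] (I : Ideal A) (B : Type u) [CommRing B] [Algebra A B] [Algebra.FiniteType A B] (hB : ∀ a ∈ I, Algebra.Etale A (Localization.Away (algebraMap A B a))) (C : Type u) [CommRing C] [Algebra A C] [IsNoetherianRing C] (Ch : Type u) [CommRing Ch] [Algebra C Ch] [Algebra A Ch] [IsScalarTower A C Ch] (hCh : Hens2.IsPairHenselization C (I.map (algebraMap A C)) Ch) (φ : (AdicCompletion (I.map (algebraMap A B)) B) →ₐ[A] (AdicCompletion (I.map (algebraMap A C)) C)) : ∃! ψ : B →ₐ[A] Ch, ∀ (n : ℕ) (b : B), ∃ c : C, ψ b - algebraMap C Ch c ∈ (I.map (algebraMap A Ch)) ^ n ∧ AdicCompletion.eval (I.map (algebraMap A C)) C n (φ (AdicCompletion.of (I.map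 (algebraMap A B)) B b)) = Submodule.Quotient.mk c := by
  classical
  let IB := I.map (algebraMap A B)
  let IC := I.map (algebraMap A C)
  let IH := I.map (algebraMap A Ch)
  have hICH : IC.map (algebraMap C Ch) = IH := by
    rw [Ideal.map_map, ← IsScalarTower.algebraMap_eq]
  haveI : IsNoetherianRing Ch := by
    obtain ⟨e⟩ := Groth.Agent.Hens.exists_pairHenselization_equiv IC Ch hCh
    haveI := Groth.Agent.HensH7.isNoetherianRing_pHs (I := IC)
    exact isNoetherianRing_of_ringEquiv _ e.toRingEquiv
  have hH : HenselianRing Ch IH := hICH ▸ hCh.1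
  obtain ⟨s, hs⟩ := (IsNoetherian.noetherian I : I.FG)
  have hl : Groth.Agent.ElkikUniqH7.lspan Ch s.toList = IH := by
    have : {x | x ∈ s.toList} = (↑s : Set A) := by ext x; simp
    rw [Groth.Agent.ElkikUniqH7.lspan, this]
    exact congrArg (Ideal.map _) hs
  let toB : B →ₐ[A] AdicCompletion IB B := IsScalarTower.toAlgHom A B _
  let φ0 : B →ₐ[A] AdicCompletion IC C := φ.comp toB
  have hle : ∀ k : ℕ, IC ^ k ≤ (IH ^ k).comap (algebraMap C Ch) := fun k => by
    rw [← Ideal.map_le_iff_le_comap, Ideal.map_pow, hICH]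
  let qk : ∀ k, C ⧸ IC ^ k →ₐ[A] Ch ⧸ IH ^ k := fun k =>
    Ideal.quotientMapₐ (IH ^ k) (IsScalarTower.toAlgHom A C Ch) (hle k)
  let ev : ∀ k, AdicCompletion IC C →ₐ[A] C ⧸ IC ^ k := fun k =>
    (AdicCompletion.evalₐ IC k).restrictScalars A
  -- a representative of the truncation
  have hrep : ∀ (k : ℕ) (b : B) (c : C),
      AdicCompletion.eval IC C k (φ (AdicCompletion.of IB B b)) = Submodule.Quotient.mk c →
      qk k (ev k (φ0 b)) = Ideal.Quotient.mk _ (algebraMap C Ch c) := by
    intro k b c hc
    have : ev k (φ0 b) = Ideal.Quotient.mk _ c := by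
      show AdicCompletion.evalₐ IC k (φ (AdicCompletion.of IB B b)) = _
      rw [← AdicCompletion.factor_eval_eq_evalₐ IC _ (le_of_eq (Ideal.mul_top _))]
      erw [hc]
      rfl
    rw [this]
    rfl
  let f : ∀ k, B →ₐ[A] Ch ⧸ IH ^ k := fun k => (qk k).comp ((ev k).comp φ0)
  have hf : Groth.Agent.ElkikUniqH7.Compat IH f := by
    intro j k hjk b z hz
    obtain ⟨c, hc⟩ := Submodule.Quotient.mk_surjective _ ((φ (AdicCompletion.of IB B b)).val k)
    have h2 : AdicCompletion.eval IC C j (φ (AdicCompletion.of IB B b)) = Submodule.Quotient.mk c := by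
      show (φ (AdicCompletion.of IB B b)).val j = _
      rw [← (φ (AdicCompletion.of IB B b)).2 hjk, ← hc]
      rfl
    have h1 : qk k (ev k (φ0 b)) = Ideal.Quotient.mk _ (algebraMap C Ch c) := hrep k b c hc.symm
    have h3 : z - algebraMap C Ch c ∈ IH ^ k := Ideal.Quotient.eq.1 (hz.trans h1)
    show Ideal.Quotient.mk (IH ^ j) z = qk j (ev j (φ0 b))
    rw [hrep j b c h2, Ideal.Quotient.eq]
    exact Ideal.pow_le_pow_right hjk h3
  have main : ∀ l : List A, Groth.Agent.ElkikUniqH7.lspan Ch l = IH →
      (∀ a ∈ l, Algebra.FormallyUnramified A (Localization.Away (algebraMap A B a))) →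
      ∃ ψ : B →ₐ[A] Ch, ∀ k b, Ideal.Quotient.mk (IH ^ k) (ψ b) = f k b := by
    intro l hl' hu
    clear_value f
    clear hrep
    revert f
    rw [← hl'] at hH ⊢
    intro f hf
    exact Groth.Agent.ElkikUniqH7.exists_hom_list l hu Ch hH f hf
  obtain ⟨ψ, hψ⟩ := main s.toList hl (fun a ha => by
    haveI := hB a (hs ▸ Ideal.subset_span (Finset.mem_toList.1 ha))
    infer_instance)
  refine ⟨ψ, fun n b => ?_, fun ψ' hψ' => ?_⟩
  · obtain ⟨c, hc⟩ := Submodule.Quotient.mk_surjective _ (AdicCompletion.eval IC C n (φ (AdicCompletion.of IB B b)))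
    refine ⟨c, ?_, hc.symm⟩
    rw [← Ideal.Quotient.eq, hψ]
    exact hrep n b c hc.symm
  · ext b
    refine Groth.Agent.ElkikUniqH7.eq_of_forall_sub_mem hH.jac fun k => ?_
    obtain ⟨c, hc1, hc2⟩ := hψ' k b
    rw [← Ideal.Quotient.eq, hψ]
    exact (Ideal.Quotient.eq.2 hc1).trans (hrep k b c hc2).symm

end Groth.Agent.S8826
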