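import Groth.Statements.S8836
import Groth.Agent.S8829
import Mathlib.RingTheory.Ideal.GoingDown

set_option autoImplicit false
universe u
open AdicRing

namespace Groth.Agent.S8836

/-- Let A be a Noetherian ring complete for the adic topology of an ideal I, and B a Noetherian
A-algebra complete for the IB-adic topology, flat over A, with B/IB of finite type over A (a flat
adic morphism, topologically of finite type, of adic Noetherian topological rings). Let p be a prime
of A which is rig-closed (I ⊄ p and p maximal among the primes not containing I). The following are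
equivalent: (1) the maximal ideal of the local ring A/p lies in the image of Spec(B/√(IB)) →
Spec(A/√I), stated as: some prime Q of B containing IB lies over a maximal ideal of A containing p;
(2) there is a rig-closed prime q of B (IB ⊄ q, q maximal among the primes not containing IB) whose
inverse image in A is p. (The published statement adds that, when these hold, A/p ⊆ B/q is a finite
extension of rings and the residue field of the local ring B/q is finite over A/√I; this is not
restated here.) -/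
theorem result (A : Type u) [CommRing A] [IsNoetherianRing A] (I : Ideal A) [IsAdicComplete I A] (B : Type u) [CommRing B] [Algebra A B] [IsNoetherianRing B] [IsAdicComplete (I.map (algebraMap A B)) B] (hft : Algebra.FiniteType A (B ⧸ (I.map (algebraMap A B)))) [Module.Flat A B] (p : PrimeSpectrum A) (hp : (¬ I ≤ p.asIdeal ∧ ∀ y : PrimeSpectrum A, p ≤ y → ¬ I ≤ y.asIdeal → y = p)) : (∃ Q : PrimeSpectrum B, (I.map (algebraMap A B)) ≤ Q.asIdeal ∧ p.asIdeal ≤ (PrimeSpectrum.comap (algebraMap A B) Q).asIdeal ∧ (PrimeSpectrum.comap (algebraMap A B) Q).asIdeal.IsMaximal) ↔ (∃ q : PrimeSpectrum B, (¬ (I.map (algebraMap A B)) ≤ q.asIdeal ∧ ∀ y : PrimeSpectrum B, q ≤ y → ¬ (I.map (algebraMap A B)) ≤ y.asIdeal → y = q) ∧ PrimeSpectrum.comap (algebraMap A B) q = p) := by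
  classical
  constructor
  · rintro ⟨Q, hIQ, hpQ, hmax⟩
    haveI := p.isPrime
    haveI := Q.isPrime
    haveI : Algebra.HasGoingDown A B := inferInstance
    haveI : Q.asIdeal.LiesOver (PrimeSpectrum.comap (algebraMap A B) Q).asIdeal := ⟨rfl⟩
    haveI := (PrimeSpectrum.comap (algebraMap A B) Q).isPrime
    obtain ⟨q₀, hq₀Q, hq₀p, hq₀⟩ := Ideal.exists_ideal_le_liesOver_of_le Q.asIdeal hpQ
    let S : Set (PrimeSpectrum B) := {y | q₀ ≤ y.asIdeal ∧ ¬ I.map (algebraMap A B) ≤ y.asIdeal}
    have hne : (PrimeSpectrum.asIdeal '' S).Nonempty := ⟨q₀, ⟨q₀, hq₀p⟩, ⟨le_rfl, fun h => hp.1 (by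
      rw [hq₀.over]; exact Ideal.map_le_iff_le_comap.1 h)⟩, rfl⟩
    obtain ⟨M, ⟨q, hqS, rfl⟩, hmax'⟩ := set_has_maximal_iff_noetherian.2 (inferInstance : IsNoetherianRing B) _ hne
    have hq : ¬ I.map (algebraMap A B) ≤ q.asIdeal ∧
        ∀ y : PrimeSpectrum B, q ≤ y → ¬ I.map (algebraMap A B) ≤ y.asIdeal → y = q := by
      refine ⟨hqS.2, fun y hy hyI => ?_⟩
      by_contra hne'
      exact hmax' y.asIdeal ⟨y, ⟨hqS.1.trans hy, hyI⟩, rfl⟩
        (lt_of_le_of_ne hy fun h => hne' (PrimeSpectrum.ext h.symm))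
    refine ⟨q, hq, hp.2 _ (fun x hx => ?_) fun h => hq.1 (Ideal.map_le_iff_le_comap.2 h)⟩
    show algebraMap A B x ∈ q.asIdeal
    refine hqS.1 ?_
    rw [hq₀.over] at hx
    exact hx
  · rintro ⟨q, hq, rfl⟩
    haveI := q.isPrime
    obtain ⟨m, hm, hqm⟩ := q.asIdeal.exists_le_maximal q.isPrime.ne_top
    haveI := hm
    refine ⟨⟨m, hm.isPrime⟩, (IsAdicComplete.le_jacobson_bot _).trans (sInf_le ⟨bot_le, hm⟩),
      Ideal.comap_mono hqm, ?_⟩
    have h12 := ((Groth.Agent.S8829.result A I B hft q hq).out 1 0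
      (b := ∀ m : Ideal B, m.IsMaximal → q.asIdeal ≤ m → Module.Finite A (B ⧸ m))).1 hp
    haveI := h12 m hm hqm
    haveI : Algebra.IsIntegral A (B ⧸ m) := Algebra.IsIntegral.of_finite A _
    haveI : (⊥ : Ideal (B ⧸ m)).IsMaximal := Ideal.Quotient.maximal_ideal_iff_isField_quotient _ |>.2 <|
      MulEquiv.isField ((Ideal.Quotient.maximal_ideal_iff_isField_quotient m).1 hm)
        (RingEquiv.quotientBot (B ⧸ m)).toMulEquiv
    have h1 := Ideal.isMaximal_comap_of_isIntegral_of_isMaximal (R := A) (⊥ : Ideal (B ⧸ m))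
    have h2 : (⊥ : Ideal (B ⧸ m)).comap (algebraMap A (B ⧸ m)) = m.comap (algebraMap A B) := by
      ext x
      show algebraMap A (B ⧸ m) x ∈ (⊥ : Ideal (B ⧸ m)) ↔ algebraMap A B x ∈ m
      rw [Ideal.mem_bot, ← Ideal.Quotient.eq_zero_iff_mem]
      rfl
    show (m.comap (algebraMap A B)).IsMaximal
    rw [← h2]
    exact h1

end Groth.Agent.S8836
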