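import Groth.Statements.S8841
import Groth.Agent.Lib.RigFlatH7.FlatAt

set_option autoImplicit false
universe u
open AdicRing

namespace Groth.Agent.S8841

/-- Let A be a Noetherian ring complete for the adic topology of an ideal I, and B a Noetherian
A-algebra complete for the IB-adic topology with B/IB of finite type over A (an adic morphism,
topologically of finite type, of adic Noetherian topological rings), and assume A/I is a Jacobson
ring. Suppose A → B is naively rig-flat: whenever q is a rig-closed prime of B (IB ⊄ q and q maximal
among the primes not containing IB), the localization B_q is an A-flat ring. Then A → B is rig-flat: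
for every f ∈ A, letting A_{f} and B_{f} be the completed principal localizations (the I-adic
completions of A_f and B_f) and ψ : A_{f} → B_{f} the canonical map, characterised here as any ring
map compatible with A_f → B_f (there is exactly one), the local ring (B_{f})_{q'} is flat over A_{f}
via ψ for every rig-closed prime q' of B_{f} (I B_{f} ⊄ q' and q' maximal among the primes not
containing I B_{f}). (That A_{f} → B_{f} is again adic and topologically of finite type is not
restated.) -/
theorem result (A : Type u) [CommRing A] [IsNoetherianRing A] (I : Ideal A) [IsAdicComplete I A] (B : Type u) [CommRing B] [Algebra A B] [IsNoetherianRing B] [IsAdicComplete (I.map (algebraMap A B)) B] (hft : Algebra.FiniteType A (B ⧸ (I.map (algebraMap A B)))) (hJ : IsJacobsonRing (A ⧸ I)) (hnaive : ∀ q : PrimeSpectrum B, (¬ (I.map (algebraMap A B)) ≤ q.asIdeal ∧ ∀ y : PrimeSpectrum B, q ≤ y → ¬ (I.map (algebraMap A B)) ≤ y.asIdeal → y = q) → (algebraMap A (Localization.AtPrime q.asIdeal)).Flat) (f : A) (ψ : (AdicCompletion (I.map (algebraMap A (Localization.Away f))) (Localization.Away f)) →+* (AdicCompletion ((I.map (algebraMap A B)).map (algebraMap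 B (Localization.Away (algebraMap A B f)))) (Localization.Away (algebraMap A B f)))) (hψ : ψ.comp (algebraMap (Localization.Away f) (AdicCompletion (I.map (algebraMap A (Localization.Away f))) (Localization.Away f))) = (algebraMap (Localization.Away (algebraMap A B f)) (AdicCompletion ((I.map (algebraMap A B)).map (algebraMap B (Localization.Away (algebraMap A B f)))) (Localization.Away (algebraMap A B f)))).comp (Localization.awayMap (algebraMap A B) f)) (q' : PrimeSpectrum (AdicCompletion ((I.map (algebraMap A B)).map (algebraMap B (Localization.Away (algebraMap A B f)))) (Localization.Away (algebraMap A B f)))) (hq' : (¬ ((((I.map (algebraMap A B))).map (algebraMap B (Localization.Away (algebraMap A B f)))).map (algebraMap (Localization.Away (algebraMap A B f)) (AdicCompletion ((I.map (algebraMap A B)).map (algebraMap B (Localization.Away (algebraMap A B f)))) (Localization.Away (algebraMap A B f))))) ≤ q'.asIdeal ∧ ∀ y : PrimeSpectrum (AdicCompletion ((I.map (algebraMap A B)).map (algebraMap B (Localization.Away (algebraMap A B f)))) (Localization.Away (algebraMap A B f))), q' ≤ y → ¬ ((((I.map (algebraMap A B))).map (algebraMap B (Localization.Away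 (algebraMap A B f)))).map (algebraMap (Localization.Away (algebraMap A B f)) (AdicCompletion ((I.map (algebraMap A B)).map (algebraMap B (Localization.Away (algebraMap A B f)))) (Localization.Away (algebraMap A B f))))) ≤ y.asIdeal → y = q')) : ((algebraMap (AdicCompletion ((I.map (algebraMap A B)).map (algebraMap B (Localization.Away (algebraMap A B f)))) (Localization.Away (algebraMap A B f))) (Localization.AtPrime q'.asIdeal)).comp ψ).Flat := by
  haveI : IsJacobsonRing (A ⧸ I) := hJ
  haveI : Algebra.FiniteType A (B ⧸ I.map (algebraMap A B)) := hft
  let g : B := algebraMap A B f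
  haveI : IsNoetherianRing (Localization.Away f) := IsLocalization.isNoetherianRing (Submonoid.powers f) _ inferInstance
  haveI : IsNoetherianRing (Localization.Away g) := IsLocalization.isNoetherianRing (Submonoid.powers g) _ inferInstance
  let JA := I.map (algebraMap A (Localization.Away f))
  let JB := (I.map (algebraMap A B)).map (algebraMap B (Localization.Away g))
  haveI : IsNoetherianRing (AdicCompletion JA (Localization.Away f)) :=
    Groth.Agent.Compl.isNoetherianRing_adicCompletion _ (IsNoetherian.noetherian _)
  haveI : IsNoetherianRing (AdicCompletion JB (Localization.Away g)) :=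
    Groth.Agent.Compl.isNoetherianRing_adicCompletion _ (IsNoetherian.noetherian _)
  haveI : Module.Flat A (Localization.Away f) := IsLocalization.flat _ (Submonoid.powers f)
  haveI : Module.Flat A (AdicCompletion JA (Localization.Away f)) := Module.Flat.trans A (Localization.Away f) _
  haveI : Module.Flat B (Localization.Away g) := IsLocalization.flat _ (Submonoid.powers g)
  haveI : Module.Flat B (AdicCompletion JB (Localization.Away g)) := Module.Flat.trans B (Localization.Away g) _
  haveI := Groth.Agent.Lib.RigH7.isAdicComplete_completion (R := A) (C := Localization.Away f) (IsNoetherian.noetherian I)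
  haveI := Groth.Agent.Lib.RigH7.isAdicComplete_completion (R := B) (C := Localization.Away g) (IsNoetherian.noetherian (I.map (algebraMap A B)))
  have hIB : (I.map (algebraMap A B)).map (algebraMap B (AdicCompletion JB (Localization.Away g))) =
      I.map (algebraMap A (AdicCompletion JB (Localization.Away g))) :=
    (Ideal.map_map _ _).trans (congrArg (fun φ => Ideal.map φ I) (IsScalarTower.algebraMap_eq A B _).symm)
  have hJB : JB.map (algebraMap (Localization.Away g) (AdicCompletion JB (Localization.Away g))) =
      I.map (algebraMap A (AdicCompletion JB (Localization.Away g))) :=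
    ((Groth.Agent.Lib.RigH7.map_completion (I.map (algebraMap A B))).symm).trans hIB
  refine Groth.Agent.RigFlatH7.flat_at_rigClosed I hnaive f (IsAdicComplete.le_jacobson_bot _) ?_ ?_
    (hIB ▸ IsAdicComplete.le_jacobson_bot _) ?_ ψ ?_ q' (fun h => hq'.1 (hJB.le.trans h))
    (fun y hy hyI => hq'.2 y hy fun h => hyI (hJB.ge.trans h))
  · rw [IsScalarTower.algebraMap_apply A (Localization.Away f) (AdicCompletion JA (Localization.Away f))]
    exact (IsLocalization.Away.algebraMap_isUnit f).map _
  · intro x
    obtain ⟨l, hl⟩ := Groth.Agent.Lib.RigH7.exists_sub_mem (R := A) (C := Localization.Away f) (IsNoetherian.noetherian I) x 1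
    obtain ⟨⟨a, ⟨_, k, rfl⟩⟩, hak⟩ := IsLocalization.surj (Submonoid.powers f) l
    refine ⟨k, a, ?_⟩
    rw [pow_one] at hl
    have h2 := Ideal.mul_mem_left _ (algebraMap A (AdicCompletion JA (Localization.Away f)) f ^ k) hl
    convert h2 using 1
    rw [mul_sub]
    congr 1
    rw [mul_comm, IsScalarTower.algebraMap_apply A (Localization.Away f) (AdicCompletion JA (Localization.Away f)) a,
      ← hak, map_mul]
    congr 1
    rw [← map_pow]
    exact (IsScalarTower.algebraMap_apply A (Localization.Away f) _ _).symm
  · intro x
    obtain ⟨l, hl⟩ := Groth.Agent.Lib.RigH7.exists_sub_mem (R := B) (C := Localization.Away g) (I := I.map (algebraMap A B)) (IsNoetherian.noetherian _) x 1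
    obtain ⟨⟨b, ⟨_, k, rfl⟩⟩, hbk⟩ := IsLocalization.surj (Submonoid.powers g) l
    refine ⟨k, b, ?_⟩
    rw [pow_one] at hl
    have h2 := Ideal.mul_mem_left _ (algebraMap B (AdicCompletion JB (Localization.Away g)) g ^ k) (hIB.le hl)
    rw [IsScalarTower.algebraMap_apply A B (AdicCompletion JB (Localization.Away g)) f]
    convert h2 using 1
    rw [mul_sub]
    congr 1
    rw [mul_comm, IsScalarTower.algebraMap_apply B (Localization.Away g) (AdicCompletion JB (Localization.Away g)) b,
      ← hbk, map_mul]
    congr 1
    rw [← map_pow]
    exact (IsScalarTower.algebraMap_apply B (Localization.Away g) _ _).symm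
  · intro a
    have h := DFunLike.congr_fun hψ (algebraMap A (Localization.Away f) a)
    simp only [RingHom.comp_apply] at h
    rw [IsScalarTower.algebraMap_apply A (Localization.Away f) (AdicCompletion JA (Localization.Away f)), h,
      IsScalarTower.algebraMap_apply A B (AdicCompletion JB (Localization.Away g)),
      IsScalarTower.algebraMap_apply B (Localization.Away g) (AdicCompletion JB (Localization.Away g))]
    congr 1
    exact IsLocalization.map_eq _ a

end Groth.Agent.S8841
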