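import Groth.Statements.S8843
import Groth.Agent.Lib.RigFlatH7.RigComp

set_option autoImplicit false
universe u
open AdicRing

namespace Groth.Agent.S8843

/-- Let A be a Noetherian ring complete for the adic topology of an ideal I, B a Noetherian A-algebra
complete for the IB-adic topology with B/IB of finite type over A, and C a Noetherian B-algebra,
compatibly an A-algebra, complete for the IC-adic topology with C/IC of finite type over B (so A → B
→ C are adic morphisms of adic Noetherian topological rings, topologically of finite type). Assume A
→ B and B → C are rig-flat, in the following form: for every f ∈ A and the canonical map ψ : A_{f} →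
B_{f} of completed principal localizations (the I-adic completions of A_f → B_f; ψ is characterised
as any ring map compatible with A_f → B_f, and there is exactly one), the local ring (B_{f})_q is
flat over A_{f} via ψ for every rig-closed prime q of B_{f} (I B_{f} ⊄ q and q maximal among the
primes not containing I B_{f}); and likewise for B → C with g ∈ B and rig-closed primes of C_{g}.
Then A → C is rig-flat in the same form: for every f ∈ A, every ring map A_{f} → C_{f} compatible
with A_f → C_f, and every rig-closed prime q of C_{f}, the local ring (C_{f})_q is flat over A_{f}.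
(That A → C is again adic and topologically of finite type is not restated.) -/
theorem result (A : Type u) [CommRing A] [IsNoetherianRing A] (I : Ideal A) [IsAdicComplete I A] (B : Type u) [CommRing B] [Algebra A B] [IsNoetherianRing B] [IsAdicComplete (I.map (algebraMap A B)) B] (hftB : Algebra.FiniteType A (B ⧸ (I.map (algebraMap A B)))) (C : Type u) [CommRing C] [Algebra A C] [Algebra B C] [IsScalarTower A B C] [IsNoetherianRing C] [IsAdicComplete (I.map (algebraMap A C)) C] (hftC : Algebra.FiniteType B (C ⧸ (I.map (algebraMap A C)))) (hAB : (∀ f : A, ∀ ψf : (AdicCompletion (I.map (algebraMap A (Localization.Away f))) (Localization.Away f)) →+* (AdicCompletion ((I.map (algebraMap A B)).map (algebraMap B (Localization.Away (algebraMap A B f)))) (Localization.Away (algebraMap A B f))), ψf.comp (algebraMap (Localization.Away f) (AdicCompletion (I.map (algebraMap A (Localization.Away f))) (Localization.Away f))) = (algebraMap (Localization.Away (algebraMap A B f)) (AdicCompletion ((I.map (algebraMap A B)).map (algebraMap B (Localization.Away (algebraMap A B f)))) (Localization.Away (algebraMap A B f)))).comp (Localization.awayMap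 (algebraMap A B) f) → ∀ qf : PrimeSpectrum (AdicCompletion ((I.map (algebraMap A B)).map (algebraMap B (Localization.Away (algebraMap A B f)))) (Localization.Away (algebraMap A B f))), (¬ (((I.map (algebraMap A B)).map (algebraMap B (Localization.Away (algebraMap A B f)))).map (algebraMap (Localization.Away (algebraMap A B f)) (AdicCompletion ((I.map (algebraMap A B)).map (algebraMap B (Localization.Away (algebraMap A B f)))) (Localization.Away (algebraMap A B f))))) ≤ qf.asIdeal ∧ ∀ y : PrimeSpectrum (AdicCompletion ((I.map (algebraMap A B)).map (algebraMap B (Localization.Away (algebraMap A B f)))) (Localization.Away (algebraMap A B f))), qf ≤ y → ¬ (((I.map (algebraMap A B)).map (algebraMap B (Localization.Away (algebraMap A B f)))).map (algebraMap (Localization.Away (algebraMap A B f)) (AdicCompletion ((I.map (algebraMap A B)).map (algebraMap B (Localization.Away (algebraMap A B f)))) (Localization.Away (algebraMap A B f))))) ≤ y.asIdeal → y = qf) → ((algebraMap (AdicCompletion ((I.map (algebraMap A B)).map (algebraMap B (Localization.Away (algebraMap A B f)))) (Localization.Away (algebraMap A B f))) (Localization.AtPrime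 qf.asIdeal)).comp ψf).Flat)) (hBC : (∀ g : B, ∀ ψg : (AdicCompletion ((I.map (algebraMap A B)).map (algebraMap B (Localization.Away g))) (Localization.Away g)) →+* (AdicCompletion (((I.map (algebraMap A B)).map (algebraMap B C)).map (algebraMap C (Localization.Away (algebraMap B C g)))) (Localization.Away (algebraMap B C g))), ψg.comp (algebraMap (Localization.Away g) (AdicCompletion ((I.map (algebraMap A B)).map (algebraMap B (Localization.Away g))) (Localization.Away g))) = (algebraMap (Localization.Away (algebraMap B C g)) (AdicCompletion (((I.map (algebraMap A B)).map (algebraMap B C)).map (algebraMap C (Localization.Away (algebraMap B C g)))) (Localization.Away (algebraMap B C g)))).comp (Localization.awayMap (algebraMap B C) g) → ∀ qg : PrimeSpectrum (AdicCompletion (((I.map (algebraMap A B)).map (algebraMap B C)).map (algebraMap C (Localization.Away (algebraMap B C g)))) (Localization.Away (algebraMap B C g))), (¬ ((((I.map (algebraMap A B)).map (algebraMap B C)).map (algebraMap C (Localization.Away (algebraMap B C g)))).map (algebraMap (Localization.Away (algebraMap B C g)) (AdicCompletion (((I.map (algebraMap A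 B)).map (algebraMap B C)).map (algebraMap C (Localization.Away (algebraMap B C g)))) (Localization.Away (algebraMap B C g))))) ≤ qg.asIdeal ∧ ∀ y : PrimeSpectrum (AdicCompletion (((I.map (algebraMap A B)).map (algebraMap B C)).map (algebraMap C (Localization.Away (algebraMap B C g)))) (Localization.Away (algebraMap B C g))), qg ≤ y → ¬ ((((I.map (algebraMap A B)).map (algebraMap B C)).map (algebraMap C (Localization.Away (algebraMap B C g)))).map (algebraMap (Localization.Away (algebraMap B C g)) (AdicCompletion (((I.map (algebraMap A B)).map (algebraMap B C)).map (algebraMap C (Localization.Away (algebraMap B C g)))) (Localization.Away (algebraMap B C g))))) ≤ y.asIdeal → y = qg) → ((algebraMap (AdicCompletion (((I.map (algebraMap A B)).map (algebraMap B C)).map (algebraMap C (Localization.Away (algebraMap B C g)))) (Localization.Away (algebraMap B C g))) (Localization.AtPrime qg.asIdeal)).comp ψg).Flat)) : (∀ e : A, ∀ ψe : (AdicCompletion (I.map (algebraMap A (Localization.Away e))) (Localization.Away e)) →+* (AdicCompletion ((I.map (algebraMap A C)).map (algebraMap C (Localization.Away (algebraMap A C e)))) (Localization.Away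 (algebraMap A C e))), ψe.comp (algebraMap (Localization.Away e) (AdicCompletion (I.map (algebraMap A (Localization.Away e))) (Localization.Away e))) = (algebraMap (Localization.Away (algebraMap A C e)) (AdicCompletion ((I.map (algebraMap A C)).map (algebraMap C (Localization.Away (algebraMap A C e)))) (Localization.Away (algebraMap A C e)))).comp (Localization.awayMap (algebraMap A C) e) → ∀ qe : PrimeSpectrum (AdicCompletion ((I.map (algebraMap A C)).map (algebraMap C (Localization.Away (algebraMap A C e)))) (Localization.Away (algebraMap A C e))), (¬ (((I.map (algebraMap A C)).map (algebraMap C (Localization.Away (algebraMap A C e)))).map (algebraMap (Localization.Away (algebraMap A C e)) (AdicCompletion ((I.map (algebraMap A C)).map (algebraMap C (Localization.Away (algebraMap A C e)))) (Localization.Away (algebraMap A C e))))) ≤ qe.asIdeal ∧ ∀ y : PrimeSpectrum (AdicCompletion ((I.map (algebraMap A C)).map (algebraMap C (Localization.Away (algebraMap A C e)))) (Localization.Away (algebraMap A C e))), qe ≤ y → ¬ (((I.map (algebraMap A C)).map (algebraMap C (Localization.Away (algebraMap A C e)))).map (algebraMap (Localization.Away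 (algebraMap A C e)) (AdicCompletion ((I.map (algebraMap A C)).map (algebraMap C (Localization.Away (algebraMap A C e)))) (Localization.Away (algebraMap A C e))))) ≤ y.asIdeal → y = qe) → ((algebraMap (AdicCompletion ((I.map (algebraMap A C)).map (algebraMap C (Localization.Away (algebraMap A C e)))) (Localization.Away (algebraMap A C e))) (Localization.AtPrime qe.asIdeal)).comp ψe).Flat) := by
  intro f ψ hψ q hq
  let g : B := algebraMap A B f
  let h : C := algebraMap B C g
  let h' : C := algebraMap A C f
  have hh : h' = h := IsScalarTower.algebraMap_apply A B C f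
  let JA := I.map (algebraMap A (Localization.Away f))
  let JB := (I.map (algebraMap A B)).map (algebraMap B (Localization.Away g))
  let JC := ((I.map (algebraMap A B)).map (algebraMap B C)).map (algebraMap C (Localization.Away h))
  let JC' := (I.map (algebraMap A C)).map (algebraMap C (Localization.Away h'))
  haveI : IsNoetherianRing (Localization.Away f) := IsLocalization.isNoetherianRing (Submonoid.powers f) _ inferInstance
  haveI : IsNoetherianRing (Localization.Away g) := IsLocalization.isNoetherianRing (Submonoid.powers g) _ inferInstance
  haveI : IsNoetherianRing (Localization.Away h) := IsLocalization.isNoetherianRing (Submonoid.powers h) _ inferInstance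
  haveI : IsNoetherianRing (Localization.Away h') := IsLocalization.isNoetherianRing (Submonoid.powers h') _ inferInstance
  haveI : IsNoetherianRing (AdicCompletion JB (Localization.Away g)) :=
    Groth.Agent.Compl.isNoetherianRing_adicCompletion _ (IsNoetherian.noetherian _)
  let p1 : Localization.Away f →+* Localization.Away g := Localization.awayMap (algebraMap A B) f
  let p2 : Localization.Away g →+* Localization.Away h := Localization.awayMap (algebraMap B C) g
  let p : Localization.Away f →+* Localization.Away h' := Localization.awayMap (algebraMap A C) f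
  have hp1 : JA.map p1 = JB := by
    simp only [JA, JB, Ideal.map_map]
    exact congrArg (fun φ => Ideal.map φ I) (RingHom.ext fun a => RigFlatH7.awayMap_algebraMap _ f a)
  have hp2 : JB.map p2 = JC := by
    simp only [JB, JC, Ideal.map_map]
    exact congrArg (fun φ => Ideal.map φ I)
      (RingHom.ext fun a => RigFlatH7.awayMap_algebraMap _ g (algebraMap A B a))
  haveI : IsLocalization.Away h (Localization.Away h') := by rw [← hh]; infer_instance
  let e : Localization.Away h ≃+* Localization.Away h' :=
    (IsLocalization.algEquiv (Submonoid.powers h) _ _).toRingEquiv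
  have hec : ∀ c, e (algebraMap C _ c) = algebraMap C _ c :=
    (IsLocalization.algEquiv (Submonoid.powers h) _ _).commutes
  have he : JC.map e.toRingHom = JC' := by
    simp only [JC, JC', Ideal.map_map]
    refine congrArg (fun φ => Ideal.map φ I) (RingHom.ext fun a => ?_)
    show e (algebraMap C _ (algebraMap B C (algebraMap A B a))) = algebraMap C _ (algebraMap A C a)
    rw [hec, ← IsScalarTower.algebraMap_apply A B C]
  let ψ1 := FSch.complMap JA JB p1 hp1.le
  let ψ2 := FSch.complMap JB JC p2 hp2.le
  let ε := FSch.complMap JC JC' e.toRingHom he.le
  have hψ1 : ψ1.comp (algebraMap _ _) = (algebraMap _ _).comp p1 :=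
    RingHom.ext (Groth.Agent.FormalH7.complMap_algebraMap JA JB p1 hp1.le)
  have hψ2 : ψ2.comp (algebraMap _ _) = (algebraMap _ _).comp p2 :=
    RingHom.ext (Groth.Agent.FormalH7.complMap_algebraMap JB JC p2 hp2.le)
  have hcomm : ψ = ε.comp (ψ2.comp ψ1) := by
    have hsq : p = e.toRingHom.comp (p2.comp p1) := by
      refine IsLocalization.ringHom_ext (Submonoid.powers f) (RingHom.ext fun a => ?_)
      show p (algebraMap A _ a) = e (p2 (p1 (algebraMap A _ a)))
      rw [RigFlatH7.awayMap_algebraMap, RigFlatH7.awayMap_algebraMap, RigFlatH7.awayMap_algebraMap, hec,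
        ← IsScalarTower.algebraMap_apply A B C]
    refine RigFlatH7.cpl_hom_ext JA JC' p (IsNoetherian.noetherian _) (IsNoetherian.noetherian _) ?_
      (DFunLike.congr_fun hψ) (fun c => ?_)
    · rw [hsq, ← Ideal.map_map, ← Ideal.map_map, hp1, hp2, he]
    · show ε (ψ2 (ψ1 (algebraMap _ _ c))) = _
      rw [Groth.Agent.FormalH7.complMap_algebraMap, Groth.Agent.FormalH7.complMap_algebraMap,
        Groth.Agent.FormalH7.complMap_algebraMap, hsq]
      rfl
  -- the isomorphism between the two spellings of the target
  have he' : JC'.map e.symm.toRingHom = JC := by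
    rw [← he, Ideal.map_map, show e.symm.toRingHom.comp e.toRingHom = RingHom.id _ from
      RingHom.ext e.symm_apply_apply, Ideal.map_id]
  let ε' := FSch.complMap JC' JC e.symm.toRingHom he'.le
  have hεε' : ε.comp ε' = RingHom.id _ :=
    RigFlatH7.cpl_hom_ext JC' JC' (RingHom.id _) (IsNoetherian.noetherian _) (IsNoetherian.noetherian _)
      (Ideal.map_id _).le (fun c => by
        show ε (ε' (algebraMap _ _ c)) = _
        rw [Groth.Agent.FormalH7.complMap_algebraMap, Groth.Agent.FormalH7.complMap_algebraMap]
        exact congrArg (algebraMap _ _) (e.apply_symm_apply c)) fun c => rfl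
  have hε'ε : ε'.comp ε = RingHom.id _ :=
    RigFlatH7.cpl_hom_ext JC JC (RingHom.id _) (IsNoetherian.noetherian _) (IsNoetherian.noetherian _)
      (Ideal.map_id _).le (fun c => by
        show ε' (ε (algebraMap _ _ c)) = _
        rw [Groth.Agent.FormalH7.complMap_algebraMap, Groth.Agent.FormalH7.complMap_algebraMap]
        exact congrArg (algebraMap _ _) (e.symm_apply_apply c)) fun c => rfl
  let E := RingEquiv.ofRingHom ε ε' hεε' hε'ε
  let KC := JC.map (algebraMap (Localization.Away h) (AdicCompletion JC (Localization.Away h)))
  let KC' := JC'.map (algebraMap (Localization.Away h') (AdicCompletion JC' (Localization.Away h')))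
  have hK : KC.map ε = KC' := by
    simp only [KC, KC', ← he, Ideal.map_map]
    exact congrArg (fun φ => Ideal.map φ JC)
      (RingHom.ext (Groth.Agent.FormalH7.complMap_algebraMap JC JC' e.toRingHom he.le))
  have hK' : KC'.map ε' = KC := by rw [← hK, Ideal.map_map, hε'ε, Ideal.map_id]
  let r : PrimeSpectrum (AdicCompletion JC (Localization.Away h)) := ⟨q.asIdeal.comap ε, Ideal.comap_isPrime _ _⟩
  have hr : ¬ KC ≤ r.asIdeal ∧ ∀ y, r ≤ y → ¬ KC ≤ y.asIdeal → y = r := by
    refine ⟨fun hle => hq.1 (hK.ge.trans (Ideal.map_le_iff_le_comap.2 hle)), fun y hy hyK => ?_⟩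
    have h1 : PrimeSpectrum.comap ε' y = q := hq.2 _
      (show q.asIdeal ≤ y.asIdeal.comap ε' from fun x hx => hy (by
        show ε (ε' x) ∈ q.asIdeal
        rw [show ε (ε' x) = x from DFunLike.congr_fun hεε' x]
        exact hx))
      fun hle => hyK (hK'.ge.trans (Ideal.map_le_iff_le_comap.2 hle))
    refine PrimeSpectrum.ext ?_
    show y.asIdeal = q.asIdeal.comap ε
    rw [← congrArg PrimeSpectrum.asIdeal h1]
    show y.asIdeal = (y.asIdeal.comap ε').comap ε
    rw [Ideal.comap_comap, hε'ε, Ideal.comap_id]
  have hr2 := hBC g ψ2 hψ2 r hr
  have hKB : (JB.map (algebraMap (Localization.Away g) (AdicCompletion JB (Localization.Away g)))).map ψ2 = KC := by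
    simp only [KC, ← hp2, Ideal.map_map]
    exact congrArg (fun φ => Ideal.map φ JB) hψ2
  have h3 := RigFlatH7.rigFlat_comp ψ1 ψ2 _ _ hKB (hAB f ψ1 hψ1) r hr.1 hr2
  let ε₁ := Localization.localRingHom r.asIdeal q.asIdeal ε rfl
  have hε₁ : ε₁.Flat := RingHom.Flat.localRingHom (RingHom.Flat.of_bijective E.bijective) _ _ rfl
  have h4 := RingHom.Flat.comp h3 hε₁
  have e4 : ε₁.comp ((algebraMap _ (Localization.AtPrime r.asIdeal)).comp (ψ2.comp ψ1)) =
      (algebraMap _ (Localization.AtPrime q.asIdeal)).comp ψ := by
    rw [hcomm]
    exact RingHom.ext fun x => Localization.localRingHom_to_map r.asIdeal q.asIdeal ε rfl (ψ2 (ψ1 x))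
  rw [← e4]
  exact h4

end Groth.Agent.S8843
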