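import Groth.Statements.S8844
import Groth.Agent.Lib.RigFlatH7.RigDescent

set_option autoImplicit false
universe u
open AdicRing

namespace Groth.Agent.S8844

/-- Consider a commutative square of adic Noetherian topological rings with all maps adic and
topologically of finite type: A a Noetherian ring complete for the adic topology of an ideal I; B,
A' and B' Noetherian algebras complete for the IB-, IA'- and IB'-adic topologies, B' an algebra over
B and over A' compatibly with A, with B/IB and A'/IA' of finite type over A and B'/IB' of finite
type over B and over A'. Assume A → A' is flat and B → B' is faithfully flat. If A' → B' is rig-flat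
— for every f' ∈ A', every ring map A'_{f'} → B'_{f'} of completed principal localizations
compatible with the map of ordinary localizations A'[1/f'] → B'[1/f'] (there is exactly one), and
every rig-closed prime q of B'_{f'} (I B'_{f'} ⊄ q and q maximal among the primes not containing I
B'_{f'}), the local ring (B'_{f'})_q is flat over A'_{f'} — then A → B is rig-flat in the same form:
for every f ∈ A, every ring map A_{f} → B_{f} of completed principal localizations compatible with
the map of ordinary localizations A[1/f] → B[1/f], and every rig-closed prime q of B_{f}, the local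
ring (B_{f})_q is flat over A_{f}. -/
theorem result (A : Type u) [CommRing A] [IsNoetherianRing A] (I : Ideal A) [IsAdicComplete I A] (B : Type u) [CommRing B] [Algebra A B] [IsNoetherianRing B] [IsAdicComplete (I.map (algebraMap A B)) B] (hftB : Algebra.FiniteType A (B ⧸ (I.map (algebraMap A B)))) (A' : Type u) [CommRing A'] [Algebra A A'] [IsNoetherianRing A'] [IsAdicComplete (I.map (algebraMap A A')) A'] (hftA' : Algebra.FiniteType A (A' ⧸ (I.map (algebraMap A A')))) (B' : Type u) [CommRing B'] [Algebra A B'] [Algebra B B'] [Algebra A' B'] [IsScalarTower A B B'] [IsScalarTower A A' B'] [IsNoetherianRing B'] [IsAdicComplete (I.map (algebraMap A B')) B'] (hftB'B : Algebra.FiniteType B (B' ⧸ (I.map (algebraMap A B')))) (hftB'A' : Algebra.FiniteType A' (B' ⧸ (I.map (algebraMap A B')))) [Module.Flat A A'] [Module.FaithfullyFlat B B'] (hA'B' : (∀ f' : A', ∀ ψf' : (AdicCompletion ((I.map (algebraMap A A')).map (algebraMap A' (Localization.Away f'))) (Localization.Away f')) →+* (AdicCompletion (((I.map (algebraMap A A')).map (algebraMap A' B')).map (algebraMap B' (Localization.Away (algebraMap A' B' f')))) (Localization.Away (algebraMap A'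 B' f'))), ψf'.comp (algebraMap (Localization.Away f') (AdicCompletion ((I.map (algebraMap A A')).map (algebraMap A' (Localization.Away f'))) (Localization.Away f'))) = (algebraMap (Localization.Away (algebraMap A' B' f')) (AdicCompletion (((I.map (algebraMap A A')).map (algebraMap A' B')).map (algebraMap B' (Localization.Away (algebraMap A' B' f')))) (Localization.Away (algebraMap A' B' f')))).comp (Localization.awayMap (algebraMap A' B') f') → ∀ qf' : PrimeSpectrum (AdicCompletion (((I.map (algebraMap A A')).map (algebraMap A' B')).map (algebraMap B' (Localization.Away (algebraMap A' B' f')))) (Localization.Away (algebraMap A' B' f'))), (¬ ((((I.map (algebraMap A A')).map (algebraMap A' B')).map (algebraMap B' (Localization.Away (algebraMap A' B' f')))).map (algebraMap (Localization.Away (algebraMap A' B' f')) (AdicCompletion (((I.map (algebraMap A A')).map (algebraMap A' B')).map (algebraMap B' (Localization.Away (algebraMap A' B' f')))) (Localization.Away (algebraMap A' B' f'))))) ≤ qf'.asIdeal ∧ ∀ y : PrimeSpectrum (AdicCompletion (((I.map (algebraMap A A')).map (algebraMap A' B')).map (algebraMap B' (Localization.Away (algebraMap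 A' B' f')))) (Localization.Away (algebraMap A' B' f'))), qf' ≤ y → ¬ ((((I.map (algebraMap A A')).map (algebraMap A' B')).map (algebraMap B' (Localization.Away (algebraMap A' B' f')))).map (algebraMap (Localization.Away (algebraMap A' B' f')) (AdicCompletion (((I.map (algebraMap A A')).map (algebraMap A' B')).map (algebraMap B' (Localization.Away (algebraMap A' B' f')))) (Localization.Away (algebraMap A' B' f'))))) ≤ y.asIdeal → y = qf') → ((algebraMap (AdicCompletion (((I.map (algebraMap A A')).map (algebraMap A' B')).map (algebraMap B' (Localization.Away (algebraMap A' B' f')))) (Localization.Away (algebraMap A' B' f'))) (Localization.AtPrime qf'.asIdeal)).comp ψf').Flat)) : (∀ f : A, ∀ ψf : (AdicCompletion (I.map (algebraMap A (Localization.Away f))) (Localization.Away f)) →+* (AdicCompletion ((I.map (algebraMap A B)).map (algebraMap B (Localization.Away (algebraMap A B f)))) (Localization.Away (algebraMap A B f))), ψf.comp (algebraMap (Localization.Away f) (AdicCompletion (I.map (algebraMap A (Localization.Away f))) (Localization.Away f))) = (algebraMap (Localization.Away (algebraMap A B f)) (AdicCompletion ((I.map (algebraMap A B)).map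 (algebraMap B (Localization.Away (algebraMap A B f)))) (Localization.Away (algebraMap A B f)))).comp (Localization.awayMap (algebraMap A B) f) → ∀ qf : PrimeSpectrum (AdicCompletion ((I.map (algebraMap A B)).map (algebraMap B (Localization.Away (algebraMap A B f)))) (Localization.Away (algebraMap A B f))), (¬ (((I.map (algebraMap A B)).map (algebraMap B (Localization.Away (algebraMap A B f)))).map (algebraMap (Localization.Away (algebraMap A B f)) (AdicCompletion ((I.map (algebraMap A B)).map (algebraMap B (Localization.Away (algebraMap A B f)))) (Localization.Away (algebraMap A B f))))) ≤ qf.asIdeal ∧ ∀ y : PrimeSpectrum (AdicCompletion ((I.map (algebraMap A B)).map (algebraMap B (Localization.Away (algebraMap A B f)))) (Localization.Away (algebraMap A B f))), qf ≤ y → ¬ (((I.map (algebraMap A B)).map (algebraMap B (Localization.Away (algebraMap A B f)))).map (algebraMap (Localization.Away (algebraMap A B f)) (AdicCompletion ((I.map (algebraMap A B)).map (algebraMap B (Localization.Away (algebraMap A B f)))) (Localization.Away (algebraMap A B f))))) ≤ y.asIdeal → y = qf) → ((algebraMap (AdicCompletion ((I.map (algebraMap A B)).map (algebraMap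 B (Localization.Away (algebraMap A B f)))) (Localization.Away (algebraMap A B f))) (Localization.AtPrime qf.asIdeal)).comp ψf).Flat) := by
  intro f ψf hψf qf hqf
  let g : B := algebraMap A B f
  let f' : A' := algebraMap A A' f
  let JA := I.map (algebraMap A (Localization.Away f))
  let JA' := (I.map (algebraMap A A')).map (algebraMap A' (Localization.Away f'))
  let JB := (I.map (algebraMap A B)).map (algebraMap B (Localization.Away g))
  let g' : B' := algebraMap A' B' f'
  let JB' := ((I.map (algebraMap A A')).map (algebraMap A' B')).map (algebraMap B' (Localization.Away g'))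
  have hg : algebraMap B B' g = g' := by
    show algebraMap B B' (algebraMap A B f) = algebraMap A' B' (algebraMap A A' f)
    rw [← IsScalarTower.algebraMap_apply, ← IsScalarTower.algebraMap_apply]
  haveI : IsNoetherianRing (Localization.Away f) := IsLocalization.isNoetherianRing (Submonoid.powers f) _ inferInstance
  haveI : IsNoetherianRing (Localization.Away f') := IsLocalization.isNoetherianRing (Submonoid.powers f') _ inferInstance
  haveI : IsNoetherianRing (Localization.Away g) := IsLocalization.isNoetherianRing (Submonoid.powers g) _ inferInstance
  haveI : IsNoetherianRing (Localization.Away g') := IsLocalization.isNoetherianRing (Submonoid.powers g') _ inferInstance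
  let a1 : Localization.Away f →+* Localization.Away f' := Localization.awayMap (algebraMap A A') f
  haveI : IsLocalization.Away (algebraMap B B' g) (Localization.Away g') := by rw [hg]; infer_instance
  let e : Localization.Away (algebraMap B B' g) ≃+* Localization.Away g' :=
    (IsLocalization.algEquiv (Submonoid.powers (algebraMap B B' g)) _ _).toRingEquiv
  let b1 : Localization.Away g →+* Localization.Away g' :=
    e.toRingHom.comp (Localization.awayMap (algebraMap B B') g)
  have ha1 : a1.Flat := RigFlatH7.flat_awayMap _ (RingHom.flat_algebraMap_iff.2 inferInstance) f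
  have hb1 : b1.FaithfullyFlat := RingHom.FaithfullyFlat.stableUnderComposition _ _
    (RigFlatH7.faithfullyFlat_awayMap _ (RingHom.faithfullyFlat_algebraMap_iff.2 inferInstance) g)
    (RingHom.FaithfullyFlat.of_bijective e.bijective)
  have ha1c : ∀ a, a1 (algebraMap A _ a) = algebraMap A' _ (algebraMap A A' a) := RigFlatH7.awayMap_algebraMap _ f
  have hb1c : ∀ b, b1 (algebraMap B _ b) = algebraMap B' _ (algebraMap B B' b) := fun b => by
    show e (Localization.awayMap (algebraMap B B') g (algebraMap B _ b)) = _
    rw [RigFlatH7.awayMap_algebraMap]
    exact (IsLocalization.algEquiv (Submonoid.powers (algebraMap B B' g)) _ _).commutes _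
  let p1 : Localization.Away f →+* Localization.Away g := Localization.awayMap (algebraMap A B) f
  let p1' : Localization.Away f' →+* Localization.Away g' := Localization.awayMap (algebraMap A' B') f'
  have hA : JA.map a1 = JA' := by
    simp only [JA, JA', Ideal.map_map]
    rw [show a1.comp (algebraMap A (Localization.Away f)) =
      (algebraMap A' (Localization.Away f')).comp (algebraMap A A') from RingHom.ext ha1c]
  have hB : JB.map b1 = JB' := by
    simp only [JA, JA', JB, JB', Ideal.map_map]
    congr 1
    refine RingHom.ext fun a => ?_
    show b1 (algebraMap B (Localization.Away g) (algebraMap A B a)) =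
      algebraMap B' (Localization.Away g') (algebraMap A' B' (algebraMap A A' a))
    rw [hb1c, ← IsScalarTower.algebraMap_apply A B B', IsScalarTower.algebraMap_apply A A' B']
  have hP' : JA'.map p1' = JB' := by
    simp only [JA, JA', JB, JB', Ideal.map_map]
    congr 1
    refine RingHom.ext fun a => ?_
    exact RigFlatH7.awayMap_algebraMap (algebraMap A' B') f' (algebraMap A A' a)
  let α := FSch.complMap JA JA' a1 hA.le
  let β := FSch.complMap JB JB' b1 hB.le
  let ψ' := FSch.complMap JA' JB' p1' hP'.le
  have hψ' : ψ'.comp (algebraMap _ _) = (algebraMap _ _).comp p1' :=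
    RingHom.ext (Groth.Agent.FormalH7.complMap_algebraMap JA' JB' p1' hP'.le)
  have hsq : p1'.comp a1 = b1.comp p1 := by
    refine IsLocalization.ringHom_ext (Submonoid.powers f) (RingHom.ext fun a => ?_)
    show p1' (a1 (algebraMap A _ a)) = b1 (p1 (algebraMap A _ a))
    rw [ha1c, RigFlatH7.awayMap_algebraMap, RigFlatH7.awayMap_algebraMap, hb1c,
      ← IsScalarTower.algebraMap_apply A B B', IsScalarTower.algebraMap_apply A A' B']
  have hcomm : ψ'.comp α = β.comp ψf := by
    refine RigFlatH7.cpl_hom_ext JA JB' (p1'.comp a1) (IsNoetherian.noetherian _) (IsNoetherian.noetherian _) ?_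
      (fun c => ?_) (fun c => ?_)
    · rw [← Ideal.map_map, hA, hP']
    · show ψ' (α (algebraMap _ _ c)) = _
      rw [Groth.Agent.FormalH7.complMap_algebraMap, Groth.Agent.FormalH7.complMap_algebraMap]
      rfl
    · show β (ψf (algebraMap _ _ c)) = _
      rw [show ψf (algebraMap _ _ c) = algebraMap _ _ (p1 c) from DFunLike.congr_fun hψf c,
        Groth.Agent.FormalH7.complMap_algebraMap, hsq]
      rfl
  haveI : IsNoetherianRing (AdicCompletion JB' (Localization.Away g')) :=
    Groth.Agent.Compl.isNoetherianRing_adicCompletion _ (IsNoetherian.noetherian _)
  refine RigFlatH7.rigFlat_descent α β ψf ψ' (Groth.Agent.FormalH7.flat_complMap JA JA' a1 ha1 hA)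
    (RigFlatH7.faithfullyFlat_complMap JB JB' b1 hb1 hB) hcomm _ _ ?_ (fun q' hq' => hA'B' f' ψ' hψ' q' hq') qf hqf
  rw [Ideal.map_map, show β.comp (algebraMap (Localization.Away g) (AdicCompletion JB (Localization.Away g))) =
    (algebraMap (Localization.Away g') (AdicCompletion JB' (Localization.Away g'))).comp b1 from
      RingHom.ext (Groth.Agent.FormalH7.complMap_algebraMap JB JB' b1 hB.le), ← Ideal.map_map]
  exact congrArg (Ideal.map (algebraMap (Localization.Away g') (AdicCompletion JB' (Localization.Away g')))) hB

end Groth.Agent.S8844
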