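import Groth.Statements.S8845
import Groth.Agent.Lib.RigFlatH7.RigEtale
import Groth.Agent.Lib.RigFlatH7.RigBase

set_option autoImplicit false
universe u
open AdicRing

namespace Groth.Agent.S8845

/-- Consider a commutative square of adic Noetherian topological rings with all maps adic and
topologically of finite type: A a Noetherian ring complete for the adic topology of an ideal I (the
ideal of definition used below); B, A' and B' Noetherian algebras complete for the IB-, IA'- and
IB'-adic topologies, B' an algebra over B and over A' compatibly with A, with B/IB and A'/IA' of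
finite type over A and B'/IB' of finite type over B and over A'. Assume A → A' and B → B' are flat
and A/I → A'/IA' is étale. If A → B is rig-flat — for every f ∈ A, every ring map ψ : A_{f} → B_{f}
of completed principal localizations compatible with the map of ordinary localizations A[1/f] →
B[1/f] (there is exactly one), and every rig-closed prime q of B_{f} (I B_{f} ⊄ q and q maximal
among the primes not containing I B_{f}), the local ring (B_{f})_q is flat over A_{f} via ψ — then
A' → B' is rig-flat in the same form: for every f' ∈ A', every ring map A'_{f'} → B'_{f'} of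
completed principal localizations compatible with the map of ordinary localizations A'[1/f'] →
B'[1/f'], and every rig-closed prime q' of B'_{f'}, the local ring (B'_{f'})_{q'} is flat over
A'_{f'}. -/
theorem result (A : Type u) [CommRing A] [IsNoetherianRing A] (I : Ideal A) [IsAdicComplete I A] (B : Type u) [CommRing B] [Algebra A B] [IsNoetherianRing B] [IsAdicComplete (I.map (algebraMap A B)) B] (hftB : Algebra.FiniteType A (B ⧸ (I.map (algebraMap A B)))) (A' : Type u) [CommRing A'] [Algebra A A'] [IsNoetherianRing A'] [IsAdicComplete (I.map (algebraMap A A')) A'] (hftA' : Algebra.FiniteType A (A' ⧸ (I.map (algebraMap A A')))) (B' : Type u) [CommRing B'] [Algebra A B'] [Algebra B B'] [Algebra A' B'] [IsScalarTower A B B'] [IsScalarTower A A' B'] [IsNoetherianRing B'] [IsAdicComplete (I.map (algebraMap A B')) B'] (hftB'B : Algebra.FiniteType B (B' ⧸ (I.map (algebraMap A B')))) (hftB'A' : Algebra.FiniteType A' (B' ⧸ (I.map (algebraMap A B')))) [Module.Flat A A'] [Module.Flat B B'] [Algebra.Etale (A ⧸ I) (A' ⧸ (I.map (algebraMap A A')))] (hAB : (∀ f : A, ∀ ψf : (AdicCompletion (I.map (algebraMap A (Localization.Away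 f))) (Localization.Away f)) →+* (AdicCompletion ((I.map (algebraMap A B)).map (algebraMap B (Localization.Away (algebraMap A B f)))) (Localization.Away (algebraMap A B f))), ψf.comp (algebraMap (Localization.Away f) (AdicCompletion (I.map (algebraMap A (Localization.Away f))) (Localization.Away f))) = (algebraMap (Localization.Away (algebraMap A B f)) (AdicCompletion ((I.map (algebraMap A B)).map (algebraMap B (Localization.Away (algebraMap A B f)))) (Localization.Away (algebraMap A B f)))).comp (Localization.awayMap (algebraMap A B) f) → ∀ qf : PrimeSpectrum (AdicCompletion ((I.map (algebraMap A B)).map (algebraMap B (Localization.Away (algebraMap A B f)))) (Localization.Away (algebraMap A B f))), (¬ (((I.map (algebraMap A B)).map (algebraMap B (Localization.Away (algebraMap A B f)))).map (algebraMap (Localization.Away (algebraMap A B f)) (AdicCompletion ((I.map (algebraMap A B)).map (algebraMap B (Localization.Away (algebraMap A B f)))) (Localization.Away (algebraMap A B f))))) ≤ qf.asIdeal ∧ ∀ y : PrimeSpectrum (AdicCompletion ((I.map (algebraMap A B)).map (algebraMap B (Localization.Away (algebraMap A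 B f)))) (Localization.Away (algebraMap A B f))), qf ≤ y → ¬ (((I.map (algebraMap A B)).map (algebraMap B (Localization.Away (algebraMap A B f)))).map (algebraMap (Localization.Away (algebraMap A B f)) (AdicCompletion ((I.map (algebraMap A B)).map (algebraMap B (Localization.Away (algebraMap A B f)))) (Localization.Away (algebraMap A B f))))) ≤ y.asIdeal → y = qf) → ((algebraMap (AdicCompletion ((I.map (algebraMap A B)).map (algebraMap B (Localization.Away (algebraMap A B f)))) (Localization.Away (algebraMap A B f))) (Localization.AtPrime qf.asIdeal)).comp ψf).Flat)) : (∀ f' : A', ∀ ψf' : (AdicCompletion ((I.map (algebraMap A A')).map (algebraMap A' (Localization.Away f'))) (Localization.Away f')) →+* (AdicCompletion (((I.map (algebraMap A A')).map (algebraMap A' B')).map (algebraMap B' (Localization.Away (algebraMap A' B' f')))) (Localization.Away (algebraMap A' B' f'))), ψf'.comp (algebraMap (Localization.Away f') (AdicCompletion ((I.map (algebraMap A A')).map (algebraMap A' (Localization.Away f'))) (Localization.Away f'))) = (algebraMap (Localization.Away (algebraMap A' B' f')) (AdicCompletion (((I.map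 (algebraMap A A')).map (algebraMap A' B')).map (algebraMap B' (Localization.Away (algebraMap A' B' f')))) (Localization.Away (algebraMap A' B' f')))).comp (Localization.awayMap (algebraMap A' B') f') → ∀ qf' : PrimeSpectrum (AdicCompletion (((I.map (algebraMap A A')).map (algebraMap A' B')).map (algebraMap B' (Localization.Away (algebraMap A' B' f')))) (Localization.Away (algebraMap A' B' f'))), (¬ ((((I.map (algebraMap A A')).map (algebraMap A' B')).map (algebraMap B' (Localization.Away (algebraMap A' B' f')))).map (algebraMap (Localization.Away (algebraMap A' B' f')) (AdicCompletion (((I.map (algebraMap A A')).map (algebraMap A' B')).map (algebraMap B' (Localization.Away (algebraMap A' B' f')))) (Localization.Away (algebraMap A' B' f'))))) ≤ qf'.asIdeal ∧ ∀ y : PrimeSpectrum (AdicCompletion (((I.map (algebraMap A A')).map (algebraMap A' B')).map (algebraMap B' (Localization.Away (algebraMap A' B' f')))) (Localization.Away (algebraMap A' B' f'))), qf' ≤ y → ¬ ((((I.map (algebraMap A A')).map (algebraMap A' B')).map (algebraMap B' (Localization.Away (algebraMap A' B' f')))).map (algebraMap (Localization.Away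 (algebraMap A' B' f')) (AdicCompletion (((I.map (algebraMap A A')).map (algebraMap A' B')).map (algebraMap B' (Localization.Away (algebraMap A' B' f')))) (Localization.Away (algebraMap A' B' f'))))) ≤ y.asIdeal → y = qf') → ((algebraMap (AdicCompletion (((I.map (algebraMap A A')).map (algebraMap A' B')).map (algebraMap B' (Localization.Away (algebraMap A' B' f')))) (Localization.Away (algebraMap A' B' f'))) (Localization.AtPrime qf'.asIdeal)).comp ψf').Flat) := by
  intro f' ψ hψ qf hqf
  let IA' := I.map (algebraMap A A')
  let g' := algebraMap A' B' f'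
  let R := RigFlatH7.CplAway IA' f'
  let T := RigFlatH7.CplAway (IA'.map (algebraMap A' B')) g'
  haveI : IsNoetherianRing R := RigFlatH7.isNoetherianRing_cplAway IA' f'
  haveI : IsNoetherianRing T := RigFlatH7.isNoetherianRing_cplAway _ g'
  have eB' : IA'.map (algebraMap A' B') = I.map (algebraMap A B') := by
    rw [Ideal.map_map, ← IsScalarTower.algebraMap_eq]
  have eR : I.map (algebraMap A R) = IA'.map (algebraMap A' R) := RigFlatH7.map_eq_map_cplAway f' I IA' rfl
  have eT : I.map (algebraMap A T) = (IA'.map (algebraMap A' B')).map (algebraMap B' T) :=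
    RigFlatH7.map_eq_map_cplAway g' I _ eB'.symm
  haveI : IsAdicComplete (I.map (algebraMap A R)) R := by
    rw [eR]; exact RigFlatH7.isAdicComplete_cplAway IA' f'
  haveI : IsAdicComplete (I.map (algebraMap A T)) T := by
    rw [eT]; exact RigFlatH7.isAdicComplete_cplAway _ g'
  have hftR : Algebra.FiniteType A (R ⧸ I.map (algebraMap A R)) := by
    rw [eR]; exact RigFlatH7.finiteType_cplAway IA' f' A hftA'
  have hftT : Algebra.FiniteType A (T ⧸ I.map (algebraMap A T)) := by
    have h0 : Algebra.FiniteType A (B' ⧸ I.map (algebraMap A B')) := by
      letI : Algebra (A' ⧸ IA') (B' ⧸ I.map (algebraMap A B')) :=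
        (Ideal.quotientMap (I.map (algebraMap A B')) (algebraMap A' B')
          (Ideal.map_le_iff_le_comap.1 eB'.le)).toAlgebra
      haveI : IsScalarTower A' (A' ⧸ IA') (B' ⧸ I.map (algebraMap A B')) := IsScalarTower.of_algebraMap_eq fun _ => rfl
      haveI : IsScalarTower A (A' ⧸ IA') (B' ⧸ I.map (algebraMap A B')) := IsScalarTower.of_algebraMap_eq fun a =>
        congrArg (Ideal.Quotient.mk (I.map (algebraMap A B'))) (IsScalarTower.algebraMap_apply A A' B' a)
      exact hftA'.trans (Algebra.FiniteType.of_restrictScalars_finiteType A' _ _)
    rw [eT]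
    exact RigFlatH7.finiteType_cplAway _ g' A (by rw [eB']; exact h0)
  haveI : Module.Flat A R := by
    haveI := RigFlatH7.flat_cplAway IA' f'
    exact Module.Flat.trans A A' R
  haveI : Algebra.Etale (A ⧸ I) (R ⧸ I.map (algebraMap A R)) := RigFlatH7.etale_reduction_cplAway f' I
  letI : Algebra R T := ψ.toAlgebra
  have hψA' : ∀ x, ψ (algebraMap A' R x) = algebraMap B' T (algebraMap A' B' x) := fun x => by
    rw [IsScalarTower.algebraMap_apply A' (Localization.Away f') R]
    refine (DFunLike.congr_fun hψ _).trans ?_
    rw [RingHom.comp_apply, RigFlatH7.awayMap_algebraMap]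
    exact (IsScalarTower.algebraMap_apply B' (Localization.Away g') T _).symm
  haveI : IsScalarTower A R T := IsScalarTower.of_algebraMap_eq fun a => by
    show algebraMap A T a = ψ (algebraMap A R a)
    rw [IsScalarTower.algebraMap_apply A A' R, hψA', ← IsScalarTower.algebraMap_apply A A' B',
      ← IsScalarTower.algebraMap_apply A B' T]
  have eJ : ((IA'.map (algebraMap A' B')).map (algebraMap B' (Localization.Away g'))).map
      (algebraMap (Localization.Away g') T) = I.map (algebraMap A T) := by
    rw [eT, Ideal.map_map (I := IA'.map (algebraMap A' B')), ← IsScalarTower.algebraMap_eq]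
  refine RigFlatH7.flat_of_rigFlat_etale (R := R) (T := T) I hftR hftT qf
    ⟨fun hle => hqf.1 (eJ.le.trans hle), fun y hy hyI => hqf.2 y hy fun hle => hyI (eJ.ge.trans hle)⟩ ?_
  intro h T' _ _ _ _ _ _ _ hu ψ2 q' _ hq'
  letI : Algebra B T' := ((algebraMap T T').comp ((algebraMap B' T).comp (algebraMap B B'))).toAlgebra
  haveI : IsScalarTower A B T' := IsScalarTower.of_algebraMap_eq fun a => by
    show algebraMap A T' a = algebraMap T T' (algebraMap B' T (algebraMap B B' (algebraMap A B a)))
    rw [← IsScalarTower.algebraMap_apply A B B', ← IsScalarTower.algebraMap_apply A B' T,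
      ← IsScalarTower.algebraMap_apply A T T']
  haveI : Module.Flat B T' := by
    rw [← RingHom.flat_algebraMap_iff]
    exact ((RingHom.flat_algebraMap_iff.2 ‹Module.Flat B B'›).comp
      (RingHom.flat_algebraMap_iff.2 (RigFlatH7.flat_cplAway _ g'))).comp
      (RingHom.flat_algebraMap_iff.2 ‹Module.Flat T T'›)
  let gB := algebraMap A B h
  let JA := I.map (algebraMap A (Localization.Away h))
  let JB := (I.map (algebraMap A B)).map (algebraMap B (Localization.Away gB))
  have hle : JA.map (Localization.awayMap (algebraMap A B) h) ≤ JB := by
    refine le_of_eq ?_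
    simp only [JA, JB, Ideal.map_map]
    exact congrArg (fun φ => Ideal.map φ I) (RingHom.ext fun a => RigFlatH7.awayMap_algebraMap _ h a)
  let ψ1 := FSch.complMap JA JB (Localization.awayMap (algebraMap A B) h) hle
  refine RigFlatH7.flat_at_of_base (B := B) (K := I.map (algebraMap A B)) (g := gB) I h rfl rfl hu ψ1 (fun a => ?_)
    (hAB h ψ1 (RingHom.ext (FormalH7.complMap_algebraMap JA JB _ hle))) ψ2 q' hq'
  rw [IsScalarTower.algebraMap_apply A (Localization.Away h) (RigFlatH7.CplAway I h)]
  exact ((FormalH7.complMap_algebraMap JA JB _ hle _).trans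
    (congrArg _ (RigFlatH7.awayMap_algebraMap _ h a))).trans
    (IsScalarTower.algebraMap_apply B (Localization.Away gB) (RigFlatH7.CplAway _ gB) _).symm

end Groth.Agent.S8845
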