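import Groth.Statements.S8850
import Mathlib.AlgebraicGeometry.Morphisms.ClosedImmersion
import Mathlib.AlgebraicGeometry.Morphisms.Proper
import Mathlib.AlgebraicGeometry.IdealSheaf.Subscheme
import Mathlib.AlgebraicGeometry.Noetherian

set_option autoImplicit false
universe u
open CategoryTheory CategoryTheory.Limits AlgebraicGeometry TopologicalSpace
open SDiv

namespace Groth.Agent.S8850

lemma ker_morphismRestrict_ideal' {X Y : Scheme.{u}} (f : X ⟶ Y) [QuasiCompact f]
    (U : Y.Opens) (V : U.toScheme.affineOpens) :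
    (f ∣_ U).ker.ideal V = f.ker.ideal ⟨U.ι ''ᵁ V, V.2.image_of_isOpenImmersion _⟩ :=
  Scheme.ker_morphismRestrict_ideal f U V

lemma isIso_ι_restrict {X : Scheme.{u}} (U : X.Opens) : IsIso (U.ι ∣_ U) := by
  rw [isIso_iff_isOpenImmersion_and_surjective]
  refine ⟨inferInstance, ⟨fun x => ?_⟩⟩
  refine ⟨⟨⟨x.1, x.2⟩, x.2⟩, Subtype.ext ?_⟩
  exact morphismRestrict_base_coe _ _ _

lemma toImage_ker {X Y : Scheme.{u}} (f : X ⟶ Y) [QuasiCompact f] : f.toImage.ker = ⊥ := by
  refine Scheme.IdealSheafData.ext_of_iSup_eq_top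
    (fun U : Y.affineOpens => ⟨f.imageι ⁻¹ᵁ U, U.2.preimage f.imageι⟩) ?_ fun U => ?_
  · rw [← Scheme.Hom.preimage_iSup, iSup_affineOpens_eq_top, Scheme.Hom.preimage_top]
  · rw [Scheme.Hom.ker_apply, Scheme.IdealSheafData.ideal_bot, Pi.bot_apply]
    exact (RingHom.injective_iff_ker_eq_bot _).mp (f.toImage_app_injective U)


/-- Let S be a scheme, X a Noetherian S-scheme, Y a proper S-scheme, U ⊆ X an open subscheme and f : U ⟶
Y a morphism compatible with the structure morphisms to S. Then there are a proper morphism p : X' ⟶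
X restricting to an isomorphism over U and an S-morphism f' : X' ⟶ Y whose restriction to p⁻¹(U) is
f composed with p. The published statement takes U dense, so that f is an S-rational map; this row
allows any open U, which its proof does not need. -/
theorem result {X Y S : Scheme.{u}} [IsNoetherian X] (a : X ⟶ S) (b : Y ⟶ S)
    [IsProper b] (U : X.Opens) (f : (U : Scheme.{u}) ⟶ Y) (hf : f ≫ b = U.ι ≫ a) :
    ∃ (X' : Scheme.{u}) (p : X' ⟶ X) (f' : X' ⟶ Y), IsProper p ∧ IsIso (p ∣_ U) ∧ f' ≫ b = p ≫ a ∧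
      (p ⁻¹ᵁ U).ι ≫ f' = (p ∣_ U) ≫ f := by
  let γ : (U : Scheme.{u}) ⟶ Limits.pullback a b := Limits.pullback.lift U.ι f hf.symm
  haveI : QuasiCompact U.ι := inferInstance
  haveI : QuasiCompact γ := by
    haveI : QuasiCompact (γ ≫ Limits.pullback.fst a b) := by
      rw [Limits.pullback.lift_fst]; infer_instance
    exact QuasiCompact.of_comp γ (Limits.pullback.fst a b)
  let p : γ.image ⟶ X := γ.imageι ≫ Limits.pullback.fst a b
  have hp : γ.toImage ≫ p = U.ι := by
    simp only [p, Scheme.Hom.toImage_imageι_assoc, γ, Limits.pullback.lift_fst]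
  haveI : IsProper p := inferInstanceAs (IsProper (γ.imageι ≫ Limits.pullback.fst a b))
  let g := γ.toImage ∣_ p ⁻¹ᵁ U
  haveI hgp : IsIso (g ≫ p ∣_ U) := by
    have key : ∀ q : (U : Scheme.{u}) ⟶ X, q = U.ι → IsIso (q ∣_ U) := by
      rintro q rfl; exact isIso_ι_restrict U
    rw [← morphismRestrict_comp]; exact key _ hp
  haveI : IsClosedImmersion g := IsClosedImmersion.of_comp g (p ∣_ U)
  have hker : g.ker = ⊥ := by
    refine Scheme.IdealSheafData.ext (funext fun V => ?_)
    rw [ker_morphismRestrict_ideal', toImage_ker γ]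
    simp
    rfl
  haveI : IsIso g.imageι := by
    change IsIso g.ker.subschemeι
    rw [hker]; infer_instance
  haveI : IsIso g := by
    rw [← g.toImage_imageι]; infer_instance
  haveI : IsIso (p ∣_ U) := IsIso.of_isIso_comp_left g (p ∣_ U)
  refine ⟨γ.image, p, γ.imageι ≫ Limits.pullback.snd a b, inferInstance, inferInstance, ?_, ?_⟩
  · simp only [p, Category.assoc, Limits.pullback.condition]
  · rw [← cancel_epi g, morphismRestrict_ι_assoc, Scheme.Hom.toImage_imageι_assoc,
      Limits.pullback.lift_snd, ← Category.assoc]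
    congr 1
    rw [← cancel_mono U.ι, Category.assoc, morphismRestrict_ι, morphismRestrict_ι_assoc, hp]


end Groth.Agent.S8850
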