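import Groth.Statements.S8853
import Mathlib.AlgebraicGeometry.Morphisms.Affine
import Mathlib.AlgebraicGeometry.IdealSheaf.Basic

set_option autoImplicit false
universe u
open CategoryTheory CategoryTheory.Limits AlgebraicGeometry TopologicalSpace
open SDiv

namespace Groth.Agent.S8853

/-- Let Z be a locally principal closed subscheme of a scheme S, with ideal sheaf 𝓘 generated by a
single section on some affine open neighbourhood of each point of its support, and let U be the open
complement of Z. Then the inclusion U ⟶ S is an affine morphism. -/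
theorem result {S : Scheme.{u}} (𝓘 : S.IdealSheafData) (h : Curv2.IsLocPrincipal 𝓘) :
    IsAffineHom (Scheme.Opens.ι 𝓘.support.compl) := by
  refine isAffineHom_of_forall_exists_isAffineOpen _ fun x => ?_
  by_cases hx : x ∈ 𝓘.support
  · obtain ⟨V, hxV, f, hf⟩ := h x hx
    refine ⟨V.1, hxV, V.2, (Scheme.Opens.ι _).isAffineOpen_iff_of_isOpenImmersion.mp ?_⟩
    rw [Scheme.Hom.image_preimage_eq_opensRange_inf, Scheme.Opens.opensRange_ι]
    have he : 𝓘.support.compl ⊓ V.1 = S.basicOpen f := by
      ext y
      refine ⟨fun ⟨hs, hyV⟩ => ?_, fun hy => ⟨fun hs => ?_, S.basicOpen_le f hy⟩⟩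
      · by_contra hy
        refine hs ?_
        change y ∈ 𝓘.support
        rw [Scheme.IdealSheafData.mem_support_iff_of_mem hyV, hf, Scheme.zeroLocus_span, Scheme.mem_zeroLocus_iff]
        intro r hr; rw [Set.mem_singleton_iff] at hr; subst hr; exact hy
      · have hs' : y ∈ 𝓘.support := hs
        rw [Scheme.IdealSheafData.mem_support_iff_of_mem (S.basicOpen_le f hy), hf, Scheme.zeroLocus_span,
          Scheme.mem_zeroLocus_iff] at hs'
        exact hs' f rfl hy
    rw [he]
    exact V.2.basicOpen f
  · obtain ⟨_, ⟨V, hV, rfl⟩, hxV, hVle⟩ :=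
      S.isBasis_affineOpens.exists_subset_of_mem_open (show x ∈ 𝓘.support.compl from hx) 𝓘.support.compl.isOpen
    refine ⟨V, hxV, hV, (Scheme.Opens.ι _).isAffineOpen_iff_of_isOpenImmersion.mp ?_⟩
    rw [Scheme.Hom.image_preimage_eq_opensRange_inf, Scheme.Opens.opensRange_ι, show 𝓘.support.compl ⊓ V = V from inf_eq_right.mpr (fun z hz => hVle hz)]
    exact hV

end Groth.Agent.S8853
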