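import Groth.Statements.S8854
import Groth.Agent.Lib.SecDiv18.Factorial
import Mathlib.RingTheory.Ideal.Height

set_option autoImplicit false
universe u
open SDiv

namespace Groth.Agent.S8854

/-- Let R be a Noetherian unique factorisation domain and I ⊆ R an ideal such that every associated
prime of R/I is minimal over I (R/I has no embedded primes) and every prime minimal over I has
height 1. Then I is principal: it is generated by one element. -/
theorem result (R : Type u) [CommRing R] [IsDomain R] [IsNoetherianRing R]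
    [UniqueFactorizationMonoid R] (I : Ideal R)
    (h1 : ∀ p : Ideal R, p ∈ associatedPrimes R (R ⧸ I) → p ∈ I.minimalPrimes)
    (h2 : ∀ p : Ideal R, p ∈ I.minimalPrimes → p.height = 1) :
    ∃ f : R, I = Ideal.span {f} := by
  refine (Groth.Agent.SecDiv.principal_of_ass I fun q hq => ?_).imp fun g hg => hg.2
  have hq1 := h2 q (h1 q hq)
  haveI := hq.isPrime
  have hne : q ≠ ⊥ := fun h => by
    subst h
    rw [Ideal.height_eq_zero_iff.mpr ⟨⟨Ideal.isPrime_bot, le_rfl⟩, fun _ _ _ => bot_le⟩] at hq1
    exact zero_ne_one hq1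
  obtain ⟨p, hpq, hp⟩ := hq.isPrime.exists_mem_prime_of_ne_bot hne
  refine ⟨p, hp, ?_⟩
  by_contra hne'
  haveI : (Ideal.span {p}).IsPrime := (Ideal.span_singleton_prime hp.ne_zero).mpr hp
  haveI := Ideal.isPrime_bot (α := R)
  have h3 := Ideal.height_strict_mono_of_isPrime (lt_of_le_of_ne ((Ideal.span_singleton_le_iff_mem _).mpr hpq) (Ne.symm hne'))
  have h4 := Ideal.height_strict_mono_of_isPrime (bot_lt_iff_ne_bot.mpr (by simpa [Ideal.span_singleton_eq_bot] using hp.ne_zero : Ideal.span {p} ≠ ⊥))
  rw [hq1, Order.lt_one_iff] at h3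
  rw [h3] at h4
  exact not_lt_zero h4

end Groth.Agent.S8854
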