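import Groth.Statements.S8856
import Groth.Agent.Lib.RegDesc11.Generic
import Groth.Agent.Lib.CI2.RImmBC
import Mathlib

set_option autoImplicit false
universe u
open CategoryTheory CategoryTheory.Limits AlgebraicGeometry TopologicalSpace
open SDiv

namespace Groth.Agent.S8856

/-- For a Koszul-regular closed immersion i : Z ⟶ X, some surjective smooth morphism g : X' ⟶ X makes
the base change Z ×_X X' ⟶ X' of i along g a regular immersion. -/
theorem result {Z X : Scheme.{u}} (i : Z ⟶ X) [IsClosedImmersion i]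
    (hi : RegImm.IsRegularImmersion RegImm.Kind.koszul i) :
    ∃ (X' : Scheme.{u}) (g : X' ⟶ X), Smooth g ∧ Surjective g ∧
      RegImm.IsRegularImmersion RegImm.Kind.regular (pullback.snd i g) := by
  classical
  have hdata : ∀ x : X, ∃ U : X.Opens, ∃ (_ : IsAffineOpen U) (l : List Γ(X, U)),
      x ∈ U ∧ IsClosedImmersion (i ∣_ U) ∧ CI2.Ex Γ(X, U) Γ(X, U) l ∧ RingHom.ker (i.app U).hom = Ideal.ofList l := by
    intro x
    by_cases hx : x ∈ Set.range i
    · obtain ⟨z, rfl⟩ := hx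
      obtain ⟨⟨U, hU⟩, hzU, hcl, rs, hrs, hker⟩ := hi.2 z
      exact ⟨U, hU, rs, hzU, hcl, (CI2.isKoszulRegularSeq_iff_ex rs).1 hrs, hker⟩
    · obtain ⟨_, ⟨U, hU, rfl⟩, hxU, hUc⟩ := X.isBasis_affineOpens.exists_subset_of_mem_open
        (show x ∈ (Set.range i)ᶜ from hx) i.isClosedEmbedding.isClosed_range.isOpen_compl
      have hbot : i ⁻¹ᵁ U = ⊥ := TopologicalSpace.Opens.ext (Set.eq_empty_of_forall_notMem fun z hz => hUc hz ⟨z, rfl⟩)
      haveI : Subsingleton Γ(Z, i ⁻¹ᵁ U) := by rw [hbot]; infer_instance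
      refine ⟨U, hU, [1], hxU, inferInstance, (CI2.ex_of_unit_mem _ ⟨1, by simp, isUnit_one⟩).1, ?_⟩
      rw [Ideal.ofList_singleton, Ideal.span_singleton_one, Ideal.eq_top_iff_one, RingHom.mem_ker]
      exact Subsingleton.elim _ _
  choose U hU l hxU hcl hex hker using hdata
  choose l' hl'len hreg hspan using fun x => RegDesc11.exists_weaklyRegular _ Γ(X, U x) (l x) rfl (hex x)
  let P : X → CommRingCat.{u} := fun x => CommRingCat.of (MvPolynomial (Fin (l x).length) Γ(X, U x))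
  let c : ∀ x, Γ(X, U x) ⟶ P x := fun x => CommRingCat.ofHom MvPolynomial.C
  let f : ∀ x, Spec (P x) ⟶ X := fun x => Spec.map (c x) ≫ (hU x).fromSpec
  haveI hc : ∀ x, Smooth (Spec.map (c x)) := fun x => (HasRingHomProperty.Spec_iff (P := @Smooth)).2
    (RingHom.smooth_algebraMap.mpr (⟨inferInstance, inferInstance⟩ : Algebra.Smooth Γ(X, U x) (MvPolynomial (Fin (l x).length) Γ(X, U x))))
  haveI hsm : ∀ x, Smooth (f x) := fun x => MorphismProperty.comp_mem _ _ _ (hc x) inferInstance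
  let g : (∐ fun x => Spec (P x)) ⟶ X := Sigma.desc f
  haveI := HasRingHomProperty.instIsZariskiLocalAtSource (P := @Smooth.{u}) (Q := RingHom.Smooth)
  refine ⟨∐ fun x => Spec (P x), g, IsZariskiLocalAtSource.sigmaDesc (P := @Smooth.{u}) fun x => hsm x, ⟨fun x => ?_⟩,
    inferInstance, fun z' => ?_⟩
  · let p : Spec Γ(X, U x) := (hU x).primeIdealOf ⟨x, hxU x⟩
    obtain ⟨q, hq⟩ : ∃ q : Spec (P x), Spec.map (c x) q = p := by
      refine ⟨PrimeSpectrum.comap (MvPolynomial.constantCoeff (σ := Fin (l x).length) (R := Γ(X, U x))) p, ?_⟩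
      show PrimeSpectrum.comap MvPolynomial.C (PrimeSpectrum.comap MvPolynomial.constantCoeff p) = p
      refine PrimeSpectrum.ext (Ideal.ext fun a => ?_)
      show MvPolynomial.constantCoeff (MvPolynomial.C a) ∈ p.asIdeal ↔ a ∈ p.asIdeal
      rw [MvPolynomial.constantCoeff_C]
    refine ⟨Sigma.ι (fun x => Spec (P x)) x q, ?_⟩
    rw [← Scheme.Hom.comp_apply, Sigma.ι_desc, Scheme.Hom.comp_apply, hq]
    exact (hU x).fromSpec_primeIdealOf ⟨x, hxU x⟩
  · obtain ⟨x, q, hq⟩ : ∃ x q, Sigma.ι (fun x => Spec (P x)) x q = pullback.snd i g z' :=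
      (sigmaOpenCover fun x => Spec (P x)).exists_eq (pullback.snd i g z')
    let ι := Sigma.ι (fun x => Spec (P x)) x
    let V := ι.opensRange
    haveI := hcl x
    have hV : IsAffineOpen V := isAffineOpen_opensRange ι
    have hιg : ι ≫ g = f x := Sigma.ι_desc _ _
    have hle : V ≤ g ⁻¹ᵁ U x := by
      rintro _ ⟨w, rfl⟩
      show g (ι w) ∈ U x
      rw [← Scheme.Hom.comp_apply, hιg, Scheme.Hom.comp_apply, ← SetLike.mem_coe, ← (hU x).range_fromSpec]
      exact Set.mem_range_self _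
    have hsq := IsPullback.of_hasPullback i g
    haveI hclV : IsClosedImmersion (pullback.snd i g ∣_ V) :=
      CI2.isClosedImmersion_restrict_of_isPullback i g _ _ hsq hle
    have hzV : pullback.snd i g z' ∈ V := ⟨q, hq⟩
    have hk := CI2.ker_app_of_isPullback i g _ _ hsq (hU x) hV hle
    have hleι : (⊤ : (Spec (P x)).Opens) ≤ ι ⁻¹ᵁ V := fun w _ => ⟨w, rfl⟩
    let θ : Γ(∐ fun x => Spec (P x), V) ⟶ P x := ι.appLE V ⊤ hleι ≫ (Scheme.ΓSpecIso (P x)).hom
    haveI : IsIso (ι.appLE V ⊤ hleι) := by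
      have htop : (⊤ : (Spec (P x)).Opens) = ι ⁻¹ᵁ V := (le_antisymm le_top hleι).symm
      haveI : IsIso (ι.app V) := ι.isIso_app V le_rfl
      rw [Scheme.Hom.appLE, Subsingleton.elim (homOfLE hleι) (eqToHom htop)]
      infer_instance
    let θe : Γ(∐ fun x => Spec (P x), V) ≃+* MvPolynomial (Fin (l x).length) Γ(X, U x) := (asIso θ).commRingCatIsoToRingEquiv
    have hθ : ∀ a : Γ(X, U x), θe ((g.appLE (U x) V hle).hom a) = MvPolynomial.C a := by
      intro a
      have h2 : g.appLE (U x) V hle ≫ θ = c x := by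
        have h3 : ∀ (h : (⊤ : (Spec (P x)).Opens) ≤ f x ⁻¹ᵁ U x), (f x).appLE (U x) ⊤ h = c x ≫ (Scheme.ΓSpecIso (P x)).inv := by
          intro h
          rw [← Scheme.Hom.appLE_comp_appLE _ _ (U x) ⊤ ⊤ (by rw [(hU x).fromSpec_preimage_self]) le_top,
            CI2.fromSpec_appLE_self (hU x), Scheme.ΓSpecIso_inv_naturality, Scheme.Hom.appTop, Scheme.Hom.app_eq_appLE]
          rfl
        have h4 : g.appLE (U x) V hle ≫ ι.appLE V ⊤ hleι = c x ≫ (Scheme.ΓSpecIso (P x)).inv := by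
          rw [Scheme.Hom.appLE_comp_appLE]
          exact Eq.trans (by congr 1) (h3 (le_trans hleι (by rw [← hιg]; exact fun w hw => hle hw)))
        show g.appLE (U x) V hle ≫ ι.appLE V ⊤ hleι ≫ (Scheme.ΓSpecIso (P x)).hom = c x
        rw [← Category.assoc, h4, Category.assoc, Iso.inv_hom_id, Category.comp_id]
      exact congrArg (fun φ => φ.hom a) h2
    have hspanV : RingHom.ker ((pullback.snd i g).app V).hom = Ideal.ofList ((l' x).map θe.symm) := by
      rw [hk, hker, show (l' x).map θe.symm = (l' x).map θe.symm.toRingHom from rfl, ← Ideal.map_ofList, hspan x,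
        Ideal.map_map]
      refine congrArg (fun φ => Ideal.map φ _) (RingHom.ext fun a => θe.injective ?_)
      show θe ((g.appLE (U x) V hle).hom a) = θe (θe.symm (MvPolynomial.C a))
      rw [hθ, θe.apply_symm_apply]
    refine ⟨⟨V, hV⟩, hzV, hclV, (l' x).map θe.symm, ⟨?_, ?_⟩, hspanV⟩
    · refine (θe.symm.toAddEquiv.isWeaklyRegular_congr ?_).1 (hreg x)
      rw [List.forall₂_map_right_iff, List.forall₂_same]
      exact fun a _ b => map_mul θe.symm a b
    · rw [smul_eq_mul, Ideal.mul_top, ← hspanV]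
      intro h
      have h1 : ((pullback.snd i g).app V).hom 1 = 0 := (h ▸ Submodule.mem_top : (1 : Γ(∐ fun x => Spec (P x), V)) ∈ RingHom.ker _)
      rw [map_one] at h1
      haveI : Nontrivial Γ(pullback i g, pullback.snd i g ⁻¹ᵁ V) :=
        ((pullback i g).presheaf.germ _ z' hzV).hom.domain_nontrivial
      exact one_ne_zero h1

end Groth.Agent.S8856
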