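import Groth.Statements.S8860
import Groth.Agent.Lib.NormBundle5.QuasiAffine
import Groth.Agent.Lib.NormBundle5.Free
import Groth.Agent.Lib.NormBundle5.Normal
import Groth.Agent.Lib.ResDesc11.Basic
import Groth.Agent.Lib.RedSep.Basic

set_option autoImplicit false
set_option linter.style.haveILetI false
universe u
open CategoryTheory CategoryTheory.Limits AlgebraicGeometry TopologicalSpace
open SDiv

namespace Groth.Agent.S8860

/-- Let π : X ⟶ Y be a finite surjective morphism of schemes with X quasi-affine. If either π is finite
locally free (finite, flat and locally of finite presentation), or Y is integral with all local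
rings integrally closed domains (normal), then Y is quasi-affine. -/
theorem result {X Y : Scheme.{u}} (π : X ⟶ Y) [IsFinite π] [Surjective π]
    (hX : X.IsQuasiAffine) (h : Mor2.IsFinLocFree π ∨ (IsIntegral Y ∧ Pi1.IsNormalScheme Y)) :
    Y.IsQuasiAffine := by
  open Groth.Agent in
  haveI := hX
  open Groth.Agent in
  rcases h with h | ⟨hY0, hY⟩
  · haveI := h.1
    haveI := h.2.1
    exact NormBundle5.isQuasiAffine_of_mulNorm π
      (NormBundle5.exists_mulNorm (g := π)
        (ResDesc11.isFinLocFree_push π h (ResDesc11.isFinLocFree_structureModule X))).some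
  · classical
    obtain ⟨ξ, hξ⟩ := π.surjective (genericPoint Y)
    let Z : TopologicalSpace.Closeds X := ⟨closure {ξ}, isClosed_closure⟩
    let I := AlgebraicGeometry.Scheme.IdealSheafData.vanishingIdeal Z
    haveI : IsReduced I.subscheme := RedSepLib.isReduced_vanishingIdeal_subscheme Z
    have hrange : Set.range I.subschemeι = closure {ξ} := by
      rw [AlgebraicGeometry.Scheme.IdealSheafData.range_subschemeι,
        AlgebraicGeometry.Scheme.IdealSheafData.coe_support_vanishingIdeal]
      rfl
    haveI : Nonempty I.subscheme := by
      obtain ⟨z, -⟩ : ξ ∈ Set.range I.subschemeι := by rw [hrange]; exact subset_closure rfl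
      exact ⟨z⟩
    haveI : IrreducibleSpace I.subscheme := by
      have h : IsIrreducible (Set.range I.subschemeι) := hrange ▸ isIrreducible_singleton.closure
      haveI : IrreducibleSpace (Set.range I.subschemeι) := Subtype.irreducibleSpace h
      exact Function.Surjective.irreducibleSpace I.subschemeι.isEmbedding.toHomeomorph.symm.continuous
        I.subschemeι.isEmbedding.toHomeomorph.symm.surjective
    haveI : IsIntegral I.subscheme := isIntegral_of_irreducibleSpace_of_isReduced _
    haveI : Surjective (I.subschemeι ≫ π) := ⟨fun y => by
      have hcl : IsClosed (π '' Set.range I.subschemeι) := π.isClosedMap _ (hrange ▸ isClosed_closure)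
      have hmem : genericPoint Y ∈ π '' Set.range I.subschemeι := by
        rw [hrange]
        exact ⟨ξ, subset_closure rfl, hξ⟩
      obtain ⟨_, ⟨z, rfl⟩, hz⟩ := ((genericPoint_spec Y).specializes (trivial : y ∈ Set.univ)).mem_closed hcl hmem
      exact ⟨z, hz⟩⟩
    haveI : CompactSpace I.subscheme :=
      isCompact_univ_iff.1 (I.subschemeι.isClosedEmbedding.isCompact_preimage (isCompact_univ (X := X)))
    haveI : I.subscheme.IsQuasiAffine := Scheme.IsQuasiAffine.of_isImmersion I.subschemeι
    exact NormBundle5.isQuasiAffine_of_mulNorm _ (NormBundle5.normalMulNorm (π := I.subschemeι ≫ π) hY)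

end Groth.Agent.S8860
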