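import Groth.Statements.S8861
import Groth.Agent.Lib.WeakAss18.Basic
import Groth.Agent.Lib.EffCartier.Basic

set_option autoImplicit false
universe u
open CategoryTheory CategoryTheory.Limits AlgebraicGeometry TopologicalSpace
open SDiv

namespace Groth.Agent.S8861

/-- Let f : X ⟶ Y be a morphism of schemes and 𝓘 the ideal sheaf of an effective Cartier divisor D ⊆ Y.
If f x ∉ D for every weakly associated point x of X (weakly associated point of the structure
sheaf), then the inverse image ideal sheaf of 𝓘 on X is the ideal of an effective Cartier divisor,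
i.e. the pullback of D by f is defined. -/
theorem result {X Y : Scheme.{u}} (f : X ⟶ Y) (𝓘 : Y.IdealSheafData)
    (hD : BlowUp.IsEffCartierIdeal 𝓘)
    (h : ∀ x : ↥X, Curv2.IsWeakAssPoint (Coh.structureModule X) x → f x ∉ 𝓘.support) :
    BlowUp.IsEffCartierIdeal (𝓘.comap f) := by
  refine Groth.Agent.EffCartier.isEffCartierIdeal_iff.mpr fun x => ?_
  obtain ⟨U, hxU, a, ha⟩ := Groth.Agent.EffCartier.isEffCartierIdeal_iff.mp hD (f x)
  obtain ⟨V, hV, hxV, hVU⟩ := exists_isAffineOpen_mem_and_subset (U := f ⁻¹ᵁ U.1) hxU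
  have hVU : V ≤ f ⁻¹ᵁ U.1 := hVU
  refine ⟨⟨V, hV⟩, hxV, f.appLE U.1 V hVU a, ?_, Groth.Agent.EffCartier.comap_ideal_eq_span ha f ⟨V, hV⟩ hVU⟩
  rw [mem_nonZeroDivisors_iff_right]
  intro z hz
  refine TopCat.Presheaf.section_ext X.sheaf V z 0 fun w hw => ?_
  change X.presheaf.germ V w hw z = X.presheaf.germ V w hw 0
  rw [map_zero]
  refine mem_nonZeroDivisors_iff_right.mp (Groth.Agent.WA.germ_mem_nonZeroDivisors hV hw (f.appLE U.1 V hVU a) fun y hy _ hwa => ?_) _ ?_
  · have hfy : f y ∈ U.1.1 := hVU hy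
    have : f y ∈ Y.basicOpen a := by
      rw [Groth.Agent.EffCartier.basicOpen_eq ha]
      exact ⟨h y hwa, hVU hy⟩
    refine (X.mem_basicOpen _ y hy).mp ?_
    rw [Scheme.Hom.appLE, CommRingCat.comp_apply, Scheme.basicOpen_res, ← Scheme.preimage_basicOpen]
    exact ⟨hy, this⟩
  · rw [← map_mul, hz, map_zero]

end Groth.Agent.S8861
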