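import Groth.Statements.S8863
import Groth.Agent.Lib.WeakAss18.Basic
import Groth.Agent.Lib.EffCartier.Basic
import Groth.Agent.Lib.ModM1.Coh

set_option autoImplicit false
universe u
open CategoryTheory CategoryTheory.Limits AlgebraicGeometry TopologicalSpace
open SDiv

namespace Groth.Agent.S8863

/-- Let X be a locally Noetherian scheme and x a point of X. Then the monoid S_x of germs at x of
regular sections of O_X (sections whose germ at every point of their open of definition is a
nonzerodivisor) is the whole monoid of nonzerodivisors of O_{X,x}; consequently K_{X,x} is the total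
ring of fractions of O_{X,x}. -/
theorem result (X : Scheme.{u}) [IsLocallyNoetherian X] (x : ↥X) :
    Mero.regStalk X x = nonZeroDivisors ↑(X.presheaf.stalk x) := by
  classical
  refine le_antisymm (Mero.regStalk_le_nonZeroDivisors x) fun g hg => ?_
  haveI := Groth.Agent.M1.isQCoh_structureModule X
  obtain ⟨U, hU, hxU, -⟩ := exists_isAffineOpen_mem_and_subset (U := (⊤ : X.Opens)) (x := x) trivial
  let := TopCat.Presheaf.algebra_section_stalk X.presheaf (⟨x, hxU⟩ : U)
  have := hU.isLocalization_stalk ⟨x, hxU⟩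
  obtain ⟨⟨b, c⟩, hbc⟩ := IsLocalization.surj (hU.primeIdealOf ⟨x, hxU⟩).asIdeal.primeCompl g
  have hbc : g * X.presheaf.germ U x hxU c = X.presheaf.germ U x hxU b := hbc
  have hcu : IsUnit (X.presheaf.germ U x hxU c) := (Groth.Agent.M1.isUnit_germ_iff hU hxU c).mpr c.2
  have hb : X.presheaf.germ U x hxU b ∈ nonZeroDivisors (X.presheaf.stalk x) := hbc ▸ mul_mem hg hcu.mem_nonZeroDivisors
  let T := {y : X | (y ∈ U ∧ Curv2.IsWeakAssPoint (Coh.structureModule X) y) ∧ y ∉ X.basicOpen b}
  have hT : T.Finite := ((Groth.Agent.WA.finite_weakAss_affine (Groth.Agent.M1.isQCoh_structureModule X)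
    (Groth.Agent.M1.isCoh_structureModule X).2 hU)).subset fun y hy => hy.1
  let U' : X.Opens := X.basicOpen c.1 ⊓ ⟨(closure T)ᶜ, isClosed_closure.isOpen_compl⟩
  have hU'U : U' ≤ U := inf_le_left.trans (X.basicOpen_le _)
  have hxU' : x ∈ U' := by
    refine ⟨(X.mem_basicOpen _ x hxU).mpr hcu, fun hcl => ?_⟩
    rw [← Set.biUnion_of_singleton T, hT.closure_biUnion, Set.mem_iUnion₂] at hcl
    obtain ⟨y, hy, hyx⟩ := hcl
    exact hy.2 ((X.mem_basicOpen b y hy.1.1).mpr (Groth.Agent.WA.isUnit_germ_of_nonZeroDivisors hU hxU hy.1.1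
      (specializes_iff_mem_closure.mpr hyx) b hb hy.1.2))
  have hcU : IsUnit (X.presheaf.map (homOfLE hU'U).op c.1) := by
    have h1 := (X.toRingedSpace.isUnit_res_basicOpen c.1).map (X.presheaf.map (homOfLE (inf_le_left : U' ≤ X.basicOpen c.1)).op).hom
    rw [show X.presheaf.map (homOfLE hU'U).op c.1 = X.presheaf.map (homOfLE (inf_le_left : U' ≤ X.basicOpen c.1)).op
      (X.presheaf.map (homOfLE (X.basicOpen_le c.1)).op c.1) from (Groth.Agent.M1.ores_ores (X.basicOpen_le c.1) inf_le_left c.1).symm]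
    exact h1
  obtain ⟨v, hv⟩ := hcU.exists_left_inv
  refine ⟨U', hxU', v * X.presheaf.map (homOfLE hU'U).op b, fun z => ?_, ?_⟩
  · rw [map_mul, TopCat.Presheaf.germ_res_apply]
    refine mul_mem (IsUnit.mem_nonZeroDivisors ((IsUnit.of_mul_eq_one _ hv).map _)) ?_
    refine Groth.Agent.WA.germ_mem_nonZeroDivisors hU (hU'U z.2) b fun y hy hyz hwa => ?_
    by_contra hu
    have hyT : y ∈ T := ⟨⟨hy, hwa⟩, fun h => hu ((X.mem_basicOpen b y hy).mp h)⟩
    exact z.2.2 ((closure_mono (Set.singleton_subset_iff.mpr hyT)) (specializes_iff_mem_closure.mp hyz))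
  · have h1 := congrArg (X.presheaf.germ U' x hxU') hv
    rw [map_mul, map_one, TopCat.Presheaf.germ_res_apply] at h1
    rw [map_mul, TopCat.Presheaf.germ_res_apply, ← hbc]
    linear_combination g * h1

end Groth.Agent.S8863
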