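import Groth.Statements.S8865
import Groth.Agent.Lib.WeakAss18.Mero

set_option autoImplicit false
set_option backward.isDefEq.respectTransparency false
universe u
open CategoryTheory CategoryTheory.Limits AlgebraicGeometry TopologicalSpace
open SDiv

namespace Groth.Agent.S8865

/-- Let X be a quasi-compact scheme, h a global section of O_X and f a global section of the sheaf of
meromorphic functions K_X whose restriction to the open X_h where h is invertible vanishes. Then h^n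
f = 0 in K_X(X) for some natural number n. -/
theorem result (X : Scheme.{u}) [CompactSpace ↥X] (h : Γ(X, ⊤))
    (f : Γ(Mero.kmod X, ⊤)) (hf : (Mero.kmod X).presheaf.map (homOfLE (le_top : X.basicOpen h ≤ ⊤)).op f = 0) :
    ∃ n : ℕ, Mero.toK X ⊤ h ^ n * f = 0 := by
  classical
  have key : ∀ x : X, ∃ (W : X.Opens) (_ : x ∈ W) (n : ℕ), ∀ (w : X) (hw : w ∈ W),
      (Mero.toK X ⊤ (h ^ n) * f).1 ⟨w, trivial⟩ = 0 := by
    intro x
    obtain ⟨V', hxV', i', a₁, b₁, hab₁⟩ := f.2 ⟨x, Opens.mem_top x⟩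
    obtain ⟨W, hW, hxW, hWV'⟩ := exists_isAffineOpen_mem_and_subset (U := V') hxV'
    let g₁ := Groth.Agent.M1.ores (le_top : W ≤ ⊤) h
    haveI := hW.isLocalization_basicOpen g₁
    have h0 : algebraMap Γ(X, W) Γ(X, X.basicOpen g₁) (Groth.Agent.M1.ores hWV' a₁) = 0 := by
      refine TopCat.Presheaf.section_ext X.sheaf _ _ 0 fun w hw => ?_
      change X.presheaf.germ _ w hw (X.presheaf.map _ (X.presheaf.map _ a₁)) = X.presheaf.germ _ w hw 0
      have hwW := X.basicOpen_le g₁ hw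
      have hwg : w ∈ X.basicOpen h := by
        rw [X.mem_basicOpen h w trivial, ← X.presheaf.germ_res_apply (homOfLE (le_top : W ≤ ⊤)) w hwW h]
        exact (X.mem_basicOpen g₁ w hwW).mp hw
      have h1 : f.1 ⟨w, Opens.mem_top w⟩ = LocalizedModule.mk (X.presheaf.germ V' w (hWV' hwW) a₁)
        (Mero.regGerm ⟨w, hWV' hwW⟩ b₁) := hab₁ ⟨w, hWV' hwW⟩
      have h1' : f.1 ⟨w, Opens.mem_top w⟩ = 0 := congrArg (fun g : Γ(Mero.kmod X, X.basicOpen h) => g.1 ⟨w, hwg⟩) hf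
      rw [h1'] at h1
      have h2 := Groth.Agent.WA.mk_eq_div (X.presheaf.germ V' w (hWV' hwW) a₁) (Mero.regGerm ⟨w, hWV' hwW⟩ b₁)
      rw [← h1, zero_mul, ← map_zero (algebraMap (X.presheaf.stalk w) (Mero.KStalk X w))] at h2
      erw [TopCat.Presheaf.germ_res_apply, TopCat.Presheaf.germ_res_apply, map_zero]
      exact (Mero.algebraMap_KStalk_injective w h2).symm
    obtain ⟨⟨_, n, rfl⟩, hn⟩ := (IsLocalization.map_eq_zero_iff (Submonoid.powers g₁) _ _).mp h0
    refine ⟨W, hxW, n, fun w hw => ?_⟩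
    change (LocalizedModule.mk (X.presheaf.germ ⊤ w trivial (h ^ n)) 1 : Mero.KStalk X w) * f.1 ⟨w, Opens.mem_top w⟩ = 0
    rw [show f.1 ⟨w, Opens.mem_top w⟩ = LocalizedModule.mk (X.presheaf.germ V' w (hWV' hw) a₁)
        (Mero.regGerm ⟨w, hWV' hw⟩ b₁) from hab₁ ⟨w, hWV' hw⟩, LocalizedModule.mk_mul_mk]
    have h3 := congrArg (X.presheaf.germ W w hw) hn
    rw [map_mul, map_pow, map_zero, X.presheaf.germ_res_apply] at h3
    erw [X.presheaf.germ_res_apply] at h3
    rw [map_pow, h3, LocalizedModule.zero_mk]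
  choose W hxW n hn using key
  obtain ⟨T, hT⟩ := isCompact_univ.elim_finite_subcover (fun z : X => (W z : Set X)) (fun z => (W z).isOpen)
    (fun z _ => Set.mem_iUnion.mpr ⟨z, hxW z⟩)
  obtain ⟨N, hNdef⟩ : ∃ N, T.sup n = N := ⟨_, rfl⟩
  refine ⟨N, Subtype.ext (funext fun w => ?_)⟩
  obtain ⟨z, hzT, hwz⟩ := Set.mem_iUnion₂.mp (hT (Set.mem_univ w.1))
  obtain ⟨d, hd⟩ := Nat.exists_eq_add_of_le' (hNdef ▸ Finset.le_sup (f := n) hzT : n z ≤ N)
  rw [hd, pow_add, mul_assoc, ← map_pow (Mero.toK X ⊤) h (n z)]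
  change _ * (Mero.toK X ⊤ (h ^ n z) * f).1 w = 0
  rw [show w = ⟨w.1, trivial⟩ from rfl, hn z w.1 hwz, mul_zero]

end Groth.Agent.S8865
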