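import Groth.Statements.S8868
import Groth.Agent.Lib.WeakAss18.Iso

set_option autoImplicit false
universe u
open CategoryTheory CategoryTheory.Limits AlgebraicGeometry TopologicalSpace
open SDiv

namespace Groth.Agent.S8868

/-- Let X be a scheme and F a quasi-coherent O_X-module. Then F is zero if and only if F has no weakly
associated point. -/
theorem result (X : Scheme.{u}) (F : X.Modules) (hF : Coh.IsQCoh F) :
    IsZero F ↔ ∀ x : ↥X, ¬ Curv2.IsWeakAssPoint F x := by
  haveI := hF
  refine ⟨fun h x hx => Groth.Agent.WA.not_subsingleton_of_isWeakAssPoint hx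
    (AddCommGrpCat.subsingleton_of_isZero ((Groth.Agent.M1.stalkAb x).map_isZero h)), fun h => ?_⟩
  haveI : Mono (0 : F ⟶ F) := (Groth.Agent.M1.mono_iff_stalk _).mpr fun x a b _ =>
    (Groth.Agent.WA.subsingleton_stalk_of_no_weakAss h x a).trans (Groth.Agent.WA.subsingleton_stalk_of_no_weakAss h x b).symm
  exact IsZero.of_mono_zero F F

end Groth.Agent.S8868
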