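import Groth.Statements.S8869
import Groth.Agent.Lib.WeakAss18.Basic

set_option autoImplicit false
universe u
open CategoryTheory CategoryTheory.Limits AlgebraicGeometry TopologicalSpace
open SDiv

namespace Groth.Agent.S8869

/-- Assume X is a reduced scheme and x is a point of X. Then x is weakly associated to the structure
sheaf O_X exactly when every generization of x equals x itself; equivalently, x is a generic point
of some irreducible component of X. -/
theorem result (X : Scheme.{u}) [IsReduced X] (x : ↥X) :
    Curv2.IsWeakAssPoint (Coh.structureModule X) x ↔ ∀ y : ↥X, y ⤳ x → y = x := by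
  refine ⟨fun h y hy => Groth.Agent.WA.eq_of_specializes_weakAss h hy, fun h => ?_⟩
  haveI := Groth.Agent.M1.isQCoh_structureModule X
  refine Groth.Agent.WA.isWeakAssPoint_of_maximal ?_ fun y _ hy => h y hy
  refine (Groth.Agent.M1.mem_support_iff _ x).mpr
    ⟨(Coh.structureModule X).presheaf.germ ⊤ x trivial (show Γ(Coh.structureModule X, ⊤) from (1 : Γ(X, ⊤))), fun h0 => ?_⟩
  have h1 := (Groth.Agent.WA.germ_O_eq_zero_iff (U := ⊤) (x := x) trivial _).mp h0
  rw [map_one] at h1
  exact one_ne_zero h1

end Groth.Agent.S8869
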