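import Groth.Statements.S8870
import Groth.Agent.Lib.WeakAss18.Iso

set_option autoImplicit false
universe u
open CategoryTheory CategoryTheory.Limits AlgebraicGeometry TopologicalSpace
open SDiv

namespace Groth.Agent.S8870

/-- Let X be a scheme and 0 → F₁ → F₂ → F₃ → 0 a short exact sequence of quasi-coherent O_X-modules.
Then WeakAss(F₂) ⊆ WeakAss(F₁) ∪ WeakAss(F₃) and WeakAss(F₁) ⊆ WeakAss(F₂). -/
theorem result (X : Scheme.{u}) (S : ShortComplex X.Modules) (hS : S.ShortExact)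
    (h₁ : Coh.IsQCoh S.X₁) (h₂ : Coh.IsQCoh S.X₂) (h₃ : Coh.IsQCoh S.X₃) :
    (∀ x : ↥X, Curv2.IsWeakAssPoint S.X₂ x → Curv2.IsWeakAssPoint S.X₁ x ∨ Curv2.IsWeakAssPoint S.X₃ x) ∧
      (∀ x : ↥X, Curv2.IsWeakAssPoint S.X₁ x → Curv2.IsWeakAssPoint S.X₂ x) := by
  have hf : ∀ x, Function.Injective ((Groth.Agent.M1.stalkAb x).map S.f) :=
    haveI := hS.mono_f
    (Groth.Agent.M1.mono_iff_stalk _).mp inferInstance
  refine ⟨fun x ⟨m, hm⟩ => ?_, fun x ⟨m, hm⟩ => ?_⟩
  · by_cases h0 : (Groth.Agent.M1.stalkAb x).map S.g m = 0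
    · obtain ⟨a, ha⟩ := Groth.Agent.M1.exact_elem hS.exact x m h0
      refine Or.inl ⟨a, (congrArg Ideal.radical ?_).trans hm⟩
      ext c
      refine (Groth.Agent.WA.mem_annStalk _ _).trans (Iff.trans ?_ (Groth.Agent.WA.mem_annStalk m c).symm)
      rw [← ha]
      constructor
      · intro h
        rw [← Groth.Agent.WA.stalkAb_map_smul, h]
        exact map_zero _
      · intro h
        rw [← Groth.Agent.WA.stalkAb_map_smul] at h
        exact hf x (h.trans (map_zero _).symm)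
    · refine Or.inr (Groth.Agent.WA.isWeakAssPoint_of_elem _ h0 fun z hz => ?_)
      obtain ⟨k, hk⟩ := Groth.Agent.WA.exists_pow_smul_eq_zero hm hz
      refine ⟨k, ?_⟩
      rw [← Groth.Agent.WA.stalkAb_map_smul, hk]
      exact map_zero _
  · refine Groth.Agent.WA.isWeakAssPoint_of_elem ((Groth.Agent.M1.stalkAb x).map S.f m)
      (fun h => Groth.Agent.WA.ne_zero_of_radical_ann hm (hf x (h.trans (map_zero _).symm))) fun z hz => ?_
    obtain ⟨k, hk⟩ := Groth.Agent.WA.exists_pow_smul_eq_zero hm hz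
    refine ⟨k, ?_⟩
    rw [← Groth.Agent.WA.stalkAb_map_smul, hk]
    exact map_zero _

end Groth.Agent.S8870
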