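import Groth.Statements.S8871
import Groth.Agent.Lib.WeakAss18.Push
import Groth.Agent.Lib.Depth.Basic
import Groth.Agent.Lib.Depth.More
import Mathlib.RingTheory.Regular.IsSMulRegular
import Mathlib.RingTheory.KrullDimension.Module

set_option autoImplicit false
universe u
open CategoryTheory CategoryTheory.Limits AlgebraicGeometry TopologicalSpace
open SDiv

namespace Groth.Agent.S8871

/-- Let X be a locally Noetherian scheme and F a coherent O_X-module. Then F has no embedded associated
points (every associated point of F is maximal among the associated points of F under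
specialization) if and only if F has property (S_1): for every point x, depth F_x ≥ min(1, dim Supp
F_x), where dim Supp F_x is the Krull dimension of the support of the O_{X,x}-module F_x (for F_x =
0 the depth is infinite and the support empty, so the condition holds). -/
theorem result (X : Scheme.{u}) [IsLocallyNoetherian X] (F : X.Modules) (hF : Coh.IsCoh F) :
    (∀ x : ↥X, Curv2.IsAssPoint F x → ∀ y : ↥X, Curv2.IsAssPoint F y → y ⤳ x → y = x) ↔
      ∀ x : ↥X, min (1 : WithBot ℕ∞) (Module.supportDim ↑(X.presheaf.stalk x) ↑(F.presheaf.stalk x)) ≤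
        ((LocCoh.depth (X.presheaf.stalk x) (F.presheaf.stalk x) : ℕ∞) : WithBot ℕ∞) := by
  classical
  haveI := hF.1
  -- the local statement
  have key : ∀ x : ↥X, (min (1 : WithBot ℕ∞) (Module.supportDim ↑(X.presheaf.stalk x) ↑(F.presheaf.stalk x)) ≤
        ((LocCoh.depth (X.presheaf.stalk x) (F.presheaf.stalk x) : ℕ∞) : WithBot ℕ∞)) ↔
      (Curv2.IsAssPoint F x → ∀ z ∈ CohB1.support F, z ⤳ x → z = x) := by
    intro x
    haveI := Groth.Agent.M1.finite_stalk hF.1 hF.2 x
    rcases subsingleton_or_nontrivial (F.presheaf.stalk x) with hs | hn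
    · refine ⟨fun _ h => absurd hs (Groth.Agent.WA.not_subsingleton_of_isWeakAssPoint ((Groth.Agent.WA.isAssPoint_iff x).mp h)), fun _ => ?_⟩
      rw [Module.supportDim_eq_bot_of_subsingleton]
      simp
    let R := X.presheaf.stalk x
    let M := F.presheaf.stalk x
    have hM : IsLocalRing.maximalIdeal R • (⊤ : Submodule R M) ≠ ⊤ :=
      (Submodule.top_ne_ideal_smul_of_le_jacobson_annihilator (IsLocalRing.maximalIdeal_le_jacobson _)).symm
    have hd : 1 ≤ LocCoh.depth R M ↔ ¬ Curv2.IsAssPoint F x := by
      constructor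
      · intro h hass
        obtain ⟨r, hr, hreg⟩ := Groth.Agent.DepthLib.exists_isSMulRegular_of_one_le_idealDepth hM h
        obtain ⟨m, hm⟩ := (Groth.Agent.WA.isAssPoint_iff x).mp hass
        have hmem : r ∈ (Groth.Agent.WA.annStalk m).radical := by rw [hm]; exact hr
        obtain ⟨k, hk⟩ := hmem
        rw [Groth.Agent.WA.mem_annStalk] at hk
        exact Groth.Agent.WA.ne_zero_of_radical_ann hm ((hreg.pow k) (hk.trans (smul_zero _).symm))
      · intro hass
        have hnsub : ¬ (IsLocalRing.maximalIdeal R : Set R) ⊆ ⋃ p ∈ ((associatedPrimes.finite R M).toFinset : Set (Ideal R)), ((id p : Ideal R) : Set R) := by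
          intro hsub
          have hpr : ∀ p ∈ (associatedPrimes.finite R M).toFinset, p ≠ ⊤ → p ≠ ⊤ → Ideal.IsPrime (id p : Ideal R) :=
            fun p hp _ _ => IsAssociatedPrime.isPrime ((Set.Finite.mem_toFinset _).mp hp)
          obtain ⟨p, hp, hle⟩ := (Ideal.subset_union_prime _ _ hpr).mp hsub
          have hp' : IsAssociatedPrime p M := (Set.Finite.mem_toFinset _).mp hp
          exact hass (show IsAssociatedPrime (IsLocalRing.maximalIdeal R) M from ((IsLocalRing.maximalIdeal.isMaximal R).eq_of_le hp'.isPrime.ne_top hle).symm ▸ hp')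
        obtain ⟨r, hr, hru⟩ := Set.not_subset.mp hnsub
        refine Groth.Agent.DepthLib.one_le_idealDepth_of_regular hr ?_
        have h2 : r ∉ ⋃ p ∈ associatedPrimes R M, (p : Set R) := by
          simpa using hru
        rw [biUnion_associatedPrimes_eq_compl_regular R M] at h2
        exact not_not.mp h2
    obtain ⟨U, hU, hxU, -⟩ := exists_isAffineOpen_mem_and_subset (U := (⊤ : X.Opens)) (x := x) trivial
    have hdim : Module.supportDim R M ≤ 0 ↔ ∀ z ∈ CohB1.support F, z ⤳ x → z = x := by
      let := TopCat.Presheaf.algebra_section_stalk X.presheaf (⟨x, hxU⟩ : U)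
      have := hU.isLocalization_stalk ⟨x, hxU⟩
      constructor
      · intro h z hz hzx
        have hzU : z ∈ U := hzx.mem_open U.isOpen hxU
        obtain ⟨a, ha⟩ := (Groth.Agent.M1.mem_support_iff F z).mp hz
        obtain ⟨c, t, hc, hct⟩ := Groth.Agent.M1.exists_germ_smul_eq F hU hzU a
        have ht : F.presheaf.germ U z hzU t ≠ 0 := fun h0 => by
          obtain ⟨w, hw⟩ := hc
          rw [h0, ← hw, ← Units.smul_def, smul_eq_zero_iff_eq] at hct
          exact ha hct
        have hPU : ∀ b : Γ(X, U), IsUnit (X.presheaf.germ U x hxU b) → IsUnit (X.presheaf.germ U z hzU b) := fun b hb =>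
          (X.mem_basicOpen b z hzU).mp (hzx.mem_open (X.basicOpen b).isOpen ((X.mem_basicOpen b x hxU).mpr hb))
        let q : Ideal R := (hU.primeIdealOf ⟨z, hzU⟩).asIdeal.map (algebraMap Γ(X, U) R)
        have hdisj : Disjoint ((hU.primeIdealOf ⟨x, hxU⟩).asIdeal.primeCompl : Set Γ(X, U))
            (hU.primeIdealOf ⟨z, hzU⟩).asIdeal :=
          Set.disjoint_left.mpr fun b hb hbz => (Groth.Agent.M1.isUnit_germ_iff hU hzU b).mp
            (hPU b ((Groth.Agent.M1.isUnit_germ_iff hU hxU b).mpr hb)) hbz
        haveI hq : q.IsPrime := IsLocalization.isPrime_of_isPrime_disjoint _ R _ (hU.primeIdealOf ⟨z, hzU⟩).isPrime hdisj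
        have hqs : (⟨q, hq⟩ : PrimeSpectrum R) ∈ Module.support R M := by
          refine Module.mem_support_iff'.mpr ⟨F.presheaf.germ U x hxU t, fun w hw h0 => ht ?_⟩
          obtain ⟨⟨b, e⟩, hbe⟩ := IsLocalization.surj (hU.primeIdealOf ⟨x, hxU⟩).asIdeal.primeCompl w
          have hbe : w * X.presheaf.germ U x hxU e = X.presheaf.germ U x hxU b := hbe
          have h1 : F.presheaf.germ U x hxU (b • t) = 0 := by
            rw [Groth.Agent.M1.germ_smul, ← hbe, mul_comm, mul_smul, h0, smul_zero]
          have h2 := Groth.Agent.WA.germ_zero_of_specializes hxU hzU hzx _ h1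
          rw [Groth.Agent.M1.germ_smul] at h2
          have hbz : IsUnit (X.presheaf.germ U z hzU b) := by
            refine (Groth.Agent.M1.isUnit_germ_iff hU hzU b).mpr fun hb => hw ?_
            have h3 : w * algebraMap Γ(X, U) R e ∈ q := hbe ▸ Ideal.mem_map_of_mem _ hb
            exact (hq.mem_or_mem h3).resolve_right fun he => hq.ne_top (Ideal.eq_top_of_isUnit_mem _ he (IsLocalization.map_units R e))
          obtain ⟨w', hw'⟩ := hbz
          rwa [← hw', ← Units.smul_def, smul_eq_zero_iff_eq] at h2
        have hmax := Order.krullDim_nonpos_iff_forall_isMax.mp h (⟨⟨q, hq⟩, hqs⟩ : Module.support R M)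
        have hmem : (⟨_, (IsLocalRing.maximalIdeal.isMaximal R).isPrime⟩ : PrimeSpectrum R) ∈ Module.support R M :=
          Module.mem_support_mono (IsLocalRing.le_maximalIdeal hq.ne_top) hqs
        have hle : IsLocalRing.maximalIdeal R ≤ q :=
          hmax (b := ⟨_, hmem⟩) (IsLocalRing.le_maximalIdeal hq.ne_top)
        refine hzx.antisymm ?_ |>.eq
        refine Groth.Agent.WA.specializes_of_isUnit hU hzU hxU fun b hb => ?_
        by_contra hbx
        refine (Groth.Agent.M1.isUnit_germ_iff hU hzU b).mp hb ?_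
        obtain ⟨e, he, he'⟩ := (IsLocalization.algebraMap_mem_map_algebraMap_iff (hU.primeIdealOf ⟨x, hxU⟩).asIdeal.primeCompl R _ b).mp (hle hbx)
        exact ((hU.primeIdealOf ⟨z, hzU⟩).isPrime.mem_or_mem he').resolve_left fun he'' => Set.disjoint_left.mp hdisj he he''
      · intro h
        refine Order.krullDim_nonpos_iff_forall_isMax.mpr ?_
        rintro ⟨q, hq⟩ ⟨q', hq'⟩ hle
        obtain ⟨m, hm⟩ := Module.mem_support_iff'.mp hq
        obtain ⟨c, t, hc, hct⟩ := Groth.Agent.M1.exists_germ_smul_eq F hU hxU m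
        haveI := q.isPrime
        obtain ⟨z, hz, hzu⟩ := Groth.Agent.WA.exists_point hU (q.asIdeal.comap (algebraMap Γ(X, U) R))
        have hzx : z ⤳ x := Groth.Agent.WA.specializes_of_isUnit hU hxU hz fun b hb =>
          (hzu b).mpr fun hbq => q.isPrime.ne_top (Ideal.eq_top_of_isUnit_mem _ hbq hb)
        have hzs : z ∈ CohB1.support F := by
          refine (Groth.Agent.M1.mem_support_iff F z).mpr ⟨F.presheaf.germ U z hz t, fun h0 => ?_⟩
          obtain ⟨r, hr, hr0⟩ := Groth.Agent.M1.exists_smul_eq_zero_of_germ_eq_zero F hU hz t h0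
          refine hm (X.presheaf.germ U x hxU r) ((hzu r).mp hr) ?_
          obtain ⟨w, hw⟩ := hc
          rw [← smul_eq_zero_iff_eq w, Units.smul_def, hw, smul_comm, hct, ← Groth.Agent.M1.germ_smul, hr0, map_zero]
        have hzx' := h z hzs hzx
        subst hzx'
        intro a ha
        by_contra haq
        obtain ⟨⟨b, e⟩, hbe⟩ := IsLocalization.surj (hU.primeIdealOf ⟨z, hxU⟩).asIdeal.primeCompl a
        have hb : algebraMap Γ(X, U) R b ∉ q.asIdeal := by
          rw [← hbe]
          exact fun h => (q.isPrime.mem_or_mem h).elim haq fun he => q.isPrime.ne_top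
            (Ideal.eq_top_of_isUnit_mem _ he (IsLocalization.map_units R e))
        have hu : IsUnit (algebraMap Γ(X, U) R b) := (hzu b).mpr hb
        rw [← hbe, IsUnit.mul_iff] at hu
        exact q'.isPrime.ne_top (Ideal.eq_top_of_isUnit_mem _ ha hu.1)
    by_cases h1 : 1 ≤ LocCoh.depth R M
    · exact iff_of_true ((min_le_left _ _).trans (WithBot.coe_le_coe.mpr h1)) fun ha => absurd ha (hd.mp h1)
    · have h0 : LocCoh.depth R M = 0 := by
        simpa using ENat.lt_one_iff_eq_zero.mp (not_le.mp h1)
      rw [h0, WithBot.coe_zero, min_le_iff, hdim]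
      refine ⟨fun h _ => h.resolve_left (not_le.mpr zero_lt_one), fun h => Or.inr (h ?_)⟩
      by_contra ha
      exact h1 (hd.mpr ha)
  simp only [key]
  constructor
  · intro h x hx z hz hzx
    obtain ⟨a, ha⟩ := (Groth.Agent.M1.mem_support_iff F z).mp hz
    obtain ⟨W, hW, hzW, -⟩ := exists_isAffineOpen_mem_and_subset (U := (⊤ : X.Opens)) (x := z) trivial
    obtain ⟨c, t, hc, hct⟩ := Groth.Agent.M1.exists_germ_smul_eq F hW hzW a
    have ht : F.presheaf.germ W z hzW t ≠ 0 := fun h0 => by
      obtain ⟨w, hw⟩ := hc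
      rw [h0, ← hw, ← Units.smul_def, smul_eq_zero_iff_eq] at hct
      exact ha hct
    obtain ⟨y, hy, hyz, hwa, -⟩ := Groth.Agent.WA.exists_weakAss hW hzW t ht
    have := h x hx y ((Groth.Agent.WA.isAssPoint_iff y).mpr hwa) (hyz.trans hzx)
    subst this
    exact hzx.antisymm hyz |>.eq
  · intro h x hx y hy hyx
    exact h x hx y (Groth.Agent.WA.not_subsingleton_of_isWeakAssPoint ((Groth.Agent.WA.isAssPoint_iff y).mp hy)) hyx

end Groth.Agent.S8871
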