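import Groth.Statements.S8879
import Groth.Agent.Lib.NormBundle5.OfNorm
-- import your own Groth.Agent.* helpers here

set_option autoImplicit false
set_option linter.style.haveILetI false
universe u
open CategoryTheory CategoryTheory.Limits AlgebraicGeometry TopologicalSpace
open SDiv

namespace Groth.Agent.S8879

/-- Let π : X ⟶ Y be a finite morphism of schemes such that a norm of degree d exists for π, and assume
X has an ample invertible O_X-module. Then Y has an ample invertible O_Y-module. -/
theorem result {X Y : Scheme.{u}} (π : X ⟶ Y) [IsFinite π] (d : ℕ) (hN : Nrm.HasNorm π d)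
    (L : X.Modules) (hL : CohB1.IsAmple L) : ∃ N : Y.Modules, CohB1.IsAmple N := by
  obtain ⟨N⟩ := hN
  haveI := Groth.Agent.NormBundle5.surjective_of_norm N
  exact Groth.Agent.NormBundle5.exists_isAmple (Groth.Agent.NormBundle5.ofNormOfDegree N) hL

end Groth.Agent.S8879
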