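import Groth.Statements.S8880
import Mathlib

set_option autoImplicit false
set_option backward.isDefEq.respectTransparency false
open TopologicalSpace
universe u
open CategoryTheory CategoryTheory.Limits AlgebraicGeometry TopologicalSpace
open SDiv

namespace Groth.Agent.S8880

theorem exists_basicOpen_of_finite {X : Scheme.{u}} [X.IsQuasiAffine] (W : X.Opens) {Z : Set X}
    (hZ : Z.Finite) (hZW : ∀ x ∈ Z, x ∈ W) :
    ∃ f : Γ(X, ⊤), (∀ x ∈ Z, x ∈ X.basicOpen f) ∧ X.basicOpen f ≤ W := by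
  classical
  let O := X.toSpecΓ ''ᵁ W
  obtain ⟨I, hI⟩ := (PrimeSpectrum.isClosed_iff_zeroLocus_ideal (O.carrierᶜ)).mp
    O.isOpen.isClosed_compl
  have hmem : ∀ x ∈ Z, ¬ I ≤ (X.toSpecΓ x).asIdeal := fun x hx hle => by
    have h : X.toSpecΓ x ∈ (O.carrierᶜ) := hI.symm ▸ hle
    exact h ⟨x, hZW x hx, rfl⟩
  have hnot : ¬ ((I : Set Γ(X, ⊤)) ⊆ ⋃ x ∈ (hZ.toFinset : Set X), ((X.toSpecΓ x).asIdeal : Set Γ(X, ⊤))) := by
    intro h
    rcases hZ.toFinset.eq_empty_or_nonempty with he | ⟨a, -⟩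
    · rw [he] at h
      simpa using h I.zero_mem
    · obtain ⟨x, hx, hle⟩ := (Ideal.subset_union_prime (f := fun x => (X.toSpecΓ x).asIdeal) a a
        (fun x _ _ _ => (X.toSpecΓ x).isPrime)).mp h
      exact hmem x (hZ.mem_toFinset.mp hx) hle
  obtain ⟨f, hfI, hf⟩ := Set.not_subset.mp hnot
  refine ⟨f, fun x hx => ?_, fun x hx => ?_⟩
  · rw [← Scheme.toSpecΓ_preimage_basicOpen]
    exact fun h => hf (Set.mem_biUnion (hZ.mem_toFinset.mpr hx) h)
  · rw [← Scheme.toSpecΓ_preimage_basicOpen] at hx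
    have hO : X.toSpecΓ x ∈ O := by
      by_contra h
      have h' : X.toSpecΓ x ∈ PrimeSpectrum.zeroLocus (I : Set Γ(X, ⊤)) := hI ▸ h
      exact hx (h' hfI)
    obtain ⟨x', hx', he⟩ := hO
    exact X.toSpecΓ.isEmbedding.injective he ▸ hx'


/-- Let π : X ⟶ Y be a finite morphism of schemes such that a norm of degree d exists for π, and assume
X is quasi-affine. Then Y is quasi-affine. -/
theorem result {X Y : Scheme.{u}} (π : X ⟶ Y) [IsFinite π] (d : ℕ) (hN : Nrm.HasNorm π d)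
    (hX : X.IsQuasiAffine) : Y.IsQuasiAffine := by
  obtain ⟨N⟩ := hN
  haveI := hX
  have hsurj : Function.Surjective π := fun y => by
    by_contra hy
    push Not at hy
    let W : Y.Opens := ⟨(Set.range π)ᶜ, π.isClosedMap.isClosed_range.isOpen_compl⟩
    have hW : π ⁻¹ᵁ W = ⊥ := eq_bot_iff.mpr fun x hx => (hx ⟨x, rfl⟩).elim
    haveI : Subsingleton Γ(X, π ⁻¹ᵁ W) :=
      CommRingCat.subsingleton_of_isTerminal (hW ▸ X.sheaf.isTerminalOfEmpty)
    have h0 : (0 : Γ(Y, W)) = 1 := by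
      have e : (0 : Γ(Y, W)) = N.norm W (π.app W 0) := by
        rw [N.norm_app, zero_pow (by have := N.one_le; omega)]
      rw [e, show π.app W 0 = 1 from Subsingleton.elim _ _, map_one]
    have hyW : y ∈ W := fun ⟨x, hx⟩ => hy x hx
    have := congrArg (Y.presheaf.germ W y hyW) h0
    rw [map_zero, map_one] at this
    exact zero_ne_one this
  haveI : CompactSpace Y := ⟨by
    rw [← hsurj.range_eq]; exact isCompact_range π.continuous⟩
  refine Scheme.IsQuasiAffine.of_forall_exists_mem_basicOpen Y fun y => ?_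
  obtain ⟨V, hV, hyV, -⟩ := exists_isAffineOpen_mem_and_subset (x := y) (U := (⊤ : Y.Opens)) trivial
  obtain ⟨f, hfib, hfle⟩ := exists_basicOpen_of_finite (π ⁻¹ᵁ V) (IsFinite.finite_preimage_singleton π y)
    (fun x (hx : π x = y) => show π x ∈ V from hx ▸ hyV)
  let g : Γ(Y, ⊤) := N.norm ⊤ f
  refine ⟨g, ?_, ?_⟩
  · have hle : Y.basicOpen g ≤ V := fun z hz => by
      obtain ⟨x, rfl⟩ := hsurj z
      refine hfle (?_ : x ∈ X.basicOpen f)
      by_contra hx
      rw [Scheme.mem_basicOpen _ _ _ (by trivial)] at hz hx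
      exact N.norm_mem ⊤ f x trivial hx hz
    rw [← inf_eq_right.mpr hle, ← Scheme.basicOpen_res Y g (homOfLE (le_top : V ≤ ⊤)).op]
    exact hV.basicOpen _
  · let W : Y.Opens := ⟨(π '' (X.basicOpen f : Set X)ᶜ)ᶜ,
      (π.isClosedMap _ (X.basicOpen f).isOpen.isClosed_compl).isOpen_compl⟩
    have hyW : y ∈ W := fun ⟨x, hx, hxy⟩ => hx (hfib x hxy)
    have hWle : π ⁻¹ᵁ W ≤ X.basicOpen f := fun x hx => by
      by_contra h
      exact hx ⟨x, h, rfl⟩
    have hu : IsUnit (X.presheaf.map ((Opens.map π.base).map (homOfLE (le_top : W ≤ ⊤))).op f) := by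
      have h1 := RingedSpace.isUnit_res_basicOpen X.toLocallyRingedSpace.toRingedSpace f
      have h2 := h1.map (X.presheaf.map (homOfLE hWle).op).hom
      convert h2 using 1
      exact (ConcreteCategory.congr_hom (X.presheaf.map_comp _ _) f).trans
        (ConcreteCategory.comp_apply _ _ _)
    have h3 := (hu.map (N.norm W)).map (Y.presheaf.germ W y hyW).hom
    rw [← N.norm_res (homOfLE (le_top : W ≤ ⊤)) f, TopCat.Presheaf.germ_res_apply] at h3
    exact (Scheme.mem_basicOpen _ _ _ (by trivial)).mpr h3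


end Groth.Agent.S8880
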