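import Groth.Statements.S8881
import Groth.Agent.Lib.NormBundle5.OfNorm
import Groth.Agent.Lib.NormBundle5.Normal
-- import your own Groth.Agent.* helpers here

set_option autoImplicit false
set_option linter.style.haveILetI false
universe u
open CategoryTheory CategoryTheory.Limits AlgebraicGeometry TopologicalSpace
open SDiv

namespace Groth.Agent.S8881

/-- If π : X ⟶ Y is finite and surjective, X and Y are integral, and Y is normal, then π carries a norm
of some degree d ≥ 1. The published statement takes d to be the degree of the function field of X
over that of Y; this row asserts only that a norm of some degree exists. -/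
theorem result {X Y : Scheme.{u}} (π : X ⟶ Y) [IsFinite π] [Surjective π]
    [IsIntegral X] [IsIntegral Y] (hY : Pi1.IsNormalScheme Y) : ∃ d : ℕ, Nrm.HasNorm π d := by
  open Groth.Agent.NormBundle5 in
  exact ⟨ffDeg π, ⟨toNormOfDegree (normalMulNorm hY) (ffDeg_pos π) (fun W b => fn_app hY W b)
    (fun W a x hx ha => fn_mem hY W a x hx ha)⟩⟩

end Groth.Agent.S8881
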