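import Groth.Statements.S8888
import Groth.Agent.Lib.TensorMod.PullStalk
import Groth.Agent.Lib.GenFin12.Basic
import Groth.Agent.Lib.RefHull26.Local
-- import your own Groth.Agent.* helpers here

set_option autoImplicit false
universe u
open CategoryTheory CategoryTheory.Limits AlgebraicGeometry TopologicalSpace
open SDiv

namespace Groth.Agent.S8888

/-- Let f : X ⟶ Y be a dominant morphism of integral schemes and G a quasi-coherent O_Y-module. Then the
rank of f^*G on X, the dimension of its stalk at the generic point of X over the function field of
X, equals the rank of G on Y. -/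
theorem result {X Y : Scheme.{u}} [IsIntegral X] [IsIntegral Y] (f : X ⟶ Y) [IsDominant f]
    (G : Y.Modules) (hG : Coh.IsQCoh G) :
    Module.rank ↑(X.presheaf.stalk (genericPoint ↥X)) ↑(((Scheme.Modules.pullback f).obj G).presheaf.stalk (genericPoint ↥X)) =
      Module.rank ↑(Y.presheaf.stalk (genericPoint ↥Y)) ↑(G.presheaf.stalk (genericPoint ↥Y)) := by
  have hη : f (genericPoint X) = genericPoint Y := Groth.Agent.GenFin12.apply_genericPoint f
  have key : ∀ y : Y, f (genericPoint X) = y → Module.Free (Y.presheaf.stalk y) (G.presheaf.stalk y) →
      Module.rank (X.presheaf.stalk (genericPoint X)) (((Scheme.Modules.pullback f).obj G).presheaf.stalk (genericPoint X)) = Module.rank (Y.presheaf.stalk y) (G.presheaf.stalk y) := by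
    rintro y rfl hfree
    rw [← (Groth.Agent.M2.pullStalkEquiv f (genericPoint X) G).rank_eq, Module.rank_baseChange, Cardinal.lift_id]
  refine key _ hη ?_
  letI := (Groth.Agent.RH26.isField_η (X := Y)).toField
  exact Module.Free.of_divisionRing _ _

end Groth.Agent.S8888
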