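import Groth.Statements.S8889
import Groth.Agent.Lib.WeakAss18.Iso

set_option autoImplicit false
universe u
open CategoryTheory CategoryTheory.Limits AlgebraicGeometry TopologicalSpace
open SDiv

namespace Groth.Agent.S8889

/-- Let X be a scheme and φ : F ⟶ G a morphism of quasi-coherent O_X-modules. Assume that for every
point x of X either the stalk map F_x → G_x is injective or x is not a weakly associated point of F.
Then φ is injective. -/
theorem result (X : Scheme.{u}) {F G : X.Modules} (φ : F ⟶ G) (hF : Coh.IsQCoh F)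
    (hG : Coh.IsQCoh G)
    (h : ∀ x : ↥X, Function.Injective ((TopCat.Presheaf.stalkFunctor AddCommGrpCat.{u} x).map (Scheme.Modules.Hom.mapPresheaf φ)) ∨ ¬ Curv2.IsWeakAssPoint F x) :
    Mono φ := by
  haveI : Coh.IsQCoh (kernel φ) := Groth.Agent.M1.isQCoh_kernel hF hG φ
  have hK0 : ∀ x, ¬ Curv2.IsWeakAssPoint (kernel φ) x := by
    rintro x ⟨m, hm⟩
    have hι : Function.Injective ((Groth.Agent.M1.stalkAb x).map (kernel.ι φ)) :=
      (Groth.Agent.M1.mono_iff_stalk _).mp inferInstance x
    have hn0 : (Groth.Agent.M1.stalkAb x).map (kernel.ι φ) m ≠ 0 :=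
      fun h0 => Groth.Agent.WA.ne_zero_of_radical_ann hm (hι (h0.trans (map_zero _).symm))
    rcases h x with hi | hn
    · refine hn0 (hi ?_)
      refine Eq.trans ?_ (map_zero _).symm
      change (Groth.Agent.M1.stalkAb x).map φ ((Groth.Agent.M1.stalkAb x).map (kernel.ι φ) m) = 0
      rw [← Groth.Agent.M1.stalk_comp_apply, kernel.condition, Groth.Agent.M1.stalkAb_map_zero]
    · refine hn (Groth.Agent.WA.isWeakAssPoint_of_elem _ hn0 fun z hz => ?_)
      obtain ⟨k, hk⟩ := Groth.Agent.WA.exists_pow_smul_eq_zero hm hz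
      refine ⟨k, ?_⟩
      rw [← Groth.Agent.WA.stalkAb_map_smul, hk]
      exact map_zero _
  refine (Groth.Agent.M1.mono_iff_stalk _).mpr fun x => (injective_iff_map_eq_zero _).mpr fun a ha => ?_
  obtain ⟨b, hb⟩ := Groth.Agent.M1.exact_elem
    (ShortComplex.exact_of_f_is_kernel (ShortComplex.mk (kernel.ι φ) φ (kernel.condition φ)) (kernelIsKernel φ)) x a ha
  rw [Groth.Agent.WA.subsingleton_stalk_of_no_weakAss hK0 x b] at hb
  exact hb.symm.trans (map_zero _)

end Groth.Agent.S8889
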