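import Groth.Statements.S8891
import Groth.Agent.Lib.WeakAss18.Iso
import Groth.Agent.Lib.WeakAss18.Push
import Mathlib.AlgebraicGeometry.FunctionField

set_option autoImplicit false
universe u
open CategoryTheory CategoryTheory.Limits AlgebraicGeometry TopologicalSpace
open SDiv

namespace Groth.Agent.S8891

/-- Let X be an integral locally Noetherian scheme and φ : F ⟶ G a morphism of quasi-coherent
O_X-modules with F coherent and G torsion free. Assume that for every point x either the stalk map
F_x → G_x is an isomorphism, or depth(F_x) ≥ 2 and x is not the generic point of X. Then φ is an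
isomorphism. (The published statement allows the second alternative at the generic point as well;
since the zero module has infinite depth, F = 0 and G = O_X then satisfy every hypothesis while 0 →
O_X is not an isomorphism. The general criterion this is a special case of requires x not to be
associated to G, which for torsion-free G ≠ 0 fails exactly at the generic point; so the generic
point is excluded from the second alternative here.) -/
theorem result (X : Scheme.{u}) [IsIntegral X] [IsLocallyNoetherian X] {F G : X.Modules}
    (φ : F ⟶ G) (hF : Coh.IsCoh F) (hG : Coh.IsQCoh G)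
    (htf : ∀ x : ↥X, NoZeroSMulDivisors ↑(X.presheaf.stalk x) ↑(G.presheaf.stalk x))
    (h : ∀ x : ↥X, Function.Bijective ((TopCat.Presheaf.stalkFunctor AddCommGrpCat.{u} x).map (Scheme.Modules.Hom.mapPresheaf φ)) ∨
      ((2 : ℕ∞) ≤ LocCoh.depth (X.presheaf.stalk x) (F.presheaf.stalk x) ∧ x ≠ genericPoint ↥X)) :
    IsIso φ := by
  refine Groth.Agent.WA.isIso_of_depth φ hF hG fun x => ?_
  rcases h x with h1 | ⟨h1, h2⟩
  · exact Or.inl h1
  refine Or.inr ⟨h1, fun ⟨n, hn⟩ => h2 ?_⟩
  haveI := htf x
  have hn0 : n ≠ 0 := Groth.Agent.WA.ne_zero_of_radical_ann hn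
  have hzero : ∀ z : X.presheaf.stalk x, ¬ IsUnit z → z = 0 := fun z hz => by
    obtain ⟨k, hk⟩ := Groth.Agent.WA.exists_pow_smul_eq_zero hn ((IsLocalRing.mem_maximalIdeal z).mpr hz)
    exact eq_zero_of_pow_eq_zero ((smul_eq_zero.mp hk).resolve_right hn0)
  obtain ⟨U, hU, hx, -⟩ := exists_isAffineOpen_mem_and_subset (U := (⊤ : X.Opens)) (x := x) trivial
  have hη : genericPoint ↥X ∈ U := ((genericPoint_spec ↥X).mem_open_set_iff U.isOpen).mpr ⟨x, Set.mem_univ _, hx⟩
  refine (Groth.Agent.WA.specializes_of_isUnit hU hη hx fun a ha => ?_).antisymm (genericPoint_specializes x) |>.eq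
  haveI : Nonempty U := ⟨⟨x, hx⟩⟩
  by_contra hu
  have h0 : a = 0 := germ_injective_of_isIntegral X x hx ((hzero _ hu).trans (map_zero _).symm)
  rw [h0, map_zero] at ha
  exact not_isUnit_zero ha

end Groth.Agent.S8891
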