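import Groth.Statements.S8897
import Groth.Agent.Lib.RegDesc11.SmoothDesc
import Mathlib

set_option autoImplicit false
universe u
open CategoryTheory CategoryTheory.Limits AlgebraicGeometry TopologicalSpace
open SDiv

namespace Groth.Agent.S8897

open Groth.Agent.CI2

variable {X V V' : Scheme.{u}} (i : X ⟶ V) (j : X ⟶ V') (p : V' ⟶ V) {K : RegImm.Kind} (hK : K = .h1 ∨ K = .quasi)

include hK in
theorem exists_smooth_chart [IsImmersion i] [IsImmersion j] [Smooth p] (h : j ≫ p = i) (z : X) :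
    ∃ (U : V.Opens) (W : V'.Opens), IsAffineOpen U ∧ IsAffineOpen W ∧ i z ∈ U ∧ j z ∈ W ∧
      IsClosedImmersion (i ∣_ U) ∧ IsClosedImmersion (j ∣_ W) ∧
        (RegDesc11.IsKindIdeal K (RingHom.ker (j.app W).hom) → RegDesc11.IsKindIdeal K (RingHom.ker (i.app U).hom)) := by
  obtain ⟨U, hU, hzU, -, hcl⟩ := exists_affine_closed i z (V := ⊤) trivial
  haveI := hcl
  have hjU : j z ∈ p ⁻¹ᵁ U := by
    show p (j z) ∈ U
    rw [← Scheme.Hom.comp_apply, h]; exact hzU
  obtain ⟨W, hW, hzW, hWU, hclW⟩ := exists_affine_closed j z hjU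
  haveI := hclW
  obtain ⟨hXU, hs⟩ := surjective_app_of_closed i hU
  obtain ⟨f, hf1, hf2⟩ := hXU.exists_basicOpen_le (V := j ⁻¹ᵁ W) ⟨z, hzW⟩ hzU
  obtain ⟨g, rfl⟩ := hs f
  let D := V.basicOpen g
  let W' := V'.basicOpen (p.appLE U W hWU g)
  have hD : IsAffineOpen D := hU.basicOpen g
  have hW' : IsAffineOpen W' := hW.basicOpen _
  haveI : IsClosedImmersion (i ∣_ D) := isClosedImmersion_restrict_of_le i (V.basicOpen_le g)
  haveI : IsClosedImmersion (j ∣_ W') := isClosedImmersion_restrict_of_le j (V'.basicOpen_le _)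
  have hW'eq : W' = W ⊓ p ⁻¹ᵁ D := by
    show V'.basicOpen (p.appLE U W hWU g) = W ⊓ p ⁻¹ᵁ V.basicOpen g
    rw [Scheme.preimage_basicOpen, Scheme.Hom.appLE, CommRingCat.comp_apply, Scheme.basicOpen_res]
  have hpre : j ⁻¹ᵁ W' = i ⁻¹ᵁ D := by
    rw [hW'eq, ← h]
    show j ⁻¹ᵁ W ⊓ j ⁻¹ᵁ (p ⁻¹ᵁ D) = j ⁻¹ᵁ (p ⁻¹ᵁ D)
    refine inf_eq_right.2 fun x hx => hf1 ?_
    rw [← Scheme.preimage_basicOpen]
    show x ∈ i ⁻¹ᵁ V.basicOpen g
    rw [← h]; exact hx
  have hzD : i z ∈ D := by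
    have h1 : z ∈ i ⁻¹ᵁ D := by rw [Scheme.preimage_basicOpen]; exact hf2
    exact h1
  have hle : W' ≤ p ⁻¹ᵁ D := hW'eq ▸ inf_le_right
  refine ⟨D, W', hD, hW', hzD, ?_, inferInstance, inferInstance, ?_⟩
  · rw [hW'eq]
    exact ⟨hzW, show p (j z) ∈ D by rw [← Scheme.Hom.comp_apply, h]; exact hzD⟩
  have hle2 : j ⁻¹ᵁ W' ≤ i ⁻¹ᵁ D := hpre.le
  obtain ⟨-, hsD⟩ := surjective_app_of_closed i hD
  have hbij : Function.Bijective (X.presheaf.map (homOfLE hle2).op).hom := by
    rw [Subsingleton.elim (homOfLE hle2) (eqToHom hpre)]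
    exact ConcreteCategory.bijective_of_isIso (X.presheaf.map (eqToHom hpre).op)
  let α := (i.appLE D (j ⁻¹ᵁ W') hle2).hom
  have hα : α = (X.presheaf.map (homOfLE hle2).op).hom.comp (i.app D).hom := rfl
  have hαs : Function.Surjective α := by rw [hα]; exact hbij.2.comp hsD
  have hαk : RingHom.ker α = RingHom.ker (i.app D).hom := by
    ext x
    rw [RingHom.mem_ker, RingHom.mem_ker, hα, RingHom.comp_apply]
    exact map_eq_zero_iff _ hbij.1
  letI : Algebra Γ(V, D) Γ(V', W') := (p.appLE D W' hle).hom.toAlgebra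
  haveI : Algebra.Smooth Γ(V, D) Γ(V', W') := Scheme.Hom.smooth_appLE p hD hW' hle
  have hcomp : (j.app W').hom.comp (algebraMap Γ(V, D) Γ(V', W')) = α := by
    show (j.app W').hom.comp (p.appLE D W' hle).hom = _
    rw [← CommRingCat.hom_comp, Scheme.Hom.app_eq_appLE, Scheme.Hom.appLE_comp_appLE]
    subst h
    rfl
  rw [← hαk]
  exact RegDesc11.isKindIdeal_of_smooth hK α hαs (j.app W').hom hcomp

include hK in
theorem of_kind [IsImmersion i] [IsImmersion j] [Smooth p] (h : j ≫ p = i) (hj : RegImm.IsRegularImmersion K j) :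
    RegImm.IsRegularImmersion K i := by
  refine ⟨inferInstance, fun z => ?_⟩
  obtain ⟨U, W, hU, hW, hzU, hzW, hclU, hclW, himp⟩ := exists_smooth_chart i j p hK h z
  haveI := hclU
  haveI := hclW
  exact RegDesc11.isRegularImmersionAt_of_isKindIdeal hK i hU hzU
    (himp (RegDesc11.isKindIdeal_of_isRegularImmersion hK j hj hW))


/-- Let p : X ⟶ S be smooth and let i : Y ⟶ X and j : Y ⟶ S be immersions with i ≫ p = j. If i is a
Koszul-regular (resp. H_1-regular, resp. quasi-regular) immersion, then so is j. -/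
theorem result {Y X S : Scheme.{u}} (p : X ⟶ S) [Smooth p] (i : Y ⟶ X) (j : Y ⟶ S)
    [IsImmersion i] [IsImmersion j] (h : i ≫ p = j) (k : RegImm.Kind) (hk : k ≠ RegImm.Kind.regular)
    (hi : RegImm.IsRegularImmersion k i) : RegImm.IsRegularImmersion k j := by
  cases k with
  | regular => exact absurd rfl hk
  | koszul => exact (CI2.koszul_iff_of_smooth_comp j i p h).2 hi
  | h1 => exact of_kind (i := j) (j := i) (p := p) (hK := Or.inl rfl) h hi
  | quasi => exact of_kind (i := j) (j := i) (p := p) (hK := Or.inr rfl) h hi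


end Groth.Agent.S8897
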