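import Groth.Statements.S8898
import Groth.Agent.Lib.BlowUp26.Basic
import Groth.Agent.Lib.WeakAss18.Mero
-- import your own Groth.Agent.* helpers here

set_option autoImplicit false
universe u
open CategoryTheory CategoryTheory.Limits AlgebraicGeometry TopologicalSpace
open SDiv

namespace Groth.Agent.S8898

/-- Let X be a scheme, 𝓘 a quasi-coherent ideal sheaf and b : X' ⟶ X a blowing up of X in 𝓘. Then the
pullback b⁻¹D is defined for every effective Cartier divisor D ⊆ X (the inverse image ideal of the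
ideal of D is again the ideal of an effective Cartier divisor), and pullbacks of meromorphic
functions are defined for b (b carries regular sections of O_X, i.e. sections whose germs are
nonzerodivisors, to regular sections of O_{X'}). -/
theorem result {X X' : Scheme.{u}} (𝓘 : X.IdealSheafData) (b : X' ⟶ X) (hb : BlowUp.IsBlowUp b 𝓘) :
    (∀ 𝓓 : X.IdealSheafData, BlowUp.IsEffCartierIdeal 𝓓 → BlowUp.IsEffCartierIdeal (𝓓.comap b)) ∧
      ∀ (U : X.Opens) (s : Γ(X, U)), s ∈ Mero.regSub X U → b.app U s ∈ Mero.regSub X' (b ⁻¹ᵁ U) := by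
  refine ⟨fun D hD => BlowUp26.isEffCartierIdeal_comap_blowUp hb hD, fun U s hs x' => ?_⟩
  obtain ⟨V, hV, hxV, hVU⟩ := exists_isAffineOpen_mem_and_subset (U := U) (show b x'.1 ∈ U from x'.2)
  haveI : IsAffine (V : Scheme.{u}) := hV
  have hb₁ := BlowUp26.isBlowUp_flat_baseChange V.ι hb
  let t : Γ((V : Scheme.{u}), ⊤) := V.ι.appLE U ⊤ (fun y _ => hVU y.2) s
  have ht : t ∈ nonZeroDivisors Γ((V : Scheme.{u}), ⊤) := by
    rw [mem_nonZeroDivisors_iff_right]
    intro c hc
    refine TopCat.Presheaf.section_ext (V : Scheme.{u}).sheaf ⊤ c 0 fun z hz => ?_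
    have e := congrArg ((V : Scheme.{u}).presheaf.germ ⊤ z hz) hc
    rw [map_mul, map_zero] at e
    change (V : Scheme.{u}).presheaf.germ ⊤ z hz c = (V : Scheme.{u}).presheaf.germ ⊤ z hz 0
    rw [map_zero]
    refine (mem_nonZeroDivisors_iff_right.mp ?_) _ e
    simp only [t, Scheme.Hom.appLE, CommRingCat.comp_apply, TopCat.Presheaf.germ_res_apply]
    rw [← Scheme.Hom.germ_stalkMap_apply V.ι U z (hVU z.2)]
    rw [mem_nonZeroDivisors_iff_right]
    intro c₀ hc₀
    obtain ⟨d₀, rfl⟩ := (ConcreteCategory.bijective_of_isIso (V.ι.stalkMap z)).surjective c₀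
    rw [← map_mul] at hc₀
    exact (congrArg _ ((mem_nonZeroDivisors_iff_right.mp (hs ⟨_, hVU z.2⟩)) d₀ ((ConcreteCategory.bijective_of_isIso (V.ι.stalkMap z)).injective (hc₀.trans (map_zero _).symm)))).trans (map_zero _)
  let D := Scheme.IdealSheafData.ofIdealTop (Ideal.span {t})
  have hD : BlowUp.IsEffCartierIdeal D := fun z => ⟨⟨⊤, isAffineOpen_top _⟩, trivial, t, ht, by simp only [D, Scheme.IdealSheafData.ofIdealTop_ideal]; erw [CategoryTheory.Functor.map_id]; exact Ideal.map_id _⟩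
  have hD' := BlowUp26.isEffCartierIdeal_comap_blowUp hb₁ hD
  obtain ⟨y, hy1, hy2⟩ := Scheme.Pullback.exists_preimage_pullback (f := V.ι) (g := b) ⟨b x'.1, hxV⟩ x'.1 rfl
  obtain ⟨W, hyW, g, hg, hW⟩ := hD' y
  rw [Groth.Agent.EffCartier.comap_ideal D (pullback.fst V.ι b) ⟨⊤, isAffineOpen_top _⟩ W le_top] at hW
  simp only [D, Scheme.IdealSheafData.ofIdealTop_ideal, Ideal.map_span, Set.image_singleton] at hW
  obtain ⟨c, hc⟩ := Ideal.mem_span_singleton'.mp (hW.le (Ideal.mem_span_singleton_self _))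
  obtain ⟨d, hd⟩ := Ideal.mem_span_singleton'.mp (hW.ge (Ideal.mem_span_singleton_self _))
  have hcd : d * c = 1 := by
    have h0 : (d * c - 1) * g = 0 := by rw [sub_mul, one_mul, mul_assoc, hc, hd, sub_self]
    exact sub_eq_zero.mp ((mem_nonZeroDivisors_iff_right.mp hg) _ h0)
  have hnzd := Groth.Agent.WA.mem_regSub_of_nonZeroDivisors W.2 (mul_mem (IsUnit.of_mul_eq_one_right d hcd).mem_nonZeroDivisors hg) ⟨y, hyW⟩
  rw [hc] at hnzd
  simp only [t, op_id, CategoryTheory.Functor.map_id, CommRingCat.id_apply] at hnzd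
  have hy' : pullback.snd V.ι b y ∈ b ⁻¹ᵁ U := hy2 ▸ x'.2
  have key : ∀ (q : Limits.pullback V.ι b ⟶ X) (e : W.1 ≤ q ⁻¹ᵁ U), q = pullback.snd V.ι b ≫ b →
      (Limits.pullback V.ι b).presheaf.germ W.1 y hyW (q.appLE U W.1 e s) ∈ nonZeroDivisors _ →
      (pullback.snd V.ι b).stalkMap y (X'.presheaf.germ (b ⁻¹ᵁ U) (pullback.snd V.ι b y) hy' (b.app U s)) ∈ nonZeroDivisors _ := by
    rintro q e rfl hq
    rw [Scheme.Hom.germ_stalkMap_apply]
    simpa [Scheme.Hom.appLE, TopCat.Presheaf.germ_res_apply] using hq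
  have h1 := key (pullback.fst V.ι b ≫ V.ι) (fun z hz => hVU (pullback.fst V.ι b z).2) pullback.condition ?_
  · have h2 := mem_nonZeroDivisors_of_injective (ConcreteCategory.bijective_of_isIso ((pullback.snd V.ι b).stalkMap y)).injective h1
    obtain ⟨x, hx⟩ := x'
    subst hy2
    exact h2
  · rw [← Scheme.Hom.appLE_comp_appLE (f := pullback.fst V.ι b) (g := V.ι) U ⊤ W.1 (fun z _ => hVU z.2) le_top]
    convert hnzd using 3
    erw [CategoryTheory.Functor.map_id]
    rfl

end Groth.Agent.S8898
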