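import Groth.Statements.S8899
import Groth.Agent.Lib.TensorMod.PullStalk
import Mathlib.RingTheory.Flat.Basic

set_option autoImplicit false
set_option backward.isDefEq.respectTransparency false
open scoped TensorProduct
universe u
open CategoryTheory CategoryTheory.Limits AlgebraicGeometry TopologicalSpace
open SDiv

namespace Groth.Agent.S8899

theorem tmul_eq_zero_iff {A B N : Type*} [CommRing A] [CommRing B] [Algebra A B] [Module.Flat A B]
    [AddCommGroup N] [Module A N] (z : N) (b : B) :
    b ⊗ₜ[A] z = 0 ↔ b ∈ Ideal.map (algebraMap A B) (LinearMap.ker (LinearMap.toSpanSingleton A N z)) := by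
  have he := Module.Flat.lTensor_exact B
    (LinearMap.exact_subtype_ker_map (LinearMap.toSpanSingleton A N z))
  constructor
  · intro h
    obtain ⟨w, hw⟩ := (he (b ⊗ₜ[A] (1 : A))).mp (by simpa using h)
    have key : ∀ w : B ⊗[A] (LinearMap.ker (LinearMap.toSpanSingleton A N z)),
        TensorProduct.rid A B ((LinearMap.ker (LinearMap.toSpanSingleton A N z)).subtype.lTensor B w) ∈
          Ideal.map (algebraMap A B) (LinearMap.ker (LinearMap.toSpanSingleton A N z)) := by
      intro w
      induction w using TensorProduct.induction_on with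
      | zero => simp
      | tmul c j =>
        rw [LinearMap.lTensor_tmul, TensorProduct.rid_tmul, Algebra.smul_def]
        exact Ideal.mul_mem_right _ _ (Ideal.mem_map_of_mem _ j.2)
      | add a c ha hc => simpa using add_mem ha hc
    simpa [hw] using key w
  · intro h
    induction h using Submodule.span_induction with
    | mem c hc =>
      obtain ⟨j, hj, rfl⟩ := hc
      have hj' : j • z = 0 := hj
      rw [Algebra.algebraMap_eq_smul_one, TensorProduct.smul_tmul, hj', TensorProduct.tmul_zero]
    | zero => simp
    | add c d _ _ hc hd => rw [TensorProduct.add_tmul, hc, hd, add_zero]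
    | smul r c _ hc => rw [← TensorProduct.smul_tmul', hc, smul_zero]


/-- Let f : X ⟶ S be a morphism of schemes, G a quasi-coherent O_S-module and x a point of X over s = f
x such that f is flat at x, no point of f⁻¹(s) other than x specialises to x (x is the generic point
of some irreducible component of the fibre X_s), and s is weakly associated to G. Then x is weakly
associated to f^*G. -/
theorem result {X S : Scheme.{u}} (f : X ⟶ S) (G : S.Modules) (hG : Coh.IsQCoh G)
    (x : ↥X) (hfl : (f.stalkMap x).hom.Flat) (hgen : ∀ y : ↥X, f y = f x → y ⤳ x → y = x)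
    (hs : Curv2.IsWeakAssPoint G (f x)) : Curv2.IsWeakAssPoint ((Scheme.Modules.pullback f).obj G) x := by
  classical
  letI : Algebra (S.presheaf.stalk (f x)) (X.presheaf.stalk x) := (f.stalkMap x).hom.toAlgebra
  haveI : Module.Flat (S.presheaf.stalk (f x)) (X.presheaf.stalk x) := hfl
  obtain ⟨z, hz⟩ := hs
  set J : Ideal (S.presheaf.stalk (f x)) :=
    LinearMap.ker (LinearMap.toSpanSingleton (S.presheaf.stalk (f x)) (G.presheaf.stalk (f x)) z) with hJ
  refine ⟨M2.pullStalkEquiv f x G ((1 : X.presheaf.stalk x) ⊗ₜ z), ?_⟩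
  have hann : ∀ b : X.presheaf.stalk x,
      b ∈ LinearMap.ker (LinearMap.toSpanSingleton (X.presheaf.stalk x) _
        (M2.pullStalkEquiv f x G ((1 : X.presheaf.stalk x) ⊗ₜ z))) ↔
      b ∈ J.map (algebraMap (S.presheaf.stalk (f x)) (X.presheaf.stalk x)) := fun b => by
    rw [LinearMap.mem_ker, LinearMap.toSpanSingleton_apply, ← map_smul, LinearEquiv.map_eq_zero_iff,
      TensorProduct.smul_tmul', smul_eq_mul, mul_one]
    exact tmul_eq_zero_iff z b
  rw [SetLike.ext hann]
  refine le_antisymm ?_ ?_
  · refine (IsLocalRing.maximalIdeal.isMaximal _).isPrime.radical_le_iff.mpr ?_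
    refine Ideal.map_le_iff_le_comap.mpr ((Ideal.le_radical.trans hz.le).trans ?_)
    exact le_of_eq (IsLocalRing.maximalIdeal_comap (f.stalkMap x).hom).symm
  · rw [Ideal.radical_eq_sInf]
    refine le_sInf fun q ⟨hq, hq'⟩ => ?_
    haveI := hq'
    let p : Spec (X.presheaf.stalk x) := ⟨q, hq'⟩
    have hcl : Spec.map (f.stalkMap x) p = IsLocalRing.closedPoint (S.presheaf.stalk (f x)) := by
      refine PrimeSpectrum.ext (le_antisymm (IsLocalRing.le_maximalIdeal (Ideal.IsPrime.ne_top')) ?_)
      change IsLocalRing.maximalIdeal _ ≤ q.comap (f.stalkMap x).hom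
      rw [← hz]
      exact ((hq'.comap _).radical_le_iff).mpr (Ideal.map_le_iff_le_comap.mp hq)
    have hy : f (X.fromSpecStalk x p) = f x := by
      have e := congrArg (fun φ : Spec (X.presheaf.stalk x) ⟶ S => φ p)
        (Scheme.SpecMap_stalkMap_fromSpecStalk (f := f) (x := x))
      simp only [Scheme.Hom.comp_apply] at e
      rw [← e, hcl, Scheme.fromSpecStalk_closedPoint]
    have hyx : X.fromSpecStalk x p ⤳ x := by
      have h : X.fromSpecStalk x p ∈ Set.range (X.fromSpecStalk x) := ⟨p, rfl⟩
      rwa [Scheme.range_fromSpecStalk] at h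
    have hp : p = IsLocalRing.closedPoint (X.presheaf.stalk x) :=
      (X.fromSpecStalk x).isEmbedding.injective
        ((hgen _ hy hyx).trans Scheme.fromSpecStalk_closedPoint.symm)
    exact (congrArg PrimeSpectrum.asIdeal hp).ge


end Groth.Agent.S8899
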