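import Groth.Statements.S8900
import Groth.Agent.Lib.WeakAssField26.Basic
import Groth.Agent.Lib.GeomReg18.Stalk
import Groth.Agent.Lib.TensorMod.PullStalk
import Mathlib.RingTheory.Localization.BaseChange

set_option autoImplicit false
set_option maxHeartbeats 1600000
universe u
open CategoryTheory CategoryTheory.Limits AlgebraicGeometry TopologicalSpace
open SDiv

set_option backward.isDefEq.respectTransparency false

namespace Groth.Agent.S8900

open scoped TensorProduct
open H2Alg

attribute [local instance] Curv2.stalkAlgebra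

variable {k : Type u} [Field k] {K : Type u} [Field K] [Algebra k K]

theorem core {R : Type u} [CommRing R] [IsLocalRing R] [Algebra k R] (N : Type u) [AddCommGroup N] [Module R N]
    (P : Ideal (R ⊗[k] K)) [P.IsPrime] (B : Type u) [CommRing B] [IsLocalRing B] [Algebra R B]
    [IsLocalHom (algebraMap R B)] [Algebra (R ⊗[k] K) B] [IsScalarTower R (R ⊗[k] K) B]
    [IsLocalization.AtPrime B P] (z : B ⊗[R] N)
    (hz : Ideal.radical (LinearMap.ker (LinearMap.toSpanSingleton B (B ⊗[R] N) z)) = IsLocalRing.maximalIdeal B) :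
    ∃ m : N, Ideal.radical (LinearMap.ker (LinearMap.toSpanSingleton R N m)) = IsLocalRing.maximalIdeal R := by
  letI : Algebra K (R ⊗[k] K) := Algebra.TensorProduct.rightAlgebra
  let S := R ⊗[k] K
  let e : B ⊗[S] (S ⊗[R] N) ≃ₗ[B] B ⊗[R] N := TensorProduct.AlgebraTensorModule.cancelBaseChange R S B B N
  let g : S ⊗[R] N →ₗ[S] B ⊗[S] (S ⊗[R] N) := TensorProduct.mk S B (S ⊗[R] N) 1
  haveI : IsLocalizedModule P.primeCompl g :=
    (isLocalizedModule_iff_isBaseChange P.primeCompl B g).mpr (TensorProduct.isBaseChange S (S ⊗[R] N) B)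
  have hmem : ∀ b, b ∈ LinearMap.ker (LinearMap.toSpanSingleton B (B ⊗[R] N) z) ↔ b • e.symm z = 0 := fun b => by
    rw [LinearMap.mem_ker, LinearMap.toSpanSingleton_apply, ← map_smul, LinearEquiv.map_eq_zero_iff]
  obtain ⟨⟨n, s⟩, hns⟩ := IsLocalizedModule.surj P.primeCompl g (e.symm z)
  have hns : algebraMap S B s • e.symm z = g n := by rw [algebraMap_smul]; exact hns
  have hsu : IsUnit (algebraMap S B s) := IsLocalization.map_units B s
  have hne : e.symm z ≠ 0 := by
    intro h0
    refine (IsLocalRing.maximalIdeal.isMaximal B).ne_top (hz.symm.trans ?_)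
    rw [Ideal.radical_eq_top, Ideal.eq_top_iff_one, hmem, h0, smul_zero]
  have hP : P ∈ FlatCA.weakAss S (S ⊗[R] N) := by
    refine WeakAssBC4.mem_weakAss_iff.mpr ⟨n, fun t ht h0 => hne ?_, fun a ha => ?_⟩
    · have hgn : g n = 0 := (IsLocalizedModule.eq_zero_iff P.primeCompl g).mpr ⟨⟨t, ht⟩, h0⟩
      rw [← hns] at hgn
      exact hsu.smul_left_cancel.mp (hgn.trans (smul_zero _).symm)
    · have ha' : algebraMap S B a ∈ IsLocalRing.maximalIdeal B :=
        (IsLocalRing.mem_maximalIdeal _).mpr fun hu => (IsLocalization.AtPrime.isUnit_to_map_iff B P a).mp hu ha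
      rw [← hz] at ha'
      obtain ⟨j, hj⟩ := ha'
      rw [hmem] at hj
      have hgn : g (a ^ j • n) = 0 := by
        rw [map_smul, ← hns, ← algebraMap_smul B (a ^ j), smul_comm, map_pow, hj, smul_zero]
      obtain ⟨⟨t, ht⟩, htn⟩ := (IsLocalizedModule.eq_zero_iff P.primeCompl g).mp hgn
      exact ⟨j, t, ht, by rw [mul_smul]; exact htn⟩
  haveI : Algebra.IsPushout k K R S := inferInstance
  have h := WeakAssField26.comap_mem_weakAss (k := k) (K := K) S N (S ⊗[R] N) (TensorProduct.mk R S N 1)
    (TensorProduct.isBaseChange R N S) P hP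
  have hpm : P.comap (algebraMap R S) = IsLocalRing.maximalIdeal R := by
    ext r
    rw [Ideal.mem_comap, IsLocalRing.mem_maximalIdeal, mem_nonunits_iff]
    rw [← not_iff_not, not_not, ← isUnit_map_iff (algebraMap R B) r, IsScalarTower.algebraMap_apply R S B]
    exact (IsLocalization.AtPrime.isUnit_to_map_iff B P _).symm
  rw [hpm] at h
  obtain ⟨m, hm⟩ := h
  have hann : annEl R m = LinearMap.ker (LinearMap.toSpanSingleton R N m) := by
    ext r
    rw [mem_annEl, LinearMap.mem_ker, LinearMap.toSpanSingleton_apply]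
  refine ⟨m, ?_⟩
  rw [← hann]
  refine le_antisymm ((IsLocalRing.maximalIdeal.isMaximal R).isPrime.radical_le_iff.mpr hm.1.2) ?_
  rw [Ideal.radical_eq_sInf]
  exact le_sInf fun Q ⟨hQ, hQp⟩ => hm.2 ⟨hQp, hQ⟩ (IsLocalRing.le_maximalIdeal hQp.ne_top)

variable {X : Scheme.{u}} [X.Over (Spec (CommRingCat.of k))]

theorem core' (F : X.Modules) (x x'' : X) (h : x'' = x) (B : CommRingCat.{u}) [IsLocalRing B]
    (φ : X.presheaf.stalk x'' ⟶ B) [IsLocalHom φ.hom]
    (P : Spec (CommRingCat.of (X.presheaf.stalk x ⊗[k] K))) [Algebra (X.presheaf.stalk x ⊗[k] K) B]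
    [IsLocalization.AtPrime B P.asIdeal]
    (hφ : Spec.map φ ≫ X.fromSpecStalk x'' =
      Spec.map (CommRingCat.ofHom ((algebraMap (X.presheaf.stalk x ⊗[k] K) B).comp
        (algebraMap (X.presheaf.stalk x) (X.presheaf.stalk x ⊗[k] K)))) ≫ X.fromSpecStalk x)
    (hz : letI := φ.hom.toAlgebra; ∃ z : B ⊗[X.presheaf.stalk x''] F.presheaf.stalk x'',
      Ideal.radical (LinearMap.ker (LinearMap.toSpanSingleton B (B ⊗[X.presheaf.stalk x''] F.presheaf.stalk x'') z)) =
        IsLocalRing.maximalIdeal B) :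
    Curv2.IsWeakAssPoint F x := by
  subst h
  rw [cancel_mono] at hφ
  have hφ' := congrArg CommRingCat.Hom.hom (Spec.map_injective hφ)
  letI : Algebra (X.presheaf.stalk x'') B := φ.hom.toAlgebra
  haveI : IsScalarTower (X.presheaf.stalk x'') (X.presheaf.stalk x'' ⊗[k] K) B :=
    IsScalarTower.of_algebraMap_eq fun r => RingHom.congr_fun hφ' r
  haveI : IsLocalHom (algebraMap (X.presheaf.stalk x'') B) := inferInstanceAs (IsLocalHom φ.hom)
  obtain ⟨z, hz⟩ := hz
  exact core (F.presheaf.stalk x'') P.asIdeal B z hz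

/-- Let K/k be an extension of fields, X a scheme over k, F a quasi-coherent O_X-module, and y a point
of X_K = X ×_k Spec K with image x in X. If y is weakly associated to the pullback of F to X_K, then
x is weakly associated to F. -/
theorem result (k : Type u) [Field k] (K : Type u) [Field K] [Algebra k K] (X : Scheme.{u})
    [X.Over (Spec (CommRingCat.of k))] (F : X.Modules) (hF : Coh.IsQCoh F) (y : ↥(Curv2.bc k X K))
    (hy : Curv2.IsWeakAssPoint ((Scheme.Modules.pullback (Curv2.bcFst k X K)).obj F) y) :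
    Curv2.IsWeakAssPoint F (Curv2.bcFst k X K y) := by
  suffices h : ∀ x : X, Curv2.bcFst k X K y = x → Curv2.IsWeakAssPoint F x from h _ rfl
  intro x hyx
  obtain ⟨P, rfl⟩ : y ∈ Set.range (GeomReg18.toBc k K x) := by
    rw [GeomReg18.range_toBc]
    exact (show Curv2.bcFst k X K y ⤳ x from hyx ▸ specializes_rfl)
  let t := GeomReg18.toBc k K x
  haveI := GeomReg18.flat_toBc k K x
  haveI := GeomReg18.surjectiveOnStalks_toBc k K x
  let S := CommRingCat.of (X.presheaf.stalk x ⊗[k] K)
  let B := (Curv2.bc k X K).presheaf.stalk (t P)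
  let g := t.stalkMap P
  haveI : IsIso g := by
    have hflat : g.hom.Flat := Flat.stalkMap t P
    have hinj : Function.Injective g.hom := by
      letI := g.hom.toAlgebra
      haveI : Module.Flat B ((Spec S).presheaf.stalk P) := hflat
      haveI : IsLocalHom (algebraMap B ((Spec S).presheaf.stalk P)) := inferInstanceAs (IsLocalHom g.hom)
      haveI := Module.FaithfullyFlat.of_flat_of_isLocalHom (A := B) (B := (Spec S).presheaf.stalk P)
      exact FaithfulSMul.algebraMap_injective _ _
    exact (ConcreteCategory.isIso_iff_bijective g).mpr ⟨hinj, t.stalkMap_surjective P⟩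
  let ts : S ⟶ (Spec S).presheaf.stalk P := StructureSheaf.toStalk S P
  letI : Algebra S ((Spec S).presheaf.stalk P) := ts.hom.toAlgebra
  haveI : IsLocalization.AtPrime ((Spec S).presheaf.stalk P) P.asIdeal :=
    StructureSheaf.IsLocalization.to_stalk S P
  letI : Algebra S B := (ts ≫ inv g).hom.toAlgebra
  haveI : IsLocalization.AtPrime B P.asIdeal :=
    IsLocalization.isLocalization_of_algEquiv P.asIdeal.primeCompl
      ({ (asIso g).symm.commRingCatIsoToRingEquiv with commutes' := fun _ => rfl } :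
        (Spec S).presheaf.stalk P ≃ₐ[S] B)
  refine core' F x (Curv2.bcFst k X K (t P)) hyx B ((Curv2.bcFst k X K).stalkMap (t P)) P ?_ ?_
  · rw [Scheme.SpecMap_stalkMap_fromSpecStalk]
    rw [← cancel_epi (Spec.map g), Scheme.SpecMap_stalkMap_fromSpecStalk_assoc, GeomReg18.toBc_fst,
      Spec.fromSpecStalk_eq', ← Spec.map_comp_assoc, ← Spec.map_comp_assoc]
    congr 2
    ext r
    change ts _ = g (inv g (ts _))
    rw [← CategoryTheory.comp_apply, IsIso.inv_hom_id]
    rfl
  · obtain ⟨m, hm⟩ := hy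
    letI : Algebra (X.presheaf.stalk (Curv2.bcFst k X K (t P))) B := ((Curv2.bcFst k X K).stalkMap (t P)).hom.toAlgebra
    refine ⟨(M2.pullStalkEquiv (Curv2.bcFst k X K) (t P) F).symm m, Eq.trans (congrArg Ideal.radical ?_) hm⟩
    ext b
    rw [LinearMap.mem_ker, LinearMap.toSpanSingleton_apply, ← map_smul, LinearEquiv.map_eq_zero_iff]
    exact (LinearMap.mem_ker.trans (by rw [LinearMap.toSpanSingleton_apply])).symm

end Groth.Agent.S8900
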