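import Groth.Statements.S8901
import Groth.Agent.Lib.WeakAss18.Basic
-- import your own Groth.Agent.* helpers here

set_option autoImplicit false
universe u
open CategoryTheory CategoryTheory.Limits AlgebraicGeometry TopologicalSpace
open SDiv

namespace Groth.Agent.S8901

/-- Let f : X ⟶ Y be a morphism of schemes under which each weakly associated point of X (of O_X) goes
to a point of Y with no proper generization (the generic point of some irreducible component of Y).
Then pullbacks of meromorphic functions are defined for f: for every open U ⊆ Y and every regular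
section s of O_Y over U, the pulled-back section of O_X over f⁻¹U is regular. -/
theorem result {X Y : Scheme.{u}} (f : X ⟶ Y)
    (h : ∀ x : ↥X, Curv2.IsWeakAssPoint (Coh.structureModule X) x → ∀ y : ↥Y, y ⤳ f x → y = f x)
    (U : Y.Opens) (s : Γ(Y, U)) (hs : s ∈ Mero.regSub Y U) : f.app U s ∈ Mero.regSub X (f ⁻¹ᵁ U) := by
  intro x
  obtain ⟨W, hW, hxW, hWU'⟩ := exists_isAffineOpen_mem_and_subset (U := f ⁻¹ᵁ U) x.2
  have hWU : W ≤ f ⁻¹ᵁ U := hWU'
  have key := Groth.Agent.WA.germ_mem_nonZeroDivisors hW hxW (X.presheaf.map (homOfLE hWU).op (f.app U s)) fun y hy _ hwa => by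
    rw [TopCat.Presheaf.germ_res_apply, ← Scheme.Hom.germ_stalkMap_apply f U y (hWU hy)]
    refine IsUnit.map _ ?_
    by_contra hu
    have hsub : Subsingleton (PrimeSpectrum (Y.presheaf.stalk (f y))) := ⟨fun p q => by
      have hp : ∀ p : PrimeSpectrum (Y.presheaf.stalk (f y)), Y.fromSpecStalk (f y) p = f y := fun p =>
        h y hwa _ (Scheme.range_fromSpecStalk.le ⟨p, rfl⟩)
      exact (Y.fromSpecStalk (f y)).isEmbedding.injective ((hp p).trans (hp q).symm)⟩
    have hnil : IsNilpotent (Y.presheaf.germ U (f y) (hWU hy) s) := by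
      rw [← mem_nilradical, nilradical_eq_sInf, Ideal.mem_sInf]
      intro J hJ
      have e := congrArg PrimeSpectrum.asIdeal (hsub.elim ⟨J, hJ⟩ (IsLocalRing.closedPoint _))
      change _ ∈ (PrimeSpectrum.mk J hJ).asIdeal
      rw [e]
      exact (IsLocalRing.mem_maximalIdeal _).mpr hu
    obtain ⟨n, hn⟩ := hnil
    exact zero_notMem_nonZeroDivisors (hn ▸ pow_mem (hs ⟨f y, hWU hy⟩) n)
  rwa [TopCat.Presheaf.germ_res_apply] at key

end Groth.Agent.S8901
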