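import Groth.Statements.S8902
import Mathlib
-- import your own Groth.Agent.* helpers here

set_option autoImplicit false
universe u
open CategoryTheory CategoryTheory.Limits AlgebraicGeometry TopologicalSpace
open SDiv

namespace Groth.Agent.S8902

/-- Let f : X ⟶ Y be a flat morphism of schemes. Then pullbacks of meromorphic functions are defined for
f: for every open U ⊆ Y and every regular section s of O_Y over U, the pulled-back section of O_X
over f⁻¹U is regular. -/
theorem result {X Y : Scheme.{u}} (f : X ⟶ Y) [Flat f] (U : Y.Opens) (s : Γ(Y, U))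
    (hs : s ∈ Mero.regSub Y U) : f.app U s ∈ Mero.regSub X (f ⁻¹ᵁ U) := by
  intro x
  have h : (Y.presheaf.germ U (f x.1) x.2).hom s ∈ nonZeroDivisors (Y.presheaf.stalk (f x.1)) := hs ⟨f x.1, x.2⟩
  show (X.presheaf.germ (f ⁻¹ᵁ U) x.1 x.2).hom (f.app U s) ∈ nonZeroDivisors _
  rw [← Scheme.Hom.germ_stalkMap_apply f U x.1 x.2 s]
  letI := (f.stalkMap x.1).hom.toAlgebra
  haveI : Module.Flat (Y.presheaf.stalk (f x.1)) (X.presheaf.stalk x.1) := (Flat.iff_flat_stalkMap f).1 inferInstance x.1
  set r := (Y.presheaf.germ U (f x.1) x.2).hom s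
  have hr : IsSMulRegular (Y.presheaf.stalk (f x.1)) r := fun a b hab => by
    have : (a - b) * r = 0 := by rw [mul_comm, mul_sub, sub_eq_zero]; exact hab
    exact sub_eq_zero.1 (mul_right_mem_nonZeroDivisors_eq_zero_iff h |>.1 this)
  have h2 := hr.of_flat (S := X.presheaf.stalk x.1)
  rw [mem_nonZeroDivisors_iff_right]
  intro z hz
  apply h2
  show r • z = r • 0
  rw [smul_zero, Algebra.smul_def, mul_comm]
  exact hz

end Groth.Agent.S8902
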