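import Groth.Statements.S8903
import Groth.Agent.Lib.MeroLib.Existence

set_option autoImplicit false
universe u
open CategoryTheory CategoryTheory.Limits AlgebraicGeometry TopologicalSpace
open SDiv

namespace Groth.Agent.S8903

/-- Suppose X is a scheme, L is an O_X-module that is invertible, and s is a meromorphic section of L
which is regular. Then the ideal of denominators of s, U ↦ {f ∈ O_X(U) | f·s ∈ L(U)}, is a
quasi-coherent ideal sheaf: there is a quasi-coherent ideal sheaf I whose ideal on every affine open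
U is the ideal of denominators over U; and the closed subset of X cut out by I (the support of
O_X/I) is nowhere dense. The published statement also asserts that the cokernel of the map I → L
given by s is supported on a closed nowhere dense subset; this row does not state that part. -/
theorem result (X : Scheme.{u}) (L : X.Modules) (hL : PicF.IsInvertible L)
    (s : Γ(Mero.merMod L, ⊤)) (hs : Mero.IsRegularMero L s) :
    ∃ I : X.IdealSheafData, (∀ U : X.affineOpens, I.ideal U = Mero.denomIdeal L s U.1) ∧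
      interior (I.support : Set ↥X) = ∅ := by
  classical
  obtain ⟨S⟩ := Groth.Agent.MeroLib.regSec_of_regularMero hL s hs
  have hσ : ∀ x : X, s.1 ⟨x, Opens.mem_top x⟩ = s.1 ⟨x, Opens.mem_top x⟩ := fun _ => rfl
  have hch : ∀ x : X, ∃ (U : X.Opens) (_ : x ∈ U) (e : Γ(L, U)) (g : (Γ(Mero.kmod X, U))ˣ),
      Groth.Agent.M2.IsGenerator e ∧ ∀ y : U, s.1 ⟨y.1, Opens.mem_top y.1⟩ =
        (Groth.Agent.MeroLib.unitAt g y : Mero.KStalk X y.1) • Groth.Agent.MeroLib.inK (L.presheaf.germ U y.1 y.2 e) := by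
    intro x
    obtain ⟨W, hxW, i, m, b, hmb⟩ := s.2 ⟨x, Opens.mem_top x⟩
    obtain ⟨U, hxU, hUW, hU, e, he⟩ := Groth.Agent.MeroLib.exists_affine_gen hL hxW
    obtain ⟨a, ha⟩ := Groth.Agent.MeroLib.smul_eq_of_isUnit (Groth.Agent.M1.mres L hUW m) e he
    have hmk : ∀ y : U, s.1 ⟨y.1, Opens.mem_top y.1⟩ =
        (LocalizedModule.mk (X.presheaf.germ U y.1 y.2 a) (Mero.regGerm ⟨y.1, hUW y.2⟩ b) : Mero.KStalk X y.1) •
          Groth.Agent.MeroLib.inK (L.presheaf.germ U y.1 y.2 e) := fun y => by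
      refine (hmb ⟨y.1, hUW y.2⟩).trans ?_
      rw [Groth.Agent.MeroLib.inK, LocalizedModule.mkLinearMap_apply]
      refine (Mero.mk_congr ?_ (by rw [mul_one])).trans (LocalizedModule.mk_smul_mk _ _ _ _).symm
      rw [← ha y.1 y.2, Groth.Agent.M1.germ_mres L hUW y.2]
    have hareg : a ∈ Mero.regSub X U := fun y => mem_nonZeroDivisors_iff_right.2 fun z hz => by
      refine Mero.algebraMap_KStalk_injective y.1 ?_
      rw [map_zero]
      refine hs y.1 _ ?_
      rw [hmk y, ← mul_smul]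
      have : algebraMap (X.presheaf.stalk y.1) (Mero.KStalk X y.1) z *
          (LocalizedModule.mk (X.presheaf.germ U y.1 y.2 a) (Mero.regGerm ⟨y.1, hUW y.2⟩ b) : Mero.KStalk X y.1) = 0 := by
        change (LocalizedModule.mk z 1 : Mero.KStalk X y.1) * LocalizedModule.mk _ _ = 0
        refine LocalizedModule.mk_mul_mk.trans ?_
        rw [hz, LocalizedModule.zero_mk]
      rw [this, zero_smul]
    let b' : Γ(X, U) := X.presheaf.map (homOfLE hUW).op b.1
    have hb' : b' ∈ Mero.regSub X U := Mero.regSub_res (homOfLE hUW) b.2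
    refine ⟨U, hxU, e, Groth.Agent.MeroLib.regU a hareg * (Groth.Agent.MeroLib.regU b' hb')⁻¹, he, fun y => ?_⟩
    rw [hmk y]
    congr 1
    rw [Groth.Agent.MeroLib.unitAt, map_mul, map_inv, Units.val_mul, Units.eq_mul_inv_iff_mul_eq]
    exact (congrArg (LocalizedModule.mk (X.presheaf.germ U y.1 y.2 a) (Mero.regGerm ⟨y.1, hUW y.2⟩ b) * ·)
      (congrArg (algebraMap _ (Mero.KStalk X y.1)) (TopCat.Presheaf.germ_res_apply X.presheaf (homOfLE hUW) y.1 y.2 b.1))).trans
      (Groth.Agent.WA.mk_eq_div (X.presheaf.germ U y.1 y.2 a) (Mero.regGerm ⟨y.1, hUW y.2⟩ b))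
  choose Uc hxUc ec gc hec hgc using hch
  -- pointwise criterion
  let Good : ∀ (y : X), X.presheaf.stalk y → Prop := fun y c =>
    algebraMap _ (Mero.KStalk X y) c • s.1 ⟨y, Opens.mem_top y⟩ ∈
      Set.range (Groth.Agent.MeroLib.inK (L := L) (x := y))
  have hGood : ∀ (x y : X) (hy : y ∈ Uc x) (c : X.presheaf.stalk y), Good y c ↔
      algebraMap _ (Mero.KStalk X y) c * Groth.Agent.MeroLib.unitAt (gc x) ⟨y, hy⟩ ∈
        (algebraMap (X.presheaf.stalk y) (Mero.KStalk X y)).range := by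
    intro x y hy c
    constructor
    · rintro ⟨t, ht⟩
      obtain ⟨d, rfl⟩ := Groth.Agent.MeroLib.exists_smul_germ (ec x) (hec x) hy t
      rw [hgc x ⟨y, hy⟩, ← mul_smul, Groth.Agent.MeroLib.inK_smul] at ht
      refine ⟨d, sub_eq_zero.1 (Groth.Agent.MeroLib.smul_inK_cancel (ec x) (hec x) hy _ ?_)⟩
      rw [sub_smul, ht, sub_self]
    · rintro ⟨d, hd⟩
      refine ⟨d • L.presheaf.germ (Uc x) y hy (ec x), ?_⟩
      rw [hgc x ⟨y, hy⟩, ← mul_smul, Groth.Agent.MeroLib.inK_smul, hd]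
  have hmem : ∀ (U : X.Opens) (f : Γ(X, U)), f ∈ Mero.denomIdeal L s U ↔
      ∀ y : U, Good y.1 (X.presheaf.germ U y.1 y.2 f) := by
    intro U f
    constructor
    · rintro ⟨m, hm⟩ y
      refine ⟨L.presheaf.germ U y.1 y.2 m, ?_⟩
      rw [algebraMap_smul]
      exact (hm y).symm
    · intro h
      have hloc : ∀ x : U, ∃ (V : X.Opens) (_ : x.1 ∈ V) (_ : V ≤ U) (m : Γ(L, V)),
          ∀ (y : X) (hy : y ∈ V) (hyU : y ∈ U), X.presheaf.germ U y hyU f • s.1 ⟨y, Opens.mem_top y⟩ =
            Groth.Agent.MeroLib.inK (L.presheaf.germ V y hy m) := by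
        intro x
        let T : Γ(Mero.kmod X, U ⊓ Uc x.1) := Mero.toK X _ (X.presheaf.map (homOfLE inf_le_left).op f) *
          (Mero.kmod X).presheaf.map (homOfLE inf_le_right).op (gc x.1 : Γ(Mero.kmod X, Uc x.1))
        obtain ⟨r, hr⟩ := Groth.Agent.MeroLib.exists_section T fun y => by
          change (Mero.toK X _ (X.presheaf.map (homOfLE inf_le_left).op f)).1 y *
            (Groth.Agent.MeroLib.unitAt (gc x.1) ⟨y.1, y.2.2⟩ : Mero.KStalk X y.1) ∈ _
          rw [Groth.Agent.MeroLib.toK_val, TopCat.Presheaf.germ_res_apply]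
          exact (hGood x.1 y.1 y.2.2 _).1 (h ⟨y.1, y.2.1⟩)
        refine ⟨U ⊓ Uc x.1, ⟨x.2, hxUc x.1⟩, inf_le_left, r • Groth.Agent.M1.mres L inf_le_right (ec x.1),
          fun y hy hyU => ?_⟩
        have h1 := congrFun (congrArg Subtype.val hr) ⟨y, hy⟩
        change (Mero.toK X _ r).1 ⟨y, hy⟩ = (Mero.toK X _ (X.presheaf.map (homOfLE inf_le_left).op f)).1 ⟨y, hy⟩ *
          (Groth.Agent.MeroLib.unitAt (gc x.1) ⟨y, hy.2⟩ : Mero.KStalk X y) at h1
        rw [Groth.Agent.MeroLib.toK_val, Groth.Agent.MeroLib.toK_val, TopCat.Presheaf.germ_res_apply] at h1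
        rw [Groth.Agent.M1.germ_smul, Groth.Agent.M1.germ_mres L (inf_le_right : U ⊓ Uc x.1 ≤ Uc x.1) hy,
          Groth.Agent.MeroLib.inK_smul, h1, ← algebraMap_smul (Mero.KStalk X y) (X.presheaf.germ U y hyU f),
          hgc x.1 ⟨y, hy.2⟩, mul_smul]
      choose V hxV hVU m hm using hloc
      have hcomp : TopCat.Presheaf.IsCompatible L.presheaf V m := fun x x' => by
        refine Groth.Agent.M1.section_ext _ _ fun z hz => ?_
        change L.presheaf.germ _ z hz (L.presheaf.map _ (m x)) = L.presheaf.germ _ z hz (L.presheaf.map _ (m x'))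
        rw [TopCat.Presheaf.germ_res_apply, TopCat.Presheaf.germ_res_apply]
        refine sub_eq_zero.1 (Groth.Agent.MeroLib.inK_injective (ec z) (hec z) (hxUc z) _ ?_)
        rw [map_sub, ← hm x z hz.1 (hVU x hz.1), ← hm x' z hz.2 (hVU x' hz.2), sub_self]
      let F : TopCat.Sheaf AddCommGrpCat X.carrier := ⟨L.presheaf, L.isSheaf⟩
      obtain ⟨t, ht, -⟩ := F.existsUnique_gluing' V U (fun x => homOfLE (hVU x))
        (fun z hz => Opens.mem_iSup.mpr ⟨⟨z, hz⟩, hxV ⟨z, hz⟩⟩) m hcomp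
      refine ⟨t, fun y => ?_⟩
      refine (hm y y.1 (hxV y) y.2).trans ?_
      rw [← ht y]
      exact congrArg (Groth.Agent.MeroLib.inK (L := L)) (TopCat.Presheaf.germ_res_apply L.presheaf _ _ _ _)
  have hmap : ∀ (U : X.affineOpens) (g : Γ(X, U.1)),
      (Mero.denomIdeal L s U.1).map (X.presheaf.map (homOfLE (X.basicOpen_le g)).op).hom =
        Mero.denomIdeal L s (X.basicOpen g) := by
    intro U g
    have hgu : IsUnit (X.presheaf.map (homOfLE (X.basicOpen_le g)).op g) := X.toRingedSpace.isUnit_res_basicOpen g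
    refine le_antisymm (Ideal.map_le_iff_le_comap.2 fun f hf => (hmem _ _).2 fun y => ?_) fun f hf => ?_
    · rw [TopCat.Presheaf.germ_res_apply]
      exact (hmem _ _).1 hf ⟨y.1, X.basicOpen_le g y.2⟩
    · haveI := U.2.isLocalization_basicOpen g
      obtain ⟨⟨f', gm⟩, hfg⟩ := IsLocalization.surj (Submonoid.powers g) f
      have hf' : ∀ y : X.basicOpen g, Good y.1 (X.presheaf.germ U.1 y.1 (X.basicOpen_le g y.2) f') := by
        intro y
        have h1 := (hmem _ _).1 ((Mero.denomIdeal L s (X.basicOpen g)).mul_mem_right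
          (X.presheaf.map (homOfLE (X.basicOpen_le g)).op gm.1) hf) y
        have h2 : f * X.presheaf.map (homOfLE (X.basicOpen_le g)).op gm.1 =
            X.presheaf.map (homOfLE (X.basicOpen_le g)).op f' := hfg
        rw [h2, TopCat.Presheaf.germ_res_apply] at h1
        exact h1
      have hloc : ∀ x : U.1, ∃ (W : X.Opens) (_ : x.1 ∈ W) (n : ℕ), ∀ (y : X) (_ : y ∈ W) (hyU : y ∈ U.1),
          Good y (X.presheaf.germ U.1 y hyU (g ^ n * f')) := by
        intro x
        obtain ⟨W₀, hxW₀, i, a, b, hab⟩ := (gc x.1 : Γ(Mero.kmod X, Uc x.1)).2 ⟨x.1, hxUc x.1⟩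
        obtain ⟨W, hW, hxW, hWle'⟩ := AlgebraicGeometry.exists_isAffineOpen_mem_and_subset (U := W₀ ⊓ U.1) (x := x.1) ⟨hxW₀, x.2⟩
        have hWle : W ≤ W₀ ⊓ U.1 := hWle'
        have hWU : W ≤ U.1 := hWle.trans inf_le_right
        have hW0 : W ≤ W₀ := hWle.trans inf_le_left
        have hgv : ∀ (y : X) (hy : y ∈ W), (Groth.Agent.MeroLib.unitAt (gc x.1) ⟨y, i.le (hW0 hy)⟩ : Mero.KStalk X y) *
            algebraMap _ _ (X.presheaf.germ W₀ y (hW0 hy) b.1) = algebraMap _ _ (X.presheaf.germ W₀ y (hW0 hy) a) := by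
          intro y hy
          rw [show (Groth.Agent.MeroLib.unitAt (gc x.1) ⟨y, i.le (hW0 hy)⟩ : Mero.KStalk X y) =
            LocalizedModule.mk (X.presheaf.germ W₀ y (hW0 hy) a) (Mero.regGerm ⟨y, hW0 hy⟩ b) from hab ⟨y, hW0 hy⟩]
          exact Groth.Agent.WA.mk_eq_div (X.presheaf.germ W₀ y (hW0 hy) a) (Mero.regGerm ⟨y, hW0 hy⟩ b)
        let gW : Γ(X, W) := X.presheaf.map (homOfLE hWU).op g
        have hWg : X.basicOpen gW ≤ X.basicOpen g := by
          intro y hy
          have hyW := X.basicOpen_le gW hy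
          rw [X.mem_basicOpen g y (hWU hyW), ← X.presheaf.germ_res_apply (homOfLE hWU) y hyW g]
          exact (X.mem_basicOpen gW y hyW).1 hy
        -- the quotient on the basic open
        have hdiv : ∀ (y : X) (hy : y ∈ X.basicOpen gW), ∃ d, X.presheaf.germ W₀ y (hW0 (X.basicOpen_le gW hy)) b.1 * d =
            X.presheaf.germ U.1 y (hWU (X.basicOpen_le gW hy)) f' * X.presheaf.germ W₀ y (hW0 (X.basicOpen_le gW hy)) a := by
          intro y hy
          have hyW := X.basicOpen_le gW hy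
          obtain ⟨d, hd⟩ := (hGood x.1 y (i.le (hW0 hyW)) _).1 (hf' ⟨y, hWg hy⟩)
          refine ⟨d, Mero.algebraMap_KStalk_injective y ?_⟩
          rw [map_mul, map_mul, hd, ← hgv y hyW]
          ring
        let T : Γ(Mero.kmod X, X.basicOpen gW) :=
          Mero.toK X _ (X.presheaf.map (homOfLE ((X.basicOpen_le gW).trans hWU)).op f') *
            (Mero.kmod X).presheaf.map (homOfLE (((X.basicOpen_le gW).trans hW0).trans i.le)).op
              (gc x.1 : Γ(Mero.kmod X, Uc x.1))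
        obtain ⟨d, hd⟩ := Groth.Agent.MeroLib.exists_section T fun y => by
          change (Mero.toK X _ (X.presheaf.map (homOfLE ((X.basicOpen_le gW).trans hWU)).op f')).1 y *
            (Groth.Agent.MeroLib.unitAt (gc x.1) ⟨y.1, i.le (hW0 (X.basicOpen_le gW y.2))⟩ : Mero.KStalk X y.1) ∈ _
          rw [Groth.Agent.MeroLib.toK_val, TopCat.Presheaf.germ_res_apply]
          exact (hGood x.1 y.1 (i.le (hW0 (X.basicOpen_le gW y.2))) _).1 (hf' ⟨y.1, hWg y.2⟩)
        haveI := hW.isLocalization_basicOpen gW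
        obtain ⟨⟨c, gl⟩, hc⟩ := IsLocalization.surj (Submonoid.powers gW) d
        obtain ⟨l, hl⟩ := gl.2
        let bW : Γ(X, W) := X.presheaf.map (homOfLE hW0).op b.1
        let aW : Γ(X, W) := X.presheaf.map (homOfLE hW0).op a
        let fW : Γ(X, W) := X.presheaf.map (homOfLE hWU).op f'
        have hz : algebraMap Γ(X, W) Γ(X, X.basicOpen gW) (bW * c - gW ^ l * (fW * aW)) = 0 := by
          refine TopCat.Presheaf.section_ext X.sheaf _ _ 0 fun y hy => ?_
          change X.presheaf.germ _ y hy (X.presheaf.map _ _) = X.presheaf.germ _ y hy 0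
          have hyW := X.basicOpen_le gW hy
          have h1 := congrFun (congrArg Subtype.val hd) ⟨y, hy⟩
          change (Mero.toK X _ d).1 ⟨y, hy⟩ =
            (Mero.toK X _ (X.presheaf.map (homOfLE ((X.basicOpen_le gW).trans hWU)).op f')).1 ⟨y, hy⟩ *
            (Groth.Agent.MeroLib.unitAt (gc x.1) ⟨y, i.le (hW0 hyW)⟩ : Mero.KStalk X y) at h1
          rw [Groth.Agent.MeroLib.toK_val, Groth.Agent.MeroLib.toK_val, TopCat.Presheaf.germ_res_apply] at h1
          have h2 : X.presheaf.germ W₀ y (hW0 hyW) b.1 * X.presheaf.germ (X.basicOpen gW) y hy d =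
              X.presheaf.germ U.1 y (hWU hyW) f' * X.presheaf.germ W₀ y (hW0 hyW) a := by
            refine Mero.algebraMap_KStalk_injective y ?_
            rw [map_mul, map_mul, h1, ← hgv y hyW]
            ring
          have h3 := congrArg (X.presheaf.germ (X.basicOpen gW) y hy) hc
          rw [map_mul] at h3
          erw [TopCat.Presheaf.germ_res_apply, TopCat.Presheaf.germ_res_apply] at h3
          rw [← show gW ^ l = gl.1 from hl] at h3
          erw [TopCat.Presheaf.germ_res_apply]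
          simp only [bW, aW, fW, map_zero, map_sub, map_mul, TopCat.Presheaf.germ_res_apply]
          linear_combination (X.presheaf.germ W y hyW (gW ^ l)) * h2 - (X.presheaf.germ W₀ y (hW0 hyW) b.1) * h3
        obtain ⟨⟨_, n, rfl⟩, hn⟩ := (IsLocalization.map_eq_zero_iff (Submonoid.powers gW) _ _).1 hz
        refine ⟨W, hxW, n + l, fun y hy hyU => (hGood x.1 y (i.le (hW0 hy)) _).2
          ⟨X.presheaf.germ U.1 y hyU g ^ n * X.presheaf.germ W y hy c, ?_⟩⟩
        have h4 := congrArg (X.presheaf.germ W y hy) hn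
        simp only [bW, aW, fW, gW, map_zero, map_sub, map_mul, map_pow, TopCat.Presheaf.germ_res_apply] at h4
        have h5 : X.presheaf.germ U.1 y hyU g ^ n * X.presheaf.germ W y hy c * X.presheaf.germ W₀ y (hW0 hy) b.1 =
            X.presheaf.germ U.1 y hyU (g ^ (n + l) * f') * X.presheaf.germ W₀ y (hW0 hy) a := by
          rw [map_mul, map_pow, pow_add]
          linear_combination h4
        refine (IsLocalization.map_units (Mero.KStalk X y) (Mero.regGerm ⟨y, hW0 hy⟩ b)).mul_right_cancel ?_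
        rw [mul_assoc, hgv y hy]
        exact (map_mul _ _ _).symm.trans ((congrArg _ h5).trans (map_mul _ _ _))
      choose W hxW n hn using hloc
      obtain ⟨T, hT⟩ := U.2.isCompact.elim_finite_subcover (fun x : U.1 => (W x : Set X)) (fun x => (W x).isOpen)
        (fun y hy => Set.mem_iUnion.mpr ⟨⟨y, hy⟩, hxW ⟨y, hy⟩⟩)
      have hN : g ^ T.sup n * f' ∈ Mero.denomIdeal L s U.1 := (hmem _ _).2 fun y => by
        obtain ⟨x, hxT, hyx⟩ := Set.mem_iUnion₂.mp (hT y.2)
        obtain ⟨d, hd⟩ := Nat.exists_eq_add_of_le' (Finset.le_sup (f := n) hxT)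
        have h1 := (hGood (y.1) y.1 (hxUc y.1) _).1 (hn x y.1 hyx y.2)
        refine (hGood y.1 y.1 (hxUc y.1) _).2 ?_
        rw [hd, pow_add, mul_assoc, map_mul, map_mul, mul_assoc]
        exact mul_mem ⟨_, rfl⟩ h1
      obtain ⟨k, hk⟩ := gm.2
      obtain ⟨w, hw⟩ := (hgu.pow (T.sup n + k)).exists_left_inv
      have h3 : f = X.presheaf.map (homOfLE (X.basicOpen_le g)).op (g ^ T.sup n * f') * w := by
        have h2 : f * X.presheaf.map (homOfLE (X.basicOpen_le g)).op (g ^ k) =
            X.presheaf.map (homOfLE (X.basicOpen_le g)).op f' := (show g ^ k = gm.1 from hk) ▸ hfg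
        rw [map_pow] at h2
        rw [map_mul, map_pow, ← h2]
        rw [pow_add] at hw
        linear_combination -f * hw
      rw [h3]
      exact Ideal.mul_mem_right _ _ (Ideal.mem_map_of_mem _ hN)
  let I : X.IdealSheafData :=
    { ideal := fun U => Mero.denomIdeal L s U.1
      map_ideal_basicOpen := hmap }
  refine ⟨I, fun U => rfl, Set.eq_empty_of_forall_notMem fun x hx => ?_⟩
  obtain ⟨W₀, hxW₀, i, a, b, hab⟩ := (gc x : Γ(Mero.kmod X, Uc x)).2 ⟨x, hxUc x⟩
  obtain ⟨W, hW, hxW, hWle'⟩ := AlgebraicGeometry.exists_isAffineOpen_mem_and_subset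
    (U := W₀ ⊓ ⟨interior (I.support : Set X), isOpen_interior⟩) (x := x) ⟨hxW₀, hx⟩
  have hWle : W ≤ W₀ ⊓ ⟨interior (I.support : Set X), isOpen_interior⟩ := hWle'
  have hW0 : W ≤ W₀ := hWle.trans inf_le_left
  let bW : Γ(X, W) := X.presheaf.map (homOfLE hW0).op b.1
  have hbI : bW ∈ I.ideal ⟨W, hW⟩ := (hmem _ _).2 fun y => by
    refine (hGood x y.1 (i.le (hW0 y.2)) _).2 ⟨X.presheaf.germ W₀ y.1 (hW0 y.2) a, ?_⟩
    rw [TopCat.Presheaf.germ_res_apply, mul_comm,
      show (Groth.Agent.MeroLib.unitAt (gc x) ⟨y.1, i.le (hW0 y.2)⟩ : Mero.KStalk X y.1) =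
        LocalizedModule.mk (X.presheaf.germ W₀ y.1 (hW0 y.2) a) (Mero.regGerm ⟨y.1, hW0 y.2⟩ b) from hab ⟨y.1, hW0 y.2⟩]
    exact (Groth.Agent.WA.mk_eq_div (X.presheaf.germ W₀ y.1 (hW0 y.2) a) (Mero.regGerm ⟨y.1, hW0 y.2⟩ b)).symm
  have hbot : X.basicOpen bW = ⊥ := by
    ext y
    simp only [SetLike.mem_coe]
    constructor
    · intro hy
      have hyW := X.basicOpen_le bW hy
      have h1 : y ∈ I.support := interior_subset ((hWle hyW).2)
      rw [Scheme.IdealSheafData.mem_support_iff_of_mem (U := ⟨W, hW⟩) hyW] at h1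
      exact (((Scheme.mem_zeroLocus_iff X (U := W) _ y).1 h1) bW hbI hy).elim
    · intro hy
      exact hy.elim
  haveI := hW.isLocalization_basicOpen bW
  have h1 : algebraMap Γ(X, W) Γ(X, X.basicOpen bW) 1 = 0 := by
    refine TopCat.Presheaf.section_ext X.sheaf _ _ 0 fun y hy => ?_
    exact ((hbot ▸ hy : y ∈ (⊥ : X.Opens))).elim
  obtain ⟨⟨_, n, rfl⟩, hn⟩ := (IsLocalization.map_eq_zero_iff (Submonoid.powers bW) _ _).1 h1
  have h2 := congrArg (X.presheaf.germ W x hxW) hn
  simp only [bW, map_mul, map_pow, map_one, map_zero, mul_one, TopCat.Presheaf.germ_res_apply] at h2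
  exact nonZeroDivisors.ne_zero (pow_mem (b.2 ⟨x, hxW₀⟩) n) h2

end Groth.Agent.S8903
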