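import Groth.Statements.S8908
import Groth.Agent.Lib.Vol26.Graph
import Groth.Agent.Lib.AssPts11.Primary
import Groth.Agent.Lib.WeakAss18.Iso
import Groth.Agent.Lib.RefHull26.DepthExt

set_option autoImplicit false
set_option maxHeartbeats 800000
universe u
open CategoryTheory CategoryTheory.Limits AlgebraicGeometry TopologicalSpace
open SDiv

set_option backward.isDefEq.respectTransparency false
set_option backward.isDefEq.respectTransparency.types false

namespace Groth.Agent.S8908

open CurveCoh17 (stalkLin)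

variable {X : Scheme.{u}}

theorem isWeakAssPoint_of_injective {A B : X.Modules} (i : A ⟶ B) {x : X}
    (hi : Function.Injective (stalkLin i x)) (h : Curv2.IsWeakAssPoint A x) : Curv2.IsWeakAssPoint B x := by
  obtain ⟨m, hm⟩ := h
  refine ⟨stalkLin i x m, Eq.trans (congrArg Ideal.radical ?_) hm⟩
  ext r
  rw [LinearMap.mem_ker, LinearMap.mem_ker, LinearMap.toSpanSingleton_apply, LinearMap.toSpanSingleton_apply,
    ← map_smul, map_eq_zero_iff _ hi]

theorem mem_support_iff {M : X.Modules} {x : X} :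
    x ∈ CohB1.support M ↔ Nontrivial (M.presheaf.stalk x) :=
  not_subsingleton_iff_nontrivial

/-- A closed set has a maximal point above each of its points. -/
theorem exists_maximal {Sp : Set X} (hSp : IsClosed Sp) {y : X} (hy : y ∈ Sp) :
    ∃ η ∈ Sp, η ⤳ y ∧ ∀ z ∈ Sp, z ⤳ η → z = η := by
  haveI : QuasiSober Sp := hSp.isClosedEmbedding_subtypeVal.quasiSober
  obtain ⟨η, hη⟩ := QuasiSober.sober (irreducibleComponent_mem_irreducibleComponents (⟨y, hy⟩ : Sp)).1
    isClosed_irreducibleComponent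
  refine ⟨η, η.2, (subtype_specializes_iff η ⟨y, hy⟩).1
    (specializes_iff_mem_closure.2 ((hη : closure {η} = _).symm ▸ mem_irreducibleComponent)), fun z hz hzη => ?_⟩
  have h' : (⟨z, hz⟩ : Sp) ⤳ η := (subtype_specializes_iff _ _).2 hzη
  have hle : irreducibleComponent (⟨y, hy⟩ : Sp) ≤ closure {(⟨z, hz⟩ : Sp)} :=
    (hη : closure {η} = _) ▸ specializes_iff_closure_subset.1 h'
  have heq := (irreducibleComponent_mem_irreducibleComponents (⟨y, hy⟩ : Sp)).2
    isIrreducible_singleton.closure hle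
  exact congrArg Subtype.val (Specializes.antisymm h'
    (specializes_iff_closure_subset.2 ((hη : closure {η} = _).symm ▸ heq))).eq

/-- Closures of sets of associated points are controlled by specialization. -/
theorem exists_of_mem_closure [IsLocallyNoetherian X] {F : X.Modules} (hF : Coh.IsCoh F) {S : Set X}
    (hS : ∀ s ∈ S, Curv2.IsWeakAssPoint F s) {p : X} (hp : p ∈ closure S) : ∃ s ∈ S, s ⤳ p := by
  obtain ⟨W, hW, hpW, -⟩ := exists_isAffineOpen_mem_and_subset (U := (⊤ : X.Opens)) (x := p) trivial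
  have hfin : ({s | s ∈ S ∧ s ∈ W} : Set X).Finite :=
    (WA.finite_weakAss_affine hF.1 hF.2 hW).subset fun s hs => ⟨hs.2, hS s hs.1⟩
  by_contra hne
  push Not at hne
  let C : Set X := ⋃ s ∈ {s | s ∈ S ∧ s ∈ W}, closure ({s} : Set X)
  have hC : IsClosed C := hfin.isClosed_biUnion fun _ _ => isClosed_closure
  have hpC : p ∉ C := fun h => by
    obtain ⟨s, hs, hc⟩ := Set.mem_iUnion₂.1 h
    exact hne s hs.1 (specializes_iff_mem_closure.2 hc)
  obtain ⟨s, hs, hsS⟩ := mem_closure_iff.1 hp ((W : Set X) ∩ Cᶜ) (W.isOpen.inter hC.isOpen_compl) ⟨hpW, hpC⟩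
  exact hs.2 (Set.mem_iUnion₂.2 ⟨s, ⟨hsS, hs.1⟩, subset_closure rfl⟩)

theorem isIso_restrict (V : X.Opens) {A B : X.Modules} (f : A ⟶ B)
    (h : ∀ x ∈ V, Function.Bijective (stalkLin f x)) :
    IsIso ((Scheme.Modules.restrictFunctor V.ι).map f) := by
  refine (M1.isIso_iff_stalk _).2 fun z => ?_
  haveI : IsIso ((TopCat.Presheaf.stalkFunctor AddCommGrpCat.{u} (V.ι z)).map f.mapPresheaf) :=
    (ConcreteCategory.isIso_iff_bijective _).2 (h (V.ι z) z.2)
  have : IsIso ((Scheme.Modules.restrictFunctor V.ι ⋙ Scheme.Modules.toPresheaf _ ⋙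
      TopCat.Presheaf.stalkFunctor AddCommGrpCat.{u} z).map f) := by
    refine (NatIso.isIso_map_iff (Scheme.Modules.restrictStalkNatIso V.ι z) _).2 ?_
    assumption
  exact (ConcreteCategory.isIso_iff_bijective _).1 this

theorem restrict_eq_zero (V : X.Opens) {A B : X.Modules} (f : A ⟶ B)
    (h : ∀ x ∈ V, Subsingleton (A.presheaf.stalk x)) :
    (Scheme.Modules.restrictFunctor V.ι).map f = 0 := by
  refine Scheme.Modules.hom_ext _ _ fun W => ?_
  ext s
  have hs : s = 0 := M1.section_ext (M := A.restrict V.ι) (U := W) s 0 fun z _ => by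
    obtain ⟨e, -⟩ := RH26.exists_restrict_stalk_equiv A V z
    haveI := h z.1 z.2
    haveI := e.injective.subsingleton
    exact Subsingleton.elim _ _
  rw [hs, map_zero, map_zero]

/-- Let X be a locally Noetherian scheme and F a coherent O_X-module. The coherent subsheaves K ⊆ F
whose support is nowhere dense in Supp(F) have a largest element K. Setting F' = F/K: (1) Supp(F') =
Supp(F); (2) F' has no embedded associated points; (3) there is a dense open U ⊆ X with U ∩ Supp(F)
dense in Supp(F) over which the quotient map F → F' restricts to an isomorphism. -/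
theorem result (X : Scheme.{u}) [IsLocallyNoetherian X] (F : X.Modules)
    (hF : Coh.IsCoh F) :
    ∃ K : Subobject F, Coh.IsCoh (K : X.Modules) ∧
      (∀ U : X.Opens, (U : Set ↥X) ∩ CohB1.support F ⊆ CohB1.support (K : X.Modules) → (U : Set ↥X) ∩ CohB1.support F = ∅) ∧
      (∀ K' : Subobject F, Coh.IsCoh (K' : X.Modules) →
        (∀ U : X.Opens, (U : Set ↥X) ∩ CohB1.support F ⊆ CohB1.support (K' : X.Modules) → (U : Set ↥X) ∩ CohB1.support F = ∅) →
        K' ≤ K) ∧
      CohB1.support (cokernel K.arrow) = CohB1.support F ∧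
      (∀ x : ↥X, Curv2.IsAssPoint (cokernel K.arrow) x → ∀ y : ↥X, Curv2.IsAssPoint (cokernel K.arrow) y → y ⤳ x → y = x) ∧
      ∃ U : X.Opens, Dense (U : Set ↥X) ∧ CohB1.support F ⊆ closure ((U : Set ↥X) ∩ CohB1.support F) ∧
        IsIso ((Scheme.Modules.restrictFunctor U.ι).map (cokernel.π K.arrow)) := by
  classical
  haveI := hF.1
  have hass : ∀ x, Curv2.IsWeakAssPoint F x → x ∈ CohB1.support F := fun x hx =>
    mem_support_iff.2 (not_subsingleton_iff_nontrivial.1 (WA.not_subsingleton_of_isWeakAssPoint hx))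
  -- the closed set of embedded points
  let E : Set X := {x | Curv2.IsWeakAssPoint F x ∧ ∃ y, Curv2.IsWeakAssPoint F y ∧ y ⤳ x ∧ y ≠ x}
  let V : X.Opens := ⟨(closure E)ᶜ, isClosed_closure.isOpen_compl⟩
  have hVmax : ∀ {η : X}, η ∈ CohB1.support F → (∀ z ∈ CohB1.support F, z ⤳ η → z = η) → η ∈ V := by
    intro η hη hmax hc
    obtain ⟨e, he, hes⟩ := exists_of_mem_closure hF (fun s hs => hs.1) hc
    obtain rfl := hmax e (hass e he.1) hes
    obtain ⟨y, hy, hys, hne⟩ := he.2
    exact hne (hmax y (hass y hy) hys)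
  have hclF : IsClosed (CohB1.support F) := M1.isClosed_support hF.2
  -- the subsheaf
  let φ := RH26.unitU V F
  have hP : Coh.IsQCoh ((Scheme.Modules.pushforward V.ι).obj ((Scheme.Modules.restrictFunctor V.ι).obj F)) :=
    M1.isQCoh_push V.ι (M1.isQCoh_restrict hF.1 V.ι)
  let K : Subobject F := Subobject.mk (kernel.ι φ)
  have hφ : ∀ x ∈ V, Function.Bijective (stalkLin φ x) := fun x hx => RH26.bijective_stalk_unit V hx
  have harr : K.arrow ≫ φ = 0 := by
    rw [← cancel_epi (Subobject.underlyingIso (kernel.ι φ)).inv, comp_zero, ← Category.assoc,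
      Subobject.underlyingIso_arrow, kernel.condition]
  have hKinj : ∀ x, Function.Injective (stalkLin K.arrow x) := fun x => (M1.mono_iff_stalk _).1 inferInstance x
  have hKV : ∀ x ∈ V, Subsingleton (((K : X.Modules)).presheaf.stalk x) := fun x hx =>
    subsingleton_of_forall_eq 0 fun a => hKinj x ((hφ x hx).1 (by
      rw [← InjMod.stalkLin_comp_apply, harr, InjMod.stalkLin_zero_apply, map_zero, map_zero]))
  have hKsupp : ∀ x ∈ CohB1.support (K : X.Modules), x ∉ V := fun x hx hxV => hx (hKV x hxV)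
  have hKcoh : Coh.IsCoh (K : X.Modules) :=
    M1.isCoh_of_mono K.arrow hF (M1.isQCoh_of_isIso (Subobject.underlyingIso (kernel.ι φ)).symm (M1.isCoh_kernel hF hP φ).1)
  -- the quotient
  let π := cokernel.π K.arrow
  have hπ : ∀ x (b : (cokernel K.arrow).presheaf.stalk x), ∃ a, stalkLin π x a = b := fun x b =>
    (M1.epi_iff_stalk π).1 inferInstance x b
  let ψ : cokernel K.arrow ⟶ _ := cokernel.desc K.arrow φ harr
  have hψπ : ∀ x a, stalkLin ψ x (stalkLin π x a) = stalkLin φ x a := fun x a => by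
    rw [← InjMod.stalkLin_comp_apply, cokernel.π_desc]
  have hψ : ∀ x, Function.Injective (stalkLin ψ x) := fun x => by
    refine (injective_iff_map_eq_zero _).2 fun b hb => ?_
    obtain ⟨a, rfl⟩ := hπ x b
    rw [hψπ] at hb
    obtain ⟨c, rfl⟩ := (Vol26.mem_range_kernel_iff φ x a).2 hb
    rw [← Subobject.underlyingIso_arrow (kernel.ι φ), InjMod.stalkLin_comp_apply, ← InjMod.stalkLin_comp_apply
      K.arrow π, cokernel.condition, InjMod.stalkLin_zero_apply]
  have hπV : ∀ x ∈ V, Function.Bijective (stalkLin π x) := fun x hx => by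
    refine ⟨fun a b h => (hφ x hx).1 ?_, hπ x⟩
    rw [← hψπ, ← hψπ, h]
  have hF'coh : Coh.IsCoh (cokernel K.arrow) := M1.isCoh_cokernel hKcoh.1 hF K.arrow
  haveI := hF'coh.1
  have hcl' : IsClosed (CohB1.support (cokernel K.arrow)) := M1.isClosed_support hF'coh.2
  have hsupp : CohB1.support (cokernel K.arrow) = CohB1.support F := by
    refine Set.Subset.antisymm (fun x hx hs => hx ?_) fun x hx => ?_
    · exact (Function.Surjective.subsingleton (f := stalkLin π x) (hπ x))
    · obtain ⟨η, hη, hηx, hmax⟩ := exists_maximal hclF hx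
      refine (specializes_iff_forall_closed.1 hηx) _ hcl' fun hs => hη ?_
      exact (hπV η (hVmax hη hmax)).1.subsingleton
  -- sections supported away from V
  have hsec : ∀ (U : X.Opens) (t : Γ(cokernel K.arrow, U)),
      (∀ z (hz : z ∈ U), z ∈ V → (cokernel K.arrow).presheaf.germ U z hz t = 0) → t = 0 := by
    intro U t ht
    refine M1.section_ext (M := cokernel K.arrow) t 0 fun x hx => ?_
    rw [map_zero]
    refine hψ x ?_
    rw [map_zero]
    refine (M1.germ_naturality _ _ _ hx t).trans ?_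
    have h0 : ψ.app U t = 0 := by
      let y : Γ(F.restrict V.ι, V.ι ⁻¹ᵁ U) := ψ.app U t
      have hb := RH26.bijective_unit_app (M := F) V (W := U ⊓ V) inf_le_right
      have hres : ((Scheme.Modules.pushforward V.ι).obj ((Scheme.Modules.restrictFunctor V.ι).obj F)).presheaf.map
          (homOfLE (inf_le_left : U ⊓ V ≤ U)).op (ψ.app U t) = 0 := by
        refine M1.section_ext _ _ fun z hz => ?_
        rw [map_zero, TopCat.Presheaf.germ_res_apply]
        refine (M1.germ_naturality _ _ _ hz.1 t).symm.trans ?_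
        rw [ht z hz.1 hz.2, map_zero]
      have he : V.ι ⁻¹ᵁ U ≤ V.ι ⁻¹ᵁ (U ⊓ V) := fun z hz => ⟨hz, z.2⟩
      have h1 := congrArg (fun s : Γ(F.restrict V.ι, V.ι ⁻¹ᵁ (U ⊓ V)) => (F.restrict V.ι).presheaf.map (homOfLE he).op s) hres
      simp only [map_zero] at h1
      refine Eq.trans ?_ h1
      change y = (F.restrict V.ι).presheaf.map (homOfLE he).op ((F.restrict V.ι).presheaf.map
        (homOfLE (show V.ι ⁻¹ᵁ (U ⊓ V) ≤ V.ι ⁻¹ᵁ U from fun z hz => hz.1)).op y)
      rw [← AddMonoidHom.comp_apply, ← AddCommGrpCat.hom_comp, ← Functor.map_comp]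
      have hid : ((homOfLE (show V.ι ⁻¹ᵁ (U ⊓ V) ≤ V.ι ⁻¹ᵁ U from fun z hz => hz.1)).op ≫ (homOfLE he).op) =
          𝟙 (Opposite.op (V.ι ⁻¹ᵁ U)) := Subsingleton.elim _ _
      rw [hid, CategoryTheory.Functor.map_id]
      rfl
    rw [h0, map_zero]
  have hassV : ∀ x, Curv2.IsWeakAssPoint (cokernel K.arrow) x → x ∈ V := by
    intro x hx
    by_contra hxV
    obtain ⟨U, hU, hxU, -⟩ := exists_isAffineOpen_mem_and_subset (U := (⊤ : X.Opens)) (x := x) trivial
    obtain ⟨t, ht⟩ := (AssPts11.mem_ass_iff_exists hU hxU).1 (AssPts11.mem_ass_iff.2 hx)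
    have h0 : t = 0 := by
      refine hsec U t fun z hz hzV => ?_
      by_contra hne
      have hxz : ¬ x ⤳ z := fun h => hxV (h.mem_open V.isOpen hzV)
      obtain ⟨W, hWo, hzW, hxW⟩ : ∃ W : Set X, IsOpen W ∧ z ∈ W ∧ x ∉ W := by
        rw [specializes_iff_forall_open] at hxz
        push Not at hxz
        exact hxz
      obtain ⟨a, haW, hza⟩ := hU.exists_basicOpen_le (V := ⟨W, hWo⟩) ⟨z, hzW⟩ hz
      have hau : ¬ IsUnit (X.presheaf.germ U x hxU a) := fun h => hxW (haW ((X.mem_basicOpen a x hxU).mpr h))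
      have hat : a • t = 0 := (ht a).2 (not_not.mp fun h => hau ((M1.isUnit_germ_iff hU hxU a).mpr h))
      have := congrArg ((cokernel K.arrow).presheaf.germ U z hz) hat
      rw [M1.germ_smul, map_zero] at this
      exact hne (((X.mem_basicOpen a z hz).mp hza).smul_left_cancel.1 (this.trans (smul_zero _).symm))
    have h1 : (1 : Γ(X, U)) ∈ (hU.primeIdealOf ⟨x, hxU⟩).asIdeal := (ht 1).1 (by rw [h0, smul_zero])
    exact (hU.primeIdealOf ⟨x, hxU⟩).isPrime.ne_top ((Ideal.eq_top_iff_one _).2 h1)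
  have hassF : ∀ x, Curv2.IsWeakAssPoint (cokernel K.arrow) x → Curv2.IsWeakAssPoint F x := by
    intro x hx
    obtain ⟨m, hm⟩ := hx
    have hxV := hassV x ⟨m, hm⟩
    obtain ⟨a, rfl⟩ := hπ x m
    refine ⟨a, Eq.trans (congrArg Ideal.radical ?_) hm⟩
    ext r
    rw [LinearMap.mem_ker, LinearMap.mem_ker, LinearMap.toSpanSingleton_apply, LinearMap.toSpanSingleton_apply,
      ← map_smul, map_eq_zero_iff _ (hπV x hxV).1]
  refine ⟨K, hKcoh, fun U hU => ?_, fun K' hK' hnd => ?_, hsupp, fun x hx y hy hyx => ?_, V, ?_, ?_, ?_⟩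
  · refine Set.eq_empty_iff_forall_notMem.2 fun x hx => ?_
    obtain ⟨η, hη, hηx, hmax⟩ := exists_maximal hclF hx.2
    exact hKsupp η (hU ⟨hηx.mem_open U.isOpen hx.1, hη⟩) (hVmax hη hmax)
  · have hz : ∀ x ∈ V, Subsingleton ((K' : X.Modules).presheaf.stalk x) := by
      intro x hx
      by_contra hs
      haveI := hK'.1
      obtain ⟨z, hz, hzx⟩ := AssPts11.exists_ass_specializes (not_subsingleton_iff_nontrivial.1 hs)
      have hzV : z ∈ V := hzx.mem_open V.isOpen hx
      have hzK := AssPts11.mem_ass_iff.1 hz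
      have hzF : Curv2.IsWeakAssPoint F z :=
        isWeakAssPoint_of_injective K'.arrow ((M1.mono_iff_stalk _).1 inferInstance z) hzK
      let S : Set X := {w | Curv2.IsWeakAssPoint F w ∧ ¬ z ⤳ w}
      let U : X.Opens := ⟨(closure S)ᶜ, isClosed_closure.isOpen_compl⟩
      have hzU : z ∈ U := fun hc => by
        obtain ⟨w, hw, hwz⟩ := exists_of_mem_closure hF (fun s hs => hs.1) hc
        by_cases hwz' : w = z
        · exact hw.2 (hwz' ▸ specializes_rfl)
        · exact hzV (subset_closure ⟨hzF, w, hw.1, hwz, hwz'⟩)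
      have hsub : (U : Set X) ∩ CohB1.support F ⊆ CohB1.support (K' : X.Modules) := by
        intro p hp
        obtain ⟨w, hw, hwp⟩ := AssPts11.exists_ass_specializes (mem_support_iff.1 hp.2)
        have hzw : z ⤳ w := by
          by_contra h
          exact hp.1 (specializes_iff_forall_closed.1 hwp _ isClosed_closure
            (subset_closure ⟨AssPts11.mem_ass_iff.1 hw, h⟩))
        exact specializes_iff_forall_closed.1 (hzw.trans hwp) _ (M1.isClosed_support hK'.2)
          (WA.not_subsingleton_of_isWeakAssPoint hzK)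
      exact (Set.eq_empty_iff_forall_notMem.1 (hnd U hsub)) z ⟨hzU, hass z hzF⟩
    have h0 : K'.arrow ≫ φ = 0 := by
      apply ((Scheme.Modules.restrictAdjunction V.ι).homEquiv _ _).symm.injective
      rw [Adjunction.homEquiv_naturality_left_symm, restrict_eq_zero V K'.arrow hz, zero_comp,
        Adjunction.homEquiv_counit, Functor.map_zero, zero_comp]
    exact Subobject.le_mk_of_comm (kernel.lift φ K'.arrow h0) (kernel.lift_ι _ _ _)
  · have hx' := hassF x ((WA.isAssPoint_iff x).1 hx)
    have hy' := hassF y ((WA.isAssPoint_iff y).1 hy)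
    by_contra hne
    exact hassV x ((WA.isAssPoint_iff x).1 hx) (subset_closure ⟨hx', y, hy', hyx, hne⟩)
  · intro x
    obtain ⟨η, -, hηx, hmax⟩ := exists_maximal (Sp := Set.univ) isClosed_univ (Set.mem_univ x)
    refine (specializes_iff_forall_closed.1 hηx) _ isClosed_closure (subset_closure fun hc => ?_)
    obtain ⟨e, he, hes⟩ := exists_of_mem_closure hF (fun s hs => hs.1) hc
    obtain rfl := hmax e trivial hes
    obtain ⟨y, -, hys, hne⟩ := he.2
    exact hne (hmax y trivial hys)
  · intro x hx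
    obtain ⟨η, hη, hηx, hmax⟩ := exists_maximal hclF hx
    exact (specializes_iff_forall_closed.1 hηx) _ isClosed_closure (subset_closure ⟨hVmax hη hmax, hη⟩)
  · exact isIso_restrict V π hπV

end Groth.Agent.S8908
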