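import Groth.Statements.S8909
import Groth.Agent.Lib.SecDiv18.Peel

set_option autoImplicit false
universe u
open CategoryTheory CategoryTheory.Limits AlgebraicGeometry TopologicalSpace
open SDiv

namespace Groth.Agent.S8909

/-- Let X be a Noetherian scheme and Z ⊆ X a closed subscheme with ideal sheaf 𝓩. Suppose given a family
of integral effective Cartier divisors D_i ⊆ X (ideal sheaves 𝓓_i, i ∈ I) and a closed subset Z' ⊆ X
whose irreducible components all have codimension at least 2 in X (the local ring of X at each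
maximal point of Z' has dimension ≥ 2), such that Z ⊆ Z' ∪ ⋃ D_i set-theoretically. Then there are
integers a_i ≥ 0, almost all zero, such that the effective Cartier divisor D = Σ a_i D_i (with ideal
sheaf the product of the 𝓓_i^{a_i}) is contained in Z as a closed subscheme and the inclusion D → Z
is an isomorphism outside codimension 2: for some open U ⊆ X the ideal sheaves of D and Z agree on U
and every irreducible component of Z ∖ U has codimension ≥ 2 in X. The published statement also
asserts that such D_i and Z' exist when Z is nowhere dense in X and either every local ring of X at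
a point of Z is factorial or X is regular; this row does not. -/
theorem result (X : Scheme.{u}) [IsNoetherian X] (𝓩 : X.IdealSheafData)
    {I : Type u} (𝓓 : I → X.IdealSheafData) (hD : ∀ i, BlowUp.IsEffCartierIdeal (𝓓 i)) (hDint : ∀ i, IsIntegral (𝓓 i).subscheme)
    (Z' : Set ↥X) (hZ' : IsClosed Z')
    (hcodim : ∀ z ∈ Z', (∀ y ∈ Z', y ⤳ z → y = z) → (2 : WithBot ℕ∞) ≤ ringKrullDim ↑(X.presheaf.stalk z))
    (hcover : (𝓩.support : Set ↥X) ⊆ Z' ∪ ⋃ i, ((𝓓 i).support : Set ↥X)) :
    ∃ a : I →₀ ℕ, 𝓩 ≤ a.prod (fun i n => 𝓓 i ^ n) ∧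
      ∃ U : X.Opens, (a.prod (fun i n => 𝓓 i ^ n)).comap U.ι = 𝓩.comap U.ι ∧
        ∀ z ∈ (𝓩.support : Set ↥X) \ (U : Set ↥X), (∀ y ∈ (𝓩.support : Set ↥X) \ (U : Set ↥X), y ⤳ z → y = z) →
          (2 : WithBot ℕ∞) ≤ ringKrullDim ↑(X.presheaf.stalk z) := by
  have hnd : ∀ i (J : X.IdealSheafData), 𝓩 ≤ J → J ≤ 𝓓 i → J * 𝓓 i ≠ J := by
    intro i J hJ hJi he
    obtain ⟨z, hz, -⟩ := Groth.Agent.SecDiv.exists_generic (hDint i)
    obtain ⟨y, hyJ, -, hmax⟩ := Groth.Agent.SecDiv.exists_maximal_of_colon_eq (hD i) he hz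
    have hyZ : y ∈ (𝓩.support : Set ↥X) := Scheme.IdealSheafData.support_antitone hJ hyJ
    rcases hcover hyZ with hy | hy
    · obtain ⟨U, hU, hyU, -⟩ := exists_isAffineOpen_mem_and_subset (U := (⊤ : X.Opens)) (x := y) trivial
      have h2 := hcodim y hy fun w _ hw => hmax w hw
      have h0 : (hU.primeIdealOf ⟨y, hyU⟩).asIdeal.height = 0 := by
        rw [Ideal.height_eq_zero_iff]
        refine ⟨⟨inferInstance, bot_le⟩, fun q hq hle => ?_⟩
        haveI := hq.1
        obtain ⟨w, hw, hwu⟩ := Groth.Agent.WA.exists_point hU q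
        have hwy : w ⤳ y := Groth.Agent.WA.specializes_of_isUnit hU hyU hw fun a ha =>
          (hwu a).mpr fun h => (Groth.Agent.M1.isUnit_germ_iff hU hyU a).mp ha (hle h)
        have := hmax w hwy
        subst this
        intro a ha
        by_contra haq
        exact (Groth.Agent.M1.isUnit_germ_iff hU hw a).mp ((hwu a).mpr haq) ha
      rw [Groth.Agent.SecDiv.ringKrullDim_stalk_eq_height hU hyU, h0] at h2
      exact absurd h2 (by decide)
    · obtain ⟨j, hj⟩ := Set.mem_iUnion.mp hy
      obtain ⟨w, hw, hne⟩ := Groth.Agent.SecDiv.exists_proper_generisation (hD j) hj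
      exact hne (hmax w hw)
  obtain ⟨a, R, hZ, hle, hno⟩ := Groth.Agent.SecDiv.exists_peel 𝓓 hD 𝓩 hnd
  refine ⟨a, ?_, R.support.compl, Groth.Agent.SecDiv.comap_eq_of_peel hZ, ?_⟩
  · rw [hZ]
    intro U
    rw [Scheme.IdealSheafData.ideal_mul, Pi.mul_apply]
    exact Ideal.mul_le.mpr fun r hr t _ => Ideal.mul_mem_right t _ hr
  · rintro z ⟨hzZ, hzU⟩ -
    have hzR : z ∈ (R.support : Set ↥X) := not_not.mp hzU
    rcases hcover hzZ with hz | hz
    · have hs : ((Scheme.IdealSheafData.vanishingIdeal ⟨Z', hZ'⟩).support : Set ↥X) = Z' := by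
        rw [Scheme.IdealSheafData.coe_support_vanishingIdeal]; rfl
      obtain ⟨y, hy, hyz, hymax⟩ := Groth.Agent.SecDiv.exists_maximal_generisation
        (Scheme.IdealSheafData.vanishingIdeal ⟨Z', hZ'⟩) (z := z) (hs.ge hz)
      replace hy : y ∈ Z' := hs.le hy
      replace hymax : ∀ w ∈ Z', w ⤳ y → w = y := fun w hw => hymax w (hs.ge hw)
      exact (hcodim y hy hymax).trans (Groth.Agent.SecDiv.ringKrullDim_stalk_mono hyz)
    · obtain ⟨i, hi⟩ := Set.mem_iUnion.mp hz
      obtain ⟨x, hx, hcl⟩ := Groth.Agent.SecDiv.exists_generic (hDint i)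
      have hxz : x ⤳ z := specializes_iff_mem_closure.mpr (hcl.le hi)
      refine Groth.Agent.SecDiv.two_le_of_specializes hxz (fun he => ?_)
        (Groth.Agent.SecDiv.ringKrullDim_generic (hD i) hx fun w hw hwx =>
          (hwx.antisymm (specializes_iff_mem_closure.mpr (hcl.le hw))).eq)
      subst he
      exact hno i (Groth.Agent.SecDiv.le_of_support (hDint i) (hcl.le.trans (R.support.isClosed.closure_subset_iff.mpr (Set.singleton_subset_iff.mpr hzR))))

end Groth.Agent.S8909
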