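import Groth.Statements.S8913
import Groth.Agent.Lib.StrictTf14.Apps
import Groth.Agent.Lib.StrictTf14.KernelFP

set_option autoImplicit false
universe u
open CategoryTheory CategoryTheory.Limits AlgebraicGeometry TopologicalSpace
open SDiv

namespace Groth.Agent.S8913

/-- Let X be a scheme, F a finitely presented O_X-module and U ⊆ X an open subscheme which is
scheme-theoretically dense and over which F is locally free of constant finite rank r. Then: (1)
Fit_r(F) is of finite type with support disjoint from U, so a blowing up b : X' ⟶ X of X in Fit_r(F)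
is U-admissible; (2) the strict transform G of F along such b is locally free of rank r; (3) the
kernel of the surjection b^*F ⟶ G is finitely presented and restricts to zero over b⁻¹U. This row
does not assert that b^*F and the kernel are perfect of tor dimension at most one. -/
theorem result (X : Scheme.{u}) (F : X.Modules) (hF : CohB1.IsFP F)
    (U : X.Opens) (hU : CInt.IsSchematicallyDense U) (r : ℕ) (hfree : FlatMod.IsFinLocFreeOfRank r (F.restrict U.ι)) :
    BlowUp.IsAdmissibleFor U (Fitt.sheafIdeal F r) ∧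
      ∀ (X' : Scheme.{u}) (b : X' ⟶ X), BlowUp.IsBlowUp b (Fitt.sheafIdeal F r) →
        ∀ (G : X'.Modules) (π : (Scheme.Modules.pullback b).obj F ⟶ G), BlowUp.IsStrictTransform b (Fitt.sheafIdeal F r) F G π →
          FlatMod.IsFinLocFreeOfRank r G ∧ CohB1.IsFP (kernel π) ∧ IsZero ((kernel π).restrict (b ⁻¹ᵁ U).ι) := by
  have hFq := Groth.Agent.M1.isFP_isQCoh hF
  have hFT := Groth.Agent.M1.isFP_isFT hF
  have htop : (Fitt.sheafIdeal F r).comap U.ι = ⊤ :=
    (Groth.Agent.StrictTf14.comap_eq_of_rank hFq hFT U hfree r).2 le_rfl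
  refine ⟨⟨Fitting26.isFiniteType hF r, ?_⟩, fun X' b hb G π hG => ?_⟩
  · rw [Set.disjoint_left]
    intro x hx hxU
    have h1 : (⟨x, hxU⟩ : U) ∈ ((Fitt.sheafIdeal F r).comap U.ι).support := by
      rw [Scheme.IdealSheafData.support_comap]
      exact hx
    rw [htop, Scheme.IdealSheafData.support_top] at h1
    exact h1
  · have h0 : r = 0 ∨ (Fitt.sheafIdeal F (r - 1)).comap b = ⊥ := by
      rcases Nat.eq_zero_or_pos r with h | h
      · exact Or.inl h
      · refine Or.inr ?_
        rw [Groth.Agent.StrictTf14.eq_bot_of_dense hU _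
          ((Groth.Agent.StrictTf14.comap_eq_of_rank hFq hFT U hfree (r - 1)).1 (by omega)),
          Scheme.IdealSheafData.comap_bot]
    have hfreeG := Groth.Agent.StrictTf14.isFinLocFreeOfRank hFq hFT hb hG h0
    haveI : Epi π := hG.1
    refine ⟨hfreeG, Groth.Agent.StrictTf14.isFP_kernel_of_isFinLocFreeOfRank
      (Groth.Agent.M1.isFP_pullback b hF) hfreeG π, ?_⟩
    have hP : (BlowUp.exceptional b (Fitt.sheafIdeal F r)).comap (b ⁻¹ᵁ U).ι = ⊤ := by
      rw [← Scheme.IdealSheafData.comap_comp, ← morphismRestrict_ι,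
        Scheme.IdealSheafData.comap_comp, htop, Scheme.IdealSheafData.comap_top]
    haveI := Groth.Agent.StrictTf14.mono_restrict_of_comap_eq_top hG hFq (b ⁻¹ᵁ U) hP
    refine IsZero.of_mono_eq_zero ((Scheme.Modules.restrictFunctor (b ⁻¹ᵁ U).ι).map (kernel.ι π)) ?_
    refine (cancel_mono ((Scheme.Modules.restrictFunctor (b ⁻¹ᵁ U).ι).map π)).mp ?_
    rw [zero_comp, ← Functor.map_comp, kernel.condition, Functor.map_zero]

end Groth.Agent.S8913
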