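import Groth.Statements.S8914
import Groth.Agent.Lib.TensorMod.IdealMod

set_option autoImplicit false
universe u
open CategoryTheory CategoryTheory.Limits AlgebraicGeometry TopologicalSpace
open SDiv

namespace Groth.Agent.S8914

/-- Let S be a scheme and D ⊆ S a closed subscheme with quasi-coherent ideal sheaf 𝓘. Then the ideal
sheaf of D is an invertible O_S-module (that is, D is an effective Cartier divisor) if and only if
every point has an affine open neighbourhood Spec A in S with D ∩ Spec A = Spec A/(f) for a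
nonzerodivisor f ∈ A. -/
theorem result {S : Scheme.{u}} (𝓘 : S.IdealSheafData) :
    PicF.IsInvertible (ClSub.idealMod 𝓘) ↔ BlowUp.IsEffCartierIdeal 𝓘 := by
  refine ⟨fun h => ?_, fun h => Groth.Agent.M2.isInvertible_idealMod 𝓘 h⟩
  intro x
  obtain ⟨U, hxU, ⟨i⟩⟩ := h x
  obtain ⟨W, hW, hxW, hWU⟩ := exists_isAffineOpen_mem_and_subset hxU
  obtain ⟨i'⟩ := Groth.Agent.M2.nonempty_trivial_mono hWU i
  obtain ⟨a, ha⟩ := Groth.Agent.M2.exists_generator i'
  refine ⟨⟨W, hW⟩, hxW, Groth.Agent.M2.idealIncl 𝓘 a, ?_, ?_⟩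
  · refine mem_nonZeroDivisors_iff_right.mpr fun r hr => ?_
    have h0 : r • a = (0 : Γ(ClSub.idealMod 𝓘, W)) := by
      refine Groth.Agent.M2.idealIncl_injective 𝓘 W ?_
      rw [Groth.Agent.M2.idealIncl_smul, hr]
      exact (map_zero ((ClSub.idealModι 𝓘).app W).hom).symm
    refine (ha W le_rfl).1 ?_
    change r • Groth.Agent.M2.res _ le_rfl a = (0 : Γ(S, W)) • Groth.Agent.M2.res _ le_rfl a
    rw [zero_smul, show Groth.Agent.M2.res (ClSub.idealMod 𝓘) le_rfl a = a from
      Groth.Agent.M2.res_self _ _ a, h0]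
  · apply SetLike.coe_injective
    rw [← Groth.Agent.M2.range_idealIncl 𝓘 ⟨W, hW⟩]
    ext s
    simp only [Set.mem_range, SetLike.mem_coe, Ideal.mem_span_singleton']
    constructor
    · rintro ⟨b, rfl⟩
      obtain ⟨r, rfl⟩ := (ha W le_rfl).2 b
      refine ⟨r, ?_⟩
      rw [Groth.Agent.M2.idealIncl_smul, Groth.Agent.M2.res_self]
    · rintro ⟨r, rfl⟩
      exact ⟨r • a, Groth.Agent.M2.idealIncl_smul 𝓘 r a⟩

end Groth.Agent.S8914
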