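import Groth.Statements.S8918
import Groth.Agent.S1696
import Groth.Agent.Lib.MeroLib.Existence
import Groth.Agent.Lib.DivDesc12.Sheaf
import Groth.Agent.Lib.CurveOm17.Glue
import Groth.Agent.Lib.TensorMod.IdealMod
import Groth.Agent.Lib.Twist.Gen
import Groth.Agent.Lib.BlowUp26.Basic
import Groth.Agent.Lib.EffCartier.Dense
-- import your own Groth.Agent.* helpers here

set_option backward.isDefEq.respectTransparency false
set_option backward.isDefEq.respectTransparency.types false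
set_option autoImplicit false
universe u
open CategoryTheory CategoryTheory.Limits AlgebraicGeometry TopologicalSpace
open SDiv

namespace Groth.Agent.S8918

open Groth.Agent

noncomputable section

variable {X X' : Scheme.{u}}

theorem eq_of_germ {W : X.Opens} (p q : Γ(X, W))
    (h : ∀ y (hy : y ∈ W), X.presheaf.germ W y hy p = X.presheaf.germ W y hy q) : p = q :=
  TopCat.Presheaf.section_ext X.sheaf W p q h

theorem nzd_of_germ {W : X.Opens} (p : Γ(X, W))
    (h : ∀ y (hy : y ∈ W), X.presheaf.germ W y hy p ∈ nonZeroDivisors (X.presheaf.stalk y)) :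
    p ∈ nonZeroDivisors Γ(X, W) := by
  refine mem_nonZeroDivisors_iff_right.2 fun z hz => eq_of_germ _ _ fun y hy => ?_
  rw [map_zero]
  refine mem_nonZeroDivisors_iff_right.1 (h y hy) _ ?_
  rw [← map_mul, hz, map_zero]

theorem germ_nzd {W : X.Opens} (hW : IsAffineOpen W) {y : X} (hy : y ∈ W) {p : Γ(X, W)}
    (hp : p ∈ nonZeroDivisors Γ(X, W)) : X.presheaf.germ W y hy p ∈ nonZeroDivisors (X.presheaf.stalk y) :=
  mem_nonZeroDivisors_iff_right.2 fun z hz =>
    (S1696.isSMulRegular_germ hW hy hp).right_eq_zero_of_smul (by rw [smul_eq_mul, mul_comm]; exact hz)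

theorem germ_appLE (b : X' ⟶ X) {U : X.Opens} {V : X'.Opens} (hVU : V ≤ b ⁻¹ᵁ U) (a : Γ(X, U)) (y : X')
    (hy : y ∈ V) : X'.presheaf.germ V y hy (b.appLE U V hVU a) = b.stalkMap y (X.presheaf.germ U (b y) (hVU hy) a) := by
  rw [Scheme.Hom.germ_stalkMap_apply, Scheme.Hom.appLE, CommRingCat.comp_apply, TopCat.Presheaf.germ_res_apply]

/-- Regular sections pull back to regular sections along a blowing up. -/
theorem regular_appLE {I : X.IdealSheafData} {b : X' ⟶ X} (hb : BlowUp.IsBlowUp b I) {U : X.Opens}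
    {V : X'.Opens} (hV : IsAffineOpen V) (hVU : V ≤ b ⁻¹ᵁ U) {a : Γ(X, U)} (ha : a ∈ Mero.regSub X U)
    (y : X') (hy : y ∈ V) :
    X'.presheaf.germ V y hy (b.appLE U V hVU a) ∈ nonZeroDivisors (X'.presheaf.stalk y) := by
  refine germ_nzd hV hy (mem_nonZeroDivisors_iff_right.2 fun z hz => ?_)
  haveI := EffCartier.isIso_blowUp_restrict hb
  have hiso : ∀ x : X', x ∈ EffCartier.cmpl (I.comap b) → IsIso (b.stalkMap x) := fun x hx => by
    have hx' : x ∈ b ⁻¹ᵁ EffCartier.cmpl I := by rw [BlowUp26.preimage_cmpl_eq]; exact hx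
    exact ((MorphismProperty.isomorphisms CommRingCat.{u}).arrow_mk_iso_iff
      (morphismRestrictStalkMap b (EffCartier.cmpl I) ⟨x, hx'⟩)).1
      (inferInstanceAs (IsIso ((b ∣_ EffCartier.cmpl I).stalkMap ⟨x, hx'⟩)))
  haveI := EffCartier.dominant_cmpl hb.1
  haveI := EffCartier.quasiCompact_interior hb.1
  have hinj : Function.Injective ((EffCartier.cmpl (I.comap b)).ι.app V).hom := by
    rw [RingHom.injective_iff_ker_eq_bot, ← Scheme.Hom.ker_apply _ ⟨V, hV⟩, Scheme.Hom.ker_eq_bot,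
      Scheme.IdealSheafData.ideal_bot, Pi.bot_apply]
  refine hinj ?_
  rw [map_zero, Scheme.Opens.ι_app]
  refine eq_of_germ (X := X') (W := (EffCartier.cmpl (I.comap b)).ι ''ᵁ (EffCartier.cmpl (I.comap b)).ι ⁻¹ᵁ V)
    _ _ fun x hx => ?_
  rw [map_zero]
  erw [TopCat.Presheaf.germ_res_apply]
  obtain ⟨w, hw, rfl⟩ := hx
  haveI := hiso w.1 w.2
  have h1 := congrArg (X'.presheaf.germ V w.1 hw) hz
  rw [map_mul, germ_appLE, map_zero] at h1
  obtain ⟨z0, hz0⟩ := (ConcreteCategory.bijective_of_isIso (b.stalkMap w.1)).2 (X'.presheaf.germ V w.1 hw z)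
  refine hz0.symm.trans ?_
  rw [← hz0, ← map_mul] at h1
  have h2 := (ConcreteCategory.bijective_of_isIso (b.stalkMap w.1)).1 (h1.trans (map_zero _).symm)
  rw [mem_nonZeroDivisors_iff_right.1 (ha ⟨b w.1, hVU hw⟩) z0 h2, map_zero]

variable {L : X.Modules} {s : Γ(Mero.merMod L, ⊤)}

/-- A chart of a regular meromorphic section. -/
structure Chart (L : X.Modules) (s : Γ(Mero.merMod L, ⊤)) where
  U : X.Opens
  hU : IsAffineOpen U
  e : Γ(L, U)
  he : M2.IsGenerator e
  a : Γ(X, U)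
  b : Γ(X, U)
  ha : a ∈ Mero.regSub X U
  hb : b ∈ Mero.regSub X U
  hs : ∀ y : U, s.1 ⟨y.1, Opens.mem_top y.1⟩ =
    LocalizedModule.mk (X.presheaf.germ U y.1 y.2 a • L.presheaf.germ U y.1 y.2 e) (Mero.regGerm y ⟨b, hb⟩)

theorem exists_chart (hL : PicF.IsInvertible L) (hs : Mero.IsRegularMero L s) (x : X) :
    ∃ c : Chart L s, x ∈ c.U := by
  obtain ⟨W, hxW, i, m, b, hmb⟩ := s.2 ⟨x, Opens.mem_top x⟩
  obtain ⟨U, hxU, hUW, hU, e, he⟩ := MeroLib.exists_affine_gen hL hxW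
  obtain ⟨a, ha⟩ := MeroLib.smul_eq_of_isUnit (M1.mres L hUW m) e he
  have hb : X.presheaf.map (homOfLE hUW).op b.1 ∈ Mero.regSub X U := Mero.regSub_res (homOfLE hUW) b.2
  have hmk : ∀ y : U, s.1 ⟨y.1, Opens.mem_top y.1⟩ =
      LocalizedModule.mk (X.presheaf.germ U y.1 y.2 a • L.presheaf.germ U y.1 y.2 e)
        (Mero.regGerm y ⟨_, hb⟩) := fun y => by
    refine (hmb ⟨y.1, hUW y.2⟩).trans (Mero.mk_congr ?_ ?_)
    · rw [← ha y.1 y.2, M1.germ_mres L hUW y.2]
    · exact (TopCat.Presheaf.germ_res_apply X.presheaf (homOfLE hUW) y.1 y.2 b.1).symm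
  refine ⟨⟨U, hU, e, he, a, _, fun y => mem_nonZeroDivisors_iff_right.2 fun z hz => ?_, hb, hmk⟩, hxU⟩
  refine Mero.algebraMap_KStalk_injective y.1 ?_
  rw [map_zero]
  refine hs y.1 _ ?_
  rw [hmk y, algebraMap_smul, LocalizedModule.smul'_mk, ← mul_smul, hz, zero_smul, LocalizedModule.zero_mk]

namespace Chart

variable (c : Chart L s)

theorem cancel_gen {y : X} (hy : y ∈ c.U) {p q : X.presheaf.stalk y}
    (h : p • L.presheaf.germ c.U y hy c.e = q • L.presheaf.germ c.U y hy c.e) : p = q :=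
  (Twist.IsGen.stalk (g := c.e) c.he hy).1 h

theorem b_nzd : c.b ∈ nonZeroDivisors Γ(X, c.U) := nzd_of_germ _ fun y hy => c.hb ⟨y, hy⟩

theorem mem_denom_iff (f : Γ(X, c.U)) :
    f ∈ Mero.denomIdeal L s c.U ↔ ∃ j : Γ(X, c.U), c.b * j = f * c.a := by
  constructor
  · rintro ⟨m, hm⟩
    obtain ⟨j, hj⟩ := MeroLib.smul_eq_of_isUnit m c.e c.he
    refine ⟨j, eq_of_germ _ _ fun y hy => ?_⟩
    have h := hm ⟨y, hy⟩
    rw [c.hs ⟨y, hy⟩, LocalizedModule.mkLinearMap_apply, hj y hy, LocalizedModule.smul'_mk,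
      LocalizedModule.mk_eq] at h
    obtain ⟨⟨u, hu⟩, h⟩ := h
    simp only [Submonoid.smul_def, OneMemClass.coe_one, one_smul, smul_smul] at h
    have h' := c.cancel_gen hy h
    rw [map_mul, map_mul]
    refine (mul_cancel_left_mem_nonZeroDivisors (Mero.regStalk_le_nonZeroDivisors y hu)).1 ?_
    linear_combination (-1 : X.presheaf.stalk y) * h'
  · rintro ⟨j, hj⟩
    refine ⟨j • c.e, fun y => ?_⟩
    rw [c.hs y, LocalizedModule.mkLinearMap_apply, M1.germ_smul, LocalizedModule.smul'_mk, LocalizedModule.mk_eq]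
    refine ⟨1, ?_⟩
    simp only [Submonoid.smul_def, OneMemClass.coe_one, one_smul, smul_smul]
    congr 1
    have h := congrArg (X.presheaf.germ c.U y.1 y.2) hj
    rw [map_mul, map_mul] at h
    exact h.symm

theorem trans (c' : Chart L s) {y : X} (hy : y ∈ c.U) (hy' : y ∈ c'.U) :
    ∃ u : X.presheaf.stalk y, IsUnit u ∧
      L.presheaf.germ c'.U y hy' c'.e = u • L.presheaf.germ c.U y hy c.e ∧
      X.presheaf.germ c'.U y hy' c'.a * u * X.presheaf.germ c.U y hy c.b =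
        X.presheaf.germ c.U y hy c.a * X.presheaf.germ c'.U y hy' c'.b := by
  obtain ⟨u, hu⟩ := (Twist.IsGen.stalk (g := c.e) c.he hy).2 (L.presheaf.germ c'.U y hy' c'.e)
  obtain ⟨v, hv⟩ := (Twist.IsGen.stalk (g := c'.e) c'.he hy').2 (L.presheaf.germ c.U y hy c.e)
  refine ⟨u, IsUnit.of_mul_eq_one v (c.cancel_gen hy (?_ : (u * v) • _ = (1 : X.presheaf.stalk y) • _)), hu.symm, ?_⟩
  · rw [one_smul, mul_comm, mul_smul]
    exact (congrArg (v • ·) hu).trans hv
  have h := (c.hs ⟨y, hy⟩).symm.trans (c'.hs ⟨y, hy'⟩)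
  rw [← hu, LocalizedModule.mk_eq] at h
  obtain ⟨⟨w, hw⟩, h⟩ := h
  simp only [Submonoid.smul_def, smul_smul] at h
  have h' := c.cancel_gen hy h
  refine (mul_cancel_left_mem_nonZeroDivisors (Mero.regStalk_le_nonZeroDivisors y hw)).1 ?_
  linear_combination (-1 : X.presheaf.stalk y) * h'

end Chart

theorem span_eq_unit {R : Type u} [CommRing R] {h h' : R} (hh : h ∈ nonZeroDivisors R)
    (e : Ideal.span {h} = Ideal.span {h'}) : ∃ w : R, IsUnit w ∧ h' = w * h := by
  obtain ⟨w, hw⟩ := Ideal.mem_span_singleton'.1 (e ▸ Ideal.mem_span_singleton_self h' : h' ∈ Ideal.span {h})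
  obtain ⟨w', hw'⟩ := Ideal.mem_span_singleton'.1 (e ▸ Ideal.mem_span_singleton_self h : h ∈ Ideal.span {h'})
  refine ⟨w, IsUnit.of_mul_eq_one w' ?_, hw.symm⟩
  have h0 : (w * w' - 1) * h = 0 := by
    rw [sub_mul, one_mul, mul_comm w, mul_assoc, hw, hw', sub_self]
  exact sub_eq_zero.1 (mem_nonZeroDivisors_iff_right.1 hh _ h0)

/-- Local data on the blow-up: `δ` is a local equation of the divisor. -/
structure Piece (b : X' ⟶ X) (I : X.IdealSheafData) (c : Chart L s) where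
  V : X'.Opens
  hV : IsAffineOpen V
  le : V ≤ b ⁻¹ᵁ c.U
  h : Γ(X', V)
  eqn : EffCartier.IsEqn (I.comap b) ⟨V, hV⟩ h
  δ : Γ(X', V)
  rel : b.appLE c.U V le c.b * δ = h * b.appLE c.U V le c.a
  reg : ∀ z (hz : z ∈ V), X'.presheaf.germ V z hz δ ∈ nonZeroDivisors (X'.presheaf.stalk z)

theorem exists_piece (I : X.IdealSheafData) (hI : ∀ V : X.affineOpens, I.ideal V = Mero.denomIdeal L s V.1)
    (b : X' ⟶ X) (hb : BlowUp.IsBlowUp b I) (c : Chart L s) (y : X') (hy : b y ∈ c.U) :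
    ∃ p : Piece b I c, y ∈ p.V := by
  obtain ⟨⟨V, hV⟩, hyV, hVle, h, heq⟩ := EffCartier.exists_isEqn hb.1 (W := b ⁻¹ᵁ c.U) hy
  let φ := (b.appLE c.U V hVle).hom
  have hspan : (I.comap b).ideal ⟨V, hV⟩ = (I.ideal ⟨c.U, c.hU⟩).map φ :=
    EffCartier.comap_ideal I b ⟨c.U, c.hU⟩ ⟨V, hV⟩ hVle
  have hex : ∀ x ∈ (I.ideal ⟨c.U, c.hU⟩).map φ, ∃ δ, ∀ f j, c.b * j = f * c.a → φ f * δ = x * φ j := by
    intro x hx
    refine Submodule.span_induction (p := fun x _ => ∃ δ, ∀ f j, c.b * j = f * c.a → φ f * δ = x * φ j)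
      ?_ ⟨0, fun f j _ => by rw [mul_zero, zero_mul]⟩ ?_ ?_ hx
    · rintro _ ⟨f₀, hf₀, rfl⟩
      rw [SetLike.mem_coe, hI, c.mem_denom_iff] at hf₀
      obtain ⟨j₀, hj₀⟩ := hf₀
      refine ⟨φ j₀, fun f j hj => ?_⟩
      have : f * j₀ = f₀ * j := by
        refine (mul_cancel_left_mem_nonZeroDivisors c.b_nzd).1 ?_
        linear_combination f * hj₀ - f₀ * hj
      rw [← map_mul, this, map_mul]
    · rintro x x' - - ⟨d, hd⟩ ⟨d', hd'⟩
      exact ⟨d + d', fun f j hj => by rw [mul_add, hd f j hj, hd' f j hj, add_mul]⟩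
    · rintro r x - ⟨d, hd⟩
      exact ⟨r * d, fun f j hj => by rw [mul_left_comm, hd f j hj, smul_eq_mul, mul_assoc]⟩
  obtain ⟨δ, hδ⟩ := hex h (hspan ▸ heq.ideal_eq ▸ Ideal.mem_span_singleton_self h)
  have hrel := hδ c.b c.a (by rw [mul_comm])
  refine ⟨⟨V, hV, hVle, h, heq, δ, hrel, fun z hz => ?_⟩, hyV⟩
  have e := congrArg (X'.presheaf.germ V z hz) hrel
  rw [map_mul, map_mul] at e
  have hm : X'.presheaf.germ V z hz h * X'.presheaf.germ V z hz (φ c.a) ∈ nonZeroDivisors (X'.presheaf.stalk z) :=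
    mul_mem (germ_nzd hV hz heq.mem) (regular_appLE hb hV hVle c.ha z hz)
  exact (mul_mem_nonZeroDivisors.1 (e ▸ hm)).2

theorem piece_trans {I : X.IdealSheafData} {b : X' ⟶ X} (hb : BlowUp.IsBlowUp b I) {c c' : Chart L s}
    (p : Piece b I c) (p' : Piece b I c') (z : X') (hz : z ∈ p.V) (hz' : z ∈ p'.V) :
    ∃ (u : X.presheaf.stalk (b z)) (w : X'.presheaf.stalk z), IsUnit u ∧ IsUnit w ∧
      L.presheaf.germ c'.U (b z) (p'.le hz') c'.e = u • L.presheaf.germ c.U (b z) (p.le hz) c.e ∧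
      X'.presheaf.germ p'.V z hz' p'.h = w * X'.presheaf.germ p.V z hz p.h ∧
      b.stalkMap z u * X'.presheaf.germ p'.V z hz' p'.δ = w * X'.presheaf.germ p.V z hz p.δ := by
  obtain ⟨u, hu, hue, hrel⟩ := c.trans c' (p.le hz) (p'.le hz')
  obtain ⟨w, hw, hwh⟩ := span_eq_unit (germ_nzd p.hV hz p.eqn.mem)
    (h' := X'.presheaf.germ p'.V z hz' p'.h) (by
      have e1 := DivDesc12.stI_eq (I.comap b) ⟨p.V, p.hV⟩ hz
      have e2 := DivDesc12.stI_eq (I.comap b) ⟨p'.V, p'.hV⟩ hz'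
      rw [p.eqn.ideal_eq, Ideal.map_span, Set.image_singleton] at e1
      rw [p'.eqn.ideal_eq, Ideal.map_span, Set.image_singleton] at e2
      exact e1.symm.trans e2)
  refine ⟨u, w, hu, hw, hue, hwh, ?_⟩
  have r1 := congrArg (X'.presheaf.germ p.V z hz) p.rel
  have r2 := congrArg (X'.presheaf.germ p'.V z hz') p'.rel
  rw [map_mul, map_mul, germ_appLE, germ_appLE] at r1 r2
  have r3 := congrArg (b.stalkMap z) hrel
  rw [map_mul, map_mul, map_mul] at r3
  have hB := regular_appLE hb p.hV p.le c.hb z hz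
  have hB' := regular_appLE hb p'.hV p'.le c'.hb z hz'
  rw [germ_appLE] at hB hB'
  refine (mul_cancel_left_mem_nonZeroDivisors (mul_mem hB hB')).1 ?_
  linear_combination
    (b.stalkMap z u * b.stalkMap z (X.presheaf.germ c.U (b z) (p.le hz) c.b)) * r2 +
    X'.presheaf.germ p'.V z hz' p'.h * r3 +
    (b.stalkMap z (X.presheaf.germ c.U (b z) (p.le hz) c.a) * b.stalkMap z (X.presheaf.germ c'.U (b z) (p'.le hz') c'.b)) * hwh -
    (w * b.stalkMap z (X.presheaf.germ c'.U (b z) (p'.le hz') c'.b)) * r1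

/-- Suppose X is locally Noetherian, L is an invertible O_X-module carrying a regular meromorphic
section s, and I is a quasi-coherent ideal sheaf whose value on every affine open is the ideal of
denominators of s. Then I is of finite type and the open complement U of the support of O_X/I is
exactly the set of points near which s is a section of L, so that a blowing up b : X' ⟶ X in I is
U-admissible for this U; and for every such b there is an effective Cartier divisor D ⊆ X' with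
ideal sheaf 𝓓 such that b^*L ⊗ 𝓓 is isomorphic to the ideal sheaf of the exceptional divisor E, i.e.
b^*L ≅ O_{X'}(D - E) (existence of an isomorphism only). This row does not identify the pulled-back
section b^*s with the canonical section 1_D ⊗ 1_E⁻¹ of O_{X'}(D - E). -/
theorem result (X : Scheme.{u}) [IsLocallyNoetherian X] (L : X.Modules) (hL : PicF.IsInvertible L)
    (s : Γ(Mero.merMod L, ⊤)) (hs : Mero.IsRegularMero L s) (I : X.IdealSheafData)
    (hI : ∀ V : X.affineOpens, I.ideal V = Mero.denomIdeal L s V.1) :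
    (BlowUp.IsFiniteTypeIdeal I ∧ ((I.support.compl : X.Opens) : Set X) = Mero.domain L s) ∧
      ∀ (X' : Scheme.{u}) (b : X' ⟶ X), BlowUp.IsBlowUp b I →
        ∃ 𝓓 : X'.IdealSheafData, BlowUp.IsEffCartierIdeal 𝓓 ∧
          Nonempty (CohB1.tensorMod ((Scheme.Modules.pullback b).obj L) (ClSub.idealMod 𝓓) ≅ ClSub.idealMod (I.comap b)) := by
  classical
  refine ⟨⟨fun V => ?_, ?_⟩, fun X' b hb => ?_⟩
  · haveI : IsNoetherianRing Γ(X, V.1) := IsLocallyNoetherian.component_noetherian V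
    exact (inferInstance : IsNoetherian Γ(X, V.1) Γ(X, V.1)).noetherian _
  · ext x
    constructor
    · intro hx
      obtain ⟨U, hU, hxU, -⟩ := exists_isAffineOpen_mem_and_subset (X := X) (x := x) (U := ⊤) trivial
      have hx' : x ∉ I.support := hx
      rw [Scheme.IdealSheafData.mem_support_iff_of_mem (U := ⟨U, hU⟩) hxU, Scheme.mem_zeroLocus_iff] at hx'
      push Not at hx'
      obtain ⟨f, hf, hfx⟩ := hx'
      rw [SetLike.mem_coe, hI] at hf
      obtain ⟨m, hm⟩ := hf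
      have hu : IsUnit (X.presheaf.map (homOfLE (X.basicOpen_le f)).op f) := X.toRingedSpace.isUnit_res_basicOpen f
      obtain ⟨g, hg⟩ := hu.exists_left_inv
      refine ⟨X.basicOpen f, hfx, (g : Γ(X, X.basicOpen f)) • M1.mres L (X.basicOpen_le f) m, fun y => ?_⟩
      change s.1 ⟨y.1, Opens.mem_top y.1⟩ = LocalizedModule.mkLinearMap (Mero.regStalk X y.1) _
        (L.presheaf.germ (X.basicOpen f) y.1 y.2 ((g : Γ(X, X.basicOpen f)) • M1.mres L (X.basicOpen_le f) m))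
      rw [M1.germ_smul, M1.germ_mres L (X.basicOpen_le f) y.2, map_smul, ← hm ⟨y.1, X.basicOpen_le f y.2⟩, ← mul_smul]
      have e := congrArg (X.presheaf.germ (X.basicOpen f) y.1 y.2) hg
      rw [map_mul, map_one] at e
      erw [TopCat.Presheaf.germ_res_apply] at e
      erw [e, one_smul]
    · rintro ⟨V, hxV, m, hm⟩
      obtain ⟨U, hU, hxU, hUV⟩ := exists_isAffineOpen_mem_and_subset (X := X) (x := x) (U := V) hxV
      have h1 : (1 : Γ(X, U)) ∈ I.ideal ⟨U, hU⟩ := by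
        rw [hI]
        refine ⟨M1.mres L hUV m, fun y => ?_⟩
        rw [map_one, one_smul, M1.germ_mres L hUV y.2]
        exact hm ⟨y.1, hUV y.2⟩
      show x ∉ I.support
      rw [Scheme.IdealSheafData.mem_support_iff_of_mem (U := ⟨U, hU⟩) hxU, Scheme.mem_zeroLocus_iff]
      exact fun h => h 1 h1 (by rw [Scheme.basicOpen_of_isUnit _ isUnit_one]; exact hxU)
  have hc := fun y : X' => exists_chart hL hs (b y)
  choose c hyc using hc
  have hp := fun y : X' => exists_piece I hI b hb (c y) y (hyc y)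
  choose p hyp using hp
  let D : ∀ z : X', Ideal (X'.presheaf.stalk z) := fun z =>
    Ideal.span {X'.presheaf.germ (p z).V z (hyp z) (p z).δ}
  have hD : ∀ (y z : X') (hz : z ∈ (p y).V), D z = Ideal.span {X'.presheaf.germ (p y).V z hz (p y).δ} := by
    intro y z hz
    obtain ⟨u, w, hu, hw, -, -, e⟩ := piece_trans hb (p y) (p z) z hz (hyp z)
    show Ideal.span {X'.presheaf.germ (p z).V z (hyp z) (p z).δ} = _
    rw [← Ideal.span_singleton_mul_left_unit (hu.map (b.stalkMap z).hom), e, Ideal.span_singleton_mul_left_unit hw]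
  obtain ⟨𝓓, h𝓓⟩ := DivDesc12.exists_idealSheaf D fun y => ⟨⟨(p y).V, (p y).hV⟩, hyp y, (p y).δ, hD y⟩
  have hDV : ∀ y, 𝓓.ideal ⟨(p y).V, (p y).hV⟩ = Ideal.span {(p y).δ} := by
    intro y
    refine le_antisymm ?_ ?_ <;>
      refine DivDesc12.ideal_le_of_germ ⟨(p y).V, (p y).hV⟩ _ _ fun z hz => le_of_eq ?_
    all_goals rw [← DivDesc12.stI_eq 𝓓 ⟨(p y).V, (p y).hV⟩ hz, h𝓓, hD y z hz, Ideal.map_span, Set.image_singleton]
  have hnz : ∀ y, (p y).δ ∈ nonZeroDivisors Γ(X', (p y).V) := fun y => nzd_of_germ _ (p y).reg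
  refine ⟨𝓓, fun y => ⟨⟨(p y).V, (p y).hV⟩, hyp y, (p y).δ, hnz y, hDV y⟩, ?_⟩
  have hd : ∀ y, ∃ d : Γ(ClSub.idealMod 𝓓, (p y).V), M2.idealIncl 𝓓 d = (p y).δ := fun y => by
    have : (p y).δ ∈ Set.range (M2.idealIncl 𝓓 (U := (p y).V)) := by
      rw [M2.range_idealIncl 𝓓 ⟨(p y).V, (p y).hV⟩, hDV]
      exact Ideal.mem_span_singleton_self _
    exact this
  choose d hd using hd
  have hq : ∀ y, ∃ q : Γ(ClSub.idealMod (I.comap b), (p y).V), M2.idealIncl (I.comap b) q = (p y).h := fun y => by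
    have : (p y).h ∈ Set.range (M2.idealIncl (I.comap b) (U := (p y).V)) := by
      rw [M2.range_idealIncl (I.comap b) ⟨(p y).V, (p y).hV⟩, (p y).eqn.ideal_eq]
      exact Ideal.mem_span_singleton_self _
    exact this
  choose q hq using hq
  let bL := (Scheme.Modules.pullback b).obj L
  let E : ∀ y, Γ(bL, (p y).V) := fun y => M1.mres bL (p y).le (M2.pullSec b L (c y).e)
  let P : ∀ y, Γ(CohB1.tensorMod bL (ClSub.idealMod 𝓓), (p y).V) := fun y => M2.tsec _ _ (E y) (d y)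
  have hE : ∀ y, Twist.IsGen bL (p y).V (E y) := fun y =>
    Twist.IsGen.mres (Twist.IsGen.pullback b (g := (c y).e) (c y).he) (p y).le
  have hdg : ∀ y, Twist.IsGen (ClSub.idealMod 𝓓) (p y).V (d y) := fun y =>
    M2.isGenerator_idealMod 𝓓 (U := ⟨(p y).V, (p y).hV⟩) (p y).δ (hnz y) (hDV y) (d y) (hd y)
  have hP : ∀ y, Twist.IsGen _ (p y).V (P y) := fun y => CurveOm17.isGen_tsec (hE y) (hdg y)
  have hQ : ∀ y, Twist.IsGen (ClSub.idealMod (I.comap b)) (p y).V (q y) := fun y =>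
    M2.isGenerator_idealMod (I.comap b) (U := ⟨(p y).V, (p y).hV⟩) (p y).h (p y).eqn.mem (p y).eqn.ideal_eq (q y) (hq y)
  have hcov : ⨆ y, (p y).V = ⊤ := top_le_iff.1 fun y _ => Opens.mem_iSup.2 ⟨y, hyp y⟩
  suffices hst : Twist.SameTransition (fun y => (p y).V) P q by
    obtain ⟨τ, -⟩ := Twist.exists_iso_of_gen (fun y => (p y).V) hcov P q hP hQ hst
    exact ⟨τ⟩
  intro i j W hi hj t ht
  refine M2.idealIncl_injective (I.comap b) W (eq_of_germ _ _ fun z hz => ?_)
  have eQ : ∀ (k : X') (hk : W ≤ (p k).V),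
      M2.idealIncl (I.comap b) (M1.mres _ hk (q k)) = X'.presheaf.map (homOfLE hk).op (p k).h := fun k hk => by
    rw [← hq k]
    exact M2.idealIncl_res (I.comap b) hk (q k)
  rw [M2.idealIncl_smul, eQ, eQ, map_mul, TopCat.Presheaf.germ_res_apply, TopCat.Presheaf.germ_res_apply]
  obtain ⟨u, w, hu, hw, hue, hwh, hde⟩ := piece_trans hb (p i) (p j) z (hi hz) (hj hz)
  have hle₁ : (p i).V ⊓ (p j).V ≤ (p i).V := inf_le_left
  have hle₂ : (p i).V ⊓ (p j).V ≤ (p j).V := inf_le_right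
  obtain ⟨r, hr⟩ := (hdg i _ hle₁).2 (M1.mres (ClSub.idealMod 𝓓) hle₂ (d j))
  have hm : z ∈ (p i).V ⊓ (p j).V := ⟨hi hz, hj hz⟩
  have hres : ∀ k (hk : (p i).V ⊓ (p j).V ≤ (p k).V),
      M2.idealIncl 𝓓 (M1.mres _ hk (d k)) = X'.presheaf.map (homOfLE hk).op (p k).δ := fun k hk => by
    rw [← hd k]
    exact M2.idealIncl_res 𝓓 hk (d k)
  have hδr := congrArg (fun q => X'.presheaf.germ _ z hm (M2.idealIncl 𝓓 q)) hr
  simp only [M2.idealIncl_smul, hres, map_mul, TopCat.Presheaf.germ_res_apply] at hδr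
  have hdr := congrArg ((ClSub.idealMod 𝓓).presheaf.germ _ z hm) hr
  rw [M1.germ_smul, M1.germ_mres _ hle₁ hm, M1.germ_mres _ hle₂ hm] at hdr
  have hw' : b.stalkMap z u * X'.presheaf.germ _ z hm r = w := by
    refine (mul_cancel_right_mem_nonZeroDivisors ((p i).reg z (hi hz))).1 ?_
    rw [mul_assoc, hδr, hde]
  have hDg : b.stalkMap z u • (ClSub.idealMod 𝓓).presheaf.germ (p j).V z (hj hz) (d j) =
      w • (ClSub.idealMod 𝓓).presheaf.germ (p i).V z (hi hz) (d i) := by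
    rw [← hdr, ← mul_smul, hw']
  have hEg : bL.presheaf.germ (p j).V z (hj hz) (E j) = b.stalkMap z u • bL.presheaf.germ (p i).V z (hi hz) (E i) := by
    simp only [E]
    rw [M1.germ_mres bL (p j).le (hj hz), M1.germ_mres bL (p i).le (hi hz), ← M2.stalkUnitHom_germ b z L,
      ← M2.stalkUnitHom_germ b z L, hue]
    exact (M2.stalkUnit b z L).map_smul u _
  have hPg : (CohB1.tensorMod bL (ClSub.idealMod 𝓓)).presheaf.germ (p j).V z (hj hz) (P j) =
      w • (CohB1.tensorMod bL (ClSub.idealMod 𝓓)).presheaf.germ (p i).V z (hi hz) (P i) := by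
    refine (M2.stalkEquiv bL (ClSub.idealMod 𝓓) z).injective ?_
    rw [map_smul, M2.stalkEquiv_tsec, M2.stalkEquiv_tsec, hEg, TensorProduct.smul_tmul, hDg, TensorProduct.tmul_smul]
  have ht' := congrArg ((CohB1.tensorMod bL (ClSub.idealMod 𝓓)).presheaf.germ W z hz) ht
  rw [M1.germ_smul, M1.germ_mres _ hi hz, M1.germ_mres _ hj hz, hPg] at ht'
  rw [hwh, ((hP i).stalk (hi hz)).1 ht']

end

end Groth.Agent.S8918
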