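import Groth.Statements.S8920
import Groth.Agent.Lib.Conormal2.Incl
import Groth.Agent.Lib.RegDesc11.Peel
import Groth.Agent.Lib.CI2.RImmBC
import Groth.Agent.Lib.CI2.KRPeel
import Groth.Agent.Lib.CI2.KoszulInv
import Groth.Agent.Lib.LimH13.KerFG
import Groth.Agent.Lib.ModM1.Stalk
import Groth.Agent.Lib.KoszShH13.Main
import Groth.Agent.Lib.SyntRank2.Basic

set_option autoImplicit false
set_option linter.style.haveILetI false
set_option backward.isDefEq.respectTransparency.types false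
set_option synthInstance.maxHeartbeats 400000
universe u
open CategoryTheory CategoryTheory.Limits AlgebraicGeometry TopologicalSpace
open SDiv

namespace Groth.Agent.S8920
open CategoryTheory CategoryTheory.Limits AlgebraicGeometry
open RegImm

open CategoryTheory CategoryTheory.Limits AlgebraicGeometry
open RegImm

open Groth.Agent TensorProduct

lemma smul_top_map {R R' M N : Type u} [CommRing R] [IsLocalRing R] [CommRing R'] [IsLocalRing R']
    [AddCommGroup M] [Module R M] [AddCommGroup N] [Module R' N] (σ : R ≃+* R') (e : M →+ N)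
    (he : ∀ a v, e (a • v) = σ a • e v) {v : M}
    (hv : v ∈ IsLocalRing.maximalIdeal R • (⊤ : Submodule R M)) :
    e v ∈ IsLocalRing.maximalIdeal R' • (⊤ : Submodule R' N) := by
  refine Submodule.smul_induction_on hv (fun r hr n _ => ?_) (fun a b ha hb => ?_)
  · rw [he]
    refine Submodule.smul_mem_smul ?_ trivial
    rw [IsLocalRing.mem_maximalIdeal, mem_nonunits_iff] at hr ⊢
    rwa [isUnit_map_iff σ]
  · rw [map_add]; exact add_mem ha hb

theorem mem_smul_top_of_section {Z : Scheme.{u}} {F G H : Z.Modules} (φ : F ⟶ G) (ψ : G ⟶ H) (w : φ ≫ ψ = 0)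
    (hS : (ShortComplex.mk φ ψ w).ShortExact) (U : Z.Opens)
    (r : (Scheme.Modules.restrictFunctor U.ι).obj H ⟶ (Scheme.Modules.restrictFunctor U.ι).obj G)
    (hr : r ≫ (Scheme.Modules.restrictFunctor U.ι).map ψ = 𝟙 _) {z : Z} (hz : z ∈ U)
    (v : (F.presheaf.stalk z : Type u))
    (hv : KFlat.Sch.stk φ z v ∈ IsLocalRing.maximalIdeal (Z.presheaf.stalk z) •
      (⊤ : Submodule (Z.presheaf.stalk z) (G.presheaf.stalk z : Type u))) :
    v ∈ IsLocalRing.maximalIdeal (Z.presheaf.stalk z) • (⊤ : Submodule (Z.presheaf.stalk z) (F.presheaf.stalk z : Type u)) := by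
  haveI : Mono φ := hS.mono_f
  let zU : (U : Scheme.{u}) := ⟨z, hz⟩
  let σ : (U : Scheme.{u}).presheaf.stalk zU ≃+* Z.presheaf.stalk z := (U.stalkIso zU).commRingCatIsoToRingEquiv
  let R : ↑(H.presheaf.stalk z) → ↑(G.presheaf.stalk z) := fun h =>
    SyntRank2.rsEquiv G U zU (KFlat.Sch.stk r zU ((SyntRank2.rsEquiv H U zU).symm h))
  have hRadd : ∀ h h', R (h + h') = R h + R h' := fun h h' => by simp only [R, map_add]
  have hRsmul : ∀ (a : Z.presheaf.stalk z) h, R (a • h) = a • R h := fun a h => by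
    obtain ⟨a', rfl⟩ := σ.surjective a
    obtain ⟨h', rfl⟩ := (SyntRank2.rsEquiv H U zU).surjective h
    show SyntRank2.rsEquiv G U zU _ = _
    rw [show σ a' • SyntRank2.rsEquiv H U zU h' = SyntRank2.rsEquiv H U zU (a' • h') from
      (SyntRank2.rsEquiv_smul H U zU a' h').symm]
    simp only [R, AddEquiv.symm_apply_apply, map_smul]
    exact SyntRank2.rsEquiv_smul G U zU a' _
  have hRsec : ∀ h, KFlat.Sch.stk ψ z (R h) = h := fun h => by
    obtain ⟨h', rfl⟩ := (SyntRank2.rsEquiv H U zU).surjective h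
    have hnat : ∀ y, SyntRank2.rsEquiv H U zU (KFlat.Sch.stk ((Scheme.Modules.restrictFunctor U.ι).map ψ) zU y) =
        KFlat.Sch.stk ψ z (SyntRank2.rsEquiv G U zU y) := fun y =>
      ConcreteCategory.congr_hom ((Scheme.Modules.restrictStalkNatIso U.ι zU).hom.naturality ψ) y
    have h3 : ∀ y, KFlat.Sch.stk ((Scheme.Modules.restrictFunctor U.ι).map ψ) zU (KFlat.Sch.stk r zU y) = y := fun y => by
      have := congrArg (fun q => (TopCat.Presheaf.stalkFunctor AddCommGrpCat zU).map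
        ((Scheme.Modules.toPresheaf (U : Scheme.{u})).map q)) hr
      simp only [Functor.map_comp, CategoryTheory.Functor.map_id] at this
      exact ConcreteCategory.congr_hom this y
    simp only [R, AddEquiv.symm_apply_apply]
    rw [← hnat, h3]
  have hψφ : ∀ u, KFlat.Sch.stk ψ z (KFlat.Sch.stk φ z u) = 0 := fun u => by
    have := congrArg (fun q => (TopCat.Presheaf.stalkFunctor AddCommGrpCat z).map
      ((Scheme.Modules.toPresheaf Z).map q)) w
    simp only [Functor.map_comp, Functor.map_zero] at this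
    exact ConcreteCategory.congr_hom this u
  have hex : ∀ b, KFlat.Sch.stk ψ z b = 0 → ∃ a, KFlat.Sch.stk φ z a = b := fun b hb =>
    KoszShH13.stLin_exact hS.exact z b hb
  suffices key : ∀ x ∈ IsLocalRing.maximalIdeal (Z.presheaf.stalk z) •
      (⊤ : Submodule (Z.presheaf.stalk z) (G.presheaf.stalk z : Type u)),
      ∃ y ∈ IsLocalRing.maximalIdeal (Z.presheaf.stalk z) • (⊤ : Submodule (Z.presheaf.stalk z) (F.presheaf.stalk z : Type u)),
        x = KFlat.Sch.stk φ z y + R (KFlat.Sch.stk ψ z x) by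
    obtain ⟨y, hy, hxy⟩ := key _ hv
    have h0 : R 0 = 0 := by simp only [R, map_zero]
    rw [hψφ, h0, add_zero] at hxy
    rwa [(M1.mono_iff_stalk φ).1 inferInstance z hxy]
  intro x hx
  refine Submodule.smul_induction_on hx (fun c hc g _ => ?_) ?_
  · obtain ⟨a, ha⟩ := hex (g - R (KFlat.Sch.stk ψ z g)) (by rw [map_sub, hRsec, sub_self])
    refine ⟨c • a, Submodule.smul_mem_smul hc trivial, ?_⟩
    rw [map_smul, ha, map_smul, hRsmul, smul_sub, sub_add_cancel]
  · rintro x x' ⟨y, hy, e⟩ ⟨y', hy', e'⟩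
    refine ⟨y + y', add_mem hy hy', ?_⟩
    rw [map_add, map_add, hRadd]
    conv_lhs => rw [e, e']
    abel

lemma mem_comap_smul_of_one_tmul_mem {R S M : Type u} [CommRing R] [CommRing S] [Algebra R S]
    [AddCommGroup M] [Module R M] (h : Function.Surjective (algebraMap R S)) {n : Ideal S} {m : M}
    (hm : (1 : S) ⊗ₜ[R] m ∈ n • (⊤ : Submodule S (S ⊗[R] M))) :
    m ∈ n.comap (algebraMap R S) • (⊤ : Submodule R M) := by
  have key : ∀ x ∈ n • (⊤ : Submodule S (S ⊗[R] M)),
      ∃ y ∈ n.comap (algebraMap R S) • (⊤ : Submodule R M), (1 : S) ⊗ₜ[R] y = x := by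
    intro x hx
    refine Submodule.smul_induction_on hx (fun r hr t _ => ?_) (fun a b ha hb => ?_)
    · obtain ⟨y, rfl⟩ := TensorProduct.mk_surjective R M S h t
      obtain ⟨r', rfl⟩ := h r
      exact ⟨r' • y, Submodule.smul_mem_smul hr trivial, by
        rw [TensorProduct.mk_apply, tmul_smul, algebraMap_smul]⟩
    · obtain ⟨y, hy, rfl⟩ := ha
      obtain ⟨y', hy', rfl⟩ := hb
      exact ⟨y + y', add_mem hy hy', tmul_add _ _ _⟩
  obtain ⟨y, hy, hyx⟩ := key _ hm
  have h2 := Conormal2.mem_smul_top_of_one_tmul_eq_zero h (m := m - y) (by rw [tmul_sub, hyx, sub_self])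
  have h3 : RingHom.ker (algebraMap R S) ≤ n.comap (algebraMap R S) := fun a ha => by
    rw [Ideal.mem_comap, show algebraMap R S a = 0 from ha]; exact zero_mem _
  simpa using add_mem (Submodule.smul_mono h3 le_rfl h2) hy

lemma coeff_mem {X Y Z : Scheme.{u}} (i : Y ⟶ X) [IsImmersion i] [QuasiCompact i] (j : Z ⟶ Y) [IsImmersion j] [QuasiCompact j]
    (φ₁ : (Scheme.Modules.pullback j).obj (Omega.conormal i) ⟶ Omega.conormal (j ≫ i))
    (hφ₁ : OmegaSh.IsConormalMap (j ≫ i) i (𝟙 X) j φ₁) (z : Z)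
    (hret : ∀ w, KFlat.Sch.stk φ₁ z w ∈ IsLocalRing.maximalIdeal (Z.presheaf.stalk z) • (⊤ : Submodule (Z.presheaf.stalk z) _) →
      w ∈ IsLocalRing.maximalIdeal (Z.presheaf.stalk z) • (⊤ : Submodule (Z.presheaf.stalk z) _))
    (a : X.presheaf.stalk (i (j z))) (haI : a ∈ RingHom.ker (i.stalkMap (j z)).hom)
    (haK : a ∈ IsLocalRing.maximalIdeal (X.presheaf.stalk (i (j z))) *
      (RingHom.ker ((j ≫ i).stalkMap z).hom : Ideal (X.presheaf.stalk (i (j z))))) :
    a ∈ IsLocalRing.maximalIdeal (X.presheaf.stalk (i (j z))) * RingHom.ker (i.stalkMap (j z)).hom := by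
  obtain ⟨m, rfl⟩ := Conormal2.exists_incl_eq i (j z) a haI
  obtain ⟨V, hV, s, rfl⟩ := (ClSub.idealMod i.ker).presheaf.exists_germ_eq m
  rw [Conormal2.incl_germ] at haK
  obtain ⟨t, ht⟩ := GrMap12.exists_idealSect_of_app_eq_zero (j ≫ i) (M2.idealIncl i.ker s) (by
    rw [Scheme.Hom.comp_app]
    exact (congrArg (j.app (i ⁻¹ᵁ V)) (GrMap12.app_idealIncl_zero i s)).trans (map_zero _))
  -- the germ of `t` lies in `m • ⊤`
  have hsurj : ∀ b ∈ RingHom.ker ((j ≫ i).stalkMap z).hom, ∃ n, Conormal2.incl (j ≫ i) ((j ≫ i) z) n = b :=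
    fun b hb => Conormal2.exists_incl_eq (j ≫ i) z b hb
  have hle : IsLocalRing.maximalIdeal (X.presheaf.stalk ((j ≫ i) z)) * RingHom.ker ((j ≫ i).stalkMap z).hom ≤
      Submodule.map (Conormal2.incl (j ≫ i) ((j ≫ i) z)) (IsLocalRing.maximalIdeal (X.presheaf.stalk ((j ≫ i) z)) • ⊤) := by
    rw [Ideal.mul_le]
    intro r hr b hb
    obtain ⟨n, rfl⟩ := hsurj b hb
    exact ⟨r • n, Submodule.smul_mem_smul hr trivial, by rw [map_smul, smul_eq_mul]⟩
  have haK' : X.presheaf.germ V ((j ≫ i) z) hV (M2.idealIncl (j ≫ i).ker t) ∈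
      IsLocalRing.maximalIdeal (X.presheaf.stalk ((j ≫ i) z)) * RingHom.ker ((j ≫ i).stalkMap z).hom := by
    rw [ht]; exact haK
  obtain ⟨n, hn, hne⟩ := hle haK'
  rw [← Conormal2.incl_germ] at hne
  rw [Conormal2.incl_injective (j ≫ i) _ hne] at hn
  -- so does its class
  have hcl : M2.pullStalkEquiv (j ≫ i) z (ClSub.idealMod (j ≫ i).ker)
      (1 ⊗ₜ (ClSub.idealMod (j ≫ i).ker).presheaf.germ V ((j ≫ i) z) hV t) ∈
      IsLocalRing.maximalIdeal (Z.presheaf.stalk z) • (⊤ : Submodule (Z.presheaf.stalk z) _) := by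
    refine Submodule.smul_induction_on hn (fun r hr y _ => ?_) (fun a b ha hb => ?_)
    · rw [tmul_smul, ← algebraMap_smul (Z.presheaf.stalk z) r, map_smul]
      refine Submodule.smul_mem_smul ?_ trivial
      rw [IsLocalRing.mem_maximalIdeal, mem_nonunits_iff] at hr ⊢
      exact fun hu => hr ((isUnit_map_iff ((j ≫ i).stalkMap z).hom r).1 hu)
    · rw [tmul_add, map_add]; exact add_mem ha hb
  rw [M2.pullStalkEquiv_tmul] at hcl
  have e0 : ∀ (G : Z.Modules) (O : Z.Opens) (m : Γ(G, O)), M1.mres G (le_rfl : O ≤ O) m = m :=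
    fun G O m => ConcreteCategory.congr_hom (G.presheaf.map_id (Opposite.op O)) m
  have hφ : φ₁.app (j ⁻¹ᵁ (i ⁻¹ᵁ V)) (OmegaSh.pullSect j _ (i ⁻¹ᵁ V) (OmegaSh.conormalSect i V s)) =
      OmegaSh.conormalSect (j ≫ i) V t :=
    (e0 _ _ _).symm.trans ((hφ₁.2 V s t ht _ le_rfl le_rfl).trans (e0 _ _ _))
  let u : (Y.presheaf.stalk (j z)) ⊗[X.presheaf.stalk (i (j z))]
      ((ClSub.idealMod i.ker).presheaf.stalk (i (j z)) : Type u) :=
    1 ⊗ₜ (ClSub.idealMod i.ker).presheaf.germ V (i (j z)) hV s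
  have hw := hret (M2.pullStalkEquiv j z (Omega.conormal i) (1 ⊗ₜ M2.pullStalkEquiv i (j z) (ClSub.idealMod i.ker) u)) (by
    rw [M2.pullStalkEquiv_tmul]
    erw [M2.pullStalkEquiv_tmul j z (Omega.conormal i) (U := i ⁻¹ᵁ V) hV]
    refine (congrArg (· ∈ _) ?_).mpr hcl
    refine (TopCat.Presheaf.stalkFunctor_map_germ_apply (j ⁻¹ᵁ (i ⁻¹ᵁ V)) z hV
      ((Scheme.Modules.toPresheaf Z).map φ₁) _).trans ?_
    exact congrArg (fun q => (Omega.conormal (j ≫ i)).presheaf.germ (j ⁻¹ᵁ (i ⁻¹ᵁ V)) z hV q) hφ)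
  have hw2 : (1 : Z.presheaf.stalk z) ⊗ₜ[Y.presheaf.stalk (j z)] M2.pullStalkEquiv i (j z) (ClSub.idealMod i.ker) u ∈
      IsLocalRing.maximalIdeal (Z.presheaf.stalk z) • (⊤ : Submodule (Z.presheaf.stalk z) _) := by
    have := Submodule.mem_map_of_mem (f := (M2.pullStalkEquiv j z (Omega.conormal i)).symm.toLinearMap) hw
    rw [Submodule.map_smul'', LinearEquiv.coe_coe, LinearEquiv.symm_apply_apply] at this
    exact Submodule.smul_mono le_rfl le_top this
  have hw3 := mem_comap_smul_of_one_tmul_mem (j.stalkMap_surjective z) hw2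
  have hc1 : (IsLocalRing.maximalIdeal (Z.presheaf.stalk z)).comap
      (algebraMap (Y.presheaf.stalk (j z)) (Z.presheaf.stalk z)) ≤ IsLocalRing.maximalIdeal _ :=
    IsLocalRing.le_maximalIdeal (Ideal.comap_ne_top _ (IsLocalRing.maximalIdeal.isMaximal _).ne_top)
  have hw4 : u ∈ IsLocalRing.maximalIdeal (Y.presheaf.stalk (j z)) • (⊤ : Submodule (Y.presheaf.stalk (j z)) _) := by
    have := Submodule.mem_map_of_mem (f := (M2.pullStalkEquiv i (j z) (ClSub.idealMod i.ker)).symm.toLinearMap)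
      (Submodule.smul_mono hc1 le_rfl hw3)
    rw [Submodule.map_smul'', LinearEquiv.coe_coe, LinearEquiv.symm_apply_apply] at this
    exact Submodule.smul_mono le_rfl le_top this
  have hw5 := mem_comap_smul_of_one_tmul_mem (i.stalkMap_surjective (j z)) hw4
  have hc2 : (IsLocalRing.maximalIdeal (Y.presheaf.stalk (j z))).comap
      (algebraMap (X.presheaf.stalk (i (j z))) (Y.presheaf.stalk (j z))) ≤ IsLocalRing.maximalIdeal _ :=
    IsLocalRing.le_maximalIdeal (Ideal.comap_ne_top _ (IsLocalRing.maximalIdeal.isMaximal _).ne_top)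
  refine Submodule.smul_induction_on (Submodule.smul_mono hc2 le_rfl hw5) (fun r hr y _ => ?_) (fun a b ha hb => ?_)
  · rw [map_smul, smul_eq_mul]
    exact Ideal.mul_mem_mul hr (Conormal2.incl_mem_ker i (j z) y)
  · rw [map_add]; exact add_mem ha hb

lemma ker_stalkMap_eq {X Y : Scheme.{u}} (j : Y ⟶ X) {U : X.Opens} (hU : IsAffineOpen U) [IsClosedImmersion (j ∣_ U)]
    (z : Y) (hz : j z ∈ U) :
    RingHom.ker (j.stalkMap z).hom = (RingHom.ker (j.app U).hom).map (X.presheaf.germ U (j z) hz).hom := by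
  obtain ⟨hW, hs⟩ := CI2.surjective_app_of_closed j hU
  let L := X.presheaf.stalk (j z)
  letI : Algebra Γ(X, U) L := X.presheaf.algebra_section_stalk (⟨j z, hz⟩ : U)
  haveI : IsLocalization.AtPrime L (hU.primeIdealOf ⟨j z, hz⟩).asIdeal := hU.isLocalization_stalk ⟨j z, hz⟩
  letI : Algebra Γ(Y, j ⁻¹ᵁ U) (Y.presheaf.stalk z) := Y.presheaf.algebra_section_stalk (⟨z, hz⟩ : (j ⁻¹ᵁ U : Y.Opens))
  haveI : IsLocalization.AtPrime (Y.presheaf.stalk z) (hW.primeIdealOf ⟨z, hz⟩).asIdeal := hW.isLocalization_stalk ⟨z, hz⟩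
  have hgerm : ∀ a : Γ(X, U), (j.stalkMap z).hom (algebraMap Γ(X, U) L a) =
      algebraMap Γ(Y, j ⁻¹ᵁ U) (Y.presheaf.stalk z) ((j.app U).hom a) := fun a =>
    Scheme.Hom.germ_stalkMap_apply j U z hz a
  have hp : hU.primeIdealOf ⟨j z, hz⟩ = (hW.primeIdealOf ⟨z, hz⟩).comap (j.app U).hom := by
    rw [← IsAffineOpen.comap_primeIdealOf_appLE U hU (j ⁻¹ᵁ U) hW le_rfl hz, Scheme.Hom.app_eq_appLE]
  show _ = (RingHom.ker (j.app U).hom).map (algebraMap Γ(X, U) L)
  refine le_antisymm (fun x hx => ?_) (Ideal.map_le_iff_le_comap.2 fun a ha => ?_)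
  · obtain ⟨a, s, rfl⟩ := IsLocalization.exists_mk'_eq (hU.primeIdealOf ⟨j z, hz⟩).asIdeal.primeCompl x
    rw [IsLocalization.mk'_mem_iff]
    have h0 : (j.stalkMap z).hom (algebraMap Γ(X, U) L a) = 0 := by
      rw [← IsLocalization.mk'_spec L a s, map_mul, show (j.stalkMap z).hom (IsLocalization.mk' L a s) = 0 from hx,
        zero_mul]
    rw [hgerm, IsLocalization.map_eq_zero_iff (hW.primeIdealOf ⟨z, hz⟩).asIdeal.primeCompl] at h0
    obtain ⟨⟨t, ht⟩, hta⟩ := h0
    obtain ⟨t', rfl⟩ := hs t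
    have ht' : t' ∈ (hU.primeIdealOf ⟨j z, hz⟩).asIdeal.primeCompl := by rw [hp]; exact ht
    refine (Ideal.unit_mul_mem_iff_mem _ (IsLocalization.map_units L ⟨t', ht'⟩)).1 ?_
    rw [← map_mul]
    refine Ideal.mem_map_of_mem _ ?_
    rw [RingHom.mem_ker, map_mul]
    exact hta
  · show (j.stalkMap z).hom (algebraMap Γ(X, U) L a) = 0
    rw [hgerm, show (j.app U).hom a = 0 from ha, map_zero]

theorem mem_ofList_eraseIdx {A : Type u} [CommRing A] (F : List A) (i : Fin F.length) {j : Fin F.length} (h : j ≠ i) :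
    F.get j ∈ Ideal.ofList (F.eraseIdx i) := by
  refine Ideal.subset_span ?_
  show F.get j ∈ F.eraseIdx i
  rw [List.mem_eraseIdx_iff_getElem]
  exact ⟨j, j.2, fun e => h (Fin.ext e), rfl⟩

/-- Generators near a prime none of which can be dropped. -/
theorem exists_minimal_gens {A : Type u} [CommRing A] (q : Ideal A) [q.IsPrime] {J : Ideal A} (hfg : J.FG) :
    ∃ F : List A, (∀ x ∈ F, x ∈ J) ∧ (∃ t ∉ q, ∀ x ∈ J, t * x ∈ Ideal.ofList F) ∧
      ∀ a : Fin F.length → A, (∃ s ∉ q, s * ∑ j, a j * F.get j ∈ q * J) → ∀ j, a j ∈ q := by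
  classical
  have hP : ∃ n, ∃ F : List A, F.length = n ∧ (∀ x ∈ F, x ∈ J) ∧ ∃ t ∉ q, ∀ x ∈ J, t * x ∈ Ideal.ofList F := by
    obtain ⟨S, rfl⟩ := hfg
    refine ⟨_, S.toList, rfl, fun x hx => Ideal.subset_span (Finset.mem_toList.1 hx), 1, q.one_notMem, fun x hx => ?_⟩
    rw [one_mul]
    exact Ideal.span_mono (fun y hy => Finset.mem_toList.2 hy) hx
  obtain ⟨F, hlen, hFJ, t, ht, htJ⟩ := Nat.find_spec hP
  refine ⟨F, hFJ, ⟨t, ht, htJ⟩, fun a ha i => ?_⟩
  obtain ⟨s, hs, hsa⟩ := ha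
  by_contra hai
  have hle : ∀ x ∈ q * J, t * x ∈ q * Ideal.ofList F := fun x hx => by
    refine Submodule.mul_induction_on hx (fun u hu v hv => ?_) (fun u v hu hv => by rw [mul_add]; exact add_mem hu hv)
    rw [mul_left_comm]
    exact Ideal.mul_mem_mul hu (htJ v hv)
  have h2 := hle _ hsa
  rw [show Ideal.ofList F = Ideal.span (Set.range F.get) by rw [Set.range_list_get], ← smul_eq_mul,
    Submodule.mem_ideal_smul_span_iff_exists_sum] at h2
  obtain ⟨b, hb, hsum⟩ := h2
  rw [Finsupp.sum_fintype b (fun i c => c • F.get i) (fun _ => zero_smul _ _)] at hsum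
  let c := t * s * a i - b i
  have hc : c ∉ q := fun hc => by
    have h3 := add_mem hc (hb i)
    rw [sub_add_cancel] at h3
    exact ((inferInstance : q.IsPrime).mem_or_mem h3).elim
      (fun h => ((inferInstance : q.IsPrime).mem_or_mem h).elim ht hs) hai
  have hci : c * F.get i ∈ Ideal.ofList (F.eraseIdx i) := by
    have h0 : ∑ j, (t * s * a j - b j) * F.get j = 0 := by
      simp only [sub_mul, Finset.sum_sub_distrib, mul_assoc, ← Finset.mul_sum]
      rw [sub_eq_zero]
      simpa [smul_eq_mul] using hsum.symm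
    rw [← Finset.add_sum_erase _ _ (Finset.mem_univ i)] at h0
    rw [eq_neg_of_add_eq_zero_left h0]
    exact neg_mem (Ideal.sum_mem _ fun j hj => Ideal.mul_mem_left _ _ (mem_ofList_eraseIdx F i (Finset.ne_of_mem_erase hj)))
  have hlt : (F.eraseIdx i).length < Nat.find hP := by
    rw [← hlen, List.length_eraseIdx_of_lt i.2]; have := i.2; omega
  refine Nat.find_min hP hlt ⟨_, rfl, fun x hx => hFJ x (List.mem_of_mem_eraseIdx hx), c * t,
    fun h => ((inferInstance : q.IsPrime).mem_or_mem h).elim hc ht, fun x hx => ?_⟩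
  rw [mul_assoc]
  have hall : ∀ y ∈ Ideal.ofList F, c * y ∈ Ideal.ofList (F.eraseIdx i) := fun y hy => by
    refine Submodule.span_induction (fun y hy => ?_) (by simp)
      (fun a b _ _ ha hb => by rw [mul_add]; exact add_mem ha hb)
      (fun a b _ hb => by rw [smul_eq_mul, mul_left_comm]; exact Ideal.mul_mem_left _ _ hb) hy
    obtain ⟨j, rfl⟩ := List.mem_iff_get.1 hy
    by_cases hj : j = i
    · exact hj ▸ hci
    · exact Ideal.mul_mem_left _ _ (mem_ofList_eraseIdx F i hj)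
  exact hall _ (htJ x hx)

section ring

variable {A B : Type u} [CommRing A] [CommRing B] (σ : A →+* B) (hσ : Function.Surjective σ) (J' : Ideal B)
  (hfg : (RingHom.ker σ).FG) (q : Ideal A) [q.IsPrime]
  (H : ∀ a ∈ RingHom.ker σ, ∀ s ∉ q, s * a ∈ q * J'.comap σ → ∃ s' ∉ q, s' * a ∈ q * RingHom.ker σ)

include hfg H in
theorem exists_indep_gens : ∃ F : List A, (∀ x ∈ F, x ∈ RingHom.ker σ) ∧
    (∃ t ∉ q, ∀ x ∈ RingHom.ker σ, t * x ∈ Ideal.ofList F) ∧ CI2.Indep q (J'.comap σ) F := by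
  obtain ⟨F, hFJ, htF, hmin⟩ := exists_minimal_gens q hfg
  refine ⟨F, hFJ, htF, fun a ha => hmin a ?_⟩
  exact H _ (Ideal.sum_mem _ fun j _ => Ideal.mul_mem_left _ _ (hFJ _ (F.get_mem j))) 1 q.one_notMem
    (by rwa [one_mul])

omit H in
theorem map_ker_eq {g t : A} (F : List A) (hF : ∀ x ∈ F, x ∈ RingHom.ker σ)
    (htF : ∀ x ∈ RingHom.ker σ, t * x ∈ Ideal.ofList F) (hd : t ∣ g) :
    (RingHom.ker σ).map (algebraMap A (Localization.Away g)) = Ideal.ofList (F.map (algebraMap A (Localization.Away g))) := by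
  rw [← Ideal.map_ofList]
  refine le_antisymm (Ideal.map_le_iff_le_comap.2 fun x hx => ?_) (Ideal.map_mono (Ideal.span_le.2 hF))
  rw [Ideal.mem_comap, ← Ideal.unit_mul_mem_iff_mem _ (CI2.isUnit_away_of_dvd hd), ← map_mul]
  exact Ideal.mem_map_of_mem _ (htF x hx)

include hσ in
omit H in
theorem push {g : A} {F rest : List A}
    (hτk : (RingHom.ker σ).map (algebraMap A (Localization.Away g)) = Ideal.ofList (F.map (algebraMap A (Localization.Away g))))
    (hspan : (J'.comap σ).map (algebraMap A (Localization.Away g)) =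
      Ideal.ofList ((F ++ rest).map (algebraMap A (Localization.Away g)))) :
    ∃ τ : Localization.Away g →+* Localization.Away (σ g), Function.Surjective τ ∧
      RingHom.ker τ = Ideal.ofList (F.map (algebraMap A (Localization.Away g))) ∧
      J'.map (algebraMap B (Localization.Away (σ g))) = Ideal.ofList ((rest.map (algebraMap A (Localization.Away g))).map τ) := by
  let G := Localization.Away g
  have hmap : (Submonoid.powers g).map σ = Submonoid.powers (σ g) := Submonoid.map_powers σ g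
  haveI : IsLocalization ((Submonoid.powers g).map σ) (Localization.Away (σ g)) := by rw [hmap]; infer_instance
  let τ := CI2.awayσ σ g
  have hτs : Function.Surjective τ := IsLocalization.map_surjective_of_surjective (M := Submonoid.powers g) (g := σ)
    (S := G) (Q := Localization.Away (σ g)) hσ
  have hτk' : RingHom.ker τ = Ideal.ofList (F.map (algebraMap A G)) :=
    (IsLocalization.ker_map (S := G) (Localization.Away (σ g)) σ hmap).trans hτk
  have hτcomp : τ.comp (algebraMap A G) = (algebraMap B (Localization.Away (σ g))).comp σ :=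
    IsLocalization.map_comp (M := Submonoid.powers g) (S := G) _
  refine ⟨τ, hτs, hτk', ?_⟩
  have h5 := congrArg (Ideal.map τ) hspan
  rw [Ideal.map_map, hτcomp, ← Ideal.map_map, Ideal.map_comap_of_surjective σ hσ, List.map_append, Ideal.ofList_append,
    Ideal.map_sup, ← hτk', (Ideal.map_eq_bot_iff_le_ker τ).2 le_rfl, bot_sup_eq, Ideal.map_ofList] at h5
  exact h5

include hσ hfg H in
theorem exists_seq_near {K : RegImm.Kind} (hK : K = .h1 ∨ K = .quasi) (hKI : RegDesc11.IsKindIdeal K (J'.comap σ))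
    (hq : J'.comap σ ≤ q) :
    ∃ g ∉ q, ∃ l : List (Localization.Away (σ g)), K.Seq (Localization.Away (σ g)) l ∧
      J'.map (algebraMap B (Localization.Away (σ g))) = Ideal.ofList l := by
  obtain ⟨F, hFJ, ⟨t, ht, htF⟩, hind⟩ := exists_indep_gens σ J' hfg q H
  have hFK : ∀ x ∈ F, x ∈ J'.comap σ := fun x hx => Ideal.comap_mono bot_le (hFJ x hx)
  obtain ⟨g0, hg0, rest, -, hseq, hspan⟩ := RegDesc11.exists_seq_completion hK q hKI hq hFK hind
  let g := t * g0
  have hu : IsUnit (algebraMap A (Localization.Away g) g0) := CI2.isUnit_away_of_dvd (Dvd.intro_left t rfl)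
  let ρ : Localization.Away g0 →+* Localization.Away g := IsLocalization.Away.lift g0 hu
  have hρ : ρ.comp (algebraMap A (Localization.Away g0)) = algebraMap A (Localization.Away g) :=
    IsLocalization.Away.lift_comp g0 hu
  letI : Algebra (Localization.Away g0) (Localization.Away g) := ρ.toAlgebra
  haveI : IsScalarTower A (Localization.Away g0) (Localization.Away g) := IsScalarTower.of_algebraMap_eq' hρ.symm
  haveI : Module.Flat (Localization.Away g0) (Localization.Away g) :=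
    (Module.flat_iff_of_isLocalization (Localization.Away g0) (Submonoid.powers g0) _).2
      (IsLocalization.flat _ (Submonoid.powers g))
  have hseq' := RegDesc11.seq_map_flat hK (B := Localization.Away g) hseq
  rw [List.map_map, ← RingHom.coe_comp, show (algebraMap (Localization.Away g0) (Localization.Away g)).comp
    (algebraMap A (Localization.Away g0)) = algebraMap A (Localization.Away g) from hρ, List.map_append] at hseq'
  obtain ⟨τ, hτs, hτk, hJ⟩ := push σ hσ J' (g := g) (F := F) (rest := rest)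
    (map_ker_eq σ F hFJ htF (Dvd.intro g0 rfl)) (CI2.map_away_eq_of_isUnit hu hspan)
  exact ⟨g, fun h => ((inferInstance : q.IsPrime).mem_or_mem h).elim ht hg0, _,
    RegDesc11.seq_tail hK _ τ hτs _ _ rfl hτk hseq', hJ⟩

include hσ hfg H in
theorem exists_ex_near (hJ : LCI.IsKoszulRegularIdeal (RingHom.ker σ))
    (hKI : LCI.IsKoszulRegularIdeal (J'.comap σ)) (hq : J'.comap σ ≤ q) :
    ∃ g ∉ q, ∃ l : List (Localization.Away (σ g)), CI2.Ex (Localization.Away (σ g)) (Localization.Away (σ g)) l ∧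
      J'.map (algebraMap B (Localization.Away (σ g))) = Ideal.ofList l := by
  obtain ⟨F, hFJ, ⟨t, ht, htF⟩, hind⟩ := exists_indep_gens σ J' hfg q H
  have hle : RingHom.ker σ ≤ J'.comap σ := Ideal.comap_mono bot_le
  obtain ⟨g1, hg1, rest, -, hex, hspan, -⟩ := CI2.exists_ex_completion q hKI hq (fun x hx => hle (hFJ x hx)) hind
  obtain ⟨g0, hg0, rest0, -, hex0, hspan0, -⟩ := CI2.exists_ex_completion q hJ (hle.trans hq) (F := F) hFJ
    (fun a ha => hind a (Ideal.mul_mono_right hle ha))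
  let g := t * g1 * g0
  have hu1 : IsUnit (algebraMap A (Localization.Away g) g1) :=
    CI2.isUnit_away_of_dvd ((Dvd.intro_left t rfl).trans (Dvd.intro g0 rfl))
  have hu0 : IsUnit (algebraMap A (Localization.Away g) g0) := CI2.isUnit_away_of_dvd (Dvd.intro_left (t * g1) rfl)
  have hg : g ∉ q := fun h => ((inferInstance : q.IsPrime).mem_or_mem h).elim
    (fun h => ((inferInstance : q.IsPrime).mem_or_mem h).elim ht hg1) hg0
  have hker := map_ker_eq σ F hFJ htF (g := g) ((Dvd.intro g1 rfl).trans (Dvd.intro g0 rfl))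
  have hexA := CI2.ex_away_of_isUnit hu1 hex
  have hspanA := CI2.map_away_eq_of_isUnit hu1 hspan
  have hex0A := CI2.ex_away_of_isUnit hu0 hex0
  have hspan0A := CI2.map_away_eq_of_isUnit hu0 hspan0
  have hne : Ideal.ofList ((rest0 ++ F).map (algebraMap A (Localization.Away g))) ≠ ⊤ := fun he => by
    rw [← hspan0A] at he
    obtain ⟨s, ⟨n, hn⟩, hs⟩ := (IsLocalization.algebraMap_mem_map_algebraMap_iff (Submonoid.powers g) (Localization.Away g)
      (RingHom.ker σ) 1).mp (by rw [he]; trivial)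
    subst hn
    rw [mul_one] at hs
    exact hg ((inferInstance : q.IsPrime).mem_of_pow_mem n (hle.trans hq hs))
  have hlen := CI2.length_le_of_ofList_eq (l' := F.map (algebraMap A (Localization.Away g))) hex0A hne
    (hker.symm.trans hspan0A)
  obtain rfl : rest0 = [] := List.length_eq_zero_iff.1 (by simp only [List.length_map, List.length_append] at hlen; omega)
  rw [List.nil_append] at hex0A
  rw [List.map_append] at hexA hspanA
  obtain ⟨τ, hτs, hτk, hJ'⟩ := push σ hσ J' (g := g) (F := F) (rest := rest) hker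
    (by rw [hspanA, List.map_append, Ideal.ofList_append, Ideal.ofList_append, sup_comm])
  exact ⟨g, hg, _, CI2.ex_of_append_of_surjective τ hτs hτk hex0A hexA, hJ'⟩

end ring

theorem near_hyp {X Y Z : Scheme.{u}} (j : Y ⟶ X) [IsImmersion j] [QuasiCompact j] (i : Z ⟶ Y) [IsImmersion i]
    [QuasiCompact i] (a : (Scheme.Modules.pullback i).obj (Omega.conormal j) ⟶ Omega.conormal (i ≫ j))
    (ha : OmegaSh.IsConormalMap (i ≫ j) j (𝟙 X) i a) {U : X.Opens} (hU : IsAffineOpen U)
    [IsClosedImmersion (j ∣_ U)] [IsClosedImmersion ((i ≫ j) ∣_ U)] (z : Z) (hz : (i ≫ j) z ∈ U)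
    (hret : ∀ w, KFlat.Sch.stk a z w ∈ IsLocalRing.maximalIdeal (Z.presheaf.stalk z) • (⊤ : Submodule (Z.presheaf.stalk z) _) →
      w ∈ IsLocalRing.maximalIdeal (Z.presheaf.stalk z) • (⊤ : Submodule (Z.presheaf.stalk z) _)) :
    ∀ x ∈ RingHom.ker (j.app U).hom, ∀ s ∉ (hU.primeIdealOf ⟨(i ≫ j) z, hz⟩).asIdeal,
      s * x ∈ (hU.primeIdealOf ⟨(i ≫ j) z, hz⟩).asIdeal * RingHom.ker ((i ≫ j).app U).hom →
      ∃ s' ∉ (hU.primeIdealOf ⟨(i ≫ j) z, hz⟩).asIdeal,
        s' * x ∈ (hU.primeIdealOf ⟨(i ≫ j) z, hz⟩).asIdeal * RingHom.ker (j.app U).hom := by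
  intro x hx s hs hsx
  let q := (hU.primeIdealOf ⟨(i ≫ j) z, hz⟩).asIdeal
  let L := X.presheaf.stalk (j (i z))
  letI : Algebra Γ(X, U) L := X.presheaf.algebra_section_stalk (⟨j (i z), hz⟩ : U)
  haveI : IsLocalization.AtPrime L q := hU.isLocalization_stalk ⟨j (i z), hz⟩
  have hqm : q.map (algebraMap Γ(X, U) L) = IsLocalRing.maximalIdeal L := IsLocalization.AtPrime.map_eq_maximalIdeal q L
  have hkj : RingHom.ker (j.stalkMap (i z)).hom = (RingHom.ker (j.app U).hom).map (algebraMap Γ(X, U) L) :=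
    ker_stalkMap_eq j hU (i z) hz
  have hkc : (RingHom.ker ((i ≫ j).stalkMap z).hom : Ideal L) =
      (RingHom.ker ((i ≫ j).app U).hom).map (algebraMap Γ(X, U) L) := ker_stalkMap_eq (i ≫ j) hU z hz
  have h1 : algebraMap Γ(X, U) L x ∈ IsLocalRing.maximalIdeal L * RingHom.ker (j.stalkMap (i z)).hom := by
    refine coeff_mem j i a ha z hret _ ?_ ?_
    · rw [hkj]; exact Ideal.mem_map_of_mem _ hx
    · show algebraMap Γ(X, U) L x ∈ IsLocalRing.maximalIdeal L * (RingHom.ker ((i ≫ j).stalkMap z).hom : Ideal L)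
      rw [← Ideal.unit_mul_mem_iff_mem _ (IsLocalization.map_units (M := q.primeCompl) L ⟨s, hs⟩), ← map_mul, hkc, ← hqm,
        ← Ideal.map_mul]
      exact Ideal.mem_map_of_mem _ hsx
  rw [hkj, ← hqm, ← Ideal.map_mul, IsLocalization.algebraMap_mem_map_algebraMap_iff q.primeCompl L] at h1
  obtain ⟨s', hs', h⟩ := h1
  exact ⟨s', hs', h⟩

theorem at_point {K : RegImm.Kind} {X Y Z : Scheme.{u}} (j : Y ⟶ X) [IsImmersion j] [QuasiCompact j]
    [LocallyOfFinitePresentation j] (i : Z ⟶ Y) [IsImmersion i] [QuasiCompact i]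
    (z : Z) (P : ∀ (B : Type u) [CommRing B], List B → Prop)
    (conv : ∀ {U : Y.Opens} (g : Γ(Y, U)), IsAffineOpen U → ∀ l : List (Localization.Away g), P _ l →
      ∀ e : Localization.Away g ≃+* Γ(Y, Y.basicOpen g), K.Seq Γ(Y, Y.basicOpen g) (l.map e))
    (h : ∀ {U : X.Opens} (hU : IsAffineOpen U) (_ : IsClosedImmersion (j ∣_ U)) (_ : IsClosedImmersion ((i ≫ j) ∣_ U))
      (hz : (i ≫ j) z ∈ U), Function.Surjective (j.app U).hom → (RingHom.ker (j.app U).hom).FG →
      (RingHom.ker (i.app (j ⁻¹ᵁ U)).hom).comap (j.app U).hom = RingHom.ker ((i ≫ j).app U).hom →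
      ∃ g ∉ (hU.primeIdealOf ⟨(i ≫ j) z, hz⟩).asIdeal, ∃ l : List (Localization.Away ((j.app U).hom g)),
        P _ l ∧ (RingHom.ker (i.app (j ⁻¹ᵁ U)).hom).map
          (algebraMap Γ(Y, j ⁻¹ᵁ U) (Localization.Away ((j.app U).hom g))) = Ideal.ofList l) :
    RegImm.IsRegularImmersionAt K i z := by
  obtain ⟨U1, hU1, hz1, -, hcl1⟩ := CI2.exists_affine_closed j (i z) (V := ⊤) trivial
  obtain ⟨U, hU, hzU, hUle, hcl⟩ := CI2.exists_affine_closed (i ≫ j) z (V := U1) hz1
  haveI := hcl1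
  haveI := hcl
  haveI hclj : IsClosedImmersion (j ∣_ U) := CI2.isClosedImmersion_restrict_of_le j hUle
  obtain ⟨hW, hs⟩ := CI2.surjective_app_of_closed j hU
  haveI hcli : IsClosedImmersion (i ∣_ (j ⁻¹ᵁ U)) := by
    haveI : IsClosedImmersion ((i ∣_ (j ⁻¹ᵁ U)) ≫ (j ∣_ U)) := by rw [← morphismRestrict_comp]; exact hcl
    exact IsClosedImmersion.of_comp _ (j ∣_ U)
  have hfg : (RingHom.ker (j.app U).hom).FG := by
    refine LimH13.ker_fg_of_surjective _ hs ?_
    have h1 := HasRingHomProperty.appLE (P := @LocallyOfFinitePresentation.{u}) j inferInstance ⟨U, hU⟩ ⟨_, hW⟩ le_rfl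
    rwa [← Scheme.Hom.app_eq_appLE] at h1
  obtain ⟨g, hg, l, hl, hspan⟩ := h hU hclj hcl hzU hs hfg (by rw [RingHom.comap_ker, Scheme.Hom.comp_app]; rfl)
  let b := (j.app U).hom g
  haveI := hW.isLocalization_basicOpen b
  let e : Localization.Away b ≃ₐ[Γ(Y, j ⁻¹ᵁ U)] Γ(Y, Y.basicOpen b) :=
    IsLocalization.algEquiv (Submonoid.powers b) _ _
  refine ⟨⟨Y.basicOpen b, hW.basicOpen b⟩, ?_, CI2.isClosedImmersion_restrict_of_le i (Y.basicOpen_le b),
    l.map e.toRingEquiv, conv b hW l hl e.toRingEquiv, ?_⟩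
  · show i z ∈ Y.basicOpen b
    rw [← Scheme.preimage_basicOpen]
    show j (i z) ∈ X.basicOpen g
    have h1 := hU.fromSpec_preimage_basicOpen g
    have h2 : hU.primeIdealOf ⟨(i ≫ j) z, hzU⟩ ∈ hU.fromSpec ⁻¹ᵁ X.basicOpen g := by rw [h1]; exact hg
    have h3 : hU.fromSpec (hU.primeIdealOf ⟨(i ≫ j) z, hzU⟩) ∈ X.basicOpen g := h2
    rwa [hU.fromSpec_primeIdealOf] at h3
  · refine (CI2.ker_app_basicOpen i hW b rfl (Y.basicOpen_le b)).trans ?_
    rw [show l.map e.toRingEquiv = l.map e.toRingEquiv.toRingHom from rfl, ← Ideal.map_ofList, ← hspan, Ideal.map_map]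
    exact congrArg (fun φ => Ideal.map φ _) (RingHom.ext fun a => (e.commutes a).symm)

/-- Let i : Z ⟶ Y and j : Y ⟶ X be quasi-compact immersions of schemes with j locally of finite
presentation, and let a : i^*C_{Y/X} ⟶ C_{Z/X}, b : C_{Z/X} ⟶ C_{Z/Y} be the canonical maps of
conormal sheaves. Assume the sequence 0 → i^*C_{Y/X} → C_{Z/X} → C_{Z/Y} → 0 is exact and locally
split (every point of Z has an open neighbourhood over which b admits a section). Then: (1)
quasi-regularity of j ∘ i passes to i; (2) likewise for H_1-regularity; (3) if both j and j ∘ i are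
Koszul-regular then i is Koszul-regular too. The published statement allows arbitrary immersions;
this row takes both immersions quasi-compact, the case in which the conormal sheaves used here are
those of the immersions. -/
theorem result {Z Y X : Scheme.{u}} (i : Z ⟶ Y) (j : Y ⟶ X) [IsImmersion i] [IsImmersion j]
    [QuasiCompact i] [QuasiCompact j]
    (a : (Scheme.Modules.pullback i).obj (Omega.conormal j) ⟶ Omega.conormal (i ≫ j))
    (ha : OmegaSh.IsConormalMap (i ≫ j) j (𝟙 X) i a)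
    (b : (Scheme.Modules.pullback (𝟙 Z)).obj (Omega.conormal (i ≫ j)) ⟶ Omega.conormal i)
    (hb : OmegaSh.IsConormalMap i (i ≫ j) j (𝟙 Z) b)
    [LocallyOfFinitePresentation j]
    (w : a ≫ ((Scheme.Modules.pullbackId Z).inv.app (Omega.conormal (i ≫ j)) ≫ b) = 0) (hex : (ShortComplex.mk a ((Scheme.Modules.pullbackId Z).inv.app (Omega.conormal (i ≫ j)) ≫ b) w).ShortExact)
    (hsplit : ∀ z : ↥Z, ∃ U : Z.Opens, z ∈ U ∧
      ∃ r : (Scheme.Modules.restrictFunctor U.ι).obj (Omega.conormal i) ⟶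
          (Scheme.Modules.restrictFunctor U.ι).obj (Omega.conormal (i ≫ j)),
        r ≫ (Scheme.Modules.restrictFunctor U.ι).map ((Scheme.Modules.pullbackId Z).inv.app (Omega.conormal (i ≫ j)) ≫ b) = 𝟙 _) :
    (RegImm.IsRegularImmersion RegImm.Kind.quasi (i ≫ j) → RegImm.IsRegularImmersion RegImm.Kind.quasi i) ∧
      (RegImm.IsRegularImmersion RegImm.Kind.h1 (i ≫ j) → RegImm.IsRegularImmersion RegImm.Kind.h1 i) ∧
      (RegImm.IsRegularImmersion RegImm.Kind.koszul j → RegImm.IsRegularImmersion RegImm.Kind.koszul (i ≫ j) →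
        RegImm.IsRegularImmersion RegImm.Kind.koszul i) := by
  have hret : ∀ z v, KFlat.Sch.stk a z v ∈ IsLocalRing.maximalIdeal (Z.presheaf.stalk z) • (⊤ : Submodule (Z.presheaf.stalk z) _) →
      v ∈ IsLocalRing.maximalIdeal (Z.presheaf.stalk z) • (⊤ : Submodule (Z.presheaf.stalk z) _) := fun z v hv => by
    obtain ⟨U, hzU, r, hr⟩ := hsplit z
    exact mem_smul_top_of_section a _ w hex U r hr hzU v hv
  have hkind : ∀ K, K = RegImm.Kind.h1 ∨ K = RegImm.Kind.quasi → RegImm.IsRegularImmersion K (i ≫ j) →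
      RegImm.IsRegularImmersion K i := by
    intro K hK hij
    refine ⟨inferInstance, fun z => at_point j i z (fun B _ l => K.Seq B l)
      (fun g _ l hl e => RegDesc11.seq_map_equiv hK e hl) fun {U} hU h1 h2 hz hs hfg hcomap => ?_⟩
    haveI := h1
    haveI := h2
    refine exists_seq_near _ hs _ hfg _ ?_ hK ?_ ?_
    · rw [hcomap]; exact near_hyp j i a ha hU z hz (hret z)
    · rw [hcomap]; exact RegDesc11.isKindIdeal_of_isRegularImmersion hK (i ≫ j) hij hU
    · rw [hcomap]; exact CI2.ker_le_primeIdealOf (i ≫ j) hU hz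
  refine ⟨hkind _ (Or.inr rfl), hkind _ (Or.inl rfl), fun hj hij => ⟨inferInstance, fun z =>
    at_point j i z (fun B _ l => CI2.Ex B B l) (fun g _ l hl e =>
      (CI2.isKoszulRegularSeq_iff_ex _).2 (CI2.ex_map_equiv e hl)) fun {U} hU h1 h2 hz hs hfg hcomap => ?_⟩⟩
  haveI := h1
  haveI := h2
  refine exists_ex_near _ hs _ hfg _ ?_ (CI2.isKR_of_isRegularImmersion j hj hU) ?_ ?_
  · rw [hcomap]; exact near_hyp j i a ha hU z hz (hret z)
  · rw [hcomap]; exact CI2.isKR_of_isRegularImmersion (i ≫ j) hij hU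
  · rw [hcomap]; exact CI2.ker_le_primeIdealOf (i ≫ j) hU hz

end Groth.Agent.S8920
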