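import Groth.Statements.S8921
import Groth.Agent.S8919
import Groth.Agent.S8920
import Groth.Agent.S8675
import Groth.Agent.Lib.PerfLCI4.Kind
import Groth.Agent.Lib.DPerf.Local
import Groth.Agent.Lib.CI2.FlatLCI

set_option autoImplicit false
set_option linter.style.haveILetI false
set_option backward.isDefEq.respectTransparency false
set_option backward.isDefEq.respectTransparency.types false
set_option synthInstance.maxHeartbeats 400000
universe u
open CategoryTheory CategoryTheory.Limits AlgebraicGeometry TopologicalSpace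
open SDiv

namespace Groth.Agent.S8921
open CategoryTheory CategoryTheory.Limits AlgebraicGeometry
open RegImm

open CategoryTheory CategoryTheory.Limits AlgebraicGeometry
open RegImm

open Groth.Agent TensorProduct
open Groth.Agent.CI2 (Ex)

/-- The ideal is generated by a Koszul regular list. -/
def Reg {L : Type u} [CommRing L] (I : Ideal L) : Prop := ∃ l : List L, Ex L L l ∧ I = Ideal.ofList l

theorem isKR_of_reg {L : Type u} [CommRing L] {I : Ideal L} (h : Reg I) : LCI.IsKoszulRegularIdeal I := by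
  obtain ⟨l, hl, hI⟩ := h
  rw [CI2.isKR_iff]
  exact fun p _ => ⟨1, p.2.one_notMem, l.map (algebraMap L (Localization.Away (1 : L))),
    CI2.Ex.localization (Submonoid.powers (1 : L)) hl, by rw [hI, Ideal.map_ofList]⟩

theorem reg_of_isKR {L : Type u} [CommRing L] [IsLocalRing L] {I : Ideal L} (hI : I ≤ IsLocalRing.maximalIdeal L)
    (h : LCI.IsKoszulRegularIdeal I) : Reg I := by
  obtain ⟨g, hg, l, hl, hspan⟩ := (CI2.isKR_iff I).1 h ⟨IsLocalRing.maximalIdeal L, (IsLocalRing.maximalIdeal.isMaximal L).isPrime⟩ hI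
  have hu : IsUnit g := IsLocalRing.notMem_maximalIdeal.1 hg
  let e : L ≃ₐ[L] Localization.Away g := IsLocalization.atUnits L (Submonoid.powers g)
    (by rintro _ ⟨n, rfl⟩; exact hu.pow n)
  refine ⟨l.map e.symm.toRingEquiv, CI2.ex_map_equiv e.symm.toRingEquiv hl, ?_⟩
  rw [show l.map e.symm.toRingEquiv = l.map e.symm.toRingEquiv.toRingHom from rfl, ← Ideal.map_ofList, ← hspan,
    Ideal.map_map]
  conv_lhs => rw [← Ideal.map_id I]
  exact congrArg (fun φ => Ideal.map φ I) (RingHom.ext fun x => (e.symm.commutes x).symm)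

theorem ex_suffix {L : Type u} [CommRing L] [IsLocalRing L] [IsNoetherianRing L] {l₁ l₂ : List L}
    (hm : ∀ x ∈ l₁ ++ l₂, x ∈ IsLocalRing.maximalIdeal L) (h : Ex L L (l₁ ++ l₂)) : Ex L L l₂ := by
  have hw := CI2.isWeaklyRegular_reverse_of_exact _ hm (h 0)
  rw [List.reverse_append, RingTheory.Sequence.isWeaklyRegular_append_iff] at hw
  exact CI2.ex_of_perm l₂.reverse_perm (CI2.ex_of_isWeaklyRegular _ _ hw.1)

section algebra

variable {L M : Type u} [CommRing L] [IsLocalRing L] [IsNoetherianRing L] [CommRing M] [IsLocalRing M]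
  (σ : L →+* M) (hσ : Function.Surjective σ) [IsLocalHom σ] {J : Ideal M} (hJ : J ≤ IsLocalRing.maximalIdeal M)

omit [IsNoetherianRing L] in
include hJ in
theorem comap_le : J.comap σ ≤ IsLocalRing.maximalIdeal L :=
  (Ideal.comap_mono hJ).trans (IsLocalRing.le_maximalIdeal (Ideal.comap_ne_top _ (IsLocalRing.maximalIdeal.isMaximal M).ne_top))

include hσ hJ in
theorem reg_comap (h0 : Reg (RingHom.ker σ)) (h1 : Reg J) : Reg (J.comap σ) :=
  reg_of_isKR (comap_le σ hJ) (CI2.isKR_comap_of_surjective σ hσ (isKR_of_reg h0) (isKR_of_reg h1))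

omit [IsNoetherianRing L] in
theorem ex_completion {q : Ideal L} [q.IsPrime] (hq : q = IsLocalRing.maximalIdeal L) {K : Ideal L} (hKq : K ≤ q)
    (hK : Reg K) {F : List L} (hF : ∀ x ∈ F, x ∈ K) (hind : CI2.Indep q K F) :
    ∃ rest : List L, Ex L L (rest ++ F) ∧ K = Ideal.ofList (rest ++ F) := by
  obtain ⟨k, hk, rfl⟩ := hK
  obtain ⟨rest, hrest, hlen, hu⟩ := CI2.exists_completion q (fun x hx => Ideal.subset_span hx) F hind
    (fun x hx => ⟨1, q.one_notMem, by rw [one_mul]; exact hF x hx⟩)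
  have heq : Ideal.ofList (rest ++ F) = Ideal.ofList k := by
    refine le_antisymm (Ideal.span_le.2 fun x hx => ?_) (Ideal.span_le.2 fun x hx => ?_)
    · exact (List.mem_append.1 hx).elim (fun h => Ideal.subset_span (hrest x h)) (hF x)
    · obtain ⟨u, hu1, hu2⟩ := hu x hx
      exact (Ideal.unit_mul_mem_iff_mem _ (IsLocalRing.notMem_maximalIdeal.1 (hq ▸ hu1))).1 hu2
  exact ⟨rest, CI2.ex_of_ofList_eq hk heq (by simpa using hlen), heq.symm⟩

include hσ hJ in
theorem reg_ker (hK : Reg (J.comap σ)) (h1 : Reg J) : Reg (RingHom.ker σ) := by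
  classical
  obtain ⟨gb, hgb, rfl⟩ := h1
  choose G hG using fun y => hσ y
  let gs := gb.map G
  let m := IsLocalRing.maximalIdeal L
  have hgsK : ∀ x ∈ gs, x ∈ (Ideal.ofList gb).comap σ := fun x hx => by
    obtain ⟨y, hy, rfl⟩ := List.mem_map.1 hx
    rw [Ideal.mem_comap, hG]; exact Ideal.subset_span hy
  have hh1 : CAlgX.IsH1Regular gb.get := Cyc26.isH1Regular_of_isKoszulRegularSeq gb ((CI2.isKoszulRegularSeq_iff_ex gb).2 hgb)
  have hσm : ∀ x ∈ m, σ x ∈ IsLocalRing.maximalIdeal M := fun x hx => by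
    rw [IsLocalRing.mem_maximalIdeal, mem_nonunits_iff] at hx ⊢
    exact fun h => hx ((isUnit_map_iff σ x).1 h)
  have hind : CI2.Indep m ((Ideal.ofList gb).comap σ) gs := fun a ha j => by
    have hlen : gs.length = gb.length := List.length_map G
    let a' : Fin gb.length → M := fun k => σ (a (Fin.cast hlen.symm k))
    have hsum : σ (∑ k, a k * gs.get k) = ∑ k, a' k * gb.get k := by
      rw [map_sum]
      refine Fintype.sum_equiv (finCongr hlen) _ _ fun k => ?_
      simp [a', gs, hG]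
    have hmem : ∑ k, a' k * gb.get k ∈ IsLocalRing.maximalIdeal M * Ideal.span (Set.range gb.get) := by
      rw [← hsum, Set.range_list_get]
      refine Submodule.mul_induction_on ha (fun u hu v hv => ?_) (fun u v hu hv => by rw [map_add]; exact add_mem hu hv)
      rw [map_mul]
      exact Ideal.mul_mem_mul (hσm u hu) hv
    have h := SyntRank2.coeff_of_h1 gb.get hh1 _ (fun k => hJ (Ideal.subset_span (gb.get_mem k))) a' hmem (Fin.cast hlen j)
    by_contra hj
    exact (IsLocalRing.mem_maximalIdeal _).1 h ((IsLocalRing.notMem_maximalIdeal.1 hj).map σ)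
  obtain ⟨rest, hex, hspan⟩ := ex_completion rfl (comap_le σ hJ) hK hgsK hind
  have hdec : ∀ x ∈ rest, ∃ b ∈ Ideal.ofList gs, x - b ∈ RingHom.ker σ := fun x hx => by
    have h : σ x ∈ (Ideal.ofList gs).map σ := by
      rw [Ideal.map_ofList, List.map_map, show (σ ∘ G) = id from funext hG, List.map_id]
      exact hspan.ge (Ideal.subset_span (List.mem_append_left _ hx))
    obtain ⟨b, hb, hbx⟩ := (Ideal.mem_map_iff_of_surjective σ hσ).1 h
    exact ⟨b, hb, by rw [RingHom.mem_ker, map_sub, hbx, sub_self]⟩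
  choose! B hB hBk using hdec
  let rest' := rest.map fun x => x - B x
  have hr' : ∀ x ∈ rest', x ∈ RingHom.ker σ := fun x hx => by
    obtain ⟨y, hy, rfl⟩ := List.mem_map.1 hx
    exact hBk y hy
  have hmono : ∀ x ∈ Ideal.ofList gs, ∀ l : List L, x ∈ Ideal.ofList (l ++ gs) := fun x hx l => by
    rw [Ideal.ofList_append]; exact Submodule.mem_sup_right hx
  have heq : Ideal.ofList (rest' ++ gs) = Ideal.ofList (rest ++ gs) := by
    refine le_antisymm (Ideal.span_le.2 fun x hx => ?_) (Ideal.span_le.2 fun x hx => ?_)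
    · rcases List.mem_append.1 hx with h | h
      · obtain ⟨y, hy, rfl⟩ := List.mem_map.1 h
        exact sub_mem (Ideal.subset_span (List.mem_append_left _ hy)) (hmono _ (hB y hy) _)
      · exact Ideal.subset_span (List.mem_append_right _ h)
    · rcases List.mem_append.1 hx with h | h
      · rw [SetLike.mem_coe, ← sub_add_cancel x (B x)]
        exact add_mem (Ideal.subset_span (List.mem_append_left _ (List.mem_map.2 ⟨x, h, rfl⟩))) (hmono _ (hB x h) _)
      · exact Ideal.subset_span (List.mem_append_right _ h)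
  have hex' := CI2.ex_of_ofList_eq hex heq (by simp [rest'])
  have hspan' : (Ideal.ofList gb).comap σ = Ideal.ofList (rest' ++ gs) := hspan.trans heq.symm
  have hm' : ∀ x ∈ rest' ++ gs, x ∈ m := fun x hx => comap_le σ hJ (hspan'.ge (Ideal.subset_span hx))
  have hex2 : Ex L L rest' := ex_suffix (l₁ := gs) (fun x hx => hm' x ((List.perm_append_comm).mem_iff.1 hx))
    (CI2.ex_of_perm List.perm_append_comm hex')
  refine ⟨rest', hex2, le_antisymm ?_ (Ideal.span_le.2 hr')⟩
  refine Submodule.le_of_le_smul_of_le_jacobson_bot (I := m) (IsNoetherian.noetherian _)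
    (IsLocalRing.maximalIdeal_le_jacobson ⊥) fun x hx => ?_
  have hxK : x ∈ (Ideal.ofList gb).comap σ := by rw [Ideal.mem_comap, show σ x = 0 from hx]; exact zero_mem _
  rw [hspan', Ideal.ofList_append, Submodule.mem_sup] at hxK
  obtain ⟨y, hy, b, hb, rfl⟩ := hxK
  refine Submodule.mem_sup.2 ⟨y, hy, b, ?_, rfl⟩
  have hy0 : σ y = 0 := (Ideal.span_le.2 hr' : Ideal.ofList rest' ≤ _) hy
  have hb0 : σ b = 0 := by
    have hxx : σ (y + b) = 0 := hx
    rwa [map_add, hy0, zero_add] at hxx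
  rw [show Ideal.ofList gs = Ideal.span (Set.range fun k => G (gb.get k)) by
    rw [← CI2.ofList_ofFn, show (fun k => G (gb.get k)) = G ∘ gb.get from rfl, ← List.map_ofFn, List.ofFn_get],
    Ideal.mem_span_range_iff_exists_fun] at hb
  obtain ⟨c, rfl⟩ := hb
  rw [map_sum] at hb0
  simp only [map_mul, hG] at hb0
  -- lift the trivial relations
  have hlift : ∀ u ∈ Submodule.span M {v : Fin gb.length → M | ∃ i j : Fin gb.length,
      v = Pi.single i (gb.get j) - Pi.single j (gb.get i)},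
      ∃ U : Fin gb.length → L, (∀ k, σ (U k) = u k) ∧ ∑ k, U k * G (gb.get k) = 0 := by
    intro u hu
    induction hu using Submodule.span_induction with
    | mem u hu =>
      obtain ⟨i, j, rfl⟩ := hu
      refine ⟨Pi.single i (G (gb.get j)) - Pi.single j (G (gb.get i)), fun k => ?_, ?_⟩
      · simp [Pi.single_apply, apply_ite σ, hG]
      · simp [Pi.single_apply, sub_mul, ite_mul]
        ring
    | zero => exact ⟨0, fun k => map_zero σ, by simp⟩
    | add a b _ _ ha hb =>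
      obtain ⟨U, hU, hU'⟩ := ha
      obtain ⟨V, hV, hV'⟩ := hb
      exact ⟨U + V, fun k => by simp [hU, hV], by
        simp only [Pi.add_apply, add_mul, Finset.sum_add_distrib]; rw [hU', hV', add_zero]⟩
    | smul s a _ ha =>
      obtain ⟨U, hU, hU'⟩ := ha
      obtain ⟨r, rfl⟩ := hσ s
      refine ⟨r • U, fun k => by simp [hU], ?_⟩
      simp only [Pi.smul_apply, smul_eq_mul, mul_assoc, ← Finset.mul_sum, hU', mul_zero]
  obtain ⟨U, hU, hU'⟩ := hlift _ (hh1 _ hb0)
  rw [show ∑ k, c k * G (gb.get k) = ∑ k, (c k - U k) * G (gb.get k) by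
    simp only [sub_mul, Finset.sum_sub_distrib, hU', sub_zero]]
  refine Ideal.sum_mem _ fun k _ => ?_
  rw [mul_comm, smul_eq_mul]
  refine Ideal.mul_mem_mul ?_ (by simp [RingHom.mem_ker, hU])
  exact comap_le σ hJ (hgsK _ (List.mem_map.2 ⟨_, gb.get_mem k, rfl⟩))

include hσ hJ in
theorem reg_of_split (hK : Reg (J.comap σ))
    (H : ∀ x ∈ RingHom.ker σ, x ∈ IsLocalRing.maximalIdeal L * J.comap σ → x ∈ IsLocalRing.maximalIdeal L * RingHom.ker σ) :
    Reg (RingHom.ker σ) ∧ Reg J := by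
  let m := IsLocalRing.maximalIdeal L
  obtain ⟨F, hFJ, ⟨t, ht, htF⟩, hmin⟩ := S8920.exists_minimal_gens m (IsNoetherian.noetherian (RingHom.ker σ))
  have hker : RingHom.ker σ = Ideal.ofList F := le_antisymm
    (fun x hx => (Ideal.unit_mul_mem_iff_mem _ (IsLocalRing.notMem_maximalIdeal.1 ht)).1 (htF x hx)) (Ideal.span_le.2 hFJ)
  have hind : CI2.Indep m (J.comap σ) F := fun a ha => hmin a ⟨1, m.one_notMem, by
    rw [one_mul]; exact H _ (Ideal.sum_mem _ fun j _ => Ideal.mul_mem_left _ _ (hFJ _ (F.get_mem j))) ha⟩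
  obtain ⟨rest, hex, hspan⟩ := ex_completion rfl (comap_le σ hJ) hK
    (fun x hx => Ideal.comap_mono bot_le (hFJ x hx)) hind
  have hF : Ex L L F := ex_suffix (fun x hx => comap_le σ hJ (hspan.ge (Ideal.subset_span hx))) hex
  refine ⟨⟨F, hF, hker⟩, rest.map σ, CI2.ex_of_append_of_surjective σ hσ hker hF hex, ?_⟩
  rw [← Ideal.map_comap_of_surjective σ hσ J, hspan, Ideal.ofList_append, Ideal.map_sup, ← hker,
    (Ideal.map_eq_bot_iff_le_ker σ).2 le_rfl, sup_bot_eq, Ideal.map_ofList]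

end algebra

theorem regAt_iff {Z X : Scheme.{u}} (i : Z ⟶ X) [IsImmersion i] [IsLocallyNoetherian X] (z : Z) :
    RegImm.IsRegularImmersionAt .regular i z ↔ Reg (RingHom.ker (i.stalkMap z).hom) := by
  constructor
  · rintro ⟨⟨U, hU⟩, hz, hcl, rs, hrs, hker⟩
    haveI := hcl
    let L := X.presheaf.stalk (i z)
    letI : Algebra Γ(X, U) L := X.presheaf.algebra_section_stalk (⟨i z, hz⟩ : U)
    haveI : IsLocalization.AtPrime L (hU.primeIdealOf ⟨i z, hz⟩).asIdeal := hU.isLocalization_stalk ⟨i z, hz⟩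
    refine ⟨rs.map (algebraMap Γ(X, U) L),
      CI2.Ex.localization (hU.primeIdealOf ⟨i z, hz⟩).asIdeal.primeCompl
        (CI2.ex_of_isWeaklyRegular rs _ hrs.toIsWeaklyRegular), ?_⟩
    rw [S8920.ker_stalkMap_eq i hU z hz, hker, Ideal.map_ofList]
    rfl
  · rintro ⟨l, hl, hker⟩
    obtain ⟨U, hU, hz, -, hcl⟩ := CI2.exists_affine_closed i z (V := ⊤) trivial
    haveI := hcl
    let q := (hU.primeIdealOf ⟨i z, hz⟩).asIdeal
    let L := X.presheaf.stalk (i z)
    letI : Algebra Γ(X, U) L := X.presheaf.algebra_section_stalk (⟨i z, hz⟩ : U)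
    haveI : IsLocalization.AtPrime L q := hU.isLocalization_stalk ⟨i z, hz⟩
    let e : L ≃ₐ[Γ(X, U)] Localization.AtPrime q := IsLocalization.algEquiv q.primeCompl _ _
    refine PerfLCI4.isRegularImmersionAt_of_ex i .regular hU hz q rfl (CI2.ex_map_equiv e.toRingEquiv hl) ?_
    rw [show l.map e.toRingEquiv = l.map e.toRingEquiv.toRingHom from rfl, ← Ideal.map_ofList, ← hker,
      show RingHom.ker (i.stalkMap z).hom = (RingHom.ker (i.app U).hom).map (algebraMap Γ(X, U) L) from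
        S8920.ker_stalkMap_eq i hU z hz, Ideal.map_map]
    exact congrArg (fun φ => Ideal.map φ _) (RingHom.ext fun x => (e.commutes x).symm)

theorem h1_of_regAt {X Y : Scheme.{u}} (j : Y ⟶ X) [IsImmersion j] [IsLocallyNoetherian X] (z : Y)
    (h : RegImm.IsRegularImmersionAt .regular j z) :
    ∃ (c : ℕ) (g : Fin c → X.presheaf.stalk (j z)), CAlgX.IsH1Regular g ∧
      RingHom.ker (j.stalkMap z).hom = Ideal.span (Set.range g) := by
  obtain ⟨l, hl, hI⟩ := (regAt_iff j z).1 h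
  exact ⟨_, l.get, Cyc26.isH1Regular_of_isKoszulRegularSeq l ((CI2.isKoszulRegularSeq_iff_ex l).2 hl),
    by rw [hI, Set.range_list_get]⟩

theorem injective_stk {X Y Z : Scheme.{u}} (i : Y ⟶ X) [IsImmersion i] [QuasiCompact i] (j : Z ⟶ Y) [IsImmersion j]
    [QuasiCompact j] (a' : (Scheme.Modules.pullback j).obj (Omega.conormal i) ⟶ Omega.conormal (j ≫ i))
    (ha' : OmegaSh.IsConormalMap (j ≫ i) i (𝟙 X) j a') (z : Z)
    (hj : ∃ (c : ℕ) (g : Fin c → Y.presheaf.stalk (j z)), CAlgX.IsH1Regular g ∧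
      RingHom.ker (j.stalkMap z).hom = Ideal.span (Set.range g)) :
    Function.Injective ((M1.stalkAb z).map a') := by
  refine (injective_iff_map_eq_zero _).2 fun w hw => ?_
  obtain ⟨u, rfl⟩ := (M2.pullStalkEquiv j z (Omega.conormal i)).surjective w
  obtain ⟨a, rfl⟩ := TensorProduct.mk_surjective (Y.presheaf.stalk (j z))
    ((Omega.conormal i).presheaf.stalk (j z) : Type u) (Z.presheaf.stalk z) (j.stalkMap_surjective z) u
  obtain ⟨u', rfl⟩ := (M2.pullStalkEquiv i (j z) (ClSub.idealMod i.ker)).surjective a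
  obtain ⟨m, rfl⟩ := TensorProduct.mk_surjective (X.presheaf.stalk (i (j z)))
    ((ClSub.idealMod i.ker).presheaf.stalk (i (j z)) : Type u) (Y.presheaf.stalk (j z)) (i.stalkMap_surjective _) u'
  suffices hm : m ∈ RingHom.ker (((i.stalkMap (j z)) ≫ j.stalkMap z).hom) • (⊤ : Submodule _ _) by
    rw [TensorProduct.mk_apply, TensorProduct.mk_apply]
    refine Submodule.smul_induction_on hm (fun r hr n _ => ?_) (fun a b ha hb => ?_)
    · rw [tmul_smul, ← algebraMap_smul (Y.presheaf.stalk (j z)) r, map_smul]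
      exact (congrArg (M2.pullStalkEquiv j z (Omega.conormal i)) (S8919.one_tmul_smul_eq_zero (T := Z.presheaf.stalk z) (s := algebraMap (X.presheaf.stalk (i (j z))) (Y.presheaf.stalk (j z)) r) hr _)).trans (map_zero _)
    · rw [tmul_add, map_add]
      refine ((congrArg (M2.pullStalkEquiv j z (Omega.conormal i)) (TensorProduct.tmul_add _ _ _)).trans
        (map_add _ _ _)).trans ?_
      exact (congrArg₂ (· + ·) ha hb).trans (add_zero _)
  obtain ⟨V, hV, s, rfl⟩ := (ClSub.idealMod i.ker).presheaf.exists_germ_eq m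
  obtain ⟨t, ht⟩ := GrMap12.exists_idealSect_of_app_eq_zero (j ≫ i) (M2.idealIncl i.ker s) (by
    rw [Scheme.Hom.comp_app]
    exact (congrArg (j.app (i ⁻¹ᵁ V)) (GrMap12.app_idealIncl_zero i s)).trans (map_zero _))
  have e0 : ∀ (G : Z.Modules) (O : Z.Opens) (m : Γ(G, O)), M1.mres G (le_rfl : O ≤ O) m = m :=
    fun G O m => ConcreteCategory.congr_hom (G.presheaf.map_id (Opposite.op O)) m
  have hφ : a'.app (j ⁻¹ᵁ (i ⁻¹ᵁ V)) (OmegaSh.pullSect j _ (i ⁻¹ᵁ V) (OmegaSh.conormalSect i V s)) =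
      OmegaSh.conormalSect (j ≫ i) V t :=
    (e0 _ _ _).symm.trans ((ha'.2 V s t ht _ le_rfl le_rfl).trans (e0 _ _ _))
  rw [TensorProduct.mk_apply, TensorProduct.mk_apply, M2.pullStalkEquiv_tmul] at hw
  erw [M2.pullStalkEquiv_tmul j z (Omega.conormal i) (U := i ⁻¹ᵁ V) hV] at hw
  have hw' : M2.pullStalkEquiv (j ≫ i) z (ClSub.idealMod (j ≫ i).ker)
      (1 ⊗ₜ (ClSub.idealMod (j ≫ i).ker).presheaf.germ V ((j ≫ i) z) hV t) = 0 := by
    rw [M2.pullStalkEquiv_tmul]
    refine Eq.trans ?_ hw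
    refine Eq.trans ?_ (TopCat.Presheaf.stalkFunctor_map_germ_apply (j ⁻¹ᵁ (i ⁻¹ᵁ V)) z hV
      ((Scheme.Modules.toPresheaf Z).map a') _).symm
    exact congrArg (fun q => (Omega.conormal (j ≫ i)).presheaf.germ (j ⁻¹ᵁ (i ⁻¹ᵁ V)) z hV q) hφ.symm
  rw [LinearEquiv.map_eq_zero_iff] at hw'
  have hK := Conormal2.mem_smul_top_of_one_tmul_eq_zero ((j ≫ i).stalkMap_surjective z) hw'
  let K : Ideal (X.presheaf.stalk (i (j z))) := RingHom.ker (((i.stalkMap (j z)) ≫ j.stalkMap z).hom)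
  have hcomp : RingHom.ker ((j ≫ i).stalkMap z).hom = K := by rw [Scheme.Hom.stalkMap_comp]
  have hb0 : Conormal2.incl (j ≫ i) ((j ≫ i) z) ((ClSub.idealMod (j ≫ i).ker).presheaf.germ V ((j ≫ i) z) hV t) ∈
      RingHom.ker ((j ≫ i).stalkMap z).hom * RingHom.ker ((j ≫ i).stalkMap z).hom :=
    Submodule.smul_induction_on hK (fun r hr n _ => by
      rw [map_smul, smul_eq_mul]
      exact Ideal.mul_mem_mul hr (Conormal2.incl_mem_ker (j ≫ i) z n))
      (fun a b ha hb => by rw [map_add]; exact add_mem ha hb)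
  rw [Conormal2.incl_germ, hcomp, ht] at hb0
  have hb : X.presheaf.germ V (i (j z)) hV (M2.idealIncl i.ker s) ∈ K * K := hb0
  obtain ⟨c, g, hg, hgker⟩ := hj
  have hI : X.presheaf.germ V (i (j z)) hV (M2.idealIncl i.ker s) ∈ RingHom.ker (i.stalkMap (j z)).hom := by
    rw [← Conormal2.incl_germ]; exact Conormal2.incl_mem_ker i (j z) _
  have hIK := SyntRank2.inf_mul_le (i.stalkMap (j z)).hom (i.stalkMap_surjective _) g hg K (by
    rw [← hgker, RingHom.comap_ker]; rfl) hI hb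
  have hle : RingHom.ker (i.stalkMap (j z)).hom * K ≤
      Submodule.map (Conormal2.incl i (i (j z))) (K • ⊤) := by
    rw [Ideal.mul_le]
    intro a ha b hbK
    obtain ⟨n, rfl⟩ := Conormal2.exists_incl_eq i (j z) a ha
    exact ⟨b • n, Submodule.smul_mem_smul hbK trivial, by rw [map_smul, smul_eq_mul, mul_comm]⟩
  obtain ⟨n, hn, hne⟩ := hle hIK
  rw [← Conormal2.incl_germ] at hne
  rwa [← Conormal2.incl_injective i _ hne]

theorem exists_free_nhd {X X' : Scheme.{u}} (i : X ⟶ X') [QuasiCompact i] [IsImmersion i] [IsLocallyNoetherian X'] (x : X)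
    (h : RegImm.IsRegularImmersionAt .regular i x) :
    ∃ (V : X.Opens) (m : ℕ), x ∈ V ∧ Nonempty ((Omega.conormal i).restrict V.ι ≅ FlatMod.freeMod (↑V) m) := by
  obtain ⟨⟨V', hV'⟩, hxV', hcl, rs, hrs0, hrsker⟩ := h
  have hrs : CAlgX.IsH1Regular rs.get := Cyc26.isH1Regular_of_isKoszulRegularSeq rs
    ((CI2.isKoszulRegularSeq_iff_ex rs).2 (CI2.ex_of_isWeaklyRegular rs _ hrs0.toIsWeaklyRegular))
  haveI := hcl
  obtain ⟨hV, hs⟩ := CI2.surjective_app_of_closed i hV'
  suffices hfin : FlatMod.IsFinLocFree ((Omega.conormal i).restrict hV.fromSpec) by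
    obtain ⟨U, n, hzU, ⟨e⟩⟩ := hfin (hV.primeIdealOf ⟨x, hxV'⟩)
    obtain ⟨V, m, hV2, hiso⟩ := M1.exists_freeMod_of_openImmersion (M := Omega.conormal i) (U.ι ≫ hV.fromSpec)
      ((M1.restrictRestrictIso _ hV.fromSpec U.ι _ rfl).symm ≪≫ e ≪≫ M1.freeModFrIso _ n) ⟨_, hzU⟩
    exact ⟨V, m, by simpa [hV.fromSpec_primeIdealOf] using hV2, hiso⟩
  let B' := Γ(X', V')
  let B := Γ(X, i ⁻¹ᵁ V')
  letI : Algebra B' B := (i.appLE V' (i ⁻¹ᵁ V') le_rfl).hom.toAlgebra
  have he : algebraMap B' B = (i.app V').hom := congrArg CommRingCat.Hom.hom i.appLE_eq_app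
  let N := Omega.conormal i
  have hN : Coh.IsQCoh N := M1.isQCoh_pullback i (M2.isQCoh_idealMod _)
  letI : Module B' Γ(N, i ⁻¹ᵁ V') := PullBC11.baseModule (g := i) N (U := V') (V := i ⁻¹ᵁ V') le_rfl
  haveI : IsScalarTower B' B Γ(N, i ⁻¹ᵁ V') := IsScalarTower.of_algebraMap_smul fun _ _ => rfl
  let s₁ : Γ(ClSub.idealMod i.ker, V') →ₗ[B'] Γ(N, i ⁻¹ᵁ V') :=
    PullBC11.sect (PP12.unitTo i (ClSub.idealMod i.ker)) (le_refl (i ⁻¹ᵁ V'))
  have hs₁ : IsBaseChange B s₁ := PP12.isBC_unit i (M2.isQCoh_idealMod i.ker) hV' hV (le_refl (i ⁻¹ᵁ V'))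
  let E : Algebra.Extension.{u} B' B := Algebra.Extension.ofSurjective (Algebra.ofId B' B) (fun b => by
    obtain ⟨a, ha⟩ := hs b
    exact ⟨a, (RingHom.congr_fun he a).trans ha⟩)
  have hker : RingHom.ker (algebraMap B' B) = RingHom.ker (i.app V').hom := by rw [he]
  have hEker : E.ker = Ideal.span (Set.range rs.get) := by
    rw [Set.range_list_get]
    exact hker.trans hrsker
  obtain ⟨eb⟩ := SyntRank2.nonempty_cotangent_equiv_of_gen E rs.get hEker fun a ha =>
    SyntRank2.coeff_of_h1 _ hrs E.ker (fun k => by rw [hEker]; exact Ideal.subset_span ⟨k, rfl⟩) a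
      (by rw [← hEker]; rwa [pow_two] at ha)
  haveI h1 : Module.Finite B E.Cotangent := Module.Finite.equiv eb.symm
  haveI h2 : Module.Projective B E.Cotangent := Module.Projective.of_equiv eb.symm
  let K : Ideal B' := RingHom.ker (algebraMap B' B)
  have hr : LinearMap.range (GrMap12.inclLin i.ker V') = K := by
    rw [GrMap12.range_inclLin _ ⟨V', hV'⟩, Scheme.Hom.ker_apply]
    exact hker.symm
  let eI : Γ(ClSub.idealMod i.ker, V') ≃ₗ[B'] K :=
    (LinearEquiv.ofInjective (GrMap12.inclLin i.ker V') (M2.idealIncl_injective _ _)).trans (LinearEquiv.ofEq _ _ hr)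
  obtain ⟨eC⟩ := SyntRank2.nonempty_tensor_ker_equiv_cotangent E
  let e : B ⊗[B'] Γ(ClSub.idealMod i.ker, V') ≃ₗ[B] E.Cotangent :=
    (TensorProduct.AlgebraTensorModule.congr (LinearEquiv.refl B B) eI).trans eC
  haveI : (N.restrict hV.fromSpec).IsQuasicoherent := M1.isQCoh_fromSpec hN hV
  let L := moduleSpecΓFunctor.obj (N.restrict hV.fromSpec)
  let eL : L ≃ₗ[B] Γ(N, i ⁻¹ᵁ V') := M1.affineSecEquiv N hV
  haveI : Module.Finite B L := Module.Finite.equiv (e.symm.trans (hs₁.equiv.trans eL.symm))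
  haveI : Module.Projective B L := Module.Projective.of_equiv (e.symm.trans (hs₁.equiv.trans eL.symm))
  exact M2.isFinLocFree_of_iso
    (@asIso _ _ _ _ (N.restrict hV.fromSpec).fromTildeΓ
      (Scheme.Modules.isIso_fromTildeΓ_of_isQuasicoherent (R := Γ(X, i ⁻¹ᵁ V')) _))
    (DPerf.isFinLocFree_tilde (M := L))

theorem exists_section {X : Scheme.{u}} {G H : X.Modules} (p : G ⟶ H) [Epi p] {x : X} {U : X.Opens} {n : ℕ}
    (hxU : x ∈ U) (e : H.restrict U.ι ≅ FlatMod.freeMod (↑U) n) (O : X.Opens) (hxO : x ∈ O) :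
    ∃ (W : X.Opens) (s : (Scheme.Modules.restrictFunctor W.ι).obj H ⟶ (Scheme.Modules.restrictFunctor W.ι).obj G),
      x ∈ W ∧ W ≤ O ∧ s ≫ (Scheme.Modules.restrictFunctor W.ι).map p = 𝟙 _ := by
  let RU := Scheme.Modules.restrictFunctor U.ι
  let e' : RU.obj H ≅ M1.fr (ULift.{u} (Fin n)) := e ≪≫ M1.freeModFrIso _ n
  obtain ⟨V₁, hxV₁, hV⟩ := M1.exists_lift_fr (RU.map p) e'.inv ⟨x, hxU⟩
  let V := V₁ ⊓ U.ι ⁻¹ᵁ O
  obtain ⟨a, ha⟩ := hV V inf_le_left
  let W := U.ι ''ᵁ V
  let RV := Scheme.Modules.restrictFunctor V.ι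
  let RW := Scheme.Modules.restrictFunctor W.ι
  let φ := (Scheme.Hom.isoImage U.ι V)
  let C := (Scheme.Modules.restrictFunctorCongr (show W.ι = φ.inv ≫ (V.ι ≫ U.ι) from
      (Scheme.Hom.isoImage_inv_ι U.ι V).symm)) ≪≫ Scheme.Modules.restrictFunctorComp φ.inv (V.ι ≫ U.ι) ≪≫
    Functor.isoWhiskerRight (Scheme.Modules.restrictFunctorComp V.ι U.ι) _
  refine ⟨W, C.hom.app H ≫ (Scheme.Modules.restrictFunctor φ.inv).map (RV.map e'.hom ≫ a) ≫ C.inv.app G,
    ⟨⟨x, hxU⟩, ⟨hxV₁, hxO⟩, rfl⟩, ?_, ?_⟩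
  · rintro _ ⟨v, hv, rfl⟩; exact hv.2
  have ha' : a ≫ RV.map (RU.map p) = RV.map e'.inv := ha
  rw [Category.assoc, Category.assoc, ← C.inv.naturality p]
  show C.hom.app H ≫ _ ≫ (Scheme.Modules.restrictFunctor φ.inv).map (RV.map (RU.map p)) ≫ C.inv.app H = _
  rw [← Functor.map_comp_assoc, Category.assoc, ha', ← Functor.map_comp, Iso.hom_inv_id, CategoryTheory.Functor.map_id]
  erw [CategoryTheory.Functor.map_id, Category.id_comp]
  exact C.hom_inv_id_app H

theorem mono_restrict {Z : Scheme.{u}} {F G : Z.Modules} (φ : F ⟶ G) (U : Z.Opens)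
    (h : ∀ z ∈ U, Function.Injective ((M1.stalkAb z).map φ)) : Mono ((Scheme.Modules.restrictFunctor U.ι).map φ) := by
  refine (M1.mono_iff_stalk _).2 fun z => fun v v' hv => ?_
  apply (SyntRank2.rsEquiv F U z).injective
  apply h z.1 z.2
  have hnat : ∀ y, SyntRank2.rsEquiv G U z ((M1.stalkAb z).map ((Scheme.Modules.restrictFunctor U.ι).map φ) y) =
      (M1.stalkAb z.1).map φ (SyntRank2.rsEquiv F U z y) := fun y =>
    ConcreteCategory.congr_hom ((Scheme.Modules.restrictStalkNatIso U.ι z).hom.naturality φ) y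
  rw [← hnat, ← hnat, hv]

/-- Let i : Z ⟶ Y and j : Y ⟶ X be immersions of schemes with X locally Noetherian, z a point of Z with
images y = i z and x, and a : i^*C_{Y/X} ⟶ C_{Z/X}, b : C_{Z/X} ⟶ C_{Z/Y} the canonical maps of
conormal sheaves. The following are equivalent: (1) i is regular near z and j is regular near y; (2)
i and j ∘ i are regular near z; (3) j ∘ i is regular near z and the sequence 0 → i^*C_{Y/X} →
C_{Z/X} → C_{Z/Y} → 0 is split short exact over some open neighbourhood of z. Both immersions are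
quasi-compact automatically, X being locally Noetherian; the quasi-compactness binders only make the
conormal sheaves available. -/
theorem result {Z Y X : Scheme.{u}} (i : Z ⟶ Y) (j : Y ⟶ X) [IsImmersion i] [IsImmersion j]
    [QuasiCompact i] [QuasiCompact j]
    (a : (Scheme.Modules.pullback i).obj (Omega.conormal j) ⟶ Omega.conormal (i ≫ j))
    (ha : OmegaSh.IsConormalMap (i ≫ j) j (𝟙 X) i a)
    (b : (Scheme.Modules.pullback (𝟙 Z)).obj (Omega.conormal (i ≫ j)) ⟶ Omega.conormal i)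
    (hb : OmegaSh.IsConormalMap i (i ≫ j) j (𝟙 Z) b)
    [IsLocallyNoetherian X] (z : ↥Z) :
    ((RegImm.IsRegularImmersionAt RegImm.Kind.regular i z ∧ RegImm.IsRegularImmersionAt RegImm.Kind.regular j (i z)) ↔
      (RegImm.IsRegularImmersionAt RegImm.Kind.regular i z ∧ RegImm.IsRegularImmersionAt RegImm.Kind.regular (i ≫ j) z)) ∧
    ((RegImm.IsRegularImmersionAt RegImm.Kind.regular i z ∧ RegImm.IsRegularImmersionAt RegImm.Kind.regular (i ≫ j) z) ↔
      (RegImm.IsRegularImmersionAt RegImm.Kind.regular (i ≫ j) z ∧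
        ∃ U : Z.Opens, z ∈ U ∧
          ∀ w : (Scheme.Modules.restrictFunctor U.ι).map a ≫ (Scheme.Modules.restrictFunctor U.ι).map ((Scheme.Modules.pullbackId Z).inv.app (Omega.conormal (i ≫ j)) ≫ b) = 0,
            Nonempty (ShortComplex.mk ((Scheme.Modules.restrictFunctor U.ι).map a) ((Scheme.Modules.restrictFunctor U.ι).map ((Scheme.Modules.pullbackId Z).inv.app (Omega.conormal (i ≫ j)) ≫ b)) w).Splitting)) := by
  haveI : IsLocallyNoetherian Y := LocallyOfFiniteType.isLocallyNoetherian j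
  let σ := (j.stalkMap (i z)).hom
  have hσ : Function.Surjective σ := j.stalkMap_surjective (i z)
  let J := RingHom.ker (i.stalkMap z).hom
  have hJ : J ≤ IsLocalRing.maximalIdeal _ := IsLocalRing.le_maximalIdeal (RingHom.ker_ne_top _)
  have hK : RingHom.ker ((i ≫ j).stalkMap z).hom = J.comap σ := by
    rw [Scheme.Hom.stalkMap_comp, RingHom.comap_ker]
    rfl
  have rI : RegImm.IsRegularImmersionAt .regular j (i z) ↔ Reg (RingHom.ker σ) := regAt_iff j (i z)
  have rJ : RegImm.IsRegularImmersionAt .regular i z ↔ Reg J := regAt_iff i z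
  have rK : RegImm.IsRegularImmersionAt .regular (i ≫ j) z ↔ Reg (J.comap σ) := hK ▸ regAt_iff (i ≫ j) z
  haveI : IsNoetherianRing (X.presheaf.stalk (j (i z))) := inferInstance
  refine ⟨⟨fun ⟨h1, h2⟩ => ⟨h1, rK.2 (reg_comap σ hσ hJ (rI.1 h2) (rJ.1 h1))⟩,
    fun ⟨h1, h2⟩ => ⟨h1, rI.2 (reg_ker σ hσ hJ (rK.1 h2) (rJ.1 h1))⟩⟩, ⟨fun ⟨h1, h2⟩ => ⟨h2, ?_⟩, fun ⟨h2, U, hzU, hU⟩ => ?_⟩⟩
  · obtain ⟨w0, hex, hepi⟩ := GrMap12.exact_conormal a ha b hb
    haveI := hepi
    haveI : Epi ((Scheme.Modules.pullbackId Z).inv.app (Omega.conormal (i ≫ j)) ≫ b) := epi_comp _ _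
    obtain ⟨⟨U', hU'⟩, hzU', hcl, rs, hrs, hker⟩ := id h1
    have hall : ∀ z' ∈ i ⁻¹ᵁ U', RegImm.IsRegularImmersionAt .regular i z' := fun z' hz' =>
      ⟨⟨U', hU'⟩, hz', hcl, rs, hrs, hker⟩
    obtain ⟨V, m, hzV, ⟨e⟩⟩ := exists_free_nhd i z h1
    obtain ⟨W, s, hzW, hWV, hs⟩ := exists_section ((Scheme.Modules.pullbackId Z).inv.app (Omega.conormal (i ≫ j)) ≫ b)
      (x := z) (U := V) hzV e (i ⁻¹ᵁ U') hzU'
    refine ⟨W, hzW, fun w => ?_⟩
    haveI : Mono ((Scheme.Modules.restrictFunctor W.ι).map a) := mono_restrict a W fun z' hz' =>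
      injective_stk j i a ha z' (h1_of_regAt i z' (hall z' (hWV hz')))
    exact ⟨ShortComplex.Splitting.ofExactOfSection _ (hex.map (Scheme.Modules.restrictFunctor W.ι)) s hs (by assumption)⟩
  · obtain ⟨w0, -, -⟩ := GrMap12.exact_conormal a ha b hb
    obtain ⟨sp⟩ := hU (by rw [← Functor.map_comp, w0, Functor.map_zero])
    obtain ⟨hI, hJ'⟩ := reg_of_split σ hσ hJ (rK.1 h2) fun x hx hx2 =>
      S8920.coeff_mem j i a ha z (fun v => S8675.mem_smul_top_of_retraction a U sp.r sp.f_r hzU v) x hx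
        (by rwa [hK])
    exact ⟨rJ.2 hJ', h2⟩

end Groth.Agent.S8921
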