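import Groth.Statements.S8922
import Groth.Agent.Lib.PullBC11.AffineBC
import Groth.Agent.Lib.EffCartier.FiniteType
import Groth.Agent.Lib.ModM1.Coh
import Groth.Agent.Lib.ModM1.QcohCrit
-- import your own Groth.Agent.* helpers here

set_option backward.isDefEq.respectTransparency false
set_option backward.isDefEq.respectTransparency.types false
set_option autoImplicit false
universe u
open CategoryTheory CategoryTheory.Limits AlgebraicGeometry TopologicalSpace
open SDiv

namespace Groth.Agent.S8922

open Opposite in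
/-- A quotient by the sections killed by powers of an ideal of finite type is quasi-coherent. -/
theorem isQCoh_of_killedByPower {X : Scheme.{u}} (J : X.IdealSheafData) (hJ : BlowUp.IsFiniteTypeIdeal J)
    {P G : X.Modules} (hP : Coh.IsQCoh P) (π : P ⟶ G) [Epi π]
    (h : ∀ (V : X.affineOpens) (m : P.presheaf.obj (op V.1)),
      π.app V.1 m = 0 ↔ BlowUp.KilledByPowerNear J P V m) : Coh.IsQCoh (kernel π) := by
  haveI : P.IsQuasicoherent := hP
  haveI : Coh.IsQCoh P := hP
  let ι := kernel.ι π
  have hS := (ShortComplex.mk ι π (kernel.condition π)).exact_of_f_is_kernel (kernelIsKernel π)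
  have lift : ∀ {V : X.Opens} (s : Γ(P, V)), π.app V s = 0 → ∃ k : Γ(kernel π, V), ι.app V k = s :=
    fun {V} s hs => M1.sections_exact hS V s hs
  have kills : ∀ {V : X.Opens} (k : Γ(kernel π, V)), π.app V (ι.app V k) = 0 := fun {V} k => by
    show (ι ≫ π).app V k = 0
    rw [kernel.condition]; rfl
  refine M1.isQCoh_of_loc_affine _ (fun U hU r t => ?_) (fun U hU r t ht => ?_)
  · obtain ⟨k, t₁, ht₁⟩ := M1.exists_pow_smul_eq_res_affine P hU r (ι.app _ t)
    obtain ⟨n, hn⟩ := (h ⟨X.basicOpen r, hU.basicOpen r⟩ (ι.app _ t)).1 (kills t)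
    obtain ⟨s, hs⟩ : ((J ^ n).ideal ⟨U, hU⟩).FG := by
      rw [Scheme.IdealSheafData.ideal_pow, Pi.pow_apply]
      exact Submodule.FG.pow (hJ ⟨U, hU⟩) n
    have hres : ∀ a ∈ (J ^ n).ideal ⟨U, hU⟩, ∃ N : ℕ, r ^ N • a • t₁ = 0 := by
      intro a ha
      refine M1.exists_pow_smul_eq_zero_affine P hU r _ ?_
      have hmem : M1.ores (X.basicOpen_le r) a ∈ (J ^ n).ideal ⟨X.basicOpen r, hU.basicOpen r⟩ := by
        have e := (J ^ n).map_ideal_basicOpen ⟨U, hU⟩ r
        exact e.le (Ideal.mem_map_of_mem _ ha)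
      rw [M1.mres_smul, ht₁, smul_comm, hn _ hmem, smul_zero]
    choose N hN using hres
    classical
    let N₀ := s.attach.sup fun a => N a.1 (hs ▸ Ideal.subset_span a.2)
    have hkill : ∀ a ∈ (J ^ n).ideal ⟨U, hU⟩, a • r ^ N₀ • t₁ = 0 := by
      intro a ha
      rw [← hs] at ha
      refine Submodule.span_induction (p := fun a _ => a • r ^ N₀ • t₁ = 0) ?_ (zero_smul _ _)
        (fun a b _ _ ha hb => by rw [add_smul, ha, hb, add_zero])
        (fun c a _ ha => by rw [smul_eq_mul, mul_smul, ha, smul_zero]) ha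
      intro a ha
      have hle : N a (hs ▸ Ideal.subset_span ha) ≤ N₀ :=
        Finset.le_sup (f := fun a : s => N a.1 (hs ▸ Ideal.subset_span a.2)) (Finset.mem_attach s ⟨a, ha⟩)
      rw [smul_comm, ← Nat.sub_add_cancel hle, pow_add, mul_smul, hN, smul_zero]
    obtain ⟨t₀, ht₀⟩ := lift (r ^ N₀ • t₁) ((h ⟨U, hU⟩ _).2 ⟨n, hkill⟩)
    refine ⟨N₀ + k, t₀, M1.app_injective ι _ ?_⟩
    rw [M1.app_mres, ht₀, M1.mres_smul, ht₁, Scheme.Modules.Hom.app_smul, map_pow, ← mul_smul, ← pow_add]
  · have h0 : M1.mres P (X.basicOpen_le r) (ι.app U t) = 0 := by rw [← M1.app_mres, ht, map_zero]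
    obtain ⟨n, hn⟩ := M1.exists_pow_smul_eq_zero_affine P hU r (ι.app U t) h0
    exact ⟨n, M1.app_injective ι U (by rw [Scheme.Modules.Hom.app_smul, hn, map_zero])⟩

theorem isFiniteTypeIdeal_of_effCartier {X : Scheme.{u}} {I : X.IdealSheafData}
    (h : BlowUp.IsEffCartierIdeal I) : BlowUp.IsFiniteTypeIdeal I :=
  EffCartier.isFiniteTypeIdeal_of_forall_exists fun x => by
    obtain ⟨U, hx, f, -, hf⟩ := h x
    exact ⟨U, hx, hf ▸ Submodule.fg_span_singleton f⟩

/-- Direct image along an affine morphism preserves an epimorphism with quasi-coherent kernel. -/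
theorem epi_pushforward {X Y : Scheme.{u}} (g : X ⟶ Y) [IsAffineHom g] {M N : X.Modules} (φ : M ⟶ N) [Epi φ]
    (hK : Coh.IsQCoh (kernel φ)) : Epi ((Scheme.Modules.pushforward g).map φ) := by
  rw [M1.epi_iff_locally_surjective]
  intro U t x hx
  obtain ⟨W, hW, hxW, hWU⟩ := exists_isAffineOpen_mem_and_subset (X := Y) hx
  obtain ⟨m, hm⟩ := M1.app_surjective_affine φ hK (hW.preimage g)
    (M1.mres ((Scheme.Modules.pushforward g).obj N) hWU t)
  exact ⟨W, hWU, hxW, m, hm⟩

/-- Let S be a scheme, 𝓘 a quasi-coherent ideal sheaf on S with closed subscheme Z, b : S' ⟶ S a blowing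
up of S in Z, g : X ⟶ Y an affine morphism of schemes over S, F a quasi-coherent O_X-module, and π :
pr_X^*F ⟶ F' a strict transform of F along b (on X ×_S S'). Write g' : X ×_S S' ⟶ Y ×_S S' for the
base change of g. Then g'_*F' is a strict transform of g_*F along b: there is an epimorphism
pr_Y^*(g_*F) ⟶ g'_*F' whose kernel consists, affine-locally, exactly of the sections annihilated by
a power of the inverse image of 𝓘. The published statement identifies g'_*F' with the strict
transform through the canonical base-change isomorphism; this row asserts only that some epimorphism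
from pr_Y^*(g_*F) onto g'_*F' has the strict-transform property. -/
theorem result {X Y S S' : Scheme.{u}} (hX : X ⟶ S) (hY : Y ⟶ S) (g : X ⟶ Y) [IsAffineHom g]
    (h : g ≫ hY = hX) (𝓘 : S.IdealSheafData) (b : S' ⟶ S) (hb : BlowUp.IsBlowUp b 𝓘) (F : X.Modules) (hF : Coh.IsQCoh F)
    (F' : (pullback hX b).Modules) (π : (Scheme.Modules.pullback (pullback.fst hX b)).obj F ⟶ F')
    (hπ : BlowUp.IsStrictTransform (pullback.fst hX b) (𝓘.comap hX) F F' π) :
    ∃ π' : (Scheme.Modules.pullback (pullback.fst hY b)).obj ((Scheme.Modules.pushforward g).obj F) ⟶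
        (Scheme.Modules.pushforward (pullback.map hX b hY b g (𝟙 S') (𝟙 S)
          ((Category.comp_id hX).trans h.symm) ((Category.comp_id b).trans (Category.id_comp b).symm))).obj F',
      BlowUp.IsStrictTransform (pullback.fst hY b) (𝓘.comap hY) ((Scheme.Modules.pushforward g).obj F)
        ((Scheme.Modules.pushforward (pullback.map hX b hY b g (𝟙 S') (𝟙 S)
          ((Category.comp_id hX).trans h.symm) ((Category.comp_id b).trans (Category.id_comp b).symm))).obj F') π' := by
  subst h
  let g' := pullback.map (g ≫ hY) b hY b g (𝟙 S') (𝟙 S) (Category.comp_id _)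
    ((Category.comp_id b).trans (Category.id_comp b).symm)
  have hg1 : g' ≫ pullback.fst hY b = pullback.fst (g ≫ hY) b ≫ g := pullback.lift_fst _ _ _
  have hg2 : g' ≫ pullback.snd hY b = pullback.snd (g ≫ hY) b := (pullback.lift_snd _ _ _).trans (Category.comp_id _)
  have sq : IsPullback (pullback.fst (g ≫ hY) b) g' g (pullback.fst hY b) :=
    IsPullback.of_bot (by rw [hg2]; exact IsPullback.of_hasPullback _ _) hg1.symm (IsPullback.of_hasPullback hY b)
  haveI : IsAffineHom g' := MorphismProperty.of_isPullback sq inferInstance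
  haveI : Epi π := hπ.1
  let P := (Scheme.Modules.pullback (pullback.fst (g ≫ hY) b)).obj F
  let Q := (Scheme.Modules.pullback (pullback.fst hY b)).obj ((Scheme.Modules.pushforward g).obj F)
  let β : Q ⟶ (Scheme.Modules.pushforward g').obj P :=
    ((Scheme.Modules.pullbackPushforwardAdjunction (pullback.fst hY b)).homEquiv _ _).symm
      (PullBC11.bcMap sq F)
  haveI : IsIso β := PullBC11.isIso_bcMap sq F hF
  let EY := BlowUp.exceptional (pullback.fst hY b) (𝓘.comap hY)
  have hE : BlowUp.exceptional (pullback.fst (g ≫ hY) b) (𝓘.comap (g ≫ hY)) = EY.comap g' := by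
    simp only [EY, BlowUp.exceptional]
    rw [← Scheme.IdealSheafData.comap_comp, ← Scheme.IdealSheafData.comap_comp, ← Scheme.IdealSheafData.comap_comp,
      ← Category.assoc, hg1, Category.assoc]
  have hEft : BlowUp.IsFiniteTypeIdeal (BlowUp.exceptional (pullback.fst (g ≫ hY) b) (𝓘.comap (g ≫ hY))) := by
    simp only [BlowUp.exceptional]
    rw [← Scheme.IdealSheafData.comap_comp, pullback.condition, Scheme.IdealSheafData.comap_comp]
    exact EffCartier.isFiniteTypeIdeal_comap (isFiniteTypeIdeal_of_effCartier hb.1) _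
  have hK : Coh.IsQCoh (kernel π) := isQCoh_of_killedByPower _ hEft (M1.isQCoh_pullback _ hF) π hπ.2
  haveI : Epi ((Scheme.Modules.pushforward g').map π) := epi_pushforward g' π hK
  refine ⟨β ≫ (Scheme.Modules.pushforward g').map π, epi_comp _ _, fun V m => ?_⟩
  let W : (pullback (g ≫ hY) b).affineOpens := ⟨g' ⁻¹ᵁ V.1, V.2.preimage g'⟩
  let e : Γ(P, W.1) := β.app V.1 m
  refine (show _ ↔ π.app W.1 e = 0 from Iff.rfl).trans ((hπ.2 W e).trans ?_)
  refine exists_congr fun n => ?_
  rw [hE, show (EY.comap g' ^ n).ideal W = ((EY ^ n).ideal V).map (g'.app V.1).hom by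
    rw [Scheme.IdealSheafData.ideal_pow, Scheme.IdealSheafData.ideal_pow, Pi.pow_apply, Pi.pow_apply,
      EffCartier.comap_ideal EY g' V W le_rfl, Ideal.map_pow, Scheme.Hom.appLE_eq_app]]
  have hs : ∀ a : Γ(pullback hY b, V.1), β.app V.1 (a • m) = (g'.app V.1).hom a • e := fun a =>
    Scheme.Modules.Hom.app_smul β a m
  constructor
  · intro hk a ha
    have h1 : β.app V.1 (a • m) = 0 := (hs a).trans (hk _ (Ideal.mem_map_of_mem _ ha))
    exact M1.app_injective β V.1 (h1.trans (map_zero _).symm)
  · intro hk a ha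
    have hle : ((EY ^ n).ideal V).map (g'.app V.1).hom ≤ Ideal.torsionOf _ _ e := by
      rw [Ideal.map_le_iff_le_comap]
      intro c hc
      show (g'.app V.1).hom c • e = 0
      rw [← hs c, hk c hc, map_zero]
    exact hle ha

end Groth.Agent.S8922
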