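import Groth.Statements.S8923
import Groth.Agent.Lib.Cyc26.C1Inv
-- import your own Groth.Agent.* helpers here

set_option autoImplicit false
universe u
open CategoryTheory CategoryTheory.Limits AlgebraicGeometry TopologicalSpace
open SDiv

namespace Groth.Agent.S8923

/-- Let X be an integral scheme that is locally Noetherian, L an invertible O_X-module and s a nonzero
rational (regular meromorphic) section of L, viewed as a nonzero element of the stalk of L at the
generic point. Then the collection of prime divisors Z ⊆ X with ord_{Z,L}(s) ≠ 0, i.e. the closures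
of the codimension-1 points x (dim O_{X,x} = 1) along which s has nonzero order, is locally finite
in X. -/
theorem result (X : Scheme.{u}) [IsIntegral X] [IsLocallyNoetherian X] (L : X.Modules)
    (hL : PicF.IsInvertible L) (s : Cyc.secFibre L (genericPoint ↥X)) (hs : s ≠ 0) :
    LocallyFinite (fun x : {x : ↥X // ringKrullDim ↑(X.presheaf.stalk x) = 1 ∧
        Cyc.secOrdAt L (genericPoint ↥X) x ((genericPoint_spec ↥X).specializes (Set.mem_univ x)) s ≠ 0} => closure ({x.1} : Set ↥X)) := by
  intro z
  obtain ⟨V, e, hzV, -, hV, he⟩ := Groth.Agent.Amp.exists_isGenerator hL (V := ⊤) (x := z) trivial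
  have hηV : genericPoint X ∈ V := (genericPoint_specializes z).mem_open V.isOpen hzV
  obtain ⟨f, hf, hford, -⟩ := Cyc26.exists_secDivFun_eq_divFun hL he hηV hs
  obtain ⟨a, b, hfab⟩ := Groth.Agent.VarDim.exists_evaluation_eq_div hV (genericPoint X) hηV f
  have hb0 : X.evaluation V (genericPoint X) hηV b ≠ 0 := fun h0 => hf (by rw [hfab, h0, div_zero])
  have ha0 : X.evaluation V (genericPoint X) hηV a ≠ 0 := fun h0 => hf (by rw [hfab, h0, zero_div])
  let Z : Γ(X, V) → Set X := fun c => (X.basicOpen c : Set X)ᶜ
  have hZc : ∀ c, IsClosed (Z c) := fun c => (X.basicOpen c).isOpen.isClosed_compl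
  have hgenZ : ∀ c, X.evaluation V (genericPoint X) hηV c ≠ 0 → genericPoint X ∉ Z c := fun c hc hmem => by
    refine hmem ((Scheme.mem_basicOpen _ c _ hηV).2 ?_)
    by_contra hnu
    exact hc ((IsLocalRing.residue_eq_zero_iff _).2 hnu)
  have hmax : ∀ (x : X) (c : Γ(X, V)), ringKrullDim (X.presheaf.stalk x) = 1 →
      X.evaluation V (genericPoint X) hηV c ≠ 0 → x ∈ V → x ∈ Z c →
      x ∈ {w : X | w ∈ Z c ∧ (∀ y ∈ Z c, y ⤳ w → y = w) ∧ w ∈ V} := by
    intro x c hdim hc hxV hxc
    refine ⟨hxc, fun y hy hyx => ?_, hxV⟩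
    by_contra hne
    have hlt : x < y := lt_of_le_not_ge hyx fun h =>
      hne (Specializes.antisymm hyx (show x ⤳ y from h)).eq
    have h2 : Order.coheight x = 1 := WithBot.coe_eq_one.1 ((ringKrullDim_stalk_eq_coheight x).symm.trans hdim)
    have h1 := Order.coheight_add_one_le hlt
    rw [h2] at h1
    have h0 : Order.coheight y = 0 := by
      revert h1
      cases Order.coheight y with
      | top => simp
      | coe n =>
        intro h1
        have : n + 1 ≤ 1 := by exact_mod_cast h1
        exact_mod_cast (show n = 0 by omega)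
    rw [Order.coheight_eq_zero] at h0
    have hyη : y = genericPoint X :=
      (Specializes.antisymm (h0 (genericPoint_specializes y)) (genericPoint_specializes y)).eq
    exact hgenZ c hc (hyη ▸ hy)
  refine ⟨(V : Set X), V.isOpen.mem_nhds hzV, ?_⟩
  refine ((((Cyc26.finite_maximal_points (hZc a) hV).union (Cyc26.finite_maximal_points (hZc b) hV))).preimage
    Subtype.val_injective.injOn).subset ?_
  rintro ⟨x, hdim, hne⟩ ⟨y, hy1, hy2⟩
  have hxV : x ∈ V := (specializes_iff_mem_closure.2 hy1).mem_open V.isOpen hy2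
  have key : x ∈ Z a ∨ x ∈ Z b := by
    by_contra hc
    have hsp := (genericPoint_spec X).specializes (Set.mem_univ x)
    have hu : ∀ c, x ∉ Z c → IsUnit (X.presheaf.germ V x hxV c) := fun c hc =>
      (Scheme.mem_basicOpen _ c x hxV).1 (not_not.1 hc)
    obtain ⟨ua, hua⟩ := hu a fun h => hc (Or.inl h)
    obtain ⟨ub, hub⟩ := hu b fun h => hc (Or.inr h)
    have hev : ∀ c, Cyc.specMap x (genericPoint X) hsp (X.presheaf.germ V x hxV c) =
        X.evaluation V (genericPoint X) hηV c := fun c =>
      congrArg (X.residue _) (TopCat.Presheaf.germ_stalkSpecializes_apply X.presheaf hxV hsp c)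
    have hval : Cyc.specMap x (genericPoint X) hsp (ua * ub⁻¹ : (X.presheaf.stalk x)ˣ).val = f := by
      rw [Units.val_mul, map_mul, hua, hev, map_units_inv, hub, hev, hfab, div_eq_mul_inv]
    refine hne ?_
    rw [hford x hxV hsp, ← hval]
    exact Cyc26.ordAt_eq_zero_of_isUnit hsp (Units.isUnit _)
  rcases key with h | h
  · exact Or.inl (hmax x a hdim ha0 hxV h)
  · exact Or.inr (hmax x b hdim hb0 hxV h)

end Groth.Agent.S8923
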