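import Groth.Statements.S8927
import Mathlib

set_option autoImplicit false
universe u
open Disc

namespace Groth.Agent.S8927

/-- For a map A → B of Noetherian rings such that the localization B_q is flat over A for every
associated prime q of B, every nonzerodivisor of A maps to a nonzerodivisor of B. -/
theorem result (A B : Type u) [CommRing A] [CommRing B] [IsNoetherianRing A] [IsNoetherianRing B] [Algebra A B] (h3 : ∀ (q : Ideal B) [q.IsPrime], IsAssociatedPrime q B → Module.Flat A (Localization.AtPrime q)) : nonZeroDivisors A ≤ (nonZeroDivisors B).comap (algebraMap A B) := by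
  intro a ha
  rw [Submonoid.mem_comap]
  by_contra hb
  obtain ⟨q, hq, haq⟩ : ∃ q ∈ associatedPrimes B B, algebraMap A B a ∈ q := by
    have : algebraMap A B a ∈ ⋃ q ∈ associatedPrimes B B, (q : Set B) := by
      rw [biUnion_associatedPrimes_eq_compl_nonZeroDivisors]; exact hb
    simpa using this
  have hqa : IsAssociatedPrime q B := hq
  have hqp : q.IsPrime := hqa.isPrime
  have := h3 q hqa
  obtain ⟨_, x, hx⟩ := isAssociatedPrime_iff.1 hqa
  have hax : algebraMap A B a * x = 0 := by
    rw [hx] at haq
    simpa [Submodule.mem_colon_singleton] using haq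
  have hreg : IsSMulRegular (Localization.AtPrime q) a := fun u v huv =>
    (IsSMulRegular.of_flat (S := Localization.AtPrime q)
      (isRegular_iff_mem_nonZeroDivisors.2 ha).isSMulRegular)
      (by simpa [Algebra.smul_def] using huv)
  have h0 : algebraMap B (Localization.AtPrime q) x = 0 := by
    apply hreg
    show a • _ = a • (0 : Localization.AtPrime q)
    rw [smul_zero, Algebra.smul_def, IsScalarTower.algebraMap_apply A B (Localization.AtPrime q),
      ← map_mul, hax, map_zero]
  obtain ⟨⟨m, hm⟩, hmx⟩ := (IsLocalization.map_eq_zero_iff q.primeCompl _ _).1 h0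
  refine hm ?_
  rw [hx]
  simpa [Submodule.mem_colon_singleton] using hmx
end Groth.Agent.S8927
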