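import Groth.Statements.S8929
import Groth.Agent.Lib.Disc25.FlatAss

set_option autoImplicit false
universe u
open scoped TensorProduct
open Disc

namespace Groth.Agent.S8929

/-- Let A → B be a map of Noetherian rings with the going-up property. If B_q is flat over A for every
associated prime q of B and for every prime q of B lying over an associated prime of A, then Q(A)
⊗_A B is flat over the total ring of fractions Q(A). -/
theorem result (A B : Type u) [CommRing A] [CommRing B] [IsNoetherianRing A] [IsNoetherianRing B] [Algebra A B] [Algebra.HasGoingUp A B] (h3 : ∀ (q : Ideal B) [q.IsPrime], IsAssociatedPrime q B → Module.Flat A (Localization.AtPrime q)) (h4 : ∀ (q : Ideal B) [q.IsPrime], IsAssociatedPrime (q.comap (algebraMap A B)) A → Module.Flat A (Localization.AtPrime q)) : Module.Flat (FractionRing A) (FractionRing A ⊗[A] B) := by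
  classical
  letI : Algebra B (FractionRing A ⊗[A] B) := Algebra.TensorProduct.rightAlgebra
  haveI hl : IsLocalization (Algebra.algebraMapSubmonoid B (nonZeroDivisors A))
      (FractionRing A ⊗[A] B) := IsLocalization.tensorRight (FractionRing A) (nonZeroDivisors A)
  haveI : IsScalarTower A B (FractionRing A ⊗[A] B) :=
    IsScalarTower.of_algebraMap_eq' (by
      ext a
      simp [Algebra.TensorProduct.right_algebraMap_apply, Algebra.algebraMap_eq_smul_one,
        TensorProduct.smul_tmul'])
  suffices Module.Flat A (FractionRing A ⊗[A] B) from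
    (Module.flat_iff_of_isLocalization (FractionRing A) (nonZeroDivisors A) _).2 this
  refine Module.flat_of_isLocalized_maximal (FractionRing A ⊗[A] B) (FractionRing A ⊗[A] B)
    (fun P => Localization.AtPrime P) (fun P => Algebra.linearMap _ _) fun P hP => ?_
  -- the corresponding prime of `B` and its contraction to `A`
  let Q : Ideal B := P.comap (algebraMap B (FractionRing A ⊗[A] B))
  have hloc := IsLocalization.isLocalization_isLocalization_atPrime_isLocalization
    (Algebra.algebraMapSubmonoid B (nonZeroDivisors A)) (Localization.AtPrime P) P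
  let e : Localization.AtPrime Q ≃ₐ[B] Localization.AtPrime P :=
    IsLocalization.algEquiv Q.primeCompl _ _
  suffices Module.Flat A (Localization.AtPrime Q) from
    Module.Flat.of_linearEquiv (e.restrictScalars A).symm.toLinearEquiv
  let p : Ideal A := Q.comap (algebraMap A B)
  obtain ⟨p', hp', hpp'⟩ : ∃ p' ∈ associatedPrimes A A, p ≤ p' := by
    have hsub : (p : Set A) ⊆ ⋃ i ∈ ((associatedPrimes.finite A A).toFinset : Set (Ideal A)), (i : Set A) := by
      rw [Set.Finite.coe_toFinset, biUnion_associatedPrimes_eq_compl_nonZeroDivisors]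
      intro a ha hreg
      exact hP.ne_top (P.eq_top_of_isUnit_mem ha
        (IsLocalization.map_units (M := Algebra.algebraMapSubmonoid B (nonZeroDivisors A)) (FractionRing A ⊗[A] B) ⟨algebraMap A B a, a, hreg, rfl⟩))
    obtain ⟨i, hi, hle⟩ := (Ideal.subset_union_prime ⊤ ⊤ fun i hi _ _ =>
      ((associatedPrimes.finite A A).mem_toFinset.1 hi).isPrime).1 hsub
    exact ⟨i, (associatedPrimes.finite A A).mem_toFinset.1 hi, hle⟩
  have : p'.IsPrime := hp'.isPrime
  have : Q.LiesOver p := ⟨rfl⟩
  obtain ⟨Q', hQQ', hQ'prime, hQ'over⟩ := Ideal.exists_ideal_ge_liesOver_of_le Q hpp'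
  have h5 : Module.Flat A (Localization.AtPrime Q') := by
    refine h4 Q' ?_
    have : Q'.comap (algebraMap A B) = p' := hQ'over.over.symm
    rw [this]
    exact hp'
  have hle : Q'.primeCompl ≤ Q.primeCompl := fun x hx hxQ => hx (hQQ' hxQ)
  letI : Algebra (Localization.AtPrime Q') (Localization.AtPrime Q) :=
    IsLocalization.localizationAlgebraOfSubmonoidLe _ _ Q'.primeCompl Q.primeCompl hle
  haveI : IsScalarTower B (Localization.AtPrime Q') (Localization.AtPrime Q) :=
    IsLocalization.localization_isScalarTower_of_submonoid_le _ _ Q'.primeCompl Q.primeCompl hle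
  haveI : IsLocalization (Q.primeCompl.map (algebraMap B (Localization.AtPrime Q')))
      (Localization.AtPrime Q) :=
    IsLocalization.isLocalization_of_submonoid_le _ _ Q'.primeCompl Q.primeCompl hle
  haveI : IsScalarTower A (Localization.AtPrime Q') (Localization.AtPrime Q) :=
    IsScalarTower.to₁₃₄ A B _ _
  have h6 : Module.Flat (Localization.AtPrime Q') (Localization.AtPrime Q) :=
    IsLocalization.flat _ (Q.primeCompl.map (algebraMap B (Localization.AtPrime Q')))
  exact Module.Flat.trans A (Localization.AtPrime Q') _
end Groth.Agent.S8929
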