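import Groth.Statements.S8930
import Groth.Agent.Lib.DiscNoether25.BaseChange
import Mathlib.AlgebraicGeometry.Pullbacks
import Mathlib.RingTheory.FiniteType
import Mathlib.LinearAlgebra.TensorProduct.RightExactness

set_option autoImplicit false
universe u
open AlgebraicGeometry
open Disc

namespace Groth.Agent.S8930

open scoped TensorProduct
open CategoryTheory

/-- Given two factorizations A → B' → B and A → B'' → B of a ring map with A → B' and A → B'' finite and
Spec(B) → Spec(B'), Spec(B) → Spec(B'') open immersions, there is an A-subalgebra C of B which is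
finite over A, contains the images of B' and B'', and is such that Spec(B) → Spec(C) is an open
immersion. (Such an A → B is quasi-finite; that hypothesis of the published statement is implied by
the factorizations and is not repeated.) -/
theorem result (A B B' B'' : Type u) [CommRing A] [CommRing B] [CommRing B'] [CommRing B''] [Algebra A B] [Algebra A B'] [Algebra A B''] [Algebra B' B] [Algebra B'' B] [IsScalarTower A B' B] [IsScalarTower A B'' B] [Module.Finite A B'] [Module.Finite A B''] (h' : IsOpenImmersion (Spec.map (CommRingCat.ofHom (algebraMap B' B)))) (h'' : IsOpenImmersion (Spec.map (CommRingCat.ofHom (algebraMap B'' B)))) : ∃ C : Subalgebra A B, Module.Finite A C ∧ Set.range (algebraMap B' B) ⊆ (C : Set B) ∧ Set.range (algebraMap B'' B) ⊆ (C : Set B) ∧ IsOpenImmersion (Spec.map (CommRingCat.ofHom C.val.toRingHom)) := by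
  classical
  haveI e' := Groth.Agent.DiscNoether25.epi_of_isOpenImmersion h'
  have f' : (algebraMap B' B).Flat := Groth.Agent.DiscNoether25.flat_of_isOpenImmersion h'
  haveI : Module.Flat B' B := RingHom.flat_algebraMap_iff.1 f'
  let C : Subalgebra A B := (IsScalarTower.toAlgHom A B' B).range ⊔ (IsScalarTower.toAlgHom A B'' B).range
  have hle' : Set.range (algebraMap B' B) ⊆ (C : Set B) := by
    rintro _ ⟨x, rfl⟩
    exact (le_sup_left : (IsScalarTower.toAlgHom A B' B).range ≤ C) ⟨x, rfl⟩
  haveI : Module.Finite A (IsScalarTower.toAlgHom A B' B).range :=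
    Module.Finite.of_surjective (IsScalarTower.toAlgHom A B' B).rangeRestrict.toLinearMap
      (IsScalarTower.toAlgHom A B' B).rangeRestrict_surjective
  haveI : Module.Finite A (IsScalarTower.toAlgHom A B'' B).range :=
    Module.Finite.of_surjective (IsScalarTower.toAlgHom A B'' B).rangeRestrict.toLinearMap
      (IsScalarTower.toAlgHom A B'' B).rangeRestrict_surjective
  have hfin : Module.Finite A C :=
    Subalgebra.finite_sup (IsScalarTower.toAlgHom A B' B).range (IsScalarTower.toAlgHom A B'' B).range
  refine ⟨C, hfin, hle', ?_, ?_⟩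
  · rintro _ ⟨x, rfl⟩
    exact (le_sup_right : (IsScalarTower.toAlgHom A B'' B).range ≤ C) ⟨x, rfl⟩
  letI : Algebra B' C := ((algebraMap B' B).codRestrict C.toSubring fun x => hle' ⟨x, rfl⟩).toAlgebra
  haveI : IsScalarTower B' C B := IsScalarTower.of_algebraMap_eq fun _ => rfl
  let m : B ⊗[B'] C →ₐ[B'] B :=
    Algebra.TensorProduct.lift (AlgHom.id B' B) (IsScalarTower.toAlgHom B' C B) fun _ _ => .all _ _
  have hm : Function.Bijective m := by
    refine ⟨?_, fun b => ⟨b ⊗ₜ 1, by simp [m]⟩⟩
    have hinj : Function.Injective ((IsScalarTower.toAlgHom B' C B).toLinearMap.lTensor B) :=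
      Module.Flat.lTensor_preserves_injective_linearMap _ Subtype.val_injective
    have hlift : Function.Injective (Algebra.TensorProduct.lmul' B' : B ⊗[B'] B →ₐ[B'] B) :=
      Algebra.IsEpi.injective_lift_mul
    intro x y hxy
    have hcomp : ∀ z, m z = Algebra.TensorProduct.lmul' B'
        ((IsScalarTower.toAlgHom B' C B).toLinearMap.lTensor B z) := by
      intro z
      induction z using TensorProduct.induction_on with
      | zero => simp
      | tmul b c => simp [m]
      | add z w hz hw => simp only [map_add, hz, hw]
    exact hinj (hlift ((hcomp x).symm.trans (hxy.trans (hcomp y))))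
  have hpo : CategoryTheory.IsPushout (CommRingCat.ofHom (algebraMap B' B))
      (CommRingCat.ofHom (algebraMap B' C)) (𝟙 (CommRingCat.of B)) (CommRingCat.ofHom C.val.toRingHom) := by
    refine (CommRingCat.isPushout_tensorProduct B' B C).of_iso (Iso.refl _) (Iso.refl _) (Iso.refl _)
      (RingEquiv.ofBijective m hm).toCommRingCatIso ?_ ?_ ?_ ?_
    · simp
    · simp
    · ext b
      change m (b ⊗ₜ 1) = b
      simp [m]
    · ext c
      change m (1 ⊗ₜ c) = _
      simp [m]
  have hpb := isPullback_SpecMap_of_isPushout _ _ _ _ hpo
  exact MorphismProperty.of_isPullback (P := @IsOpenImmersion) hpb h' 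

end Groth.Agent.S8930
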