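import Groth.Statements.S8936
import Groth.Agent.Lib.InjHull.Basic

set_option autoImplicit false
universe u v
open InjHull

namespace Groth.Agent.S8936

/-- For a directed system (E_i) of R-modules over a nonempty directed preorder and a compatible family
of essential injections M → E_i, the induced map from M to the direct limit of the E_i is an
essential injection. -/
theorem result (R : Type u) [CommRing R] (ι : Type v) [Preorder ι] [IsDirectedOrder ι] [DecidableEq ι] (i₀ : ι) (E : ι → Type v) [∀ i, AddCommGroup (E i)] [∀ i, Module R (E i)] (f : ∀ i j, i ≤ j → E i →ₗ[R] E j) [DirectedSystem E fun i j h => f i j h] (M : Type v) [AddCommGroup M] [Module R M] (g : ∀ i, M →ₗ[R] E i) (hg : ∀ i j (h : i ≤ j), f i j h ∘ₗ g i = g j) (he : ∀ i, InjHull.IsEssentialInj (g i)) : InjHull.IsEssentialInj (Module.DirectLimit.of R ι E f i₀ ∘ₗ g i₀) := by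
  rw [Groth.Agent.InjHullLib.isEssentialInj_iff]
  have : Nonempty ι := ⟨i₀⟩
  have hgm : ∀ i j (h : i ≤ j) (m : M), f i j h (g i m) = g j m := fun i j h m =>
    LinearMap.congr_fun (hg i j h) m
  have heq : ∀ i m, Module.DirectLimit.of R ι E f i (g i m) = Module.DirectLimit.of R ι E f i₀ (g i₀ m) := by
    intro i m
    obtain ⟨k, hik, h0k⟩ := directed_of (· ≤ ·) i i₀
    rw [← Module.DirectLimit.of_f (hij := hik), ← Module.DirectLimit.of_f (f := f) (hij := h0k),
      hgm i k hik, hgm i₀ k h0k]
  refine ⟨?_, fun z hz => ?_⟩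
  · refine (injective_iff_map_eq_zero _).2 fun m hm => ?_
    obtain ⟨k, hk, hkm⟩ := Module.DirectLimit.of.zero_exact hm
    rw [hgm] at hkm
    exact (he k).injective (hkm.trans (map_zero _).symm)
  · obtain ⟨i, x, rfl⟩ := Module.DirectLimit.exists_of z
    have hx : x ≠ 0 := fun h => hz (by rw [h, map_zero])
    obtain ⟨r, m, hm, hm0⟩ := (he i).exists_smul hx
    refine ⟨r, ⟨m, ?_⟩, ?_⟩
    · rw [LinearMap.comp_apply, ← heq i, hm, map_smul]
    · rw [← map_smul, ← hm, heq i]
      intro h
      obtain ⟨k, hk, hkm⟩ := Module.DirectLimit.of.zero_exact h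
      rw [hgm] at hkm
      exact hm0 ((he k).injective (hkm.trans (map_zero _).symm))

end Groth.Agent.S8936
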