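import Groth.Statements.S8937
import Groth.Agent.Lib.BlowUp3.SpecIdeal
import Groth.Agent.Lib.BlowUpExist.Proper
import Groth.Agent.Lib.EffCartier.Basic
import Groth.Agent.S1682
import Groth.Agent.Lib.VanFib13.Vanish
import Groth.Agent.Lib.VanFib13.Apply
import Groth.Agent.Lib.CohFound.AffMor
import Groth.Agent.Lib.ModM1.Push
import Groth.Agent.Lib.LocCoh.PunctCoh27
-- import your own Groth.Agent.* helpers here

set_option autoImplicit false
universe u
open CategoryTheory AlgebraicGeometry
attribute [local instance] HasDerivedCategory.standard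
open LocCoh

namespace Groth.Agent.S8937

/-- Let A be a Noetherian ring, I an ideal and b : X → Spec A a blowing up of Spec A in I. If the fibres
of b have dimension at most d, then cd(A, I) ≤ d + 1, i.e. H^i_I(M) = 0 for all A-modules M and all
i > d + 1. -/
theorem result (A : Type u) [CommRing A] [IsNoetherianRing A] (I : Ideal A) (X : Scheme.{u}) (b : X ⟶ Spec (CommRingCat.of A)) (hb : BlowUp.IsBlowUp b (Curv2.idealSheaf A I)) (d : ℕ) (hd : Dual3.FibreDimLE b d) : LocCoh.CdLE A I (d + 1) := by
  intro M _ _ i hi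
  obtain ⟨p, rfl⟩ : ∃ p, i = p + 2 := ⟨i - 2, by omega⟩
  suffices h : Subsingleton (Coh.HH (↑(LocCoh.puncturedOpen A I)) (Groth.Agent.LocCohSheafLib.punct I M) (p + 1)) by
    obtain ⟨e⟩ := Groth.Agent.LocCohSheafLib.nonempty_HH_punct_equiv I p M
    exact e.symm.injective.subsingleton
  have hU : (Curv2.idealSheaf A I).support.compl = LocCoh.puncturedOpen A I := by
    refine TopologicalSpace.Opens.ext (Set.ext fun q => not_congr ?_)
    exact (Groth.Agent.BlowUp3.mem_support_idealSheaf I q).trans (PrimeSpectrum.mem_zeroLocus _ _).symm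
  have hFG : ((Curv2.idealSheaf A I).ideal ⟨⊤, isAffineOpen_top _⟩).FG := by
    rw [Groth.Agent.BlowUp3.idealSheaf_ideal_top]
    exact Ideal.FG.map (IsNoetherian.noetherian I) _
  haveI : IsProper b := Groth.Agent.BlowUpExist.isProper_of_affine hFG hb
  haveI hiso : IsIso (b ∣_ LocCoh.puncturedOpen A I) := hU ▸ Groth.Agent.S1682.result _ b hb
  have hpre : Groth.Agent.EffCartier.cmpl ((Curv2.idealSheaf A I).comap b) = b ⁻¹ᵁ LocCoh.puncturedOpen A I := by
    rw [← hU]
    refine TopologicalSpace.Opens.ext ?_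
    show ((((Curv2.idealSheaf A I).comap b).support : TopologicalSpace.Closeds X) : Set X)ᶜ = _
    rw [Scheme.IdealSheafData.support_comap]
    rfl
  haveI : IsAffineHom (b ⁻¹ᵁ LocCoh.puncturedOpen A I).ι := hpre ▸ Groth.Agent.EffCartier.isAffineHom_interior hb.1
  let k : (↑(LocCoh.puncturedOpen A I) : Scheme.{u}) ⟶ X := inv (b ∣_ LocCoh.puncturedOpen A I) ≫ (b ⁻¹ᵁ LocCoh.puncturedOpen A I).ι
  haveI : IsAffineHom k := inferInstance
  haveI : QuasiCompact k := inferInstance
  haveI : QuasiSeparated k := inferInstance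
  let G := Groth.Agent.LocCohSheafLib.punct I M
  have hG : Coh.IsQCoh G := Groth.Agent.M1.isQCoh_restrict (M := tilde (R := CommRingCat.of A) (ModuleCat.of A M)) inferInstance _
  haveI : G.IsQuasicoherent := hG
  rw [Groth.Agent.CohFound.subsingleton_HH_iff]
  obtain ⟨e⟩ := Groth.Agent.CohFound.nonempty_hc_push_isAffineHom k G (p + 1) ⊤
  have h1 := Groth.Agent.VanFib13.subsingleton_hc_affine b (isAffineOpen_top (Spec (CommRingCat.of A))) d
    (fun w _ => (Groth.Agent.VanFib13.dim_fiber b w).symm.trans_le (hd w))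
    (Groth.Agent.M1.isQCoh_push k hG) (n := p + 1) (by omega)
  rw [Scheme.Hom.preimage_top] at h1 e
  exact @Equiv.subsingleton _ _ e.toEquiv.symm h1

end Groth.Agent.S8937
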