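import Groth.Statements.S8941
import Groth.Agent.Lib.DlzFin27.Triangle
-- import your own Groth.Agent.* helpers here

set_option autoImplicit false
universe u
open CategoryTheory CategoryTheory.Pretriangulated
attribute [local instance] HasDerivedCategory.standard
open Dual

namespace Groth.Agent.S8941

/-- Let A be a Noetherian local ring with normalized dualizing complex ω, f a nonzerodivisor in the
maximal ideal and B = A/(f); with R right adjoint to restriction of scalars D(B) → D(A) (so that
R(ω) is RHom_A(B, ω), a normalized dualizing complex for B), there is a distinguished triangle in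
D(A) with vertices R(ω) viewed over A, ω, ω, whose middle morphism ω → ω is multiplication by f. -/
theorem result (A : Type u) [CommRing A] [IsLocalRing A] [IsNoetherianRing A] (ω : Dual.D A) (hω : Dual.IsDualizing A ω) (hn : Dual.IsNormalized A ω) (f : A) (hf : f ∈ IsLocalRing.maximalIdeal A) (hf' : f ∈ nonZeroDivisors A) (R : Dual.D A ⥤ Dual.D (A ⧸ Ideal.span {f})) (adj : DRing.restrictD (Ideal.Quotient.mk (Ideal.span {f})) ⊣ R) : ∃ (u : (DRing.restrictD (Ideal.Quotient.mk (Ideal.span {f}))).obj (R.obj ω) ⟶ ω) (w : ω ⟶ ((DRing.restrictD (Ideal.Quotient.mk (Ideal.span {f}))).obj (R.obj ω))⟦(1 : ℤ)⟧), Triangle.mk u (f • 𝟙 ω) w ∈ distinguishedTriangles := by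
  let M := Dlz27.model hω
  obtain ⟨e₁⟩ := DlzFin27.nonempty_restrict_rightAdjoint (B := A ⧸ Ideal.span {f}) M R adj
  have hs : Function.Surjective (algebraMap A (A ⧸ Ideal.span {f})) := Ideal.Quotient.mk_surjective
  obtain ⟨w₀, hS⟩ := DlzFin27.shortExact_evalMap hs (W := M.W) (f • 𝟙 M.W) (fun j y => by
      refine ⟨fun h a ha => ?_, fun h => h f ?_⟩
      · rw [Ideal.Quotient.algebraMap_eq, Ideal.mk_ker, Ideal.mem_span_singleton] at ha
        obtain ⟨c, rfl⟩ := ha
        rw [mul_comm, mul_smul, show f • y = 0 from h, smul_zero]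
      · rw [Ideal.Quotient.algebraMap_eq, Ideal.mk_ker]
        exact Ideal.mem_span_singleton_self f)
    (fun j y => DlzFin27.surjective_nzd M.W M.inj hf' j y)
  obtain ⟨u, w, h⟩ := DlzFin27.exists_triangle_of_shortExact hS e₁ M.e M.e
  refine ⟨u, w, ?_⟩
  have hmid : M.e.inv ≫ DerivedCategory.Q.map (f • 𝟙 M.W) ≫ M.e.hom = f • 𝟙 ω := by
    rw [Functor.map_smul, CategoryTheory.Functor.map_id, Linear.smul_comp, Category.id_comp, Linear.comp_smul,
      Iso.inv_hom_id]
  exact hmid ▸ h

end Groth.Agent.S8941
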