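import Groth.Statements.S8942
import Groth.Agent.Lib.BC8.Supp
import Groth.Agent.Lib.Dual8.Coprod
import Groth.Agent.Lib.DPerf.Coprod
import Groth.Agent.S4267

set_option autoImplicit false
universe u
open CategoryTheory CategoryTheory.Limits AlgebraicGeometry
attribute [local instance] HasDerivedCategory.standard
open Dual3

namespace Groth.Agent.S8942


/-- Suppose X and Y are Noetherian schemes and f : X → Y is a morphism that is both proper and perfect,
and a a right adjoint of Rf_* on D_QCoh (Rf_* assumed to exist and to preserve quasi-coherent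
cohomology). If Q in D_QCoh(O_Y) is supported on a closed subset T (all cohomology sheaves vanish on
the open complement V), then a(Q) is supported on f⁻¹(T). -/
theorem result (X Y : Scheme.{u}) [IsNoetherian X] [IsNoetherian Y] (f : X ⟶ Y) [IsProper f] (hperf : MoreMor.IsPerfectMor f) [DCoh.HasRpush f] (hf : DCoh.RpushPreservesQCoh f) (a : DCoh.DQCoh Y ⥤ DCoh.DQCoh X) (adj : DCoh.RpushQ f hf ⊣ a) (V : Y.Opens) (Q : DCoh.DQCoh Y) (hQV : ∀ i : ℤ, IsZero ((DCoh.HD Q.obj i).restrict V.ι)) (i : ℤ) : IsZero ((DCoh.HD (a.obj Q).obj i).restrict (f ⁻¹ᵁ V).ι) := by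
  refine Groth.Agent.BC8.isZero_restrict_a adj
    (fun J => Groth.Agent.Dual8.preservesCoproducts adj (fun P hP => ?_) J) V Q hQV i
  obtain ⟨b, hb⟩ := Groth.Agent.DPerf.exists_isGE_of_perfect hP
  haveI := hb
  exact Groth.Agent.S4267.result f hperf P b hP


end Groth.Agent.S8942
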