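import Groth.Statements.S8949
import Groth.Agent.Lib.Goren15.Scheme
import Groth.Agent.S0342
import Mathlib.RingTheory.LocalRing.ResidueField.Fiber
import Mathlib.RingTheory.RingHom.Flat
-- import your own Groth.Agent.* helpers here

set_option autoImplicit false
universe u
open scoped TensorProduct
open Goren

namespace Groth.Agent.S8949

/-- Gorenstein fibres are preserved by composing with a regular map. For flat maps A → B → C of
Noetherian rings, if the fibres of A → B are Gorenstein rings and B → C is regular, then the fibres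
of A → C are Gorenstein rings. -/
theorem result (A B C : Type u) [CommRing A] [CommRing B] [CommRing C] [IsNoetherianRing A] [IsNoetherianRing B] [IsNoetherianRing C] [Algebra A B] [Algebra B C] [Algebra A C] [IsScalarTower A B C] [Module.Flat A B] [Module.Flat B C] (hAB : ∀ (q : Ideal A) [q.IsPrime], LocCoh.IsGorensteinRing (q.Fiber B)) (hBC : CAlg.IsRegularHom B C) : ∀ (q : Ideal A) [q.IsPrime], LocCoh.IsGorensteinRing (q.Fiber C) := by
  open TensorProduct in
  intro q hq
  have hcomap : ∀ (R S : Type u) [CommRing R] [CommRing S] [Algebra R S] (p : Ideal R) [p.IsPrime]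
      (Q : Ideal (p.Fiber S)) [Q.IsPrime],
      (Q.comap (Algebra.TensorProduct.includeRight : S →ₐ[R] p.Fiber S)).comap (algebraMap R S) = p := by
    intro R S _ _ _ p _ Q _
    refine Ideal.ext fun x => ?_
    rw [Ideal.mem_comap, Ideal.mem_comap, AlgHom.commutes, Ideal.mem_of_liesOver Q p]
  have hfib : ∀ (R S : Type u) [CommRing R] [CommRing S] [Algebra R S] (p : Ideal R) [p.IsPrime]
      (s : Ideal S) [s.IsPrime] (_ : s.comap (algebraMap R S) = p),
      ∃ (Q : Ideal (p.Fiber S)) (_ : Q.IsPrime),
        Nonempty (Localization.AtPrime Q ≃+* (Localization.AtPrime s ⧸ p.map (algebraMap R (Localization.AtPrime s)))) := by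
    intro R S _ _ _ p hp s hs hsp
    let P := PrimeSpectrum.preimageEquivFiber R S ⟨p, hp⟩ ⟨⟨s, hs⟩, PrimeSpectrum.ext hsp⟩
    have h1 : P.asIdeal.comap (Algebra.TensorProduct.includeRight : S →ₐ[R] p.Fiber S) = s :=
      congrArg (fun x => x.1.asIdeal) ((PrimeSpectrum.preimageEquivFiber R S ⟨p, hp⟩).symm_apply_apply ⟨⟨s, hs⟩, PrimeSpectrum.ext hsp⟩)
    have key : ∀ (s₀ : Ideal S) [s₀.IsPrime], s₀ = s →
        Nonempty (Localization.AtPrime P.asIdeal ≃+* (Localization.AtPrime s₀ ⧸ p.map (algebraMap R (Localization.AtPrime s₀)))) →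
        Nonempty (Localization.AtPrime P.asIdeal ≃+* (Localization.AtPrime s ⧸ p.map (algebraMap R (Localization.AtPrime s)))) := by
      rintro _ _ rfl h; exact h
    exact ⟨P.asIdeal, P.2, key _ h1 ⟨(Ideal.Fiber.algEquivAux₂ p P.asIdeal).toRingEquiv.trans
      (Ideal.quotEquivOfEq (by rw [Ideal.map_map, ← IsScalarTower.algebraMap_eq]))⟩⟩
  haveI : IsNoetherianRing (q.Fiber C) := by
    haveI hCn : IsNoetherianRing (Localization (Algebra.algebraMapSubmonoid C q.primeCompl)) :=
      IsLocalization.isNoetherianRing (Algebra.algebraMapSubmonoid C q.primeCompl) _ inferInstance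
    letI : Algebra C (q.Fiber C) := Algebra.TensorProduct.rightAlgebra
    exact isNoetherianRing_of_ringEquiv _ (Ideal.Fiber.algEquivQuotient (S := C) q).symm.toRingEquiv
  refine ⟨fun Q _ => ?_⟩
  let r := Q.comap (Algebra.TensorProduct.includeRight : C →ₐ[A] q.Fiber C)
  let s := r.comap (algebraMap B C)
  have hsq : s.comap (algebraMap A B) = q := by
    rw [Ideal.comap_comap, ← IsScalarTower.algebraMap_eq]
    exact hcomap A C q Q
  obtain ⟨Q', hQ', ⟨eB⟩⟩ := hfib A B q s hsq
  obtain ⟨Q'', hQ'', ⟨eC⟩⟩ := hfib B C s r rfl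
  haveI := (hAB q).isGorensteinLocalRing_localization Q'
  haveI hreg : IsRegularRing (s.ResidueField ⊗[s.ResidueField] s.Fiber C) := (hBC.2 s).2 s.ResidueField inferInstance
  haveI : IsRegularRing (s.Fiber C) := IsRegularRing.of_ringEquiv (R := s.ResidueField ⊗[s.ResidueField] s.Fiber C)
    (Algebra.TensorProduct.lid s.ResidueField (s.Fiber C)).toRingEquiv
  have hC' : LocCoh.IsGorensteinLocalRing (Localization.AtPrime Q'') := Groth.Agent.S0342.result _
  let φ := Localization.localRingHom q s (algebraMap A B) hsq.symm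
  let ψ := Localization.localRingHom s r (algebraMap B C) rfl
  haveI : IsLocalHom φ := Localization.isLocalHom_localRingHom _ _ _ hsq.symm
  haveI : IsLocalHom ψ := Localization.isLocalHom_localRingHom _ _ _ rfl
  have hφ : φ.comp (algebraMap A (Localization.AtPrime q)) = algebraMap A (Localization.AtPrime s) := by
    refine RingHom.ext fun a => ?_
    rw [RingHom.comp_apply, Localization.localRingHom_to_map, ← IsScalarTower.algebraMap_apply]
  have hψ : ψ.comp (algebraMap A (Localization.AtPrime s)) = algebraMap A (Localization.AtPrime r) := by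
    refine RingHom.ext fun a => ?_
    rw [RingHom.comp_apply, IsScalarTower.algebraMap_apply A B (Localization.AtPrime s),
      Localization.localRingHom_to_map, ← IsScalarTower.algebraMap_apply A B C,
      ← IsScalarTower.algebraMap_apply]
  have hψB : ψ.comp (algebraMap B (Localization.AtPrime s)) = algebraMap B (Localization.AtPrime r) := by
    refine RingHom.ext fun a => ?_
    rw [RingHom.comp_apply, Localization.localRingHom_to_map, ← IsScalarTower.algebraMap_apply]
  have h1 : (IsLocalRing.maximalIdeal (Localization.AtPrime q)).map φ = q.map (algebraMap A (Localization.AtPrime s)) := by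
    rw [← Localization.AtPrime.map_eq_maximalIdeal, Ideal.map_map, hφ]
  have h2 : (IsLocalRing.maximalIdeal (Localization.AtPrime q)).map (ψ.comp φ) =
      q.map (algebraMap A (Localization.AtPrime r)) := by
    rw [← Ideal.map_map, h1, Ideal.map_map, hψ]
  have h3 : (IsLocalRing.maximalIdeal (Localization.AtPrime s)).map ψ = s.map (algebraMap B (Localization.AtPrime r)) := by
    rw [← Localization.AtPrime.map_eq_maximalIdeal, Ideal.map_map, hψB]
  have hψf : ψ.Flat := RingHom.Flat.localRingHom (RingHom.flat_algebraMap_iff.2 hBC.1) r s rfl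
  have hg := (Groth.Agent.Goren15.gorenstein_fibre_comp φ ψ hψf inferInstance inferInstance).2
    ⟨(Groth.Agent.Goren15.isGorensteinLocalRing_iff_of_ringEquiv (R := Localization.AtPrime Q') (eB.trans (Ideal.quotEquivOfEq h1.symm))).1 inferInstance,
     (Groth.Agent.Goren15.isGorensteinLocalRing_iff_of_ringEquiv (R := Localization.AtPrime Q'') (eC.trans (Ideal.quotEquivOfEq h3.symm))).1 hC'⟩
  exact (Groth.Agent.Goren15.isGorensteinLocalRing_iff_of_ringEquiv (R := Localization.AtPrime Q)
    (((Ideal.Fiber.algEquivAux₂ q Q).toRingEquiv.trans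
      (Ideal.quotEquivOfEq (by rw [h2, Ideal.map_map, ← IsScalarTower.algebraMap_eq]))))).2 hg

end Groth.Agent.S8949
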