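import Groth.Statements.S8950
import Groth.Agent.Lib.CI2.BaseField
import Groth.Agent.Lib.CI2.AvramovMap
import Groth.Agent.Lib.Goren15.Scheme
import Mathlib.RingTheory.LocalRing.ResidueField.Fiber
import Mathlib.RingTheory.RingHom.Flat
import Mathlib

set_option autoImplicit false
universe u
open scoped TensorProduct
open CInt

namespace Groth.Agent.S8950

open IsLocalRing

theorem nonempty_loc {B C : Type u} [CommRing B] [CommRing C] [Algebra B C] (M : Submonoid B) [IsLocalization M C]
    (Q : Ideal C) [Q.IsPrime] :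
    Nonempty (Localization.AtPrime (Q.comap (algebraMap B C)) ≃+* Localization.AtPrime Q) :=
  haveI : IsLocalization.AtPrime (Localization.AtPrime Q) (Q.comap (algebraMap B C)) :=
    IsLocalization.isLocalization_isLocalization_atPrime_isLocalization M _ Q
  ⟨(IsLocalization.algEquiv (Q.comap (algebraMap B C)).primeCompl _ _).toRingEquiv⟩

noncomputable def atPrimeEquiv {B C : Type u} [CommRing B] [CommRing C] (e : B ≃+* C) (Q : Ideal C) [Q.IsPrime] :
    Localization.AtPrime (Q.comap e.toRingHom) ≃+* Localization.AtPrime Q :=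
  IsLocalization.ringEquivOfRingEquiv (M := (Q.comap e.toRingHom).primeCompl) (T := Q.primeCompl) _ _ e (by
    ext x
    constructor
    · rintro ⟨y, hy, rfl⟩; exact hy
    · intro hx
      exact ⟨e.symm x, fun h => hx ((e.apply_symm_apply x) ▸ (h : e (e.symm x) ∈ Q)), e.apply_symm_apply x⟩)

theorem ci_field_tensor {k K L : Type u} [Field k] [Field K] [Field L] [Algebra k K] [Algebra k L]
    [Algebra.EssFiniteType k K] (Q : Ideal (L ⊗[k] K)) [Q.IsPrime] :
    Pi1.IsCompleteIntersection (Localization.AtPrime Q) := by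
  let A := Algebra.EssFiniteType.subalgebra k K
  let M := Algebra.EssFiniteType.submonoid k K
  haveI : IsNoetherianRing A := Algebra.FiniteType.isNoetherianRing k A
  let g : L ⊗[k] A →ₐ[L] L ⊗[k] K := Algebra.TensorProduct.map (AlgHom.id L L) A.val
  letI : Algebra (L ⊗[k] A) (L ⊗[k] K) := g.toRingHom.toAlgebra
  have hg : ∀ (l : L) (a : A), g (l ⊗ₜ[k] a) = l ⊗ₜ[k] (a : K) := fun l a => rfl
  let M' : Submonoid (L ⊗[k] A) := M.map (Algebra.TensorProduct.includeRight : A →ₐ[k] L ⊗[k] A)
  haveI hloc : IsLocalization M' (L ⊗[k] K) := by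
    constructor; constructor
    · rintro ⟨_, m, hm, rfl⟩
      show IsUnit (g ((1 : L) ⊗ₜ[k] m))
      rw [hg]
      exact (IsLocalization.map_units K (⟨m, hm⟩ : M)).map
        (Algebra.TensorProduct.includeRight : K →ₐ[k] L ⊗[k] K)
    · intro z
      induction z using TensorProduct.induction_on with
      | zero => exact ⟨⟨0, 1⟩, by simp⟩
      | tmul l x =>
        obtain ⟨⟨a, m, hm⟩, hx⟩ := IsLocalization.surj M x
        refine ⟨⟨l ⊗ₜ[k] a, ⟨(1 : L) ⊗ₜ[k] m, m, hm, rfl⟩⟩, ?_⟩
        show l ⊗ₜ[k] x * g ((1 : L) ⊗ₜ[k] m) = g (l ⊗ₜ[k] a)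
        rw [hg, hg, Algebra.TensorProduct.tmul_mul_tmul, mul_one]
        exact congrArg (l ⊗ₜ[k] ·) hx
      | add x y hx hy =>
        obtain ⟨⟨a, s⟩, hx⟩ := hx
        obtain ⟨⟨b, t⟩, hy⟩ := hy
        refine ⟨⟨a * t + b * s, s * t⟩, ?_⟩
        simp only [Submonoid.coe_mul, map_mul, map_add, ← hx, ← hy]
        ring
    · intro x y h
      have hinj : Function.Injective g :=
        Module.Flat.lTensor_preserves_injective_linearMap A.val.toLinearMap Subtype.val_injective
      exact ⟨1, by simpa using hinj h⟩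
  obtain ⟨e⟩ := nonempty_loc M' Q
  let QK : Ideal K := Q.comap (Algebra.TensorProduct.includeRight : K →ₐ[k] L ⊗[k] K)
  obtain ⟨eK⟩ := nonempty_loc M QK
  haveI : IsRegularLocalRing (Localization.AtPrime QK) := inferInstance
  haveI : IsRegularLocalRing (Localization.AtPrime (QK.comap (algebraMap A K))) := IsRegularLocalRing.of_ringEquiv eK.symm
  haveI : IsNoetherianRing (L ⊗[k] A) := Algebra.FiniteType.isNoetherianRing L _
  haveI : IsNoetherianRing (L ⊗[k] K) := IsLocalization.isNoetherianRing M' _ inferInstance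
  refine CI2.ci_congr e ?_
  let Q0 : Ideal (L ⊗[k] A) := Q.comap (algebraMap (L ⊗[k] A) (L ⊗[k] K))
  letI : Algebra A (L ⊗[k] A) := Algebra.TensorProduct.rightAlgebra
  have hq : Q0.comap (algebraMap A (L ⊗[k] A)) = QK.comap (algebraMap A K) := Ideal.ext fun a => Iff.rfl
  refine (CI2.ci_iff_baseChange_field (k := k) (k' := L) A Q0).1 ?_
  have key : ∀ (q q' : Ideal A) [q.IsPrime] [q'.IsPrime], q = q' → Pi1.IsCompleteIntersection (Localization.AtPrime q') →
      Pi1.IsCompleteIntersection (Localization.AtPrime q) := by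
    rintro q _ _ _ rfl h; exact h
  exact key _ _ hq CI2.ci_of_regular

theorem ci_right {k K R : Type u} [Field k] [Field K] [Algebra k K] [Algebra.EssFiniteType k K] [CommRing R] [Algebra k R]
    [IsNoetherianRing R] (hR : ∀ (p : Ideal R) [p.IsPrime], Pi1.IsCompleteIntersection (Localization.AtPrime p))
    (P : Ideal (R ⊗[k] K)) [P.IsPrime] : Pi1.IsCompleteIntersection (Localization.AtPrime P) := by
  haveI : IsNoetherianRing (R ⊗[k] K) := Algebra.EssFiniteType.isNoetherianRing R (R ⊗[k] K)
  let p := P.comap (algebraMap R (R ⊗[k] K))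
  let F := PrimeSpectrum.preimageEquivFiber R (R ⊗[k] K) ⟨p, inferInstance⟩ ⟨⟨P, inferInstance⟩, rfl⟩
  have h1 : F.asIdeal.comap (Algebra.TensorProduct.includeRight : (R ⊗[k] K) →ₐ[R] p.Fiber (R ⊗[k] K)) = P :=
    congrArg (fun x => x.1.asIdeal) ((PrimeSpectrum.preimageEquivFiber R (R ⊗[k] K) ⟨p, inferInstance⟩).symm_apply_apply
      ⟨⟨P, inferInstance⟩, rfl⟩)
  let c : p.Fiber (R ⊗[k] K) ≃+* p.ResidueField ⊗[k] K :=
    (Algebra.TensorProduct.cancelBaseChange k R R p.ResidueField K).toRingEquiv
  haveI : IsNoetherianRing (p.ResidueField ⊗[k] K) := Algebra.EssFiniteType.isNoetherianRing p.ResidueField _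
  haveI : IsNoetherianRing (p.Fiber (R ⊗[k] K)) := isNoetherianRing_of_ringEquiv _ c.symm
  have hF : Pi1.IsCompleteIntersection (Localization.AtPrime F.asIdeal) :=
    CI2.ci_congr (atPrimeEquiv c.symm F.asIdeal) (ci_field_tensor (F.asIdeal.comap c.symm.toRingHom))
  have key : ∀ (s₀ : Ideal (R ⊗[k] K)) [s₀.IsPrime], s₀ = P →
      Nonempty (Localization.AtPrime F.asIdeal ≃+* (Localization.AtPrime s₀ ⧸ p.map (algebraMap R (Localization.AtPrime s₀)))) →
      Nonempty (Localization.AtPrime F.asIdeal ≃+* (Localization.AtPrime P ⧸ p.map (algebraMap R (Localization.AtPrime P)))) := by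
    rintro _ _ rfl h; exact h
  obtain ⟨eF⟩ := key _ h1 ⟨(Ideal.Fiber.algEquivAux₂ p F.asIdeal).toRingEquiv.trans
    (Ideal.quotEquivOfEq (by rw [Ideal.map_map, ← IsScalarTower.algebraMap_eq]))⟩
  let φ := Localization.localRingHom p P (algebraMap R (R ⊗[k] K)) rfl
  letI : Algebra (Localization.AtPrime p) (Localization.AtPrime P) := φ.toAlgebra
  haveI : IsLocalHom (algebraMap (Localization.AtPrime p) (Localization.AtPrime P)) :=
    Localization.isLocalHom_localRingHom _ _ _ rfl
  haveI : Module.Flat (Localization.AtPrime p) (Localization.AtPrime P) :=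
    RingHom.Flat.localRingHom (f := algebraMap R (R ⊗[k] K)) (RingHom.flat_algebraMap_iff.2 inferInstance) P p rfl
  refine CI2.avramov.2 ⟨hR p, ?_⟩
  have hm : (maximalIdeal (Localization.AtPrime p)).map (algebraMap (Localization.AtPrime p) (Localization.AtPrime P)) =
      p.map (algebraMap R (Localization.AtPrime P)) := by
    rw [← Localization.AtPrime.map_eq_maximalIdeal, Ideal.map_map]
    congr 1
    refine RingHom.ext fun a => ?_
    rw [RingHom.comp_apply, RingHom.algebraMap_toAlgebra, Localization.localRingHom_to_map, ← IsScalarTower.algebraMap_apply]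
  exact CI2.ci_congr (eF.trans (Ideal.quotEquivOfEq hm.symm)) hF


/-- Base change of the local complete intersection property along finitely generated field extensions.
Suppose R is a Noetherian k-algebra, k a field, with every local ring of R a complete intersection,
and suppose K is finitely generated as a field over k; then the tensor product K ⊗_k R is again a
Noetherian ring, and every localization of it at a prime is a complete intersection. -/
theorem result (k K R : Type u) [Field k] [Field K] [Algebra k K] (hK : ∃ s : Finset K, IntermediateField.adjoin k (s : Set K) = ⊤) [CommRing R] [Algebra k R] [IsNoetherianRing R] (hR : ∀ (p : Ideal R) [p.IsPrime], Pi1.IsCompleteIntersection (Localization.AtPrime p)) : IsNoetherianRing (K ⊗[k] R) ∧ ∀ (P : Ideal (K ⊗[k] R)) [P.IsPrime], Pi1.IsCompleteIntersection (Localization.AtPrime P) := by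
  haveI : Algebra.EssFiniteType k K := IntermediateField.fg_top_iff.mp hK
  haveI hT : IsNoetherianRing (R ⊗[k] K) := Algebra.EssFiniteType.isNoetherianRing R (R ⊗[k] K)
  let e := (Algebra.TensorProduct.comm k K R).toRingEquiv
  refine ⟨isNoetherianRing_of_ringEquiv _ e.symm, fun P hP => ?_⟩
  haveI : IsNoetherianRing (K ⊗[k] R) := isNoetherianRing_of_ringEquiv _ e.symm
  exact CI2.ci_congr (atPrimeEquiv e.symm P) (ci_right hR (P.comap e.symm.toRingHom))


end Groth.Agent.S8950
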