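import Groth.Statements.S8951
import Groth.Agent.Lib.Goren15.Scheme
import Groth.Agent.Lib.CI2.AvramovMap
import Groth.Agent.Lib.CI2.AvramovCI
import Mathlib.RingTheory.LocalRing.ResidueField.Fiber
import Mathlib.RingTheory.RingHom.Flat

set_option autoImplicit false
universe u
open scoped TensorProduct
open CInt

namespace Groth.Agent.S8951

open IsLocalRing

theorem ci_fibre_comp {A B C D E : Type u} [CommRing A] [IsLocalRing A] [CommRing B] [IsLocalRing B] [IsNoetherianRing B]
    [CommRing C] [IsLocalRing C] [IsNoetherianRing C] [CommRing D] [IsLocalRing D] [IsNoetherianRing D]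
    [CommRing E] [IsLocalRing E] [IsNoetherianRing E]
    (φ : A →+* B) (ψ : B →+* C) [IsLocalHom φ] [IsLocalHom ψ] (hψ : ψ.Flat)
    (hreg : IsRegularLocalRing (C ⧸ (maximalIdeal B).map ψ))
    (hD : Pi1.IsCompleteIntersection D) (eD : D ≃+* B ⧸ (maximalIdeal A).map φ)
    (eE : E ≃+* C ⧸ (maximalIdeal A).map (ψ.comp φ)) :
    Pi1.IsCompleteIntersection E := by
  letI := ψ.toAlgebra
  haveI : Module.Flat B C := hψ
  haveI : IsLocalHom (algebraMap B C) := inferInstanceAs (IsLocalHom ψ)
  let I := (maximalIdeal A).map φ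
  let B' := B ⧸ I
  let C' := C ⧸ I.map (algebraMap B C)
  have hI : I ≤ maximalIdeal B := ((local_hom_TFAE φ).out 0 2).1 ‹_›
  have hIC' : I.map (algebraMap B C) ≤ (maximalIdeal B).map ψ := Ideal.map_mono hI
  haveI : Nontrivial B' := Ideal.Quotient.nontrivial_iff.2
    (ne_top_of_le_ne_top (maximalIdeal.isMaximal B).ne_top hI)
  haveI : Nontrivial C' := Ideal.Quotient.nontrivial_iff.2
    (ne_top_of_le_ne_top (maximalIdeal.isMaximal C).ne_top
      (hIC'.trans (((local_hom_TFAE ψ).out 0 2).1 ‹_›)))
  haveI : IsLocalRing B' := IsLocalRing.of_surjective' (Ideal.Quotient.mk I) Ideal.Quotient.mk_surjective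
  haveI : IsLocalRing C' :=
    IsLocalRing.of_surjective' (Ideal.Quotient.mk (I.map (algebraMap B C))) Ideal.Quotient.mk_surjective
  have hIC : I.map (algebraMap B C) = (maximalIdeal A).map (ψ.comp φ) := Ideal.map_map φ ψ
  haveI : Module.Flat B' C' := Goren15.flat_quotient (B := C) I
  haveI : IsLocalHom (algebraMap B' C') := by
    refine ⟨fun b hb => ?_⟩
    obtain ⟨b, rfl⟩ := Ideal.Quotient.mk_surjective b
    haveI : IsLocalHom (Ideal.Quotient.mk (I.map (algebraMap B C))) :=
      IsLocalHom.of_surjective _ Ideal.Quotient.mk_surjective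
    exact (isUnit_of_map_unit (algebraMap B C) _
      (isUnit_of_map_unit (Ideal.Quotient.mk (I.map (algebraMap B C))) _ hb)).map _
  have hm : maximalIdeal B' = (maximalIdeal B).map (Ideal.Quotient.mk I) :=
    (IsLocalRing.map_maximalIdeal_of_surjective _ Ideal.Quotient.mk_surjective).symm
  have hmap : (maximalIdeal B').map (algebraMap B' C') =
      ((maximalIdeal B).map (algebraMap B C)).map (Ideal.Quotient.mk (I.map (algebraMap B C))) := by
    rw [hm]
    refine (Ideal.map_map _ _).trans (Eq.trans ?_ (Ideal.map_map _ _).symm)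
    rfl
  let eF : C' ⧸ (maximalIdeal B').map (algebraMap B' C') ≃+* C ⧸ (maximalIdeal B).map ψ :=
    (Ideal.quotEquivOfEq hmap).trans (DoubleQuot.quotQuotEquivQuotOfLE hIC')
  haveI := hreg
  haveI : IsRegularLocalRing (C' ⧸ (maximalIdeal B').map (algebraMap B' C')) :=
    IsRegularLocalRing.of_ringEquiv eF.symm
  exact CI2.ci_congr ((eE.trans (Ideal.quotEquivOfEq hIC.symm)).symm)
    (CI2.avramov.2 ⟨CI2.ci_congr eD hD, CI2.ci_of_regular⟩)


/-- Complete intersection fibres are preserved by composing with a regular map. For flat maps A → B → C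
of Noetherian rings, if all local rings of the fibres of A → B are complete intersections and B → C
is regular, then all local rings of the fibres of A → C are complete intersections. -/
theorem result (A B C : Type u) [CommRing A] [CommRing B] [CommRing C] [IsNoetherianRing A] [IsNoetherianRing B] [IsNoetherianRing C] [Algebra A B] [Algebra B C] [Algebra A C] [IsScalarTower A B C] [Module.Flat A B] [Module.Flat B C] (hAB : ∀ (q : Ideal A) [q.IsPrime] (P : Ideal (q.Fiber B)) [P.IsPrime], Pi1.IsCompleteIntersection (Localization.AtPrime P)) (hBC : CAlg.IsRegularHom B C) : ∀ (q : Ideal A) [q.IsPrime] (P : Ideal (q.Fiber C)) [P.IsPrime], Pi1.IsCompleteIntersection (Localization.AtPrime P) := by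
  open TensorProduct in
  intro q hq
  have hcomap : ∀ (R S : Type u) [CommRing R] [CommRing S] [Algebra R S] (p : Ideal R) [p.IsPrime]
      (Q : Ideal (p.Fiber S)) [Q.IsPrime],
      (Q.comap (Algebra.TensorProduct.includeRight : S →ₐ[R] p.Fiber S)).comap (algebraMap R S) = p := by
    intro R S _ _ _ p _ Q _
    refine Ideal.ext fun x => ?_
    rw [Ideal.mem_comap, Ideal.mem_comap, AlgHom.commutes, Ideal.mem_of_liesOver Q p]
  have hfib : ∀ (R S : Type u) [CommRing R] [CommRing S] [Algebra R S] (p : Ideal R) [p.IsPrime]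
      (s : Ideal S) [s.IsPrime] (_ : s.comap (algebraMap R S) = p),
      ∃ (Q : Ideal (p.Fiber S)) (_ : Q.IsPrime),
        Nonempty (Localization.AtPrime Q ≃+* (Localization.AtPrime s ⧸ p.map (algebraMap R (Localization.AtPrime s)))) := by
    intro R S _ _ _ p hp s hs hsp
    let P := PrimeSpectrum.preimageEquivFiber R S ⟨p, hp⟩ ⟨⟨s, hs⟩, PrimeSpectrum.ext hsp⟩
    have h1 : P.asIdeal.comap (Algebra.TensorProduct.includeRight : S →ₐ[R] p.Fiber S) = s :=
      congrArg (fun x => x.1.asIdeal) ((PrimeSpectrum.preimageEquivFiber R S ⟨p, hp⟩).symm_apply_apply ⟨⟨s, hs⟩, PrimeSpectrum.ext hsp⟩)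
    have key : ∀ (s₀ : Ideal S) [s₀.IsPrime], s₀ = s →
        Nonempty (Localization.AtPrime P.asIdeal ≃+* (Localization.AtPrime s₀ ⧸ p.map (algebraMap R (Localization.AtPrime s₀)))) →
        Nonempty (Localization.AtPrime P.asIdeal ≃+* (Localization.AtPrime s ⧸ p.map (algebraMap R (Localization.AtPrime s)))) := by
      rintro _ _ rfl h; exact h
    exact ⟨P.asIdeal, P.2, key _ h1 ⟨(Ideal.Fiber.algEquivAux₂ p P.asIdeal).toRingEquiv.trans
      (Ideal.quotEquivOfEq (by rw [Ideal.map_map, ← IsScalarTower.algebraMap_eq]))⟩⟩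
  haveI : IsNoetherianRing (q.Fiber C) := by
    haveI hCn : IsNoetherianRing (Localization (Algebra.algebraMapSubmonoid C q.primeCompl)) :=
      IsLocalization.isNoetherianRing (Algebra.algebraMapSubmonoid C q.primeCompl) _ inferInstance
    letI : Algebra C (q.Fiber C) := Algebra.TensorProduct.rightAlgebra
    exact isNoetherianRing_of_ringEquiv _ (Ideal.Fiber.algEquivQuotient (S := C) q).symm.toRingEquiv
  intro Q _
  let r := Q.comap (Algebra.TensorProduct.includeRight : C →ₐ[A] q.Fiber C)
  let s := r.comap (algebraMap B C)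
  have hsq : s.comap (algebraMap A B) = q := by
    rw [Ideal.comap_comap, ← IsScalarTower.algebraMap_eq]
    exact hcomap A C q Q
  obtain ⟨Q', hQ', ⟨eB⟩⟩ := hfib A B q s hsq
  obtain ⟨Q'', hQ'', ⟨eC⟩⟩ := hfib B C s r rfl
  haveI := isNoetherianRing_of_ringEquiv _ eB.symm
  have hreg : IsRegularRing (s.ResidueField ⊗[s.ResidueField] s.Fiber C) := (hBC.2 s).2 s.ResidueField inferInstance
  haveI : IsRegularRing (s.Fiber C) := IsRegularRing.of_ringEquiv (R := s.ResidueField ⊗[s.ResidueField] s.Fiber C)
    (Algebra.TensorProduct.lid s.ResidueField (s.Fiber C)).toRingEquiv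
  haveI hC' : IsRegularLocalRing (Localization.AtPrime Q'') := inferInstance
  let φ := Localization.localRingHom q s (algebraMap A B) hsq.symm
  let ψ := Localization.localRingHom s r (algebraMap B C) rfl
  haveI : IsLocalHom φ := Localization.isLocalHom_localRingHom _ _ _ hsq.symm
  haveI : IsLocalHom ψ := Localization.isLocalHom_localRingHom _ _ _ rfl
  have hφ : φ.comp (algebraMap A (Localization.AtPrime q)) = algebraMap A (Localization.AtPrime s) := by
    refine RingHom.ext fun a => ?_
    rw [RingHom.comp_apply, Localization.localRingHom_to_map, ← IsScalarTower.algebraMap_apply]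
  have hψ : ψ.comp (algebraMap A (Localization.AtPrime s)) = algebraMap A (Localization.AtPrime r) := by
    refine RingHom.ext fun a => ?_
    rw [RingHom.comp_apply, IsScalarTower.algebraMap_apply A B (Localization.AtPrime s),
      Localization.localRingHom_to_map, ← IsScalarTower.algebraMap_apply A B C,
      ← IsScalarTower.algebraMap_apply]
  have hψB : ψ.comp (algebraMap B (Localization.AtPrime s)) = algebraMap B (Localization.AtPrime r) := by
    refine RingHom.ext fun a => ?_
    rw [RingHom.comp_apply, Localization.localRingHom_to_map, ← IsScalarTower.algebraMap_apply]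
  have h1 : (IsLocalRing.maximalIdeal (Localization.AtPrime q)).map φ = q.map (algebraMap A (Localization.AtPrime s)) := by
    rw [← Localization.AtPrime.map_eq_maximalIdeal, Ideal.map_map, hφ]
  have h2 : (IsLocalRing.maximalIdeal (Localization.AtPrime q)).map (ψ.comp φ) =
      q.map (algebraMap A (Localization.AtPrime r)) := by
    rw [← Ideal.map_map, h1, Ideal.map_map, hψ]
  have h3 : (IsLocalRing.maximalIdeal (Localization.AtPrime s)).map ψ = s.map (algebraMap B (Localization.AtPrime r)) := by
    rw [← Localization.AtPrime.map_eq_maximalIdeal, Ideal.map_map, hψB]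
  have hψf : ψ.Flat := RingHom.Flat.localRingHom (RingHom.flat_algebraMap_iff.2 hBC.1) r s rfl
  exact ci_fibre_comp φ ψ hψf (IsRegularLocalRing.of_ringEquiv (R := Localization.AtPrime Q'') (eC.trans (Ideal.quotEquivOfEq h3.symm)))
    (hAB q Q') (eB.trans (Ideal.quotEquivOfEq h1.symm))
    ((Ideal.Fiber.algEquivAux₂ q Q).toRingEquiv.trans
      (Ideal.quotEquivOfEq (by rw [h2, Ideal.map_map, ← IsScalarTower.algebraMap_eq])))

end Groth.Agent.S8951
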