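import Groth.Statements.S8952
import Groth.Agent.Lib.BC8.DlzProper
import Groth.Agent.Lib.BC8.ViaCM
import Groth.Agent.Lib.BC8.AffineLine
import Groth.Agent.Lib.BC8.Shriek
import Groth.Agent.Lib.DPush.Affine
import Groth.Agent.Lib.Dlz27.Unique

set_option autoImplicit false
universe u
open CategoryTheory CategoryTheory.Limits AlgebraicGeometry
attribute [local instance] HasDerivedCategory.standard
open Dual3

namespace Groth.Agent.S8952


/-- Let X be proper over a field k with structure morphism f factoring as f′ : X → Spec(k′) followed by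
Spec(k′) → Spec(k) for a field extension k′ of k. With a and a′ right adjoints of Rf_* and Rf′_* on
D_QCoh (assumed to exist and to preserve quasi-coherent cohomology) and O, O′ the structure sheaves
of Spec(k), Spec(k′) placed in degree 0, the objects a(O) and a′(O′) of D(O_X) are isomorphic: the
dualizing complex of X computed over k agrees with the one computed over k′. -/
theorem result (k k' : Type u) [Field k] [Field k'] [Algebra k k'] (X : Scheme.{u}) (f : X ⟶ Spec (CommRingCat.of k)) [IsProper f] (f' : X ⟶ Spec (CommRingCat.of k')) (hff' : f' ≫ Spec.map (CommRingCat.ofHom (algebraMap k k')) = f) [DCoh.HasRpush f] (hf : DCoh.RpushPreservesQCoh f) (a : DCoh.DQCoh (Spec (CommRingCat.of k)) ⥤ DCoh.DQCoh X) (adj : DCoh.RpushQ f hf ⊣ a) [DCoh.HasRpush f'] (hf' : DCoh.RpushPreservesQCoh f') (a' : DCoh.DQCoh (Spec (CommRingCat.of k')) ⥤ DCoh.DQCoh X) (adj' : DCoh.RpushQ f' hf' ⊣ a') (O : DCoh.DQCoh (Spec (CommRingCat.of k))) (hO : Nonempty (O.obj ≅ DCoh.inD (Spec (CommRingCat.of k)) (Coh.structureModule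 (Spec (CommRingCat.of k))))) (O' : DCoh.DQCoh (Spec (CommRingCat.of k'))) (hO' : Nonempty (O'.obj ≅ DCoh.inD (Spec (CommRingCat.of k')) (Coh.structureModule (Spec (CommRingCat.of k'))))) : Nonempty ((a.obj O).obj ≅ (a'.obj O').obj) := by
  haveI : ∀ (U V : Scheme.{u}) (j : U ⟶ V) [IsOpenImmersion j],
      PreservesFiniteLimits (Scheme.Modules.restrictFunctor j) := fun U V j _ => inferInstance
  haveI : ∀ (R : CommRingCat.{u}), PreservesFiniteLimits (tilde.functor R) := fun R => Groth.Agent.M1.tilde_preservesFiniteLimits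
  obtain ⟨eO⟩ := hO
  obtain ⟨eO'⟩ := hO'
  rcases isEmpty_or_nonempty X with hX | hX
  · have hz : ∀ C : DCoh.D X, IsZero C := fun C =>
      Groth.Agent.DPush.isZero_of_isZero_HD C fun m => Groth.Agent.DPerf.isZero_of_stalks fun x => isEmptyElim x
    exact ⟨(hz _).iso (hz _)⟩
  haveI : IsNoetherian (Spec (CommRingCat.of k)) := inferInstance
  haveI : IsLocallyNoetherian X := LocallyOfFiniteType.isLocallyNoetherian f
  haveI : CompactSpace X := QuasiCompact.compactSpace_of_compactSpace f
  let φ : CommRingCat.of k ⟶ CommRingCat.of k' := CommRingCat.ofHom (algebraMap k k')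
  let g := Spec.map φ
  haveI : IsFinite g := by
    obtain ⟨c, -, hc⟩ := (isClosed_univ (X := X)).exists_closed_singleton Set.univ_nonempty
    have hfin : IsFinite (X.fromSpecResidueField c ≫ f) := by
      rw [isClosed_singleton_iff_isClosedImmersion] at hc
      rw [isFinite_iff_locallyOfFiniteType_of_jacobsonSpace]
      infer_instance
    obtain ⟨ψ, hψ⟩ := Spec.map_surjective (X.fromSpecResidueField c ≫ f')
    rw [← hff', ← Category.assoc, ← hψ, ← Spec.map_comp, IsFinite.SpecMap_iff] at hfin
    rw [IsFinite.SpecMap_iff]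
    letI : Algebra k' (X.residueField c) := ψ.hom.toAlgebra
    letI : Algebra k (X.residueField c) := (φ ≫ ψ).hom.toAlgebra
    haveI : IsScalarTower k k' (X.residueField c) := IsScalarTower.of_algebraMap_eq fun _ => rfl
    haveI : Module.Finite k (X.residueField c) := hfin
    haveI : Module.Finite k k' := Module.Finite.of_injective (IsScalarTower.toAlgHom k k' (X.residueField c)).toLinearMap
      (algebraMap k' (X.residueField c)).injective
    exact RingHom.finite_algebraMap.2 ‹_›
  haveI : IsProper (f' ≫ g) := by rw [hff']; infer_instance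
  haveI : IsProper f' := IsProper.of_comp f' g
  haveI := Groth.Agent.DBC9.hasRpush g
  let hg := Groth.Agent.BC8.rpushPreserves g
  haveI := Groth.Agent.BC8.isLeftAdjoint_rpushQ g hg
  let adjg := Adjunction.ofIsLeftAdjoint (DCoh.RpushQ g hg)
  let e := Groth.Agent.BC8.compA adj' adjg adj hff'
  let K : DCoh.DQCoh (Spec (CommRingCat.of k')) := (DCoh.RpushQ g hg).rightAdjoint.obj O
  let eW : O.obj ≅ (Groth.Agent.DPerf.tildeDD (CommRingCat.of k)).obj (Dual.inD k k) :=
    eO ≪≫ ((ObjectProperty.ι _).mapIso (Groth.Agent.BC8.tQOne (CommRingCat.of k))).symm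
  let eW' : O'.obj ≅ (Groth.Agent.DPerf.tildeDD (CommRingCat.of k')).obj (Dual.inD k' k') :=
    eO' ≪≫ ((ObjectProperty.ι _).mapIso (Groth.Agent.BC8.tQOne (CommRingCat.of k'))).symm
  haveI : IsLocalRing (CommRingCat.of k) := inferInstanceAs (IsLocalRing k)
  have hK := Groth.Agent.BC8.isDualizingSch_proper (A := CommRingCat.of k) (Groth.Agent.BC8.isDualizing_self_field k) g adjg eW
  have hn := Groth.Agent.BC8.dlt_eq_zero_of_isClosed (A := CommRingCat.of k) (Groth.Agent.BC8.isDualizing_self_field k)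
    (Groth.Agent.BC8.isNormalized_self_field k) g adjg eW
  obtain ⟨ω, hω, ⟨eω⟩⟩ := hK k' (𝟙 _)
  obtain ⟨m, ⟨em⟩⟩ := Groth.Agent.Dlz27.exists_shift_iso (Groth.Agent.BC8.isDualizing_self_field k') hω
  let eK : K.obj ≅ O'.obj⟦m⟧ := ((Groth.Agent.DBC9.lPId _).app _).symm ≪≫ (Groth.Agent.DMon9.lPRes (𝟙 _)).app _ ≪≫ eω ≪≫
    (Groth.Agent.DPerf.tildeDD (CommRingCat.of k')).mapIso em ≪≫
    ((Groth.Agent.DPerf.tildeDD (CommRingCat.of k')).commShiftIso m).app _ ≪≫
    (shiftFunctor _ m).mapIso eW'.symm
  have hd : topologicalKrullDim (Spec (CommRingCat.of k')) = ((0 : ℕ) : WithBot ℕ∞) := by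
    exact (PrimeSpectrum.topologicalKrullDim_eq_ringKrullDim k').trans (by simp)
  have hm : m = 0 := by
    by_contra hm
    have hz := Groth.Agent.BC8.isZero_HD_of_outside hK hn 0 hd (-m) (by omega)
    let H := DerivedCategory.homologyFunctor (Spec (CommRingCat.of k')).Modules 0
    let i : DCoh.HD K.obj (-m) ≅ Coh.structureModule (Spec (CommRingCat.of k')) :=
      (DerivedCategory.homologyFunctor _ (-m)).mapIso eK ≪≫
      ((DerivedCategory.homologyFunctor _ 0).shiftIso m (-m) 0 (by omega)).app _ ≪≫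
      (DerivedCategory.homologyFunctor _ 0).mapIso eO' ≪≫
      (DerivedCategory.singleFunctorCompHomologyFunctorIso _ 0).app _
    haveI : Subsingleton Γ(Spec (CommRingCat.of k'), ⊤) :=
      AddCommGrpCat.subsingleton_of_isZero (Functor.map_isZero ((CategoryTheory.evaluation _ _).obj (Opposite.op ⊤))
        (Functor.map_isZero (Scheme.Modules.toPresheaf _) (hz.of_iso i.symm)))
    haveI : Subsingleton k' :=
      (Scheme.ΓSpecIso (CommRingCat.of k')).commRingCatIsoToRingEquiv.symm.injective.subsingleton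
    exact false_of_nontrivial_of_subsingleton k'
  subst hm
  exact ⟨((ObjectProperty.ι _).mapIso (e.app O)).symm ≪≫
    (ObjectProperty.ι _).mapIso (a'.mapIso (ObjectProperty.isoMk _ (eK ≪≫ (shiftFunctorZero _ ℤ).app _)))⟩


end Groth.Agent.S8952
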