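import Groth.Statements.S8953
import Groth.Agent.Lib.BC8.ShriekViaOpen
import Groth.Agent.Lib.BC8.ShriekViaFinite
import Groth.Agent.Lib.BC8.ShriekViaComp
import Groth.Agent.Lib.BC8.UpperPlus

set_option linter.style.haveILetI false
set_option backward.isDefEq.respectTransparency false
set_option backward.isDefEq.respectTransparency.types false
set_option maxHeartbeats 1000000

set_option autoImplicit false
universe u
open CategoryTheory AlgebraicGeometry
open scoped TensorProduct
attribute [local instance] HasDerivedCategory.standard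
open Disc

namespace Groth.Agent.S8953

section Helpers

open CategoryTheory.Limits

/-- Extension of scalars is tensoring. -/
theorem nonempty_extend {R S : Type u} [CommRing R] [CommRing S] [Algebra R S] (M : ModuleCat.{u} R) :
    Nonempty ((ModuleCat.extendScalars.{u, u, u} (algebraMap R S)).obj M ≃ₗ[S] S ⊗[R] M) := by
  refine ⟨LinearEquiv.ofBijective
    (((ModuleCat.extendRestrictScalarsAdj.{u} (algebraMap R S)).homEquiv M (ModuleCat.of S (S ⊗[R] M))).symm
      (ModuleCat.ofHom (Y := (ModuleCat.restrictScalars (algebraMap R S)).obj (ModuleCat.of S (S ⊗[R] M)))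
        { toFun := fun m => (1 : S) ⊗ₜ[R] m
          map_add' := fun a b => TensorProduct.tmul_add _ _ _
          map_smul' := fun r m => by
            change (1 : S) ⊗ₜ[R] (r • m) = (algebraMap R S r) • ((1 : S) ⊗ₜ[R] m)
            rw [TensorProduct.tmul_smul, algebraMap_smul] })).hom ?_⟩
  let f := (((ModuleCat.extendRestrictScalarsAdj.{u} (algebraMap R S)).homEquiv M
      (ModuleCat.of S (S ⊗[R] M))).symm
      (ModuleCat.ofHom (Y := (ModuleCat.restrictScalars (algebraMap R S)).obj (ModuleCat.of S (S ⊗[R] M)))
        { toFun := fun m => (1 : S) ⊗ₜ[R] m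
          map_add' := fun a b => TensorProduct.tmul_add _ _ _
          map_smul' := fun r m => by
            change (1 : S) ⊗ₜ[R] (r • m) = (algebraMap R S r) • ((1 : S) ⊗ₜ[R] m)
            rw [TensorProduct.tmul_smul, algebraMap_smul] })).hom
  let E : ModuleCat.{u} S := (ModuleCat.extendScalars.{u, u, u} (algebraMap R S)).obj M
  letI : Module R E := Module.compHom E (algebraMap R S)
  haveI : IsScalarTower R S E := IsScalarTower.of_algebraMap_smul fun r x => rfl
  let η := (ModuleCat.extendRestrictScalarsAdj.{u} (algebraMap R S)).unit.app M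
  let η' : M →ₗ[R] E :=
    { toFun := fun m => η.hom m
      map_add' := fun a b => map_add η.hom a b
      map_smul' := fun r m => η.hom.map_smul r m }
  let g : S ⊗[R] M →ₗ[S] E := TensorProduct.AlgebraTensorModule.lift
    { toFun := fun s => (s • η' : M →ₗ[R] E)
      map_add' := fun s t => add_smul s t η'
      map_smul' := fun s t => mul_smul s t η' }
  let W : ModuleCat.{u} S := ModuleCat.of S (S ⊗[R] M)
  let adj := ModuleCat.extendRestrictScalarsAdj.{u} (algebraMap R S)
  have hη : ∀ m, f (η.hom m) = (1 : S) ⊗ₜ[R] m := fun m => by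
    have h := congrArg (fun q : M ⟶ (ModuleCat.restrictScalars (algebraMap R S)).obj W => q.hom m)
      ((adj.homEquiv M W).apply_symm_apply
        (ModuleCat.ofHom (Y := (ModuleCat.restrictScalars (algebraMap R S)).obj W)
        { toFun := fun m => (1 : S) ⊗ₜ[R] m
          map_add' := fun a b => TensorProduct.tmul_add _ _ _
          map_smul' := fun r m => by
            change (1 : S) ⊗ₜ[R] (r • m) = (algebraMap R S r) • ((1 : S) ⊗ₜ[R] m)
            rw [TensorProduct.tmul_smul, algebraMap_smul] }))
    simp only [Adjunction.homEquiv_unit] at h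
    exact h
  have h1 : ∀ y, f (g y) = y := fun y => by
    induction y using TensorProduct.induction_on with
    | zero => rw [map_zero]; exact map_zero f
    | tmul s m =>
      have e : g (s ⊗ₜ[R] m) = s • η' m := TensorProduct.AlgebraTensorModule.lift_tmul _ _ _
      refine (congrArg (fun x : E => f x) e).trans ((f.map_smul s (η' m)).trans
        ((congrArg (fun z : W => s • z) (hη m)).trans ?_))
      change s • ((1 : S) ⊗ₜ[R] m) = _
      rw [TensorProduct.smul_tmul', smul_eq_mul, _root_.mul_one]
    | add a b ha hb => rw [map_add]; exact (map_add f _ _).trans (congrArg₂ (· + ·) ha hb)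
  have h2 : ∀ x : E, g (f x) = x := by
    have e : (ModuleCat.ofHom (g.comp (f : E →ₗ[S] W)) : E ⟶ E) = 𝟙 E := by
      refine (adj.homEquiv M E).injective ?_
      simp only [Adjunction.homEquiv_unit]
      ext m
      change g (f (η.hom m)) = η.hom m
      exact ((congrArg g (hη m)).trans (TensorProduct.AlgebraTensorModule.lift_tmul _ _ _)).trans
        (one_smul S (η' m))
    exact fun x => congrArg (fun q : E ⟶ E => q.hom x) e
  exact Function.bijective_iff_has_inverse.2 ⟨g, h2, h1⟩

/-- Coextended scalars from `A` are the relative dualizing module. -/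
theorem nonempty_coextend {A C : Type u} [CommRing A] [CommRing C] [Algebra A C] :
    Nonempty ((ModuleCat.coextendScalars.{u, u, u} (algebraMap A C)).obj (ModuleCat.of A A) ≃ₗ[C]
      Disc.Omega A C) := by
  refine ⟨{ toFun := fun f => ⟨
              { toFun := fun c => (show ((ModuleCat.restrictScalars (algebraMap A C)).obj (ModuleCat.of C C)) →ₗ[A] A from f) c
                map_add' := fun a b => map_add
                  (show ((ModuleCat.restrictScalars (algebraMap A C)).obj (ModuleCat.of C C)) →ₗ[A] A from f) a b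
                map_smul' := fun r c => ?_ }⟩
            map_add' := fun f g => rfl
            map_smul' := fun b f => ?_
            invFun := fun φ => (show ((ModuleCat.restrictScalars (algebraMap A C)).obj (ModuleCat.of C C)) →ₗ[A] A from
              { toFun := fun c => φ.toLinearMap c
                map_add' := fun a b => map_add φ.toLinearMap a b
                map_smul' := fun r c => ?_ })
            left_inv := fun f => rfl
            right_inv := fun φ => rfl }⟩
  · let g : ((ModuleCat.restrictScalars (algebraMap A C)).obj (ModuleCat.of C C)) →ₗ[A] A := f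
    exact (congrArg g (Algebra.smul_def r c)).trans
      (g.map_smul r (show ((ModuleCat.restrictScalars (algebraMap A C)).obj (ModuleCat.of C C)) from c))
  · refine Disc.Omega.ext (LinearMap.ext fun c => ?_)
    change (show ((ModuleCat.restrictScalars (algebraMap A C)).obj (ModuleCat.of C C)) →ₗ[A] A from f) (c * b) =
      (show ((ModuleCat.restrictScalars (algebraMap A C)).obj (ModuleCat.of C C)) →ₗ[A] A from f) (b * c)
    rw [mul_comm]
  · exact (congrArg φ.toLinearMap (Algebra.smul_def r (show C from c)).symm).trans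
      (φ.toLinearMap.map_smul r (show C from c))

/-- `H⁰` of the right adjoint of restriction on a module. -/
theorem nonempty_hd_zero {A C : Type u} [CommRing A] [CommRing C] (φ : A →+* C) {R' : Dual.D A ⥤ Dual.D C}
    (adjR : DRing.restrictD φ ⊣ R') (M : ModuleCat.{u} A) :
    Nonempty ((DerivedCategory.homologyFunctor (ModuleCat.{u} C) 0).obj
      (R'.obj ((DerivedCategory.singleFunctor (ModuleCat.{u} A) 0).obj M)) ≅
      (ModuleCat.coextendScalars.{u, u, u} φ).obj M) := by
  let F := ModuleCat.restrictScalars.{u} φ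
  let G := ModuleCat.coextendScalars.{u, u, u} φ
  let a : F ⊣ G := ModuleCat.restrictCoextendScalarsAdj.{u} φ
  haveI : G.Additive := a.right_adjoint_additive
  haveI : PreservesLimitsOfSize.{0, 0} G := a.rightAdjoint_preservesLimits
  obtain ⟨np⟩ := Groth.Agent.BC8.nonempty_plus_iso F a adjR
  exact ⟨(DerivedCategory.homologyFunctor (ModuleCat.{u} C) 0).mapIso
      ((R'.mapIso ((DerivedCategory.singleFunctorIsoCompQ (ModuleCat.{u} A) 0).app M ≪≫
        ((DerivedCategory.quotientCompQhIso (ModuleCat.{u} A)).app _).symm)) ≪≫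
        (np.app (DerivedCategory.Plus.Qh.obj ((HomotopyCategory.Plus.quotient (ModuleCat.{u} A)).obj
          (Groth.Agent.RFPlus.sing M)))).symm) ≪≫
      Groth.Agent.RFPlus.rightDerivedIso G M 0 ≪≫ G.rightDerivedZeroIsoSelf.app M⟩

end Helpers

/-- Let A → B be a quasi-finite map of Noetherian rings, written as a composite A → B′ → B in which the
first map A → B′ is finite and the induced morphism Spec(B) → Spec(B′) is an open immersion, so that
ω_{B/A} = Hom_A(B′, A) ⊗_{B′} B; and let ω^•_{B/A} = φ^!(A[0]) be the algebraic relative dualizing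
complex computed through a presentation ψ : A[x_1, …, x_n] → B (derived base change assumed to
exist, RHom_P(B, −) given as a right adjoint of restriction of scalars). Then there is a
(non-unique) B-linear isomorphism H^0(ω^•_{B/A}) ≅ ω_{B/A}. -/
theorem result (A B B' : Type u) [CommRing A] [CommRing B] [CommRing B'] [IsNoetherianRing A] [IsNoetherianRing B] [Algebra A B] [Algebra A B'] [Algebra B' B] [IsScalarTower A B' B] [Module.Finite A B'] (hopen : IsOpenImmersion (Spec.map (CommRingCat.ofHom (algebraMap B' B)))) (n : ℕ) (ψ : MvPolynomial (Fin n) A →ₐ[A] B) (hψ : Function.Surjective ψ) [DRing.HasLBaseChange (algebraMap A (MvPolynomial (Fin n) A))] (Rψ : Dual.D (MvPolynomial (Fin n) A) ⥤ Dual.D B) (adj : DRing.restrictD ψ.toRingHom ⊣ Rψ) : Nonempty (Dual.HD B (Dual2.shriekVia n Rψ (Dual.inD A A)) 0 ≃ₗ[B] (B ⊗[B'] Disc.Omega A B')) := by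
  haveI : IsNoetherianRing B' := IsNoetherianRing.of_finite A B'
  haveI := hopen
  haveI : Algebra.FiniteType B' B := RingHom.finiteType_algebraMap.1
    ((HasRingHomProperty.Spec_iff (P := @LocallyOfFiniteType)).1
      (inferInstance : LocallyOfFiniteType (Spec.map (CommRingCat.ofHom (algebraMap B' B)))))
  have hflat : (algebraMap B' B).Flat := (HasRingHomProperty.Spec_iff (P := @Flat)).1
    (inferInstance : Flat (Spec.map (CommRingCat.ofHom (algebraMap B' B))))
  obtain ⟨m, χ, hχ⟩ := Algebra.FiniteType.iff_quotient_mvPolynomial''.1 (inferInstance : Algebra.FiniteType B' B)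
  obtain ⟨l, ρ, hρ⟩ := Algebra.FiniteType.iff_quotient_mvPolynomial''.1 (inferInstance : Algebra.FiniteType A B')
  haveI := Groth.Agent.DQC.hasLBaseChange (algebraMap A (MvPolynomial (Fin l) A))
  haveI := Groth.Agent.DQC.hasLBaseChange (algebraMap B' (MvPolynomial (Fin m) B'))
  haveI := Groth.Agent.DQC.hasLBaseChange (algebraMap B' B)
  haveI := Groth.Agent.BC8.isLeftAdjoint_restrictD ρ.toRingHom
  haveI := Groth.Agent.BC8.isLeftAdjoint_restrictD χ.toRingHom
  haveI := Groth.Agent.BC8.isLeftAdjoint_restrictD (algebraMap A B')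
  let adjρ := Adjunction.ofIsLeftAdjoint (DRing.restrictD ρ.toRingHom)
  let adjχ := Adjunction.ofIsLeftAdjoint (DRing.restrictD χ.toRingHom)
  let adjA := Adjunction.ofIsLeftAdjoint (DRing.restrictD (algebraMap A B'))
  obtain ⟨c⟩ := Groth.Agent.BC8.nonempty_via_comp l ρ hρ adjρ m χ hχ adjχ n ψ hψ adj (Dual.inD A A) 0
    (fun i hi => ModuleCat.subsingleton_of_isZero (DerivedCategory.isZero_of_isGE
      ((DerivedCategory.singleFunctor (ModuleCat.{u} A) 0).obj (ModuleCat.of A A)) 0 i hi))
  obtain ⟨o⟩ := Groth.Agent.BC8.nonempty_via_open hopen m χ hχ adjχ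
    (Dual2.shriekVia l (DRing.restrictD ρ.toRingHom).rightAdjoint (Dual.inD A A))
  obtain ⟨f⟩ := Groth.Agent.BC8.nonempty_via_finite l ρ hρ adjρ adjA (Dual.inD A A)
  let L := (DRing.restrictD (algebraMap A B')).rightAdjoint.obj (Dual.inD A A)
  obtain ⟨J, -, -, ⟨eJ⟩⟩ := Groth.Agent.RGamma27.exists_res L
  haveI := Groth.Agent.RGamma27.isIso_valueMap_of_flat (algebraMap B' B) hflat J
  obtain ⟨h₀⟩ := nonempty_hd_zero (algebraMap A B') adjA (ModuleCat.of A A)
  obtain ⟨w⟩ := nonempty_coextend (A := A) (C := B')
  let h : (DerivedCategory.homologyFunctor (ModuleCat.{u} B) 0).obj (Dual2.shriekVia n Rψ (Dual.inD A A)) ≅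
      (ModuleCat.extendScalars.{u, u, u} (algebraMap B' B)).obj (ModuleCat.of B' (Disc.Omega A B')) :=
    (DerivedCategory.homologyFunctor (ModuleCat.{u} B) 0).mapIso (c ≪≫ o ≪≫
        (DRing.LBaseChange (algebraMap B' B)).mapIso (f ≪≫ eJ) ≪≫
        asIso ((Groth.Agent.DBaseChange.valueMap (algebraMap B' B)).app J)) ≪≫
      Groth.Agent.DBaseChange.hdEquiv _ 0 ≪≫
      Groth.Agent.DBaseChange.homologyExtIso (algebraMap B' B) hflat J 0 ≪≫
      (ModuleCat.extendScalars.{u, u, u} (algebraMap B' B)).mapIso
        ((Groth.Agent.DBaseChange.hdEquiv J 0).symm ≪≫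
          (DerivedCategory.homologyFunctor (ModuleCat.{u} B') 0).mapIso eJ.symm ≪≫ h₀ ≪≫ w.toModuleIso)
  obtain ⟨t⟩ := nonempty_extend (S := B) (ModuleCat.of B' (Disc.Omega A B'))
  exact ⟨h.toLinearEquiv.trans t⟩

end Groth.Agent.S8953
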