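import Groth.Statements.S9151
import Groth.Agent.Lib.CI2.SyntLocal
import Groth.Agent.Lib.CI2.Conormal
import Groth.Agent.Lib.CI2.Gci
import Groth.Prelude.Def_RegImm
import Mathlib

set_option autoImplicit false
universe u
open Synt

namespace Groth.Agent.S9151
open TensorProduct MvPolynomial

theorem exists_frame {R : Type u} [CommRing R] {n : ℕ} (I : Ideal (MvPolynomial (Fin n) R)) (hI : I.FG)
    (g : MvPolynomial (Fin n) R ⧸ I) (hg : Synt.IsSyntomic R (Localization.Away g))
    (q : Ideal (MvPolynomial (Fin n) R ⧸ I)) [q.IsPrime] (hgq : g ∉ q) :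
    ∃ (H : MvPolynomial (Fin n) R) (c : ℕ) (f : Fin c → MvPolynomial (Fin n) R),
      Ideal.Quotient.mk I H ∉ q ∧ (∀ i, f i ∈ I) ∧ (∀ x ∈ I, H * x ∈ Ideal.span (Set.range f)) ∧
      ∀ a : Fin c → MvPolynomial (Fin n) R, ∑ i, a i * f i ∈ I ^ 2 → ∀ i, ∃ m : ℕ, H ^ m * a i ∈ I := by
  let φ := Ideal.Quotient.mkₐ R I
  have hker : RingHom.ker φ.toRingHom = I := Ideal.mk_ker
  obtain ⟨Q, _, hQ⟩ := Groth.Agent.CI2.exists_fibre_point (R := R) q
  obtain ⟨-, hfl, hci⟩ := Groth.Agent.CI2.conditions_of_syntomic_away (q.under R) q Q hQ g hgq hg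
  obtain ⟨c, F, P, _, g0, hF, hP, hfP, hreg, hg0, hg0I⟩ := Groth.Agent.CI2.exists_relations (q.under R) φ
    Ideal.Quotient.mk_surjective (hker.symm ▸ hI) q Q hQ hfl hci
  obtain ⟨z0, hz0, hgood⟩ := Groth.Agent.CI2.exists_mk_mem_iff_good (q.under R) F P hfP hreg
  let J := Ideal.span (Set.range F)
  let S' := Synt.RelGCIRing R n c F
  haveI : Algebra.FiniteType R S' :=
    Algebra.FiniteType.of_surjective (Ideal.Quotient.mkₐ R _) Ideal.Quotient.mk_surjective
  let B : Set (PrimeSpectrum S') := {z | ¬ (c ≤ n ∧ FlatMor.fibreDimAt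
      (AlgebraicGeometry.Spec.map (CommRingCat.ofHom (algebraMap R S'))) z ≤ ((n - c : ℕ) : WithBot ℕ∞))}
  have hB : IsClosed B := Groth.Agent.CI2.isClosed_bad R S' (n - c) (c ≤ n)
  have hVz : ¬ (PrimeSpectrum.vanishingIdeal B ≤ z0.asIdeal) := fun h => by
    have h1 : z0 ∈ closure B := by rw [← PrimeSpectrum.zeroLocus_vanishingIdeal_eq_closure]; exact h
    rw [hB.closure_eq] at h1
    exact h1 hgood
  obtain ⟨a, haB, haz⟩ := SetLike.not_le_iff_exists.1 hVz
  obtain ⟨h0, rfl⟩ := Ideal.Quotient.mk_surjective a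
  let H := g0 * h0
  have hFI : ∀ i, F i ∈ I := fun i => hker.le (hF i)
  have hJI : J ≤ I := Ideal.span_le.2 (by rintro _ ⟨i, rfl⟩; exact hFI i)
  have hHI : ∀ x ∈ I, H * x ∈ J := fun x hx => by
    rw [show H * x = h0 * (g0 * x) by ring]
    exact J.mul_mem_left _ (hg0I x (hker.ge hx))
  refine ⟨H, c, F, ?_, hFI, hHI, ?_⟩
  · rw [map_mul]
    refine fun hm => ((inferInstance : q.IsPrime).mem_or_mem hm).elim hg0 fun hm => haz ?_
    rw [hz0]
    show h0 ∈ P.comap (Groth.Agent.CI2.red (q.under R))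
    rw [hP]
    exact hm
  intro a ha i
  have hrel := Groth.Agent.CI2.isRelGCI_away F H fun z hz => by
    by_contra hzB
    refine hz ?_
    rw [map_mul]
    exact z.asIdeal.mul_mem_left _ ((PrimeSpectrum.mem_vanishingIdeal B _).1 haB z hzB)
  let rel := Groth.Agent.CI2.awayRel F H
  let J' := Ideal.span (Set.range rel)
  let ρ := (rename Fin.castSucc : MvPolynomial (Fin n) R →ₐ[R] MvPolynomial (Fin (n + 1)) R)
  have hρJ : J.map ρ.toRingHom ≤ J' := by
    rw [Ideal.map_span, Ideal.span_le]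
    rintro _ ⟨_, ⟨j, rfl⟩, rfl⟩
    exact Ideal.subset_span ⟨j.castSucc, by simp [rel, ρ]⟩
  have hsq : ρ (H ^ 2 * ∑ i, a i * F i) ∈ J' ^ 2 := by
    have h1 : Ideal.span {H} * I ≤ J := Ideal.mul_le.2 fun x hx y hy => by
      obtain ⟨z, rfl⟩ := Ideal.mem_span_singleton'.1 hx
      rw [mul_assoc]
      exact J.mul_mem_left _ (hHI y hy)
    have h2 : H ^ 2 * ∑ i, a i * F i ∈ J ^ 2 := by
      refine (Ideal.pow_right_mono h1 2) ?_
      rw [mul_pow, Ideal.span_singleton_pow]
      exact Ideal.mul_mem_mul (Ideal.mem_span_singleton_self _) ha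
    refine (Ideal.pow_right_mono hρJ 2) ?_
    rw [← Ideal.map_pow]
    exact Ideal.mem_map_of_mem _ h2
  have key := Groth.Agent.CI2.mem_of_sq_relation (Groth.Agent.CI2.ex_of_isRelGCI hrel)
    (Fin.snoc (fun j => ρ (H ^ 2 * a j)) 0) (by
      rw [Fin.sum_univ_castSucc]
      simp only [Fin.snoc_castSucc, Fin.snoc_last, zero_mul, add_zero]
      refine (congrArg (fun y => y ∈ J' ^ 2) ?_).mp hsq
      rw [map_mul, map_sum, Finset.mul_sum]
      refine Finset.sum_congr rfl fun j _ => ?_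
      show _ = ρ (H ^ 2 * a j) * rename Fin.castSucc (F j)
      rw [map_mul, map_mul, mul_assoc]) i.castSucc
  rw [Fin.snoc_castSucc] at key
  let T := Localization.Away (Ideal.Quotient.mk J H)
  let ψ : MvPolynomial (Fin (n + 1)) R →ₐ[R] T :=
    aeval (Fin.snoc (fun i => algebraMap S' T (Ideal.Quotient.mk _ (X i)))
      (IsLocalization.Away.invSelf (Ideal.Quotient.mk J H)) : Fin (n + 1) → T)
  have hψ : ∀ p, ψ (ρ p) = algebraMap S' T (Ideal.Quotient.mk J p) := fun p => by
    have : ψ.comp ρ = (IsScalarTower.toAlgHom R S' T).comp (Ideal.Quotient.mkₐ R J) :=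
      algHom_ext fun i => by simp [ψ, ρ]; rfl
    exact DFunLike.congr_fun this p
  have hle : J' ≤ RingHom.ker ψ.toRingHom := Ideal.span_le.2 (by
    rintro _ ⟨j, rfl⟩
    refine Fin.lastCases ?_ (fun j => ?_) j
    · show ψ (Groth.Agent.CI2.awayRel F H (Fin.last c)) = 0
      rw [Groth.Agent.CI2.awayRel, Fin.snoc_last, map_sub, map_one, sub_eq_zero]
      refine (map_mul ψ _ _).trans ?_
      rw [show ψ (X (Fin.last n)) = IsLocalization.Away.invSelf (Ideal.Quotient.mk J H) by simp [ψ]]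
      show ψ (ρ H) * _ = 1
      rw [hψ H]
      exact IsLocalization.Away.mul_invSelf _
    · show ψ (Groth.Agent.CI2.awayRel F H j.castSucc) = 0
      rw [Groth.Agent.CI2.awayRel, Fin.snoc_castSucc, hψ,
        Ideal.Quotient.eq_zero_iff_mem.mpr (show F j ∈ J from Ideal.subset_span ⟨j, rfl⟩), map_zero])
  have h0 : algebraMap S' T (Ideal.Quotient.mk J (H ^ 2 * a i)) = 0 := by rw [← hψ]; exact hle key
  obtain ⟨⟨_, m, rfl⟩, hm⟩ := (IsLocalization.map_eq_zero_iff (Submonoid.powers (Ideal.Quotient.mk J H)) T _).1 h0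
  refine ⟨m + 2, hJI ?_⟩
  rw [pow_add, mul_assoc, ← Ideal.Quotient.eq_zero_iff_mem, map_mul, map_pow]
  exact hm

theorem free_of_frame {P : Type u} [CommRing P] {I : Ideal P} {H : P} {c : ℕ} {f : Fin c → P}
    (hf : ∀ i, f i ∈ I) (hspan : ∀ x ∈ I, H * x ∈ Ideal.span (Set.range f))
    (hind : ∀ a : Fin c → P, ∑ i, a i * f i ∈ I ^ 2 → ∀ i, ∃ m : ℕ, H ^ m * a i ∈ I)
    (B : Type u) [CommRing B] [Algebra (P ⧸ I) B] (hu : IsUnit (algebraMap (P ⧸ I) B (Ideal.Quotient.mk I H))) :
    Nonempty ((Fin c → B) ≃ₗ[B] B ⊗[P ⧸ I] I.Cotangent) := by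
  classical
  let α : P →+* B := (algebraMap (P ⧸ I) B).comp (Ideal.Quotient.mk I)
  have hαI : ∀ x ∈ I, α x = 0 := fun x hx => by
    show algebraMap _ B (Ideal.Quotient.mk I x) = 0
    rw [Ideal.Quotient.eq_zero_iff_mem.mpr hx, map_zero]
  have hzero : ∀ a : Fin c → P, ∑ i, a i * f i ∈ I ^ 2 → ∀ i, α (a i) = 0 := fun a ha i => by
    obtain ⟨m, hm⟩ := hind a ha i
    have := hαI _ hm
    rw [map_mul, map_pow] at this
    exact (IsUnit.pow m hu).mul_right_eq_zero.1 this
  have hex : ∀ x : I, ∃ a : Fin c → P, ∑ i, a i * f i = H * (x : P) := fun x => by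
    obtain ⟨a, ha⟩ := Ideal.mem_span_range_iff_exists_fun.1 (hspan x x.2)
    exact ⟨a, ha⟩
  choose a ha using hex
  let u : Bˣ := hu.unit
  let ψ0 : I → (Fin c → B) := fun x i => (u⁻¹ : Bˣ) * α (a x i)
  have hsame : ∀ (x : I) (b : Fin c → P), (∑ i, b i * f i) - H * (x : P) ∈ I ^ 2 → ∀ i, α (b i) = α (a x i) := by
    intro x b hb i
    rw [← sub_eq_zero, ← map_sub]
    refine hzero (b - a x) ?_ i
    simp only [Pi.sub_apply, sub_mul, Finset.sum_sub_distrib, ha]
    exact hb
  have hadd : ∀ x y : I, ψ0 (x + y) = ψ0 x + ψ0 y := fun x y => funext fun i => by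
    show (u⁻¹ : Bˣ) * α (a (x + y) i) = _ + _
    rw [← hsame (x + y) (a x + a y) (by
      simp only [Pi.add_apply, add_mul, Finset.sum_add_distrib, ha, Submodule.coe_add, mul_add, sub_self]
      exact zero_mem _) i, Pi.add_apply, map_add, mul_add]
  have hsmul : ∀ (r : P) (x : I), ψ0 (r • x) = fun i => α r * ψ0 x i := fun r x => funext fun i => by
    show (u⁻¹ : Bˣ) * α (a (r • x) i) = _
    rw [← hsame (r • x) (fun j => r * a x j) (by
      show (∑ j, r * a x j * f j) - H * (r * (x : P)) ∈ I ^ 2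
      rw [Finset.sum_congr rfl fun j _ => mul_assoc r (a x j) (f j), ← Finset.mul_sum, ha, mul_left_comm, sub_self]
      exact zero_mem _) i, map_mul]
    exact mul_left_comm _ _ _
  have hkill : ∀ x : I, (x : P) ∈ I ^ 2 → ψ0 x = 0 := fun x hx => funext fun i => by
    show (u⁻¹ : Bˣ) * α (a x i) = 0
    rw [← hsame x 0 (by
      simp only [Pi.zero_apply, zero_mul, Finset.sum_const_zero, zero_sub, neg_mem_iff]
      exact Ideal.mul_mem_left _ _ hx) i, Pi.zero_apply, map_zero, mul_zero]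
  have hwd : ∀ x y : I, I.toCotangent x = I.toCotangent y → ψ0 x = ψ0 y := fun x y h => by
    have h' : ((x - y : I) : P) ∈ I ^ 2 := by
      rw [← Ideal.toCotangent_eq_zero, map_sub, h, sub_self]
    have h2 : ψ0 x = ψ0 (x - y) + ψ0 y := by rw [← hadd, sub_add_cancel]
    rw [h2, hkill _ h', zero_add]
  choose sec hsec using Ideal.toCotangent_surjective I
  let ψ1 : I.Cotangent →ₗ[P ⧸ I] (Fin c → B) :=
    { toFun := fun z => ψ0 (sec z)
      map_add' := fun z w => by rw [hwd _ (sec z + sec w) (by rw [hsec, map_add, hsec, hsec]), hadd]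
      map_smul' := fun r z => by
        obtain ⟨r, rfl⟩ := Ideal.Quotient.mk_surjective r
        rw [hwd _ (r • sec z) (by rw [hsec, map_smul, hsec]; rfl), hsmul]
        funext i
        exact (Algebra.smul_def (Ideal.Quotient.mk I r) (ψ0 (sec z) i)).symm }
  have hψ1 : ∀ x : I, ψ1 (I.toCotangent x) = ψ0 x := fun x => hwd _ _ (hsec _)
  let Ψ : B ⊗[P ⧸ I] I.Cotangent →ₗ[B] (Fin c → B) := ψ1.liftBaseChange B
  let Φ : (Fin c → B) →ₗ[B] B ⊗[P ⧸ I] I.Cotangent :=
    Fintype.linearCombination B fun i => (1 : B) ⊗ₜ[P ⧸ I] I.toCotangent ⟨f i, hf i⟩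
  refine ⟨LinearEquiv.ofLinear Φ Ψ ?_ ?_⟩
  · refine TensorProduct.AlgebraTensorModule.ext fun b z => ?_
    obtain ⟨x, rfl⟩ := Ideal.toCotangent_surjective I z
    show Φ (Ψ (b ⊗ₜ I.toCotangent x)) = b ⊗ₜ I.toCotangent x
    rw [LinearMap.liftBaseChange_tmul, hψ1, map_smul, Fintype.linearCombination_apply]
    have e : ∀ i, ψ0 x i • ((1 : B) ⊗ₜ[P ⧸ I] I.toCotangent ⟨f i, hf i⟩) =
        (u⁻¹ : Bˣ).1 • ((1 : B) ⊗ₜ[P ⧸ I] (a x i • I.toCotangent ⟨f i, hf i⟩)) := fun i => by
      rw [show (a x i • I.toCotangent ⟨f i, hf i⟩) = Ideal.Quotient.mk I (a x i) • I.toCotangent ⟨f i, hf i⟩ from rfl,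
        tmul_smul]
      show ((u⁻¹ : Bˣ).1 * α (a x i)) • _ = _
      rw [mul_smul]
      exact congrArg _ (algebraMap_smul B (Ideal.Quotient.mk I (a x i)) _)
    rw [Finset.sum_congr rfl fun i _ => e i, ← Finset.smul_sum, ← tmul_sum]
    have e2 : ∑ i, a x i • I.toCotangent ⟨f i, hf i⟩ = Ideal.Quotient.mk I H • I.toCotangent x := by
      show _ = H • I.toCotangent x
      rw [← map_smul, Finset.sum_congr rfl fun i _ => (map_smul I.toCotangent (a x i) ⟨f i, hf i⟩).symm, ← map_sum]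
      refine congrArg _ (Subtype.ext ?_)
      rw [Submodule.coe_sum, Submodule.coe_smul, smul_eq_mul]
      exact ha x
    rw [e2, tmul_smul, ← algebraMap_smul B (Ideal.Quotient.mk I H), smul_smul, smul_smul, mul_assoc, mul_comm b,
      show (u⁻¹ : Bˣ).1 * algebraMap (P ⧸ I) B (Ideal.Quotient.mk I H) = 1 from hu.val_inv_mul, one_mul,
      TensorProduct.smul_tmul', smul_eq_mul, mul_one]
  · refine LinearMap.pi_ext' fun i => LinearMap.ext_ring ?_
    show Ψ (Φ (Pi.single i 1)) = Pi.single i 1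
    rw [Fintype.linearCombination_apply_single, map_smul, LinearMap.liftBaseChange_tmul, hψ1, one_smul, one_smul]
    funext j
    show (u⁻¹ : Bˣ) * α (a ⟨f i, hf i⟩ j) = _
    rw [← hsame ⟨f i, hf i⟩ (Pi.single i H) (by
      simp [Pi.single_apply, Finset.sum_ite_eq']) j]
    rcases eq_or_ne j i with rfl | hne
    · rw [Pi.single_eq_same, Pi.single_eq_same]
      exact hu.val_inv_mul
    · rw [Pi.single_eq_of_ne hne, Pi.single_eq_of_ne hne, map_zero, mul_zero]

/-- Let S = R[x_1, …, x_n]/I with I finitely generated and let g ∈ S be such that S_g is syntomic over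
R. Then the localization (I/I²)_g of the conormal module is a finite projective S_g-module. -/
theorem result (R : Type u) [CommRing R] (n : ℕ)
    (I : Ideal (MvPolynomial (Fin n) R)) (hI : I.FG) (g : MvPolynomial (Fin n) R ⧸ I)
    (hg : Synt.IsSyntomic R (Localization.Away g)) :
    Module.Finite (Localization.Away g) (LocalizedModule (Submonoid.powers g) I.Cotangent) ∧
      Module.Projective (Localization.Away g) (LocalizedModule (Submonoid.powers g) I.Cotangent) := by
  let S := MvPolynomial (Fin n) R ⧸ I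
  let A := Localization.Away g
  let M := I.Cotangent
  let N := LocalizedModule (Submonoid.powers g) M
  haveI : Module.Finite (MvPolynomial (Fin n) R) I := Module.Finite.iff_fg.2 hI
  haveI : Module.Finite (MvPolynomial (Fin n) R) M :=
    Module.Finite.of_surjective I.toCotangent (Ideal.toCotangent_surjective I)
  haveI : Module.Finite S M := Module.Finite.of_restrictScalars_finite (MvPolynomial (Fin n) R) S M
  haveI hfin : Module.Finite A N :=
    Module.Finite.of_isLocalizedModule (Submonoid.powers g) (LocalizedModule.mkLinearMap (Submonoid.powers g) M)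
  have key : ∀ (q : Ideal A) (_ : q.IsPrime), ∃ h : A, h ∉ q ∧
      ∀ (T : Submonoid A), h ∈ T → ∃ c : ℕ,
        Nonempty ((Fin c → Localization T) ≃ₗ[Localization T] LocalizedModule T N) := by
    intro q hq
    have hgq : g ∉ q.comap (algebraMap S A) := fun h => hq.ne_top
      (Ideal.eq_top_of_isUnit_mem _ h (IsLocalization.Away.algebraMap_isUnit g))
    obtain ⟨H, c, f, hH, hf, hspan, hind⟩ := exists_frame I hI g hg (q.comap (algebraMap S A)) hgq
    refine ⟨algebraMap S A (Ideal.Quotient.mk I H), hH, fun T hT => ⟨c, ?_⟩⟩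
    obtain ⟨e⟩ := free_of_frame hf hspan hind (Localization T) (by
      rw [IsScalarTower.algebraMap_apply S A (Localization T)]
      exact IsLocalization.map_units (Localization T) (⟨_, hT⟩ : T))
    let e1 := (IsLocalizedModule.isBaseChange T (Localization T) (LocalizedModule.mkLinearMap T N)).equiv
    let e2 := (IsLocalizedModule.isBaseChange (Submonoid.powers g) A
      (LocalizedModule.mkLinearMap (Submonoid.powers g) M)).equiv
    let e3 : Localization T ⊗[A] (A ⊗[S] M) ≃ₗ[Localization T] Localization T ⊗[A] N :=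
      TensorProduct.AlgebraTensorModule.congr (LinearEquiv.refl _ _) e2
    exact ⟨e.trans (((TensorProduct.AlgebraTensorModule.cancelBaseChange S A (Localization T) (Localization T) M).symm.trans
      e3).trans e1)⟩
  choose h hh hfree using key
  haveI : Module.FinitePresentation A N := by
    refine Module.FinitePresentation.of_localizationSpan
      (Set.range fun q : PrimeSpectrum A => h q.asIdeal q.2) ?_ ?_
    · by_contra hne
      obtain ⟨m, hm, hle⟩ := Ideal.exists_le_maximal _ hne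
      exact hh m hm.isPrime (hle (Ideal.subset_span ⟨⟨m, hm.isPrime⟩, rfl⟩))
    · rintro ⟨_, q, rfl⟩
      obtain ⟨c, ⟨e⟩⟩ := hfree q.asIdeal q.2 (Submonoid.powers (h q.asIdeal q.2)) (Submonoid.mem_powers _)
      exact Module.finitePresentation_of_surjective e.toLinearMap e.surjective (by rw [LinearEquiv.ker]; exact Submodule.fg_bot)
  refine ⟨hfin, Module.projective_of_localization_maximal fun m hm => ?_⟩
  obtain ⟨c, ⟨e⟩⟩ := hfree m hm.isPrime m.primeCompl (hh m hm.isPrime)
  exact Module.Projective.of_equiv e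

end Groth.Agent.S9151
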