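import Groth.Statements.S8954
import Groth.Agent.Lib.CI2.SyntLocal
import Groth.Agent.Lib.CI2.Conormal
import Groth.Agent.Lib.CI2.Gci
import Groth.Agent.S9151
import Groth.Prelude.Def_RegImm
import Mathlib

set_option autoImplicit false
universe u
open Synt

namespace Groth.Agent.S8954
open TensorProduct MvPolynomial

theorem exists_frame {R : Type u} [CommRing R] {n : ℕ} (I : Ideal (MvPolynomial (Fin n) R)) (hI : I.FG)
    (g : MvPolynomial (Fin n) R ⧸ I) (hg : Synt.IsSyntomic R (Localization.Away g))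
    (q : Ideal (MvPolynomial (Fin n) R ⧸ I)) [q.IsPrime] (hgq : g ∉ q) :
    ∃ (H : MvPolynomial (Fin n) R) (c : ℕ) (f : Fin c → MvPolynomial (Fin n) R),
      Ideal.Quotient.mk I H ∉ q ∧ (∀ i, f i ∈ I) ∧ (∀ x ∈ I, H * x ∈ Ideal.span (Set.range f)) ∧
      Synt.IsRelGCI R (n + 1) (c + 1) (Groth.Agent.CI2.awayRel f H) ∧
      ∀ a : Fin c → MvPolynomial (Fin n) R, ∑ i, a i * f i ∈ I ^ 2 → ∀ i, ∃ m : ℕ, H ^ m * a i ∈ I := by
  let φ := Ideal.Quotient.mkₐ R I
  have hker : RingHom.ker φ.toRingHom = I := Ideal.mk_ker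
  obtain ⟨Q, _, hQ⟩ := Groth.Agent.CI2.exists_fibre_point (R := R) q
  obtain ⟨-, hfl, hci⟩ := Groth.Agent.CI2.conditions_of_syntomic_away (q.under R) q Q hQ g hgq hg
  obtain ⟨c, F, P, _, g0, hF, hP, hfP, hreg, hg0, hg0I⟩ := Groth.Agent.CI2.exists_relations (q.under R) φ
    Ideal.Quotient.mk_surjective (hker.symm ▸ hI) q Q hQ hfl hci
  obtain ⟨z0, hz0, hgood⟩ := Groth.Agent.CI2.exists_mk_mem_iff_good (q.under R) F P hfP hreg
  let J := Ideal.span (Set.range F)
  let S' := Synt.RelGCIRing R n c F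
  haveI : Algebra.FiniteType R S' :=
    Algebra.FiniteType.of_surjective (Ideal.Quotient.mkₐ R _) Ideal.Quotient.mk_surjective
  let B : Set (PrimeSpectrum S') := {z | ¬ (c ≤ n ∧ FlatMor.fibreDimAt
      (AlgebraicGeometry.Spec.map (CommRingCat.ofHom (algebraMap R S'))) z ≤ ((n - c : ℕ) : WithBot ℕ∞))}
  have hB : IsClosed B := Groth.Agent.CI2.isClosed_bad R S' (n - c) (c ≤ n)
  have hVz : ¬ (PrimeSpectrum.vanishingIdeal B ≤ z0.asIdeal) := fun h => by
    have h1 : z0 ∈ closure B := by rw [← PrimeSpectrum.zeroLocus_vanishingIdeal_eq_closure]; exact h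
    rw [hB.closure_eq] at h1
    exact h1 hgood
  obtain ⟨a, haB, haz⟩ := SetLike.not_le_iff_exists.1 hVz
  obtain ⟨h0, rfl⟩ := Ideal.Quotient.mk_surjective a
  let H := g0 * h0
  have hFI : ∀ i, F i ∈ I := fun i => hker.le (hF i)
  have hJI : J ≤ I := Ideal.span_le.2 (by rintro _ ⟨i, rfl⟩; exact hFI i)
  have hHI : ∀ x ∈ I, H * x ∈ J := fun x hx => by
    rw [show H * x = h0 * (g0 * x) by ring]
    exact J.mul_mem_left _ (hg0I x (hker.ge hx))
  refine ⟨H, c, F, ?_, hFI, hHI, Groth.Agent.CI2.isRelGCI_away F H fun z hz => ?_, ?_⟩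
  · rw [map_mul]
    refine fun hm => ((inferInstance : q.IsPrime).mem_or_mem hm).elim hg0 fun hm => haz ?_
    rw [hz0]
    show h0 ∈ P.comap (Groth.Agent.CI2.red (q.under R))
    rw [hP]
    exact hm
  · by_contra hzB
    refine hz ?_
    rw [map_mul]
    exact z.asIdeal.mul_mem_left _ ((PrimeSpectrum.mem_vanishingIdeal B _).1 haB z hzB)
  intro a ha i
  have hrel := Groth.Agent.CI2.isRelGCI_away F H fun z hz => by
    by_contra hzB
    refine hz ?_
    rw [map_mul]
    exact z.asIdeal.mul_mem_left _ ((PrimeSpectrum.mem_vanishingIdeal B _).1 haB z hzB)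
  let rel := Groth.Agent.CI2.awayRel F H
  let J' := Ideal.span (Set.range rel)
  let ρ := (rename Fin.castSucc : MvPolynomial (Fin n) R →ₐ[R] MvPolynomial (Fin (n + 1)) R)
  have hρJ : J.map ρ.toRingHom ≤ J' := by
    rw [Ideal.map_span, Ideal.span_le]
    rintro _ ⟨_, ⟨j, rfl⟩, rfl⟩
    exact Ideal.subset_span ⟨j.castSucc, by simp [rel, ρ]⟩
  have hsq : ρ (H ^ 2 * ∑ i, a i * F i) ∈ J' ^ 2 := by
    have h1 : Ideal.span {H} * I ≤ J := Ideal.mul_le.2 fun x hx y hy => by
      obtain ⟨z, rfl⟩ := Ideal.mem_span_singleton'.1 hx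
      rw [mul_assoc]
      exact J.mul_mem_left _ (hHI y hy)
    have h2 : H ^ 2 * ∑ i, a i * F i ∈ J ^ 2 := by
      refine (Ideal.pow_right_mono h1 2) ?_
      rw [mul_pow, Ideal.span_singleton_pow]
      exact Ideal.mul_mem_mul (Ideal.mem_span_singleton_self _) ha
    refine (Ideal.pow_right_mono hρJ 2) ?_
    rw [← Ideal.map_pow]
    exact Ideal.mem_map_of_mem _ h2
  have key := Groth.Agent.CI2.mem_of_sq_relation (Groth.Agent.CI2.ex_of_isRelGCI hrel)
    (Fin.snoc (fun j => ρ (H ^ 2 * a j)) 0) (by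
      rw [Fin.sum_univ_castSucc]
      simp only [Fin.snoc_castSucc, Fin.snoc_last, zero_mul, add_zero]
      refine (congrArg (fun y => y ∈ J' ^ 2) ?_).mp hsq
      rw [map_mul, map_sum, Finset.mul_sum]
      refine Finset.sum_congr rfl fun j _ => ?_
      show _ = ρ (H ^ 2 * a j) * rename Fin.castSucc (F j)
      rw [map_mul, map_mul, mul_assoc]) i.castSucc
  rw [Fin.snoc_castSucc] at key
  let T := Localization.Away (Ideal.Quotient.mk J H)
  let ψ : MvPolynomial (Fin (n + 1)) R →ₐ[R] T :=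
    aeval (Fin.snoc (fun i => algebraMap S' T (Ideal.Quotient.mk _ (X i)))
      (IsLocalization.Away.invSelf (Ideal.Quotient.mk J H)) : Fin (n + 1) → T)
  have hψ : ∀ p, ψ (ρ p) = algebraMap S' T (Ideal.Quotient.mk J p) := fun p => by
    have : ψ.comp ρ = (IsScalarTower.toAlgHom R S' T).comp (Ideal.Quotient.mkₐ R J) :=
      algHom_ext fun i => by simp [ψ, ρ]; rfl
    exact DFunLike.congr_fun this p
  have hle : J' ≤ RingHom.ker ψ.toRingHom := Ideal.span_le.2 (by
    rintro _ ⟨j, rfl⟩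
    refine Fin.lastCases ?_ (fun j => ?_) j
    · show ψ (Groth.Agent.CI2.awayRel F H (Fin.last c)) = 0
      rw [Groth.Agent.CI2.awayRel, Fin.snoc_last, map_sub, map_one, sub_eq_zero]
      refine (map_mul ψ _ _).trans ?_
      rw [show ψ (X (Fin.last n)) = IsLocalization.Away.invSelf (Ideal.Quotient.mk J H) by simp [ψ]]
      show ψ (ρ H) * _ = 1
      rw [hψ H]
      exact IsLocalization.Away.mul_invSelf _
    · show ψ (Groth.Agent.CI2.awayRel F H j.castSucc) = 0
      rw [Groth.Agent.CI2.awayRel, Fin.snoc_castSucc, hψ,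
        Ideal.Quotient.eq_zero_iff_mem.mpr (show F j ∈ J from Ideal.subset_span ⟨j, rfl⟩), map_zero])
  have h0 : algebraMap S' T (Ideal.Quotient.mk J (H ^ 2 * a i)) = 0 := by rw [← hψ]; exact hle key
  obtain ⟨⟨_, m, rfl⟩, hm⟩ := (IsLocalization.map_eq_zero_iff (Submonoid.powers (Ideal.Quotient.mk J H)) T _).1 h0
  refine ⟨m + 2, hJI ?_⟩
  rw [pow_add, mul_assoc, ← Ideal.Quotient.eq_zero_iff_mem, map_mul, map_pow]
  exact hm

theorem ringKrullDim_fibre_zero {A S : Type u} [CommRing A] [CommRing S] [Algebra A S] [Algebra.QuasiFinite A S]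
    (p : PrimeSpectrum A) [Nontrivial (p.asIdeal.Fiber S)] : ringKrullDim (p.asIdeal.Fiber S) = 0 :=
  ringKrullDimZero_iff_ringKrullDim_eq_zero.mp inferInstance

theorem isRelGCI_of_finite {A : Type u} [CommRing A] {n : ℕ} (F : Fin n → MvPolynomial (Fin n) A)
    (hfin : Module.Finite A (Synt.RelGCIRing A n n F)) : Synt.IsRelGCI A n n F := by
  intro p hp
  refine ⟨le_rfl, ?_⟩
  rw [Nat.sub_self, Nat.cast_zero]
  haveI := hp
  exact ringKrullDim_fibre_zero p
theorem exists_presentation {A B : Type u} [CommRing A] [IsLocalRing A] [CommRing B] [Algebra A B] [Module.Finite A B]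
    (h : Synt.IsSyntomic A B) :
    ∃ (n : ℕ) (F : Fin n → MvPolynomial (Fin n) A), Nonempty (B ≃ₐ[A] Synt.RelGCIRing A n n F) := by
  obtain ⟨n, φ, hφ, hfg⟩ := h.2.1.out
  let I := RingHom.ker φ.toRingHom
  let S := MvPolynomial (Fin n) A ⧸ I
  let e : S ≃ₐ[A] B := Ideal.quotientKerAlgEquivOfSurjective hφ
  haveI : Module.Finite A S := Module.Finite.equiv e.symm.toLinearEquiv
  have hS : Synt.IsSyntomic A (Localization.Away (1 : S)) :=
    Groth.Agent.CI2.isSyntomic_away (Groth.Agent.CI2.isSyntomic_congr e.symm h) 1 _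
  let M := I.Cotangent
  haveI : Module.Finite (MvPolynomial (Fin n) A) I := Module.Finite.iff_fg.2 hfg
  haveI : Module.Finite (MvPolynomial (Fin n) A) M :=
    Module.Finite.of_surjective I.toCotangent (Ideal.toCotangent_surjective I)
  haveI : Module.Finite S M := Module.Finite.of_restrictScalars_finite (MvPolynomial (Fin n) A) S M
  haveI : Finite (MaximalSpectrum S) := by
    haveI : Algebra.IsIntegral A S := Algebra.IsIntegral.of_finite A S
    haveI : Finite ((IsLocalRing.maximalIdeal A).primesOver S) :=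
      (Algebra.QuasiFinite.finite_primesOver (R := A) (S := S) _).to_subtype
    refine Finite.of_injective (fun m : MaximalSpectrum S =>
      (⟨m.asIdeal, inferInstance, ⟨?_⟩⟩ : (IsLocalRing.maximalIdeal A).primesOver S)) ?_
    · exact (IsLocalRing.eq_maximalIdeal (Ideal.isMaximal_comap_of_isIntegral_of_isMaximal m.asIdeal)).symm
    · exact fun a b hab => MaximalSpectrum.ext (congrArg Subtype.val hab)
  have key : ∀ (q : Ideal S) [q.IsPrime] (T : Type u) [CommRing T] [Algebra S T],
      (∀ x : S, x ∉ q → IsUnit (algebraMap S T x)) → Nonempty ((Fin n → T) ≃ₗ[T] T ⊗[S] M) := by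
    intro q _ T _ _ hT
    obtain ⟨H, c, f, hH, hf, hspan, hrel, hind⟩ :=
      exists_frame I hfg 1 hS q (q.ne_top_iff_one.mp (Ideal.IsPrime.ne_top inferInstance))
    obtain ⟨e1⟩ := Groth.Agent.S9151.free_of_frame hf hspan hind T (hT _ hH)
    obtain rfl : n = c := by
      obtain ⟨e'⟩ := Groth.Agent.CI2.nonempty_awayEquiv f H
      let J := Ideal.span (Set.range f)
      have hJI : J ≤ I := Ideal.span_le.2 (by rintro _ ⟨i, rfl⟩; exact hf i)
      obtain ⟨e''⟩ := Groth.Agent.CI2.nonempty_away_equiv_of_surjective (Ideal.Quotient.factorₐ A hJI)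
        (Ideal.Quotient.factor_surjective hJI) (Ideal.Quotient.mk J H) (fun a ha => by
          obtain ⟨x, rfl⟩ := Ideal.Quotient.mk_surjective a
          refine ⟨1, ?_⟩
          rw [pow_one, ← map_mul, Ideal.Quotient.eq_zero_iff_mem]
          exact hspan x (Ideal.Quotient.eq_zero_iff_mem.mp ha))
      let E : Localization.Away (Ideal.Quotient.mk I H) ≃ₐ[A]
          Synt.RelGCIRing A (n + 1) (c + 1) (Groth.Agent.CI2.awayRel f H) := e''.trans e'
      haveI : Algebra.QuasiFinite A (Synt.RelGCIRing A (n + 1) (c + 1) (Groth.Agent.CI2.awayRel f H)) :=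
        Algebra.QuasiFinite.of_surjective_algHom E.toAlgHom E.surjective
      obtain ⟨Q, hQ, -⟩ := Groth.Agent.CI2.exists_prime_over (T := Localization.Away (Ideal.Quotient.mk I H))
        (Ideal.Quotient.mk I H) q hH
      let z : PrimeSpectrum (Synt.RelGCIRing A (n + 1) (c + 1) (Groth.Agent.CI2.awayRel f H)) :=
        PrimeSpectrum.comap E.symm.toRingEquiv.toRingHom ⟨Q, hQ⟩
      let p := PrimeSpectrum.comap (algebraMap A _) z
      haveI hnt : Nontrivial (p.asIdeal.Fiber (Synt.RelGCIRing A (n + 1) (c + 1) (Groth.Agent.CI2.awayRel f H))) :=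
        PrimeSpectrum.nonempty_iff_nontrivial.1 ⟨PrimeSpectrum.preimageHomeomorphFiber A _ p ⟨z, rfl⟩⟩
      obtain ⟨hle, hd⟩ := hrel p hnt
      rw [ringKrullDim_fibre_zero p] at hd
      have : n + 1 - (c + 1) = 0 := by exact_mod_cast hd.symm
      omega
    exact ⟨e1⟩
  haveI : Module.Flat S M := Module.flat_of_localized_maximal M fun m _ => by
    obtain ⟨e1⟩ := key m (Localization.AtPrime m) fun x hx => IsLocalization.map_units _ (⟨x, hx⟩ : m.primeCompl)
    let e2 := (IsLocalizedModule.isBaseChange m.primeCompl (Localization.AtPrime m)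
      (LocalizedModule.mkLinearMap m.primeCompl M)).equiv
    haveI : Module.Flat (Localization.AtPrime m) (LocalizedModule m.primeCompl M) :=
      Module.Flat.of_linearEquiv (e1.trans e2).symm
    exact Module.Flat.trans S (Localization.AtPrime m) (LocalizedModule m.primeCompl M)
  obtain ⟨b⟩ := Module.nonempty_basis_of_flat_of_finrank_eq S M n fun m => by
    letI := Ideal.Quotient.field m.asIdeal
    obtain ⟨e1⟩ := key m.asIdeal (S ⧸ m.asIdeal) fun x hx =>
      IsUnit.mk0 _ (fun hx0 => hx (Ideal.Quotient.eq_zero_iff_mem.mp hx0))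
    rw [← e1.finrank_eq, Module.finrank_fintype_fun_eq_card, Fintype.card_fin]
  choose f hf using fun i => Ideal.toCotangent_surjective I (b i)
  let F : Fin n → MvPolynomial (Fin n) A := fun i => f i
  let J := Ideal.span (Set.range F)
  have hJI : J ≤ I := Ideal.span_le.2 (by rintro _ ⟨i, rfl⟩; exact (f i).2)
  have hsup : (I : Submodule (MvPolynomial (Fin n) A) (MvPolynomial (Fin n) A)) ≤ J ⊔ I • I := by
    intro x hx
    choose a ha using fun i => Ideal.Quotient.mk_surjective (b.repr (I.toCotangent ⟨x, hx⟩) i)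
    have h1 : I.toCotangent (⟨x, hx⟩ - ∑ i, a i • f i) = 0 := by
      rw [map_sub, map_sum, sub_eq_zero]
      refine (b.sum_repr _).symm.trans (Finset.sum_congr rfl fun i _ => ?_)
      rw [map_smul, hf, ← ha i]
      rfl
    rw [Ideal.toCotangent_eq_zero, Submodule.coe_sub, Submodule.coe_sum] at h1
    refine Submodule.mem_sup.2 ⟨∑ i, a i * F i, Ideal.sum_mem _ fun i _ => J.mul_mem_left _ (Ideal.subset_span ⟨i, rfl⟩),
      x - ∑ i, a i * F i, ?_, add_sub_cancel _ _⟩
    rw [smul_eq_mul, ← pow_two]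
    exact h1
  obtain ⟨r, hr, hrI⟩ := Submodule.exists_sub_one_mem_and_smul_le_of_fg_of_le_sup hfg le_rfl hsup
  obtain ⟨e'⟩ := Groth.Agent.CI2.nonempty_awayEquiv F r
  obtain ⟨e''⟩ := Groth.Agent.CI2.nonempty_away_equiv_of_surjective (Ideal.Quotient.factorₐ A hJI)
    (Ideal.Quotient.factor_surjective hJI) (Ideal.Quotient.mk J r) (fun a ha => by
      obtain ⟨x, rfl⟩ := Ideal.Quotient.mk_surjective a
      refine ⟨1, ?_⟩
      rw [pow_one, ← map_mul, Ideal.Quotient.eq_zero_iff_mem]
      exact hrI (Submodule.smul_mem_pointwise_smul x r I (Ideal.Quotient.eq_zero_iff_mem.mp ha)))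
  have hone : Ideal.Quotient.factorₐ A hJI (Ideal.Quotient.mk J r) = 1 := by
    rw [← map_one (Ideal.Quotient.mk I)]
    exact Ideal.Quotient.eq.mpr hr
  haveI hloc : IsLocalization.Away (Ideal.Quotient.factorₐ A hJI (Ideal.Quotient.mk J r)) S :=
    IsLocalization.at_units (by
      rintro x ⟨i, rfl⟩
      show IsUnit ((Ideal.Quotient.factorₐ A hJI (Ideal.Quotient.mk J r)) ^ i)
      rw [hone, one_pow]
      exact isUnit_one)
  let e3 : S ≃ₐ[A] Localization.Away (Ideal.Quotient.factorₐ A hJI (Ideal.Quotient.mk J r)) :=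
    (IsLocalization.algEquiv (Submonoid.powers (Ideal.Quotient.factorₐ A hJI (Ideal.Quotient.mk J r))) S _).restrictScalars A
  exact ⟨n + 1, _, ⟨(e.symm.trans e3).trans (e''.trans e')⟩⟩

/-- The equivalence of being finite syntomic with having a square presentation, stated over a local
base. For a local ring A and a finite A-algebra B, the map A → B is syntomic if and only if B ≅
A[x_1, …, x_n]/(f_1, …, f_n) as A-algebras for some n and f_1, …, f_n ∈ A[x_1, …, x_n]. (The
published statement is for a finite morphism of schemes and asserts such a presentation over some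
affine open neighbourhood of each point of the base; over a local base that neighbourhood is the
whole spectrum.) -/
theorem result (A B : Type u) [CommRing A] [IsLocalRing A] [CommRing B] [Algebra A B] [Module.Finite A B] : Synt.IsSyntomic A B ↔ ∃ (n : ℕ) (F : Fin n → MvPolynomial (Fin n) A), Nonempty (B ≃ₐ[A] Synt.RelGCIRing A n n F) := by
  refine ⟨exists_presentation, fun ⟨n, F, ⟨e⟩⟩ => ?_⟩
  haveI hfin : Module.Finite A (Synt.RelGCIRing A n n F) := Module.Finite.equiv e.toLinearEquiv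
  exact Groth.Agent.CI2.isSyntomic_congr e.symm (Groth.Agent.CI2.isSyntomic_of_isRelGCI (isRelGCI_of_finite F hfin))

end Groth.Agent.S8954
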