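import Groth.Statements.S8961
import Groth.Agent.Lib.CharInt11.Basic
import Groth.Agent.Lib.NormalBC6.Criterion

set_option autoImplicit false
universe u
open QFDual

namespace Groth.Agent.S8961

open Polynomial in
theorem mem_range_of_isIntegral_totalFrac {A K : Type u} [CommRing A] [IsNoetherianRing A] [CommRing K]
    [Algebra A K] [IsFractionRing A K] (hA : EGA4.IsNormalRing A) (x : K) (hx : IsIntegral A x) :
    x ∈ (algebraMap A K).range := by
  obtain ⟨⟨a, s⟩, hxs⟩ := IsLocalization.surj (nonZeroDivisors A) x
  obtain ⟨p, hp, hpx⟩ := hx
  simp only at hxs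
  have hinj : Function.Injective (algebraMap A K) := IsFractionRing.injective A K
  have h0 : (p.scaleRoots (s : A)).eval a = 0 := by
    apply hinj
    rw [map_zero, ← aeval_algebraMap_apply_eq_algebraMap_eval, ← hxs, mul_comm]
    exact scaleRoots_aeval_eq_zero hpx
  have hdeg : (p.scaleRoots (s : A)).natDegree = p.natDegree := natDegree_scaleRoots p _
  rw [eval_eq_sum_range, hdeg, Finset.sum_range_succ, coeff_scaleRoots_natDegree, hp.leadingCoeff,
    one_mul, add_comm] at h0
  obtain ⟨ξ, hξ, -⟩ := Groth.Agent.NormalBC6.exists_mul_eq_of_intDiv A hA (s : A) a p.natDegree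
    (fun i => p.coeff i) (by
      rw [← h0]
      congr 1
      exact Finset.sum_congr rfl fun i _ => by rw [coeff_scaleRoots])
  refine ⟨ξ, ?_⟩
  apply (IsLocalization.map_units K s).mul_left_inj.1
  rw [hxs, ← map_mul, mul_comm, hξ]


/-- Suppose the Dedekind different of A → B is defined: A is Noetherian, B is a finite A-algebra,
nonzerodivisors of A are nonzerodivisors on B, and with K = Q(A) and L = B ⊗_A K the map K → L is
étale (here with L finite free over K). If A is a normal ring, i.e. every localization A_p at a
prime is an integrally closed domain, then Trace_{L/K}(b) lies in A for every b ∈ B; equivalently 1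
∈ 𝓛_{B/A}. -/
theorem result (A K B L : Type u) [CommRing A] [CommRing K] [CommRing B] [CommRing L] [Algebra A K] [Algebra A B] [Algebra B L] [Algebra K L] [Algebra A L] [IsScalarTower A K L] [IsScalarTower A B L] (h : QFDual.IsDedekindDefined A K B L) (hA : EGA4.IsNormalRing A) : (1 : L) ∈ QFDual.complementary A K B L := by
  intro b
  classical
  have := h.isFractionRing
  have := h.free
  have := h.finiteKL
  have := h.finite
  have := h.isNoetherianRing
  haveI : IsNoetherianRing K := IsLocalization.isNoetherianRing (nonZeroDivisors A) K inferInstance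
  haveI : IsReduced A := Groth.Agent.FlatDepth.isReduced_of_isNormalRing A hA
  haveI : IsReduced K := isReduced_localizationPreserves (nonZeroDivisors A) K inferInstance
  refine mem_range_of_isIntegral_totalFrac hA _ ?_
  rw [one_mul]
  let β := Module.Free.chooseBasis K L
  rw [Algebra.trace_eq_matrix_trace β]
  rcases isEmpty_or_nonempty (Module.Free.ChooseBasisIndex K L) with hE | hE
  · rw [Matrix.trace, Finset.sum_of_isEmpty]
    exact isIntegral_zero
  have hM : IsIntegral A (Algebra.leftMulMatrix β (algebraMap B L b)) :=
    (((Algebra.IsIntegral.of_finite A B).isIntegral b).map (IsScalarTower.toAlgHom A B L)).map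
      ((Algebra.leftMulMatrix β).restrictScalars A)
  rw [Matrix.trace_eq_neg_charpoly_coeff]
  exact (Groth.Agent.CharInt11.isIntegral_matrix_charpoly_coeff _ hM _).neg

end Groth.Agent.S8961
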