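import Groth.Statements.S8965
import Groth.Agent.Lib.QFDedekind.Basic
import Mathlib.RingTheory.Localization.NormTrace

set_option autoImplicit false
universe u
open QFDual

namespace Groth.Agent.S8965




/-- Suppose the Dedekind different of A → B is defined (A Noetherian, B a finite A-algebra,
nonzerodivisors of A nonzerodivisors on B, K = Q(A) → L = B ⊗_A K étale, here with L finite free
over K) and that B is free as an A-module. Then the Dedekind different 𝔇_{B/A} ⊆ L is the image
under B → L of the ideal of b ∈ B with b · Hom_A(B, A) ⊆ B · Trace_{B/A}, where B acts on Hom_A(B,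
A) through the argument. (The published statement assumes only A → B flat, with the trace element
τ_{B/A} of the relative dualizing module ω_{B/A}; for B finite free these are Trace_{B/A} and
Hom_A(B, A), the case taken here.) -/
theorem result (A K B L : Type u) [CommRing A] [CommRing K] [CommRing B] [CommRing L] [Algebra A K] [Algebra A B] [Algebra B L] [Algebra K L] [Algebra A L] [IsScalarTower A K L] [IsScalarTower A B L] (h : QFDual.IsDedekindDefined A K B L) [Module.Finite A B] [Module.Free A B] : QFDual.dedekindDifferent A K B L = Submodule.map (Algebra.linearMap B L) (QFDual.different B (Disc.Omega.trace A B)) := by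
  classical
  obtain ⟨e, he⟩ := Groth.Agent.QFDedekind.exists_linearEquiv h
  have := h.isFractionRing
  have := h.isLocalization
  have hloc := h.isLocalization
  have hinj : Function.Injective (algebraMap A K) := IsFractionRing.injective A K
  have hBL : Function.Injective (algebraMap B L) := IsLocalization.injective (M := Algebra.algebraMapSubmonoid B (nonZeroDivisors A)) L
    (by rintro _ ⟨a, ha, rfl⟩; exact h.map_nonZeroDivisors ha)
  have htr : ∀ b : B, Algebra.trace K L (algebraMap B L b) = algebraMap A K (Algebra.trace A B b) := fun b =>
    Algebra.trace_localization A (nonZeroDivisors A) b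
  have hone : (1 : L) ∈ QFDual.complementary A K B L := fun b => ⟨Algebra.trace A B b, by rw [one_mul, htr]⟩
  have he1 : e ⟨1, hone⟩ = Disc.Omega.trace A B := by
    refine Disc.Omega.ext (LinearMap.ext fun b => hinj ?_)
    rw [he]
    change Algebra.trace K L (1 * algebraMap B L b) = algebraMap A K (Algebra.trace A B b)
    rw [one_mul, htr]
  ext x
  constructor
  · intro hx
    obtain ⟨r, hr⟩ := hx 1 hone
    rw [mul_one] at hr
    subst hr
    refine ⟨r, ?_, rfl⟩
    rw [SetLike.mem_coe, QFDual.mem_different_iff]
    intro φ
    obtain ⟨c, hc⟩ := hx (e.symm φ).1 (e.symm φ).2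
    refine ⟨c, ?_⟩
    rw [← he1, ← e.apply_symm_apply φ, ← map_smul, ← map_smul]
    refine congrArg e (Subtype.ext ?_)
    rw [Submodule.coe_smul, Submodule.coe_smul, Algebra.smul_def, Algebra.smul_def, mul_one, hc]
  · rintro ⟨r, hr, rfl⟩
    rw [SetLike.mem_coe, QFDual.mem_different_iff] at hr
    intro y hy
    obtain ⟨c, hc⟩ := hr (e ⟨y, hy⟩)
    rw [← he1, ← map_smul, ← map_smul] at hc
    have h2 := congrArg (fun w : QFDual.complementary A K B L => (w : L)) (e.injective hc)
    simp only [Submodule.coe_smul, Algebra.smul_def, mul_one] at h2
    exact ⟨c, by rw [Algebra.linearMap_apply, h2]⟩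

end Groth.Agent.S8965
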