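import Groth.Statements.S8970
import Groth.Agent.Lib.DlzFin27.Delta
import Groth.Agent.Lib.DlzFin27.Adj
-- import your own Groth.Agent.* helpers here

set_option autoImplicit false
universe u
open CategoryTheory
attribute [local instance] HasDerivedCategory.standard
open Dual

namespace Groth.Agent.S8970

/-- For a Noetherian ring A with a dualizing complex ω, δ(p) denotes the integer such that the
localization at p of Hom(A/p, ω[i]) is nonzero exactly for i = −δ(p); this δ is the dimension
function of ω. Suppose A is a Noetherian ring equipped with a dualizing complex ω, fix a surjective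
ring homomorphism A → B, and take R : D(A) → D(B) to be the right adjoint of restriction of scalars;
then ω_B = R(ω) = RHom_A(B, ω) is a dualizing complex for B. Then δ_{ω_B} is the restriction of δ_ω
to Spec B: for every prime q of B, with p its preimage in A, and every integer i, the localization
at q of the B-module of maps B/q → ω_B[i] in D(B) is nonzero if and only if the localization at p of
the A-module of maps A/p → ω[i] in D(A) is nonzero. -/
theorem result (A B : Type u) [CommRing A] [CommRing B] [IsNoetherianRing A] [IsNoetherianRing B] [Algebra A B] (hs : Function.Surjective (algebraMap A B)) (R : Dual.D A ⥤ Dual.D B) (adj : DRing.restrictD (algebraMap A B) ⊣ R) (ω : Dual.D A) (hω : Dual.IsDualizing A ω) (q : PrimeSpectrum B) (i : ℤ) : Nontrivial (LocalizedModule q.asIdeal.primeCompl (Dual.inD B (B ⧸ q.asIdeal) ⟶ (R.obj ω)⟦i⟧)) ↔ Nontrivial (LocalizedModule (q.asIdeal.comap (algebraMap A B)).primeCompl (Dual.inD A (A ⧸ q.asIdeal.comap (algebraMap A B)) ⟶ ω⟦i⟧)) := by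
  let M := Dlz27.model hω
  let C := DlzFin27.coextCx B M.W
  have hC := DlzFin27.injective_coextCx (B := B) M.W M.inj
  haveI : C.IsKInjective := @CochainComplex.isKInjective_of_injective _ _ _ C M.lo _ hC
  obtain ⟨e⟩ := DlzFin27.nonempty_rightAdjoint_iso M.W R adj
  let MB : Dlz27.Model (R.obj ω) := ⟨C, M.lo, M.hi, inferInstance, inferInstance, hC, inferInstance, e.symm ≪≫ R.mapIso M.e⟩
  rw [Dlz27.nontrivial_localized_iff MB q, Dlz27.nontrivial_localized_iff M ⟨q.asIdeal.comap (algebraMap A B), inferInstance⟩]
  refine not_congr ((DlzFin27.vanS_coext_iff hs q.asIdeal.primeCompl (B ⧸ q.asIdeal) i).trans ?_)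
  let ε : (A ⧸ q.asIdeal.comap (algebraMap A B)) ≃ₗ[A] B ⧸ q.asIdeal :=
    LinearEquiv.ofBijective (Ideal.quotientMapₐ q.asIdeal (Algebra.ofId A B) le_rfl).toLinearMap
      ⟨Ideal.quotientMap_injective, Ideal.quotientMap_surjective (H := le_rfl) hs⟩
  exact ⟨fun h => Dlz27.VanS.equiv h ε.symm, fun h => Dlz27.VanS.equiv h ε⟩

end Groth.Agent.S8970
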