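import Groth.Statements.S8971
import Groth.Agent.S2218
import Groth.Agent.Lib.DiscNoether25.OmegaFlat

set_option autoImplicit false
universe u
open TensorProduct
open QFDual

namespace Groth.Agent.S8971

open TensorProduct AlgebraicGeometry CategoryTheory in
theorem associatedPrimes_tensor_openImmersion {R S : Type u} [CommRing R] [CommRing S] [IsNoetherianRing R]
    [IsNoetherianRing S] [Algebra R S]
    (hopen : IsOpenImmersion (Spec.map (CommRingCat.ofHom (algebraMap R S))))
    (M : Type u) [AddCommGroup M] [Module R M] :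
    associatedPrimes S (S ⊗[R] M) =
      {Q : Ideal S | Q.IsPrime ∧ Q.comap (algebraMap R S) ∈ associatedPrimes R M} := by
  classical
  haveI : Module.Flat R S :=
    RingHom.flat_algebraMap_iff.1 (Groth.Agent.DiscNoether25.flat_of_isOpenImmersion hopen)
  have hloc : ∀ (Q : Ideal S) [Q.IsPrime] (x : S), ∃ t, t ∉ Q ∧ ∃ s, s ∉ Q.comap (algebraMap R S) ∧
      ∃ r, t * algebraMap R S s * x = t * algebraMap R S r := by
    intro Q _ x
    have hsurj : Function.Surjective (Localization.localRingHom (Q.comap (algebraMap R S)) Q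
        (algebraMap R S) rfl) :=
      (HasRingHomProperty.Spec_iff (P := @AlgebraicGeometry.SurjectiveOnStalks)).1
        (inferInstance : AlgebraicGeometry.SurjectiveOnStalks
          (Spec.map (CommRingCat.ofHom (algebraMap R S)))) Q inferInstance
    obtain ⟨y, hy⟩ := hsurj (algebraMap S (Localization.AtPrime Q) x)
    obtain ⟨⟨r, s⟩, hrs⟩ := IsLocalization.surj (Q.comap (algebraMap R S)).primeCompl y
    have h1 := congrArg (Localization.localRingHom (Q.comap (algebraMap R S)) Q (algebraMap R S) rfl) hrs
    rw [map_mul, hy, Localization.localRingHom_to_map, Localization.localRingHom_to_map, ← map_mul] at h1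
    obtain ⟨t, ht⟩ := (IsLocalization.eq_iff_exists Q.primeCompl (Localization.AtPrime Q)).1 h1
    refine ⟨t.1, t.2, s.1, s.2, r, ?_⟩
    rw [mul_assoc, mul_comm (algebraMap R S s.1) x]
    exact ht
  have hemb : ∀ (m : M) (K : Ideal R), (∀ k, k ∈ K ↔ k • m = 0) → ∀ u : S,
      u • ((1 : S) ⊗ₜ[R] m) = 0 → u ∈ K.map (algebraMap R S) := by
    intro m K hK u hu
    have hex : Function.Exact ((K : Submodule R R).subtype.lTensor S)
        ((LinearMap.toSpanSingleton R M m).lTensor S) := Module.Flat.lTensor_exact S (fun k => by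
      constructor
      · intro hk; exact ⟨⟨k, (hK k).2 hk⟩, rfl⟩
      · rintro ⟨⟨k, hk⟩, rfl⟩; exact (hK k).1 hk)
    obtain ⟨z, hz⟩ := (hex (u ⊗ₜ[R] (1 : R))).1 (by
      rw [LinearMap.lTensor_tmul, LinearMap.toSpanSingleton_apply, one_smul]
      rw [TensorProduct.smul_tmul', smul_eq_mul, mul_one] at hu
      exact hu)
    have key : ∀ z, TensorProduct.rid R S ((K : Submodule R R).subtype.lTensor S z) ∈
        K.map (algebraMap R S) := fun z => by
      induction z using TensorProduct.induction_on with
      | zero => simp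
      | add z z' h h' => rw [map_add, map_add]; exact add_mem h h'
      | tmul a k =>
        rw [LinearMap.lTensor_tmul, TensorProduct.rid_tmul, Algebra.smul_def]
        exact Ideal.mul_mem_right _ _ (Ideal.mem_map_of_mem _ k.2)
    have := key z
    rwa [hz, TensorProduct.rid_tmul, one_smul] at this
  ext Q
  constructor
  · intro hQ
    obtain ⟨hQp, z, hz⟩ := isAssociatedPrime_iff.1 hQ
    haveI := hQp
    refine ⟨hQp, ?_⟩
    set q := Q.comap (algebraMap R S) with hq
    haveI : q.IsPrime := Ideal.IsPrime.comap _
    obtain ⟨t, ht, s, hs, m, hm⟩ : ∃ t, t ∉ Q ∧ ∃ s, s ∉ q ∧ ∃ m : M,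
        (t * algebraMap R S s) • z = t • ((1 : S) ⊗ₜ[R] m) := by
      clear hz
      induction z using TensorProduct.induction_on with
      | zero => exact ⟨1, fun h => hQp.ne_top ((Ideal.eq_top_iff_one _).2 h), 1,
          fun h => hQp.ne_top ((Ideal.eq_top_iff_one _).2 (by rw [← map_one (algebraMap R S)]; exact h)),
          0, by simp⟩
      | tmul b m =>
        obtain ⟨t, ht, s, hs, r, hr⟩ := hloc Q b
        refine ⟨t, ht, s, hs, r • m, ?_⟩
        rw [TensorProduct.smul_tmul', TensorProduct.smul_tmul', smul_eq_mul, smul_eq_mul, mul_one, hr,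
          ← TensorProduct.smul_tmul, Algebra.smul_def, mul_comm]
      | add x y hx hy =>
        obtain ⟨t, ht, s, hs, m, hm⟩ := hx
        obtain ⟨t', ht', s', hs', m', hm'⟩ := hy
        refine ⟨t * t', fun h => (hQp.mem_or_mem h).elim ht ht', s * s',
          fun h => (Ideal.IsPrime.mem_or_mem inferInstance h).elim hs hs', s' • m + s • m', ?_⟩
        rw [smul_add, TensorProduct.tmul_add, smul_add, TensorProduct.tmul_smul, TensorProduct.tmul_smul,
          ← algebraMap_smul S s', ← algebraMap_smul S s, smul_smul, smul_smul, map_mul]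
        rw [show t * t' * algebraMap R S s' = (t' * algebraMap R S s') * t by ring,
          show t * t' * algebraMap R S s = (t * algebraMap R S s) * t' by ring,
          mul_smul _ t, mul_smul _ t', ← hm, ← hm', smul_smul, smul_smul]
        congr 1 <;> congr 1 <;> ring
    have hann : ∀ r : R, algebraMap R S r • t • ((1 : S) ⊗ₜ[R] m) = 0 ↔ r ∈ q := fun r => by
      rw [← hm, smul_smul]
      constructor
      · intro h
        have h1 : algebraMap R S r * (t * algebraMap R S s) ∈ Q := by
          rw [hz, Submodule.mem_colon_singleton, Submodule.mem_bot]; exact h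
        exact (hQp.mem_or_mem h1).resolve_right fun h2 => (hQp.mem_or_mem h2).elim ht hs
      · intro h
        have h1 : algebraMap R S r * (t * algebraMap R S s) ∈ Q := Q.mul_mem_right _ h
        rw [hz, Submodule.mem_colon_singleton, Submodule.mem_bot] at h1
        exact h1
    have hk : ∀ a ∈ q, ∃ c, c ∉ q ∧ c • a • m = 0 := fun a ha => by
      by_contra hne
      push Not at hne
      have h1 := hemb (a • m) ((⊥ : Submodule R M).colon {a • m})
        (fun k => by rw [Submodule.mem_colon_singleton, Submodule.mem_bot]) t (by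
          rw [TensorProduct.tmul_smul, ← algebraMap_smul S a, smul_comm]
          exact (hann a).2 ha)
      refine ht (Ideal.map_le_iff_le_comap.2 (fun k hk => ?_) h1)
      rw [Submodule.mem_colon_singleton, Submodule.mem_bot] at hk
      by_contra hkq
      exact hne k hkq hk
    obtain ⟨G, hG⟩ := (IsNoetherian.noetherian q : (q : Submodule R R).FG)
    choose c hc hc' using fun g : {x // x ∈ G} =>
      hk g.1 (hG ▸ Submodule.subset_span g.2)
    have hC : ∏ g, c g ∉ q := fun hp => by
      obtain ⟨i, -, hi⟩ := Ideal.IsPrime.prod_mem_iff.1 hp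
      exact hc i hi
    refine isAssociatedPrime_iff.2 ⟨inferInstance, (∏ g, c g) • m, Ideal.ext fun r => ?_⟩
    rw [Submodule.mem_colon_singleton, Submodule.mem_bot]
    constructor
    · intro hr
      have hr' : r ∈ Submodule.span R (G : Set R) := by rw [hG]; exact hr
      refine Submodule.span_induction (p := fun r _ => r • (∏ g, c g) • m = 0) ?_ (zero_smul _ _)
        (fun x y _ _ hx hy => by rw [add_smul, hx, hy, add_zero])
        (fun d x _ hx => by rw [smul_eq_mul, mul_smul, hx, smul_zero]) hr'
      intro g hg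
      obtain ⟨d, hd⟩ := Finset.dvd_prod_of_mem c (Finset.mem_univ (⟨g, hg⟩ : {x // x ∈ G}))
      rw [hd, smul_comm, mul_comm, mul_smul, hc', smul_zero]
    · intro hr
      have h1 : r * ∏ g, c g ∈ q := (hann _).1 (by
        rw [smul_comm, algebraMap_smul, ← TensorProduct.tmul_smul, mul_smul, hr, TensorProduct.tmul_zero,
          smul_zero])
      exact (Ideal.IsPrime.mem_or_mem inferInstance h1).resolve_right hC
  · rintro ⟨hQp, hq⟩
    haveI := hQp
    obtain ⟨-, m, hm⟩ := isAssociatedPrime_iff.1 hq
    obtain ⟨G, hG⟩ := (IsNoetherian.noetherian Q : (Q : Submodule S S).FG)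
    have hx : ∀ x ∈ Q, ∃ t, t ∉ Q ∧ (t * x) • ((1 : S) ⊗ₜ[R] m) = 0 := fun x hx => by
      obtain ⟨t, ht, s, hs, r, hr⟩ := hloc Q x
      refine ⟨t * algebraMap R S s, fun h => (hQp.mem_or_mem h).elim ht hs, ?_⟩
      have hrq : r ∈ Q.comap (algebraMap R S) :=
        (hQp.mem_or_mem (hr ▸ Q.mul_mem_left _ hx : t * algebraMap R S r ∈ Q)).resolve_left ht
      rw [hm, Submodule.mem_colon_singleton, Submodule.mem_bot] at hrq
      rw [hr, mul_smul, algebraMap_smul, ← TensorProduct.tmul_smul, hrq, TensorProduct.tmul_zero,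
        smul_zero]
    choose c hc hc' using fun g : {x // x ∈ G} => hx g.1 (hG ▸ Submodule.subset_span g.2)
    have hC : ∏ g, c g ∉ Q := fun hp => by
      obtain ⟨i, -, hi⟩ := Ideal.IsPrime.prod_mem_iff.1 hp
      exact hc i hi
    refine isAssociatedPrime_iff.2 ⟨hQp, (∏ g, c g) • ((1 : S) ⊗ₜ[R] m), Ideal.ext fun r => ?_⟩
    rw [Submodule.mem_colon_singleton, Submodule.mem_bot]
    constructor
    · intro hr
      have hr' : r ∈ Submodule.span S (G : Set S) := by rw [hG]; exact hr
      refine Submodule.span_induction (p := fun r _ => r • (∏ g, c g) • ((1 : S) ⊗ₜ[R] m) = 0) ?_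
        (zero_smul _ _)
        (fun x y _ _ hx hy => by rw [add_smul, hx, hy, add_zero])
        (fun d x _ hx => by rw [smul_eq_mul, mul_smul, hx, smul_zero]) hr'
      intro g hg
      obtain ⟨d, hd⟩ := Finset.dvd_prod_of_mem c (Finset.mem_univ (⟨g, hg⟩ : {x // x ∈ G}))
      rw [smul_smul, hd, show g * (c ⟨g, hg⟩ * d) = d * (c ⟨g, hg⟩ * g) by ring, mul_smul, hc', smul_zero]
    · intro hr
      have h1 := hemb m (Q.comap (algebraMap R S)) (fun k => by
        rw [hm, Submodule.mem_colon_singleton, Submodule.mem_bot]) (r * ∏ g, c g) (by rw [mul_smul]; exact hr)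
      exact (hQp.mem_or_mem (Ideal.map_comap_le h1)).resolve_right hC


/-- Let A → B be a quasi-finite homomorphism of Noetherian rings, presented by writing it as a composite
A → B' → B, where the map A → B' is finite and the induced morphism Spec B → Spec B' is an open
immersion, so that ω_{B/A} = B ⊗_{B'} Hom_A(B', A) (B' acting on Hom_A(B', A) through the argument).
Then Ass_B(ω_{B/A}) is the set of primes of B whose preimage in A is an associated prime of A. -/
theorem result (A B' B : Type u) [CommRing A] [CommRing B'] [CommRing B] [IsNoetherianRing A] [IsNoetherianRing B] [Algebra A B'] [Algebra B' B] [Algebra A B] [IsScalarTower A B' B] (hf : QFDual.IsQFFactor A B' B) : associatedPrimes B (QFDual.omega A B' B) = {q : Ideal B | q.IsPrime ∧ q.comap (algebraMap A B) ∈ associatedPrimes A A} := by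
  haveI := hf.finite
  haveI : IsNoetherianRing B' := IsNoetherianRing.of_finite A B'
  rw [associatedPrimes_tensor_openImmersion hf.isOpenImmersion]
  refine Set.ext fun q => and_congr_right fun hq => ?_
  rw [Groth.Agent.S2218.result, Set.mem_setOf_eq, Ideal.comap_comap,
    ← IsScalarTower.algebraMap_eq]
  haveI := hq
  exact and_iff_right inferInstance

end Groth.Agent.S8971
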