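import Groth.Statements.S8972
import Mathlib
import Groth.Prelude.Def_W4stkdualitygroupp2Univ

set_option autoImplicit false
open Synt

namespace Groth.Agent.S8972

open MvPolynomial

theorem main (n d : ℕ) : ∃ (σ : Type) (_ : Finite σ), Nonempty (MvPolynomial σ ℤ ≃+* Synt.UnivAlg n d) := by
  classical
  let z : Synt.UnivIdx n d := ⟨fun _ => 0, by simp⟩
  let σ := Fin n ⊕ {p : Fin n × Synt.UnivIdx n d // p.2 ≠ z}
  refine ⟨σ, inferInstance, ?_⟩
  let xE : Synt.UnivIdx n d → MvPolynomial σ ℤ := fun E => ∏ i : Fin n, X (Sum.inl i) ^ ((E.1 i : ℕ))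
  let cf : Fin n × Synt.UnivIdx n d → MvPolynomial σ ℤ := fun p =>
    if h : p.2 = z then -(∑ E : {E : Synt.UnivIdx n d // E ≠ z}, X (Sum.inr ⟨(p.1, E.1), E.2⟩) * xE E.1)
    else X (Sum.inr ⟨p, h⟩)
  let φ : MvPolynomial (Fin n) (Synt.UnivBase n d) →+* MvPolynomial σ ℤ :=
    eval₂Hom (eval₂Hom (Int.castRingHom _) cf) (fun i => X (Sum.inl i))
  have hmon : ∀ (E : Synt.UnivIdx n d) (a : Synt.UnivBase n d),
      φ (monomial E.exponent a) = eval₂Hom (Int.castRingHom _) cf a * xE E := by
    intro E a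
    simp only [φ, eval₂Hom_monomial, xE]
    congr 1
    rw [Finsupp.prod_fintype _ _ (fun i => pow_zero _)]
    rfl
  have hxz : xE z = 1 := by simp [xE, z]
  have hf : ∀ i, φ (Synt.univPoly n d i) = 0 := by
    intro i
    rw [Synt.univPoly, map_sum]
    simp only [hmon, eval₂Hom_X']
    rw [← Finset.add_sum_erase _ _ (Finset.mem_univ z), hxz, mul_one]
    have : cf (i, z) = -(∑ E : {E : Synt.UnivIdx n d // E ≠ z}, X (Sum.inr ⟨(i, E.1), E.2⟩) * xE E.1) := dif_pos rfl
    rw [this, neg_add_eq_zero, ← Finset.sum_subtype (Finset.univ.erase z) (p := fun E => E ≠ z) (by simp)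
      (fun E => cf (i, E) * xE E) |>.trans (Finset.sum_congr rfl fun E _ => by rw [show cf (i, E.1) = X (Sum.inr ⟨(i, E.1), E.2⟩) from dif_neg E.2])]
  let φb : Synt.UnivAlg n d →+* MvPolynomial σ ℤ :=
    Ideal.Quotient.lift (Synt.univIdeal n d) φ (fun a ha => by
      refine (Ideal.span_le.mpr ?_ : Synt.univIdeal n d ≤ RingHom.ker φ) ha
      rintro _ ⟨i, rfl⟩; exact hf i)
  let mk : MvPolynomial (Fin n) (Synt.UnivBase n d) →+* Synt.UnivAlg n d :=
    (Synt.UnivAlg.mk n d).toRingHom
  let ψ : MvPolynomial σ ℤ →+* Synt.UnivAlg n d :=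
    eval₂Hom (Int.castRingHom _) (Sum.elim (fun i => mk (X i)) (fun p => mk (C (X p.1))))
  have hφmk : ∀ a, φb (mk a) = φ a := fun a => rfl
  have hψX : ∀ s, ψ (X s) = Sum.elim (fun i => mk (X i)) (fun p => mk (C (X p.1))) s := fun s => eval₂Hom_X' _ _ _
  have hψx : ∀ E, ψ (xE E) = ∏ i : Fin n, mk (X i) ^ ((E.1 i : ℕ)) := by
    intro E; simp [xE, map_prod, hψX]
  have hmkmon : ∀ (E : Synt.UnivIdx n d) a, mk (monomial E.exponent a) = mk (C a) * ψ (xE E) := by
    intro E a
    rw [hψx, monomial_eq, map_mul, Finsupp.prod_fintype _ _ (fun i => pow_zero _), map_prod]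
    simp only [map_pow]
    rfl
  have hcf : ∀ p, ψ (cf p) = mk (C (X p)) := by
    rintro ⟨i, E⟩
    by_cases h : E = z
    · subst h
      have h0 : mk (Synt.univPoly n d i) = 0 :=
        Ideal.Quotient.eq_zero_iff_mem.mpr (Ideal.subset_span ⟨i, rfl⟩)
      rw [Synt.univPoly, map_sum] at h0
      simp only [hmkmon] at h0
      rw [← Finset.add_sum_erase _ _ (Finset.mem_univ z), hxz, map_one, mul_one] at h0
      rw [show cf (i, z) = _ from dif_pos rfl, map_neg, map_sum, neg_eq_iff_add_eq_zero, add_comm]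
      refine Eq.trans ?_ h0
      congr 1
      rw [Finset.sum_subtype (Finset.univ.erase z) (p := fun E => E ≠ z) (by simp)]
      refine Finset.sum_congr rfl fun E _ => ?_
      rw [map_mul, hψX]; rfl
    · rw [show cf (i, E) = _ from dif_neg h]
      exact hψX _
  have h1 : ψ.comp φb = RingHom.id _ := by
    refine Ideal.Quotient.ringHom_ext ?_
    show (ψ.comp φb).comp mk = mk
    refine MvPolynomial.ringHom_ext' (MvPolynomial.ringHom_ext' (RingHom.ext_int _ _) fun p => ?_) fun i => ?_
    · show ψ (φ (C (X p))) = mk (C (X p))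
      simpa [φ] using hcf p
    · show ψ (φ (X i)) = mk (X i)
      simp [φ, hψX]
  have h2 : φb.comp ψ = RingHom.id _ := by
    refine MvPolynomial.ringHom_ext' (RingHom.ext_int _ _) fun p => ?_
    rcases p with i | ⟨⟨i, E⟩, hE⟩
    · show φb (ψ (X (Sum.inl i))) = _
      rw [hψX]; simp [hφmk, φ]
    · show φb (ψ (X (Sum.inr ⟨(i, E), hE⟩))) = _
      rw [hψX]; simp [hφmk, φ, cf, dif_neg hE]
  exact ⟨(RingEquiv.ofRingHom φb ψ h2 h1).symm⟩

/-- Let n, d ≥ 1 and let B = A[x_1, …, x_n]/(f_1, …, f_n) be the universal algebra over A = ℤ[a_{i,E}],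
f_i = Σ_E a_{i,E} x^E summed over exponent vectors E with |E| ≤ d. Then B is an integral domain and
every localization of B at a prime ideal is a regular local ring. (The published statement says that
X_{n,d} = Spec A and the quasi-finite locus Y_{n,d} ⊆ Spec B are regular and irreducible; for A, a
polynomial ring over ℤ, this is standard, and for the open Y_{n,d} it follows from the assertion
about all of Spec B made here, which is what the printed argument shows. The published statement
also asserts that Y_{n,d} → X_{n,d} is locally quasi-finite and syntomic, an instance of the general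
characterisation of quasi-finite syntomic maps; that clause is not part of this row.) -/
theorem result (n d : ℕ) (hn : 1 ≤ n) (hd : 1 ≤ d) : IsDomain (Synt.UnivAlg n d) ∧ ∀ q : PrimeSpectrum (Synt.UnivAlg n d), IsRegularLocalRing (Localization.AtPrime q.asIdeal) := by
  obtain ⟨σ, hσ, ⟨e⟩⟩ := main n d
  haveI := e.symm.injective.isDomain e.symm.toRingHom
  haveI : IsRegularRing (Synt.UnivAlg n d) := IsRegularRing.of_ringEquiv e
  exact ⟨inferInstance, fun q => inferInstance⟩

end Groth.Agent.S8972
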