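import Groth.Statements.S8973
import Mathlib
import Groth.Prelude.Def_W4stkdualitygroupp2Univ

set_option autoImplicit false
open Synt

namespace Groth.Agent.S8973

open MvPolynomial

theorem etaleAt {R : Type} [CommRing R] {n : ℕ} (F : Fin n → MvPolynomial (Fin n) R)
    (q : Ideal (MvPolynomial (Fin n) R ⧸ Ideal.span (Set.range F))) [q.IsPrime]
    (h : (Ideal.Quotient.mk (Ideal.span (Set.range F))) (Matrix.of fun i j => pderiv j (F i)).det ∉ q) :
    Algebra.IsEtaleAt R q ∧ Algebra.QuasiFiniteAt R q := by
  classical
  set S := MvPolynomial (Fin n) R ⧸ Ideal.span (Set.range F)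
  let P : Algebra.PreSubmersivePresentation R S (Fin n) (Fin n) :=
    Algebra.PreSubmersivePresentation.naive (v := F) _root_.id Function.injective_id
  let g : S := P.jacobian
  have hg : g = Ideal.Quotient.mk _ (Matrix.of fun i j => pderiv j (F i)).det := by
    rw [show g = P.jacobian from rfl, Algebra.PreSubmersivePresentation.jacobian_eq_jacobiMatrix_det]
    show Ideal.Quotient.mk _ (P.jacobiMatrix.det) = _
    congr 1
    rw [← Matrix.det_transpose]
    congr 1
    refine Matrix.ext fun i j => ?_
    exact Algebra.PreSubmersivePresentation.jacobiMatrix_apply _ _ _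
  let Sg := Localization.Away g
  let Q := (Algebra.SubmersivePresentation.localizationAway (R := S) Sg g)
  let PP : Algebra.SubmersivePresentation R Sg (Unit ⊕ Fin n) (Unit ⊕ Fin n) :=
    { __ := Q.toPreSubmersivePresentation.comp P
      jacobian_isUnit := by
        rw [Algebra.PreSubmersivePresentation.comp_jacobian_eq_jacobian_smul_jacobian, Algebra.smul_def, IsUnit.mul_iff]
        exact ⟨IsLocalization.Away.algebraMap_isUnit g, Q.jacobian_isUnit⟩ }
  haveI : Algebra.IsStandardSmoothOfRelativeDimension 0 R Sg :=
    PP.isStandardSmoothOfRelativeDimension (by simp [Algebra.Presentation.dimension])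
  haveI : Algebra.Etale R Sg := inferInstance
  have hsub := (Algebra.basicOpen_subset_etaleLocus_iff (R := R) (f := g)).mpr inferInstance
  have het : Algebra.IsEtaleAt R q := hsub (show (⟨q, inferInstance⟩ : PrimeSpectrum S) ∈ PrimeSpectrum.basicOpen g by
    rw [PrimeSpectrum.mem_basicOpen, hg]; exact h)
  haveI : Algebra.FiniteType R S := inferInstance
  haveI : Algebra.EssFiniteType R (Localization.AtPrime q) := Algebra.EssFiniteType.comp R S _
  haveI : Algebra.FormallyEtale R (Localization.AtPrime q) := het
  exact ⟨het, (inferInstance : Algebra.QuasiFinite R (Localization.AtPrime q))⟩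

/-- Let n, d ≥ 1 and let B = A[x_1, …, x_n]/(f_1, …, f_n) be the universal algebra over A = ℤ[a_{i,E}],
f_i = Σ_E a_{i,E} x^E summed over exponent vectors E with |E| ≤ d. Then there is a prime q of B at
which B is quasi-finite over A and étale over A (that is, B_q is quasi-finite and formally étale
over A). (The published statement asserts a dense open V of the quasi-finite locus Y_{n,d} ⊆ Spec B
that is étale over Spec A; as Spec B is irreducible and the étale locus is open, that amounts to the
existence of one such point, which is what is stated here and what the printed argument exhibits.) -/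
theorem result (n d : ℕ) (hn : 1 ≤ n) (hd : 1 ≤ d) : ∃ q : PrimeSpectrum (Synt.UnivAlg n d), Algebra.QuasiFiniteAt (Synt.UnivBase n d) q.asIdeal ∧ Algebra.IsEtaleAt (Synt.UnivBase n d) q.asIdeal := by
  classical
  let a : Fin n × Synt.UnivIdx n d → ℚ := fun p =>
    if (∀ j, (p.2.1 j : ℕ) = if j = p.1 then 1 else 0) then 1 else 0
  let ev : MvPolynomial (Fin n) (Synt.UnivBase n d) →+* ℚ :=
    eval₂Hom (eval₂Hom (Int.castRingHom _) a) (fun _ => 0)
  have hev0 : ∀ i, ev (Synt.univPoly n d i) = 0 := by
    intro i
    rw [Synt.univPoly, map_sum]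
    refine Finset.sum_eq_zero fun E _ => ?_
    simp only [ev, eval₂Hom_monomial, eval₂Hom_X']
    by_cases hE : ∀ j, (E.1 j : ℕ) = if j = i then 1 else 0
    · rw [Finsupp.prod_fintype _ _ (fun i => pow_zero _), Finset.prod_eq_zero (Finset.mem_univ i), mul_zero]
      show (0 : ℚ) ^ (E.1 i : ℕ) = 0
      rw [hE i, if_pos rfl, pow_one]
    · simp [a, hE]
  have hder : ∀ i j, ev (pderiv j (Synt.univPoly n d i)) = if i = j then 1 else 0 := by
    intro i j
    let Ej : Synt.UnivIdx n d := ⟨fun l => if l = j then ⟨1, by omega⟩ else 0, by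
      simp [apply_ite Fin.val, Finset.sum_ite_eq']; omega⟩
    rw [Synt.univPoly, map_sum, map_sum, Finset.sum_eq_single Ej]
    · simp only [pderiv_monomial, ev, eval₂Hom_monomial]
      have h1 : Ej.exponent = Finsupp.single j 1 := by
        ext l
        simp [Synt.UnivIdx.exponent, Ej, apply_ite Fin.val, Finsupp.single_apply, eq_comm]
      rw [h1]
      simp only [tsub_self, Finsupp.prod_zero_index, mul_one, Finsupp.single_eq_same, Nat.cast_one, eval₂Hom_X']
      show a (i, Ej) = _
      simp only [a, Ej, apply_ite Fin.val, Fin.val_zero]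
      by_cases hij : i = j
      · subst hij; simp
      · rw [if_neg, if_neg hij]
        intro h
        have := h j
        simp [Ne.symm hij] at this
    · intro E _ hE
      simp only [pderiv_monomial, ev, eval₂Hom_monomial]
      by_cases h0 : E.exponent j = 0
      · simp [h0]
      rw [Finsupp.prod_fintype _ _ (fun i => pow_zero _)]
      by_cases hall : E.exponent - Finsupp.single j 1 = 0
      · exfalso
        refine hE (Subtype.ext (funext fun l => Fin.ext ?_))
        have hl := congrArg (fun f : Fin n →₀ ℕ => f l) hall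
        simp only [Finsupp.tsub_apply, Finsupp.coe_zero, Pi.zero_apply, Synt.UnivIdx.exponent,
          Finsupp.coe_equivFunOnFinite_symm] at hl
        simp only [Synt.UnivIdx.exponent, Finsupp.coe_equivFunOnFinite_symm] at h0
        by_cases hlj : l = j
        · subst hlj; simp [Finsupp.single_eq_same] at hl; simp [Ej]; omega
        · rw [Finsupp.single_eq_of_ne (by tauto), Nat.sub_zero] at hl
          simp [Ej, hlj, hl]
      · obtain ⟨l, hl⟩ : ∃ l, (E.exponent - Finsupp.single j 1 : Fin n →₀ ℕ) l ≠ 0 := by
          by_contra hc; push Not at hc; exact hall (Finsupp.ext hc)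
        rw [Finset.prod_eq_zero (Finset.mem_univ l) (zero_pow hl), mul_zero]
    · simp
  let evb : Synt.UnivAlg n d →+* ℚ := Ideal.Quotient.lift (Synt.univIdeal n d) ev (fun x hx => by
    refine (Ideal.span_le.mpr ?_ : Synt.univIdeal n d ≤ RingHom.ker ev) hx
    rintro _ ⟨i, rfl⟩; exact hev0 i)
  haveI hq : (RingHom.ker evb).IsPrime := RingHom.ker_isPrime evb
  refine ⟨⟨RingHom.ker evb, hq⟩, And.symm ?_⟩
  refine @etaleAt (Synt.UnivBase n d) _ n (Synt.univPoly n d) (RingHom.ker evb) hq ?_
  intro h
  have h2 : ev (Matrix.of fun i j => pderiv j (Synt.univPoly n d i)).det = 0 := RingHom.mem_ker.mp (show _ ∈ RingHom.ker evb from h)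
  rw [RingHom.map_det] at h2
  have h3 : ev.mapMatrix (Matrix.of fun i j => pderiv j (Synt.univPoly n d i)) = 1 :=
    Matrix.ext fun i j => (hder i j).trans (Matrix.one_apply).symm
  rw [h3, Matrix.det_one] at h2
  exact one_ne_zero h2

end Groth.Agent.S8973
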