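import Groth.Statements.S8974
import Groth.Prelude

set_option autoImplicit false
universe u
open Synt

namespace Groth.Agent.S8974

/-- Let R be a ring, n, d ≥ 1 and g_1, …, g_n ∈ R[y_1, …, y_n] of total degree at most d. Then there is
a ring map φ : A = ℤ[a_{i,E}] → R (E running over exponent vectors with |E| ≤ d) such that applying
φ to the coefficients of the universal polynomial f_i = Σ_E a_{i,E} x^E gives g_i for each i. (The
published statement is for a locally quasi-finite syntomic morphism of schemes and asserts, locally,
a cartesian square with the universal family; this row is its affine core: the coefficient map.) -/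
theorem result (R : Type u) [CommRing R] (n d : ℕ) (hn : 1 ≤ n) (hd : 1 ≤ d) (g : Fin n → MvPolynomial (Fin n) R) (hg : ∀ i, (g i).totalDegree ≤ d) : ∃ φ : Synt.UnivBase n d →+* R, ∀ i, MvPolynomial.map φ (Synt.univPoly n d i) = g i := by
  classical
  refine ⟨(MvPolynomial.eval₂Hom (Int.castRingHom R) fun p => (g p.1).coeff p.2.exponent), fun i => ?_⟩
  simp only [Synt.univPoly, map_sum, MvPolynomial.map_monomial, MvPolynomial.eval₂Hom_X']
  have hinj : Function.Injective (Synt.UnivIdx.exponent (n := n) (d := d)) := fun a b h => by
    apply Subtype.ext; funext j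
    exact Fin.ext (by simpa [Synt.UnivIdx.exponent] using DFunLike.congr_fun h j)
  rw [← Finset.sum_image (f := fun e => MvPolynomial.monomial e ((g i).coeff e)) (fun a _ b _ h => hinj h)]
  conv_rhs => rw [(g i).as_sum]
  refine (Finset.sum_subset ?_ fun e _ he => ?_).symm
  · intro e he
    have hle : ∑ j, e j ≤ d := by
      refine le_trans (le_of_eq ?_) ((MvPolynomial.le_totalDegree he).trans (hg i))
      rw [Finsupp.sum_fintype _ _ fun _ => rfl]
    refine Finset.mem_image.mpr ⟨⟨fun j => ⟨e j, Nat.lt_succ_of_le
      ((Finset.single_le_sum (fun j _ => Nat.zero_le (e j)) (Finset.mem_univ j)).trans hle)⟩, hle⟩, Finset.mem_univ _, ?_⟩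
    ext j
    simp [Synt.UnivIdx.exponent]
  · rw [MvPolynomial.notMem_support_iff.mp he, MvPolynomial.monomial_zero]

end Groth.Agent.S8974
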