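import Groth.Statements.S8975
import Groth.Prelude.Def_QFDual

set_option autoImplicit false
universe u
open TensorProduct
open QFDual

namespace Groth.Agent.S8975

/-- The relative dualizing module of a product. Suppose A, B, C are Noetherian rings and the ring maps A
→ B, A → C are quasi-finite, presented by factorizations A → B' → B and A → C' → C with A → B', A →
C' finite and Spec B → Spec B', Spec C → Spec C' open immersions, and let B × C carry the product
algebra structure over B' × C' (so that A → B' × C' → B × C is a factorization of the same kind).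
Then ω_{(B × C)/A} = (B × C) ⊗_{B' × C'} Hom_A(B' × C', A) is identified with ω_{B/A} × ω_{C/A}:
there is an A-linear isomorphism sending (b, c) ⊗ φ to (b ⊗ φ∘ι_{B'}, c ⊗ φ∘ι_{C'}), where ι_{B'},
ι_{C'} are the inclusions of the factors; this formula determines the isomorphism and makes it (B ×
C)-linear. -/
theorem result (A B' B C' C : Type u) [CommRing A] [CommRing B'] [CommRing B] [CommRing C'] [CommRing C] [IsNoetherianRing A] [IsNoetherianRing B] [IsNoetherianRing C] [Algebra A B'] [Algebra B' B] [Algebra A B] [IsScalarTower A B' B] [Algebra A C'] [Algebra C' C] [Algebra A C] [IsScalarTower A C' C] (hB : QFDual.IsQFFactor A B' B) (hC : QFDual.IsQFFactor A C' C) [Algebra (B' × C') (B × C)] [IsScalarTower A (B' × C') (B × C)] (halg : algebraMap (B' × C') (B × C) = (algebraMap B' B).prodMap (algebraMap C' C)) : ∃ e : QFDual.omega A (B' × C') (B × C) ≃ₗ[A] QFDual.omega A B' B × QFDual.omega A C' C, ∀ (b : B) (c : C) (φ : Disc.Omega A (B' × C')), e ((b, c) ⊗ₜ[B' × C'] φ) = (b ⊗ₜ[B'] Disc.Omega.mk (φ.toLinearMap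 ∘ₗ LinearMap.inl A B' C'), c ⊗ₜ[C'] Disc.Omega.mk (φ.toLinearMap ∘ₗ LinearMap.inr A B' C')) := by
  have hal : ∀ (r : B' × C') (x : B × C),
      r • x = (algebraMap B' B r.1 * x.1, algebraMap C' C r.2 * x.2) := fun r x => by
    rw [Algebra.smul_def, halg]
    rfl
  let F₀ : B × C →+ Disc.Omega A (B' × C') →+ (QFDual.omega A B' B × QFDual.omega A C' C) :=
    AddMonoidHom.mk' (fun x => AddMonoidHom.mk' (fun φ =>
        (x.1 ⊗ₜ[B'] Disc.Omega.mk (φ.toLinearMap ∘ₗ LinearMap.inl A B' C'),
          x.2 ⊗ₜ[C'] Disc.Omega.mk (φ.toLinearMap ∘ₗ LinearMap.inr A B' C')))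
        fun φ ψ => by
          rw [Prod.mk_add_mk, ← TensorProduct.tmul_add, ← TensorProduct.tmul_add]
          rfl)
      fun x y => by
        ext φ <;> simp [TensorProduct.add_tmul]
  let F : QFDual.omega A (B' × C') (B × C) →+ QFDual.omega A B' B × QFDual.omega A C' C :=
    TensorProduct.liftAddHom F₀ fun r x φ => by
      refine Prod.ext ?_ ?_
      · change (r • x).1 ⊗ₜ[B'] _ = x.1 ⊗ₜ[B'] _
        rw [hal]
        dsimp only
        rw [← Algebra.smul_def, TensorProduct.smul_tmul]
        congr 1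
        refine Disc.Omega.ext (LinearMap.ext fun y => ?_)
        change φ.toLinearMap (r.1 * y, 0) = φ.toLinearMap (r.1 * y, r.2 * 0)
        rw [mul_zero]
      · change (r • x).2 ⊗ₜ[C'] _ = x.2 ⊗ₜ[C'] _
        rw [hal]
        dsimp only
        rw [← Algebra.smul_def, TensorProduct.smul_tmul]
        congr 1
        refine Disc.Omega.ext (LinearMap.ext fun y => ?_)
        change φ.toLinearMap (0, r.2 * y) = φ.toLinearMap (r.1 * 0, r.2 * y)
        rw [mul_zero]
  let G₁ : QFDual.omega A B' B →+ QFDual.omega A (B' × C') (B × C) :=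
    TensorProduct.liftAddHom
      (AddMonoidHom.mk' (fun b => AddMonoidHom.mk' (fun ψ =>
          ((b, 0) : B × C) ⊗ₜ[B' × C'] Disc.Omega.mk (ψ.toLinearMap ∘ₗ LinearMap.fst A B' C'))
          fun φ ψ => by
            rw [← TensorProduct.tmul_add]
            rfl)
        fun b b₁ => by
          ext φ
          simp [← TensorProduct.add_tmul])
      fun r b ψ => by
        change ((r • b, 0) : B × C) ⊗ₜ[B' × C'] _ = ((b, 0) : B × C) ⊗ₜ[B' × C'] _
        rw [show ((r • b, 0) : B × C) = ((r, 0) : B' × C') • ((b, 0) : B × C) by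
          rw [hal]; simp [Algebra.smul_def], TensorProduct.smul_tmul]
        congr 1
  let G₂ : QFDual.omega A C' C →+ QFDual.omega A (B' × C') (B × C) :=
    TensorProduct.liftAddHom
      (AddMonoidHom.mk' (fun c => AddMonoidHom.mk' (fun ψ =>
          ((0, c) : B × C) ⊗ₜ[B' × C'] Disc.Omega.mk (ψ.toLinearMap ∘ₗ LinearMap.snd A B' C'))
          fun φ ψ => by
            rw [← TensorProduct.tmul_add]
            rfl)
        fun b b₁ => by
          ext φ
          simp [← TensorProduct.add_tmul])
      fun r c ψ => by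
        change ((0, r • c) : B × C) ⊗ₜ[B' × C'] _ = ((0, c) : B × C) ⊗ₜ[B' × C'] _
        rw [show ((0, r • c) : B × C) = ((0, r) : B' × C') • ((0, c) : B × C) by
          rw [hal]; simp [Algebra.smul_def], TensorProduct.smul_tmul]
        congr 1
  have hFt : ∀ (x : B × C) (φ : Disc.Omega A (B' × C')), F (x ⊗ₜ[B' × C'] φ) =
      (x.1 ⊗ₜ[B'] Disc.Omega.mk (φ.toLinearMap ∘ₗ LinearMap.inl A B' C'),
        x.2 ⊗ₜ[C'] Disc.Omega.mk (φ.toLinearMap ∘ₗ LinearMap.inr A B' C')) := fun _ _ => rfl
  have hG₁ : ∀ (b : B) (ψ : Disc.Omega A B'), G₁ (b ⊗ₜ[B'] ψ) =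
      ((b, 0) : B × C) ⊗ₜ[B' × C'] Disc.Omega.mk (ψ.toLinearMap ∘ₗ LinearMap.fst A B' C') :=
    fun _ _ => rfl
  have hG₂ : ∀ (c : C) (ψ : Disc.Omega A C'), G₂ (c ⊗ₜ[C'] ψ) =
      ((0, c) : B × C) ⊗ₜ[B' × C'] Disc.Omega.mk (ψ.toLinearMap ∘ₗ LinearMap.snd A B' C') :=
    fun _ _ => rfl
  have hleft : ∀ z, G₁ (F z).1 + G₂ (F z).2 = z := fun z => by
    induction z using TensorProduct.induction_on with
    | zero => simp [Prod.zero_eq_mk]
    | add x y hx hy =>
      rw [map_add, Prod.fst_add, Prod.snd_add, map_add, map_add, add_add_add_comm, hx, hy]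
    | tmul x φ =>
      rw [hFt, hG₁, hG₂]
      have e1 : ((x.1, 0) : B × C) = ((1, 0) : B' × C') • x := by rw [hal]; simp
      have e2 : ((0, x.2) : B × C) = ((0, 1) : B' × C') • x := by rw [hal]; simp
      rw [e1, e2, TensorProduct.smul_tmul, TensorProduct.smul_tmul, ← TensorProduct.tmul_add]
      congr 1
      refine Disc.Omega.ext (LinearMap.ext fun y => ?_)
      change φ.toLinearMap (1 * y.1, 0) + φ.toLinearMap (0, 1 * y.2) = φ.toLinearMap y
      rw [← map_add]
      simp
  have hr1 : ∀ x, F (G₁ x) = (x, 0) := fun x => by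
    induction x using TensorProduct.induction_on with
    | zero => simp [Prod.zero_eq_mk]
    | add x y hx hy => rw [map_add, map_add, hx, hy, Prod.mk_add_mk, add_zero]
    | tmul b ψ =>
      rw [hG₁, hFt]
      refine Prod.ext ?_ (TensorProduct.zero_tmul _ _)
      change b ⊗ₜ[B'] _ = b ⊗ₜ[B'] ψ
      congr 1
  have hr2 : ∀ x, F (G₂ x) = (0, x) := fun x => by
    induction x using TensorProduct.induction_on with
    | zero => simp [Prod.zero_eq_mk]
    | add x y hx hy => rw [map_add, map_add, hx, hy, Prod.mk_add_mk, add_zero]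
    | tmul c ψ =>
      rw [hG₂, hFt]
      refine Prod.ext (TensorProduct.zero_tmul _ _) ?_
      change c ⊗ₜ[C'] _ = c ⊗ₜ[C'] ψ
      congr 1
  have hlin : ∀ (a : A) z, F (a • z) = a • F z := fun a z => by
    induction z using TensorProduct.induction_on with
    | zero => simp [Prod.zero_eq_mk]
    | add x y hx hy => rw [smul_add, map_add, map_add, smul_add, hx, hy]
    | tmul x φ =>
      rw [TensorProduct.smul_tmul', hFt, hFt]
      rfl
  refine ⟨{ toFun := F, map_add' := map_add F, map_smul' := hlin,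
            invFun := fun p => G₁ p.1 + G₂ p.2, left_inv := hleft,
            right_inv := fun p => by
              change F (G₁ p.1 + G₂ p.2) = p
              rw [map_add, hr1, hr2, Prod.mk_add_mk, add_zero, zero_add] }, fun b c φ => rfl⟩

end Groth.Agent.S8975
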