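import Groth.Statements.S8976
import Groth.Agent.Lib.VRefine5.Main
import Groth.Agent.Lib.HPi5.Sheaf

set_option linter.style.haveILetI false
set_option backward.isDefEq.respectTransparency false
set_option backward.isDefEq.respectTransparency.types false

set_option autoImplicit false
universe w u
open HTop

namespace Groth.Agent.S8976

open CategoryTheory CategoryTheory.Limits AlgebraicGeometry in
/-- For a family of morphisms of schemes with fixed target all of whose members are locally of finite
presentation, being a ph covering is equivalent to being a V covering. -/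
theorem result {X : Scheme.{u}} (E : PreZeroHypercover.{w} X) (hE : ∀ i, LocallyOfFinitePresentation (E.f i)) : HTop.IsPhCover E ↔ HTop.IsVCover E := by
  refine ⟨Groth.Agent.HPi5.isVCover_of_isPhCover, fun hV => ⟨fun i => by haveI := hE i; infer_instance, fun U => ?_⟩⟩
  haveI : IsAffine ((U : X.Opens) : Scheme.{u}) := U.2
  obtain ⟨Y, q, n, V, hq, hqs, -, hVa, hsup, hlift⟩ :=
    Groth.Agent.VRefine5.exists_refinement (U : X.Opens).ι E hE hV
  refine ⟨{ I₀ := Fin n, X := fun j => (V j).toScheme, f := fun j => (V j).ι ≫ q },
    ⟨inferInstance, inferInstanceAs (Finite (Fin n)), hVa, Y, q, fun j => (V j).ι, hq, hqs,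
      fun j => inferInstance, fun j => rfl, fun x => ?_⟩, fun j => ?_⟩
  · obtain ⟨j, hj⟩ := TopologicalSpace.Opens.mem_iSup.1 (hsup.ge (TopologicalSpace.Opens.mem_top x))
    exact ⟨j, ⟨x, hj⟩, rfl⟩
  · obtain ⟨i, h, hh⟩ := hlift j
    exact ⟨i, h, hh.trans (Category.assoc _ _ _).symm⟩

end Groth.Agent.S8976
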