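import Groth.Statements.S8977
import Groth.Agent.S14770
import Groth.Agent.S7476
import Groth.Agent.S7477
import Groth.Agent.Lib.LocImm12.Basic
-- import your own Groth.Agent.* helpers here

set_option autoImplicit false
set_option backward.isDefEq.respectTransparency false
universe u
open HTop

namespace Groth.Agent.S8977

open CategoryTheory CategoryTheory.Limits AlgebraicGeometry in
/-- For a Noetherian scheme X and a finite family of finite type morphisms X_i → X, the induced morphism
from the coproduct of the X_i to X is universally submersive if and only if the family is an h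
covering. -/
theorem result {X : Scheme.{u}} [IsNoetherian X] (E : PreZeroHypercover.{u} X) [Finite E.I₀] [∀ i, LocallyOfFiniteType (E.f i)] [∀ i, QuasiCompact (E.f i)] : SGA1.UnivSubmersive (Sigma.desc E.f) ↔ HTop.IsHCover E := by
  classical
  haveI : ∀ i, CompactSpace (E.X i) := fun i => QuasiCompact.compactSpace_of_compactSpace (E.f i)
  have exists_sigmaι_eq : ∀ x : (∐ E.X : Scheme.{u}), ∃ i y, Sigma.ι E.X i y = x := fun x => by
    obtain ⟨⟨i⟩, y, hy⟩ := Scheme.IsLocallyDirected.ι_jointly_surjective (Discrete.functor E.X) x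
    exact ⟨i, y, hy⟩
  haveI : CompactSpace (∐ E.X : Scheme.{u}) := ⟨by
    have : (Set.univ : Set (∐ E.X : Scheme.{u})) = ⋃ i, Set.range (Sigma.ι E.X i) :=
      (Set.eq_univ_of_forall fun x => Set.mem_iUnion.2 (exists_sigmaι_eq x)).symm
    rw [this]
    exact isCompact_iUnion fun i => isCompact_range (Sigma.ι E.X i).continuous⟩
  haveI : QuasiCompact (Sigma.desc E.f) := quasiCompact_of_compactSpace _
  constructor
  · intro h
    refine ⟨fun i => Groth.Agent.LocImm12.locallyOfFinitePresentation_of_locallyOfFiniteType (E.f i), fun U => ?_⟩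
    have hsub := (Groth.Agent.S14770.result (Sigma.desc E.f)).1 h
    have hv : HTop.IsVCover (PreZeroHypercover.singleton.{u} (Sigma.desc E.f)) := by
      obtain ⟨h1, h2⟩ := Groth.Agent.S7476.result.{u, u, u, u} (Sigma.desc E.f)
      refine h1.2 (h2.2 fun Z g z' z hz => ?_)
      obtain ⟨w, w', hw, e1, e2⟩ := hsub _ _ _ (IsPullback.of_hasPullback g (Sigma.desc E.f)) hz
      exact ⟨w', w, hw, e2, e1⟩
    obtain ⟨F, hF, href⟩ := hv U
    haveI := hF.finite_index
    let e := Finite.equivFin E.I₀
    choose i₀ h hh using href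
    let h' : ∀ j, F.X j ⟶ ∐ E.X := fun j => h j
    have hh' : ∀ j, h' j ≫ Sigma.desc E.f = F.f j ≫ (U : X.Opens).ι := hh
    let O : ∀ j, E.I₀ → (F.X j).Opens := fun j i => h' j ⁻¹ᵁ (Sigma.ι E.X i).opensRange
    have haff : ∀ j i, IsAffine (O j i : Scheme.{u}) := fun j i => by
      haveI := hF.isAffine_obj j
      have hcl : IsClosed (Set.range (O j i).ι) := by
        rw [Scheme.Opens.range_ι, ← isOpen_compl_iff]
        have : ((O j i : (F.X j).Opens) : Set (F.X j))ᶜ =
            h' j ⁻¹' ⋃ k ∈ {k | k ≠ i}, Set.range (Sigma.ι E.X k) := by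
          ext x
          constructor
          · intro hx
            obtain ⟨k, y, hy⟩ := exists_sigmaι_eq (h' j x)
            refine Set.mem_iUnion₂.2 ⟨k, fun hk => hx ?_, y, hy⟩
            subst hk
            exact ⟨y, hy⟩
          · intro hx hxO
            obtain ⟨k, hk, hy⟩ := Set.mem_iUnion₂.1 hx
            exact (disjoint_opensRange_sigmaι E.X k i hk).le_bot ⟨hy, hxO⟩
        rw [this]
        exact (isOpen_biUnion fun k _ => (Sigma.ι E.X k).isOpenEmbedding.isOpen_range).preimage (h' j).continuous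
      haveI : IsClosedImmersion (O j i).ι := IsClosedImmersion.of_isPreimmersion _ hcl
      exact isAffine_of_isAffineHom (O j i).ι
    refine ⟨⟨F.I₀ × Fin (Nat.card E.I₀), fun p => (O p.1 (e.symm p.2) : Scheme.{u}), fun p => (O p.1 (e.symm p.2)).ι ≫ F.f p.1⟩,
      ⟨hF.isAffine, inferInstance, fun p => haff _ _, ?_⟩, fun p => ?_⟩
    · intro V _ _ g
      obtain ⟨W, hW1, hW2, φ, hφ, j, g', hg'⟩ := hF.lift V g
      obtain ⟨i, y, hy⟩ := exists_sigmaι_eq (h' j (g' (IsLocalRing.closedPoint W)))
      have hr : Set.range g' ⊆ Set.range (O j i).ι := by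
        rintro _ ⟨w, rfl⟩
        rw [Scheme.Opens.range_ι]
        exact ((IsLocalRing.specializes_closedPoint w).map g'.continuous).mem_open (O j i).2 ⟨y, hy⟩
      obtain ⟨m, rfl⟩ := e.symm.surjective i
      refine ⟨W, hW1, hW2, φ, hφ, (j, m), IsOpenImmersion.lift (O j (e.symm m)).ι g' hr, ?_⟩
      show IsOpenImmersion.lift (O j (e.symm m)).ι g' hr ≫ (O j (e.symm m)).ι ≫ F.f j = _
      rw [IsOpenImmersion.lift_fac_assoc, hg']
    · refine ⟨e.symm p.2, (h' p.1 ∣_ (Sigma.ι E.X (e.symm p.2)).opensRange) ≫ (Sigma.ι E.X (e.symm p.2)).isoOpensRange.inv, ?_⟩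
      show _ = ((O p.1 (e.symm p.2)).ι ≫ F.f p.1) ≫ _
      rw [Category.assoc, Category.assoc, ← hh' p.1, ← morphismRestrict_ι_assoc]
      congr 1
      rw [← Scheme.Hom.isoOpensRange_inv_comp, Category.assoc, Sigma.ι_desc]
  · rintro ⟨-, h⟩
    exact Groth.Agent.S7477.result E h

end Groth.Agent.S8977
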