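import Groth.Statements.S8979
import Groth.Agent.Lib.HTop26.VCover
-- import your own Groth.Agent.* helpers here

set_option autoImplicit false
universe u
open HTop

namespace Groth.Agent.S8979

open CategoryTheory CategoryTheory.Limits AlgebraicGeometry in
/-- A surjective proper morphism of finite presentation, as a one-member family, is an h covering of its
target. -/
theorem result {X Y : Scheme.{u}} (f : Y ⟶ X) [IsProper f] [Surjective f] [LocallyOfFinitePresentation f] : HTop.IsHCover (PreZeroHypercover.singleton.{0} f) := by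
  refine ⟨fun _ => ‹LocallyOfFinitePresentation f›, fun U => ?_⟩
  have : IsAffine ((U : X.Opens) : Scheme.{u}) := U.2
  have hc : IsCompact (f ⁻¹ᵁ (U : X.Opens) : Set Y) := f.isCompact_preimage U.2.isCompact
  obtain ⟨s, hs, hsU⟩ := isCompact_iff_finite_and_eq_biUnion_affineOpens.mp hc
  have := hs.fintype
  let e := (Fintype.equivFin s).symm
  have hle : ∀ k, (e k).1.1 ≤ f ⁻¹ᵁ (U : X.Opens) := fun k => by
    rw [hsU]; exact le_iSup₂ (f := fun (i : Y.affineOpens) _ => (i : Y.Opens)) (e k).1 (e k).2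
  let F : PreZeroHypercover.{0} ((U : X.Opens) : Scheme.{u}) :=
    { I₀ := Fin (Fintype.card s)
      X := fun k => ((e k).1.1 : Scheme.{u})
      f := fun k => Y.homOfLE (hle k) ≫ f ∣_ (U : X.Opens) }
  have hph : HTop.IsStandardPh F := by
    have : Surjective (f ∣_ (U : X.Opens)) := IsZariskiLocalAtTarget.restrict ‹Surjective f› _
    refine ⟨U.2, inferInstanceAs (Finite (Fin _)), fun k => (e k).1.2, _, f ∣_ (U : X.Opens),
      fun k => Y.homOfLE (hle k), inferInstance, inferInstance, fun k => inferInstance,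
      fun k => rfl, fun x => ?_⟩
    have key : ∀ y : Y, y ∈ f ⁻¹ᵁ (U : X.Opens) → ∃ V ∈ s, y ∈ (V : Y.Opens) := fun y hy => by
      rw [hsU] at hy
      simpa using hy
    obtain ⟨V, hV, hxV⟩ := key x.1 x.2
    refine ⟨e.symm ⟨V, hV⟩, ⟨x.1, ?_⟩, ?_⟩
    · show x.1 ∈ (e (e.symm ⟨V, hV⟩)).1.1
      rw [Equiv.apply_symm_apply]; exact hxV
    · apply (f ⁻¹ᵁ (U : X.Opens)).ι.isOpenEmbedding.injective
      show (Y.homOfLE (hle _) ≫ (f ⁻¹ᵁ (U : X.Opens)).ι) _ = _
      rw [Scheme.homOfLE_ι]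
      rfl
  refine ⟨F, HTop26.isStandardV_of_isStandardPh hph, fun k => ⟨PUnit.unit, (e k).1.1.ι, ?_⟩⟩
  show (e k).1.1.ι ≫ f = (Y.homOfLE (hle k) ≫ f ∣_ (U : X.Opens)) ≫ (U : X.Opens).ι
  rw [Category.assoc, morphismRestrict_ι, Scheme.homOfLE_ι_assoc]

end Groth.Agent.S8979
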