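import Groth.Statements.S8980
import Groth.Agent.Lib.HTop26.VCover
-- import your own Groth.Agent.* helpers here

set_option autoImplicit false
universe u
open HTop

namespace Groth.Agent.S8980

open CategoryTheory CategoryTheory.Limits AlgebraicGeometry in
/-- A family of morphisms T_i → T, indexed by a type in the universe of T and all locally of finite
presentation, is an h covering if and only if the one-member family given by the induced morphism
from the coproduct of the T_i to T is an h covering. (The published statement also lists, as a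
further equivalent condition, that some h covering refines the family; that equivalence is immediate
from the definitions and is not restated here.) -/
theorem result {T : Scheme.{u}} (E : PreZeroHypercover.{u} T) (hE : ∀ i, LocallyOfFinitePresentation (E.f i)) : HTop.IsHCover E ↔ HTop.IsHCover (PreZeroHypercover.singleton.{0} (Sigma.desc E.f)) := by
  have hlfp : LocallyOfFinitePresentation (Sigma.desc E.f) := by
    rw [IsZariskiLocalAtSource.iff_of_openCover (P := @LocallyOfFinitePresentation) (sigmaOpenCover E.X)]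
    intro i
    show LocallyOfFinitePresentation (Sigma.ι E.X i ≫ Sigma.desc E.f)
    rw [Sigma.ι_desc]
    exact hE i
  refine ⟨fun h => ⟨fun _ => hlfp, HTop26.isVCover_singleton_sigmaDesc h.2⟩, fun h => ⟨hE, fun U => ?_⟩⟩
  obtain ⟨F, hF, hR⟩ := h.2 U
  choose i k hk using hR
  have hloc : ∀ j, ∃ G : PreZeroHypercover.{0} (F.X j), HTop.IsStandardV G ∧ HTop.RefinesOver (F.f j ≫ (U : T.Opens).ι) G E := by
    intro j
    have := hF.isAffine_obj j
    refine HTop26.exists_isStandardV_of_local _ E fun x => ?_
    obtain ⟨l, y, hy⟩ := (sigmaOpenCover E.X).exists_eq ((k j : F.X j ⟶ ∐ E.X) x)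
    let l' : E.I₀ := l
    let kk : F.X j ⟶ ∐ E.X := k j
    obtain ⟨W₀, hW, hxW, hWle⟩ := TopologicalSpace.Opens.isBasis_iff_nbhd.mp (F.X j).isBasis_affineOpens
      (show x ∈ kk ⁻¹ᵁ (Sigma.ι E.X l').opensRange from ⟨y, hy⟩)
    let W : (F.X j).Opens := W₀
    have : IsAffine (W : Scheme.{u}) := hW
    have hr : Set.range (W.ι ≫ kk) ⊆ Set.range (Sigma.ι E.X l') := by
      rintro _ ⟨z, rfl⟩
      rw [Scheme.Hom.comp_apply]
      exact hWle z.2
    refine ⟨W, hxW, hW, PreZeroHypercover.singleton.{0} (𝟙 (W : Scheme.{u})), ?_, fun _ => ⟨l', IsOpenImmersion.lift (Sigma.ι E.X l') (W.ι ≫ kk) hr, ?_⟩⟩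
    · exact HTop26.isStandardV_of_flat (inferInstanceAs (Finite PUnit)) (fun _ => hW) (fun _ => inferInstanceAs (Flat (𝟙 (W : Scheme.{u})))) fun t => ⟨PUnit.unit, t, rfl⟩
    · show _ = 𝟙 _ ≫ W.ι ≫ F.f j ≫ (U : T.Opens).ι
      rw [← Sigma.ι_desc E.f l', ← Category.assoc, IsOpenImmersion.lift_fac, Category.assoc, Category.id_comp]
      exact congrArg (W.ι ≫ ·) (hk j)
  choose G hG hR' using hloc
  refine ⟨F.bind G, HTop26.isStandardV_bind hF hG, fun jk => ?_⟩
  obtain ⟨l, m, hm⟩ := hR' jk.1 jk.2
  exact ⟨l, m, hm.trans (Category.assoc _ _ _).symm⟩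

end Groth.Agent.S8980
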