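import Groth.Statements.S8990
import Groth.Agent.Lib.HTop26.BlowUpAway
import Groth.Agent.Lib.BlowUpExist.Proper
-- import your own Groth.Agent.* helpers here

set_option autoImplicit false
universe u
open HTop

namespace Groth.Agent.S8990

open CategoryTheory CategoryTheory.Limits AlgebraicGeometry Opposite in
/-- A ph sheaf on schemes over S turns every blow up square (centre a closed subscheme of finite
presentation, X' → X the blowing up, E the inverse image of the centre) into a cartesian square of
sets of sections. -/
theorem result (S : Scheme.{u}) (F : HTop.ShPh S) {E Z X' X : Over S} (e : E ⟶ X') (π : E ⟶ Z) (b : X' ⟶ X) (i : Z ⟶ X) [IsClosedImmersion i.left] [LocallyOfFinitePresentation i.left] (hb : BlowUp.IsBlowUp b.left i.left.ker) (hE : IsPullback e.left π.left b.left i.left) (t : F.obj.obj (op Z)) (s' : F.obj.obj (op X')) (hts : F.obj.map π.op t = F.obj.map e.op s') : ∃! s : F.obj.obj (op X), F.obj.map i.op s = t ∧ F.obj.map b.op s = s' := by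
  have hF : Presieve.IsSheaf (HTop.Jph S) F.obj := (isSheaf_iff_isSheaf_of_type _ _).mp F.property
  have : IsProper b.left := Groth.Agent.BlowUpExist.isProper (HTop26.isFiniteTypeIdeal_ker i.left) hb
  have hcov : ∀ y : X.left, y ∈ Set.range i.left ∨ y ∈ Set.range b.left := by
    intro y
    by_cases hy : y ∈ Set.range i.left
    · exact Or.inl hy
    · obtain ⟨z, hz⟩ := HTop26.exists_preimage_away hb (fun h' => hy ((HTop26.support_ker i.left y).mp h'))
      exact Or.inr ⟨z, hz⟩
  refine HTop26.existsUnique_of_proper b i hF e π hE (fun G hi hf => HTop26.ph_pair_mem i b hcov G hi hf) (fun hP G hd hj => ?_) (fun W a c hac hW => HTop26.eq_of_away hb a c hac fun w hw => hW w ((HTop26.support_ker i.left _).mp hw)) t s' hts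
  have : IsProper (HTop26.diag b).left := inferInstanceAs (IsProper (pullback.diagonal b.left))
  have : IsProper (HTop26.overZι b i).left := inferInstanceAs (IsProper (pullback.fst (pullback.fst b.left b.left ≫ b.left) i.left))
  exact HTop26.ph_pair_mem _ _ hP G hd hj

end Groth.Agent.S8990
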