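import Groth.Statements.S8998
import Groth.Agent.Lib.ImpHens28.NoethLocal

set_option autoImplicit false
universe u
open FlatMor

set_option linter.style.haveILetI false

attribute [local instance] Algebra.TensorProduct.rightAlgebra
set_option backward.isDefEq.respectTransparency.types false

namespace Groth.Agent.S8998

/-- For an affine finite type morphism Spec B → Spec A: if the local ring of A at the prime p is
Noetherian, then a finite B-module is pure along the fibre over p if and only if it is universally
pure along it. -/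
theorem result {A B : Type u} [CommRing A] [CommRing B] [Algebra A B] [Algebra.FiniteType A B] (N : Type u) [AddCommGroup N] [Module B N] [Module.Finite B N] (p : Ideal A) [p.IsPrime] [IsNoetherianRing (Localization.AtPrime p)] : FlatCA.IsPureAlong A B N p ↔ FlatCA.IsUnivPureAlong A B N p := by
  letI : Module A N := Module.compHom N (algebraMap A B)
  haveI : IsScalarTower A B N := IsScalarTower.of_algebraMap_smul fun _ _ => rfl
  constructor
  · intro h A' B' N' i1 i2 i3 i4 i5 i6 i7 i8 i9 i10 i11 i12 i13 i14 f t' t i15 i16 P i17 himp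
    have hd := Groth.Agent.Dev4.hasDatum_of_isImpurity himp
    obtain ⟨A₁, _, _, v', v, _, _, hft, hqf, hle₁, hvp, hd₁⟩ :=
      Groth.Agent.ImpHens28.exists_quasiFinite_of_localNoetherian (p := p) t' t himp.2.2.1 himp.2.2.2.1 hd
    haveI := hft
    haveI := hqf
    haveI := hvp
    obtain ⟨R', _, _, w, Q, _, _, hnhd, hle₂, hd₂⟩ := Groth.Agent.Dev4.exists_etaleNhd_datum (p := p) v' v hle₁ hd₁
    obtain ⟨P₀, hP₀, h₀⟩ := Groth.Agent.Dev4.hasImpurity_of_hasDatum w Q hle₂ hnhd.2.choose hd₂
    exact h R' (TensorProduct A R' B) (TensorProduct B (TensorProduct A R' B) N) _ w Q P₀ hnhd h₀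
  · intro h A' B' N' i1 i2 i3 i4 i5 i6 i7 i8 i9 i10 i11 i12 i13 i14 f t' t i15 i16 P i17 _ himp
    exact h A' B' N' f t' t P himp

end Groth.Agent.S8998
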