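import Groth.Statements.S9000
import Groth.Agent.Lib.ImpHens28.Converse

set_option autoImplicit false
universe u
open FlatMor

set_option linter.style.haveILetI false

attribute [local instance] Algebra.TensorProduct.rightAlgebra
set_option backward.isDefEq.respectTransparency.types false

namespace Groth.Agent.S9000

open IsLocalRing in
/-- For Spec B → Spec A of finite type, a finite B-module N and a prime p of A, an impurity of N above p
over an elementary etale neighbourhood of (A, p) yields an impurity of N above p over the
henselization of the local ring of A at p, based at its closed point. (The other implications of the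
published equivalence are separate results: from the henselization to an elementary etale
neighbourhood, and between elementary etale neighbourhoods and base rings quasi-finite at the
point.) -/
theorem result {A B : Type u} [CommRing A] [CommRing B] [Algebra A B] [Algebra.FiniteType A B] (N : Type u) [AddCommGroup N] [Module B N] [Module.Finite B N] (p : Ideal A) [p.IsPrime] (h : FlatCA.HasImpurity A B N p (fun A' _ _ t => ∃ _ : t.IsPrime, FlatCA.IsEtaleNhd A A' p t)) : FlatCA.HasImpurity A B N p (fun A' _ _ t => ∃ (_ : IsLocalRing A') (_ : Algebra (Localization.AtPrime p) A') (_ : IsScalarTower A (Localization.AtPrime p) A') (_ : IsLocalHom (algebraMap (Localization.AtPrime p) A')), Hensel.IsHenselization (Localization.AtPrime p) A' ∧ t = maximalIdeal A') := by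
  obtain ⟨A', B', N', _, _, _, _, _, _, _, _, _, _, _, _, _, _, f, t', t, _, _, P, _, himp, _, hnhd⟩ := h
  letI : Module A N := Module.compHom N (algebraMap A B)
  haveI : IsScalarTower A B N := IsScalarTower.of_algebraMap_smul fun _ _ => rfl
  have hd := Groth.Agent.Dev4.hasDatum_of_isImpurity himp
  obtain ⟨w, _, hd₀⟩ := Groth.Agent.ImpHens28.exists_hens_datum (p := p) t' t himp.2.2.1 hnhd hd
  let H := Groth.Agent.Hens.Hs A p.ResidueField
  obtain ⟨P₀, hP₀, himp₀⟩ := Groth.Agent.Dev4.hasImpurity_of_hasDatum w (maximalIdeal H)
    (le_maximalIdeal (Ideal.IsPrime.ne_top ‹_›)) (Groth.Agent.ImpHens28.liesOver_maximalIdeal p) hd₀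
  exact ⟨H, TensorProduct A H B, TensorProduct B (TensorProduct A H B) N, inferInstance, inferInstance, inferInstance,
    inferInstance, inferInstance, inferInstance, inferInstance, inferInstance, inferInstance, inferInstance, inferInstance,
    inferInstance, inferInstance, inferInstance, TensorProduct.mk B (TensorProduct A H B) N 1, w, maximalIdeal H, inferInstance,
    inferInstance, P₀, hP₀, himp₀, inferInstance, inferInstance, inferInstance, inferInstance, inferInstance, rfl⟩

end Groth.Agent.S9000
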