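import Groth.Statements.S9002
import Groth.Agent.Lib.NonFlat27
import Groth.Agent.Lib.Dev4.RelAssBridge
-- import your own Groth.Agent.* helpers here

set_option autoImplicit false
universe u
open FlatMor

namespace Groth.Agent.S9002

open CategoryTheory CategoryTheory.Limits AlgebraicGeometry in
/-- Over the spectrum of a local ring, a finite type quasi-coherent module on a scheme locally of finite
type, all of whose relative associated points specialize into the closed fibre and which is flat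
over the base at every point of the closed fibre, is flat over the base. -/
theorem result {R : Type u} [CommRing R] [IsLocalRing R] {X : Scheme.{u}} (f : X ⟶ Spec (CommRingCat.of R)) [LocallyOfFiniteType f] (F : X.Modules) [Coh.IsQCoh F] (hF : CohB1.IsFT F) (h₁ : ∀ x ∈ MoreMor.relAss f F, ∃ x' : X, x ⤳ x' ∧ f.base x' = IsLocalRing.closedPoint R) (h₂ : ∀ x : X, f.base x = IsLocalRing.closedPoint R → FlatMod.IsFlatOverAt f F x) : FlatMod.IsFlatOver f F := by
  intro x
  have hall : ∀ y ∈ MoreMor.relAss f F, FlatMod.IsFlatOverAt f F y := by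
    intro y hy
    obtain ⟨x', hsp, hx'⟩ := h₁ y hy
    obtain ⟨W, hW, hxW, -⟩ := exists_isAffineOpen_mem_and_subset (x := x') (U := ⊤) trivial
    have hyW : y ∈ W := hsp.mem_open W.2 hxW
    have e : W ≤ f ⁻¹ᵁ ⊤ := fun _ _ => trivial
    have hf' := (FlatH4.isFlatOverAt_iff f F ⊤ (isAffineOpen_top _) W hW e hxW).1 (h₂ x' hx')
    refine (FlatH4.isFlatOverAt_iff f F ⊤ (isAffineOpen_top _) W hW e hyW).2 ?_
    letI := (f.appLE ⊤ W e).hom.toAlgebra
    letI := FlatH4.secModuleOver f F ⊤ W e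
    haveI : IsScalarTower Γ(Spec (CommRingCat.of R), ⊤) Γ(X, W) Γ(F, W) := IsScalarTower.of_algebraMap_smul fun _ _ => rfl
    refine RG4.flatAt_of_le ((PrimeSpectrum.le_iff_specializes _ _).2 ?_) hf'
    refine hW.fromSpec.isOpenEmbedding.isInducing.specializes_iff.1 ?_
    erw [hW.fromSpec_primeIdealOf, hW.fromSpec_primeIdealOf]
    exact hsp
  obtain ⟨W, hW, hxW, -⟩ := exists_isAffineOpen_mem_and_subset (x := x) (U := ⊤) trivial
  have e : W ≤ f ⁻¹ᵁ ⊤ := fun _ _ => trivial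
  refine (FlatH4.isFlatOverAt_iff f F ⊤ (isAffineOpen_top _) W hW e hxW).2 ?_
  letI := (f.appLE ⊤ W e).hom.toAlgebra
  letI := FlatH4.secModuleOver f F ⊤ W e
  haveI : IsScalarTower Γ(Spec (CommRingCat.of R), ⊤) Γ(X, W) Γ(F, W) := IsScalarTower.of_algebraMap_smul fun _ _ => rfl
  haveI : Algebra.FiniteType Γ(Spec (CommRingCat.of R), ⊤) Γ(X, W) := f.finiteType_appLE (isAffineOpen_top _) hW e
  haveI : Module.Finite Γ(X, W) Γ(F, W) := M1.finite_sections inferInstance hF hW
  let hV := isAffineOpen_top (Spec (CommRingCat.of R))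
  have hover : ∀ (w : X) (hw : w ∈ W), (hW.primeIdealOf ⟨w, hw⟩).asIdeal.LiesOver (hV.primeIdealOf ⟨f w, trivial⟩).asIdeal :=
    fun w hw => ⟨congr($(IsAffineOpen.comap_primeIdealOf_appLE ⊤ hV W hW e hw).1).symm⟩
  haveI := hover x hxW
  refine Dev4.flatAt_of_assoc Γ(F, W) (hV.primeIdealOf ⟨f x, trivial⟩).asIdeal _ fun q' _ hle hq' hass => ?_
  let y : X := hW.fromSpec ⟨q', inferInstance⟩
  have hyW : y ∈ W := by
    have : y ∈ Set.range hW.fromSpec := ⟨_, rfl⟩
    rwa [hW.range_fromSpec] at this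
  have hy : hW.primeIdealOf ⟨y, hyW⟩ = ⟨q', inferInstance⟩ :=
    hW.fromSpec.isOpenEmbedding.injective (hW.fromSpec_primeIdealOf _)
  have hp : hV.primeIdealOf ⟨f y, trivial⟩ = hV.primeIdealOf ⟨f x, trivial⟩ := by
    apply PrimeSpectrum.ext
    rw [(hover y hyW).over, congrArg PrimeSpectrum.asIdeal hy]
    exact hq'.over.symm
  have key : ∀ (a b : PrimeSpectrum Γ(X, W)) (c d : PrimeSpectrum Γ(Spec (CommRingCat.of R), ⊤)), a = b → c = d →
      FlatCA.fiberIdeal c.asIdeal a.asIdeal ∈ associatedPrimes (c.asIdeal.Fiber Γ(X, W)) (FlatCA.fiberMod c.asIdeal Γ(X, W) Γ(F, W)) →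
      FlatCA.fiberIdeal d.asIdeal b.asIdeal ∈ associatedPrimes (d.asIdeal.Fiber Γ(X, W)) (FlatCA.fiberMod d.asIdeal Γ(X, W) Γ(F, W)) := by
    intro a b c d h h'; subst h; subst h'; exact id
  have hrel : y ∈ MoreMor.relAss f F :=
    (Dev4.mem_relAss_iff f F hW hV e hyW).2 (key _ _ _ _ hy.symm hp.symm hass)
  have hfy := (FlatH4.isFlatOverAt_iff f F ⊤ hV W hW e hyW).1 (hall y hrel)
  have key2 : ∀ (a b : PrimeSpectrum Γ(X, W)), a = b → FlatCA.FlatAt Γ(Spec (CommRingCat.of R), ⊤) a.asIdeal Γ(F, W) →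
      FlatCA.FlatAt Γ(Spec (CommRingCat.of R), ⊤) b.asIdeal Γ(F, W) := fun a b h => by subst h; exact id
  exact key2 _ _ hy hfy

end Groth.Agent.S9002
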