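import Groth.Statements.S9007


set_option autoImplicit false
universe u
open FlatMor

namespace Groth.Agent.S9007

open CategoryTheory CategoryTheory.Limits AlgebraicGeometry in
/-- For a morphism f of compactifications of X over a quasi-compact quasi-separated S whose source
contains X as a dense open, the preimage under f of the image of X in the target is the image of X
in the source. -/
theorem result {X S : Scheme.{u}} [CompactSpace S] [QuasiSeparatedSpace S] (p : X ⟶ S) [IsSeparated p] [QuasiCompact p] [LocallyOfFiniteType p] {Y Y' : Scheme.{u}} (j : X ⟶ Y) (q : Y ⟶ S) [IsOpenImmersion j] [IsProper q] (h : j ≫ q = p) (j' : X ⟶ Y') (q' : Y' ⟶ S) [IsOpenImmersion j'] [IsProper q'] (h' : j' ≫ q' = p) (f : Y' ⟶ Y) (hf : f ≫ q = q') (hfj : j' ≫ f = j) (hd : Dense (Set.range j'.base)) : f ⁻¹ᵁ j.opensRange = j'.opensRange := by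
  have hle : j'.opensRange ≤ f ⁻¹ᵁ j.opensRange := by
    rintro x ⟨a, rfl⟩
    exact ⟨a, by rw [← hfj]; rfl⟩
  refine le_antisymm ?_ hle
  intro y hy
  let P : Scheme.{u} := pullback f j
  let σ : X ⟶ pullback f j := pullback.lift j' (𝟙 X) (by rw [hfj]; simp)
  have hsep : IsSeparated f := by
    have : IsSeparated (f ≫ q) := by rw [hf]; infer_instance
    exact IsSeparated.of_comp f q
  have : IsClosedImmersion (σ ≫ pullback.snd f j) := by
    rw [show σ ≫ pullback.snd f j = 𝟙 X from pullback.lift_snd _ _ _]; infer_instance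
  have : IsClosedImmersion σ := IsClosedImmersion.of_comp σ (pullback.snd f j)
  have hcl : IsClosed (Set.range σ) := σ.isClosedEmbedding.isClosed_range
  obtain ⟨x, hx⟩ := hy
  obtain ⟨z, hz₁, -⟩ := Scheme.Pullback.exists_preimage_pullback (f := f) (g := j) y x hx.symm
  have hd' : Dense (pullback.fst f j ⁻¹' Set.range j') :=
    hd.preimage (pullback.fst f j).isOpenEmbedding.isOpenMap
  have hsub : pullback.fst f j ⁻¹' Set.range j' ⊆ Set.range σ := by
    rintro w ⟨a, ha⟩
    refine ⟨a, (pullback.fst f j).isOpenEmbedding.injective ?_⟩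
    rw [← ha]
    show (σ ≫ pullback.fst f j) a = _
    rw [pullback.lift_fst]
  have huniv : Set.range σ = Set.univ := by
    have := (hd'.mono hsub).closure_eq
    rwa [hcl.closure_eq] at this
  obtain ⟨a, ha⟩ := huniv.symm ▸ Set.mem_univ z
  refine ⟨a, ?_⟩
  show j' a = y
  rw [← hz₁, ← ha]
  show j' a = (σ ≫ pullback.fst f j) a
  rw [pullback.lift_fst]

end Groth.Agent.S9007
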