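import Groth.Statements.S9008
import Mathlib.RingTheory.IsTensorProduct
-- import your own Groth.Agent.* helpers here

set_option autoImplicit false
set_option backward.isDefEq.respectTransparency false
universe u
open FlatMor

namespace Groth.Agent.S9008

/-- For Spec B → Spec A affine of finite type: a finite B-module is universally pure along the fibre
over a prime p of A exactly when every base change of it along a ring map A → A' is pure along the
fibre over every prime of A' above p. -/
theorem result {A B : Type u} [CommRing A] [CommRing B] [Algebra A B] [Algebra.FiniteType A B] (N : Type u) [AddCommGroup N] [Module B N] [Module.Finite B N] (p : Ideal A) [p.IsPrime] : FlatCA.IsUnivPureAlong A B N p ↔ ∀ (A' B' N' : Type u) [CommRing A'] [CommRing B'] [Algebra A A'] [Algebra B B'] [Algebra A' B'] [Algebra A B'] [IsScalarTower A B B'] [IsScalarTower A A' B'] [Algebra.IsPushout A B A' B'] [AddCommGroup N'] [Module B' N'] [Module B N'] [IsScalarTower B B' N'] (g : N →ₗ[B] N'), IsBaseChange B' g → ∀ (p' : Ideal A') [p'.IsPrime],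 p'.LiesOver p → FlatCA.IsPureAlong A' B' N' p' := by
  classical
  constructor
  · intro hU A' B' N' _ _ _ _ _ _ _ _ _ _ _ _ _ g hg p' _ hp' A₂ B₂ N₂ _ _ _ _ _ _ _ _ _ _ _ _ _ _ f t' t _ _ P _ het himp
    obtain ⟨hpo, hbc, hle, htp, hPt, hass, hmiss⟩ := himp
    letI : Algebra A A₂ := ((algebraMap A' A₂).comp (algebraMap A A')).toAlgebra
    haveI : IsScalarTower A A' A₂ := IsScalarTower.of_algebraMap_eq fun _ => rfl
    letI : Algebra B B₂ := ((algebraMap B' B₂).comp (algebraMap B B')).toAlgebra
    haveI : IsScalarTower B B' B₂ := IsScalarTower.of_algebraMap_eq fun _ => rfl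
    letI : Algebra A B₂ := ((algebraMap A' B₂).comp (algebraMap A A')).toAlgebra
    haveI : IsScalarTower A A' B₂ := IsScalarTower.of_algebraMap_eq fun _ => rfl
    haveI : IsScalarTower A A₂ B₂ := IsScalarTower.of_algebraMap_eq fun a => by
      show algebraMap A' B₂ (algebraMap A A' a) = algebraMap A₂ B₂ (algebraMap A' A₂ (algebraMap A A' a))
      rw [← IsScalarTower.algebraMap_apply A' A₂ B₂]
    haveI : IsScalarTower A B' B₂ := IsScalarTower.of_algebraMap_eq fun a => by
      show algebraMap A' B₂ (algebraMap A A' a) = algebraMap B' B₂ (algebraMap A B' a)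
      rw [IsScalarTower.algebraMap_apply A A' B', ← IsScalarTower.algebraMap_apply A' B' B₂]
    haveI : IsScalarTower A B B₂ := IsScalarTower.of_algebraMap_eq fun a => by
      show algebraMap A' B₂ (algebraMap A A' a) = algebraMap B' B₂ (algebraMap B B' (algebraMap A B a))
      rw [← IsScalarTower.algebraMap_apply A B B', IsScalarTower.algebraMap_apply A A' B', ← IsScalarTower.algebraMap_apply A' B' B₂]
    letI : Module B N₂ := Module.compHom N₂ (algebraMap B B')
    haveI : IsScalarTower B B' N₂ := IsScalarTower.of_algebraMap_smul fun _ _ => rfl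
    haveI : IsScalarTower B B₂ N₂ := IsScalarTower.of_algebraMap_smul fun r x => by
      show algebraMap B' B₂ (algebraMap B B' r) • x = algebraMap B B' r • x
      rw [algebraMap_smul]
    haveI : Algebra.IsPushout A B A₂ B₂ := by
      haveI h0 : Algebra.IsPushout A A' B B' := Algebra.IsPushout.symm ‹_›
      haveI h1 : Algebra.IsPushout A' A₂ B' B₂ := Algebra.IsPushout.symm hpo
      exact Algebra.IsPushout.symm ((Algebra.IsPushout.comp_iff A A' B B' (T := A₂) (T' := B₂)).2 h1)
    refine hU A₂ B₂ N₂ ((f.restrictScalars B).comp g) t' t P ⟨‹_›, hg.comp hbc, hle, ?_, hPt, hass, hmiss⟩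
    exact ⟨by rw [hp'.over, htp.over, Ideal.under_under]⟩
  · intro h A₁ B₁ N₁ _ _ _ _ _ _ _ _ _ _ _ _ _ _ f t' t _ _ P _ himp
    obtain ⟨hpo, hbc, hle, htp, hPt, hass, hmiss⟩ := himp
    have hp := h A₁ B₁ N₁ f hbc t htp
    haveI : t.LiesOver t := ⟨((Ideal.under_def (A := A₁) t).trans (by rw [show algebraMap A₁ A₁ = RingHom.id A₁ from rfl, Ideal.comap_id])).symm⟩
    refine hp A₁ B₁ N₁ LinearMap.id t' t P ⟨inferInstance, ‹_›, ?_⟩
      ⟨inferInstance, IsBaseChange.ofEquiv (LinearEquiv.refl B₁ N₁), hle, ‹_›, hPt, hass, hmiss⟩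
    have e : ∀ x, Ideal.ResidueField.mapₐ t t (Algebra.ofId A₁ A₁) Ideal.LiesOver.over x = x := fun x => by
      have : (Ideal.ResidueField.mapₐ t t (Algebra.ofId A₁ A₁) Ideal.LiesOver.over).toRingHom = RingHom.id _ :=
        Ideal.ResidueField.ringHom_ext (RingHom.ext fun a => by
          exact (Ideal.ResidueField.mapₐ t t (Algebra.ofId A₁ A₁) Ideal.LiesOver.over).commutes a)
      exact RingHom.congr_fun this x
    exact ⟨fun a b hab => by rw [e, e] at hab; exact hab, fun b => ⟨b, e b⟩⟩

end Groth.Agent.S9008
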