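import Groth.Statements.S9011
import Groth.Agent.Lib.Dev4.FreeInjMod
import Groth.Agent.Lib.Kap.Local
import Groth.Agent.Lib.CI2.FibAss

set_option autoImplicit false
universe u
open FlatMor

set_option backward.isDefEq.respectTransparency.types false
set_option linter.style.haveILetI false

namespace Groth.Agent.S9011

open TensorProduct IsLocalRing in
theorem one_tmul_eq_zero_iff {R : Type u} [CommRing R] [IsLocalRing R] {N : Type u} [AddCommGroup N] [Module R N] (z : N) :
    (1 : ResidueField R) ⊗ₜ[R] z = 0 ↔ z ∈ maximalIdeal R • (⊤ : Submodule R N) := by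
  let e := TensorProduct.quotTensorEquivQuotSMul N (maximalIdeal R)
  have h : e ((1 : R ⧸ maximalIdeal R) ⊗ₜ[R] z) = Submodule.Quotient.mk z := by
    rw [show (1 : R ⧸ maximalIdeal R) = Ideal.Quotient.mk (maximalIdeal R) 1 from rfl,
      TensorProduct.quotTensorEquivQuotSMul_mk_tmul, one_smul]
  rw [← Submodule.Quotient.mk_eq_zero, ← h, e.map_eq_zero_iff]
  exact Iff.rfl


open IsLocalRing in
/-- For a local ring R with maximal ideal m, an R-algebra S with S/mS Noetherian and an S-module N with
N/mN finite over S/mS which is projective as an R-module, every element of S that is a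
nonzerodivisor on N/mN acts R-universally injectively on N, and the map from N to its localization
at all such elements is R-universally injective. -/
theorem result {R S : Type u} [CommRing R] [IsLocalRing R] [CommRing S] [Algebra R S] (N : Type u) [AddCommGroup N] [Module S N] [Module R N] [IsScalarTower R S N] [IsNoetherianRing ((maximalIdeal R).Fiber S)] [Module.Finite ((maximalIdeal R).Fiber S) (FlatCA.fiberMod (maximalIdeal R) S N)] [Module.Projective R N] : (∀ s ∈ FlatCA.nzdFiber R S N, FlatCA.UnivInj R ((LinearMap.lsmul S N s).restrictScalars R)) ∧ FlatCA.UnivInj R ((LocalizedModule.mkLinearMap (FlatCA.nzdFiber R S N) N).restrictScalars R) := by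
  haveI : Module.Free R N := Groth.Agent.Kap.free_of_projective
  have key : ∀ s ∈ FlatCA.nzdFiber R S N, FlatCA.UnivInj R ((LinearMap.lsmul S N s).restrictScalars R) := by
    intro s hs
    refine Groth.Agent.Dev4.univInj_of_free_of_injective_mod _ ((injective_iff_map_eq_zero _).2 fun x hx => ?_)
    obtain ⟨z, rfl⟩ : ∃ z : N, (1 : ResidueField R) ⊗ₜ[R] z = x := by
      clear hx
      induction x using TensorProduct.induction_on with
      | zero => exact ⟨0, TensorProduct.tmul_zero _ _⟩
      | tmul c n =>
        obtain ⟨c, rfl⟩ := residue_surjective c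
        refine ⟨c • n, ?_⟩
        rw [← TensorProduct.smul_tmul, Algebra.smul_def, mul_one]
        rfl
      | add a b ha hb =>
        obtain ⟨a', rfl⟩ := ha
        obtain ⟨b', rfl⟩ := hb
        exact ⟨a' + b', TensorProduct.tmul_add _ _ _⟩
    rw [LinearMap.lTensor_tmul, one_tmul_eq_zero_iff] at hx
    rw [one_tmul_eq_zero_iff]
    have h0 : FlatCA.toFiberMod (maximalIdeal R) S N z = 0 := (mem_nonZeroSMulDivisors_iff.1 hs) _ (by
      rw [← map_smul]
      exact Groth.Agent.CI2.FibAss.ι_pS (maximalIdeal R) N (Groth.Agent.CI2.FibAss.pR_le (maximalIdeal R) N hx))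
    obtain ⟨σ, hσ, hσz⟩ := Groth.Agent.CI2.FibAss.ι_zero (maximalIdeal R) N h0
    rw [algebraMap_smul, ← Submodule.restrictScalars_mem R, Ideal.smul_restrictScalars, Submodule.restrictScalars_top] at hσz
    obtain ⟨w, rfl⟩ : IsUnit σ := notMem_maximalIdeal.1 hσ
    simpa [smul_smul] using Submodule.smul_mem _ (↑w⁻¹ : R) hσz
  refine ⟨key, fun Q _ _ => ?_⟩
  refine (LinearMap.lTensor_inj_iff_rTensor_inj Q _).2 ((injective_iff_map_eq_zero _).2 fun x hx => ?_)
  let g := TensorProduct.AlgebraTensorModule.rTensor R Q (LocalizedModule.mkLinearMap (FlatCA.nzdFiber R S N) N)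
  obtain ⟨s, hs⟩ := (IsLocalizedModule.eq_zero_iff (FlatCA.nzdFiber R S N) g).1 (show g x = 0 from hx)
  refine (LinearMap.lTensor_inj_iff_rTensor_inj Q _).1 (key s s.2 Q) ?_
  rw [map_zero]
  refine Eq.trans ?_ hs
  have hall : ∀ y : TensorProduct R N Q, ((LinearMap.lsmul S N (s : S)).restrictScalars R).rTensor Q y = s • y := fun y => by
    induction y using TensorProduct.induction_on with
    | zero => simp
    | tmul n q => rw [Submonoid.smul_def, TensorProduct.smul_tmul']; rfl
    | add n q hn hq => rw [map_add, hn, hq, smul_add]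
  exact hall x

end Groth.Agent.S9011
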