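import Groth.Statements.S9032
import Groth.Agent.Lib.Dev4.FlatLocusScheme

set_option autoImplicit false
universe u
open FlatMor

set_option backward.isDefEq.respectTransparency.types false

namespace Groth.Agent.S9032

open CategoryTheory CategoryTheory.Limits AlgebraicGeometry Opposite in
/-- Let A be a henselian local ring, s the closed point of S = Spec A, f : X → S a morphism locally of
finite type, F a quasi-coherent O_X-module of finite type and E a subset of the closed fibre X_s.
Then there is a closed subscheme Z = V(I) of S with the following property: for every morphism of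
pointed schemes (T, t) → (S, s), the base change F_T on X_T = X ×_S T is T-flat at each point over t
whose image in X lies in E if and only if Spec(O_{T,t}) → S factors through Z, that is, the map A →
O_{T,t} sends I to zero. Assume in addition that the morphism f is locally finitely presented, that
the module F is finitely presented, and that the subset E is both quasi-compact and closed; in that
case the closed immersion Z → S is finitely presented, meaning the ideal I is finitely generated. -/
theorem result {A : Type u} [CommRing A] [HenselianLocalRing A] {X : Scheme.{u}} (f : X ⟶ Spec (CommRingCat.of A))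
    [LocallyOfFiniteType f] (F : X.Modules) [Coh.IsQCoh F] (hF : CohB1.IsFT F)
    (E : Set X) (hE : ∀ x ∈ E, f.base x = IsLocalRing.closedPoint A) :
    ∃ I : Ideal A,
      (∀ (T : Scheme.{u}) (g : T ⟶ Spec (CommRingCat.of A)) (t : T), g.base t = IsLocalRing.closedPoint A →
        ((∀ x' : ↑(pullback f g), (pullback.snd f g).base x' = t → (pullback.fst f g).base x' ∈ E →
            FlatMod.IsFlatOverAt (pullback.snd f g) ((Scheme.Modules.pullback (pullback.fst f g)).obj F) x') ↔
          ∀ a ∈ I, (T.presheaf.germ ⊤ t trivial).hom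
            (g.appTop.hom ((Scheme.ΓSpecIso (CommRingCat.of A)).inv.hom a)) = 0)) ∧
      (LocallyOfFinitePresentation f → CohB1.IsFP F → IsClosed E → IsCompact E → I.FG) := by
  classical
  choose Ix hIm hIx hIfg using fun x : E => Groth.Agent.Dev4.exists_ideal_flat_at_point f F hF x.1 (hE x.1 x.2)
  refine ⟨⨆ x : E, Ix x, fun T g t ht => ?_, fun hf hFP _ hEc => ?_⟩
  · have hiff : (∀ a ∈ ⨆ x : E, Ix x, (T.presheaf.germ ⊤ t trivial).hom
        (g.appTop.hom ((Scheme.ΓSpecIso (CommRingCat.of A)).inv.hom a)) = 0) ↔
        ∀ x : E, Ix x ≤ RingHom.ker (Groth.Agent.Dev4.baseToStalk g t) := by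
      rw [← iSup_le_iff]
      exact Iff.rfl
    rw [hiff]
    exact ⟨fun h x => (hIx x T g t ht).1 fun x' hxt hxx => h x' hxt (by rw [hxx]; exact x.2),
      fun h x' hxt hxE => (hIx ⟨_, hxE⟩ T g t ht).2 (h _) x' hxt rfl⟩
  · haveI := hf
    -- neighbourhoods of flatness in the closed fibre
    have hnbhd : ∀ x : E, ∃ V : Set X, IsOpen V ∧ x.1 ∈ V ∧ ∀ y : E, y.1 ∈ V → Ix y ≤ Ix x := by
      intro x
      let J := Ix x
      haveI : Nontrivial (A ⧸ J) := Ideal.Quotient.nontrivial_iff.2
        (ne_top_of_le_ne_top (IsLocalRing.maximalIdeal.isMaximal A).ne_top (hIm x))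
      haveI : IsLocalRing (A ⧸ J) := IsLocalRing.of_surjective' (Ideal.Quotient.mk J) Ideal.Quotient.mk_surjective
      let g : Spec (CommRingCat.of (A ⧸ J)) ⟶ Spec (CommRingCat.of A) := Spec.map (CommRingCat.ofHom (Ideal.Quotient.mk J))
      haveI : IsClosedImmersion g := IsClosedImmersion.spec_of_surjective _ Ideal.Quotient.mk_surjective
      let t : Spec (CommRingCat.of (A ⧸ J)) := IsLocalRing.closedPoint (A ⧸ J)
      haveI : IsLocalHom (Ideal.Quotient.mk J) := (Ideal.Quotient.mk_surjective (I := J)).isLocalHom _
      have ht : g.base t = IsLocalRing.closedPoint A := IsLocalRing.comap_closedPoint (Ideal.Quotient.mk J)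
      have hρ : ∀ a : A, Groth.Agent.Dev4.baseToStalk g t a = 0 ↔ a ∈ J := fun a => by
        have h1 : g.appTop ((Scheme.ΓSpecIso (CommRingCat.of A)).inv a) =
            (Scheme.ΓSpecIso (CommRingCat.of (A ⧸ J))).inv (Ideal.Quotient.mk J a) :=
          (CategoryTheory.ConcreteCategory.congr_hom (Scheme.ΓSpecIso_inv_naturality (CommRingCat.ofHom (Ideal.Quotient.mk J))) a).symm
        show (Spec (CommRingCat.of (A ⧸ J))).presheaf.germ ⊤ t trivial (g.appTop _) = 0 ↔ _
        rw [h1, ← ΓSpecIso_hom_stalkClosedPointIso_inv (CommRingCat.of (A ⧸ J)), CommRingCat.comp_apply,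
          Iso.inv_hom_id_apply, map_eq_zero_iff _ (ConcreteCategory.injective_of_mono_of_preservesPullback _),
          Ideal.Quotient.eq_zero_iff_mem]
      let F' := (Scheme.Modules.pullback (pullback.fst f g)).obj F
      haveI : Coh.IsQCoh F' := Groth.Agent.M1.isQCoh_pullback _ inferInstance
      have hopen := Groth.Agent.S4863.result (pullback.snd f g) F' (Groth.Agent.M1.isFP_pullback _ hFP)
      obtain ⟨V, hV, hVU⟩ := (pullback.fst f g).isClosedEmbedding.isEmbedding.isInducing.isOpen_iff.1 hopen
      have hflat := (hIx x _ g t ht).2 fun a ha => (hρ a).2 ha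
      refine ⟨V, hV, ?_, fun y hy => fun a ha => (hρ a).1 ((hIx y _ g t ht).1 (fun x' hxt hxy => ?_) ha)⟩
      · obtain ⟨z, hz1, hz2⟩ := Scheme.Pullback.exists_preimage_pullback x.1 t ((hE x.1 x.2).trans ht.symm)
        have := hflat z hz2 hz1
        have h2 : z ∈ (pullback.fst f g).base ⁻¹' V := hVU.symm ▸ this
        exact hz1 ▸ h2
      · have h2 : x' ∈ (pullback.fst f g).base ⁻¹' V := by
          show (pullback.fst f g).base x' ∈ V
          rw [hxy]; exact hy
        exact (hVU ▸ h2 : _)
    choose V hV hxV hVle using hnbhd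
    obtain ⟨s, hs⟩ := hEc.elim_finite_subcover V hV fun y hy => Set.mem_iUnion.2 ⟨⟨y, hy⟩, hxV _⟩
    have heq : (⨆ x : E, Ix x) = s.sup Ix := by
      refine le_antisymm (iSup_le fun y => ?_) (Finset.sup_le fun x _ => le_iSup Ix x)
      obtain ⟨x, hx⟩ := Set.mem_iUnion.1 (hs y.2)
      obtain ⟨hxs, hyx⟩ := Set.mem_iUnion.1 hx
      exact (hVle x y hyx).trans (Finset.le_sup hxs)
    rw [heq]
    exact Submodule.fg_finset_sup s Ix fun x _ => hIfg x hf hFP

end Groth.Agent.S9032
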