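import Groth.Statements.S9035
import Groth.Agent.Lib.CptRetract8.Finite

set_option autoImplicit false
universe v u
open CategoryTheory CategoryTheory.Limits Opposite
open CohDer

namespace Groth.Agent.S9035

set_option backward.isDefEq.respectTransparency false

open CategoryTheory CategoryTheory.Limits Opposite


/-- Let A be a Grothendieck abelian category and S a set of objects such that (1) every object of A is a
quotient of a direct sum of members of S and (2) for every E in S the functor Hom(E, -)
(abelian-group valued) preserves direct sums. Then every compact object K of the derived category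
D(A) is a retract in D(A) of the image of a bounded cochain complex whose terms are finite direct
sums of members of S. The derived category, the existence of direct sums in it, and the (automatic)
finite biproduct and direct sum structure of A are taken as instance hypotheses. -/
theorem result
    {A : Type u} [Category.{v} A] [Abelian A] [IsGrothendieckAbelian.{v} A] [HasCoproducts.{v} A] [HasFiniteBiproducts A]
    [HasDerivedCategory.{v} A] [HasCoproducts.{v} (DerivedCategory A)]
    (S : Set A)
    (h1 : ∀ X : A, ∃ (ι : Type v) (E : ι → A) (π : ∐ E ⟶ X), (∀ i, E i ∈ S) ∧ Epi π)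
    (h2 : ∀ E ∈ S, ∀ ι : Type v, PreservesColimitsOfShape (Discrete ι) (preadditiveCoyoneda.obj (op E)))
    (K : DerivedCategory A) (hK : CohDer.IsCompactObject K) :
    ∃ (L : CochainComplex A ℤ) (a b : ℤ),
      (∀ i : ℤ, i < a ∨ b < i → IsZero (L.X i)) ∧
      (∀ i : ℤ, ∃ (n : ℕ) (E : Fin n → A), (∀ j, E j ∈ S) ∧ Nonempty (L.X i ≅ ⨁ E)) ∧
      Nonempty (Retract K (DerivedCategory.Q.obj L)) := by
  obtain ⟨L₀, a, b, φ₀, r, hr, hz, hS⟩ := CptRetract8.exists_bounded S h1 hK
  obtain ⟨L, φ, t, ht, hz', hfin, -⟩ := CptRetract8.exists_finite S h2 hK a b L₀ hz hS φ₀ ((b - a).toNat + 1)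
  refine ⟨L, a, b, hz', fun i => ?_, ⟨⟨φ, t ≫ r, by rw [← Category.assoc, ht, hr]⟩⟩⟩
  by_cases h : i < a ∨ b < i
  · exact CptRetract8.finSums_of_isZero S (hz' i h)
  · exact hfin i (by omega)


end Groth.Agent.S9035
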