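import Groth.Statements.S9036
import Groth.Agent.S9035
import Groth.Agent.Lib.FinPres16.Coprod
import Groth.Agent.Lib.ModFlat16.Basis
import Mathlib.CategoryTheory.Abelian.GrothendieckAxioms.Sheaf

set_option autoImplicit false
universe u
open CategoryTheory CategoryTheory.Limits Opposite
open ModSite

namespace Groth.Agent.S9036
open Groth.Agent.FinPres16 Groth.Agent.ModFlat16 in
open CategoryTheory CategoryTheory.Limits Opposite in


/-- Let (C, O) be a ringed site in which every object has a covering by quasi-compact objects (an object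
U is called quasi-compact here when the sheaf h_U^# is a quasi-compact object of the topos, which is
equivalent to the site-level definition). Then every compact object of D(O) is a retract in D(O) of
the image of a bounded complex whose terms are finite direct sums of modules of the form j_{U!} O_U
with U quasi-compact. The derived category of O-modules, direct sums in it and finite biproducts of
O-modules (automatic) are instance hypotheses. -/
theorem result
    {C : Type u} [SmallCategory C] {J : GrothendieckTopology C} (O : Sheaf J CommRingCat.{u})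
    [HasFiniteBiproducts (ModSite.Mod O)]
    [HasDerivedCategory.{u} (ModSite.Mod O)] [HasCoproducts.{u} (DerivedCategory (ModSite.Mod O))]
    (hC : ∀ V : C, ∃ R ∈ J V, ∀ ⦃W : C⦄ (g : W ⟶ V), R g →
      ∃ (U : C) (a : W ⟶ U) (b : U ⟶ V), CohCx.IsQcObject ((presheafToSheaf J (Type u)).obj (yoneda.obj U)) ∧ a ≫ b = g)
    (K : DerivedCategory (ModSite.Mod O)) (hK : CohDer.IsCompactObject K) :
    ∃ (L : CochainComplex (ModSite.Mod O) ℤ) (a b : ℤ),
      (∀ i : ℤ, i < a ∨ b < i → IsZero (L.X i)) ∧
      (∀ i : ℤ, ∃ (n : ℕ) (U : Fin n → C),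
        (∀ j, CohCx.IsQcObject ((presheafToSheaf J (Type u)).obj (yoneda.obj (U j)))) ∧
        Nonempty (L.X i ≅ ⨁ fun j => ModSite.freeOn O (U j))) ∧
      Nonempty (Retract K (DerivedCategory.Q.obj L)) := by
  classical
  let Q : Set C := {U | CohCx.IsQcObject ((presheafToSheaf J (Type u)).obj (yoneda.obj U))}
  have hgen : ∀ X : ModSite.Mod O, ∃ (ι : Type u) (E : ι → ModSite.Mod O) (π : ∐ E ⟶ X),
      (∀ i, E i ∈ {E : ModSite.Mod O | ∃ U ∈ Q, E = ModSite.freeOn O U}) ∧ Epi π := by
    intro X
    let T := Σ U : Q, ModSite.sect X U.1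
    refine ⟨T, fun t => ModSite.freeOn O t.1.1, Sigma.desc fun t => (freeOnHom O t.1.1 X).symm t.2,
      fun t => ⟨t.1.1, t.1.2, rfl⟩, ?_⟩
    refine epi_of_local_preimages _ fun V x => ?_
    obtain ⟨R, hR, hfac⟩ := hC V
    refine ⟨R, hR, fun W g hg => ?_⟩
    obtain ⟨U, a, b, hU, rfl⟩ := hfac g hg
    let t : T := ⟨⟨U, hU⟩, smap X b x⟩
    refine ⟨smap (∐ fun t : T => ModSite.freeOn O t.1.1) a
      ((Sigma.ι (fun t : T => ModSite.freeOn O t.1.1) t).val.app (op U) (gen U)), ?_⟩
    refine (app_smap _ a _).trans ((congrArg (smap X a) ?_).trans (Groth.Agent.ModFlat16.smap_comp b a x).symm)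
    refine (congrArg (fun q : ModSite.freeOn O U ⟶ X => q.val.app (op U) (gen U)) (Sigma.ι_desc (fun t : T => (freeOnHom O t.1.1 X).symm t.2) t)).trans ?_
    rw [app_gen, Equiv.apply_symm_apply]

  obtain ⟨L, a, b, hz, hS, hr⟩ := Groth.Agent.S9035.result (A := ModSite.Mod O)
    {E | ∃ U ∈ Q, E = ModSite.freeOn O U}
    hgen (fun E hE ι => by
      obtain ⟨U, hU, rfl⟩ := hE
      exact preservesCoproducts_hom_freeOn O (qcAt_of_isQcObject hU) ι) K hK
  refine ⟨L, a, b, hz, fun i => ?_, hr⟩
  obtain ⟨n, E, hE, ⟨e⟩⟩ := hS i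
  choose U hU he using hE
  exact ⟨n, U, hU, ⟨e ≪≫ biproduct.mapIso fun j => eqToIso (he j)⟩⟩

end Groth.Agent.S9036
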