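import Groth.Statements.S9038
import Mathlib

set_option autoImplicit false
universe u
open Topology
open CohTop

namespace Groth.Agent.S9038

/-- In the category of Hausdorff locally quasi-compact spaces, call a family of continuous maps f_i :
X_i → X a qc covering when every point of X has a neighbourhood of the form ⋃_{i ∈ t} f_i(E_i) with
t a finite set of indices and E_i ⊆ X_i quasi-compact. If (f_i : X_i → X) is a qc covering and for
each i the family (g_{ij} : X_{ij} → X_i)_j is a qc covering, then the family of composites X_{ij} →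
X, indexed by the pairs (i, j), is a qc covering. -/
theorem result
    {B : Type u} [TopologicalSpace B] [T2Space B] [LocallyCompactSpace B]
    {ι : Type u} {X : ι → Type u} [∀ i, TopologicalSpace (X i)] [∀ i, T2Space (X i)]
    [∀ i, LocallyCompactSpace (X i)]
    (f : ∀ i, X i → B) (hf : ∀ i, Continuous (f i))
    (hcov : ∀ x : B, ∃ (t : Finset ι) (E : ∀ i, Set (X i)),
      (∀ i ∈ t, IsCompact (E i)) ∧ (⋃ i ∈ t, f i '' E i) ∈ 𝓝 x)
    {κ : ι → Type u} {Y : ∀ i, κ i → Type u} [∀ i j, TopologicalSpace (Y i j)] [∀ i j, T2Space (Y i j)]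
    [∀ i j, LocallyCompactSpace (Y i j)]
    (g : ∀ i j, Y i j → X i) (hg : ∀ i j, Continuous (g i j))
    (hcov' : ∀ (i : ι) (x : X i), ∃ (t : Finset (κ i)) (E : ∀ j, Set (Y i j)),
      (∀ j ∈ t, IsCompact (E j)) ∧ (⋃ j ∈ t, g i j '' E j) ∈ 𝓝 x) :
    ∀ x : B, ∃ (t : Finset (Σ i, κ i)) (E : ∀ p : (Σ i, κ i), Set (Y p.1 p.2)),
      (∀ p ∈ t, IsCompact (E p)) ∧ (⋃ p ∈ t, f p.1 '' (g p.1 p.2 '' E p)) ∈ 𝓝 x := by
  classical
  intro x
  obtain ⟨t, E, hE, hn⟩ := hcov x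
  choose T F hF hFn using hcov'
  have hsub : ∀ i ∈ t, ∃ s : Finset (X i), E i ⊆ ⋃ z ∈ s, ⋃ j ∈ T i z, g i j '' F i z j := fun i hi => by
    obtain ⟨s, -, hs⟩ := (hE i hi).elim_nhds_subcover (fun z => ⋃ j ∈ T i z, g i j '' F i z j) fun z _ => hFn i z
    exact ⟨s, hs⟩
  choose! s hs using hsub
  refine ⟨t.sigma fun i => (s i).biUnion (T i),
    fun p => ⋃ z ∈ (s p.1).filter fun z => p.2 ∈ T p.1 z, F p.1 z p.2,
    fun p _ => Finset.isCompact_biUnion _ fun z hz => hF p.1 z p.2 (Finset.mem_filter.1 hz).2,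
    Filter.mem_of_superset hn ?_⟩
  intro b hb
  obtain ⟨i, hi, e, he, rfl⟩ := Set.mem_iUnion₂.1 hb
  obtain ⟨z, hz, hz'⟩ := Set.mem_iUnion₂.1 (hs i hi he)
  obtain ⟨j, hj, w, hw, rfl⟩ := Set.mem_iUnion₂.1 hz'
  exact Set.mem_iUnion₂.2 ⟨⟨i, j⟩, Finset.mem_sigma.2 ⟨hi, Finset.mem_biUnion.2 ⟨z, hz, hj⟩⟩, _,
    ⟨w, Set.mem_iUnion₂.2 ⟨z, Finset.mem_filter.2 ⟨hz, hj⟩, hw⟩, rfl⟩, rfl⟩

end Groth.Agent.S9038
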