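import Groth.Statements.S9042
import Groth.Agent.Lib.SiteRlim16.Trunc
import Groth.Agent.Lib.SiteRlim16.Instances

set_option autoImplicit false
universe u
open CategoryTheory CategoryTheory.Limits Opposite
open ModSite

namespace Groth.Agent.S9042
set_option linter.style.haveILetI false
set_option backward.isDefEq.respectTransparency false
set_option backward.isDefEq.respectTransparency.types false


/-- Let (C, O) be a ringed site, E an object of D(O), B a class of objects such that every object has a
covering by members of B, and p : ℤ → ℤ a function such that H^k(V, H^{m-k}(E)) = 0 for every V in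
B, every m and every k > p(m). Then the canonical map from E to the derived limit of its truncations
τ_{≥ -n} E is an isomorphism, i.e. E is a derived limit of that tower through the canonical maps.
The derived category of O-modules and the product of the truncations are instance hypotheses; H^k(V,
-) of an O-module is the cohomology of its underlying abelian sheaf. -/
theorem result
    {C : Type u} [SmallCategory C] {J : GrothendieckTopology C} (O : Sheaf J CommRingCat.{u})
    [HasDerivedCategory.{u} (ModSite.Mod O)] (E : DerivedCategory (ModSite.Mod O))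
    [HasProduct (CohCx.truncTower E)] (B : Set C)
    (hB : ∀ U : C, ∃ (ι : Type u) (Y : ι → C) (f : ∀ i, Y i ⟶ U), Sieve.ofArrows Y f ∈ J U ∧ ∀ i, Y i ∈ B)
    (p : ℤ → ℤ)
    (h : ∀ V ∈ B, ∀ (m : ℤ) (k : ℕ), p m < k →
      Subsingleton (ModSite.HU O ((DerivedCategory.homologyFunctor (ModSite.Mod O) (m - k)).obj E) k V)) :
    CohCx.IsRlimVia (CohCx.truncTower E) (CohCx.truncTowerMap E) E (CohCx.toTruncTower E) := by
  refine Groth.Agent.SiteRlim.isRlimVia_truncTower (G := Groth.Agent.SiteRlim.genMod O) (Groth.Agent.SiteRlim.localGen_genMod O) E B (fun U => ?_) fun m V hV => ?_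
  · obtain ⟨ι, Y, f, hf, hY⟩ := hB U
    refine ⟨Sieve.ofArrows Y f, hf, ?_⟩
    rintro W g ⟨_, a, b, ⟨i⟩, rfl⟩
    exact ⟨_, a, f i, hY i, rfl⟩
  · refine ⟨(max (p m) (p (m + 1)) - m).toNat, fun T hT => ?_⟩
    obtain ⟨S, hS, hSB⟩ : ∃ S ∈ J V, ∀ ⦃W : C⦄ (g : W ⟶ V), S g →
        ∃ (Y : C) (a : W ⟶ Y) (b : Y ⟶ V), T b ∧ a ≫ b = g ∧ Y ∈ B := by
      choose ι Y f hf hY using fun W : C => hB W
      refine ⟨Sieve.bind T.arrows fun W g _ => Sieve.ofArrows (Y W) (f W), J.bind_covering hT fun W g _ => hf W, ?_⟩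
      rintro W g ⟨W', r, g', hg', ⟨_, a, b, ⟨i⟩, rfl⟩, rfl⟩
      exact ⟨_, a, f W' i ≫ g', T.downward_closed hg' _, (Category.assoc _ _ _).symm, hY W' i⟩
    refine ⟨S, hS, fun W g hg => ?_⟩
    obtain ⟨Y, a, b, hb, hab, hY⟩ := hSB g hg
    refine ⟨Y, a, b, hb, hab, Groth.Agent.SiteRlim.stable_truncTower.{u, u} E m _ fun n hn k hk hk' => ?_⟩
    refine Groth.Agent.SiteRlim.subsingleton_ext_freeOn O _ _ k ?_
    have := h Y hY ((k : ℤ) - n - 1) k (by
      rcases eq_or_ne ((k : ℤ) - n - 1) m with e | e
      · rw [e]; omega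
      · rw [show (k : ℤ) - n - 1 = m + 1 by omega]; omega)
    rwa [show (k : ℤ) - n - 1 - k = -(n : ℤ) - 1 by omega] at this

end Groth.Agent.S9042
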