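import Groth.Statements.S9044
import Groth.Agent.Lib.SiteCoh.CechComp
import Groth.Agent.Lib.SiteCoh.CechPush

set_option autoImplicit false
universe u
open CategoryTheory CategoryTheory.Limits Opposite
open ModSite

namespace Groth.Agent.S9044
set_option linter.style.haveILetI false
set_option backward.isDefEq.respectTransparency false
set_option backward.isDefEq.respectTransparency.types false
section
open Groth.Agent.SiteCoh AlgebraicTopology

variable {C : Type u} [SmallCategory C] (J : GrothendieckTopology C)
    {D : Type u} [SmallCategory D] (K : GrothendieckTopology D) (u : C ⥤ D) [u.IsContinuous J K]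

/-- the underlying sheaf of sets -/
noncomputable abbrev undS (F : Sheaf K AddCommGrpCat.{u}) : Sheaf K (Type u) := ⟨(undP K).obj F, isSheaf_undP F⟩

/-- transpose of a map of sheaves of sets -/
noncomputable def trS (L : Sheaf J (Type u)) (G : Sheaf K AddCommGrpCat.{u})
    (w : ((u.sheafPullback (Type u) J K).obj L).obj ⟶ (undP K).obj G) :
    L.obj ⟶ (undP J).obj ((CohSite.push K J u).obj G) :=
  ((u.sheafAdjunctionContinuous (Type u) J K).homEquiv L (undS K G) ⟨w⟩).hom

lemma bijective_trS (L : Sheaf J (Type u)) (G : Sheaf K AddCommGrpCat.{u}) : Function.Bijective (trS J K u L G) := by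
  constructor
  · intro a b h
    have h' : (u.sheafAdjunctionContinuous (Type u) J K).homEquiv L (undS K G) ⟨a⟩ =
        (u.sheafAdjunctionContinuous (Type u) J K).homEquiv L (undS K G) ⟨b⟩ := Sheaf.hom_ext h
    exact congrArg (fun w : (u.sheafPullback (Type u) J K).obj L ⟶ undS K G => w.hom)
      (((u.sheafAdjunctionContinuous (Type u) J K).homEquiv L (undS K G)).injective h')
  · intro z
    obtain ⟨w, hw⟩ := ((u.sheafAdjunctionContinuous (Type u) J K).homEquiv L (undS K G)).surjective ⟨z⟩
    exact ⟨w.hom, congrArg (fun q : L ⟶ (u.sheafPushforwardContinuous (Type u) J K).obj (undS K G) => q.hom) hw⟩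

lemma trS_right (L : Sheaf J (Type u)) {G G' : Sheaf K AddCommGrpCat.{u}}
    (w : ((u.sheafPullback (Type u) J K).obj L).obj ⟶ (undP K).obj G) (z : G ⟶ G') :
    trS J K u L G' (w ≫ (undP K).map z) = trS J K u L G w ≫ (undP J).map ((CohSite.push K J u).map z) :=
  congrArg (fun q : L ⟶ (u.sheafPushforwardContinuous (Type u) J K).obj (undS K G') => q.hom)
    ((u.sheafAdjunctionContinuous (Type u) J K).homEquiv_naturality_right
      (⟨w⟩ : (u.sheafPullback (Type u) J K).obj L ⟶ undS K G) (⟨(undP K).map z⟩ : undS K G ⟶ undS K G'))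

lemma trS_left {L M : Sheaf J (Type u)} (η : L ⟶ M) (G : Sheaf K AddCommGrpCat.{u})
    (w : ((u.sheafPullback (Type u) J K).obj M).obj ⟶ (undP K).obj G) :
    trS J K u L G (((u.sheafPullback (Type u) J K).map η).hom ≫ w) = η.hom ≫ trS J K u M G w :=
  congrArg (fun q : L ⟶ (u.sheafPushforwardContinuous (Type u) J K).obj (undS K G) => q.hom)
    ((u.sheafAdjunctionContinuous (Type u) J K).homEquiv_naturality_left η
      (⟨w⟩ : (u.sheafPullback (Type u) J K).obj M ⟶ undS K G))

/-- comparison of free sheaves -/
noncomputable def kapS (L : Sheaf J (Type u)) :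
    (frP J).obj L.obj ⟶ (CohSite.push K J u).obj ((frP K).obj ((u.sheafPullback (Type u) J K).obj L).obj) :=
  ((frAdj J).homEquiv _ _).symm (trS J K u L _ ((frAdj K).unit.app _))

lemma homEquiv_kapS (L : Sheaf J (Type u)) {G : Sheaf K AddCommGrpCat.{u}}
    (z : (frP K).obj ((u.sheafPullback (Type u) J K).obj L).obj ⟶ G) :
    (frAdj J).homEquiv _ _ (kapS J K u L ≫ (CohSite.push K J u).map z) =
      trS J K u L G ((frAdj K).homEquiv _ _ z) := by
  rw [(frAdj J).homEquiv_naturality_right, kapS, Equiv.apply_symm_apply, (frAdj K).homEquiv_unit, trS_right]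

/-- maps into a direct image -/
noncomputable def psiS (L : Sheaf J (Type u)) (G : Sheaf K AddCommGrpCat.{u}) :
    ((frP K).obj ((u.sheafPullback (Type u) J K).obj L).obj ⟶ G) ≃+
      ((frP J).obj L.obj ⟶ (CohSite.push K J u).obj G) :=
  haveI : (CohSite.push K J u).Additive := { map_add := rfl }
  AddEquiv.ofBijective (AddMonoidHom.mk' (fun z => kapS J K u L ≫ (CohSite.push K J u).map z)
    fun a b => by rw [CategoryTheory.Functor.map_add, Preadditive.comp_add])
    (by
      refine ⟨fun a b h => ?_, fun y => ?_⟩
      · apply ((frAdj K).homEquiv _ _).injective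
        apply (bijective_trS J K u L G).1
        have h' := congrArg ((frAdj J).homEquiv _ _) h
        exact (homEquiv_kapS J K u L a).symm.trans (h'.trans (homEquiv_kapS J K u L b))
      · obtain ⟨w, hw⟩ := (bijective_trS J K u L G).2 ((frAdj J).homEquiv _ _ y)
        refine ⟨((frAdj K).homEquiv _ _).symm w, ((frAdj J).homEquiv _ _).injective ?_⟩
        refine (homEquiv_kapS J K u L _).trans ?_
        rw [Equiv.apply_symm_apply, hw])

lemma psiS_natural {L M : Sheaf J (Type u)} (η : L ⟶ M) (G : Sheaf K AddCommGrpCat.{u})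
    (z : (frP K).obj ((u.sheafPullback (Type u) J K).obj M).obj ⟶ G) :
    psiS J K u L G ((frP K).map ((u.sheafPullback (Type u) J K).map η).hom ≫ z) =
      (frP J).map η.hom ≫ psiS J K u M G z := by
  apply ((frAdj J).homEquiv _ _).injective
  show (frAdj J).homEquiv _ _ (kapS J K u L ≫ _) = (frAdj J).homEquiv _ _ ((frP J).map η.hom ≫ kapS J K u M ≫ _)
  rw [(frAdj J).homEquiv_naturality_left, homEquiv_kapS, homEquiv_kapS, (frAdj K).homEquiv_naturality_left, trS_left]

/-- whiskering by a composite -/
def whiskerCompIso {A B E : Type*} [Category A] [Category B] [Category E] (F : A ⥤ B) (G : B ⥤ E)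
    (X : SimplicialObject.Augmented A) :
    ((SimplicialObject.Augmented.whiskering B E).obj G).obj (((SimplicialObject.Augmented.whiskering A B).obj F).obj X) ≅
      ((SimplicialObject.Augmented.whiskering A E).obj (F ⋙ G)).obj X :=
  Comma.isoMk (Iso.refl _) (Iso.refl _) (by
    ext n
    simp [SimplicialObject.Augmented.whiskering, SimplicialObject.Augmented.whiskeringObj]
    exact (Category.id_comp _).symm)

theorem aux (hfib : PreservesLimitsOfShape WalkingCospan (u.sheafPullback (Type u) J K))
    (R : Sheaf K RingCat.{u}) (I : SheafOfModules.{u} R) [Injective I] :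
    CohCx.IsTotallyAcyclic ((CohSite.push K J u).obj ((SheafOfModules.toSheaf R).obj I)) := by
  let g := u.sheafPullback (Type u) J K
  let adjT := u.sheafAdjunctionContinuous (Type u) J K
  let e : ∀ L : Sheaf J (Type u), ((g ⋙ sheafToPresheaf K (Type u) ⋙ frM R).obj L ⟶ I) ≃+
      ((frP J).obj L.obj ⟶ (CohSite.push K J u).obj ((SheafOfModules.toSheaf R).obj I)) :=
    fun L => (frMEquiv R _ I).trans (psiS J K u L _)
  refine isTotallyAcyclic_of_sheafEquiv (g ⋙ sheafToPresheaf K (Type u) ⋙ frM R) e (fun {L M} η x => ?_)
    fun K' K₀ f hf => ?_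
  · show psiS J K u L _ (frMEquiv R _ I ((frM R).map (g.map η).hom ≫ x)) = _
    rw [frMEquiv_natural]
    exact psiS_natural J K u η _ _
  · haveI := hf
    haveI := hfib
    haveI : g.IsLeftAdjoint := adjT.isLeftAdjoint
    haveI : Epi (g.map f) := g.map_epi f
    haveI := quasiIso_frM_cech R (g.map f)
    exact quasiIso_ε_of_iso
      (X := ((SimplicialObject.Augmented.whiskering _ _).obj (sheafToPresheaf K (Type u) ⋙ frM R)).obj
        (Arrow.mk (g.map f)).augmentedCechNerve)
      (((SimplicialObject.Augmented.whiskering _ _).obj (sheafToPresheaf K (Type u) ⋙ frM R)).mapIso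
          (nerveCompIso g (Arrow.mk f)).symm ≪≫
        whiskerCompIso _ _ _)
end


/-- Suppose the functor of sites u : C → D is both continuous and cocontinuous (sites with fibre
products; u sends coverings to coverings and commutes with fibre products), g the associated
morphism of topoi (g⁻¹ is precomposition with u, and g_! on sheaves of sets is the sheaf pullback
along u), O_D a sheaf of rings on D and I an injective O_D-module. If g_! commutes with fibre
products then the abelian sheaf g⁻¹ I is totally acyclic. Stated for a sheaf of commutative rings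
O_D. -/
theorem result
    {C : Type u} [SmallCategory C] [HasPullbacks C] (J : GrothendieckTopology C)
    {D : Type u} [SmallCategory D] [HasPullbacks D] (K : GrothendieckTopology D)
    (u : C ⥤ D) (hu : CoverPreserving J K u) [PreservesLimitsOfShape WalkingCospan u]
    [u.IsContinuous J K] [u.IsCocontinuous J K]
    (hfib : PreservesLimitsOfShape WalkingCospan (u.sheafPullback (Type u) J K))
    (O_D : Sheaf K CommRingCat.{u}) (I : ModSite.Mod O_D) (hI : Injective I) :
    CohCx.IsTotallyAcyclic ((u.sheafPushforwardContinuous AddCommGrpCat.{u} J K).obj (ModSite.toAb I)) := by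
  haveI := hI
  exact aux J K u hfib (ModSite.ringSh O_D) I

end Groth.Agent.S9044
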