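import Groth.Statements.S9047
import Groth.Agent.Lib.DCompact16.Ext
import Groth.Agent.Lib.CohColim16.Collection
import Groth.Agent.Lib.SiteRlim16.Instances
import Groth.Agent.Lib.AcyclicSum8.Sum

set_option autoImplicit false
universe u
open CategoryTheory CategoryTheory.Limits Opposite
open ModSite

namespace Groth.Agent.S9047

/-- Let (C, O) be a ringed site with fibre products, B a class of objects and Cov a class of finite
covering families such that (1) for a family in Cov over U, U and all iterated fibre products of its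
members lie in B, and (2) every covering sieve of a member of B contains a family from Cov. Then for
U in B the module j_{U!} O_U behaves as a compact object of D^+(O), meaning: for every family (M_i)
of objects of D(O) which is uniformly bounded below and whose direct sum exists, ⊕_i Hom(j_{U!} O_U,
M_i) → Hom(j_{U!} O_U, ⊕_i M_i) is bijective. The derived category of O-modules is an instance
hypothesis. -/
theorem result
    {C : Type u} [SmallCategory C] [HasPullbacks C] {J : GrothendieckTopology C} (O : Sheaf J CommRingCat.{u})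
    (B : Set C) (Cov : ∀ (U : C) (ι : Type u), (ι → Over U) → Prop)
    (h1 : ∀ (U : C) (ι : Type u) (Y : ι → Over U), Cov U ι Y → Finite ι ∧ U ∈ B ∧
      Sieve.ofArrows (fun i => (Y i).left) (fun i => (Y i).hom) ∈ J U ∧
      ∀ (p : ℕ) (a : Fin (p + 1) → ι), (∏ᶜ fun k => Y (a k)).left ∈ B)
    (h2 : ∀ U ∈ B, ∀ T ∈ J U, ∃ (ι : Type u) (Y : ι → Over U), Cov U ι Y ∧ ∀ i, T.arrows (Y i).hom)
    [HasDerivedCategory.{u} (ModSite.Mod O)]
    (U : C) (hU : U ∈ B) {I : Type u} (M : I → DerivedCategory (ModSite.Mod O)) [HasCoproduct M]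
    (a : ℤ) (hM : ∀ i, (M i).IsGE a) :
    Function.Bijective (CohDer.homSumToHomCoprod
      ((DerivedCategory.singleFunctor (ModSite.Mod O) 0).obj (ModSite.freeOn O U)) M) := by
  classical
  have hq : FinPres16.QcAt J U := by
    intro S hS
    obtain ⟨ι, Y, hY, hYS⟩ := h2 U hU S hS
    haveI := (h1 U ι Y hY).1
    haveI := Fintype.ofFinite ι
    exact ⟨ι, inferInstance, fun i => (Y i).left, fun i => (Y i).hom, hYS, (h1 U ι Y hY).2.2.1⟩
  refine DCompact16.bijective_homSum _ M fun f =>
    DCompact16.finFac_singleFunctor_of_isGE (ModSite.freeOn O U) M a hM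
      (fun F g => DCompact16.finFac_freeOn O hq F g) (fun F hF => ?_) f
  refine DCompact16.isHomAcyclic_of_ext _ _ fun k hk => SiteRlim.subsingleton_ext_freeOn O U _ k ?_
  let G := (Sheaf.cohomologyPresheafFunctor J k).flip.obj (op U)
  haveI : PreservesColimitsOfShape (Finset (Discrete I)) G :=
    ⟨fun {D} => CohColim16.preservesColimit_cohomology B Cov h1 h2 hU k D⟩
  haveI : G.Additive :=
    { map_add := fun {X Y f g} => AddCommGrpCat.ext fun x =>
        (congrArg (fun z => Abelian.Ext.comp x z (add_zero k)) (Abelian.Ext.mk₀_add f g)).trans (Abelian.Ext.comp_add _ _ _ _) }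
  haveI : PreservesColimit (Discrete.functor fun t => (SheafOfModules.toSheaf.{u} (ModSite.ringSh O)).obj (F t)) G :=
    AcyclicSum8.preservesColimit_discrete G _
  haveI : PreservesColimit (Discrete.functor F ⋙ SheafOfModules.toSheaf.{u} (ModSite.ringSh O)) G :=
    preservesColimit_of_iso_diagram G (Discrete.natIso fun _ => Iso.refl _ :
      Discrete.functor (fun t => (SheafOfModules.toSheaf.{u} (ModSite.ringSh O)).obj (F t)) ≅ Discrete.functor F ⋙ SheafOfModules.toSheaf.{u} (ModSite.ringSh O))
  haveI : PreservesColimit (Discrete.functor F) (SheafOfModules.toSheaf.{u} (ModSite.ringSh O) ⋙ G) :=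
    inferInstance
  refine AddCommGrpCat.subsingleton_of_isZero
    (DCompact16.isZero_obj_sigma F (SheafOfModules.toSheaf.{u} (ModSite.ringSh O) ⋙ G) fun t => ?_)
  haveI := hF t
  obtain ⟨n, rfl⟩ : ∃ n, n + 1 = k := ⟨k - 1, by omega⟩
  haveI : Subsingleton ((SheafOfModules.toSheaf.{u} (ModSite.ringSh O) ⋙ G).obj (F t)) :=
    SiteCoh.subsingleton_HU_of_totallyAcyclic (SiteCoh.isTotallyAcyclic_injective _ (F t)) U n
  exact AddCommGrpCat.isZero_of_subsingleton _

end Groth.Agent.S9047
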