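import Groth.Statements.S9048
import Groth.Agent.Lib.SiteCoh.ModuleExt

set_option autoImplicit false
universe u
open CategoryTheory CategoryTheory.Limits Opposite
open ModSite

namespace Groth.Agent.S9048
set_option linter.style.haveILetI false
set_option backward.isDefEq.respectTransparency false
set_option backward.isDefEq.respectTransparency.types false
open CategoryTheory CategoryTheory.Limits Groth.Agent.SiteCoh in
theorem aux {C : Type u} [SmallCategory C] {J : GrothendieckTopology C} (R : Sheaf J RingCat.{u})
    [HasExt.{u} (SheafOfModules.{u} R)] (K : Sheaf J (Type u)) (M : SheafOfModules.{u} R) (p : ℕ) :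
    Nonempty (Abelian.Ext ((frM R).obj K.obj) M p ≃+
      Abelian.Ext ((frP J).obj K.obj) ((SheafOfModules.toSheaf R).obj M) p) := by
  haveI : PreservesFiniteColimits (SheafOfModules.toSheaf R) :=
    haveI : PreservesColimitsOfSize.{u, u} (SheafOfModules.toSheaf R) := ⟨inferInstance⟩
    PreservesColimitsOfSize.preservesFiniteColimits _
  have h0 : ∀ (Y : SheafOfModules.{u} R) (x : (frM R).obj K.obj ⟶ Y),
      frMEquiv R K.obj _ (𝟙 _) ≫ (SheafOfModules.toSheaf R).map x = frMEquiv R K.obj Y x := fun Y x => by
    refine ((frAdj J).homEquiv_naturality_right_symm _ _).symm.trans ?_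
    refine congrArg ((frAdj J).homEquiv _ _).symm ?_
    ext V t
    rfl
  exact ⟨AddEquiv.ofBijective _ (bijective_extCompHom (R := SheafOfModules.toSheaf R)
    (frMEquiv R K.obj _ (𝟙 _))
    (fun Y => by
      rw [show (fun f : (frM R).obj K.obj ⟶ Y => frMEquiv R K.obj _ (𝟙 _) ≫ (SheafOfModules.toSheaf R).map f) =
        frMEquiv R K.obj Y from funext (h0 Y)]
      exact (frMEquiv R K.obj Y).bijective)
    (fun I hI k => isTotallyAcyclic_injective R I K k) p M)⟩


/-- On a ringed site (C, O), for a sheaf of sets K and an O-module F with underlying abelian sheaf F_ab,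
the cohomology groups H^p(K, F) computed on Mod(O) — the derived functors of F ↦ Mor(K, F), i.e. the
Ext groups out of the free O-module O[K] on K — agree with H^p(K, F_ab) computed on abelian sheaves.
Stated as the existence of a group isomorphism; the Ext groups of Mod(O) are an instance hypothesis. -/
theorem result
    {C : Type u} [SmallCategory C] {J : GrothendieckTopology C} (O : Sheaf J CommRingCat.{u})
    [HasExt.{u} (ModSite.Mod O)] (K : Sheaf J (Type u)) (F : ModSite.Mod O) (p : ℕ) :
    Nonempty (Abelian.Ext ((ModSite.sheafify O).obj ((PresheafOfModules.free (ModSite.ringSh O).obj).obj K.obj)) F p ≃+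
      CohCx.HK K (ModSite.toAb F) p) := by
  exact aux (ModSite.ringSh O) K F p

end Groth.Agent.S9048
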