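import Groth.Statements.S9065
import Groth.Agent.Lib.SiteCmp16.RpushTrunc

set_option autoImplicit false
universe u
open CategoryTheory CategoryTheory.Limits Opposite
attribute [local instance] HasDerivedCategory.standard
open SiteCmp

namespace Groth.Agent.S9065
set_option linter.style.haveILetI false
set_option backward.isDefEq.respectTransparency false
set_option backward.isDefEq.respectTransparency.types false
attribute [local instance] HasDerivedCategory.standard


/-- Let f be a morphism from the ringed site (C, O_C) to the ringed site (D, O_D), A ⊂ Mod(O_C) and A' ⊂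
Mod(O_D) weak Serre subcategories and N an integer such that (1) C, O_C, A and (2) D, O_D, A' each
admit a set of objects covering everything, every member V of which has an integer d_V and a cofinal
system of coverings {V_i → V} with H^p(V_i, F) = 0 for F in the subcategory and p > d_V; (3) R^p f_*
F ∈ A' for p ≥ 0 and F ∈ A; (4) R^p f_* F = 0 for p > N and F ∈ A. Then for K in D_A(O_C): (a) Rf_*K
lies in D_{A'}(O_D), and (b) H^j(Rf_*K) → H^j(Rf_*(τ_{≥ -n}K)) is an isomorphism for j ≥ N - n.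
Stated for morphisms of ringed sites (the published statement is for ringed topoi); Rf_* is the
unbounded total derived direct image, under its existence binder, and R^p f_* the right derived
functors of f_*. -/
theorem result
    {C : Type u} [SmallCategory C] {J : GrothendieckTopology C} {O_C : Sheaf J CommRingCat.{u}}
    {D : Type u} [SmallCategory D] {K : GrothendieckTopology D} {O_D : Sheaf K CommRingCat.{u}}
    (f : ModSite.RMor O_C O_D) [HasInjectiveResolutions (ModSite.Mod O_C)] [SiteCmp.HasRpushD f]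
    (A : ObjectProperty (ModSite.Mod O_C)) [WSerre.IsWeakSerre A]
    (A' : ObjectProperty (ModSite.Mod O_D)) [WSerre.IsWeakSerre A']
    (B : Set C) (B' : Set D)
    (hB : ∀ U : C, ∃ (ι : Type u) (Y : ι → C) (g : ∀ i, Y i ⟶ U), Sieve.ofArrows Y g ∈ J U ∧ ∀ i, Y i ∈ B)
    (hA : ∀ V ∈ B, ∃ d : ℕ, ∀ T ∈ J V, ∃ (ι : Type u) (Y : ι → C) (g : ∀ i, Y i ⟶ V),
      (∀ i, T.arrows (g i)) ∧ Sieve.ofArrows Y g ∈ J V ∧
      ∀ (i : ι) (F : ModSite.Mod O_C), A F → ∀ k : ℕ, d < k → Subsingleton (ModSite.HU O_C F k (Y i)))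
    (hB' : ∀ U : D, ∃ (ι : Type u) (Y : ι → D) (g : ∀ i, Y i ⟶ U), Sieve.ofArrows Y g ∈ K U ∧ ∀ i, Y i ∈ B')
    (hA' : ∀ V ∈ B', ∃ d : ℕ, ∀ T ∈ K V, ∃ (ι : Type u) (Y : ι → D) (g : ∀ i, Y i ⟶ V),
      (∀ i, T.arrows (g i)) ∧ Sieve.ofArrows Y g ∈ K V ∧
      ∀ (i : ι) (F : ModSite.Mod O_D), A' F → ∀ k : ℕ, d < k → Subsingleton (ModSite.HU O_D F k (Y i)))
    (N : ℤ)
    (h3 : ∀ F : ModSite.Mod O_C, A F → ∀ p : ℕ, A' ((f.Rpush p).obj F))
    (h4 : ∀ F : ModSite.Mod O_C, A F → ∀ p : ℕ, N < (p : ℤ) → IsZero ((f.Rpush p).obj F))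
    (X : DerivedCategory (ModSite.Mod O_C)) (hX : WSerre.cohIn A X) :
    WSerre.cohIn A' ((SiteCmp.RpushD f).obj X) ∧
      ∀ (n : ℕ) (j : ℤ), N - (n : ℤ) ≤ j →
        IsIso ((DerivedCategory.homologyFunctor (ModSite.Mod O_D) j).map
          ((SiteCmp.RpushD f).map ((DerivedCategory.TStructure.t.truncGEπ (-(n : ℤ))).app X))) := by
  have hR : ∀ [HasProduct (CohCx.truncTower X)],
      CohCx.IsRlimVia (CohCx.truncTower X) (CohCx.truncTowerMap X) X (CohCx.toTruncTower X) :=
    Groth.Agent.RpushTrunc.isRlimVia_truncTower_of_dim X B hB fun V hV => by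
      obtain ⟨d, hd⟩ := hA V hV
      refine ⟨d, fun T hT => ?_⟩
      obtain ⟨ι, Y, g, h₁, h₂, h₃'⟩ := hd T hT
      exact ⟨ι, Y, g, h₁, h₂, fun i q k hk => h₃' i _ (hX q) k hk⟩
  obtain ⟨_, _⟩ := Groth.Agent.SitePAdj.exists_commShift_isTriangulated_rpushD f
  let F := fun n : ℕ => (SiteCmp.RpushD f).obj (CohCx.truncTower X n)
  have hsingle : ∀ M, A M → WSerre.cohIn A' ((SiteCmp.RpushD f).obj (SiteCmp.inD O_C M)) := by
    intro M hM q
    by_cases hq : q < 0
    · obtain ⟨Z, hZ, hZ'⟩ := A'.exists_prop_of_containsZero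
      haveI := Groth.Agent.RpushTrunc.isGE_rpushD f (SiteCmp.inD O_C M) 0 inferInstance
      exact A'.prop_of_iso (hZ.iso (DerivedCategory.isZero_of_isGE _ 0 q hq)) hZ'
    · obtain ⟨p, rfl⟩ := Int.eq_ofNat_of_zero_le (not_lt.1 hq)
      obtain ⟨e⟩ := Groth.Agent.RpushTrunc.nonempty_homology_inD_iso f M p
      exact A'.prop_of_iso e.symm (h3 M hM p)
  have hE : ∀ n : ℕ, (CohCx.truncTower X n).IsGE (-(n : ℤ)) := fun n =>
    (inferInstance : DerivedCategory.TStructure.t.IsGE ((DerivedCategory.TStructure.t.truncGE (-(n : ℤ))).obj X) _)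
  have hF : ∀ n, WSerre.cohIn A' (F n) := fun n => by
    refine Groth.Agent.WayOut.cohIn_obj_of_isGE A' A (SiteCmp.RpushD f)
      (fun Y m hY => Groth.Agent.RpushTrunc.isGE_rpushD f Y m hY) hsingle _ (-(n : ℤ)) (hE n) (fun q => ?_)
    by_cases hq : -(n : ℤ) ≤ q
    · haveI := Groth.Agent.SiteRlim.isIso_homology_toTruncTower X n q hq
      exact A.prop_of_iso (asIso ((DerivedCategory.homologyFunctor _ q).map (CohCx.toTruncTower X n))) (hX q)
    · obtain ⟨Z, hZ, hZ'⟩ := A.exists_prop_of_containsZero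
      exact A.prop_of_iso (hZ.iso (Groth.Agent.SiteRlim.isZero_homology_truncTower X n q (by omega))) hZ'
  have key : ∀ (n : ℕ) (j : ℤ), N - (n : ℤ) ≤ j →
      IsIso ((DerivedCategory.homologyFunctor (ModSite.Mod O_D) j).map
        ((SiteCmp.RpushD f).map ((DerivedCategory.TStructure.t.truncGEπ (-(n : ℤ))).app X))) := by
    refine Groth.Agent.RpushTrunc.isIso_homology_rpushD_truncGE f X hR N (fun i p hp => h4 _ (hX i) p hp) B' hB'
      (fun m V hV => ?_)
    obtain ⟨d, hd⟩ := hA' V hV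
    refine ⟨(Finset.Icc (m - 1 - d) (m + 1)).sup (fun q => (N - q).toNat), fun T hT => ?_⟩
    obtain ⟨ι, Y, g, h₁, h₂, h₃'⟩ := hd T hT
    exact ⟨ι, Y, g, h₁, h₂, fun i => Groth.Agent.SiteRlim.stable_of_cohIn.{u + 1, u} A' hF
      (fun n => ⟨-(n : ℤ), Groth.Agent.RpushTrunc.isGE_rpushD f _ _ (hE n)⟩)
      (fun q => (N - q).toNat) (fun q n hn => Groth.Agent.RpushTrunc.isIso_homology_tower f X N
        (fun i p hp => h4 _ (hX i) p hp) n q (by omega)) m d
      (fun F hF k hk => Groth.Agent.SiteRlim.subsingleton_ext_freeOn O_D _ F k (h₃' i F hF k hk))⟩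
  refine ⟨fun j => ?_, key⟩
  haveI := key (N - j).toNat j (by omega)
  exact A'.prop_of_iso (asIso ((DerivedCategory.homologyFunctor (ModSite.Mod O_D) j).map
    ((SiteCmp.RpushD f).map ((DerivedCategory.TStructure.t.truncGEπ (-(((N - j).toNat : ℕ) : ℤ))).app X)))).symm
      (hF (N - j).toNat j)

end Groth.Agent.S9065
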