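import Groth.Statements.S9071
import Groth.Agent.Lib.SiteCmp16.Eps
import Groth.Agent.S9080

set_option autoImplicit false
universe u
open CategoryTheory CategoryTheory.Limits Opposite
attribute [local instance] HasDerivedCategory.standard
open SiteCmp

namespace Groth.Agent.S9071
set_option linter.style.haveILetI false
set_option backward.isDefEq.respectTransparency false
set_option backward.isDefEq.respectTransparency.types false
attribute [local instance] HasDerivedCategory.standard


/-- Let τ' be a coarser topology than τ on a category C, O a τ-sheaf of rings and ε the comparison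
morphism from (C_τ, O) to (C_τ', O). Let B be a set of objects and A a full subcategory of
presheaves of O-modules such that (1) every object of A is a τ-sheaf, (2) A forms a weak Serre
subcategory inside Mod(O_τ), (3) each object of C admits a τ'-covering by members of B, and (4)
H^p_τ(U, F) = 0 for U ∈ B, F ∈ A, p > 0. Then the essential image of A under ε_* forms a weak Serre
subcategory inside Mod(O_τ') and ε^*, Rε_* are quasi-inverse equivalences between D_A(O_τ') and
D_A(O_τ): on objects with cohomology sheaves in the respective subcategory, ε^* and Rε_* preserve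
that condition and the unit and counit are isomorphisms. In the order of topologies used here the
finer topology τ is the larger one, J, and τ' is J' ≤ J; A is given as a property of τ-sheaves of
modules (condition (1) built in); flatness of ε, existence of the unbounded Rε_* and an adjunction
ε^* ⊣ Rε_* are hypotheses. -/
theorem result
    {C : Type u} [SmallCategory C] {J J' : GrothendieckTopology C} (h : J' ≤ J) (O : Sheaf J CommRingCat.{u})
    [PreservesFiniteLimits (SiteCmp.eps h O).pull] [SiteCmp.HasRpushD (SiteCmp.eps h O)]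
    (adj : SiteCmp.pullD (SiteCmp.eps h O) ⊣ SiteCmp.RpushD (SiteCmp.eps h O))
    (A : ObjectProperty (ModSite.Mod O)) [WSerre.IsWeakSerre A] (B : Set C)
    (h3 : ∀ U : C, ∃ (ι : Type u) (Y : ι → C) (g : ∀ i, Y i ⟶ U), Sieve.ofArrows Y g ∈ J' U ∧ ∀ i, Y i ∈ B)
    (h4 : ∀ U ∈ B, ∀ F : ModSite.Mod O, A F → ∀ p : ℕ, 0 < p → Subsingleton (ModSite.HU O F p U)) :
    WSerre.IsWeakSerre (A.map (SiteCmp.eps h O).push) ∧
    (∀ Y : DerivedCategory (ModSite.Mod (SiteCmp.epsRing h O)), WSerre.cohIn (A.map (SiteCmp.eps h O).push) Y →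
      WSerre.cohIn A ((SiteCmp.pullD (SiteCmp.eps h O)).obj Y) ∧ IsIso (adj.unit.app Y)) ∧
    (∀ X : DerivedCategory (ModSite.Mod O), WSerre.cohIn A X →
      WSerre.cohIn (A.map (SiteCmp.eps h O).push) ((SiteCmp.RpushD (SiteCmp.eps h O)).obj X) ∧
      IsIso (adj.counit.app X)) := by
  open Groth.Agent.EpsCmp in
  haveI hW := isWeakSerre_map h O A B h3 h4
  let ε := (SiteCmp.eps h O).push
  let p := (SiteCmp.eps h O).pull
  let a := (SiteCmp.eps h O).adj
  haveI : IsIso a.counit := a.counit_isIso_of_R_fully_faithful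
  have refine_B : ∀ (K : GrothendieckTopology C), J' ≤ K → ∀ (V : C) (T : Sieve V), T ∈ K V →
      ∃ (ι : Type u) (Y : ι → C) (g : ∀ i, Y i ⟶ V),
        (∀ i, T.arrows (g i)) ∧ Sieve.ofArrows Y g ∈ K V ∧ ∀ i, Y i ∈ B := by
    intro K hK V T hT
    refine ⟨{ q : Σ W : C, (W ⟶ V) // q.1 ∈ B ∧ T q.2 }, fun q => q.1.1, fun q => q.1.2,
      fun q => q.2.2, ?_, fun q => q.2.1⟩
    choose ι Y g hg hY using h3
    refine K.superset_covering ?_ (K.bind_covering hT fun W r _ => hK W (hg W))
    rintro W r ⟨W', s, r', hr', ⟨_, x, y, ⟨i⟩, rfl⟩, rfl⟩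
    exact ⟨_, x, g W' i ≫ r',
      Presieve.ofArrows.mk (ι := { q : Σ W : C, (W ⟶ V) // q.1 ∈ B ∧ T q.2 })
        ⟨⟨_, g W' i ≫ r'⟩, hY W' i, T.downward_closed hr' _⟩,
      (Category.assoc _ _ _).symm⟩
  refine ⟨hW, Groth.Agent.S9080.result (SiteCmp.eps h O) adj A (A.map ε) ?_ ?_ ?_
    (fun F' hF' => Groth.Agent.EpsCmp.isIso_unit_inD h O A B h3 h4 adj F' hF') B B ?_ ?_ h3 ?_⟩
  · rintro F' ⟨F, hF, ⟨e⟩⟩
    exact A.prop_of_iso ((asIso (a.counit.app F)).symm ≪≫ p.mapIso e) hF
  · rintro F' G' hF' ⟨G, hG, ⟨e⟩⟩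
    have : (fun φ : F' ⟶ G' => p.map φ) =
        (fun k => k ≫ inv (p.map e.symm.hom ≫ a.counit.app G)) ∘ (a.homEquiv F' G).symm ∘ (fun φ => φ ≫ e.inv) := by
      funext φ
      simp [Adjunction.homEquiv_counit, p, a]
    rw [this]
    exact ((asIso (p.map e.symm.hom ≫ a.counit.app G)).symm.homToEquiv.bijective).comp
      ((Equiv.bijective _).comp (e.symm.homToEquiv.bijective))
  · exact fun F hF => ⟨ε.obj F, A.prop_map_obj ε hF, ⟨asIso (a.counit.app F)⟩⟩
  · intro U
    obtain ⟨ι, Y, g, hg, hY⟩ := h3 U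
    exact ⟨ι, Y, g, h U hg, hY⟩
  · intro V _
    refine ⟨0, fun T hT => ?_⟩
    obtain ⟨ι, Y, g, h₁, h₂, h₃⟩ := refine_B J h V T hT
    exact ⟨ι, Y, g, h₁, h₂, fun i F hF k hk => h4 _ (h₃ i) F hF k hk⟩
  · intro V _
    refine ⟨0, fun T hT => ?_⟩
    obtain ⟨ι, Y, g, h₁, h₂, h₃⟩ := refine_B J' le_rfl V T hT
    exact ⟨ι, Y, g, h₁, h₂, fun i F hF k hk => h4 _ (h₃ i) F hF k hk⟩

end Groth.Agent.S9071
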