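import Groth.Statements.S9072
import Groth.Agent.Lib.KInj.DerivedAdj
import Groth.Agent.Lib.CohFound.ModulesInst

set_option autoImplicit false
universe u
open CategoryTheory CategoryTheory.Limits Opposite
attribute [local instance] HasDerivedCategory.standard
open SiteCmp

namespace Groth.Agent.S9072
set_option linter.style.haveILetI false
set_option backward.isDefEq.respectTransparency false
set_option backward.isDefEq.respectTransparency.types false
attribute [local instance] HasDerivedCategory.standard


/-- Let f be a flat morphism from the ringed site (C, O_C) to the ringed site (D, O_D), so that the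
derived pullback is f^* applied termwise, and let Rf_* be the total derived direct image on
unbounded derived categories (its existence is an instance hypothesis). Then f^* and Rf_* are
adjoint: there is an adjunction f^* ⊣ Rf_* between D(O_D) and D(O_C). Only the existence of an
adjunction is asserted; the published statement covers arbitrary morphisms of ringed topoi with
Lf^*. -/
theorem result
    {C : Type u} [SmallCategory C] {J : GrothendieckTopology C} {O_C : Sheaf J CommRingCat.{u}}
    {D : Type u} [SmallCategory D] {K : GrothendieckTopology D} {O_D : Sheaf K CommRingCat.{u}}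
    (f : ModSite.RMor O_C O_D) [PreservesFiniteLimits f.pull] [SiteCmp.HasRpushD f] :
    Nonempty (SiteCmp.pullD f ⊣ SiteCmp.RpushD f) := by
  open Groth.Agent.KInjLib in
  exact ⟨derivedAdj (W := HomotopyCategory.quasiIso (ModSite.Mod O_C) (ComplexShape.up ℤ))
    (L := DerivedCategory.Qh) (L' := DerivedCategory.Qh)
    (HomotopyCategory.quasiIso (ModSite.Mod O_D) (ComplexShape.up ℤ))
    (adjHomotopy f.adj (ComplexShape.up ℤ)) (SiteCmp.pullD f) f.pull.mapDerivedCategoryFactorsh
    ((SiteCmp.pushKh f).totalRightDerivedUnit DerivedCategory.Qh
      (HomotopyCategory.quasiIso (ModSite.Mod O_C) (ComplexShape.up ℤ)))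
    (derivingClass_Qh (enoughKInj_of_grothendieck (A := ModSite.Mod O_C)))
    (fun I hI => isIso_unit_of_kInjObj (enoughKInj_of_grothendieck (A := ModSite.Mod O_C)) _ I hI)⟩

end Groth.Agent.S9072
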