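import Groth.Statements.S9078
import Groth.Agent.Lib.RelRes16.Basic
import Groth.Agent.Lib.ModFlat16.Generators
import Groth.Agent.Lib.KFlat.Resolution

set_option autoImplicit false
universe u
open CategoryTheory CategoryTheory.Limits Opposite
attribute [local instance] HasDerivedCategory.standard
open ModSite

namespace Groth.Agent.S9078
set_option linter.style.haveILetI false
set_option backward.isDefEq.respectTransparency false
set_option backward.isDefEq.respectTransparency.types false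
variable {C : Type u} [SmallCategory C] {J : GrothendieckTopology C} (O : Sheaf J CommRingCat.{u})

/-- Sums of modules `j_{U!} O_U`. -/
def FreeSum (X : ModSite.Mod O) : Prop :=
  ∃ (ι : Type u) (U : ι → C), Nonempty (X ≅ ∐ fun j => ModSite.freeOn O (U j))

theorem freeSum_of_isZero (Z : ModSite.Mod O) (hZ : IsZero Z) : FreeSum O Z := by
  refine ⟨PEmpty.{u + 1}, fun j => j.elim, ⟨hZ.iso ?_⟩⟩
  rw [IsZero.iff_id_eq_zero]
  exact Sigma.hom_ext _ _ fun j => j.elim

theorem freeSum_biprod {X Y : ModSite.Mod O} (hX : FreeSum O X) (hY : FreeSum O Y) : FreeSum O (X ⊞ Y) := by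
  obtain ⟨ι, U, ⟨e⟩⟩ := hX
  obtain ⟨κ, V, ⟨f⟩⟩ := hY
  let g : ι ⊕ κ → ModSite.Mod O := fun j => ModSite.freeOn O (Sum.elim U V j)
  refine ⟨ι ⊕ κ, Sum.elim U V, ⟨biprod.mapIso e f ≪≫
    { hom := biprod.desc (Sigma.desc fun i => Sigma.ι g (Sum.inl i)) (Sigma.desc fun i => Sigma.ι g (Sum.inr i))
      inv := Sigma.desc fun j => match j with
        | Sum.inl i => Sigma.ι (fun i => ModSite.freeOn O (U i)) i ≫ biprod.inl
        | Sum.inr i => Sigma.ι (fun i => ModSite.freeOn O (V i)) i ≫ biprod.inr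
      hom_inv_id := by
        apply biprod.hom_ext' <;> apply Sigma.hom_ext <;> intro i <;> simp [g]
      inv_hom_id := by
        apply Sigma.hom_ext
        rintro (i | i) <;> simp [g] }⟩⟩

theorem exists_freeSum_epi (X : ModSite.Mod O) : ∃ (Y : ModSite.Mod O) (π : Y ⟶ X), FreeSum O Y ∧ Epi π := by
  let T := Σ U : C, X.val.obj (op U)
  refine ⟨∐ fun t : T => ModSite.freeOn O t.1, Sigma.desc fun t => (Groth.Agent.ModFlat16.freeOnHom O t.1 X).symm t.2,
    ⟨T, fun t => t.1, ⟨Iso.refl _⟩⟩, ⟨fun {N} g h hgh => ?_⟩⟩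
  refine Groth.Agent.ModFlat16.hom_ext_of_generating (Set.univ : Set C) (fun U => ⟨PUnit.{u + 1}, fun _ => U,
    fun _ => 𝟙 U, ?_, fun _ => trivial⟩) fun U _ x => ?_
  · refine J.superset_covering (fun V q _ => ?_) (J.top_mem U)
    exact ⟨U, q, 𝟙 U, ⟨PUnit.unit⟩, Category.comp_id _⟩
  · have h1 := congrArg (fun k => Sigma.ι (fun t : T => ModSite.freeOn O t.1) ⟨U, x⟩ ≫ k) hgh
    simp only [Sigma.ι_desc_assoc] at h1
    have h2 := congrArg (Groth.Agent.ModFlat16.freeOnHom O U N) h1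
    rwa [Groth.Agent.ModFlat16.freeOnHom_comp, Groth.Agent.ModFlat16.freeOnHom_comp,
      Equiv.apply_symm_apply] at h2

variable (G : CochainComplex (ModSite.Mod O) ℤ)

/-- Comparison of truncations. -/
noncomputable def step {a b : ℤ} (h : a ≤ b) : G.truncLE a ⟶ G.truncLE b :=
  have : (G.truncLE a).IsStrictlyLE b := CochainComplex.isStrictlyLE_of_le _ a _ h
  have : IsIso ((G.truncLE a).ιTruncLE b) := inferInstanceAs (IsIso (HomologicalComplex.ιTruncLE _ _))
  inv ((G.truncLE a).ιTruncLE b) ≫ CochainComplex.truncLEMap (G.ιTruncLE a) b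

theorem step_ι {a b : ℤ} (h : a ≤ b) : step O G h ≫ G.ιTruncLE b = G.ιTruncLE a := by
  have : (G.truncLE a).IsStrictlyLE b := CochainComplex.isStrictlyLE_of_le _ a _ h
  have : IsIso ((G.truncLE a).ιTruncLE b) := inferInstanceAs (IsIso (HomologicalComplex.ιTruncLE _ _))
  rw [step, Category.assoc, CochainComplex.ιTruncLE_naturality]
  exact IsIso.inv_hom_id_assoc _ _

/-- A stage of the system. -/
structure Stage (n : ℕ) where
  /-- the complex -/
  K : CochainComplex (ModSite.Mod O) ℤ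
  /-- the map -/
  π : K ⟶ G.truncLE ((n : ℤ) + 1)
  le : K.IsStrictlyLE ((n : ℤ) + 1)
  free : ∀ i, FreeSum O (K.X i)
  qis : QuasiIso π
  epi : ∀ i, Epi (π.f i)

theorem exists_next {n : ℕ} (S : Stage O G n) :
    ∃ (T : Stage O G (n + 1)) (ι : S.K ⟶ T.K), ι ≫ T.π ≫ G.ιTruncLE (((n + 1 : ℕ) : ℤ) + 1) =
      S.π ≫ G.ιTruncLE ((n : ℤ) + 1) ∧
      ∀ i, ∃ r : T.K.X i ⟶ S.K.X i, ι.f i ≫ r = 𝟙 _ ∧ FreeSum O (cokernel (ι.f i)) := by
  have hle : (n : ℤ) + 1 ≤ ((n + 1 : ℕ) : ℤ) + 1 := by lia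
  haveI := S.le
  haveI : S.K.IsStrictlyLE (((n + 1 : ℕ) : ℤ) + 1) := CochainComplex.isStrictlyLE_of_le _ ((n : ℤ) + 1) _ hle
  obtain ⟨K', ι, π, hw, hq, he, hK, hfree, hs⟩ := Groth.Agent.RelRes16.exists_rel_resolution
    (freeSum_of_isZero O) (fun {X Y} e ⟨ι, U, ⟨f⟩⟩ => ⟨ι, U, ⟨e.symm ≪≫ f⟩⟩) (freeSum_biprod O)
    (exists_freeSum_epi O) (S.π ≫ step O G hle) (((n + 1 : ℕ) : ℤ) + 1) S.free
  refine ⟨⟨K', π, hK, hfree, hq, he⟩, ι, ?_, hs⟩
  rw [reassoc_of% hw, step_ι]

theorem exists_zero_stage : Nonempty (Stage O G 0) := by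
  obtain ⟨K, π, hK, hfree, he, hq⟩ := Groth.Agent.ClassRes.exists_leftResolution_epi
    ⟨_, isZero_zero _, freeSum_of_isZero O _ (isZero_zero _)⟩ (exists_freeSum_epi O)
    (G.truncLE (((0 : ℕ) : ℤ) + 1)) (((0 : ℕ) : ℤ) + 1)
  exact ⟨⟨K, π, hK, hfree, hq, he⟩⟩

/-- The system of stages. -/
noncomputable def stage : (n : ℕ) → Stage O G n
  | 0 => (exists_zero_stage O G).some
  | n + 1 => (exists_next O G (stage n)).choose

/-- The transition maps. -/
noncomputable def trans (n : ℕ) : (stage O G n).K ⟶ (stage O G (n + 1)).K :=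
  (exists_next O G (stage O G n)).choose_spec.choose


/-- Let (C, O) be a ringed site and G a complex of O-modules. There is a commutative diagram of
complexes K_1 → K_2 → … over τ_{≤1}G → τ_{≤2}G → … such that (1) the vertical maps K_n → τ_{≤n}G are
termwise surjective quasi-isomorphisms, (2) every K_n is bounded above with terms direct sums of
modules of the form j_{U!}O_U, (3) each K_n → K_{n+1} is split injective in every degree, with
cokernel in each degree a direct sum of modules j_{U!}O_U; moreover colim K_n → G is a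
quasi-isomorphism. Here the system is indexed by n ≥ 0 with K_n mapping to τ_{≤ n+1}G, commutativity
of the diagram is expressed after composing with the inclusions τ_{≤ m}G → G, 'direct sum of modules
j_{U!}O_U' means isomorphic to a coproduct of such modules, and the map colim K_n → G is the one
induced by the K_n → τ_{≤ n+1}G → G. -/
theorem result
    {C : Type u} [SmallCategory C] {J : GrothendieckTopology C} (O : Sheaf J CommRingCat.{u})
    (G : CochainComplex (ModSite.Mod O) ℤ) :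
    ∃ (Kc : ℕ ⥤ CochainComplex (ModSite.Mod O) ℤ) (π : ∀ n : ℕ, Kc.obj n ⟶ G.truncLE ((n : ℤ) + 1)),
      (∀ n : ℕ, Kc.map (homOfLE (Nat.le_succ n)) ≫ π (n + 1) ≫ G.ιTruncLE (((n + 1 : ℕ) : ℤ) + 1) =
        π n ≫ G.ιTruncLE ((n : ℤ) + 1)) ∧
      (∀ n : ℕ, QuasiIso (π n) ∧ ∀ i : ℤ, Epi ((π n).f i)) ∧
      (∀ n : ℕ, ∃ b : ℤ, (Kc.obj n).IsStrictlyLE b) ∧
      (∀ (n : ℕ) (i : ℤ), ∃ (ι : Type u) (U : ι → C),
        Nonempty ((Kc.obj n).X i ≅ ∐ fun j => ModSite.freeOn O (U j))) ∧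
      (∀ (n : ℕ) (i : ℤ), ∃ r : (Kc.obj (n + 1)).X i ⟶ (Kc.obj n).X i,
        (Kc.map (homOfLE (Nat.le_succ n))).f i ≫ r = 𝟙 _ ∧
        ∃ (ι : Type u) (U : ι → C),
          Nonempty (cokernel ((Kc.map (homOfLE (Nat.le_succ n))).f i) ≅ ∐ fun j => ModSite.freeOn O (U j))) ∧
      ∃ c : colimit Kc ⟶ G, (∀ n : ℕ, colimit.ι Kc n ≫ c = π n ≫ G.ιTruncLE ((n : ℤ) + 1)) ∧ QuasiIso c := by
  let Kc := Functor.ofSequence (trans O G)
  have hmap : ∀ n : ℕ, Kc.map (homOfLE (Nat.le_succ n)) = trans O G n := fun n =>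
    Functor.ofSequence_map_homOfLE_succ (trans O G) n
  have hw : ∀ n : ℕ, trans O G n ≫ (stage O G (n + 1)).π ≫ G.ιTruncLE (((n + 1 : ℕ) : ℤ) + 1) =
      (stage O G n).π ≫ G.ιTruncLE ((n : ℤ) + 1) := fun n =>
    (exists_next O G (stage O G n)).choose_spec.choose_spec.1
  let a : ∀ n : ℕ, Kc.obj n ⟶ G := fun n => (stage O G n).π ≫ G.ιTruncLE ((n : ℤ) + 1)
  let c : Cocone Kc :=
    { pt := G
      ι := NatTrans.ofSequence (F := Kc) (G := (Functor.const _).obj G) a fun n => by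
        rw [hmap]
        exact (hw n).trans (Category.comp_id _).symm }
  refine ⟨Kc, fun n => (stage O G n).π, fun n => by rw [hmap]; exact hw n,
    fun n => ⟨(stage O G n).qis, (stage O G n).epi⟩, fun n => ⟨_, (stage O G n).le⟩,
    fun n i => (stage O G n).free i, fun n i => ?_, colimit.desc Kc c, fun n => colimit.ι_desc c n, ?_⟩
  · rw [hmap]
    exact (exists_next O G (stage O G n)).choose_spec.choose_spec.2 i
  · haveI : AB5OfSize.{0, 0} (ModSite.Mod O) := Groth.Agent.KFlat.Site.ab5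
    rw [quasiIso_iff]
    intro i
    rw [quasiIsoAt_iff_isIso_homologyMap]
    let H := HomologicalComplex.homologyFunctor (ModSite.Mod O) (ComplexShape.up ℤ) i
    have key : ∀ n : ℕ, i.natAbs ≤ n → IsIso (H.map (a n)) := fun n hn => by
      haveI := (stage O G n).qis
      haveI := CochainComplex.quasiIsoAt_ιTruncLE G ((n : ℤ) + 1) i (by omega)
      change IsIso (H.map ((stage O G n).π ≫ G.ιTruncLE ((n : ℤ) + 1)))
      rw [H.map_comp]
      haveI : IsIso (H.map (stage O G n).π) := (quasiIsoAt_iff_isIso_homologyMap (stage O G n).π i).1 ((stage O G n).qis.quasiIsoAt i)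
      haveI : IsIso (H.map (G.ιTruncLE ((n : ℤ) + 1))) := inferInstanceAs (IsIso (HomologicalComplex.homologyMap _ i))
      infer_instance
    have hev : (Kc ⋙ H).IsEventuallyConstantFrom i.natAbs := fun n f => by
      have h1 := key _ le_rfl
      have h2 : IsIso (H.map (a n)) := key n (leOfHom f)
      have : IsIso (H.map (Kc.map f) ≫ H.map (a n)) := by
        rw [← H.map_comp]
        exact (c.w f).symm ▸ h1
      exact IsIso.of_isIso_comp_right (H.map (Kc.map f)) (H.map (a n))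
    haveI : IsIso (H.map (colimit.ι Kc i.natAbs)) :=
      hev.isIso_ι_of_isColimit (isColimitOfPreserves H (colimit.isColimit Kc))
    haveI : IsIso (H.map (colimit.ι Kc i.natAbs) ≫ H.map (colimit.desc Kc c)) := by
      rw [← H.map_comp, colimit.ι_desc]
      exact key _ le_rfl
    exact IsIso.of_isIso_comp_left (H.map (colimit.ι Kc i.natAbs)) (H.map (colimit.desc Kc c))

end Groth.Agent.S9078
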