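import Groth.Statements.S9089
import Mathlib.Algebra.BigOperators.Fin
import Mathlib.RingTheory.Ideal.Span

set_option autoImplicit false
universe u
open CategoryTheory Opposite
open ModSite

namespace Groth.Agent.S9089
set_option linter.style.haveILetI false
set_option backward.isDefEq.respectTransparency false
set_option backward.isDefEq.respectTransparency.types false


/-- Part (1): ⇔ (2), for a ringed site (C, O) with C small and O a sheaf of commutative rings: the
following are equivalent. (1) For every object U and every section f of O over U there is a covering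
sieve on U on each of whose arrows either f or 1 - f restricts to a unit. (2) For every object U,
every n ≥ 1 and all sections f₁, …, fₙ of O over U generating the unit ideal of O(U), there is a
covering sieve on U on each of whose arrows some fᵢ restricts to a unit. -/
theorem result {C : Type u} [SmallCategory C] (J : GrothendieckTopology C)
    (O : Sheaf J CommRingCat.{u}) :
    (∀ (U : C) (f : O.obj.obj (op U)), ∃ S ∈ J U, ∀ ⦃V : C⦄ (g : V ⟶ U), S g →
        IsUnit ((O.obj.map g.op).hom f) ∨ IsUnit ((O.obj.map g.op).hom (1 - f))) ↔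
    (∀ (U : C) (n : ℕ) (f : Fin n → O.obj.obj (op U)), 1 ≤ n → Ideal.span (Set.range f) = ⊤ →
        ∃ S ∈ J U, ∀ ⦃V : C⦄ (g : V ⟶ U), S g → ∃ i, IsUnit ((O.obj.map g.op).hom (f i))) := by
  classical
  constructor
  · intro h U n f hn hspan
    obtain ⟨a, ha⟩ := Submodule.mem_span_range_iff_exists_fun (O.obj.obj (op U)) |>.1
      (show (1 : O.obj.obj (op U)) ∈ Ideal.span (Set.range f) from hspan ▸ trivial)
    have key : ∀ (s : Finset (Fin n)) (hs : s.Nonempty) (V : C) (g : Fin n → O.obj.obj (op V)),
        IsUnit (∑ i ∈ s, g i) → ∃ S ∈ J V, ∀ ⦃W : C⦄ (k : W ⟶ V), S k → ∃ i, IsUnit ((O.obj.map k.op).hom (g i)) := by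
      intro s hs
      induction hs using Finset.Nonempty.cons_induction with
      | singleton i =>
        intro V g hg
        exact ⟨⊤, J.top_mem V, fun W k _ => ⟨i, (show IsUnit (g i) by simpa using hg).map _⟩⟩
      | cons i s hi hs ih =>
        intro V g hg
        let T : Sieve V :=
          { arrows := fun W k => ∃ i, IsUnit ((O.obj.map k.op).hom (g i))
            downward_closed := fun {W W' k} ⟨i, hi⟩ l => ⟨i, by
              rw [op_comp, Functor.map_comp]
              exact hi.map (O.obj.map l.op).hom⟩ }
        refine ⟨T, ?_, fun W k hk => hk⟩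
        obtain ⟨u, hu⟩ := hg
        obtain ⟨S, hS, hSu⟩ := h V (g i * ↑u⁻¹)
        refine J.transitive hS T fun W k hk => ?_
        rcases hSu k hk with h1 | h1
        · rw [map_mul] at h1
          have : T.pullback k = ⊤ := Sieve.pullback_eq_top_of_mem _ ⟨i, isUnit_of_mul_isUnit_left h1⟩
          rw [this]
          exact J.top_mem W
        · have e : 1 - g i * ↑u⁻¹ = (∑ j ∈ s, g j) * ↑u⁻¹ := by
            rw [← u.mul_inv, hu, Finset.sum_cons]; ring
          rw [e, map_mul, map_sum] at h1
          obtain ⟨S', hS', hS'u⟩ := ih W (fun j => (O.obj.map k.op).hom (g j)) (isUnit_of_mul_isUnit_left h1)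
          refine J.superset_covering ?_ hS'
          intro X l hl
          obtain ⟨j, hj⟩ := hS'u l hl
          refine ⟨j, ?_⟩
          rw [op_comp, Functor.map_comp]
          exact hj
    haveI : Nonempty (Fin n) := ⟨⟨0, hn⟩⟩
    obtain ⟨S, hS, hSu⟩ := key Finset.univ Finset.univ_nonempty U (fun i => a i * f i)
      (by rw [show (∑ i, a i * f i) = 1 from ha]; exact isUnit_one)
    refine ⟨S, hS, fun W k hk => ?_⟩
    obtain ⟨i, hi⟩ := hSu k hk
    rw [map_mul] at hi
    exact ⟨i, isUnit_of_mul_isUnit_right hi⟩
  · intro h U f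
    obtain ⟨S, hS, hSu⟩ := h U 2 ![f, 1 - f] (by norm_num) (Ideal.eq_top_of_isUnit_mem _
      (x := f + (1 - f)) (Ideal.add_mem _ (Ideal.subset_span ⟨0, rfl⟩) (Ideal.subset_span ⟨1, rfl⟩)) (by simp))
    refine ⟨S, hS, fun V g hg => ?_⟩
    obtain ⟨i, hi⟩ := hSu g hg
    fin_cases i
    · exact Or.inl hi
    · exact Or.inr hi

end Groth.Agent.S9089
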