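import Groth.Statements.S9091

set_option autoImplicit false
universe u
open CategoryTheory Opposite
open ModSite

namespace Groth.Agent.S9091
open CategoryTheory.Limits Opposite in
/-- a section with invertible germ is invertible on a neighbourhood -/
lemma exists_isUnit {C : Type u} [SmallCategory C] {J : GrothendieckTopology C}
    (O : Sheaf J CommRingCat.{u}) (p : GrothendieckTopology.Point.{u} J) {U : C} (x : p.fiber.obj U)
    (f : O.obj.obj (op U)) (hf : IsUnit ((p.toPresheafFiber U x O.obj).hom f)) :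
    ∃ (V : C) (g : V ⟶ U) (y : p.fiber.obj V), p.fiber.map g y = x ∧ IsUnit ((O.obj.map g.op).hom f) := by
  obtain ⟨b, hb⟩ := isUnit_iff_exists_inv.1 hf
  obtain ⟨Y, y, b0, rfl⟩ := p.toPresheafFiber_jointly_surjective (P := O.obj) b
  let W := IsCofiltered.min (Functor.elementsMk p.fiber U x) (Functor.elementsMk p.fiber Y y)
  let gU : W.1 ⟶ U := (IsCofiltered.minToLeft (Functor.elementsMk p.fiber U x) (Functor.elementsMk p.fiber Y y)).1
  let gY : W.1 ⟶ Y := (IsCofiltered.minToRight (Functor.elementsMk p.fiber U x) (Functor.elementsMk p.fiber Y y)).1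
  have hU : p.fiber.map gU W.2 = x :=
    (IsCofiltered.minToLeft (Functor.elementsMk p.fiber U x) (Functor.elementsMk p.fiber Y y)).2
  have hY : p.fiber.map gY W.2 = y :=
    (IsCofiltered.minToRight (Functor.elementsMk p.fiber U x) (Functor.elementsMk p.fiber Y y)).2
  rw [← hU, ← hY] at hb
  have e1 := p.toPresheafFiber_w_apply gU W.2 O.obj f
  have e2 := p.toPresheafFiber_w_apply gY W.2 O.obj b0
  have hb' : (p.toPresheafFiber W.1 W.2 O.obj).hom ((O.obj.map gU.op).hom f * (O.obj.map gY.op).hom b0) =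
      (p.toPresheafFiber W.1 W.2 O.obj).hom 1 :=
    (map_mul _ _ _).trans ((congrArg₂ (· * ·) e1 e2).trans (hb.trans (map_one _).symm))
  obtain ⟨Z, h, z, hz, he⟩ := (p.toPresheafFiber_eq_iff' W.1 W.2 _ _).1 hb'
  refine ⟨Z, h ≫ gU, z, by rw [Functor.map_comp_apply, hz, hU], ?_⟩
  refine isUnit_iff_exists_inv.2 ⟨(O.obj.map h.op).hom ((O.obj.map gY.op).hom b0), ?_⟩
  have he' : (O.obj.map h.op).hom ((O.obj.map gU.op).hom f * (O.obj.map gY.op).hom b0) = 1 :=
    he.trans (map_one _)
  rw [map_mul] at he'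
  rw [op_comp, Functor.map_comp]
  exact he'


/-- Part (2): ⇒ (1) when the site has enough points, for a ringed site (C, O) with C small and O a sheaf
of commutative rings: if at every point p of the site the stalk O_p is the zero ring or is local,
then for every object U and every section f of O over U there is a covering sieve on U on each of
whose arrows either f or 1 - f restricts to a unit. -/
theorem result {C : Type u} [SmallCategory C] {J : GrothendieckTopology C}
    (O : Sheaf J CommRingCat.{u}) [GrothendieckTopology.HasEnoughPoints.{u} J]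
    (h : ∀ p : GrothendieckTopology.Point.{u} J, Subsingleton (ModSite.stalkRing p O) ∨ IsLocalRing (ModSite.stalkRing p O))
    (U : C) (f : O.obj.obj (op U)) :
    ∃ S ∈ J U, ∀ ⦃V : C⦄ (g : V ⟶ U), S g →
        IsUnit ((O.obj.map g.op).hom f) ∨ IsUnit ((O.obj.map g.op).hom (1 - f)) := by
  obtain ⟨P, hPs, hP⟩ := GrothendieckTopology.HasEnoughPoints.exists_objectProperty.{u} J
  let ι := { i : Σ V : C, (V ⟶ U) //
    IsUnit ((O.obj.map i.2.op).hom f) ∨ IsUnit ((O.obj.map i.2.op).hom (1 - f)) }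
  refine ⟨Sieve.ofArrows (fun i : ι => i.1.1) (fun i => i.1.2), ?_, ?_⟩
  · refine (hP.jointly_reflect_ofArrows_mem (fun i : ι => i.1.2)).2 fun Φ x => ?_
    have hu : IsUnit ((Φ.obj.toPresheafFiber U x O.obj).hom f) ∨
        IsUnit ((Φ.obj.toPresheafFiber U x O.obj).hom (1 - f)) := by
      rcases h Φ.obj with hs | hl
      · exact Or.inl (@isUnit_of_subsingleton _ _ hs _)
      · rw [map_sub, map_one]
        exact @IsLocalRing.isUnit_or_isUnit_one_sub_self _ _ hl _
    rcases hu with hu | hu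
    · obtain ⟨V, g, y, hy, hg⟩ := exists_isUnit O Φ.obj x f hu
      exact ⟨⟨⟨V, g⟩, Or.inl hg⟩, y, hy⟩
    · obtain ⟨V, g, y, hy, hg⟩ := exists_isUnit O Φ.obj x (1 - f) hu
      exact ⟨⟨⟨V, g⟩, Or.inr hg⟩, y, hy⟩
  · rintro V g ⟨Z, q, w, ⟨i⟩, rfl⟩
    rw [op_comp, Functor.map_comp]
    exact i.2.imp (fun hu => hu.map (O.obj.map q.op).hom) (fun hu => hu.map (O.obj.map q.op).hom)

end Groth.Agent.S9091
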