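import Groth.Statements.S9097
import Groth.Agent.Lib.SiteCoh.Constant

set_option autoImplicit false
universe u
open CategoryTheory Opposite
open CohSite

namespace Groth.Agent.S9097
set_option linter.style.haveILetI false
set_option backward.isDefEq.respectTransparency false
set_option backward.isDefEq.respectTransparency.types false


/-- If 0 → A → B → C → 0 is short exact in the category of abelian groups then, for every object U, the
sequence 0 → A̲(U) → B̲(U) → C̲(U) → 0 of sections of the constant abelian sheaves is short exact;
in other words the sequence of constant sheaves is exact even as a sequence of abelian presheaves.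
The instance binder on the sections-of-constant-sheaf functor (it preserves zero morphisms) always
holds and is only needed to form the complex. -/
theorem result {C : Type u} [SmallCategory C] (J : GrothendieckTopology C)
    (S : ShortComplex AddCommGrpCat.{u}) (hS : S.ShortExact) (U : C)
    [(constantSheaf J AddCommGrpCat.{u} ⋙ (sheafSections J AddCommGrpCat.{u}).obj (op U)).PreservesZeroMorphisms] :
    (S.map (constantSheaf J AddCommGrpCat.{u} ⋙ (sheafSections J AddCommGrpCat.{u}).obj (op U))).ShortExact := by
  haveI : Limits.PreservesFiniteLimits (constantSheaf J AddCommGrpCat.{u}) := Limits.comp_preservesFiniteLimits _ _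
  haveI : (constantSheaf J AddCommGrpCat.{u}).Additive := Functor.additive_of_preserves_binary_products _
  have h := Groth.Agent.SiteCoh.shortExact_constantSheaf (J := J) hS
  haveI : Limits.PreservesFiniteLimits ((sheafSections J AddCommGrpCat.{u}).obj (op U)) :=
    Limits.comp_preservesFiniteLimits (sheafToPresheaf J AddCommGrpCat.{u}) ((evaluation Cᵒᵖ AddCommGrpCat.{u}).obj (op U))
  haveI : ((sheafSections J AddCommGrpCat.{u}).obj (op U)).Additive := Functor.additive_of_preserves_binary_products _
  haveI := h.mono_f
  haveI : Mono (S.map (constantSheaf J AddCommGrpCat.{u} ⋙ (sheafSections J AddCommGrpCat.{u}).obj (op U))).f :=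
    inferInstanceAs (Mono (((sheafSections J AddCommGrpCat.{u}).obj (op U)).map (S.map (constantSheaf J AddCommGrpCat.{u})).f))
  haveI : Epi (S.map (constantSheaf J AddCommGrpCat.{u} ⋙ (sheafSections J AddCommGrpCat.{u}).obj (op U))).g :=
    (AddCommGrpCat.epi_iff_surjective _).2 (Groth.Agent.SiteCoh.surjective_constantSheaf_map S.g
      ((AddCommGrpCat.epi_iff_surjective _).1 hS.epi_g) (op U))
  exact ShortComplex.ShortExact.mk'
    (h.exact.map_of_mono_of_preservesKernel ((sheafSections J AddCommGrpCat.{u}).obj (op U)) inferInstance inferInstance)
    inferInstance inferInstance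

end Groth.Agent.S9097
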