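import Groth.Statements.S9104
import Groth.Agent.Lib.InvRing16.Local

set_option autoImplicit false
universe u
open CategoryTheory
open ModSite

namespace Groth.Agent.S9104
set_option linter.style.haveILetI false
set_option backward.isDefEq.respectTransparency false
set_option backward.isDefEq.respectTransparency.types false
open Opposite Groth.Agent.ModFlat16 Groth.Agent.InvRing16

/-- Part (1): for a morphism of ringed sites f : (C, O_C) → (D, O_D) between small sites with
commutative structure sheaves (only the underlying morphism of topoi is used): if (D, O_D) is a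
locally ringed site then C equipped with the pulled-back sheaf of rings f⁻¹O_D is a locally ringed
site. -/
theorem result {C D : Type u} [SmallCategory C] [SmallCategory D] {J : GrothendieckTopology C}
    {K : GrothendieckTopology D} {O_C : Sheaf J CommRingCat.{u}} {O_D : Sheaf K CommRingCat.{u}}
    (f : ModSite.RMor O_C O_D) (hD : ModSite.IsLocallyRinged K O_D) : ModSite.IsLocallyRinged J f.invRing := by
  refine ⟨fun U x => ?_, fun U h => ?_⟩
  · obtain ⟨S, hS, hS'⟩ := locUb (f := f) x
    refine bind_cover S hS fun W k hk => ?_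
    obtain ⟨V, u, c, hc⟩ := hS' k hk
    obtain ⟨R, hR, hR'⟩ := hD.1 V c
    obtain ⟨T, hT, hT'⟩ := locally_lift f u R hR
    refine ⟨T, hT, fun W' k' hk' => ?_⟩
    obtain ⟨V', g, u', hg, e⟩ := hT' k' hk'
    have key : rmap f.invRing (k' ≫ k) x = ub u' (rmap O_D g c) := by
      rw [ub_rmap, e, ← rmap_ub, ← hc, rmap_comp]
    rcases hR' g hg with h | h
    · exact Or.inl (key ▸ h.map (ub u') : IsUnit (rmap f.invRing (k' ≫ k) x))
    · right
      show IsUnit (rmap f.invRing (k' ≫ k) (1 - x))
      rw [map_sub, map_one, key, ← map_one (ub u'), ← map_sub]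
      have h' : rmap O_D g (1 - c) = 1 - rmap O_D g c := by rw [map_sub, map_one]
      exact (h' ▸ h : IsUnit (1 - rmap O_D g c)).map (ub u')
  · obtain ⟨S, hS, hS'⟩ := locally_over f U
    refine J.transitive hS ⊥ fun W k hk => ?_
    obtain ⟨V, ⟨u⟩⟩ := hS' k hk
    have h1 : ub u (1 : O_D.obj.obj (op V)) = ub u 0 := by
      rw [map_one, map_zero]
      exact ((map_one (rmap f.invRing k)).symm.trans ((congrArg (rmap f.invRing k) h.symm).trans (map_zero _)))
    obtain ⟨S₁, hS₁, hS₁'⟩ := locally_eq u _ _ h1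
    refine J.transitive hS₁ _ fun W₁ k₁ hk₁ => ?_
    obtain ⟨V₁, g, u₁, -, hg⟩ := hS₁' k₁ hk₁
    rw [map_one, map_zero] at hg
    obtain ⟨T, hT, hT'⟩ := locally_lift f u₁ ⊥ (hD.2 V₁ hg.symm)
    refine J.superset_covering (fun W₂ k₂ hk₂ => ?_) hT
    obtain ⟨V₂, g₂, u₂, hg₂, -⟩ := hT' k₂ hk₂
    exact hg₂.elim

end Groth.Agent.S9104
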