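import Groth.Statements.S9105
import Mathlib.CategoryTheory.Sites.Over

set_option autoImplicit false
universe u
open CategoryTheory
open ModSite

namespace Groth.Agent.S9105
set_option linter.style.haveILetI false
set_option backward.isDefEq.respectTransparency false
set_option backward.isDefEq.respectTransparency.types false


/-- If (C, O) is a locally ringed site (C small, O a sheaf of commutative rings) and U is an object of
C, then the localised ringed site (C/U, O_U) is again locally ringed. -/
theorem result {C : Type u} [SmallCategory C] {J : GrothendieckTopology C} (O : Sheaf J CommRingCat.{u})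
    (hO : ModSite.IsLocallyRinged J O) (U : C) : ModSite.IsLocallyRinged (J.over U) (O.over U) := by
  refine ⟨fun Y f => ?_, fun Y h => ?_⟩
  · obtain ⟨S, hS, h⟩ := hO.1 Y.left f
    refine ⟨(Sieve.overEquiv Y).symm S, J.overEquiv_symm_mem_over Y S hS, fun V g hg => ?_⟩
    exact h g.left ((Sieve.overEquiv_symm_iff S g).1 hg)
  · rw [J.mem_over_iff]
    have hb : Sieve.overEquiv Y (⊥ : Sieve Y) = ⊥ := by ext Z g; rw [Sieve.overEquiv_iff]; rfl
    rw [hb]
    exact hO.2 Y.left h

end Groth.Agent.S9105
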