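import Groth.Statements.S9106
import Groth.Agent.Lib.SiteCoh.LanMono
import Groth.Agent.Lib.SiteCoh.Basic
import Mathlib.CategoryTheory.Sites.Pullback
import Mathlib.Algebra.Homology.ShortComplex.ExactFunctor

set_option autoImplicit false
universe u
open CategoryTheory CategoryTheory.Limits
open CohSite

namespace Groth.Agent.S9106
set_option linter.style.haveILetI false
set_option backward.isDefEq.respectTransparency false
set_option backward.isDefEq.respectTransparency.types false


/-- Let u : C ⥤ D be a functor between small sites which is cocontinuous and continuous, and assume that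
C has fibre products and equalizers and that u commutes with them. Let g be the morphism of topoi
attached to u. Then g_! on abelian sheaves, i.e. the left adjoint of restriction along u (left Kan
extension along u followed by sheafification), is exact: being a left adjoint it is right exact, and
it moreover preserves finite limits. -/
theorem result {C D : Type u} [SmallCategory C] [SmallCategory D]
    (J : GrothendieckTopology C) (K : GrothendieckTopology D) (u : C ⥤ D)
    [u.IsCocontinuous J K] [u.IsContinuous J K] [HasPullbacks C] [HasEqualizers C]
    [PreservesLimitsOfShape WalkingCospan u] [PreservesLimitsOfShape WalkingParallelPair u] :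
    PreservesFiniteLimits (u.sheafPullback AddCommGrpCat.{u} J K) := by
  let L : (Cᵒᵖ ⥤ AddCommGrpCat.{u}) ⥤ (Dᵒᵖ ⥤ AddCommGrpCat.{u}) := u.op.lan
  haveI : L.PreservesMonomorphisms := Groth.Agent.SiteCoh.preservesMonomorphisms_lan u
  haveI : L.IsLeftAdjoint := ⟨_, ⟨u.op.lanAdjunction AddCommGrpCat.{u}⟩⟩
  haveI : L.Additive := (u.op.lanAdjunction AddCommGrpCat.{u}).left_adjoint_additive
  haveI : Limits.PreservesFiniteLimits L := by
    rw [Functor.preservesFiniteLimits_iff_forall_exact_map_and_mono]
    intro S hS
    haveI := hS.mono_f
    exact ⟨hS.exact.map_of_epi_of_preservesCokernel L hS.epi_g inferInstance, inferInstance⟩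
  haveI : Limits.PreservesFiniteLimits (L ⋙ presheafToSheaf K AddCommGrpCat.{u}) :=
    Limits.comp_preservesFiniteLimits _ _
  haveI : Limits.PreservesFiniteLimits (Functor.sheafPullbackConstruction.sheafPullback u AddCommGrpCat.{u} J K) :=
    Limits.comp_preservesFiniteLimits (sheafToPresheaf J AddCommGrpCat.{u}) (L ⋙ presheafToSheaf K AddCommGrpCat.{u})
  exact Limits.preservesFiniteLimits_of_natIso
    (Functor.sheafPullbackConstruction.sheafPullbackIso u AddCommGrpCat.{u} J K).symm

end Groth.Agent.S9106
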