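import Groth.Statements.S9109
import Mathlib.Algebra.Homology.ShortComplex.ExactFunctor
import Mathlib.CategoryTheory.Sites.Abelian
import Mathlib.Algebra.Category.Grp.Abelian
import Mathlib.Algebra.Category.Grp.EpiMono
import Mathlib.CategoryTheory.Sites.LocallySurjective
import Mathlib.CategoryTheory.Limits.Shapes.ConcreteCategory
import Mathlib.Algebra.Category.Grp.Limits
import Mathlib.Algebra.Category.Grp.FilteredColimits
import Mathlib.Algebra.Category.Grp.Colimits

set_option autoImplicit false
universe u
open CategoryTheory CategoryTheory.Limits
open CohSite

namespace Groth.Agent.S9109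
set_option linter.style.haveILetI false
set_option backward.isDefEq.respectTransparency false
set_option backward.isDefEq.respectTransparency.types false


/-- Part (1): on a small site (C, J) with a point p: the skyscraper functor p_* from abelian groups to
abelian sheaves on C (right adjoint to the stalk functor at p; its value on A is the sheaf U ↦ ∏_{x
∈ p⁻¹U} A) is exact. As a right adjoint it preserves limits; the statement here is that it also
preserves finite colimits. -/
theorem result {C : Type u} [SmallCategory C] {J : GrothendieckTopology C}
    (p : GrothendieckTopology.Point.{u} J) :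
    PreservesFiniteColimits (p.skyscraperSheafFunctor (A := AddCommGrpCat.{u})) := by
  let F := p.skyscraperSheafFunctor (A := AddCommGrpCat.{u})
  haveI : PreservesLimitsOfSize.{0, 0} F := p.skyscraperSheafAdjunction.rightAdjoint_preservesLimits
  haveI : PreservesFiniteLimits F := PreservesLimitsOfSize.preservesFiniteLimits F
  haveI : F.Additive := Functor.additive_of_preserves_binary_products F
  refine (Functor.preservesFiniteColimits_iff_forall_exact_map_and_epi F).2 (fun S hS => ?_)
  refine ⟨((Functor.preservesFiniteLimits_iff_forall_exact_map_and_mono F).1 inferInstance S hS).1, ?_⟩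
  haveI := hS.epi_g
  have hsurj : Function.Surjective S.g := (AddCommGrpCat.epi_iff_surjective _).1 inferInstance
  haveI : Sheaf.IsLocallySurjective (F.map S.g) := by
    refine ⟨fun {U} s => ?_⟩
    obtain ⟨t, ht⟩ : ∃ t, (F.map S.g).hom.app (Opposite.op U) t = s := by
      choose t ht using fun i : p.fiber.obj U =>
        hsurj ((Pi.π (fun _ : p.fiber.obj U => S.X₃) i) s)
      refine ⟨(Concrete.productEquiv (fun _ : p.fiber.obj U => S.X₂)).symm t, ?_⟩
      apply (Concrete.productEquiv (fun _ : p.fiber.obj U => S.X₃)).injective
      funext i
      rw [Concrete.productEquiv_apply_apply, Concrete.productEquiv_apply_apply]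
      refine Eq.trans ?_ (ht i)
      refine Eq.trans ?_ (congrArg S.g (Concrete.productEquiv_symm_apply_π (fun _ : p.fiber.obj U => S.X₂) t i))
      refine (ConcreteCategory.comp_apply _ _ _).symm.trans (Eq.trans ?_ (ConcreteCategory.comp_apply _ _ _))
      congr 1
      simp [F, GrothendieckTopology.Point.skyscraperPresheafFunctor]
    subst ht
    rw [Presheaf.imageSieve_app]
    exact J.top_mem U
  exact Sheaf.epi_of_isLocallySurjective _

end Groth.Agent.S9109
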