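import Groth.Statements.S9110
import Mathlib.Algebra.Category.ModuleCat.Presheaf.Monoidal
import Mathlib.Algebra.Category.ModuleCat.Presheaf.Limits
import Mathlib.RingTheory.Flat.CategoryTheory

set_option autoImplicit false
universe u
open CategoryTheory CategoryTheory.Limits
open ModSite

namespace Groth.Agent.S9110
set_option linter.style.haveILetI false
set_option backward.isDefEq.respectTransparency false
set_option backward.isDefEq.respectTransparency.types false


/-- Let C be a small category, O a presheaf of commutative rings on C and F a presheaf of O-modules such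
that each F(U) is a flat O(U)-module. Then F is flat as a presheaf of modules, i.e. the functor G ↦
G ⊗_{p,O} F given by the sectionwise tensor product of presheaves of modules is exact (preserves
finite limits and finite colimits). -/
theorem result {C : Type u} [SmallCategory C] (O : Cᵒᵖ ⥤ CommRingCat.{u})
    (F : PresheafOfModules.{u} (O ⋙ forget₂ CommRingCat.{u} RingCat.{u}))
    (hF : ∀ X : Cᵒᵖ, Module.Flat (O.obj X) (F.obj X)) :
    PreservesFiniteLimits (MonoidalCategory.tensorRight F) ∧ PreservesFiniteColimits (MonoidalCategory.tensorRight F) := by
  refine ⟨⟨fun J _ _ => ⟨fun {K} => ⟨fun {c} hc => ⟨PresheafOfModules.evaluationJointlyReflectsLimits _ _ (fun X => ?_)⟩⟩⟩⟩, inferInstance⟩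
  haveI : Module.Flat (O.obj X) (show ModuleCat (O.obj X) from F.obj X) := hF X
  exact isLimitOfPreserves (MonoidalCategory.tensorRight (show ModuleCat (O.obj X) from F.obj X))
    (isLimitOfPreserves (PresheafOfModules.evaluation _ X) hc)

end Groth.Agent.S9110
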