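import Groth.Statements.S9111
import Groth.Agent.Lib.FC16.FlatChase
import Mathlib.Algebra.Category.ModuleCat.Presheaf.Monoidal
import Mathlib.Algebra.Category.ModuleCat.Presheaf.Free
import Mathlib.Algebra.Category.ModuleCat.Presheaf.Abelian
import Mathlib.Algebra.Category.ModuleCat.Presheaf.EpiMono
import Mathlib.Algebra.Homology.ShortComplex.ExactFunctor
import Mathlib.Algebra.Homology.ShortComplex.ModuleCat
import Mathlib.LinearAlgebra.Finsupp.VectorSpace

set_option autoImplicit false
universe u
open CategoryTheory CategoryTheory.Limits
open ModSite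

namespace Groth.Agent.S9111
set_option linter.style.haveILetI false
set_option backward.isDefEq.respectTransparency false
set_option backward.isDefEq.respectTransparency.types false


/-- Let C be a small category and O a presheaf of commutative rings on C. If 0 → F'' → F' → F → 0 is a
short exact sequence of presheaves of O-modules whose right-hand term F is flat (the sectionwise
tensor product functor - ⊗_{p,O} F is exact), then for every presheaf of O-modules G the tensored
sequence 0 → F'' ⊗_{p,O} G → F' ⊗_{p,O} G → F ⊗_{p,O} G → 0 is short exact. The instance binder (the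
functor - ⊗_{p,O} G preserves zero morphisms) always holds and is only needed to form the complex. -/
theorem result {C : Type u} [SmallCategory C] (O : Cᵒᵖ ⥤ CommRingCat.{u})
    (S : ShortComplex (PresheafOfModules.{u} (O ⋙ forget₂ CommRingCat.{u} RingCat.{u}))) (hS : S.ShortExact)
    (hF : PreservesFiniteLimits (MonoidalCategory.tensorRight S.X₃) ∧ PreservesFiniteColimits (MonoidalCategory.tensorRight S.X₃))
    (G : PresheafOfModules.{u} (O ⋙ forget₂ CommRingCat.{u} RingCat.{u})) [(MonoidalCategory.tensorRight G).PreservesZeroMorphisms] :
    (S.map (MonoidalCategory.tensorRight G)).ShortExact := by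
  haveI : (MonoidalCategory.tensorRight G).Additive := by
    haveI : PreservesColimitsOfSize.{u, u} (MonoidalCategory.tensorRight G) := inferInstance
    haveI : PreservesFiniteColimits (MonoidalCategory.tensorRight G) := PreservesColimitsOfSize.preservesFiniteColimits _
    haveI : PreservesBinaryBiproducts (MonoidalCategory.tensorRight G) := preservesBinaryBiproducts_of_preservesBinaryCoproducts _
    exact Functor.additive_of_preservesBinaryBiproducts _
  haveI : PreservesFiniteColimits (MonoidalCategory.tensorRight G) := PreservesColimitsOfSize.preservesFiniteColimits _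
  obtain ⟨hex, hepi⟩ := (Functor.preservesFiniteColimits_iff_forall_exact_map_and_epi (MonoidalCategory.tensorRight G)).1 inferInstance S hS
  suffices hm : Mono ((MonoidalCategory.tensorRight G).map S.f) from { exact := hex, mono_f := hm, epi_g := hepi }
  let π : (PresheafOfModules.free _).obj (G.presheaf ⋙ CategoryTheory.forget _) ⟶ G :=
    PresheafOfModules.freeObjDesc (𝟙 _)
  haveI := hF.1
  haveI : Mono ((MonoidalCategory.tensorRight S.X₃).map (kernel.ι π)) := inferInstance
  apply PresheafOfModules.mono_of_injective
  intro X
  let ev := PresheafOfModules.evaluation.{u} (O ⋙ forget₂ CommRingCat.{u} RingCat.{u}) X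
  haveI : ev.Additive := inferInstance
  haveI : PreservesFiniteColimits ev := PreservesColimitsOfSize.preservesFiniteColimits.{u, u} ev
  have hX := hS.map_of_exact ev
  have hk : ((ShortComplex.mk (kernel.ι π) π (kernel.condition π)).map ev).Exact :=
    (ShortComplex.exact_of_f_is_kernel (ShortComplex.mk (kernel.ι π) π (kernel.condition π)) (kernelIsKernel π)).map ev
  haveI := hX.mono_f
  haveI := hX.epi_g
  haveI : Module.Flat (O.obj X) (((PresheafOfModules.free (O ⋙ forget₂ CommRingCat.{u} RingCat.{u})).obj (G.presheaf ⋙ CategoryTheory.forget Ab.{u})).obj X) :=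
    inferInstanceAs (Module.Flat (O.obj X) (((G.presheaf ⋙ CategoryTheory.forget _).obj X) →₀ (O.obj X)))
  refine Groth.Agent.FC16.FlatChase.rTensor_injective (R := O.obj X) (S.f.app X).hom (S.g.app X).hom
    ((ModuleCat.mono_iff_injective (S.map ev).f).1 inferInstance)
    ((ShortComplex.ShortExact.moduleCat_exact_iff_function_exact _).1 hX.exact)
    ((ModuleCat.epi_iff_surjective (S.map ev).g).1 inferInstance)
    ((kernel.ι π).app X).hom (π.app X).hom
    ((ShortComplex.ShortExact.moduleCat_exact_iff_function_exact _).1 hk) ?_ ?_
  · intro x
    exact ⟨ModuleCat.freeMk x, ModuleCat.freeDesc_apply (f := (𝟙 (G.presheaf ⋙ CategoryTheory.forget _) : _ ⟶ _).app X) x⟩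
  · exact (ModuleCat.mono_iff_injective (ev.map ((MonoidalCategory.tensorRight S.X₃).map (kernel.ι π)))).1 inferInstance

end Groth.Agent.S9111
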