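import Groth.Statements.S9112
import Groth.Agent.Lib.CohFound.ModulesInst

set_option autoImplicit false
universe u
open CategoryTheory
open ModSite

namespace Groth.Agent.S9112
set_option linter.style.haveILetI false
open CategoryTheory.Limits Groth.Agent.CohFound


/-- Part (1): on a small ringed site (C, O) with O commutative, for a point p of the site: the stalk
functor F ↦ F_p from O-modules to O_p-modules is exact. Stated on a short exact sequence 0 → F₁ → F₂
→ F₃ → 0 of O-modules: the induced O_p-linear map F₁,p → F₂,p is injective, F₂,p → F₃,p is
surjective, and the range of the first is the kernel of the second. -/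
theorem result {C : Type u} [SmallCategory C] {J : GrothendieckTopology C}
    (O : Sheaf J CommRingCat.{u}) (S : ShortComplex (ModSite.Mod O)) (hS : S.ShortExact)
    (p : GrothendieckTopology.Point.{u} J) :
    Function.Injective (ModSite.stalkMap p S.f).hom ∧ Function.Surjective (ModSite.stalkMap p S.g).hom ∧
      LinearMap.range (ModSite.stalkMap p S.f).hom = LinearMap.ker (ModSite.stalkMap p S.g).hom := by
  haveI : PreservesFiniteColimits (SheafOfModules.toSheaf.{u} (ModSite.ringSh O)) :=
    haveI : PreservesColimitsOfSize.{u, u} (SheafOfModules.toSheaf.{u} (ModSite.ringSh O)) :=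
      ⟨fun {A} _ => preservesColimitsOfShape_sheafOfModules_toSheaf (ModSite.ringSh O) A⟩
    PreservesColimitsOfSize.preservesFiniteColimits.{u, u} _
  haveI : PreservesFiniteColimits (p.sheafFiber (A := AddCommGrpCat.{u})) :=
    PreservesColimitsOfSize.preservesFiniteColimits.{u, u} _
  let G := SheafOfModules.toSheaf.{u} (ModSite.ringSh O) ⋙ p.sheafFiber (A := AddCommGrpCat.{u})
  haveI : G.Additive := Functor.additive_of_preserves_binary_products G
  have h := hS.map_of_exact G
  refine ⟨(AddCommGrpCat.mono_iff_injective _).1 h.mono_f, (AddCommGrpCat.epi_iff_surjective _).1 h.epi_g, ?_⟩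
  have e := ShortComplex.ab_exact_iff_range_eq_ker.1 h.exact
  exact Submodule.toAddSubgroup_injective e

end Groth.Agent.S9112
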