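import Groth.Statements.S9121
import Groth.Agent.Lib.SiteCoh.Basic
import Mathlib.Algebra.Homology.ShortComplex.ExactFunctor
import Mathlib.CategoryTheory.Sites.EpiMono

set_option autoImplicit false
universe u
open CategoryTheory CategoryTheory.Limits
open CohSite

namespace Groth.Agent.S9121
set_option linter.style.haveILetI false
set_option backward.isDefEq.respectTransparency false
set_option backward.isDefEq.respectTransparency.types false


/-- Part (1): for the morphism of topoi f : Sh(C) → Sh(D) attached to a continuous functor u : D ⥤ C
between small sites whose induced pullback of sheaves of sets is exact (f_* is restriction along u):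
if f_* transforms epimorphisms of sheaves of sets into epimorphisms, then f_* on abelian sheaves is
exact; being a right adjoint it preserves finite limits, and the statement is that it also preserves
finite colimits. -/
theorem result {C D : Type u} [SmallCategory C] [SmallCategory D]
    (J : GrothendieckTopology C) (K : GrothendieckTopology D) (u : D ⥤ C) [u.IsContinuous K J]
    [PreservesFiniteLimits (u.sheafPullback (Type u) K J)]
    [(u.sheafPushforwardContinuous (Type u) K J).PreservesEpimorphisms] :
    PreservesFiniteColimits (u.sheafPushforwardContinuous AddCommGrpCat.{u} K J) := by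
  haveI : Functor.IsRightAdjoint (u.sheafPushforwardContinuous AddCommGrpCat.{u} K J) :=
    ⟨_, ⟨u.sheafAdjunctionContinuous AddCommGrpCat.{u} K J⟩⟩
  rw [Functor.preservesFiniteColimits_iff_forall_exact_map_and_epi]
  intro S hS
  refine ⟨hS.exact.map_of_mono_of_preservesKernel _ hS.mono_f inferInstance, ?_⟩
  haveI := hS.epi_g
  haveI : Sheaf.IsLocallySurjective S.g := (Sheaf.isLocallySurjective_iff_epi' AddCommGrpCat.{u} _).2 inferInstance
  haveI : Sheaf.IsLocallySurjective ((sheafCompose J (forget AddCommGrpCat.{u})).map S.g) := inferInstance
  haveI : Epi ((sheafCompose J (forget AddCommGrpCat.{u})).map S.g) := inferInstance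
  have h : Epi ((sheafCompose K (forget AddCommGrpCat.{u})).map
      ((u.sheafPushforwardContinuous AddCommGrpCat.{u} K J).map S.g)) :=
    inferInstanceAs (Epi ((u.sheafPushforwardContinuous (Type u) K J).map
      ((sheafCompose J (forget AddCommGrpCat.{u})).map S.g)))
  exact (sheafCompose K (forget AddCommGrpCat.{u})).epi_of_epi_map h

end Groth.Agent.S9121
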