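import Groth.Prelude.Def_Found
import Mathlib.RingTheory.Ideal.Quotient.Basic
import Mathlib.RingTheory.Ideal.MinimalPrime.Basic
import Groth.Agent.S9125

set_option autoImplicit false
universe u
open CAlg

namespace Groth.Agent.S9127

/-- A Noetherian ring is catenary if and only if its quotient by every minimal prime is catenary. -/
theorem result (R : Type u) [CommRing R] [IsNoetherianRing R] :
    CAlg.IsCatenary R ↔ ∀ p ∈ minimalPrimes R, CAlg.IsCatenary (R ⧸ p) := by
  classical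
  refine ⟨fun h p _ => Groth.Agent.S9125.result R p h, fun h => ?_⟩
  have emb : ∀ a : PrimeSpectrum R, ∃ p ∈ minimalPrimes R, ∀ b, a ≤ b →
      b ∈ Set.range (PrimeSpectrum.comap (Ideal.Quotient.mk p)) := fun a => by
    obtain ⟨p, hp, hle⟩ := Ideal.exists_minimalPrimes_le (show (⊥ : Ideal R) ≤ a.asIdeal from bot_le)
    exact ⟨p, hp, fun b hab => by
      rw [range_comap_of_surjective _ _ Ideal.Quotient.mk_surjective, PrimeSpectrum.mem_zeroLocus, Ideal.mk_ker]
      exact hle.trans hab⟩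
  have lifts : ∀ (p : Ideal R) (s : LTSeries (PrimeSpectrum R)),
      (∀ i, s i ∈ Set.range (PrimeSpectrum.comap (Ideal.Quotient.mk p))) →
      ∃ s' : LTSeries (PrimeSpectrum (R ⧸ p)), s'.length = s.length ∧
        PrimeSpectrum.comap (Ideal.Quotient.mk p) s'.head = s.head ∧
        PrimeSpectrum.comap (Ideal.Quotient.mk p) s'.last = s.last ∧
        ((∀ i : Fin s.length, s i.castSucc ⋖ s i.succ) →
          ∀ i : Fin s'.length, s' i.castSucc ⋖ s' i.succ) := by
    intro p s hs
    choose c hc using hs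
    have hle : ∀ {x y : PrimeSpectrum (R ⧸ p)},
        PrimeSpectrum.comap (Ideal.Quotient.mk p) x ≤ PrimeSpectrum.comap (Ideal.Quotient.mk p) y → x ≤ y :=
      fun {x y} hxy => (Ideal.comap_le_comap_iff_of_surjective _ Ideal.Quotient.mk_surjective _ _).1 hxy
    have hlt : ∀ {x y : PrimeSpectrum (R ⧸ p)},
        PrimeSpectrum.comap (Ideal.Quotient.mk p) x < PrimeSpectrum.comap (Ideal.Quotient.mk p) y → x < y :=
      fun {x y} hxy => lt_of_le_of_ne (hle hxy.le) fun e => hxy.ne (congrArg _ e)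
    have hlt' : ∀ {x y : PrimeSpectrum (R ⧸ p)}, x < y →
        PrimeSpectrum.comap (Ideal.Quotient.mk p) x < PrimeSpectrum.comap (Ideal.Quotient.mk p) y :=
      fun {x y} hxy => RingHom.strictMono_comap_of_surjective Ideal.Quotient.mk_surjective hxy
    refine ⟨⟨s.length, c, fun i => hlt (by rw [hc, hc]; exact s.step i)⟩, rfl, hc _, hc _, fun hcov i => ?_⟩
    refine ⟨hlt (by rw [hc, hc]; exact s.step i), fun z hz1 hz2 => (hcov i).2 (c := PrimeSpectrum.comap (Ideal.Quotient.mk p) z) ?_ ?_⟩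
    · rw [← hc i.castSucc]; exact hlt' hz1
    · rw [← hc i.succ]; exact hlt' hz2
  refine ⟨fun a b hab => ?_, fun s t h0 h1 hs ht => ?_⟩
  · obtain ⟨p, hp, hr⟩ := emb a
    obtain ⟨a', rfl⟩ := hr a le_rfl
    obtain ⟨b', rfl⟩ := hr b hab
    have hinj := PrimeSpectrum.comap_injective_of_surjective (Ideal.Quotient.mk p) Ideal.Quotient.mk_surjective
    obtain ⟨N, hN⟩ := (h p hp).1 a' b'
      ((Ideal.comap_le_comap_iff_of_surjective _ Ideal.Quotient.mk_surjective _ _).1 hab)
    refine ⟨N, fun s hs0 hs1 => ?_⟩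
    obtain ⟨s', hl, e0, e1, -⟩ := lifts p s fun i => hr _ (hs0 ▸ s.monotone (Fin.zero_le i))
    exact hl ▸ hN s' (hinj (e0.trans hs0)) (hinj (e1.trans hs1))
  · obtain ⟨p, hp, hr⟩ := emb s.head
    obtain ⟨s', hl, e0, e1, hc⟩ := lifts p s fun i => hr _ (s.monotone (Fin.zero_le i))
    obtain ⟨t', hl', e0', e1', hc'⟩ := lifts p t fun i => hr _ (h0 ▸ t.monotone (Fin.zero_le i))
    have hinj := PrimeSpectrum.comap_injective_of_surjective (Ideal.Quotient.mk p) Ideal.Quotient.mk_surjective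
    exact hl ▸ hl' ▸ (h p hp).2 s' t' (hinj (e0.trans (h0.trans e0'.symm))) (hinj (e1.trans (h1.trans e1'.symm)))
      (hc hs) (hc' ht)

end Groth.Agent.S9127
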