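import Groth.Prelude.Def_Found
import Mathlib.RingTheory.Ideal.Quotient.Basic
import Mathlib.RingTheory.KrullDimension.Basic
import Mathlib.RingTheory.LocalRing.Basic
import Mathlib.Order.Cover
import Groth.Agent.Lib.Hironaka.Catenary
import Groth.Agent.Lib.Hironaka.Main
import Groth.Agent.Lib.UCat.Grading

set_option autoImplicit false
universe u
open CAlg

namespace Groth.Agent.S9128

/-- A Noetherian local ring A is catenary if and only if the assignment sending a prime p to the Krull
dimension of A/p is a dimension function on Spec A, i.e. it decreases strictly along strict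
inclusions of primes and drops by exactly one along inclusions with no prime strictly in between. -/
theorem result (A : Type u) [CommRing A] [IsNoetherianRing A]
    [IsLocalRing A] :
    CAlg.IsCatenary A ↔
      ∀ p q : PrimeSpectrum A, p < q →
        ringKrullDim (A ⧸ q.asIdeal) < ringKrullDim (A ⧸ p.asIdeal) ∧
          (p ⋖ q → ringKrullDim (A ⧸ p.asIdeal) = ringKrullDim (A ⧸ q.asIdeal) + 1) := by
  constructor
  · intro h p q hpq
    rw [← Hironaka.coheight_eq_ringKrullDim_quotient, ← Hironaka.coheight_eq_ringKrullDim_quotient]
    refine ⟨WithBot.coe_lt_coe.mpr (Order.coheight_strictAnti hpq (Hironaka.coheight_ne_top q).lt_top),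
      fun hc => ?_⟩
    rw [Hironaka.coheight_eq_add_one h hc]
    rfl
  · intro h
    have hfin : ∀ a : PrimeSpectrum A, ((Order.coheight a).toNat : ℕ∞) = Order.coheight a := fun a =>
      ENat.natCast_toNat (Hironaka.coheight_ne_top a)
    refine UCat.isCatenary_of_grading (fun a => -((Order.coheight a).toNat : ℤ)) (fun a b hab => ?_) fun a b hab => ?_
    · have := (h a b hab).1
      rw [← Hironaka.coheight_eq_ringKrullDim_quotient, ← Hironaka.coheight_eq_ringKrullDim_quotient,
        WithBot.coe_lt_coe, ← hfin a, ← hfin b, Nat.cast_lt] at this
      omega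
    · have := (h a b hab.lt).2 hab
      rw [← Hironaka.coheight_eq_ringKrullDim_quotient, ← Hironaka.coheight_eq_ringKrullDim_quotient] at this
      have h' : Order.coheight a = Order.coheight b + 1 := by
        rw [← WithBot.coe_inj, this]; rfl
      rw [← hfin a, ← hfin b, ← Nat.cast_one, ← Nat.cast_add, Nat.cast_inj] at h'
      omega

end Groth.Agent.S9128
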