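import Groth.Statements.S9129
import Groth.Agent.Lib.FlatDepth.Depth
import Groth.Agent.Lib.FlatDepth.Dim
import Groth.Agent.Lib.GrLC21.CanonFinite
import Mathlib

set_option autoImplicit false
universe u
open CAlg

namespace Groth.Agent.S9129




/-- Suppose R → S is a flat local homomorphism between Noetherian local rings, with R Cohen–Macaulay.
Assume either that S is finite over R or that the Krull dimension of S is at most that of R. Then
the two rings have equal dimension and S is itself Cohen–Macaulay. -/
theorem result (R S : Type u) [CommRing R] [CommRing S]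
    [LocCoh.IsCohenMacaulayLocalRing R] [IsNoetherianRing S] [IsLocalRing S] [Algebra R S]
    [IsLocalHom (algebraMap R S)] [Module.Flat R S]
    (h : Module.Finite R S ∨ ringKrullDim S ≤ ringKrullDim R) :
    LocCoh.IsCohenMacaulayLocalRing S ∧ ringKrullDim R = ringKrullDim S := by
  have hd : ringKrullDim S ≤ ringKrullDim R := h.elim (fun hf => Groth.Agent.GrLC21.ringKrullDim_le_of_finite R S) id
  let F := TensorProduct R S (R ⧸ IsLocalRing.maximalIdeal R)
  haveI : Nontrivial F := Groth.Agent.FlatDepth.nontrivial_fibre S
  have hdim := Groth.Agent.FlatDepth.supportDim_tensor (R := R) (S := S) (N := S) R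
  have hdep := Groth.Agent.FlatDepth.depth_tensor (R := R) (S := S) (N := S) R
  let e : TensorProduct R S R ≃ₗ[S] S := TensorProduct.AlgebraTensorModule.rid R S S
  rw [Module.supportDim_eq_of_equiv e, Module.supportDim_self_eq_ringKrullDim, Module.supportDim_self_eq_ringKrullDim] at hdim
  obtain ⟨r, hr⟩ := Groth.Agent.DepthLib.exists_supportDim_eq_natCast (R := R) (M := R)
  obtain ⟨s, hs⟩ := Groth.Agent.DepthLib.exists_supportDim_eq_natCast (R := S) (M := F)
  rw [Module.supportDim_self_eq_ringKrullDim] at hr
  rw [hs, hr] at hdim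
  rw [hdim, hr, ← Nat.cast_add, Nat.cast_le] at hd
  obtain rfl : s = 0 := by omega
  have hF0 : LocCoh.depth S F = 0 := by
    have := Groth.Agent.DepthLib.depth_le_supportDim (R := S) (M := F)
    rw [hs] at this
    exact le_antisymm (WithBot.coe_le_coe.1 this) zero_le
  rw [hF0, add_zero] at hdep
  have hSS : LocCoh.depth S S = LocCoh.depth R R := by
    rw [← hdep]
    exact (Groth.Agent.DepthLib.idealDepth_congr e).symm
  have hRS : ringKrullDim S = ringKrullDim R := by rw [hdim, hr]; simp
  refine ⟨⟨?_⟩, hRS.symm⟩
  rw [Module.supportDim_self_eq_ringKrullDim, hRS, hSS, ← Module.supportDim_self_eq_ringKrullDim,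
    LocCoh.IsCohenMacaulayLocalRing.supportDim_eq_depth]

end Groth.Agent.S9129
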