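import Groth.Statements.S9130
import Groth.Agent.Lib.DimFormula14.Ineq

set_option autoImplicit false
universe u
open CAlg

namespace Groth.Agent.S9130

/-- Let A ⊆ B be domains with B of finite type over A and A Noetherian, and assume every element of B is
algebraic over A. For a height-one prime p of A, only finitely many primes of B lie over p and each
of them has height one. (The published statement assumes that Frac(B) is finite over Frac(A); this
row assumes B algebraic over A, which is equivalent for a finite type extension of domains.) -/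
theorem result (A B : Type u) [CommRing A] [IsDomain A]
    [IsNoetherianRing A] [CommRing B] [IsDomain B] [Algebra A B] [FaithfulSMul A B]
    [Algebra.FiniteType A B] [Algebra.IsAlgebraic A B] (p : Ideal A) [p.IsPrime]
    (hp : p.height = 1) :
    (p.primesOver B).Finite ∧ ∀ q ∈ p.primesOver B, q.height = 1 := by
  haveI : IsNoetherianRing B := Algebra.FiniteType.isNoetherianRing A B
  have htr : DimFormula14.tr A B = 0 := by rw [DimFormula14.tr, trdeg_eq_zero, map_zero]
  obtain ⟨a, ha, ha0⟩ := Submodule.exists_mem_ne_zero_of_ne_bot (Ideal.ne_bot_of_height_eq_one hp)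
  have hnb : ∀ Q : Ideal B, p.map (algebraMap A B) ≤ Q → Q ≠ ⊥ := fun Q hQ h => ha0
    (FaithfulSMul.algebraMap_injective A B (by rw [map_zero]; exact (h ▸ hQ) (Ideal.mem_map_of_mem _ ha)))
  have key : ∀ q ∈ p.primesOver B, q.height = 1 := by
    rintro q ⟨hq, hqp⟩
    have h := DimFormula14.height_add_tr_le A B p q
    rw [hp, htr, add_zero] at h
    refine le_antisymm (le_self_add.trans h) (Order.one_le_iff_pos.2 (pos_iff_ne_zero.2 fun h0 => ?_))
    rw [Ideal.height_eq_zero_iff_eq_bot] at h0
    exact hnb q (Ideal.map_le_iff_le_comap.2 hqp.over.le) h0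
  refine ⟨Set.Finite.subset (Ideal.finite_minimalPrimes_of_isNoetherianRing B (p.map (algebraMap A B))) ?_, key⟩
  rintro q ⟨hq, hqp⟩
  refine ⟨⟨hq, Ideal.map_le_iff_le_comap.2 hqp.over.le⟩, fun Q hQ hQq => ?_⟩
  haveI := hQ.1
  rcases hQq.eq_or_lt with e | hlt
  · exact e.ge
  · exfalso
    have h1 := Ideal.height_strict_mono_of_isPrime hlt
    rw [key q ⟨hq, hqp⟩, ENat.lt_one_iff_eq_zero, Ideal.height_eq_zero_iff_eq_bot] at h1
    exact hnb Q hQ.2 h1

end Groth.Agent.S9130
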