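import Groth.Statements.S9131
import Groth.Agent.Lib.CAlgLow.SplitCompl

set_option autoImplicit false
universe u
open CAlg

namespace Groth.Agent.S9131

/-- Let R be a ring, I an ideal, and 0 → K → P → M → 0 a short exact sequence of R-modules with M flat
over R and M/IM projective over R/I. Then the induced sequence of I-adic completions is split short
exact: the map on completions of K → P is injective, the sequence is exact in the middle, and the
map on completions of P → M has a section linear over the completion of R (so it is surjective). -/
theorem result (R : Type u) [CommRing R] (I : Ideal R)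
    (K P M : Type u) [AddCommGroup K] [Module R K] [AddCommGroup P] [Module R P]
    [AddCommGroup M] [Module R M] (f : K →ₗ[R] P) (g : P →ₗ[R] M)
    (hf : Function.Injective f) (hg : Function.Surjective g) (hfg : Function.Exact f g)
    [Module.Flat R M] [Module.Projective (R ⧸ I) (M ⧸ (I • ⊤ : Submodule R M))] :
    Function.Injective (AdicCompletion.map I f) ∧
      Function.Exact (AdicCompletion.map I f) (AdicCompletion.map I g) ∧
      ∃ s : AdicCompletion I M →ₗ[AdicCompletion I R] AdicCompletion I P,
        AdicCompletion.map I g ∘ₗ s = LinearMap.id := by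
  have hinj : ∀ n k, LinearMap.reduceModIdeal (I ^ n) f k = 0 → k = 0 := by
    intro n k hk
    obtain ⟨k, rfl⟩ := Submodule.Quotient.mk_surjective _ k
    exact (Submodule.Quotient.mk_eq_zero _).2
      (Groth.Agent.CAlgLow.mapQ_injective_of_flat_coker hf hfg hg _ k ((Submodule.Quotient.mk_eq_zero _).1 hk))
  refine ⟨?_, ?_, Groth.Agent.CAlgLow.exists_section_completion I g hg⟩
  · rw [injective_iff_map_eq_zero]
    intro x hx
    refine AdicCompletion.ext fun n => hinj n _ ?_
    rw [← AdicCompletion.map_val_apply, hx]
    rfl
  · intro y
    constructor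
    · intro hy
      have hex : ∀ n, ∃ k, LinearMap.reduceModIdeal (I ^ n) f k = y.val n := fun n => by
        obtain ⟨p, hp⟩ := Submodule.Quotient.mk_surjective _ (y.val n)
        have h : LinearMap.reduceModIdeal (I ^ n) g (y.val n) = 0 := by
          rw [← AdicCompletion.map_val_apply, hy]; rfl
        rw [← hp] at h
        have h' : g p ∈ (I ^ n • ⊤ : Submodule R M) := (Submodule.Quotient.mk_eq_zero _).1 h
        rw [← LinearMap.range_eq_top.2 hg, LinearMap.range_eq_map, ← Submodule.map_smul''] at h'
        obtain ⟨z, hz, hzg⟩ := h'
        obtain ⟨k, hk⟩ := (hfg (p - z)).1 (by rw [map_sub, hzg, sub_self])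
        refine ⟨Submodule.Quotient.mk k, ?_⟩
        rw [← hp]
        show Submodule.Quotient.mk (f k) = Submodule.Quotient.mk p
        rw [hk]
        exact (Submodule.Quotient.eq _).2 (by simpa using neg_mem hz)
      choose k hk using hex
      refine ⟨⟨k, fun {a b} hab => ?_⟩, AdicCompletion.ext fun n => (AdicCompletion.map_val_apply _ _ _).trans (hk n)⟩
      rw [← sub_eq_zero]
      refine hinj a _ ?_
      rw [map_sub, hk a, ← y.prop hab, ← hk b, sub_eq_zero]
      obtain ⟨q, hq⟩ := Submodule.Quotient.mk_surjective _ (k b)
      rw [← hq]
      rfl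
    · rintro ⟨x, rfl⟩
      refine AdicCompletion.ext fun n => ?_
      obtain ⟨q, hq⟩ := Submodule.Quotient.mk_surjective _ (x.val n)
      rw [AdicCompletion.map_val_apply, AdicCompletion.map_val_apply, ← hq]
      show Submodule.Quotient.mk (g (f q)) = _
      rw [hfg.apply_apply_eq_zero]
      rfl

end Groth.Agent.S9131
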