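import Groth.Statements.S9132
import Mathlib

set_option autoImplicit false
universe u
open CAlg

namespace Groth.Agent.S9132

theorem sum_mem_le {R : Type u} [CommRing R] {ι : Type*} (F : ι → Ideal R) (t : Finset ι) {J : Ideal R}
    (h : ∀ i ∈ t, F i ≤ J) : ∑ i ∈ t, F i ≤ J := by
  rw [Ideal.sum_eq_sup]; exact Finset.sup_le h

open IsLocalRing in
theorem exists_good {R : Type u} [CommRing R] [IsDomain R] [IsNoetherianRing R] [IsLocalRing R]
    (hR : ¬ IsField R) : ∃ x ∈ maximalIdeal R, x ≠ 0 ∧ ∀ r : ℕ, x ^ r ∉ maximalIdeal R ^ (r + 1) := by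
  classical
  by_contra hcon
  push Not at hcon
  obtain ⟨s, hs⟩ := IsNoetherian.noetherian (maximalIdeal R)
  have key : ∀ t : Finset R, (t : Set R) ⊆ maximalIdeal R →
      ∃ N, Ideal.span (t : Set R) ^ N ≤ maximalIdeal R ^ (N + 1) := by
    intro t
    induction t using Finset.induction with
    | empty => exact fun _ => ⟨1, by simp⟩
    | insert x t hxt ih =>
      intro ht
      rw [Finset.coe_insert, Set.insert_subset_iff] at ht
      obtain ⟨b, hb⟩ := ih ht.2
      obtain ⟨a, ha⟩ : ∃ a, x ^ a ∈ maximalIdeal R ^ (a + 1) := by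
        by_cases hx0 : x = 0
        · exact ⟨1, by rw [hx0, pow_one]; exact zero_mem _⟩
        · exact hcon x ht.1 hx0
      refine ⟨a + b, ?_⟩
      rw [Finset.coe_insert, Ideal.span_insert, ← Ideal.add_eq_sup, add_pow]
      refine sum_mem_le _ _ fun i hi => ?_
      have hi' : i ≤ a + b := Nat.lt_succ_iff.1 (Finset.mem_range.1 hi)
      refine Ideal.mul_le_left.trans ?_
      have hI : Ideal.span {x} ≤ maximalIdeal R := (Ideal.span_singleton_le_iff_mem _).2 ht.1
      have hJ : Ideal.span (t : Set R) ≤ maximalIdeal R := Ideal.span_le.2 ht.2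
      rcases le_or_gt a i with h | h
      · obtain ⟨c, rfl⟩ := Nat.exists_eq_add_of_le h
        have hIa : Ideal.span {x} ^ a ≤ maximalIdeal R ^ (a + 1) := by
          rw [Ideal.span_singleton_pow, Ideal.span_singleton_le_iff_mem]; exact ha
        calc Ideal.span {x} ^ (a + c) * Ideal.span (t : Set R) ^ (a + b - (a + c))
            ≤ maximalIdeal R ^ (a + 1) * maximalIdeal R ^ c * maximalIdeal R ^ (a + b - (a + c)) := by
              rw [pow_add]; exact Ideal.mul_mono (Ideal.mul_mono hIa (Ideal.pow_right_mono hI c)) (Ideal.pow_right_mono hJ _)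
          _ ≤ maximalIdeal R ^ (a + b + 1) := by
              rw [← pow_add, ← pow_add]; exact Ideal.pow_le_pow_right (by omega)
      · obtain ⟨c, hc⟩ := Nat.exists_eq_add_of_le (show b ≤ a + b - i by omega)
        rw [hc]
        calc Ideal.span {x} ^ i * Ideal.span (t : Set R) ^ (b + c)
            ≤ maximalIdeal R ^ i * (maximalIdeal R ^ (b + 1) * maximalIdeal R ^ c) := by
              rw [pow_add]; exact Ideal.mul_mono (Ideal.pow_right_mono hI i) (Ideal.mul_mono hb (Ideal.pow_right_mono hJ c))
          _ ≤ maximalIdeal R ^ (a + b + 1) := by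
              rw [← pow_add, ← pow_add]; exact Ideal.pow_le_pow_right (by omega)
  obtain ⟨N, hN⟩ := key s (fun x hx => hs ▸ Submodule.subset_span hx)
  change (Submodule.span R (s : Set R)) ^ N ≤ _ at hN
  rw [hs] at hN
  have h0 : maximalIdeal R ^ N = ⊥ := Submodule.eq_bot_of_le_smul_of_le_jacobson_bot (maximalIdeal R) _
    (IsNoetherian.noetherian _) (by rw [smul_eq_mul, ← pow_succ']; exact hN) (maximalIdeal_le_jacobson _)
  exact hR (isField_iff_maximalIdeal_eq.2 (eq_bot_iff.2 fun x hx =>
    (Ideal.mem_bot).2 (pow_eq_zero_iff'.1 ((Ideal.mem_bot).1 (h0 ▸ Ideal.pow_mem_pow hx N))).1))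


/-- A Noetherian local domain R that is not a field is dominated by a Noetherian local ring R' of
dimension one lying between R and its fraction field, with R' essentially of finite type over R. -/
theorem result (R : Type u) [CommRing R] [IsDomain R]
    [IsNoetherianRing R] [IsLocalRing R] (hR : ¬ IsField R) :
    ∃ R' : Subalgebra R (FractionRing R), ∃ _ : IsLocalRing R',
      IsNoetherianRing R' ∧ ringKrullDim R' = 1 ∧ IsLocalHom (algebraMap R R') ∧
        Algebra.EssFiniteType R R' := by
  classical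
  obtain ⟨x, hxm, hx0, hx⟩ := exists_good hR
  obtain ⟨s, hs⟩ := IsNoetherian.noetherian (IsLocalRing.maximalIdeal R)
  let K := FractionRing R
  have hxK : algebraMap R K x ≠ 0 := (map_ne_zero_iff _ (IsFractionRing.injective R K)).2 hx0
  let T : Finset K := s.image fun y => algebraMap R K y * (algebraMap R K x)⁻¹
  let B : Subalgebra R K := Algebra.adjoin R (T : Set K)
  have hB : ∀ b ∈ B, ∃ (r : ℕ) (a : R), a ∈ IsLocalRing.maximalIdeal R ^ r ∧ b * algebraMap R K x ^ r = algebraMap R K a := by
    intro b hb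
    induction hb using Algebra.adjoin_induction with
    | mem b hb =>
      obtain ⟨y, hy, rfl⟩ := Finset.mem_image.1 hb
      exact ⟨1, y, by rw [pow_one]; exact hs ▸ Submodule.subset_span hy, by rw [pow_one, inv_mul_cancel_right₀ hxK]⟩
    | algebraMap r => exact ⟨0, r, by simp, by rw [pow_zero, mul_one]⟩
    | add b c _ _ hb hc =>
      obtain ⟨i, a, ha, hb⟩ := hb
      obtain ⟨j, a', ha', hc⟩ := hc
      refine ⟨i + j, a * x ^ j + a' * x ^ i, add_mem ?_ ?_, ?_⟩
      · rw [pow_add]; exact Ideal.mul_mem_mul ha (Ideal.pow_mem_pow hxm j)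
      · rw [add_comm i j, pow_add]; exact Ideal.mul_mem_mul ha' (Ideal.pow_mem_pow hxm i)
      · rw [map_add, map_mul, map_mul, map_pow, map_pow, ← hb, ← hc]; ring
    | mul b c _ _ hb hc =>
      obtain ⟨i, a, ha, hb⟩ := hb
      obtain ⟨j, a', ha', hc⟩ := hc
      exact ⟨i + j, a * a', by rw [pow_add]; exact Ideal.mul_mem_mul ha ha', by rw [map_mul, ← hb, ← hc]; ring⟩
  haveI : Algebra.FiniteType R B := (Subalgebra.fg_iff_finiteType B).1 ⟨T, rfl⟩
  haveI : IsNoetherianRing B := Algebra.FiniteType.isNoetherianRing R B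
  set xB : B := algebraMap R B x with hxB
  have hxB0 : xB ≠ 0 := fun h => hxK (congrArg Subtype.val h)
  have hne : Ideal.span {xB} ≠ ⊤ := by
    intro h
    obtain ⟨b, hb⟩ := Ideal.mem_span_singleton'.1 (h ▸ Submodule.mem_top (x := (1 : B)))
    obtain ⟨r, a, ha, hab⟩ := hB b.1 b.2
    have hb' : b.1 * algebraMap R K x = 1 := congrArg Subtype.val hb
    refine hx r ?_
    have : x ^ r = x * a := IsFractionRing.injective R K (by
      rw [map_pow, map_mul, ← hab, ← mul_assoc, mul_comm (algebraMap R K x) b.1, hb', one_mul])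
    rw [this, pow_succ']
    exact Ideal.mul_mem_mul hxm ha
  obtain ⟨P, hP⟩ := Ideal.nonempty_minimalPrimes hne
  haveI hPp : P.IsPrime := hP.1.1
  have hxP : xB ∈ P := hP.1.2 (Ideal.subset_span rfl)
  have hPne : P ≠ ⊥ := fun h => hxB0 (Ideal.mem_bot.1 (h ▸ hxP))
  have hPh : P.height = 1 := le_antisymm (Ideal.height_le_one_of_isPrincipal_of_mem_minimalPrimes _ P hP)
    (Order.one_le_iff_pos.2 (pos_iff_ne_zero.2 fun h => hPne (Ideal.height_eq_zero_iff_eq_bot.1 h)))
  have hmP : ∀ r ∈ IsLocalRing.maximalIdeal R, algebraMap R B r ∈ P := by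
    intro r hr
    have hle : IsLocalRing.maximalIdeal R ≤ P.comap (algebraMap R B) := by
      rw [← hs, Ideal.span_le]
      intro y hy
      show algebraMap R B y ∈ P
      let z : B := ⟨algebraMap R K y * (algebraMap R K x)⁻¹, Algebra.subset_adjoin (Finset.mem_image.2 ⟨y, hy, rfl⟩)⟩
      have hz : algebraMap R B y = z * xB := Subtype.ext (by
        show algebraMap R K y = algebraMap R K y * (algebraMap R K x)⁻¹ * algebraMap R K x
        rw [inv_mul_cancel_right₀ hxK])
      rw [hz]; exact P.mul_mem_left _ hxP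
    exact hle hr
  let L := Localization.subalgebra.ofField K P.primeCompl P.primeCompl_le_nonZeroDivisors
  haveI : IsLocalization.AtPrime L P := Localization.subalgebra.isLocalization_ofField K P.primeCompl P.primeCompl_le_nonZeroDivisors
  haveI : IsLocalRing L := IsLocalization.AtPrime.isLocalRing L P
  haveI : Algebra.EssFiniteType B L := Algebra.EssFiniteType.of_isLocalization L P.primeCompl
  haveI : Algebra.EssFiniteType R L := Algebra.EssFiniteType.comp R B L
  refine ⟨L.restrictScalars R, ‹IsLocalRing L›, IsLocalization.isNoetherianRing P.primeCompl L inferInstance, ?_, ⟨fun r hr => ?_⟩, ‹Algebra.EssFiniteType R L›⟩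
  · show ringKrullDim L = 1
    rw [IsLocalization.AtPrime.ringKrullDim_eq_height P L, hPh]; rfl
  · by_contra hu
    have h1 : algebraMap B L (algebraMap R B r) ∈ IsLocalRing.maximalIdeal L :=
      (IsLocalization.AtPrime.to_map_mem_maximal_iff L P _).2 (hmP r hu)
    exact h1 hr

end Groth.Agent.S9132
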