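import Groth.Statements.S9133
import Groth.Agent.Lib.KrullAkizuki.Basic
import Mathlib

set_option autoImplicit false
universe u
open CAlg

namespace Groth.Agent.S9133


open IsLocalRing


/-- Let R → S be a homomorphism of domains compatible with field maps K → L of their fraction fields (so
R → S is injective), where R is Noetherian local of dimension one and L is finite over K. Then each
prime n of S whose contraction to R is the maximal ideal of R is a maximal ideal of S, only finitely
many such n exist, and each quotient S/n is a finite R-module (its residue field is a finite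
extension of that of R). -/
theorem result (R S K L : Type u)
    [CommRing R] [IsDomain R] [IsNoetherianRing R] [IsLocalRing R] (hdim : ringKrullDim R = 1)
    [CommRing S] [IsDomain S] [Algebra R S] [Field K] [Field L] [Algebra R K] [IsFractionRing R K]
    [Algebra S L] [IsFractionRing S L] [Algebra K L] [Algebra R L] [IsScalarTower R K L]
    [IsScalarTower R S L] [FiniteDimensional K L] :
    (∀ n ∈ (IsLocalRing.maximalIdeal R).primesOver S, n.IsMaximal) ∧
      ((IsLocalRing.maximalIdeal R).primesOver S).Finite ∧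
      ∀ n ∈ (IsLocalRing.maximalIdeal R).primesOver S, Module.Finite R (S ⧸ n) := by
  haveI : Ring.KrullDimLE 1 R := Ring.krullDimLE_iff.2 hdim.le
  obtain ⟨a, ham, ha⟩ := Submodule.exists_mem_ne_zero_of_ne_bot (p := maximalIdeal R) (fun hbot => by
    have := ringKrullDim_eq_zero_of_isField (isField_iff_maximalIdeal_eq.2 hbot)
    rw [hdim] at this
    exact one_ne_zero this)
  let ψ : S →ₗ[R] L := (IsScalarTower.toAlgHom R S L).toLinearMap
  let M := LinearMap.range ψ
  let eS : S ≃ₗ[R] M := LinearEquiv.ofInjective ψ (IsFractionRing.injective S L)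
  have hlen : Module.length R (S ⧸ Groth.Agent.KrullAkizuki.mulRange a S) ≠ ⊤ := by
    rw [(Submodule.Quotient.equiv _ (Groth.Agent.KrullAkizuki.mulRange a M) eS (by
      ext v
      constructor
      · rintro ⟨_, ⟨z, rfl⟩, rfl⟩; exact ⟨eS z, by simp⟩
      · rintro ⟨z, rfl⟩; exact ⟨a • eS.symm z, ⟨_, rfl⟩, by simp⟩)).length_eq]
    exact Groth.Agent.KrullAkizuki.length_quotient_le R K M ha
  let J : Ideal S := Ideal.span {algebraMap R S a}
  have hJ : (J.restrictScalars R) = Groth.Agent.KrullAkizuki.mulRange a S := by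
    ext x
    rw [Submodule.restrictScalars_mem, Ideal.mem_span_singleton']
    exact ⟨fun ⟨z, hz⟩ => ⟨z, by rw [← hz]; simp [Algebra.smul_def, mul_comm]⟩,
      fun ⟨z, hz⟩ => ⟨z, by rw [← hz]; simp [Algebra.smul_def, mul_comm]⟩⟩
  have hfl : IsFiniteLength R (S ⧸ J) := by
    rw [← Module.length_ne_top_iff]
    rwa [← (Submodule.Quotient.restrictScalarsEquiv R J).length_eq, (Submodule.quotEquivOfEq _ _ hJ).length_eq]
  haveI : IsArtinian R (S ⧸ J) := (isFiniteLength_iff_isNoetherian_isArtinian.1 hfl).2
  haveI : IsNoetherian R (S ⧸ J) := (isFiniteLength_iff_isNoetherian_isArtinian.1 hfl).1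
  haveI : IsArtinianRing (S ⧸ J) := isArtinian_of_tower R (inferInstance : IsArtinian R (S ⧸ J))
  have hmem : ∀ n ∈ (maximalIdeal R).primesOver S, J ≤ n := fun n hn => by
    haveI := hn.2
    exact (Ideal.span_singleton_le_iff_mem _).2 ((n.mem_of_liesOver (maximalIdeal R) a).1 ham)
  refine ⟨fun n hn => ?_, ?_, fun n hn => ?_⟩
  · haveI := hn.1
    haveI : (n.map (Ideal.Quotient.mk J)).IsPrime :=
      Ideal.map_isPrime_of_surjective Ideal.Quotient.mk_surjective (by rw [Ideal.mk_ker]; exact hmem n hn)
    have hmax : (n.map (Ideal.Quotient.mk J)).IsMaximal := IsArtinianRing.isMaximal_of_isPrime _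
    have := Ideal.comap_isMaximal_of_surjective (Ideal.Quotient.mk J) Ideal.Quotient.mk_surjective (K := n.map (Ideal.Quotient.mk J))
    rwa [Ideal.comap_map_of_surjective _ Ideal.Quotient.mk_surjective, ← RingHom.ker_eq_comap_bot, Ideal.mk_ker,
      sup_eq_left.2 (hmem n hn)] at this
  · haveI : Finite (PrimeSpectrum (S ⧸ J)) := inferInstance
    refine ((Set.finite_range fun P : PrimeSpectrum (S ⧸ J) => P.asIdeal.comap (Ideal.Quotient.mk J))).subset
      fun n hn => ?_
    haveI := hn.1
    refine ⟨⟨n.map (Ideal.Quotient.mk J), Ideal.map_isPrime_of_surjective Ideal.Quotient.mk_surjective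
      (by rw [Ideal.mk_ker]; exact hmem n hn)⟩, ?_⟩
    show (n.map (Ideal.Quotient.mk J)).comap (Ideal.Quotient.mk J) = n
    rw [Ideal.comap_map_of_surjective _ Ideal.Quotient.mk_surjective, ← RingHom.ker_eq_comap_bot, Ideal.mk_ker,
      sup_eq_left.2 (hmem n hn)]
  · exact Module.Finite.of_surjective ((Ideal.Quotient.factorₐ R (hmem n hn)).toLinearMap)
      (Ideal.Quotient.factor_surjective (hmem n hn))

end Groth.Agent.S9133
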