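import Groth.Statements.S9135
import Mathlib

set_option autoImplicit false
universe u
open CAlg

namespace Groth.Agent.S9135

open Polynomial in
theorem exists_poly_mem_all {R S : Type u} [CommRing R] [CommRing S] [Algebra R S] [Algebra.FiniteType R S]
    (p : Ideal R) [p.IsPrime] (hfin : (p.primesOver S).Finite) (x : S) :
    ∃ f : R[X], f.leadingCoeff ∉ p ∧ ∀ Q ∈ p.primesOver S, aeval x f ∈ Q := by
  classical
  let P : PrimeSpectrum R := ⟨p, ‹_›⟩
  have hpre : (PrimeSpectrum.comap (algebraMap R S) ⁻¹' {P}).Finite := by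
    refine Set.Finite.of_finite_image (f := PrimeSpectrum.asIdeal) (hfin.subset ?_) fun a _ b _ h => PrimeSpectrum.ext h
    rintro _ ⟨q, hq, rfl⟩
    exact ⟨q.2, ⟨(congrArg PrimeSpectrum.asIdeal hq).symm⟩⟩
  haveI : Finite (PrimeSpectrum (p.Fiber S)) := (PrimeSpectrum.preimageEquivFiber R S P).finite_iff.mp hpre
  haveI : IsJacobsonRing (p.Fiber S) := isJacobsonRing_of_finiteType (A := p.ResidueField)
  haveI : Module.Finite p.ResidueField (p.Fiber S) := by
    rw [Module.finite_iff_isArtinianRing, isArtinianRing_iff_isNoetherianRing_krullDimLE_zero]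
    exact ⟨Algebra.FiniteType.isNoetherianRing p.ResidueField _,
      (PrimeSpectrum.discreteTopology_iff_finite_and_krullDimLE_zero.mp inferInstance).right⟩
  let y : p.Fiber S := Algebra.TensorProduct.includeRight (R := R) x
  obtain ⟨F, hFm, hF⟩ := Algebra.IsIntegral.isIntegral (R := p.ResidueField) y
  let f' := IsLocalization.integerNormalization (nonZeroDivisors (R ⧸ p)) F
  obtain ⟨b, hb⟩ := IsLocalization.integerNormalization_map_to_map (nonZeroDivisors (R ⧸ p)) F
  have hbK : algebraMap (R ⧸ p) p.ResidueField b.1 ≠ 0 :=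
    (map_ne_zero_iff _ (IsFractionRing.injective (R ⧸ p) p.ResidueField)).2 (nonZeroDivisors.ne_zero b.2)
  obtain ⟨f, hf, hdeg⟩ := Polynomial.exists_degree_eq_of_mem_lifts
    (f := Ideal.Quotient.mk p) (p := f') ((Polynomial.mem_lifts f').2 (Polynomial.map_surjective _ Ideal.Quotient.mk_surjective f'))
  have hf'0 : f' ≠ 0 := fun h => by
    rw [show IsLocalization.integerNormalization (nonZeroDivisors (R ⧸ p)) F = f' from rfl, h, Polynomial.map_zero] at hb
    have h2 := congrArg (fun g : p.ResidueField[X] => g.coeff F.natDegree) hb.symm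
    simp only [coeff_smul, coeff_zero, coeff_natDegree, hFm.leadingCoeff] at h2
    refine hbK ?_
    rw [Algebra.algebraMap_eq_smul_one]
    exact h2
  refine ⟨f, fun hlead => hf'0 (leadingCoeff_eq_zero.1 ?_), fun Q hQ => ?_⟩
  · rw [leadingCoeff, show f'.natDegree = f.natDegree by rw [natDegree, natDegree, hdeg], ← hf, coeff_map]
    exact Ideal.Quotient.eq_zero_iff_mem.2 hlead
  · have hzero : Algebra.TensorProduct.includeRight (R := R) (A := p.ResidueField) (aeval x f) = 0 := by
      rw [← Polynomial.aeval_algHom_apply]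
      show aeval y f = 0
      rw [← aeval_map_algebraMap p.ResidueField y f,
        show algebraMap R p.ResidueField = (algebraMap (R ⧸ p) p.ResidueField).comp (Ideal.Quotient.mk p) from rfl,
        ← Polynomial.map_map, hf, hb, ← IsScalarTower.algebraMap_smul p.ResidueField, map_smul]
      show _ • eval₂ (algebraMap p.ResidueField (p.Fiber S)) y F = 0
      rw [hF, smul_zero]
    have hQp : (⟨Q, hQ.1⟩ : PrimeSpectrum S) ∈ PrimeSpectrum.comap (algebraMap R S) ⁻¹' {P} :=
      PrimeSpectrum.ext hQ.2.over.symm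
    have h1 := congrArg (fun q => q.1.asIdeal) ((PrimeSpectrum.preimageEquivFiber R S P).symm_apply_apply ⟨_, hQp⟩)
    change _ = Q at h1
    rw [← h1]
    generalize (PrimeSpectrum.preimageEquivFiber R S P) ⟨_, hQp⟩ = q
    show Algebra.TensorProduct.includeRight (R := R) (A := p.ResidueField) (aeval x f) ∈ q.asIdeal
    rw [hzero]
    exact zero_mem _

theorem exists_smul_nilpotent {R S : Type u} [CommRing R] [CommRing S] [Algebra R S]
    {p : Ideal R} (hp : p ∈ minimalPrimes R) (y : S) (hy : ∀ Q ∈ p.primesOver S, y ∈ Q) :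
    ∃ s : R, s ∉ p ∧ IsNilpotent (algebraMap R S s * y) := by
  haveI : p.IsPrime := hp.1.1
  by_contra hcon
  push Not at hcon
  let M : Submonoid S := Algebra.algebraMapSubmonoid S p.primeCompl ⊔ Submonoid.powers y
  have h0 : Disjoint ((⊥ : Ideal S) : Set S) (M : Set S) := by
    rw [Set.disjoint_left]
    intro a ha haM
    obtain ⟨_, ⟨s, hs, rfl⟩, _, ⟨k, rfl⟩, e⟩ := Submonoid.mem_sup.1 haM
    refine hcon s hs ⟨k + 1, ?_⟩
    have e0 : algebraMap R S s * y ^ k = 0 := e.trans (Ideal.mem_bot.1 ha)
    calc (algebraMap R S s * y) ^ (k + 1) = algebraMap R S s ^ k * y * (algebraMap R S s * y ^ k) := by ring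
      _ = 0 := by rw [e0, mul_zero]
  obtain ⟨Q, hQ, -, hdisj⟩ := Ideal.exists_le_prime_disjoint _ _ h0
  have hle : Q.comap (algebraMap R S) ≤ p := fun r hr => by
    by_contra hrp
    exact Set.disjoint_left.1 hdisj hr (Submonoid.mem_sup_left ⟨r, hrp, rfl⟩)
  exact Set.disjoint_left.1 hdisj (hy Q ⟨hQ, ⟨le_antisymm (hp.2 ⟨inferInstance, bot_le⟩ hle) hle⟩⟩)
    (Submonoid.mem_sup_right (Submonoid.mem_powers y))

open Polynomial in
theorem exists_lead {R S : Type u} [CommRing R] [CommRing S] [Algebra R S] [Algebra.FiniteType R S]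
    {p : Ideal R} (hp : p ∈ minimalPrimes R) (hfin : (p.primesOver S).Finite) (x : S) :
    ∃ f : R[X], f.leadingCoeff ∉ p ∧ aeval x f = 0 := by
  haveI : p.IsPrime := hp.1.1
  obtain ⟨f, hf, hmem⟩ := exists_poly_mem_all p hfin x
  obtain ⟨s, hs, N, hN⟩ := exists_smul_nilpotent hp (aeval x f) hmem
  have hne : (s * f.leadingCoeff) ^ N ∉ p := fun h => (‹p.IsPrime›.mem_or_mem (‹p.IsPrime›.mem_of_pow_mem N h)).elim hs hf
  have h1 : s * f.leadingCoeff ≠ 0 := fun h => (‹p.IsPrime›.mem_or_mem (by rw [h]; exact p.zero_mem)).elim hs hf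
  have h2 : (C s * f).leadingCoeff = s * f.leadingCoeff := by
    rw [leadingCoeff_mul' (by rwa [leadingCoeff_C]), leadingCoeff_C]
  refine ⟨(C s * f) ^ N, ?_, by rw [map_pow, map_mul, aeval_C, hN]⟩
  rw [leadingCoeff_pow' (by rw [h2]; exact fun h => hne (h ▸ p.zero_mem)), h2]
  exact hne


/-- Let R → S be of finite type and p a minimal prime of R over which only finitely many primes of S
lie. Then for some g ∈ R outside p the localized map R_g → S_g is finite. -/
theorem result (R S : Type u) [CommRing R] [CommRing S]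
    [Algebra R S] [Algebra.FiniteType R S] (p : Ideal R) (hp : p ∈ minimalPrimes R)
    (hfin : (p.primesOver S).Finite) :
    ∃ g : R, g ∉ p ∧ (Localization.awayMap (algebraMap R S) g).Finite := by
  classical
  haveI : p.IsPrime := hp.1.1
  obtain ⟨t, ht⟩ := (‹Algebra.FiniteType R S›).out
  choose f hf hfx using fun x : S => exists_lead hp hfin x
  let g : R := ∏ x ∈ t, (f x).leadingCoeff
  have hgp : g ∉ p := fun h => by
    obtain ⟨x, -, hx⟩ := (‹p.IsPrime›.prod_mem_iff (s := t)).1 h
    exact hf x hx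
  refine ⟨g, hgp, ?_⟩
  let Rg := Localization.Away g
  let Sg := Localization.Away (algebraMap R S g)
  let φ : Rg →+* Sg := Localization.awayMap (algebraMap R S) g
  letI : Algebra Rg Sg := φ.toAlgebra
  have hφ : ∀ r : R, φ (algebraMap R Rg r) = algebraMap S Sg (algebraMap R S r) := fun r => IsLocalization.map_eq _ r
  show RingHom.Finite φ
  refine RingHom.IsIntegral.to_finite ?_ ?_
  · intro z
    obtain ⟨y, ⟨_, k, rfl⟩, rfl⟩ := IsLocalization.exists_mk'_eq (Submonoid.powers (algebraMap R S g)) z
    have hall : ∀ y : S, φ.IsIntegralElem (algebraMap S Sg y) := by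
      intro y
      have hy : y ∈ Algebra.adjoin R (t : Set S) := ht.symm ▸ Algebra.mem_top
      induction hy using Algebra.adjoin_induction with
      | mem x hx =>
        have hu : IsUnit (algebraMap R Rg (f x).leadingCoeff) :=
          isUnit_of_dvd_unit (map_dvd (algebraMap R Rg) (Finset.dvd_prod_of_mem (fun x => (f x).leadingCoeff) hx))
            (IsLocalization.Away.algebraMap_isUnit (S := Rg) g)
        let F : Polynomial Rg := Polynomial.C (hu.unit⁻¹ : Rgˣ).1 * (f x).map (algebraMap R Rg)
        rcases subsingleton_or_nontrivial Rg with hs | hs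
        · exact ⟨1, Polynomial.monic_one, by rw [← map_one Polynomial.C, Polynomial.eval₂_C, Subsingleton.elim (1 : Rg) 0, map_zero]⟩
        refine ⟨F, ?_, ?_⟩
        · have hd : ((f x).map (algebraMap R Rg)).leadingCoeff = algebraMap R Rg (f x).leadingCoeff :=
            Polynomial.leadingCoeff_map_of_leadingCoeff_ne_zero _ hu.ne_zero
          exact Polynomial.monic_C_mul_of_mul_leadingCoeff_eq_one (by rw [hd]; exact hu.val_inv_mul)
        · rw [Polynomial.eval₂_mul, Polynomial.eval₂_map,
            show φ.comp (algebraMap R Rg) = (algebraMap S Sg).comp (algebraMap R S) from RingHom.ext hφ,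
            ← Polynomial.hom_eval₂, ← Polynomial.aeval_def, hfx, map_zero, mul_zero]
      | algebraMap r => rw [← hφ]; exact φ.isIntegralElem_map
      | add a b _ _ ha hb => rw [map_add]; exact ha.add φ hb
      | mul a b _ _ ha hb => rw [map_mul]; exact ha.mul φ hb
    obtain ⟨u, hu⟩ := (IsLocalization.map_units (M := Submonoid.powers g) Rg ⟨g ^ k, k, rfl⟩ : IsUnit _)
    have e : IsLocalization.mk' Sg y (⟨algebraMap R S g ^ k, k, rfl⟩ : Submonoid.powers (algebraMap R S g)) = φ (u⁻¹ : Rgˣ).1 * algebraMap S Sg y := by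
      rw [IsLocalization.mk'_eq_iff_eq_mul]
      show _ = φ (u⁻¹ : Rgˣ).1 * algebraMap S Sg y * algebraMap S Sg (algebraMap R S g ^ k)
      rw [← map_pow (algebraMap R S), ← hφ, mul_right_comm, ← map_mul, show algebraMap R Rg (g ^ k) = u.1 from hu.symm, Units.inv_mul, map_one, one_mul]
    rw [e]
    exact φ.isIntegralElem_map.mul φ (hall y)
  · refine RingHom.FiniteType.of_comp_finiteType (f := algebraMap R Rg) ?_
    rw [show φ.comp (algebraMap R Rg) = (algebraMap S Sg).comp (algebraMap R S) from RingHom.ext hφ]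
    exact (RingHom.finiteType_algebraMap.2 (IsLocalization.finiteType_of_monoid_fg (Submonoid.powers (algebraMap R S g)) Sg)).comp
      (RingHom.finiteType_algebraMap.2 inferInstance)

end Groth.Agent.S9135
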