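import Groth.Statements.S9136
import Mathlib
import Groth.Agent.Lib.KrullAkizuki.Basic
import Groth.Agent.Lib.Cyc26.NormSum

set_option autoImplicit false
universe u
open CAlg

namespace Groth.Agent.S9136


open Groth.Agent.KrullAkizuki

variable {A : Type u} [CommRing A] [IsDomain A] [IsNoetherianRing A] [Ring.KrullDimLE 1 A]

theorem length_ne_top_of_killed {N : Type u} [AddCommGroup N] [Module A N] [Module.Finite A N] {c : A}
    (hc : c ≠ 0) (hN : ∀ z : N, c • z = 0) : Module.length A N ≠ ⊤ := by
  obtain ⟨n, q, hq⟩ := Module.Finite.exists_fin' A N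
  let one : Fin n → ((A ⧸ Ideal.span {c}) →ₗ[A] N) := fun i =>
    Submodule.liftQ (Ideal.span {c}) (LinearMap.toSpanSingleton A N (q (Pi.single i 1))) fun a ha => by
      obtain ⟨b, rfl⟩ := Ideal.mem_span_singleton'.1 ha
      rw [LinearMap.mem_ker, LinearMap.toSpanSingleton_apply, mul_smul, hN, smul_zero]
  let Φ : (Fin n → A ⧸ Ideal.span {c}) →ₗ[A] N := ∑ i, (one i).comp (LinearMap.proj i)
  have hΦ : Function.Surjective Φ := fun z => by
    obtain ⟨v, rfl⟩ := hq z
    refine ⟨fun i => Submodule.Quotient.mk (v i), ?_⟩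
    conv_rhs => rw [pi_eq_sum_univ' v]
    simp only [Φ, one, LinearMap.sum_apply, LinearMap.comp_apply, LinearMap.proj_apply, map_sum, map_smul]
    exact Finset.sum_congr rfl fun x _ => rfl
  refine ne_top_of_le_ne_top ?_ (Module.length_le_of_surjective Φ hΦ)
  rw [Module.length_pi_of_fintype, Finset.sum_const, nsmul_eq_mul]
  exact WithTop.mul_ne_top (ENat.coe_ne_top _) (length_quotient_span_ne_top hc)

theorem regular_of_injective {N : Type u} [AddCommGroup N] [Module A N] {B : Type u} [CommRing B]
    [IsDomain B] [Algebra A B] [FaithfulSMul A B] (j : N →ₗ[A] B) (hj : Function.Injective j) {a : A}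
    (ha : a ≠ 0) : IsSMulRegular N a := fun y z h => hj (by
  have h' := congrArg j h
  simp only [map_smul, Algebra.smul_def] at h'
  exact mul_left_cancel₀ ((map_ne_zero_iff _ (FaithfulSMul.algebraMap_injective A B)).2 ha) h')

/-- The length of `M/xM` for a finite torsion-free module containing a lattice of rank `n`. -/
theorem length_lattice {B : Type u} [CommRing B] [IsDomain B] [Algebra A B] [FaithfulSMul A B]
    {n : ℕ} (b : Fin n → B) (hb : LinearIndependent A b) (M : Submodule A B) (hM : M.FG)
    (hbM : Submodule.span A (Set.range b) ≤ M)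
    (htor : ∀ y : B, ∃ c : A, c ≠ 0 ∧ c • y ∈ Submodule.span A (Set.range b)) {x : A} (hx : x ≠ 0) :
    Module.length A (M ⧸ mulRange x M) = (n : ℕ∞) * Module.length A (A ⧸ Ideal.span {x}) := by
  classical
  set Λ := Submodule.span A (Set.range b)
  haveI : Module.Finite A M := Module.Finite.iff_fg.2 hM
  haveI : Module.Finite A Λ := Module.Finite.span_of_finite A (Set.finite_range b)
  obtain ⟨s, hs⟩ := hM
  choose c hc0 hc using htor
  let c₀ := ∏ y ∈ s, c y
  have hc₀ : c₀ ≠ 0 := Finset.prod_ne_zero_iff.2 fun y _ => hc0 y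
  have hkill : ∀ y ∈ M, c₀ • y ∈ Λ := by
    intro y hy
    rw [← hs] at hy
    refine Submodule.span_induction (fun z hz => ?_) (by simp) (fun a b _ _ ha hb => ?_)
      (fun a z _ hz => ?_) hy
    · rw [show c₀ = (∏ y ∈ s.erase z, c y) * c z from (Finset.prod_erase_mul s c hz).symm, mul_smul]
      exact Λ.smul_mem _ (hc z)
    · rw [smul_add]; exact add_mem ha hb
    · rw [smul_comm]; exact Λ.smul_mem _ hz
  let i : Λ →ₗ[A] M := Submodule.inclusion hbM
  let j : M →ₗ[A] Λ := (c₀ • M.subtype).codRestrict Λ fun z => hkill z.1 z.2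
  have hregM : ∀ {a : A}, a ≠ 0 → IsSMulRegular M a := fun {a} ha =>
    regular_of_injective M.subtype M.injective_subtype ha
  have hregΛ : ∀ {a : A}, a ≠ 0 → IsSMulRegular Λ a := fun {a} ha =>
    regular_of_injective Λ.subtype Λ.injective_subtype ha
  have hj : Function.Injective j := fun y z h => hregM hc₀ (Subtype.ext (congrArg Subtype.val h :))
  have h1 := length_quotient_le_of_finite_coker (hregΛ hx) (hregM hx) i
    (Submodule.inclusion_injective hbM) (length_ne_top_of_killed hc₀ fun z => by
      obtain ⟨z, rfl⟩ := Submodule.mkQ_surjective _ z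
      rw [← map_smul]
      exact (Submodule.Quotient.mk_eq_zero _).2 ⟨⟨c₀ • (z : B), hkill z.1 z.2⟩, rfl⟩)
  have h2 := length_quotient_le_of_finite_coker (hregM hx) (hregΛ hx) j hj
    (length_ne_top_of_killed hc₀ fun z => by
      obtain ⟨z, rfl⟩ := Submodule.mkQ_surjective _ z
      rw [← map_smul]
      exact (Submodule.Quotient.mk_eq_zero _).2 ⟨i z, rfl⟩)
  rw [le_antisymm h2 h1]
  let e : Λ ≃ₗ[A] (Fin n → A) := (Module.Basis.span hb).equivFun
  let Ψ : Λ →ₗ[A] (Fin n → A ⧸ Ideal.span {x}) :=
    (LinearMap.pi fun k => (Submodule.mkQ (Ideal.span {x})).comp (LinearMap.proj k)) ∘ₗ e.toLinearMap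
  have hΨ : Function.Surjective Ψ := fun w => by
    choose v hv using fun k => Submodule.Quotient.mk_surjective _ (w k)
    exact ⟨e.symm v, funext fun k => by simp [Ψ]; exact hv k⟩
  have hker : LinearMap.ker Ψ = mulRange x Λ := by
    ext z
    constructor
    · intro h
      have h' : ∀ k, e z k ∈ Ideal.span ({x} : Set A) := fun k =>
        (Submodule.Quotient.mk_eq_zero _).1 (congrFun h k)
      choose v hv using fun k => Ideal.mem_span_singleton'.1 (h' k)
      refine ⟨e.symm v, e.injective ?_⟩
      rw [LinearMap.lsmul_apply, map_smul, e.apply_symm_apply]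
      funext k
      rw [Pi.smul_apply, smul_eq_mul, mul_comm, hv]
    · rintro ⟨w, rfl⟩
      funext k
      refine (Submodule.Quotient.mk_eq_zero _).2 ?_
      show e (x • w) k ∈ _
      rw [map_smul, Pi.smul_apply, smul_eq_mul]
      exact Ideal.mul_mem_right _ _ (Ideal.mem_span_singleton_self x)
  rw [((Submodule.quotEquivOfEq _ _ hker.symm).trans (Ψ.quotKerEquivOfSurjective hΨ)).length_eq,
    Module.length_pi_of_fintype, Finset.sum_const, nsmul_eq_mul, Finset.card_univ, Fintype.card_fin]



/-- Let A ⊆ B be a finite type extension of domains, A Noetherian local of dimension one, with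
compatible fraction fields K ⊆ L and L finite over K. Then B has finitely many maximal ideals, and
for a nonzero x in the maximal ideal of A the sum over the maximal ideals m of B of (length of B/m
over A, i.e. the residue degree) times (length of B_m / x B_m over B_m) is at most the degree of L
over K times the length of A/xA; equality holds exactly when B is a finite A-module. -/
theorem result (A B K L : Type u)
    [CommRing A] [IsDomain A] [IsNoetherianRing A] [IsLocalRing A] (hdim : ringKrullDim A = 1)
    [CommRing B] [IsDomain B] [Algebra A B] [FaithfulSMul A B] [Algebra.FiniteType A B]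
    [Field K] [Field L] [Algebra A K] [IsFractionRing A K] [Algebra B L] [IsFractionRing B L]
    [Algebra K L] [Algebra A L] [IsScalarTower A K L] [IsScalarTower A B L] [FiniteDimensional K L]
    (x : A) (hx : x ∈ IsLocalRing.maximalIdeal A) (hx0 : x ≠ 0) :
    Finite (MaximalSpectrum B) ∧
      (∑ᶠ m : MaximalSpectrum B,
          Module.length A (B ⧸ m.asIdeal) *
            Module.length (Localization.AtPrime m.asIdeal)
              (Localization.AtPrime m.asIdeal ⧸
                Ideal.span ({algebraMap A (Localization.AtPrime m.asIdeal) x} : Set _)) ≤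
        (Module.finrank K L : ℕ∞) * Module.length A (A ⧸ Ideal.span ({x} : Set A))) ∧
      ((∑ᶠ m : MaximalSpectrum B,
          Module.length A (B ⧸ m.asIdeal) *
            Module.length (Localization.AtPrime m.asIdeal)
              (Localization.AtPrime m.asIdeal ⧸
                Ideal.span ({algebraMap A (Localization.AtPrime m.asIdeal) x} : Set _)) =
        (Module.finrank K L : ℕ∞) * Module.length A (A ⧸ Ideal.span ({x} : Set A))) ↔ Module.Finite A B) := by
  classical
  haveI : Ring.KrullDimLE 1 A := Ring.krullDimLE_iff.2 hdim.le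
  have hinj : Function.Injective (algebraMap A B) := FaithfulSMul.algebraMap_injective A B
  have hBL : Function.Injective (algebraMap B L) := IsFractionRing.injective B L
  -- nonzero elements of B divide nonzero elements of A
  have hdvd : ∀ s : B, s ≠ 0 → ∃ a : A, a ≠ 0 ∧ s ∣ algebraMap A B a := fun s hs => by
    have h1 : IsAlgebraic A (algebraMap B L s) :=
      (IsFractionRing.isAlgebraic_iff A K L).2 (Algebra.IsAlgebraic.isAlgebraic _)
    exact ((isAlgebraic_algHom_iff (IsScalarTower.toAlgHom A B L) hBL).1 h1).exists_nonzero_dvd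
      (mem_nonZeroDivisors_of_ne_zero hs)
  have hclear : ∀ y : L, ∃ a : A, a ≠ 0 ∧ ∃ b : B, algebraMap B L b = a • y := fun y => by
    obtain ⟨b, s, hs, rfl⟩ := IsFractionRing.div_surjective (A := B) y
    obtain ⟨a, ha, t, ht⟩ := hdvd s (nonZeroDivisors.ne_zero hs)
    refine ⟨a, ha, b * t, ?_⟩
    have hs' : algebraMap B L s ≠ 0 := IsFractionRing.to_map_ne_zero_of_mem_nonZeroDivisors hs
    rw [Algebra.smul_def, IsScalarTower.algebraMap_apply A B L, ht, map_mul, map_mul, mul_assoc,
      mul_comm (algebraMap B L t), ← mul_assoc, mul_div_cancel₀ _ hs']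
  obtain ⟨n, β⟩ : ∃ n, Nonempty (Module.Basis (Fin n) K L) := ⟨_, ⟨Module.finBasis K L⟩⟩
  obtain ⟨β⟩ := β
  have hn : Module.finrank K L = n := by rw [Module.finrank_eq_card_basis β, Fintype.card_fin]
  choose a ha0 b hb using fun i => hclear (β i)
  have hli : LinearIndependent A b := by
    rw [Fintype.linearIndependent_iff]
    intro g hg i
    have h1 : ∑ k, (algebraMap A K (g k * a k)) • β k = 0 := by
      have := congrArg (algebraMap B L) hg
      rw [map_sum, map_zero] at this
      refine Eq.trans (Finset.sum_congr rfl fun k _ => ?_) this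
      rw [Algebra.smul_def (g k), map_mul (algebraMap B L), hb, ← IsScalarTower.algebraMap_apply, ← Algebra.smul_def,
        algebraMap_smul, mul_smul]
    have h2 := Fintype.linearIndependent_iff.1 β.linearIndependent _ h1 i
    rw [map_eq_zero_iff _ (IsFractionRing.injective A K)] at h2
    exact (mul_eq_zero.1 h2).resolve_right (ha0 i)
  set Λ := Submodule.span A (Set.range b)
  have htor : ∀ y : B, ∃ c : A, c ≠ 0 ∧ c • y ∈ Λ := fun y => by
    obtain ⟨d, hd⟩ := IsLocalization.exist_integer_multiples (nonZeroDivisors A) Finset.univ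
      (fun i => β.repr (algebraMap B L y) i)
    choose e he using fun i => hd i (Finset.mem_univ i)
    have hA : ∏ i, a i ≠ 0 := Finset.prod_ne_zero_iff.2 fun i _ => ha0 i
    refine ⟨(∏ i, a i) * d, mul_ne_zero hA (nonZeroDivisors.ne_zero d.2), ?_⟩
    have : ((∏ i, a i) * (d : A)) • y = ∑ i, ((∏ k ∈ Finset.univ.erase i, a k) * e i) • b i := by
      apply hBL
      rw [map_sum, Algebra.smul_def, map_mul, ← IsScalarTower.algebraMap_apply, ← Algebra.smul_def]
      conv_lhs => rw [← β.sum_repr (algebraMap B L y), Finset.smul_sum]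
      refine Finset.sum_congr rfl fun i _ => ?_
      rw [Algebra.smul_def _ (b i), map_mul (algebraMap B L), ← IsScalarTower.algebraMap_apply, hb, ← Algebra.smul_def,
        smul_smul, ← algebraMap_smul K ((∏ k, a k) * (d : A)), smul_smul,
        ← algebraMap_smul K ((∏ k ∈ Finset.univ.erase i, a k) * e i * a i)]
      congr 1
      rw [show (∏ k ∈ Finset.univ.erase i, a k) * e i * a i = (∏ k, a k) * e i by
        rw [← Finset.prod_erase_mul _ _ (Finset.mem_univ i)]; ring, map_mul, map_mul, he i,
        Algebra.smul_def, mul_assoc]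
    rw [this]
    exact Submodule.sum_mem _ fun i _ => Λ.smul_mem _ (Submodule.subset_span ⟨i, rfl⟩)
  -- B/xB
  set x' : B := algebraMap A B x
  have hx'0 : x' ≠ 0 := (map_ne_zero_iff _ hinj).2 hx0
  have hmr : mulRange x B = (Ideal.span {x'}).restrictScalars A := by
    ext z
    rw [Submodule.restrictScalars_mem, Ideal.mem_span_singleton']
    constructor
    · rintro ⟨w, rfl⟩; exact ⟨w, by rw [LinearMap.lsmul_apply, Algebra.smul_def, mul_comm]⟩
    · rintro ⟨w, rfl⟩; exact ⟨w, by rw [LinearMap.lsmul_apply, Algebra.smul_def, mul_comm]⟩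
  let eQ : (B ⧸ mulRange x B) ≃ₗ[A] (B ⧸ Ideal.span {x'}) :=
    (Submodule.quotEquivOfEq _ _ hmr).trans (Submodule.Quotient.restrictScalarsEquiv A (Ideal.span {x'}))
  let ι : B →ₗ[A] L := (IsScalarTower.toAlgHom A B L).toLinearMap
  have hfin : Module.length A (B ⧸ mulRange x B) ≠ ⊤ := by
    have h := length_quotient_le A K (LinearMap.range ι) hx0
    let eB : B ≃ₗ[A] LinearMap.range ι := LinearEquiv.ofInjective ι hBL
    rwa [(Submodule.Quotient.equiv (mulRange x B) (mulRange x (LinearMap.range ι)) eB (by
      ext z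
      constructor
      · rintro ⟨_, ⟨w, rfl⟩, rfl⟩; exact ⟨eB w, (map_smul eB x w).symm⟩
      · rintro ⟨w, rfl⟩
        refine ⟨x • eB.symm w, ⟨_, rfl⟩, ?_⟩
        exact (map_smul eB x _).trans (by rw [eB.apply_symm_apply]; rfl))).length_eq]
  have hFL : IsFiniteLength A (B ⧸ mulRange x B) := Module.length_ne_top_iff.1 hfin
  haveI : IsNoetherian A (B ⧸ mulRange x B) := (isFiniteLength_iff_isNoetherian_isArtinian.1 hFL).1
  haveI : IsArtinian A (B ⧸ mulRange x B) := (isFiniteLength_iff_isNoetherian_isArtinian.1 hFL).2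
  obtain ⟨s, hs⟩ := (Module.Finite.fg_top : (⊤ : Submodule A (B ⧸ mulRange x B)).FG)
  choose lift hlift using fun z => Submodule.mkQ_surjective (mulRange x B) z
  let M₀ : Submodule A B := Λ ⊔ Submodule.span A ((s.image lift : Finset B) : Set B)
  let red : ∀ M : Submodule A B, (M ⧸ mulRange x M) →ₗ[A] (B ⧸ mulRange x B) := fun M =>
    Submodule.mapQ _ _ M.subtype (by rintro _ ⟨w, rfl⟩; exact ⟨(w : B), rfl⟩)
  have hred : ∀ M, M₀ ≤ M → Function.Surjective (red M) := fun M hM => by
    rw [← LinearMap.range_eq_top, eq_top_iff, ← hs, Submodule.span_le]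
    intro z hz
    have : lift z ∈ M := hM (Submodule.mem_sup_right (Submodule.subset_span
      (by simpa using ⟨z, hz, rfl⟩)))
    exact ⟨Submodule.Quotient.mk ⟨lift z, this⟩, hlift z⟩
  have hM₀fg : M₀.FG :=
    (Submodule.fg_span (Set.finite_range b)).sup (Submodule.fg_span (Finset.finite_toSet _))
  have hlat : ∀ M : Submodule A B, M.FG → M₀ ≤ M →
      Module.length A (M ⧸ mulRange x M) = (n : ℕ∞) * Module.length A (A ⧸ Ideal.span {x}) :=
    fun M hM hle => length_lattice b hli M hM (le_sup_left.trans hle) htor hx0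
  set l := Module.length A (A ⧸ Ideal.span {x})
  have hbound : Module.length A (B ⧸ mulRange x B) ≤ n * l :=
    (Module.length_le_of_surjective _ (hred M₀ le_rfl)).trans (hlat M₀ hM₀fg le_rfl).le
  have hiff : Module.length A (B ⧸ mulRange x B) = n * l ↔ Module.Finite A B := by
    constructor
    · intro heq
      have hinjred : ∀ M, M.FG → M₀ ≤ M → Function.Injective (red M) := fun M hM hle => by
        have h := Module.length_eq_add_of_exact _ _ (LinearMap.ker (red M)).injective_subtype
          (hred M hle) (LinearMap.exact_subtype_ker_map _)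
        rw [hlat M hM hle, ← heq] at h
        have h0 : Module.length A (LinearMap.ker (red M)) = 0 := by
          refine WithTop.add_right_cancel hfin ?_
          exact (h.symm.trans (zero_add _).symm :)
        exact LinearMap.ker_eq_bot.1 (Submodule.subsingleton_iff_eq_bot.1 (Module.length_eq_zero_iff.1 h0))
      refine ⟨?_⟩
      rw [← top_le_iff.1 (show (⊤ : Submodule A B) ≤ M₀ from fun y _ => ?_)]
      · exact hM₀fg
      let M := M₀ ⊔ Submodule.span A {y}
      have hMfg : M.FG := hM₀fg.sup (Submodule.fg_span_singleton y)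
      refine (Submodule.le_of_le_smul_of_le_jacobson_bot (I := Ideal.span {x}) hMfg ?_ ?_)
        (Submodule.mem_sup_right (Submodule.mem_span_singleton_self y) : y ∈ M)
      · rw [IsLocalRing.jacobson_eq_maximalIdeal ⊥ bot_ne_top, Ideal.span_singleton_le_iff_mem]
        exact hx
      · intro z hz
        obtain ⟨q, hq⟩ := hred M₀ le_rfl (Submodule.Quotient.mk z)
        obtain ⟨m, rfl⟩ := Submodule.Quotient.mk_surjective _ q
        have h1 : red M (Submodule.Quotient.mk ⟨z, hz⟩) =
            red M (Submodule.Quotient.mk ⟨m, le_sup_left (a := M₀) m.2⟩) := hq.symm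
        obtain ⟨w, hw⟩ := (Submodule.Quotient.eq _).1 (hinjred M hMfg le_sup_left h1)
        have h2 : z = (m : B) + x • (w : B) := by
          have := congrArg Subtype.val hw
          simp only [LinearMap.lsmul_apply, Submodule.coe_smul, Submodule.coe_sub] at this
          rw [this]; abel
        rw [h2]
        exact Submodule.add_mem_sup m.2 (Submodule.smul_mem_smul (Ideal.mem_span_singleton_self x) w.2)
    · intro hBfin
      refine le_antisymm hbound ?_
      rw [← hlat ⊤ Module.Finite.fg_top le_top]
      refine le_of_eq (LinearEquiv.length_eq (Submodule.Quotient.equiv _ _ Submodule.topEquiv ?_))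
      ext z
      constructor
      · rintro ⟨_, ⟨w, rfl⟩, rfl⟩; exact ⟨(w : B), rfl⟩
      · rintro ⟨w, rfl⟩; exact ⟨x • ⟨w, trivial⟩, ⟨_, rfl⟩, rfl⟩
  haveI : IsArtinian A (B ⧸ Ideal.span {x'}) := eQ.isArtinian_iff.1 inferInstance
  haveI : IsArtinianRing (B ⧸ Ideal.span {x'}) := isArtinian_of_tower A inferInstance
  have hgen : ∀ m : MaximalSpectrum B, x' ∉ m.asIdeal → m.asIdeal = ⊥ := fun m hm => by
    by_contra hne
    obtain ⟨s, hsm, hs0⟩ := Submodule.exists_mem_ne_zero_of_ne_bot hne
    obtain ⟨c, hc0, hsc⟩ := hdvd s hs0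
    haveI : m.asIdeal.IsMaximal := m.isMaximal
    have hp : (m.asIdeal.comap (algebraMap A B)).IsMaximal :=
      Ring.krullDimLE_one_iff_of_noZeroDivisors.mp ‹_› _ (fun h => hc0 (by
        have : c ∈ m.asIdeal.comap (algebraMap A B) := Ideal.mem_comap.2 (Ideal.mem_of_dvd _ hsc hsm)
        rwa [h, Ideal.mem_bot] at this)) inferInstance
    exact hm (show x ∈ m.asIdeal.comap (algebraMap A B) from
      (IsLocalRing.eq_maximalIdeal hp).symm ▸ hx)
  haveI hfinMax : Finite (MaximalSpectrum B) := by
    let F : MaximalSpectrum B → Option (MaximalSpectrum (B ⧸ Ideal.span {x'})) := fun m =>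
      if h : x' ∈ m.asIdeal then some ⟨m.asIdeal.map (Ideal.Quotient.mk _),
        (Ideal.map_eq_top_or_isMaximal_of_surjective _ Ideal.Quotient.mk_surjective m.isMaximal).resolve_left
          fun htop => m.isMaximal.ne_top (by
            have := congrArg (Ideal.comap (Ideal.Quotient.mk (Ideal.span {x'}))) htop
            rwa [Ideal.comap_map_mk (by rwa [Ideal.span_singleton_le_iff_mem]), Ideal.comap_top] at this)⟩
      else none
    refine Finite.of_injective F fun m₁ m₂ he => MaximalSpectrum.ext ?_
    simp only [F] at he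
    by_cases h₁ : x' ∈ m₁.asIdeal <;> by_cases h₂ : x' ∈ m₂.asIdeal <;>
      simp only [h₁, h₂, dite_true, dite_false, reduceCtorEq] at he
    · have := congrArg (Ideal.comap (Ideal.Quotient.mk (Ideal.span {x'})))
        (congrArg MaximalSpectrum.asIdeal (Option.some.inj he))
      rwa [Ideal.comap_map_mk (by rwa [Ideal.span_singleton_le_iff_mem]),
        Ideal.comap_map_mk (by rwa [Ideal.span_singleton_le_iff_mem])] at this
    · rw [hgen m₁ h₁, hgen m₂ h₂]
  refine ⟨hfinMax, ?_⟩
  haveI := Fintype.ofFinite (MaximalSpectrum B)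
  let em : MaximalSpectrum B ↪ PrimeSpectrum B :=
    ⟨MaximalSpectrum.toPrimeSpectrum, fun m₁ m₂ h => MaximalSpectrum.ext (congrArg PrimeSpectrum.asIdeal h :)⟩
  have hflB : IsFiniteLength B (B ⧸ Ideal.span {x'}) := by
    refine Module.length_ne_top_iff.1 (ne_top_of_le_ne_top hfin ?_)
    rw [eQ.length_eq]
    exact (Module.length_top (R := B) (M := B ⧸ Ideal.span {x'})).ge.trans
      ((Submodule.length_le_length_restrictScalars A _).trans (by rw [Submodule.restrictScalars_top, Module.length_top]))
  have hsum : (∑ᶠ m : MaximalSpectrum B,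
      Module.length A (B ⧸ m.asIdeal) *
        Module.length (Localization.AtPrime m.asIdeal)
          (Localization.AtPrime m.asIdeal ⧸
            Ideal.span ({algebraMap A (Localization.AtPrime m.asIdeal) x} : Set _))) =
      Module.length A (B ⧸ mulRange x B) := by
    rw [eQ.length_eq, Cyc26.length_eq_sum_locLen (Finset.univ.map em) (fun m => ⟨fun h => by
      obtain ⟨m', -, rfl⟩ := Finset.mem_map.1 h
      exact m'.isMaximal, fun h => Finset.mem_map.2 ⟨⟨m.asIdeal, h⟩, Finset.mem_univ _, rfl⟩⟩) _ hflB,
      Finset.sum_map, finsum_eq_sum_of_fintype]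
    refine Finset.sum_congr rfl fun m _ => ?_
    congr 1
    haveI : IsLocalization.AtPrime (Localization.AtPrime m.asIdeal) (em m).asIdeal :=
      inferInstanceAs (IsLocalization.AtPrime (Localization.AtPrime m.asIdeal) m.asIdeal)
    rw [Cyc26.locLen_quotient (em m) (Localization.AtPrime m.asIdeal) (Ideal.span {x'}), Ideal.map_span,
      Set.image_singleton, ← IsScalarTower.algebraMap_apply]
  rw [hsum, hn]
  exact ⟨hbound, hiff⟩

end Groth.Agent.S9136
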