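import Groth.Statements.S9137
import Groth.Agent.Lib.CAlgLow.QFIsolated
import Mathlib.RingTheory.EssentialFiniteness
import Mathlib.RingTheory.IntegralClosure.IsIntegralClosure.Basic

set_option autoImplicit false
universe u
open CAlg

namespace Groth.Agent.S9137


open IsLocalRing



/-- Let R → S be a local ring homomorphism between local rings, essentially of finite type, such that
the residue field of S is finite over that of R and S/m_R S has dimension zero. Then S is, as an
R-algebra, the localization of a finite R-algebra at a prime. -/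
theorem result (R S : Type u) [CommRing R] [CommRing S]
    [IsLocalRing R] [IsLocalRing S] [Algebra R S] [IsLocalHom (algebraMap R S)]
    [Algebra.EssFiniteType R S]
    (hres : Module.Finite (IsLocalRing.ResidueField R) (IsLocalRing.ResidueField S))
    (hdim : ringKrullDim (S ⧸ (IsLocalRing.maximalIdeal R).map (algebraMap R S)) = 0) :
    ∃ (S' : Type u) (_ : CommRing S') (_ : Algebra R S') (_ : Algebra S' S) (_ : IsScalarTower R S' S)
      (q : Ideal S') (_ : q.IsPrime), Module.Finite R S' ∧ IsLocalization.AtPrime S q := by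
  classical
  let S₀ := Algebra.EssFiniteType.subalgebra R S
  have hloc : IsLocalization (Algebra.EssFiniteType.submonoid R S) S := inferInstance
  let n : Ideal S₀ := (maximalIdeal S).comap (algebraMap S₀ S)
  have hsub : Algebra.EssFiniteType.submonoid R S = n.primeCompl := by
    ext x
    rw [Algebra.EssFiniteType.submonoid, Submonoid.mem_comap, IsUnit.mem_submonoid_iff]
    exact IsLocalRing.notMem_maximalIdeal.symm
  rw [hsub] at hloc
  have hnm : n.comap (algebraMap R S₀) = maximalIdeal R := by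
    rw [Ideal.comap_comap, ← IsScalarTower.algebraMap_eq]
    exact IsLocalRing.maximalIdeal_comap _
  have hmax : n.IsMaximal := by
    have : Module.Finite R (ResidueField R) := Module.Finite.of_surjective (Algebra.linearMap R _) residue_surjective
    have : Module.Finite R (ResidueField S) := Module.Finite.trans (ResidueField R) _
    have : Algebra.IsIntegral R (ResidueField S) := Algebra.IsIntegral.of_finite R _
    let φ : S₀ →ₐ[R] ResidueField S := (IsScalarTower.toAlgHom R S (ResidueField S)).comp S₀.val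
    have hk : RingHom.ker φ.toRingHom = n := Ideal.ext fun x => residue_eq_zero_iff _
    have : n.IsPrime := Ideal.IsPrime.comap _
    have : IsDomain (S₀ ⧸ n) := inferInstance
    have : Algebra.IsIntegral R (S₀ ⧸ n) := by
      constructor
      intro z
      let ψ : (S₀ ⧸ n) →ₐ[R] ResidueField S := Ideal.Quotient.liftₐ n φ (fun a ha => (hk.ge ha :))
      have hψ : Function.Injective ψ := by
        rw [injective_iff_map_eq_zero]
        intro w hw
        obtain ⟨v, rfl⟩ := Ideal.Quotient.mk_surjective w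
        exact Ideal.Quotient.eq_zero_iff_mem.2 (hk.le (RingHom.mem_ker.2 hw))
      exact (isIntegral_algHom_iff ψ hψ).1 (Algebra.IsIntegral.isIntegral _)
    refine Ideal.Quotient.maximal_of_isField n ?_
    let m := maximalIdeal R
    let := Ideal.Quotient.field m
    have hle : m ≤ RingHom.ker (algebraMap R (S₀ ⧸ n)) := fun a ha =>
      Ideal.Quotient.eq_zero_iff_mem.2 (show a ∈ n.comap (algebraMap R S₀) from hnm.ge ha)
    let : Algebra (R ⧸ m) (S₀ ⧸ n) := (Ideal.Quotient.lift m (algebraMap R (S₀ ⧸ n)) hle).toAlgebra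
    have : IsScalarTower R (R ⧸ m) (S₀ ⧸ n) := IsScalarTower.of_algebraMap_eq fun a => rfl
    have : Algebra.IsIntegral (R ⧸ m) (S₀ ⧸ n) := Algebra.IsIntegral.tower_top R
    exact isField_of_isIntegral_of_isField' (Field.toIsField (R ⧸ m))
  have hqf : Algebra.QuasiFiniteAt R n := by
    refine Groth.Agent.CAlgLow.quasiFiniteAt_of_isolated (maximalIdeal R) n hnm fun q hq hqm hle => ?_
    have hd : Disjoint (n.primeCompl : Set S₀) (q : Set S₀) :=
      Set.disjoint_left.2 fun x hx hxq => hx (hle hxq)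
    let Q := q.map (algebraMap S₀ S)
    have hQp : Q.IsPrime := IsLocalization.isPrime_of_isPrime_disjoint n.primeCompl S q hq hd
    have hQc : Q.comap (algebraMap S₀ S) = q := IsLocalization.comap_map_of_isPrime_disjoint n.primeCompl S hq hd
    have hmQ : (maximalIdeal R).map (algebraMap R S) ≤ Q := by
      rw [IsScalarTower.algebraMap_eq R S₀ S, ← Ideal.map_map]
      exact Ideal.map_mono (Ideal.map_le_iff_le_comap.2 hqm.ge)
    have : Ring.KrullDimLE 0 (S ⧸ (maximalIdeal R).map (algebraMap R S)) := by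
      rw [Ring.krullDimLE_iff, hdim]; rfl
    have hQmax : Q.IsMaximal := by
      let Q' := Q.map (Ideal.Quotient.mk ((maximalIdeal R).map (algebraMap R S)))
      have hQ' : Q'.IsPrime := Ideal.map_isPrime_of_surjective Ideal.Quotient.mk_surjective
        (by rwa [Ideal.mk_ker])
      have hm' : Q'.IsMaximal := Ideal.isMaximal_of_isPrime Q'
      have := Ideal.comap_isMaximal_of_surjective (Ideal.Quotient.mk ((maximalIdeal R).map (algebraMap R S)))
        Ideal.Quotient.mk_surjective (K := Q')
      rwa [Ideal.comap_map_of_surjective' _ Ideal.Quotient.mk_surjective, Ideal.mk_ker, sup_eq_left.2 hmQ] at this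
    rw [← hQc, IsLocalRing.eq_maximalIdeal hQmax]
  obtain ⟨S', hfg, r, hr, hbij⟩ :=
    Algebra.QuasiFiniteAt.exists_fg_and_exists_notMem_and_awayMap_bijective (R := R) n
  have hpow : ∀ a : S₀, ∃ k : ℕ, (r : S₀) ^ k * a ∈ S' := by
    intro a
    obtain ⟨z, hz⟩ := hbij.2 (algebraMap S₀ _ a)
    obtain ⟨c, ⟨_, k, rfl⟩, rfl⟩ := IsLocalization.exists_mk'_eq (Submonoid.powers r) z
    rw [Localization.awayMap, IsLocalization.Away.map, IsLocalization.map_mk', IsLocalization.mk'_eq_iff_eq_mul,
      ← map_mul] at hz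
    obtain ⟨⟨_, j, rfl⟩, hj⟩ := (IsLocalization.eq_iff_exists (Submonoid.powers (S'.val.toRingHom r)) _).1 hz
    refine ⟨j + k, ?_⟩
    simp only [Subalgebra.coe_val, AlgHom.toRingHom_eq_coe, RingHom.coe_coe, SubmonoidClass.coe_pow] at hj
    have : (r : S₀) ^ (j + k) * a = (r : S₀) ^ j * (c : S₀) := by
      rw [hj, pow_add, mul_assoc, mul_comm a]
    rw [this]
    exact mul_mem (pow_mem r.2 j) c.2
  let : Algebra S' S := ((algebraMap S₀ S).comp S'.val.toRingHom).toAlgebra
  have hT : IsScalarTower R S' S := IsScalarTower.of_algebraMap_eq fun a => rfl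
  refine ⟨S', inferInstance, inferInstance, inferInstance, hT, n.comap S'.val.toRingHom, inferInstance,
    Module.Finite.iff_fg.2 hfg, ?_⟩
  have hrn : ∀ k : ℕ, (r : S₀) ^ k ∈ n.primeCompl := fun k => pow_mem (show (r : S₀) ∈ n.primeCompl from hr) k
  refine (isLocalization_iff _ _).mpr ⟨fun y => ?_, fun z => ?_, fun {x y} hxy => ?_⟩
  · exact IsLocalization.map_units S (⟨(y.1 : S₀), y.2⟩ : n.primeCompl)
  · obtain ⟨a, s, rfl⟩ := IsLocalization.exists_mk'_eq n.primeCompl z
    obtain ⟨k, hk⟩ := hpow a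
    obtain ⟨l, hl⟩ := hpow s
    have hd : (r : S₀) ^ k * ((r : S₀) ^ l * s) ∈ S' := mul_mem (pow_mem r.2 k) hl
    have hn' : (r : S₀) ^ k * ((r : S₀) ^ l * s) ∈ n.primeCompl := mul_mem (hrn k) (mul_mem (hrn l) s.2)
    refine ⟨⟨⟨(r : S₀) ^ l * ((r : S₀) ^ k * a), mul_mem (pow_mem r.2 l) hk⟩, ⟨⟨_, hd⟩, hn'⟩⟩, ?_⟩
    show IsLocalization.mk' S a s * algebraMap S₀ S ((r : S₀) ^ k * ((r : S₀) ^ l * s)) =
      algebraMap S₀ S ((r : S₀) ^ l * ((r : S₀) ^ k * a))
    rw [map_mul, map_mul, map_mul, map_mul]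
    have := IsLocalization.mk'_spec S a s
    linear_combination (algebraMap S₀ S ((r : S₀) ^ k) * algebraMap S₀ S ((r : S₀) ^ l)) * this
  · have hxy' : algebraMap S₀ S (x : S₀) = algebraMap S₀ S (y : S₀) := hxy
    obtain ⟨⟨c, hc⟩, hcxy⟩ := (IsLocalization.eq_iff_exists n.primeCompl S).1 hxy'
    obtain ⟨k, hk⟩ := hpow c
    refine ⟨⟨⟨_, hk⟩, mul_mem (hrn k) hc⟩, Subtype.ext ?_⟩
    simp only at hcxy
    show (r : S₀) ^ k * c * (x : S₀) = (r : S₀) ^ k * c * (y : S₀)
    rw [mul_assoc, hcxy, mul_assoc]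

end Groth.Agent.S9137
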