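import Groth.Statements.S9138
import Groth.Agent.Lib.FormalH7.Stalk
import Mathlib.RingTheory.Artinian.Algebra

set_option autoImplicit false
universe u
open CAlg

namespace Groth.Agent.S9138

open AdicCompletion FSch in
theorem complMap_id_bijective {S : Type u} [CommRing S] (I K : Ideal S) (h : I.map (RingHom.id S) ≤ K) (e : ℕ) (he : 1 ≤ e)
    (hK : K ^ e ≤ I) : Function.Bijective (complMap I K (RingHom.id S) h) := by
  refine ⟨(injective_iff_map_eq_zero _).2 fun x hx => ext_evalₐ fun n => ?_, fun y => ?_⟩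
  · obtain ⟨a, rfl⟩ := AdicCompletion.mk_surjective I S x
    have h1 := congrArg (evalₐ K (e * n)) hx
    rw [Groth.Agent.FormalH7.evalₐ_complMap, _root_.map_zero, evalₐ_mk, Ideal.quotientMap_mk, Ideal.Quotient.eq_zero_iff_mem] at h1
    rw [_root_.map_zero, evalₐ_mk, Ideal.Quotient.eq_zero_iff_mem]
    have h2 := a.2 (Nat.le_mul_of_pos_left n (by omega : 0 < e))
    rw [SModEq.sub_mem, smul_eq_mul, Ideal.mul_top] at h2
    have h3 : K ^ (e * n) ≤ I ^ n := by rw [pow_mul]; exact Ideal.pow_right_mono hK n
    have h4 := add_mem h2 (h3 h1)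
    rwa [RingHom.id_apply, sub_add_cancel] at h4
  · obtain ⟨a, rfl⟩ := AdicCompletion.mk_surjective K S y
    refine ⟨AdicCompletion.mk I S (AdicCauchySequence.mk I S (fun n => a.1 (e * n)) fun n => ?_), ext_evalₐ fun n => ?_⟩
    · have h2 := a.2 (Nat.mul_le_mul_left e (Nat.le_succ n))
      rw [SModEq.sub_mem, smul_eq_mul, Ideal.mul_top] at h2 ⊢
      rw [pow_mul] at h2
      exact Ideal.pow_right_mono hK n h2
    · rw [Groth.Agent.FormalH7.evalₐ_complMap, evalₐ_mk, evalₐ_mk, Ideal.quotientMap_mk, Ideal.Quotient.eq]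
      have h2 := a.2 (Nat.le_mul_of_pos_left n (by omega : 0 < e))
      rw [SModEq.sub_mem, smul_eq_mul, Ideal.mul_top] at h2
      have h3 := neg_mem h2
      rw [neg_sub] at h3
      exact h3

open AdicCompletion FSch in
theorem complMap_finite {R S : Type u} [CommRing R] [CommRing S] [Algebra R S] (m : Ideal R) (K : Ideal S)
    (h : m.map (algebraMap R S) ≤ K) (h' : (m.map (algebraMap R S)).map (RingHom.id S) ≤ K)
    (hsurj : Function.Surjective (complMap (m.map (algebraMap R S)) K (RingHom.id S) h'))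
    {k : ℕ} (s : Fin k → S) (hs : ∀ x : S, ∃ c : Fin k → R, x - ∑ i, algebraMap R S (c i) * s i ∈ m.map (algebraMap R S)) :
    (complMap m K (algebraMap R S) h).Finite := by
  classical
  let I := m.map (algebraMap R S)
  have step : ∀ n, ∀ x ∈ I ^ n, ∃ c : Fin k → R, (∀ i, c i ∈ m ^ n) ∧ x - ∑ i, algebraMap R S (c i) * s i ∈ I ^ (n + 1) := by
    intro n x hx
    have h1 : x ∈ m ^ n • (⊤ : Submodule R S) := by
      rw [Ideal.smul_top_eq_map, Ideal.map_pow]; exact hx
    refine Submodule.smul_induction_on h1 (fun a ha t _ => ?_) fun y z => ?_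
    · obtain ⟨c, hc⟩ := hs t
      refine ⟨fun i => a * c i, fun i => Ideal.mul_mem_right _ _ ha, ?_⟩
      have h2 : algebraMap R S a * (t - ∑ i, algebraMap R S (c i) * s i) ∈ I ^ n * I :=
        Ideal.mul_mem_mul (by rw [← Ideal.map_pow]; exact Ideal.mem_map_of_mem _ ha) hc
      rw [← pow_succ] at h2
      convert h2 using 1
      simp [mul_sub, Finset.mul_sum, Algebra.smul_def, mul_assoc]
    · rintro ⟨c, hc, hc'⟩ ⟨d, hd, hd'⟩
      refine ⟨c + d, fun i => add_mem (hc i) (hd i), ?_⟩
      convert add_mem hc' hd' using 1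
      simp [add_mul, Finset.sum_add_distrib]
      ring
  letI := (complMap m K (algebraMap R S) h).toAlgebra
  rw [RingHom.Finite]
  refine Module.Finite.of_surjective (Fintype.linearCombination (AdicCompletion m R) fun i => algebraMap S (AdicCompletion K S) (s i)) fun y => ?_
  obtain ⟨x, rfl⟩ := hsurj y
  obtain ⟨a, rfl⟩ := AdicCompletion.mk_surjective I S x
  have hex : ∀ n (r : Fin k → R), a.1 n - ∑ i, algebraMap R S (r i) * s i ∈ I ^ n →
      ∃ r' : Fin k → R, (∀ i, r' i - r i ∈ m ^ n) ∧ a.1 (n + 1) - ∑ i, algebraMap R S (r' i) * s i ∈ I ^ (n + 1) := by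
    intro n r hr
    have h2 := a.2 (Nat.le_succ n)
    rw [SModEq.sub_mem, smul_eq_mul, Ideal.mul_top] at h2
    obtain ⟨c, hc, hc'⟩ := step n (a.1 (n + 1) - ∑ i, algebraMap R S (r i) * s i) (by
      have h4 := sub_mem hr h2
      convert h4 using 1
      ring)
    exact ⟨r + c, fun i => by simpa using hc i, by
      convert hc' using 1
      simp [add_mul, Finset.sum_add_distrib]
      ring⟩
  let r : ∀ n, {r : Fin k → R // a.1 n - ∑ i, algebraMap R S (r i) * s i ∈ I ^ n} := fun n =>
    Nat.rec ⟨0, by simp⟩ (fun n r => ⟨(hex n r.1 r.2).choose, (hex n r.1 r.2).choose_spec.2⟩) n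
  have hr : ∀ n i, (r (n + 1)).1 i - (r n).1 i ∈ m ^ n := fun n i => (hex n (r n).1 (r n).2).choose_spec.1 i
  refine ⟨fun i => AdicCompletion.mk m R (AdicCauchySequence.mk m R (fun n => (r n).1 i) fun n => ?_), ext_evalₐ fun n => ?_⟩
  · rw [SModEq.sub_mem, smul_eq_mul, Ideal.mul_top]
    have := neg_mem (hr n i)
    rwa [neg_sub] at this
  · rw [Fintype.linearCombination_apply, map_sum, Groth.Agent.FormalH7.evalₐ_complMap, evalₐ_mk, Ideal.quotientMap_mk]
    have h1 : ∀ (c : AdicCompletion m R) (z : AdicCompletion K S), c • z = complMap m K (algebraMap R S) h c * z := fun c z => rfl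
    simp only [h1, map_mul, Groth.Agent.FormalH7.evalₐ_complMap, evalₐ_mk, Ideal.quotientMap_mk, AlgHom.commutes,
      Ideal.Quotient.algebraMap_eq, RingHom.id_apply, AdicCauchySequence.mk]
    simp only [← map_mul, ← map_sum]
    rw [Ideal.Quotient.eq, ← neg_sub]
    exact neg_mem (Ideal.pow_right_mono (by simpa using h') n (r n).2)


/-- Let R → S be a local ring homomorphism between local rings with finitely generated maximal ideals m
and n, such that S/mS is a finite-dimensional κ(m)-vector space. Then (1) the canonical ring map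
from the mS-adic completion of S to the n-adic completion of S is bijective, and (2) the induced
ring map from the m-adic completion of R to the n-adic completion of S is finite. (The hypotheses h
and h' record the inclusion mS ⊆ n, which holds for any local homomorphism; they are the arguments
the completion maps take.) -/
theorem result (R S : Type u) [CommRing R] [CommRing S]
    [IsLocalRing R] [IsLocalRing S] [Algebra R S] [IsLocalHom (algebraMap R S)]
    (hm : (IsLocalRing.maximalIdeal R).FG) (hn : (IsLocalRing.maximalIdeal S).FG)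
    (hfib : Module.Finite (IsLocalRing.maximalIdeal R).ResidueField ((IsLocalRing.maximalIdeal R).Fiber S))
    (h : (IsLocalRing.maximalIdeal R).map (algebraMap R S) ≤ IsLocalRing.maximalIdeal S)
    (h' : ((IsLocalRing.maximalIdeal R).map (algebraMap R S)).map (RingHom.id S) ≤ IsLocalRing.maximalIdeal S) :
    Function.Bijective (FSch.complMap ((IsLocalRing.maximalIdeal R).map (algebraMap R S))
        (IsLocalRing.maximalIdeal S) (RingHom.id S) h') ∧
      (FSch.complMap (IsLocalRing.maximalIdeal R) (IsLocalRing.maximalIdeal S) (algebraMap R S) h).Finite := by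
  let κ := (IsLocalRing.maximalIdeal R).ResidueField
  let I := (IsLocalRing.maximalIdeal R).map (algebraMap R S)
  let T := S ⧸ I
  have hkill : ∀ a ∈ IsLocalRing.maximalIdeal R, algebraMap R T a = 0 := fun a ha =>
    Ideal.Quotient.eq_zero_iff_mem.2 (Ideal.mem_map_of_mem _ ha)
  let eκ := RingEquiv.ofBijective _ (IsLocalRing.maximalIdeal R).bijective_algebraMap_quotient_residueField
  letI : Algebra κ T := ((Ideal.Quotient.lift (IsLocalRing.maximalIdeal R) (algebraMap R T) hkill).comp eκ.symm.toRingHom).toAlgebra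
  haveI : IsScalarTower R κ T := .of_algebraMap_eq fun a => by
    show _ = (Ideal.Quotient.lift (IsLocalRing.maximalIdeal R) (algebraMap R T) hkill) (eκ.symm (algebraMap R κ a))
    rw [show eκ.symm (algebraMap R κ a) = Ideal.Quotient.mk _ a from eκ.symm_apply_eq.2 rfl, Ideal.Quotient.lift_mk]
  let f : (IsLocalRing.maximalIdeal R).Fiber S →ₐ[κ] T :=
    Algebra.TensorProduct.lift (Algebra.ofId κ T) (Ideal.Quotient.mkₐ R I) (fun _ _ => Commute.all _ _)
  have hf : Function.Surjective f := fun y => by
    obtain ⟨x, rfl⟩ := Ideal.Quotient.mk_surjective y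
    exact ⟨1 ⊗ₜ x, by show algebraMap κ T 1 * _ = _; rw [map_one, one_mul]; rfl⟩
  haveI := hfib
  haveI : Module.Finite κ T := Module.Finite.of_surjective f.toLinearMap hf
  haveI : Nontrivial T := Ideal.Quotient.nontrivial_iff.2 fun e =>
    (IsLocalRing.maximalIdeal.isMaximal S).ne_top (top_le_iff.1 (e ▸ h))
  haveI : IsLocalRing T := IsLocalRing.of_surjective' _ Ideal.Quotient.mk_surjective
  haveI : IsArtinianRing T := IsArtinianRing.of_finite κ T
  obtain ⟨e, he⟩ := IsArtinianRing.isNilpotent_jacobson_bot (R := T)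
  rw [IsLocalRing.jacobson_eq_maximalIdeal ⊥ bot_ne_top] at he
  have hpow : IsLocalRing.maximalIdeal S ^ (e + 1) ≤ I := by
    refine le_trans (Ideal.pow_le_pow_right (Nat.le_succ e)) fun x hx => ?_
    have h2 := Ideal.mem_map_of_mem (Ideal.Quotient.mk I) hx
    rw [Ideal.map_pow, IsLocalRing.map_maximalIdeal_of_surjective _ Ideal.Quotient.mk_surjective, he] at h2
    exact Ideal.Quotient.eq_zero_iff_mem.1 h2
  have hb := complMap_id_bijective I (IsLocalRing.maximalIdeal S) h' (e + 1) (Nat.succ_le_succ e.zero_le) hpow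
  refine ⟨hb, ?_⟩
  haveI : Module.Finite R κ := Module.Finite.of_surjective (Algebra.linearMap R κ)
    (IsLocalRing.maximalIdeal R).algebraMap_residueField_surjective
  haveI : Module.Finite R T := Module.Finite.trans κ T
  obtain ⟨k, g, hg⟩ := Module.Finite.exists_fin (R := R) (M := T)
  choose s hs using fun i => Ideal.Quotient.mk_surjective (g i)
  refine complMap_finite (IsLocalRing.maximalIdeal R) (IsLocalRing.maximalIdeal S) h h' hb.2 s fun x => ?_
  have hx : Ideal.Quotient.mk I x ∈ Submodule.span R (Set.range g) := by rw [hg]; trivial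
  obtain ⟨c, hc⟩ := (Submodule.mem_span_range_iff_exists_fun R).1 hx
  refine ⟨c, Ideal.Quotient.eq.1 ?_⟩
  rw [← hc, map_sum]
  refine Finset.sum_congr rfl fun i _ => ?_
  rw [map_mul, hs, Algebra.smul_def]
  rfl

end Groth.Agent.S9138
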