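import Groth.Statements.S9139
import Mathlib.RingTheory.FiniteType
import Mathlib.RingTheory.Noetherian.Nilpotent
import Mathlib.RingTheory.Nilpotent.Lemmas
import Mathlib.RingTheory.Ideal.Operations

set_option autoImplicit false
universe u
open CAlg

namespace Groth.Agent.S9139

/-- Let I be a locally nilpotent ideal of a ring R (every element of I is nilpotent) and S → S' a map of
R-algebras with S' of finite type over R. If S → S'/IS' is surjective then so is S → S'. -/
theorem result (R S S' : Type u) [CommRing R] [CommRing S]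
    [CommRing S'] [Algebra R S] [Algebra R S'] [Algebra.FiniteType R S'] (I : Ideal R)
    (hI : ∀ x ∈ I, IsNilpotent x) (f : S →ₐ[R] S')
    (hf : Function.Surjective ((Ideal.Quotient.mk (I.map (algebraMap R S'))).comp f.toRingHom)) :
    Function.Surjective f := by
  classical
  obtain ⟨G, hG⟩ := (inferInstance : Algebra.FiniteType R S').out
  choose p hp using fun g : S' => hf (Ideal.Quotient.mk (I.map (algebraMap R S')) g)
  have hd : ∀ g, ∃ t : Finset R, (t : Set R) ⊆ I ∧
      g - f (p g) ∈ (Ideal.span (t : Set R)).map (algebraMap R S') := by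
    intro g
    have h : g - f (p g) ∈ Ideal.span (algebraMap R S' '' (I : Set R)) := Ideal.Quotient.eq.1 (hp g).symm
    obtain ⟨T, hT, hgT⟩ := Submodule.mem_span_finite_of_mem_span h
    obtain ⟨t, ht, rfl⟩ := Finset.subset_set_image_iff.1 hT
    exact ⟨t, ht, by rw [Ideal.map_span]; simpa using hgT⟩
  choose t ht hdt using hd
  let J : Ideal R := Ideal.span (G.biUnion t : Set R)
  obtain ⟨N, hN⟩ : IsNilpotent J := by
    refine (Ideal.FG.isNilpotent_iff_le_nilradical (Submodule.fg_span (G.biUnion t).finite_toSet)).2 ?_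
    refine Ideal.span_le.2 fun a ha => ?_
    obtain ⟨g, -, hag⟩ := Finset.mem_biUnion.1 ha
    exact mem_nilradical.2 (hI a (ht g hag))
  let T : Submodule R S' := LinearMap.range f.toLinearMap
  have h1 : (⊤ : Submodule R S') ≤ T ⊔ J • ⊤ := by
    intro x _
    rw [Ideal.smul_top_eq_map]
    let q : S →ₐ[R] S' ⧸ J.map (algebraMap R S') := (Ideal.Quotient.mkₐ R _).comp f
    have hle : (⊤ : Subalgebra R S') ≤ q.range.comap (Ideal.Quotient.mkₐ R _) := by
      rw [← hG, Algebra.adjoin_le_iff]
      exact fun g hg => ⟨p g, (Ideal.Quotient.eq.2 (Ideal.map_mono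
        (Ideal.span_mono fun a ha => Finset.mem_biUnion.2 ⟨g, hg, ha⟩) (hdt g))).symm⟩
    obtain ⟨y, hy⟩ := hle (Algebra.mem_top (x := x))
    exact Submodule.mem_sup.2 ⟨f y, ⟨y, rfl⟩, x - f y, Ideal.Quotient.eq.1 hy.symm, add_sub_cancel _ _⟩
  have hn : ∀ n : ℕ, (⊤ : Submodule R S') ≤ T ⊔ J ^ n • ⊤ := by
    intro n
    induction n with
    | zero => rw [pow_zero, Ideal.one_eq_top, Submodule.top_smul]; exact le_sup_right
    | succ m ih =>
      refine ih.trans (sup_le le_sup_left ?_)
      refine (Submodule.smul_mono le_rfl h1).trans ?_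
      rw [Submodule.smul_sup, ← Submodule.smul_assoc, smul_eq_mul, ← pow_succ]
      exact sup_le_sup_right Submodule.smul_le_right _
  have htop := hn N
  rw [hN, Submodule.zero_eq_bot, Submodule.bot_smul, sup_bot_eq] at htop
  exact fun x => htop Submodule.mem_top

end Groth.Agent.S9139
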