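import Groth.Statements.S9140
import Groth.Agent.S9139
import Mathlib.RingTheory.Flat.Basic
import Mathlib.RingTheory.FinitePresentation
import Mathlib.RingTheory.Nakayama

set_option autoImplicit false
universe u
open CAlg

namespace Groth.Agent.S9140

open TensorProduct in
lemma ker_inf_smul_le {R M N : Type u} [CommRing R] [AddCommGroup M] [Module R M] [AddCommGroup N] [Module R N]
    [Module.Flat R N] (f : M →ₗ[R] N) (hf : Function.Surjective f) (I : Ideal R) {k : M}
    (hk : f k = 0) (hkI : k ∈ I • (⊤ : Submodule R M)) : k ∈ I • LinearMap.ker f := by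
  let μ : ∀ (X : Type u) [AddCommGroup X] [Module R X], I ⊗[R] X →ₗ[R] X := fun X _ _ =>
    TensorProduct.lift ((LinearMap.lsmul R X).comp I.subtype)
  obtain ⟨z, hz⟩ : ∃ z, μ M z = k := by
    refine Submodule.smul_induction_on hkI (fun r hr x _ => ⟨⟨r, hr⟩ ⊗ₜ x, by simp [μ]⟩) ?_
    rintro x y ⟨a, rfl⟩ ⟨b, rfl⟩
    exact ⟨a + b, map_add _ _ _⟩
  have hinj : Function.Injective (μ N) := by
    have e : μ N = (TensorProduct.lid R N).toLinearMap ∘ₗ I.subtype.rTensor N := by
      ext a x; simp [μ]
    rw [e]
    exact (TensorProduct.lid R N).injective.comp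
      (Module.Flat.rTensor_preserves_injective_linearMap I.subtype I.injective_subtype)
  have hnat : μ N ∘ₗ f.lTensor I = f ∘ₗ μ M := by ext a x; simp [μ]
  have h0 : f.lTensor I z = 0 := hinj (by
    have := LinearMap.congr_fun hnat z
    simp only [LinearMap.comp_apply] at this
    rw [this, hz, hk, map_zero])
  obtain ⟨w, hw⟩ := (lTensor_exact I (LinearMap.exact_subtype_ker_map f) hf z).1 h0
  rw [← hz, ← hw]
  clear hw h0 hz
  induction w using TensorProduct.induction_on with
  | zero => simp
  | tmul a x => simpa [μ] using Submodule.smul_mem_smul a.2 x.2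
  | add x y hx hy => rw [map_add, map_add]; exact add_mem hx hy


/-- Let I be a locally nilpotent ideal of a ring R and S → S' a map of R-algebras with S of finite type
over R and S' of finite presentation and flat over R. If the induced map S/IS → S'/IS' is bijective
(stated as: S → S'/IS' is surjective with kernel IS), then S → S' is bijective. -/
theorem result (R S S' : Type u)
    [CommRing R] [CommRing S] [CommRing S'] [Algebra R S] [Algebra R S'] [Algebra.FiniteType R S]
    [Algebra.FinitePresentation R S'] [Module.Flat R S'] (I : Ideal R) (hI : ∀ x ∈ I, IsNilpotent x)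
    (f : S →ₐ[R] S')
    (hsurj : Function.Surjective ((Ideal.Quotient.mk (I.map (algebraMap R S'))).comp f.toRingHom))
    (hker : ∀ s : S, f s ∈ I.map (algebraMap R S') → s ∈ I.map (algebraMap R S)) :
    Function.Bijective f := by
  have hsurj' : Function.Surjective f := Groth.Agent.S9139.result R S S' I hI f hsurj
  refine ⟨?_, hsurj'⟩
  let K : Ideal S := RingHom.ker f.toRingHom
  have hKfg : K.FG := by
    obtain ⟨n, π, hπ⟩ := Algebra.FiniteType.iff_quotient_mvPolynomial''.1 (inferInstance : Algebra.FiniteType R S)
    have h1 := Algebra.FinitePresentation.ker_fG_of_surjective (f.comp π) (hsurj'.comp hπ)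
    have h2 : K = (RingHom.ker (f.comp π).toRingHom).map π.toRingHom := by
      refine (Ideal.map_comap_of_surjective _ hπ K).symm.trans ?_
      rfl
    rw [h2]
    exact h1.map _
  let J : Ideal S := I.map (algebraMap R S)
  have hle : K ≤ J • K := by
    intro k hk
    have hkI : k ∈ I • (⊤ : Submodule R S) := by
      rw [Ideal.smul_top_eq_map]
      exact hker k (by rw [show f k = 0 from hk]; exact zero_mem _)
    have := ker_inf_smul_le f.toLinearMap hsurj' I hk hkI
    refine Submodule.smul_induction_on this (fun r hr x hx => ?_) (fun x y hx hy => add_mem hx hy)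
    rw [← algebraMap_smul S r x]
    exact Submodule.smul_mem_smul (Ideal.mem_map_of_mem (algebraMap R S) hr) (show x ∈ K from hx)
  have hJ : J ≤ Ideal.jacobson ⊥ := Ideal.map_le_iff_le_comap.2 fun x hx =>
    Ideal.radical_le_jacobson (((hI x hx).map (algebraMap R S)))
  have h0 : K = ⊥ := Submodule.eq_bot_of_le_smul_of_le_jacobson_bot J K hKfg hle hJ
  exact (RingHom.injective_iff_ker_eq_bot f.toRingHom).2 h0

end Groth.Agent.S9140
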