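import Groth.Statements.S9141
import Groth.Agent.Lib.CI2.Smooth
import Groth.Prelude

set_option autoImplicit false
universe u
open Synt

namespace Groth.Agent.S9141

/-- For a finite type algebra S over a field k and g ∈ S, the localization S_g is a global (resp. local)
complete intersection over k whenever S is. -/
theorem result (k S : Type u) [Field k] [CommRing S] [Algebra k S]
    [Algebra.FiniteType k S] (g : S) :
    (Synt.IsGlobalCI k S → Synt.IsGlobalCI k (Localization.Away g)) ∧
      (Synt.IsLCIOver k S → Synt.IsLCIOver k (Localization.Away g)) := by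
  refine ⟨fun h => Groth.Agent.CI2.isGlobalCI_away h g, fun h => ⟨?_, fun P => ?_⟩⟩
  · haveI : Algebra.FiniteType S (Localization.Away g) := IsLocalization.finiteType_of_monoid_fg (Submonoid.powers g) _
    exact Algebra.FiniteType.trans (R := k) (S := S) inferInstance inferInstance
  let p := P.asIdeal.comap (algebraMap S (Localization.Away g))
  haveI : p.IsPrime := Ideal.IsPrime.comap _
  obtain ⟨f, hf, hci⟩ := h.2 ⟨p, inferInstance⟩
  refine ⟨algebraMap S _ f, hf, ?_⟩
  let T1 := Localization.Away (algebraMap S (Localization.Away g) f)
  let T2 := Localization.Away (algebraMap S (Localization.Away f) g)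
  haveI : IsLocalization.Away (g * f) T1 := IsLocalization.Away.mul' (Localization.Away g) T1 g f
  haveI : IsLocalization.Away (g * f) T2 := IsLocalization.Away.mul (Localization.Away f) T2 f g
  have e : T2 ≃ₐ[S] T1 := IsLocalization.algEquiv (Submonoid.powers (g * f)) T2 T1
  exact Groth.Agent.CI2.isGlobalCI_congr (e.restrictScalars k) (Groth.Agent.CI2.isGlobalCI_away hci _)

end Groth.Agent.S9141
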