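import Groth.Statements.S9143
import Groth.Agent.Lib.CI2.Local
import Groth.Prelude

set_option autoImplicit false
universe u
open Synt

namespace Groth.Agent.S9143
open Groth.Agent.CI2

/-- For a local k-algebra S which is essentially of finite type over a field k, being a complete
intersection over k is equivalent to each of: (2) whenever a regular local ring R, essentially of
finite type over k, maps onto S by a surjective k-algebra map, the kernel is generated by a regular
sequence; (3) some regular local ring R, essentially of finite type over k, maps onto S by a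
surjective k-algebra map whose kernel is generated by a list of dim R − dim S elements (stated as
dim R = dim S + the length of the list); (4) S is isomorphic over k to a localization at a prime of
a global complete intersection over k; (5) the same with a local complete intersection over k. -/
theorem result (k S : Type u) [Field k] [CommRing S]
    [IsLocalRing S] [Algebra k S] [Algebra.EssFiniteType k S] :
    (Synt.IsCIOver k S ↔
        ∀ (R : Type u) [CommRing R] [IsRegularLocalRing R] [Algebra k R], Algebra.EssFiniteType k R →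
          ∀ π : R →ₐ[k] S, Function.Surjective π →
            ∃ rs : List R, RingTheory.Sequence.IsRegular R rs ∧ RingHom.ker π.toRingHom = Ideal.ofList rs) ∧
      (Synt.IsCIOver k S ↔
        ∃ (R : Type u) (_ : CommRing R) (_ : IsRegularLocalRing R) (_ : Algebra k R),
          Algebra.EssFiniteType k R ∧ ∃ π : R →ₐ[k] S, Function.Surjective π ∧
            ∃ rs : List R, RingHom.ker π.toRingHom = Ideal.ofList rs ∧
              ringKrullDim R = ringKrullDim S + (rs.length : WithBot ℕ∞)) ∧
      (Synt.IsCIOver k S ↔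
        ∃ (A : Type u) (_ : CommRing A) (_ : Algebra k A) (a : Ideal A) (_ : a.IsPrime),
          Algebra.FiniteType k A ∧ Synt.IsGlobalCI k A ∧ Nonempty (S ≃ₐ[k] Localization.AtPrime a)) ∧
      (Synt.IsCIOver k S ↔
        ∃ (A : Type u) (_ : CommRing A) (_ : Algebra k A) (a : Ideal A) (_ : a.IsPrime),
          Synt.IsLCIOver k A ∧ Nonempty (S ≃ₐ[k] Localization.AtPrime a)) := by
  have key : Synt.IsCIOver k S → ∃ (A : Type u) (_ : CommRing A) (_ : Algebra k A) (a : Ideal A) (_ : a.IsPrime),
      Algebra.FiniteType k A ∧ Synt.IsGlobalCI k A ∧ Nonempty (S ≃ₐ[k] Localization.AtPrime a) := by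
    intro h
    obtain ⟨B, _, _, hB, b, _, ⟨e⟩⟩ := exists_finiteType_atPrime (k := k) (A := S)
    obtain ⟨g, hg, hci⟩ := exists_away_isGlobalCI b (isCIOver_congr e h)
    obtain ⟨Q, _, ⟨e'⟩⟩ := exists_atPrime_away_equiv (k := k) b g hg
    haveI : Algebra.FiniteType B (Localization.Away g) := IsLocalization.finiteType_of_monoid_fg (Submonoid.powers g) _
    exact ⟨Localization.Away g, inferInstance, inferInstance, Q, inferInstance,
      Algebra.FiniteType.trans (R := k) (S := B) hB inferInstance, hci, ⟨e.trans e'.symm⟩⟩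
  refine ⟨⟨fun h R _ _ _ hR π hπ => ?_, fun h => ?_⟩, ⟨fun h => ?_, fun h => ?_⟩,
    ⟨key, fun ⟨A, _, _, a, _, _, hci, ⟨e⟩⟩ => isCIOver_congr e.symm (isCIOver_atPrime_of_isGlobalCI hci a)⟩,
    ⟨fun h => ?_, fun ⟨A, _, _, a, _, hl, ⟨e⟩⟩ => isCIOver_congr e.symm (isCIOver_atPrime_of_isLCIOver hl a)⟩⟩
  · obtain ⟨rs, h1, h2⟩ := isRegularIdeal_ker_of_isCIOver h π hπ
    exact ⟨rs, h1, h2.symm⟩
  · obtain ⟨R, _, _, _, hR, π, hπ⟩ := exists_regular_presentation (k := k) (A := S)
    obtain ⟨rs, h1, h2⟩ := h R hR π hπ
    exact isCIOver_of_surjection π hπ ⟨rs, h1, h2.symm⟩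
  · obtain ⟨R, _, _, _, hR, π, hπ⟩ := exists_regular_presentation (k := k) (A := S)
    obtain ⟨rs, h1, h2⟩ := isRegularIdeal_ker_of_isCIOver h π hπ
    refine ⟨R, inferInstance, inferInstance, inferInstance, hR, π, hπ, rs, h2.symm, ?_⟩
    rw [← ringKrullDim_add_length_eq_ringKrullDim_of_isRegular rs h1, h2,
      ringKrullDim_eq_of_ringEquiv (RingHom.quotientKerEquivOfSurjective (f := π.toRingHom) hπ)]
  · obtain ⟨R, _, _, _, hR, π, hπ, rs, h2, hdim⟩ := h
    haveI : LocCoh.IsCohenMacaulayLocalRing R := Groth.Agent.DepthLib.isCohenMacaulayLocalRing_of_isRegularLocalRing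
    have hmem : ∀ x ∈ rs, x ∈ IsLocalRing.maximalIdeal R := fun x hx =>
      IsLocalRing.le_maximalIdeal (RingHom.ker_ne_top π.toRingHom) (h2 ▸ Ideal.subset_span hx)
    refine isCIOver_of_surjection π hπ ⟨rs, ?_, h2.symm⟩
    refine Groth.Agent.DepthLib.isRegular_of_isWeaklyRegular (I := IsLocalRing.maximalIdeal R)
      (Groth.Agent.EmbDef.isWeaklyRegular_of_dim rs hmem ?_) hmem
      (by rw [smul_eq_mul, Ideal.mul_top]; exact (IsLocalRing.maximalIdeal.isMaximal R).ne_top)
    rw [← h2, ringKrullDim_eq_of_ringEquiv (RingHom.quotientKerEquivOfSurjective (f := π.toRingHom) hπ), hdim]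
  · obtain ⟨A, _, _, a, _, hA, hci, e⟩ := key h
    exact ⟨A, inferInstance, inferInstance, a, inferInstance, isLCIOver_of_isGlobalCI hci, e⟩

end Groth.Agent.S9143
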