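import Groth.Statements.S9145
import Groth.Agent.Lib.CI2.Local
import Groth.Prelude

set_option autoImplicit false
universe u
open Synt

namespace Groth.Agent.S9145
open Groth.Agent.CI2

/-- A finite type algebra S over a field k is a local complete intersection over k if and only if all
its local rings at primes (equivalently, at maximal ideals) are complete intersections over k. -/
theorem result (k S : Type u) [Field k] [CommRing S] [Algebra k S]
    [Algebra.FiniteType k S] :
    (Synt.IsLCIOver k S ↔ ∀ p : PrimeSpectrum S, Synt.IsCIOver k (Localization.AtPrime p.asIdeal)) ∧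
      (Synt.IsLCIOver k S ↔
        ∀ m : MaximalSpectrum S, Synt.IsCIOver k (Localization.AtPrime m.asIdeal)) := by
  refine ⟨⟨fun h p => Groth.Agent.CI2.isCIOver_atPrime_of_isLCIOver h p.asIdeal, fun h => ?_⟩,
    ⟨fun h m => Groth.Agent.CI2.isCIOver_atPrime_of_isLCIOver h m.asIdeal, fun h => ?_⟩⟩
  · exact Groth.Agent.CI2.isLCIOver_of_forall_maximal fun m _ => h ⟨m, inferInstance⟩
  · exact Groth.Agent.CI2.isLCIOver_of_forall_maximal fun m hm => h ⟨m, hm⟩

end Groth.Agent.S9145
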