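import Groth.Statements.S9148
import Groth.Agent.Lib.CI2.NearFibre
import Groth.Agent.Lib.FibDim14.BaseChange
import Mathlib

set_option autoImplicit false
universe u
open Synt

namespace Groth.Agent.S9148
open CategoryTheory AlgebraicGeometry

open Groth.Agent MvPolynomial TensorProduct

set_option backward.isDefEq.respectTransparency.types false

variable {A B : Type u} [CommRing A] [CommRing B] [Algebra A B] {n c : ℕ}

theorem exists_equiv (F : Fin c → MvPolynomial (Fin n) A) :
    ∃ E : (B ⊗[A] Synt.RelGCIRing A n c F) ≃ₐ[B] Synt.RelGCIRing B n c (fun i => map (algebraMap A B) (F i)),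
      ∀ f, E (1 ⊗ₜ Ideal.Quotient.mk _ f) = Ideal.Quotient.mk _ (map (algebraMap A B) f) := by
  let I := Ideal.span (Set.range F)
  let φ : B ⊗[A] MvPolynomial (Fin n) A ≃ₐ[B] MvPolynomial (Fin n) B := algebraTensorAlgEquiv A B
  let e1 := Algebra.TensorProduct.tensorQuotientEquiv (R := A) (S := B) (MvPolynomial (Fin n) A) B I
  have hφ : ∀ f, φ (1 ⊗ₜ f) = map (algebraMap A B) f := fun f => by
    rw [MvPolynomial.algebraTensorAlgEquiv_tmul, one_smul]
  let e2 := Ideal.quotientEquivAlg (I.map (Algebra.TensorProduct.includeRight : MvPolynomial (Fin n) A →ₐ[A] B ⊗[A] MvPolynomial (Fin n) A))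
    (Ideal.span (Set.range fun i => map (algebraMap A B) (F i))) φ (by
      rw [Ideal.map_span, Ideal.map_span, ← Set.range_comp, ← Set.range_comp]
      congr 2
      funext i
      exact (hφ (F i)).symm)
  exact ⟨e1.trans e2, fun f => congrArg (Ideal.Quotient.mk _) (hφ f)⟩

theorem fibreDim_push (S T : Type u) [CommRing S] [Algebra A S] [Algebra.FiniteType A S] [CommRing T]
    [Algebra B T] [Algebra S T] [Algebra A T] [IsScalarTower A B T] [IsScalarTower A S T]
    [Algebra.IsPushout A B S T] [Algebra.FiniteType B T] (z : PrimeSpectrum T) :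
    FlatMor.fibreDimAt (Spec.map (CommRingCat.ofHom (algebraMap B T))) z =
      FlatMor.fibreDimAt (Spec.map (CommRingCat.ofHom (algebraMap A S)))
        (PrimeSpectrum.comap (algebraMap S T) z) := by
  haveI : LocallyOfFiniteType (Spec.map (CommRingCat.ofHom (algebraMap A S))) :=
    (HasRingHomProperty.Spec_iff (P := @LocallyOfFiniteType)).2 (RingHom.finiteType_algebraMap.2 inferInstance)
  haveI : LocallyOfFiniteType (Spec.map (CommRingCat.ofHom (algebraMap B T))) :=
    (HasRingHomProperty.Spec_iff (P := @LocallyOfFiniteType)).2 (RingHom.finiteType_algebraMap.2 inferInstance)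
  have hq : IsPushout (CommRingCat.ofHom (algebraMap A B)) (CommRingCat.ofHom (algebraMap A S))
      (CommRingCat.ofHom (algebraMap B T)) (CommRingCat.ofHom (algebraMap S T)) :=
    CommRingCat.isPushout_of_isPushout A B S T
  have hp : IsPullback (Spec.map (CommRingCat.ofHom (algebraMap S T))) (Spec.map (CommRingCat.ofHom (algebraMap B T)))
      (Spec.map (CommRingCat.ofHom (algebraMap A S))) (Spec.map (CommRingCat.ofHom (algebraMap A B))) :=
    (isPullback_SpecMap_of_isPushout _ _ _ _ hq).flip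
  have h := FibDim14.fibreDimAt_baseChange hp z
  exact h

theorem fibreDim_bc (S : Type u) [CommRing S] [Algebra A S] [Algebra.FiniteType A S] (z : PrimeSpectrum (B ⊗[A] S)) :
    FlatMor.fibreDimAt (Spec.map (CommRingCat.ofHom (algebraMap B (B ⊗[A] S)))) z =
      FlatMor.fibreDimAt (Spec.map (CommRingCat.ofHom (algebraMap A S)))
        (PrimeSpectrum.comap (Algebra.TensorProduct.includeRight : S →ₐ[A] B ⊗[A] S).toRingHom z) := by
  letI := Algebra.TensorProduct.rightAlgebra (R := A) (A := B) (B := S)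
  exact fibreDim_push S (B ⊗[A] S) z

/-- Fibrewise criterion. -/
theorem isRelGCI_of_fibreDimAt (G : Fin c → MvPolynomial (Fin n) B) {T : Type u} [CommRing T] [Algebra B T]
    (E : T ≃ₐ[B] Synt.RelGCIRing B n c G)
    (h : ∀ z, c ≤ n ∧ FlatMor.fibreDimAt (Spec.map (CommRingCat.ofHom (algebraMap B T))) z ≤
      ((n - c : ℕ) : WithBot ℕ∞)) :
    Synt.IsRelGCI B n c G := by
  intro p hp
  let Ep : p.asIdeal.Fiber (Synt.RelGCIRing B n c G) ≃ₐ[p.asIdeal.ResidueField]
      p.asIdeal.Fiber T := Algebra.TensorProduct.congr AlgEquiv.refl E.symm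
  haveI := hp
  haveI : Nontrivial (p.asIdeal.Fiber T) := Ep.symm.toEquiv.nontrivial
  obtain ⟨w₀⟩ := (inferInstance : Nonempty (PrimeSpectrum (p.asIdeal.Fiber T)))
  have hcn := (h (PrimeSpectrum.comap (Algebra.TensorProduct.includeRight : T →ₐ[B] p.asIdeal.Fiber T).toRingHom w₀)).1
  refine ⟨hcn, le_antisymm ?_ ?_⟩
  · rw [ringKrullDim_eq_of_ringEquiv (R := p.asIdeal.Fiber (Synt.RelGCIRing B n c G)) (S := p.asIdeal.Fiber T)
        Ep.toRingEquiv, ← PrimeSpectrum.topologicalKrullDim_eq_ringKrullDim,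
      TopDimLib.dim_eq_iSup_localDim]
    refine iSup_le fun w => ?_
    rw [CI2.localDim_fibre_eq]
    exact (h _).2
  · let κ := p.asIdeal.ResidueField
    let I := Ideal.span (Set.range G)
    let ef := CI2.fibreEquiv p.asIdeal I
    rw [ringKrullDim_eq_of_ringEquiv ef]
    haveI : Nontrivial (MvPolynomial (Fin n) κ ⧸ I.map (CI2.red p.asIdeal)) := ef.symm.toEquiv.nontrivial
    obtain ⟨M, hM⟩ := Ideal.exists_maximal (MvPolynomial (Fin n) κ ⧸ I.map (CI2.red p.asIdeal))
    have hmap : RingHom.ker (Ideal.Quotient.mkₐ κ (I.map (CI2.red p.asIdeal))).toRingHom =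
        Ideal.span (Set.range fun i => CI2.red p.asIdeal (G i)) := by
      refine Ideal.mk_ker.trans ?_
      rw [Ideal.map_span, ← Set.range_comp]
      rfl
    refine le_trans ?_ (Ideal.height_le_ringKrullDim_of_ne_top hM.ne_top)
    exact WithBot.coe_le_coe.mpr
      (CI2.le_height_maximal (Ideal.Quotient.mkₐ κ (I.map (CI2.red p.asIdeal))) Ideal.Quotient.mk_surjective _ hmap M)

theorem fibreDimAt_of_isRelGCI (G : Fin c → MvPolynomial (Fin n) B) {T : Type u} [CommRing T] [Algebra B T]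
    (E : T ≃ₐ[B] Synt.RelGCIRing B n c G) (h : Synt.IsRelGCI B n c G) (z : PrimeSpectrum T) :
    c ≤ n ∧ FlatMor.fibreDimAt (Spec.map (CommRingCat.ofHom (algebraMap B T))) z ≤
      ((n - c : ℕ) : WithBot ℕ∞) := by
  let p := PrimeSpectrum.comap (algebraMap B T) z
  let Ep : p.asIdeal.Fiber (Synt.RelGCIRing B n c G) ≃ₐ[p.asIdeal.ResidueField]
      p.asIdeal.Fiber T := Algebra.TensorProduct.congr AlgEquiv.refl E.symm
  haveI : Nontrivial (p.asIdeal.Fiber T) := CI2.nonempty_fibre z p rfl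
  obtain ⟨h1, h2⟩ := h p Ep.toEquiv.nontrivial
  refine ⟨h1, (CI2.fibreDimAt_le_ringKrullDim z p rfl).trans ?_⟩
  rw [← ringKrullDim_eq_of_ringEquiv (R := p.asIdeal.Fiber (Synt.RelGCIRing B n c G)) (S := p.asIdeal.Fiber T) Ep.toRingEquiv, h2]

/-- A member of an extended ideal already lies in it over a finitely generated subring. -/
theorem exists_finset_of_mem_map (J : Ideal (MvPolynomial (Fin n) A)) {x : MvPolynomial (Fin n) B}
    (hx : x ∈ J.map (map (algebraMap A B))) :
    ∃ T : Finset B, ∀ (R₂ : Subalgebra A B), (T : Set B) ⊆ R₂ →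
      ∃ y ∈ J.map (map (algebraMap A R₂)), map R₂.val.toRingHom y = x := by
  classical
  rw [Ideal.map] at hx
  induction hx using Submodule.span_induction with
  | mem x hx =>
    obtain ⟨j, hj, rfl⟩ := hx
    refine ⟨∅, fun R₂ _ => ⟨_, Ideal.mem_map_of_mem _ hj, ?_⟩⟩
    rw [MvPolynomial.map_map]
    rfl
  | zero => exact ⟨∅, fun R₂ _ => ⟨0, zero_mem _, map_zero _⟩⟩
  | add a b _ _ ha hb =>
    obtain ⟨T, hT⟩ := ha
    obtain ⟨T', hT'⟩ := hb
    refine ⟨T ∪ T', fun R₂ hR => ?_⟩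
    rw [Finset.coe_union, Set.union_subset_iff] at hR
    obtain ⟨y, hy, rfl⟩ := hT R₂ hR.1
    obtain ⟨y', hy', rfl⟩ := hT' R₂ hR.2
    exact ⟨y + y', add_mem hy hy', map_add _ _ _⟩
  | smul a b _ hb =>
    obtain ⟨T, hT⟩ := hb
    refine ⟨T ∪ a.support.image (fun d => a.coeff d), fun R₂ hR => ?_⟩
    rw [Finset.coe_union, Set.union_subset_iff] at hR
    obtain ⟨y, hy, rfl⟩ := hT R₂ hR.1
    obtain ⟨a', ha'⟩ : a ∈ Set.range (map R₂.val.toRingHom) := by
      rw [MvPolynomial.mem_range_map_iff_coeffs_subset]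
      intro r hr
      obtain ⟨d, hd, rfl⟩ := MvPolynomial.mem_coeffs_iff.1 hr
      exact ⟨⟨_, hR.2 (Finset.mem_image.2 ⟨d, hd, rfl⟩)⟩, rfl⟩
    exact ⟨a' * y, Ideal.mul_mem_left _ _ hy, by rw [map_mul, ha', smul_eq_mul]⟩

theorem descend (F : Fin c → MvPolynomial (Fin n) A) (h : Synt.IsRelGCI B n c (fun i => map (algebraMap A B) (F i))) :
    ∃ T : Finset B, ∀ R₂ : Subalgebra A B, (T : Set B) ⊆ R₂ →
      Synt.IsRelGCI R₂ n c (fun i => map (algebraMap A R₂) (F i)) := by
  let S := Synt.RelGCIRing A n c F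
  obtain ⟨J₀, hJ₀⟩ := (PrimeSpectrum.isClosed_iff_zeroLocus_ideal _).1 (CI2.isClosed_bad A S (n - c) (c ≤ n))
  let J : Ideal (MvPolynomial (Fin n) A) := J₀.comap (Ideal.Quotient.mk (Ideal.span (Set.range F)))
  have hFJ : ∀ (C : Type u) [CommRing C] [Algebra A C],
      Ideal.span (Set.range fun i => map (algebraMap A C) (F i)) ≤ J.map (map (algebraMap A C)) := by
    intro C _ _
    rw [Ideal.span_le]
    rintro _ ⟨i, rfl⟩
    refine Ideal.mem_map_of_mem _ ?_
    show Ideal.Quotient.mk _ (F i) ∈ J₀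
    rw [Ideal.Quotient.eq_zero_iff_mem.2 (show F i ∈ Ideal.span (Set.range F) from Ideal.subset_span ⟨i, rfl⟩)]
    exact J₀.zero_mem
  have htop : J.map (map (algebraMap A B)) = ⊤ := by
    by_contra hne
    obtain ⟨M, hM, hle⟩ := Ideal.exists_le_maximal _ hne
    obtain ⟨E, hE⟩ := exists_equiv (B := B) F
    let M' := M.map (Ideal.Quotient.mk (Ideal.span (Set.range fun i => map (algebraMap A B) (F i))))
    haveI : M'.IsPrime := Ideal.map_isPrime_of_surjective Ideal.Quotient.mk_surjective (by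
      rw [Ideal.mk_ker]; exact (hFJ B).trans hle)
    let z : PrimeSpectrum (B ⊗[A] S) := PrimeSpectrum.comap E.toRingEquiv.toRingHom ⟨M', inferInstance⟩
    have hz := fibreDimAt_of_isRelGCI (T := B ⊗[A] S) _ E h z
    rw [fibreDim_bc] at hz
    have : PrimeSpectrum.comap (Algebra.TensorProduct.includeRight : S →ₐ[A] B ⊗[A] S).toRingHom z ∈
        PrimeSpectrum.zeroLocus (J₀ : Set S) := by
      intro s hs
      obtain ⟨f, rfl⟩ := Ideal.Quotient.mk_surjective s
      show E (1 ⊗ₜ Ideal.Quotient.mk _ f) ∈ M'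
      rw [hE]
      exact Ideal.mem_map_of_mem _ (hle (Ideal.mem_map_of_mem _ hs))
    rw [← hJ₀] at this
    exact this hz
  obtain ⟨T, hT⟩ := exists_finset_of_mem_map J ((Ideal.eq_top_iff_one _).1 htop)
  refine ⟨T, fun R₂ hR => ?_⟩
  obtain ⟨E, hE⟩ := exists_equiv (B := R₂) F
  refine isRelGCI_of_fibreDimAt (T := R₂ ⊗[A] S) _ E fun z => ?_
  obtain ⟨y, hy, hy1⟩ := hT R₂ hR
  have hy' : y = 1 := MvPolynomial.map_injective _ Subtype.val_injective (by rw [hy1, map_one])
  subst hy'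
  rw [fibreDim_bc]
  by_contra hbad
  have hz : PrimeSpectrum.comap (Algebra.TensorProduct.includeRight : S →ₐ[A] R₂ ⊗[A] S).toRingHom z ∈
      PrimeSpectrum.zeroLocus (J₀ : Set S) := by
    rw [← hJ₀]; exact hbad
  let g : MvPolynomial (Fin n) R₂ →+* R₂ ⊗[A] S :=
    E.symm.toRingEquiv.toRingHom.comp (Ideal.Quotient.mk _)
  have : J.map (map (algebraMap A R₂)) ≤ z.asIdeal.comap g := Ideal.map_le_iff_le_comap.2 fun f hf => by
    show E.symm (Ideal.Quotient.mk _ (map (algebraMap A R₂) f)) ∈ z.asIdeal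
    rw [← hE, AlgEquiv.symm_apply_apply]
    exact hz hf
  have h1 := this hy
  rw [Ideal.mem_comap, map_one] at h1
  exact z.2.ne_top ((Ideal.eq_top_iff_one _).2 h1)

/-- A relative global complete intersection over a ring R descends to a relative global complete
intersection over a finite type ℤ-subalgebra of R containing the coefficients. -/
theorem result (R : Type u) [CommRing R] (n c : ℕ)
    (F : Fin c → MvPolynomial (Fin n) R) (h : Synt.IsRelGCI R n c F) :
    ∃ (R₀ : Subalgebra ℤ R) (F₀ : Fin c → MvPolynomial (Fin n) R₀), Algebra.FiniteType ℤ R₀ ∧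
      (∀ i, MvPolynomial.map (algebraMap R₀ R) (F₀ i) = F i) ∧ Synt.IsRelGCI R₀ n c F₀ := by
  classical
  let C : Finset R := Finset.univ.biUnion fun i => (F i).support.image fun d => (F i).coeff d
  let R₁ := Algebra.adjoin ℤ (C : Set R)
  have hF : ∀ i, F i ∈ Set.range (map (algebraMap R₁ R)) := by
    intro i
    rw [MvPolynomial.mem_range_map_iff_coeffs_subset]
    intro r hr
    obtain ⟨d, hd, rfl⟩ := MvPolynomial.mem_coeffs_iff.1 hr
    refine ⟨⟨_, Algebra.subset_adjoin ?_⟩, rfl⟩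
    exact Finset.mem_biUnion.2 ⟨i, Finset.mem_univ i, Finset.mem_image.2 ⟨d, hd, rfl⟩⟩
  choose F₁ hF₁ using hF
  have hF' : F = fun i => map (algebraMap R₁ R) (F₁ i) := funext fun i => (hF₁ i).symm
  obtain ⟨T, hT⟩ := descend F₁ (hF' ▸ h)
  let R₂ := Algebra.adjoin R₁ (T : Set R)
  refine ⟨R₂.restrictScalars ℤ, fun i => map (algebraMap R₁ R₂) (F₁ i), ?_, fun i => ?_, hT R₂ Algebra.subset_adjoin⟩
  · haveI : Algebra.FiniteType ℤ R₁ := (Subalgebra.fg_iff_finiteType _).1 ⟨C, rfl⟩
    haveI : Algebra.FiniteType R₁ R₂ := (Subalgebra.fg_iff_finiteType _).1 ⟨T, rfl⟩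
    exact Algebra.FiniteType.trans (R := ℤ) (S := R₁) (A := R₂) inferInstance inferInstance
  · show map (algebraMap R₂ R) (map (algebraMap R₁ R₂) (F₁ i)) = F i
    rw [MvPolynomial.map_map, ← IsScalarTower.algebraMap_eq, hF₁]

end Groth.Agent.S9148
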