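import Groth.Statements.S9149
import Groth.Agent.Lib.CI2.SplitCover
import Groth.Agent.Lib.CI2.Gci
import Groth.Agent.Lib.CI2.Synt
import Groth.Agent.Lib.DiscNoether25.GCI
import Mathlib

set_option autoImplicit false
universe u
open Synt

namespace Groth.Agent.S9149
open Polynomial

open Groth.Agent

/-- `A[x]/(f)` has a presentation with one variable and one equation. -/
theorem exists_presentation {A : Type u} [CommRing A] (f : A[X]) :
    Nonempty (Algebra.Presentation A (AdjoinRoot f) (Fin 1) (Fin 1)) := by
  let e : MvPolynomial (Fin 1) A ≃ₐ[A] A[X] := MvPolynomial.uniqueAlgEquiv A (Fin 1)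
  let v : Fin 1 → MvPolynomial (Fin 1) A := fun _ => e.symm f
  let E : (MvPolynomial (Fin 1) A ⧸ Ideal.span (Set.range v)) ≃ₐ[A] AdjoinRoot f :=
    Ideal.quotientEquivAlg (Ideal.span (Set.range v)) (Ideal.span {f}) e (by
      rw [Ideal.map_span, ← Set.range_comp]
      congr 1
      ext g
      simp [v, eq_comm])
  exact ⟨(Algebra.Presentation.naive (v := v)).ofAlgEquiv E⟩

/-- A finite free splitting algebra with as many equations as variables. -/
theorem exists_split : ∀ (n : ℕ) (R : Type u) [CommRing R] (f : R[X]), f.Monic → f.natDegree = n →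
    ∃ (S : Type u) (_ : CommRing S) (_ : Algebra R S), Module.Finite R S ∧ Module.Free R S ∧
      Function.Injective (algebraMap R S) ∧ (∃ m : ℕ, Nonempty (Algebra.Presentation R S (Fin m) (Fin m))) ∧
      ∃ s : Multiset S, f.map (algebraMap R S) = (s.map fun a => X - C a).prod := by
  intro n
  induction n with
  | zero =>
    intro R _ f hf hn
    exact ⟨R, inferInstance, inferInstance, inferInstance, inferInstance, Function.injective_id,
      ⟨0, ⟨(Algebra.Presentation.id.{0, 0} R).reindex (Equiv.equivPEmpty _) (Equiv.equivPEmpty _)⟩⟩, 0,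
      by simp [hf.natDegree_eq_zero.1 hn]⟩
  | succ n ih =>
    intro R _ f hf hn
    rcases subsingleton_or_nontrivial R with hR | hR
    · exact ⟨R, inferInstance, inferInstance, inferInstance, inferInstance, Function.injective_id,
        ⟨0, ⟨(Algebra.Presentation.id.{0, 0} R).reindex (Equiv.equivPEmpty _) (Equiv.equivPEmpty _)⟩⟩, 0,
        Subsingleton.elim _ _⟩
    let R1 := AdjoinRoot f
    have hinj : Function.Injective (algebraMap R R1) := by
      rw [injective_iff_map_eq_zero]
      intro r hr
      by_contra hr0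
      exact hf.not_dvd_of_natDegree_lt (C_ne_zero.2 hr0) (by rw [natDegree_C]; omega) (AdjoinRoot.mk_eq_zero.1 hr)
    haveI : Nontrivial R1 := hinj.nontrivial
    haveI : Module.Finite R R1 := hf.finite_adjoinRoot
    haveI : Module.Free R R1 := hf.free_adjoinRoot
    have hroot : (f.map (algebraMap R R1)).IsRoot (AdjoinRoot.root f) := by
      rw [IsRoot.def, eval_map]
      exact AdjoinRoot.eval₂_root f
    obtain ⟨f1, hf1⟩ := dvd_iff_isRoot.2 hroot
    have hm1 : f1.Monic := (monic_X_sub_C _).of_mul_monic_left (hf1 ▸ hf.map _)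
    have hn1 : f1.natDegree = n := by
      have := congrArg natDegree hf1
      rw [hf.natDegree_map, hn, (monic_X_sub_C _).natDegree_mul hm1, natDegree_X_sub_C] at this
      omega
    obtain ⟨S, iS, aS, hfin, hfree, hi, ⟨m, ⟨P2⟩⟩, s, hs⟩ := ih R1 f1 hm1 hn1
    obtain ⟨P1⟩ := exists_presentation f
    letI : Algebra R S := ((algebraMap R1 S).comp (algebraMap R R1)).toAlgebra
    haveI : IsScalarTower R R1 S := IsScalarTower.of_algebraMap_eq fun _ => rfl
    refine ⟨S, iS, inferInstance, Module.Finite.trans R1 S, Module.Free.trans (S := R1), hi.comp hinj,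
      ⟨m + 1, ⟨(P2.comp P1).reindex finSumFinEquiv.symm finSumFinEquiv.symm⟩⟩,
      algebraMap R1 S (AdjoinRoot.root f) ::ₘ s, ?_⟩
    rw [IsScalarTower.algebraMap_eq R R1 S, ← Polynomial.map_map, hf1, Polynomial.map_mul, hs, Multiset.map_cons,
      Multiset.prod_cons, Polynomial.map_sub, map_X, map_C]

open Polynomial in
/-- A monic polynomial over a ring A splits into linear factors over some A-algebra A' that is syntomic,
finite free and faithfully flat over A. -/
theorem result (A : Type u) [CommRing A] (P : A[X]) (hP : P.Monic) :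
    ∃ (A' : Type u) (_ : CommRing A') (_ : Algebra A A'),
      Synt.IsSyntomic A A' ∧ Module.Finite A A' ∧ Module.Free A A' ∧ Module.FaithfullyFlat A A' ∧
        ∃ s : Multiset A', P.map (algebraMap A A') = (s.map fun b => X - C b).prod := by
  obtain ⟨S, iS, aS, hfin, hfree, hi, ⟨m, ⟨Q⟩⟩, s, hs⟩ := exists_split _ A P hP rfl
  let e : Synt.RelGCIRing A m m Q.relation ≃ₐ[A] S :=
    (Ideal.quotientEquivAlgOfEq A Q.span_range_relation_eq_ker).trans (Q.quotientEquiv.restrictScalars A)
  haveI : Module.Finite A (MvPolynomial (Fin m) A ⧸ Ideal.span (Set.range Q.relation)) :=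
    Module.Finite.equiv e.symm.toLinearEquiv
  refine ⟨S, iS, aS, CI2.isSyntomic_congr e
    (CI2.isSyntomic_of_isRelGCI (DiscNoether25.isRelGCI_of_quasiFinite Q.relation)), hfin, hfree, ?_, s, hs⟩
  exact Module.FaithfullyFlat.of_comap_surjective (CI2.SplitCover.surjective_comap hi)

end Groth.Agent.S9149
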