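import Groth.Statements.S9150
import Groth.Agent.S9172
import Groth.Agent.Lib.CI2.SyntLocal
import Groth.Prelude.Def_RegImm
import Mathlib

set_option autoImplicit false
universe u
open Synt

namespace Groth.Agent.S9150
open MvPolynomial

theorem nonempty_away_quotient {R S : Type u} [CommRing R] [CommRing S] [Algebra R S] (I : Ideal R) (g : S)
    (hg : Ideal.Quotient.mk (I.map (algebraMap R S)) g = 1) :
    Nonempty ((Localization.Away g ⧸ I.map (algebraMap R (Localization.Away g))) ≃ₐ[R]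
      (S ⧸ I.map (algebraMap R S))) := by
  let T := Localization.Away g
  let A := S ⧸ I.map (algebraMap R S)
  let ψ : T →ₐ[R] A := IsLocalization.liftAlgHom (M := Submonoid.powers g)
    (f := Ideal.Quotient.mkₐ R (I.map (algebraMap R S))) (by
      rintro ⟨_, i, rfl⟩
      show IsUnit (Ideal.Quotient.mk _ (g ^ i))
      rw [map_pow, hg, one_pow]
      exact isUnit_one)
  have hψ : ∀ s, ψ (algebraMap S T s) = Ideal.Quotient.mk _ s := fun s => IsLocalization.lift_eq _ s
  have h0 : ∀ (B : Type u) [CommRing B] [Algebra R B] (φ : T →ₐ[R] B), (∀ r ∈ I, algebraMap R B r = 0) →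
      ∀ x ∈ I.map (algebraMap R T), φ x = 0 := fun B _ _ φ hI x hx => by
    have : I.map (algebraMap R T) ≤ RingHom.ker φ.toRingHom := Ideal.map_le_iff_le_comap.2 fun r hr => by
      show φ (algebraMap R T r) = 0
      rw [φ.commutes]; exact hI r hr
    exact this hx
  have hA : ∀ r ∈ I, algebraMap R A r = 0 := fun r hr =>
    Ideal.Quotient.eq_zero_iff_mem.mpr (Ideal.mem_map_of_mem _ hr)
  let Ψ : (T ⧸ I.map (algebraMap R T)) →ₐ[R] A := Ideal.Quotient.liftₐ _ ψ (h0 A ψ hA)
  have hle : I.map (algebraMap R S) ≤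
      RingHom.ker ((Ideal.Quotient.mk (I.map (algebraMap R T))).comp (algebraMap S T)) :=
    Ideal.map_le_iff_le_comap.2 fun r hr => by
      show Ideal.Quotient.mk _ (algebraMap S T (algebraMap R S r)) = 0
      rw [← IsScalarTower.algebraMap_apply R S T, Ideal.Quotient.eq_zero_iff_mem]
      exact Ideal.mem_map_of_mem _ hr
  let Φ : A →ₐ[R] (T ⧸ I.map (algebraMap R T)) := Ideal.Quotient.liftₐ _
    ((Ideal.Quotient.mkₐ R (I.map (algebraMap R T))).comp (IsScalarTower.toAlgHom R S T)) (fun x hx => hle hx)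
  refine ⟨AlgEquiv.ofAlgHom Ψ Φ ?_ ?_⟩
  · refine Ideal.Quotient.algHom_ext R (AlgHom.ext fun s => ?_)
    exact hψ s
  · refine Ideal.Quotient.algHom_ext R (IsLocalization.algHom_ext (Submonoid.powers g) (AlgHom.ext fun s => ?_))
    exact congrArg Φ (hψ s)

theorem nonempty_reduction {R : Type u} [CommRing R] {n c : ℕ} (F : Fin c → MvPolynomial (Fin n) R) (I : Ideal R) :
    Nonempty ((Synt.RelGCIRing R n c F ⧸ I.map (algebraMap R (Synt.RelGCIRing R n c F))) ≃ₐ[R]
      Synt.RelGCIRing (R ⧸ I) n c (fun i => MvPolynomial.map (Ideal.Quotient.mk I) (F i))) := by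
  let S := Synt.RelGCIRing R n c F
  let G := fun i => MvPolynomial.map (Ideal.Quotient.mk I) (F i)
  let A := Synt.RelGCIRing (R ⧸ I) n c G
  let m := Ideal.Quotient.mkₐ R (Ideal.span (Set.range G))
  let π : MvPolynomial (Fin n) R →ₐ[R] MvPolynomial (Fin n) (R ⧸ I) :=
    MvPolynomial.mapAlgHom (Ideal.Quotient.mkₐ R I)
  have hπ : ∀ p, π p = MvPolynomial.map (Ideal.Quotient.mk I) p := fun p => rfl
  have h1 : Ideal.span (Set.range F) ≤ RingHom.ker (m.comp π).toRingHom := Ideal.span_le.2 (by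
    rintro _ ⟨i, rfl⟩
    exact Ideal.Quotient.eq_zero_iff_mem.mpr (Ideal.subset_span ⟨i, (hπ _).symm⟩))
  let u : S →ₐ[R] A := Ideal.Quotient.liftₐ _ (m.comp π) fun x hx => h1 hx
  have h2 : I.map (algebraMap R S) ≤ RingHom.ker u.toRingHom := Ideal.map_le_iff_le_comap.2 fun r hr => by
    show u (algebraMap R S r) = 0
    rw [u.commutes, IsScalarTower.algebraMap_apply R (R ⧸ I) A, Ideal.Quotient.algebraMap_eq,
      Ideal.Quotient.eq_zero_iff_mem.mpr hr, map_zero]
  let Ψ : (S ⧸ I.map (algebraMap R S)) →ₐ[R] A := Ideal.Quotient.liftₐ _ u fun x hx => h2 hx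
  let B := S ⧸ I.map (algebraMap R S)
  let j : (R ⧸ I) →ₐ[R] B := Ideal.Quotient.liftₐ I (Algebra.ofId R B) fun r hr => by
    show algebraMap R B r = 0
    rw [IsScalarTower.algebraMap_apply R S B]
    exact Ideal.Quotient.eq_zero_iff_mem.mpr (Ideal.mem_map_of_mem _ hr)
  let mm : MvPolynomial (Fin n) R →+* B :=
    (Ideal.Quotient.mk (I.map (algebraMap R S))).comp (Ideal.Quotient.mk (Ideal.span (Set.range F)))
  let v : MvPolynomial (Fin n) (R ⧸ I) →+* B :=
    eval₂Hom (R := R ⧸ I) (S₁ := B) j.toRingHom fun i => mm (X i)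
  have hv : v.comp (MvPolynomial.map (Ideal.Quotient.mk I)) = mm :=
    MvPolynomial.ringHom_ext (fun r => by
      show v (MvPolynomial.map _ (C r)) = mm (C r)
      rw [map_C]
      exact eval₂_C _ _ _)
      fun i => by
        show v (MvPolynomial.map _ (X i)) = mm (X i)
        rw [map_X]
        exact eval₂_X _ _ _
  have h3 : Ideal.span (Set.range G) ≤ RingHom.ker v := Ideal.span_le.2 (by
    rintro _ ⟨i, rfl⟩
    show v (MvPolynomial.map _ (F i)) = 0
    rw [← RingHom.comp_apply, hv]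
    show Ideal.Quotient.mk _ (Ideal.Quotient.mk _ (F i)) = 0
    rw [Ideal.Quotient.eq_zero_iff_mem.mpr (show F i ∈ Ideal.span (Set.range F) from Ideal.subset_span ⟨i, rfl⟩), map_zero])
  let Φ : A →ₐ[R] B :=
    { Ideal.Quotient.lift _ v fun x hx => h3 hx with
      commutes' := fun r => eval₂_C _ _ _ }
  refine ⟨AlgEquiv.ofAlgHom Ψ Φ ?_ ?_⟩
  · refine AlgHom.ext fun x => ?_
    obtain ⟨x, rfl⟩ := Ideal.Quotient.mk_surjective x
    obtain ⟨p, rfl⟩ := MvPolynomial.map_surjective _ (Ideal.Quotient.mk_surjective (I := I)) x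
    show Ψ (v (MvPolynomial.map _ p)) = _
    rw [← RingHom.comp_apply v, hv]
    rfl
  · refine AlgHom.ext fun x => ?_
    obtain ⟨x, rfl⟩ := Ideal.Quotient.mk_surjective x
    obtain ⟨p, rfl⟩ := Ideal.Quotient.mk_surjective x
    show v (π p) = _
    rw [hπ, ← RingHom.comp_apply v, hv]
    rfl

/-- Let I be an ideal of a ring R and S̄ an R-algebra killed by I which is syntomic over R/I. Then S̄ is
covered by finitely many basic opens S̄_g each isomorphic, as an R-algebra, to S/IS for some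
relative global complete intersection S over R. -/
theorem result (R : Type u) [CommRing R] (I : Ideal R) (Sb : Type u) [CommRing Sb]
    [Algebra R Sb] [Algebra (R ⧸ I) Sb] [IsScalarTower R (R ⧸ I) Sb] (h : Synt.IsSyntomic (R ⧸ I) Sb) :
    ∃ s : Finset Sb, Ideal.span (s : Set Sb) = ⊤ ∧ ∀ g ∈ s,
      ∃ (n c : ℕ) (F : Fin c → MvPolynomial (Fin n) R), Synt.IsRelGCI R n c F ∧
        Nonempty (Localization.Away g ≃ₐ[R]
          (Synt.RelGCIRing R n c F ⧸ I.map (algebraMap R (Synt.RelGCIRing R n c F)))) := by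
  choose g hg n c Fb hFb eb using Groth.Agent.CI2.exists_relGCI_of_isSyntomic h
  have hspan : Ideal.span (Set.range g) = ⊤ := by
    by_contra hne
    obtain ⟨m, hm, hle⟩ := Ideal.exists_le_maximal _ hne
    exact hg ⟨m, hm.isPrime⟩ (hle (Ideal.subset_span ⟨_, rfl⟩))
  obtain ⟨s, hs, hs1⟩ := (Ideal.span_eq_top_iff_finite _).1 hspan
  refine ⟨s, hs1, fun a ha => ?_⟩
  obtain ⟨z, rfl⟩ := hs ha
  choose F hF using fun i => MvPolynomial.map_surjective _ (Ideal.Quotient.mk_surjective (I := I)) (Fb z i)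
  have hG : (fun i => MvPolynomial.map (Ideal.Quotient.mk I) (F i)) = Fb z := funext hF
  obtain ⟨h1, hh1, hrel, ⟨e⟩⟩ := Groth.Agent.S9172.result R (n z) (c z) F I (hG.symm ▸ hFb z)
  obtain ⟨e1⟩ := nonempty_away_quotient I _ hh1
  obtain ⟨e2⟩ := nonempty_reduction F I
  obtain ⟨e3⟩ : Nonempty (Synt.RelGCIRing (R ⧸ I) (n z) (c z)
      (fun i => MvPolynomial.map (Ideal.Quotient.mk I) (F i)) ≃ₐ[R] Localization.Away (g z)) := by
    rw [hG]
    exact (eb z).map fun e => (e.restrictScalars R).symm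
  refine ⟨_, _, _, hrel, ⟨(((Ideal.quotientEquivAlg _ _ e ?_).symm.trans e1).trans e2).trans e3 |>.symm⟩⟩
  rw [Ideal.map_map]
  exact congrArg (fun φ => Ideal.map φ I) e.toAlgHom.comp_algebraMap.symm

end Groth.Agent.S9150
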