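import Groth.Statements.S9152
import Groth.Agent.Lib.FibreCM5.Constr
-- import your own Groth.Agent.* helpers here

set_option autoImplicit false
universe u
open CAlg

namespace Groth.Agent.S9152

/-- The Cohen–Macaulay locus of a finite type algebra over a field is open. -/
theorem result (k S : Type u) [Field k] [CommRing S] [Algebra k S]
    [Algebra.FiniteType k S] :
    IsOpen {q : PrimeSpectrum S | LocCoh.IsCohenMacaulayLocalRing (Localization.AtPrime q.asIdeal)} := by
  exact Groth.Agent.FibreCM5.isOpen_setOf_isCM_algebra k S

end Groth.Agent.S9152
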