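import Groth.Statements.S9154
import Groth.Agent.Lib.CMAff1.Basic
import Groth.Agent.Lib.Depth.More

set_option autoImplicit false
universe u
open CAlg

namespace Groth.Agent.S9154

/-- Let S be a Cohen–Macaulay finite type algebra over a field k, equidimensional of dimension d, and
f_1, …, f_i elements (i ≤ d) generating a proper ideal whose zero locus has dimension at most d − i.
Then that dimension equals d − i and the f_j form a regular sequence in S_q for every prime q
containing them. (The published statement also allows the f_j to generate the unit ideal, where the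
zero locus is empty and the equality fails, e.g. f_1 = 1 in k[x]; this row assumes the ideal is
proper.) -/
theorem result (k S : Type u) [Field k] [CommRing S] [Algebra k S]
    [Algebra.FiniteType k S] [LocCoh.IsCohenMacaulayRing S] (d : ℕ)
    (heq : ∀ p ∈ minimalPrimes S, ringKrullDim (S ⧸ p) = d) (f : List S) (hi : f.length ≤ d)
    (hne : Ideal.ofList f ≠ ⊤)
    (hle : ringKrullDim (S ⧸ Ideal.ofList f) ≤ ((d - f.length : ℕ) : WithBot ℕ∞)) :
    ringKrullDim (S ⧸ Ideal.ofList f) = ((d - f.length : ℕ) : WithBot ℕ∞) ∧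
      ∀ (q : Ideal S) [q.IsPrime], Ideal.ofList f ≤ q →
        RingTheory.Sequence.IsRegular (Localization.AtPrime q)
          (f.map (algebraMap S (Localization.AtPrime q))) := by
  haveI : IsNoetherianRing S := inferInstance
  classical
  set I := Ideal.ofList f with hI
  have hht : ∀ p : Ideal S, p.IsPrime → I ≤ p → (f.length : ℕ∞) ≤ p.height ∧
      (∀ n : ℕ, p.height ≤ n → ((d - n : ℕ) : WithBot ℕ∞) ≤ ringKrullDim (S ⧸ I)) := by
    intro p hp hIp
    obtain ⟨M, hM, hpM⟩ := Ideal.exists_le_maximal p hp.ne_top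
    obtain ⟨P, hP, hPM⟩ := Ideal.exists_minimalPrimes_le (bot_le : (⊥ : Ideal S) ≤ M)
    have hMd : (M.height : WithBot ℕ∞) = ((d : ℕ) : WithBot ℕ∞) :=
      (CMAff1.height_eq_dim_quotient k M hP hPM).trans (heq P hP)
    obtain ⟨e, he, h1, -⟩ := CMAff1.exists_height_eq_add hpM
    have hMd' : M.height = (d : ℕ∞) := by exact_mod_cast hMd
    rw [hMd'] at he
    have h1' := h1 I hIp
    have h2 : e ≤ ((d - f.length : ℕ) : ℕ∞) := WithBot.coe_le_coe.1 (h1'.trans hle)
    obtain ⟨e', rfl⟩ := ENat.ne_top_iff_exists.1 (ne_top_of_le_ne_top (ENat.natCast_ne_top _) h2)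
    have hp' : p.height ≠ ⊤ := fun h => by rw [h, add_top] at he; exact ENat.natCast_ne_top _ he
    obtain ⟨h', hh'⟩ := ENat.ne_top_iff_exists.1 hp'
    rw [← hh'] at he ⊢
    norm_cast at he h2
    refine ⟨by exact_mod_cast (by omega : f.length ≤ h'), fun n hn => le_trans ?_ h1'⟩
    have hn' : h' ≤ n := by exact_mod_cast hn
    exact WithBot.coe_le_coe.2 (ENat.natCast_le_natCast.2 (by omega : d - n ≤ e'))
  refine ⟨le_antisymm hle ?_, fun q _ hq => ?_⟩
  · obtain ⟨p, hp⟩ := Ideal.nonempty_minimalPrimes hne
    refine (hht p hp.1.1 hp.1.2).2 _ ((Ideal.height_le_card_of_mem_minimalPrimes_span_finset (s := f.toFinset) ?_).trans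
      (by exact_mod_cast f.toFinset_card_le))
    simpa [hI, Ideal.ofList] using hp
  · let L := Localization.AtPrime q
    haveI : LocCoh.IsCohenMacaulayLocalRing L :=
      LocCoh.IsCohenMacaulayRing.isCohenMacaulayLocalRing_localization q
    have hmem : ∀ x ∈ f.map (algebraMap S L), x ∈ IsLocalRing.maximalIdeal L := by
      intro x hx
      obtain ⟨a, ha, rfl⟩ := List.mem_map.1 hx
      exact (IsLocalization.AtPrime.to_map_mem_maximal_iff L q a).2 (hq (Ideal.subset_span ha))
    have hJ : Ideal.ofList (f.map (algebraMap S L)) = I.map (algebraMap S L) := (Ideal.map_ofList _ f).symm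
    have hne' : Ideal.ofList (f.map (algebraMap S L)) ≠ ⊤ :=
      ne_top_of_le_ne_top (IsLocalRing.maximalIdeal.isMaximal L).ne_top (Ideal.span_le.2 hmem)
    refine DepthLib.isRegular_of_isWeaklyRegular
      (DepthLib.isWeaklyRegular_of_length_le_idealDepth _ hmem ?_) hmem
      (by rw [smul_eq_mul, Ideal.mul_top]; exact (IsLocalRing.maximalIdeal.isMaximal L).ne_top)
    rw [GorenLib.idealDepth_eq_height _ hne', List.length_map, Ideal.height_eq_inf_minimalPrimes]
    refine le_iInf₂ fun Q hQ => ?_
    haveI := hQ.1.1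
    rw [← IsLocalization.height_under q.primeCompl Q]
    refine (hht _ inferInstance ?_).1
    exact Ideal.map_le_iff_le_comap.1 (hJ ▸ hQ.1.2)

end Groth.Agent.S9154
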