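import Groth.Statements.S9155
import Groth.Agent.Lib.Diff16.FormallyEtale
import Mathlib.RingTheory.Localization.BaseChange

set_option autoImplicit false
universe u
open Diff16

namespace Groth.Agent.S9155

/-- A differential operator of order at most k between modules over B (relative to A → B) has exactly
one extension to the localized modules over S⁻¹B that is again a differential operator of order at
most k (relative to A → S⁻¹B), compatible with the localization maps. -/
theorem result (A B : Type u) [CommRing A] [CommRing B] [Algebra A B]
    (S : Submonoid B) (M N : Type u) [AddCommGroup M] [Module B M] [Module A M] [IsScalarTower A B M]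
    [AddCommGroup N] [Module B N] [Module A N] [IsScalarTower A B N] (k : ℕ) (D : M →ₗ[A] N)
    (hD : Diff16.IsDiffOpLE A B M N k D) :
    ∃! E : LocalizedModule S M →ₗ[A] LocalizedModule S N,
      Diff16.IsDiffOpLE A (Localization S) (LocalizedModule S M) (LocalizedModule S N) k E ∧
        E ∘ₗ (LocalizedModule.mkLinearMap S M).restrictScalars A =
          (LocalizedModule.mkLinearMap S N).restrictScalars A ∘ₗ D := by
  haveI : Algebra.FormallyEtale B (Localization S) := Algebra.FormallyEtale.of_isLocalization (M := S)
  have hb : IsBaseChange (Localization S) (LocalizedModule.mkLinearMap S M) :=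
    IsLocalizedModule.isBaseChange S (Localization S) _
  let D₀ : M →ₗ[A] LocalizedModule S N := (LocalizedModule.mkLinearMap S N).restrictScalars A ∘ₗ D
  have hN : Diff16.IsDiffOpLE A B N (LocalizedModule S N) 0
      ((LocalizedModule.mkLinearMap S N).restrictScalars A) :=
    fun b m => (LocalizedModule.mkLinearMap S N).map_smul b m
  have hD₀ : Diff16.IsDiffOpLE A B M (LocalizedModule S N) k D₀ := by
    simpa using Groth.Agent.DiffOps.comp hD hN
  obtain ⟨E, hE, hE'⟩ := Groth.Agent.DiffOps.exists_ext hb hD₀
  refine ⟨E, ⟨hE, LinearMap.ext fun m => hE' m⟩, fun E' ⟨hE₁, hE₂⟩ => ?_⟩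
  have hneg : Diff16.IsDiffOpLE A (Localization S) (LocalizedModule S M) (LocalizedModule S N) k
      (E' + (-1 : Localization S) • E) :=
    Groth.Agent.DiffOps.add hE₁ (Groth.Agent.DiffOps.smulB (-1 : Localization S) hE)
  have h0 := Groth.Agent.DiffOps.eq_zero_of_formallyUnramified hb hneg fun m => by
    have h₁ : E' (LocalizedModule.mkLinearMap S M m) = D₀ m := LinearMap.congr_fun hE₂ m
    rw [LinearMap.add_apply, LinearMap.smul_apply, neg_one_smul, h₁, hE', add_neg_cancel]
  refine LinearMap.ext fun x => ?_
  have := LinearMap.congr_fun h0 x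
  rwa [LinearMap.add_apply, LinearMap.smul_apply, neg_one_smul, LinearMap.zero_apply,
    ← sub_eq_add_neg, sub_eq_zero] at this

end Groth.Agent.S9155
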