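import Groth.Statements.S9156
import Groth.Agent.Lib.CMAff1.Basic

set_option autoImplicit false
universe u
open CAlg

namespace Groth.Agent.S9156

/-- A Cohen–Macaulay finite type algebra S over a field k decomposes as a finite product of k-algebras
S_0 × ⋯ × S_N in which every maximal ideal of the factor S_d has height d (so Spec S is a finite
disjoint union of equidimensional open and closed pieces). -/
theorem result (k S : Type u) [Field k] [CommRing S]
    [Algebra k S] [Algebra.FiniteType k S] [LocCoh.IsCohenMacaulayRing S] :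
    ∃ (N : ℕ) (T : Fin (N + 1) → Type u) (_ : ∀ d, CommRing (T d)) (_ : ∀ d, Algebra k (T d)),
      Nonempty (S ≃ₐ[k] ((d : Fin (N + 1)) → T d)) ∧
        ∀ (d : Fin (N + 1)) (m : Ideal (T d)), m.IsMaximal → m.height = (d : ℕ) := by
  classical
  haveI : IsNoetherianRing S := inferInstance
  have hfin : (minimalPrimes S).Finite := minimalPrimes.finite_of_isNoetherianRing S
  have hd : ∀ P : hfin.toFinset, ∃ d : ℕ, ringKrullDim (S ⧸ P.1) = (d : WithBot ℕ∞) := by
    intro ⟨P, hP⟩
    have hP' := hfin.mem_toFinset.1 hP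
    obtain ⟨M, hM, hPM⟩ := Ideal.exists_le_maximal P hP'.1.1.ne_top
    refine ⟨M.height.toNat, ?_⟩
    rw [← CMAff1.height_eq_dim_quotient k M hP' hPM]
    exact congrArg _ (ENat.natCast_toNat (Ideal.height_ne_top hM.ne_top)).symm
  choose d hd using hd
  let N : ℕ := Finset.univ.sup d
  let I : Fin (N + 1) → Ideal S := fun j => ⨅ P ∈ Finset.univ.filter (fun P : hfin.toFinset => d P = j.1), P.1
  have hI : ∀ (M : Ideal S) [M.IsMaximal] (j : Fin (N + 1)), I j ≤ M → (M.height : ℕ∞) = (j : ℕ) := by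
    intro M hM j hj
    obtain ⟨P, hP, hPM⟩ := hM.isPrime.inf_le'.1 ((Finset.inf_eq_iInf _ (fun P : hfin.toFinset => P.1)).trans_le hj)
    have h1 := CMAff1.height_eq_dim_quotient k M (hfin.mem_toFinset.1 P.2) hPM
    rw [hd P, (Finset.mem_filter.1 hP).2] at h1
    exact_mod_cast h1
  have hle : ∀ (P : hfin.toFinset) (j : Fin (N + 1)), d P = j.1 → I j ≤ P.1 := fun P j h =>
    iInf₂_le P (Finset.mem_filter.2 ⟨Finset.mem_univ _, h⟩)
  have hcop : Pairwise (Function.onFun IsCoprime I) := by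
    intro i j hij
    rw [Function.onFun, Ideal.isCoprime_iff_sup_eq]
    by_contra hne
    obtain ⟨M, hM, hM'⟩ := Ideal.exists_le_maximal _ hne
    have h1 := (hI M i (le_sup_left.trans hM')).symm.trans (hI M j (le_sup_right.trans hM'))
    exact hij (Fin.ext (by exact_mod_cast h1))
  have hnil : ⨅ j, I j ≤ nilradical S := by
    rw [nilradical, ← Ideal.sInf_minimalPrimes]
    refine le_sInf fun P hP => ?_
    let P' : hfin.toFinset := ⟨P, hfin.mem_toFinset.2 hP⟩
    exact (iInf_le _ (⟨d P', Nat.lt_succ_of_le (Finset.le_sup (Finset.mem_univ P'))⟩ : Fin (N + 1))).trans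
      (hle P' _ rfl)
  obtain ⟨n₀, hn₀⟩ := IsNoetherianRing.isNilpotent_nilradical S
  obtain ⟨n, hn, hn0⟩ : ∃ n, nilradical S ^ n = ⊥ ∧ n ≠ 0 :=
    ⟨n₀ + 1, by rw [pow_succ, hn₀, zero_mul]; rfl, Nat.succ_ne_zero _⟩
  have hcop' : Pairwise (Function.onFun IsCoprime fun j => I j ^ n) := fun i j hij => (hcop hij).pow
  have hbot : ⨅ j, I j ^ n = ⊥ := by
    rw [← le_bot_iff]
    calc ⨅ j, I j ^ n = ⨅ j ∈ Finset.univ, I j ^ n := by simp
      _ = ∏ j, I j ^ n := (Ideal.prod_eq_iInf_of_pairwise_isCoprime (hcop'.set_pairwise _)).symm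
      _ = (∏ j, I j) ^ n := Finset.prod_pow _ _ _
      _ ≤ (⨅ j, I j) ^ n := by
          rw [Ideal.prod_eq_iInf_of_pairwise_isCoprime (hcop.set_pairwise _)]
          simp
      _ ≤ nilradical S ^ n := Ideal.pow_right_mono hnil n
      _ = ⊥ := hn
  let e : S ≃+* ((j : Fin (N + 1)) → S ⧸ I j ^ n) :=
    (RingEquiv.quotientBot S).symm.trans ((Ideal.quotEquivOfEq hbot.symm).trans
      (Ideal.quotientInfRingEquivPiQuotient _ hcop'))
  refine ⟨N, fun j => S ⧸ I j ^ n, inferInstance, inferInstance, ⟨AlgEquiv.ofRingEquiv (f := e) fun c => rfl⟩,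
    fun j m hm => ?_⟩
  let π := Ideal.Quotient.mk (I j ^ n)
  haveI : (m.comap π).IsMaximal := Ideal.comap_isMaximal_of_surjective π Ideal.Quotient.mk_surjective
  have hpow : ∀ b : Ideal S, b.IsPrime → I j ^ n ≤ b → I j ≤ b := fun b hb h => by
    intro x hx
    exact hb.mem_of_pow_mem n (h (Ideal.pow_mem_pow hx n))
  have hker : ∀ a : Ideal (S ⧸ I j ^ n), I j ^ n ≤ a.comap π := fun a x hx => by
    show π x ∈ a
    rw [Ideal.Quotient.eq_zero_iff_mem.2 hx]
    exact zero_mem _
  rw [show m.height = Order.height (⟨m, inferInstance⟩ : PrimeSpectrum _) from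
    PrimeSpectrum.height_eq_orderHeight ⟨m, inferInstance⟩]
  rw [← hI (m.comap π) j (hpow _ inferInstance (hker m)), show (m.comap π).height = Order.height (PrimeSpectrum.comap π ⟨m, inferInstance⟩) from
    PrimeSpectrum.height_eq_orderHeight (PrimeSpectrum.comap π ⟨m, inferInstance⟩)]
  have hmono : StrictMono (PrimeSpectrum.comap π) := Monotone.strictMono_of_injective (fun _ _ h => Ideal.comap_mono h)
    (PrimeSpectrum.comap_injective_of_surjective π Ideal.Quotient.mk_surjective)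
  refine Order.height_eq_of_strictMono _ hmono ?_ _
  intro a b hb
  obtain ⟨P, hP, hPb⟩ := Ideal.exists_minimalPrimes_le (bot_le : (⊥ : Ideal S) ≤ b.asIdeal)
  let P' : hfin.toFinset := ⟨P, hfin.mem_toFinset.2 hP⟩
  obtain ⟨M, hM, haM⟩ := Ideal.exists_le_maximal (a.asIdeal.comap π) (Ideal.IsPrime.ne_top inferInstance)
  have hPM : P ≤ M := hPb.trans (le_trans (show b.asIdeal ≤ a.asIdeal.comap π from hb.le) haM)
  have h1 := CMAff1.height_eq_dim_quotient k M hP hPM
  rw [hI M j (hpow M hM.isPrime ((hker a.asIdeal).trans haM)), hd P'] at h1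
  have hPj : d P' = j.1 := by exact_mod_cast h1.symm
  have hjb : I j ^ n ≤ b.asIdeal := (Ideal.pow_le_self hn0).trans ((hle P' j hPj).trans hPb)
  haveI := b.isPrime
  let a' : PrimeSpectrum (S ⧸ I j ^ n) :=
    ⟨b.asIdeal.map π, Ideal.map_isPrime_of_surjective Ideal.Quotient.mk_surjective (by rw [Ideal.mk_ker]; exact hjb)⟩
  have ha' : PrimeSpectrum.comap π a' = b := PrimeSpectrum.ext (by
    show (b.asIdeal.map π).comap π = _
    rw [Ideal.comap_map_of_surjective _ Ideal.Quotient.mk_surjective, ← RingHom.ker_eq_comap_bot,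
      Ideal.mk_ker, sup_eq_left.2 hjb])
  refine ⟨a', lt_of_le_not_ge ?_ ?_, ha'⟩
  · show b.asIdeal.map π ≤ a.asIdeal
    exact Ideal.map_le_iff_le_comap.2 hb.le
  · intro h
    exact hb.not_ge (ha' ▸ hmono.monotone h)

end Groth.Agent.S9156
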