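import Groth.Statements.S9157
import Mathlib

set_option autoImplicit false
universe u
open CAlg

namespace Groth.Agent.S9157




/-- If the localization S⁻¹M of an R-module M is finitely presented over S⁻¹R, then some finitely
presented R-module M' maps to M inducing an isomorphism S⁻¹M' → S⁻¹M. -/
theorem result (R : Type u) [CommRing R] (S : Submonoid R)
    (M : Type u) [AddCommGroup M] [Module R M]
    [Module.FinitePresentation (Localization S) (LocalizedModule S M)] :
    ∃ (M' : Type u) (_ : AddCommGroup M') (_ : Module R M') (φ : M' →ₗ[R] M),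
      Module.FinitePresentation R M' ∧ Function.Bijective (LocalizedModule.map S φ) := by
  classical
  let Rs := Localization S
  let Ms := LocalizedModule S M
  haveI : Module.Finite Rs Ms := inferInstance
  obtain ⟨t, ht⟩ := (Module.finite_def.1 ‹Module.Finite Rs Ms› : (⊤ : Submodule Rs Ms).FG)
  have hsurj : ∀ y : t, ∃ m : M, ∃ s : S, LocalizedModule.mk m s = y.1 := fun y => by
    induction hy : y.1 using LocalizedModule.induction_on with
    | h m s => exact ⟨m, s, rfl⟩
  choose m s hms using hsurj
  let g : (t → R) →ₗ[R] M := Fintype.linearCombination R m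
  let gs := LocalizedModule.map S g
  have hgs : Function.Surjective gs := by
    rw [← LinearMap.range_eq_top, ← top_le_iff, ← ht, Submodule.span_le]
    intro y hy
    refine ⟨LocalizedModule.mk (Pi.single ⟨y, hy⟩ 1) (s ⟨y, hy⟩), ?_⟩
    rw [LocalizedModule.map_mk]
    simp [g, hms]
  haveI : Module.Finite Rs (LinearMap.ker gs) := Module.Finite.iff_fg.2
    (Module.FinitePresentation.fg_ker gs hgs)
  have hk : (LinearMap.ker gs).FG := Module.Finite.iff_fg.1 inferInstance
  obtain ⟨w, hw⟩ := hk
  have hlift : ∀ y : w, ∃ v : t → R, ∃ c : S, g v = 0 ∧ LocalizedModule.mk v c = y.1 := by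
    intro y
    have hy : gs y.1 = 0 := LinearMap.mem_ker.1 (hw ▸ Submodule.subset_span y.2)
    induction hy' : y.1 using LocalizedModule.induction_on with
    | h v c =>
      rw [hy', LocalizedModule.map_mk, ← LocalizedModule.zero_mk c, LocalizedModule.mk_eq] at hy
      obtain ⟨u, hu⟩ := hy
      simp only [smul_zero, Submonoid.smul_def, smul_smul] at hu
      refine ⟨((u : R) * c) • v, u * c * c, by rw [map_smul, hu], ?_⟩
      rw [LocalizedModule.mk_eq]
      exact ⟨1, by simp [Submonoid.smul_def, smul_smul, mul_comm, mul_assoc, mul_left_comm]⟩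
  choose v c hv hvc using hlift
  let P : Submodule R (t → R) := Submodule.span R (Set.range v)
  have hP : P.FG := Submodule.fg_span (Set.finite_range v)
  have hle : P ≤ LinearMap.ker g := Submodule.span_le.2 (by rintro _ ⟨y, rfl⟩; exact hv y)
  let φ : ((t → R) ⧸ P) →ₗ[R] M := P.liftQ g hle
  haveI : Module.FinitePresentation R ((t → R) ⧸ P) :=
    Module.finitePresentation_of_surjective P.mkQ P.mkQ_surjective (by rwa [Submodule.ker_mkQ])
  refine ⟨(t → R) ⧸ P, inferInstance, inferInstance, φ, inferInstance, ?_, ?_⟩
  · rw [injective_iff_map_eq_zero]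
    intro z hz
    induction z using LocalizedModule.induction_on with
    | h x d =>
      obtain ⟨x, rfl⟩ := P.mkQ_surjective x
      have hx : LocalizedModule.mk x d ∈ Submodule.span Rs (w : Set (LocalizedModule S (t → R))) := by
        rw [hw, LinearMap.mem_ker, LocalizedModule.map_mk]
        rw [LocalizedModule.map_mk] at hz
        exact hz
      have hle' : Submodule.span Rs (w : Set (LocalizedModule S (t → R))) ≤ LinearMap.ker (LocalizedModule.map S P.mkQ) := by
        rw [Submodule.span_le]
        intro y hy
        rw [SetLike.mem_coe, LinearMap.mem_ker, show y = LocalizedModule.mk (v ⟨y, hy⟩) (c ⟨y, hy⟩) from (hvc ⟨y, hy⟩).symm, LocalizedModule.map_mk,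
          (Submodule.Quotient.mk_eq_zero P).2 (Submodule.subset_span ⟨⟨y, hy⟩, rfl⟩) |> (fun h => show P.mkQ (v ⟨y, hy⟩) = 0 from h),
          LocalizedModule.zero_mk]
      have := hle' hx
      rwa [LinearMap.mem_ker, LocalizedModule.map_mk] at this
  · intro y
    obtain ⟨x, rfl⟩ := hgs y
    induction x using LocalizedModule.induction_on with
    | h x d => exact ⟨LocalizedModule.mk (P.mkQ x) d, by rw [LocalizedModule.map_mk, LocalizedModule.map_mk]; rfl⟩

end Groth.Agent.S9157
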