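import Groth.Statements.S9158
import Groth.Agent.Lib.FlatH4.GenFreeRed

set_option autoImplicit false
universe u
open CAlg

namespace Groth.Agent.S9158

theorem good {R S : Type u} [CommRing R] [IsReduced R] [CommRing S]
    [Algebra R S] [Algebra.FiniteType R S] {M : Type u} [AddCommGroup M] [Module S M] [Module R M]
    [IsScalarTower R S M] [Module.Finite S M] {b : R} (hb : b ≠ 0) :
    ∃ f : R, f ≠ 0 ∧ b ∣ f ∧
      Module.Free (Localization.Away f) (LocalizedModule (Submonoid.powers f) M) ∧
      Module.Free (Localization.Away f) (LocalizedModule (Submonoid.powers f) S) ∧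
      (Localization.awayMap (algebraMap R S) f).FinitePresentation ∧
      Module.FinitePresentation (Localization.Away (algebraMap R S f))
        (LocalizedModule (Submonoid.powers (algebraMap R S f)) M) := by
  classical
  obtain ⟨n, φ, hφ⟩ := Algebra.FiniteType.iff_quotient_mvPolynomial''.1 ‹Algebra.FiniteType R S›
  let P := MvPolynomial (Fin n) R
  let _ : Algebra P S := φ.toRingHom.toAlgebra
  have : IsScalarTower R P S := IsScalarTower.of_algebraMap_eq fun r => (φ.commutes r).symm
  let _ : Module P M := Module.compHom M φ.toRingHom
  have : IsScalarTower P S M := IsScalarTower.of_algebraMap_smul fun p x => rfl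
  have : IsScalarTower R P M := IsScalarTower.of_algebraMap_smul fun r x => by
    show φ (algebraMap R P r) • x = r • x
    rw [φ.commutes, algebraMap_smul]
  obtain ⟨m, π, hπ⟩ := Module.Finite.exists_fin' S M
  let up : (Fin m → P) →ₗ[P] (Fin m → S) :=
    LinearMap.pi fun i => (Algebra.linearMap P S).comp (LinearMap.proj i)
  have hup : Function.Surjective up := fun v => by
    choose w hw using fun i => hφ (v i)
    exact ⟨w, funext hw⟩
  let πP : (Fin m → P) →ₗ[P] M := (π.restrictScalars P).comp up
  obtain ⟨a, ha, hba, hfreeM, W, hWfg, hWle, hW⟩ :=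
    Groth.Agent.FlatH4.exists_free_and_fg_kernel_of_isReduced πP (hπ.comp hup) hb
  obtain ⟨f, hf, haf, hS⟩ :=
    Groth.Agent.FlatH4.exists_free_and_finitePresentation_of_isReduced (R := R) (S := S) ha
  refine ⟨f, hf, hba.trans haf, ?_⟩
  have hu := IsLocalization.Away.algebraMap_isUnit (S := Localization.Away f) f
  have hua : IsUnit (algebraMap R (Localization.Away f) a) :=
    isUnit_of_dvd_unit (map_dvd _ haf) hu
  have eM := (IsLocalizedModule.isBaseChange (Submonoid.powers f) (Localization.Away f)
    (LocalizedModule.mkLinearMap (Submonoid.powers f) M)).equiv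
  have eS := (IsLocalizedModule.isBaseChange (Submonoid.powers f) (Localization.Away f)
    (LocalizedModule.mkLinearMap (Submonoid.powers f) S)).equiv
  have := hfreeM _ hua
  have := (hS _ hu).1
  refine ⟨Module.Free.of_equiv eM, Module.Free.of_equiv eS, ?_, ?_⟩
  · have hFP := (hS _ hu).2
    let _ : Algebra (Localization.Away f) (Localization.Away (algebraMap R S f)) :=
      (Localization.awayMap (algebraMap R S) f).toAlgebra
    have : IsScalarTower R (Localization.Away f) (Localization.Away (algebraMap R S f)) :=
      IsScalarTower.of_algebraMap_eq fun r => by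
        rw [RingHom.algebraMap_toAlgebra, Localization.awayMap, IsLocalization.Away.map,
          IsLocalization.map_eq, ← IsScalarTower.algebraMap_apply]
    have : IsLocalization (Algebra.algebraMapSubmonoid S (Submonoid.powers f))
        (Localization.Away (algebraMap R S f)) := by
      have : Algebra.algebraMapSubmonoid S (Submonoid.powers f) = Submonoid.powers (algebraMap R S f) :=
        Submonoid.map_powers _ _
      rw [this]; infer_instance
    have := (Algebra.isPushout_of_isLocalization (Submonoid.powers f) (Localization.Away f) S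
      (Localization.Away (algebraMap R S f))).symm
    show Algebra.FinitePresentation (Localization.Away f) (Localization.Away (algebraMap R S f))
    exact Algebra.FinitePresentation.equiv
      (Algebra.IsPushout.equiv R (Localization.Away f) S (Localization.Away (algebraMap R S f)))
  · set g := algebraMap R S f with hg
    let W' : Submodule S (Fin m → S) := Submodule.span S (up '' W)
    have hW'le : W' ≤ LinearMap.ker π := Submodule.span_le.2 (by
      rintro _ ⟨w, hw, rfl⟩
      exact hWle hw)
    have hW'fg : W'.FG := by
      obtain ⟨s, rfl⟩ := hWfg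
      refine ⟨s.image up, le_antisymm (Submodule.span_le.2 ?_) (Submodule.span_le.2 ?_)⟩
      · intro x hx
        obtain ⟨w, hw, rfl⟩ := Finset.mem_image.1 (Finset.mem_coe.1 hx)
        exact Submodule.subset_span ⟨w, Submodule.subset_span hw, rfl⟩
      · rintro _ ⟨w, hw, rfl⟩
        refine Submodule.span_induction ?_ ?_ ?_ ?_ hw
        · intro x hx
          exact Submodule.subset_span (Finset.mem_coe.2 (Finset.mem_image_of_mem _ hx))
        · rw [map_zero]; exact zero_mem _
        · intro x y _ _ hx hy; rw [map_add]; exact add_mem hx hy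
        · intro p x _ hx; rw [map_smul, ← algebraMap_smul S]; exact Submodule.smul_mem _ _ hx
    have : Module.FinitePresentation S ((Fin m → S) ⧸ W') :=
      Module.finitePresentation_of_surjective W'.mkQ W'.mkQ_surjective (by rw [W'.ker_mkQ]; exact hW'fg)
    let q : ((Fin m → S) ⧸ W') →ₗ[S] M := W'.liftQ π hW'le
    have hq : Function.Surjective q := fun x => by
      obtain ⟨y, rfl⟩ := hπ x
      exact ⟨W'.mkQ y, rfl⟩
    let qg : LocalizedModule (Submonoid.powers g) ((Fin m → S) ⧸ W') →ₗ[Localization.Away g]
        LocalizedModule (Submonoid.powers g) M := LocalizedModule.map (Submonoid.powers g) q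
    have hqg : Function.Bijective qg := by
      refine ⟨?_, LocalizedModule.map_surjective (Submonoid.powers g) q hq⟩
      rw [injective_iff_map_eq_zero]
      intro z hz
      induction z using LocalizedModule.induction_on with
      | _ x s =>
        rw [LocalizedModule.map_mk, ← LocalizedModule.zero_mk s, LocalizedModule.mk_eq] at hz
        obtain ⟨c, hc⟩ := hz
        simp only [smul_zero] at hc
        obtain ⟨v, rfl⟩ := Submodule.mkQ_surjective W' x
        have h1 : π (((c * s : Submonoid.powers g) : S) • v) = 0 := by
          rw [map_smul, Submonoid.coe_mul, mul_smul]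
          exact hc
        obtain ⟨l, hl⟩ := hup (((c * s : Submonoid.powers g) : S) • v)
        obtain ⟨k, hk⟩ := hW l (show π (up l) = 0 by rw [hl]; exact h1)
        have h2 : a ^ k • (((c * s : Submonoid.powers g) : S) • v) ∈ W' := by
          rw [← hl, ← LinearMap.map_smul_of_tower]
          exact Submodule.subset_span ⟨_, hk, rfl⟩
        obtain ⟨t, ht⟩ := pow_dvd_pow_of_dvd haf k
        rw [← LocalizedModule.zero_mk s, LocalizedModule.mk_eq]
        refine ⟨⟨g ^ k, k, rfl⟩ * c, ?_⟩
        simp only [smul_zero, Submonoid.smul_def, Submonoid.coe_mul]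
        rw [smul_smul, ← LinearMap.map_smul, Submodule.mkQ_apply, Submodule.Quotient.mk_eq_zero]
        have e : g ^ k * (c : S) * (s : S) =
            algebraMap R S t * (algebraMap R S (a ^ k) * ((c * s : Submonoid.powers g) : S)) := by
          rw [Submonoid.coe_mul, show g ^ k = algebraMap R S (a ^ k * t) from by rw [← ht, map_pow], map_mul]; ring
        rw [e, mul_smul]
        refine W'.smul_mem _ ?_
        rw [mul_smul, algebraMap_smul]
        exact h2
    exact Module.FinitePresentation.of_equiv (LinearEquiv.ofBijective qg hqg)


/-- Generic freeness over a reduced ring: let R → S be of finite type with R reduced and M a finite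
S-module. There is a dense open subset U of Spec R such that each point of U lies in a basic open
D(f) ⊆ U with M_f and S_f free over R_f, S_f of finite presentation over R_f, and M_f of finite
presentation over S_f. -/
theorem result (R S : Type u) [CommRing R] [IsReduced R] [CommRing S]
    [Algebra R S] [Algebra.FiniteType R S] (M : Type u) [AddCommGroup M] [Module S M] [Module R M]
    [IsScalarTower R S M] [Module.Finite S M] :
    ∃ U : Set (PrimeSpectrum R), IsOpen U ∧ Dense U ∧ ∀ u ∈ U, ∃ f : R, f ∉ u.asIdeal ∧
      (PrimeSpectrum.basicOpen f : Set (PrimeSpectrum R)) ⊆ U ∧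
      Module.Free (Localization.Away f) (LocalizedModule (Submonoid.powers f) M) ∧
      Module.Free (Localization.Away f) (LocalizedModule (Submonoid.powers f) S) ∧
      (Localization.awayMap (algebraMap R S) f).FinitePresentation ∧
      Module.FinitePresentation (Localization.Away (algebraMap R S f))
        (LocalizedModule (Submonoid.powers (algebraMap R S f)) M) := by
  let good' : R → Prop := fun f =>
    Module.Free (Localization.Away f) (LocalizedModule (Submonoid.powers f) M) ∧
      Module.Free (Localization.Away f) (LocalizedModule (Submonoid.powers f) S) ∧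
      (Localization.awayMap (algebraMap R S) f).FinitePresentation ∧
      Module.FinitePresentation (Localization.Away (algebraMap R S f))
        (LocalizedModule (Submonoid.powers (algebraMap R S f)) M)
  refine ⟨⋃ f ∈ {f | good' f}, (PrimeSpectrum.basicOpen f : Set (PrimeSpectrum R)),
    isOpen_biUnion fun f _ => (PrimeSpectrum.basicOpen f).isOpen, ?_, ?_⟩
  · rw [dense_iff_inter_open]
    intro V hV hne
    obtain ⟨x, hx⟩ := hne
    obtain ⟨_, ⟨b, rfl⟩, hxb, hbV⟩ :=
      PrimeSpectrum.isTopologicalBasis_basic_opens.exists_subset_of_mem_open hx hV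
    have hb : b ≠ 0 := fun h => hxb (by simp [h])
    obtain ⟨f, hf, hbf, hgood⟩ := good (S := S) (M := M) hb
    obtain ⟨p, hp, hfp⟩ : ∃ p : Ideal R, p.IsPrime ∧ f ∉ p := by
      by_contra! h
      exact hf (IsNilpotent.eq_zero (nilpotent_iff_mem_prime.2 h))
    refine ⟨⟨p, hp⟩, hbV ?_, Set.mem_biUnion (x := f) hgood hfp⟩
    intro h
    obtain ⟨c, rfl⟩ := hbf
    exact hfp (p.mul_mem_right c h)
  · intro u hu
    obtain ⟨f, hf, hfu⟩ := Set.mem_iUnion₂.1 hu
    exact ⟨f, hfu, Set.subset_biUnion_of_mem (u := fun g => (PrimeSpectrum.basicOpen g : Set (PrimeSpectrum R))) hf, hf⟩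

end Groth.Agent.S9158
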