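import Groth.Statements.S9159
import Groth.Agent.Lib.Miracle4
import Groth.Agent.Lib.Depth.CM
import Groth.Agent.Lib.Pur25.Regular
import Groth.Agent.Lib.DimF18.Affine
import Groth.Agent.Lib.FibGenSch4
import Groth.Agent.Lib.FibreCM5.Basic

set_option autoImplicit false
universe u
open CAlg

namespace Groth.Agent.S9159

open AlgebraicGeometry in
theorem localDim_mvPolynomial_eq (k : Type u) [Field k] (d : ℕ) (p : PrimeSpectrum (MvPolynomial (Fin d) k)) :
    FlatMor.localDim (PrimeSpectrum (MvPolynomial (Fin d) k)) p = (d : WithBot ℕ∞) := by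
  have h := Groth.Agent.FibGen4.fibreDimAt_affineSpace (A := k) d p
  rw [Groth.Agent.FibDim14.fibreDimAt_eq_localDim_preimage] at h
  refine Eq.trans ?_ h
  symm
  refine Groth.Agent.FibDim14.localDim_of_isOpenEmbedding (e := Subtype.val) ?_ _
  exact IsOpen.isOpenEmbedding_subtypeVal (by
    convert isOpen_univ
    exact Set.eq_univ_of_forall fun z => Subsingleton.elim (α := PrimeSpectrum k) _ _)

theorem le_depth_of_flat_regular {R S : Type u} [CommRing R] [IsRegularLocalRing R] [CommRing S]
    [IsLocalRing S] [IsNoetherianRing S] [Algebra R S] [IsLocalHom (algebraMap R S)] [Module.Flat R S]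
    {n : ℕ} (hn : (IsLocalRing.maximalIdeal R).spanFinrank = n) : (n : ℕ∞) ≤ LocCoh.depth S S := by
  obtain ⟨x, hx⟩ := Groth.Agent.RegLoc.exists_fin_generators R
  have h := Groth.Agent.RegLoc.isRegular_of_span_range _ R x hx rfl
  have h' := Groth.Agent.DepthLib.length_le_idealDepth (I := IsLocalRing.maximalIdeal S)
    (RingTheory.Sequence.IsWeaklyRegular.of_flat (S := S) h.toIsWeaklyRegular) (fun r hr => by
      obtain ⟨a, ha, rfl⟩ := List.mem_map.1 hr
      obtain ⟨i, rfl⟩ := List.mem_ofFn.1 ha
      exact map_nonunit (algebraMap R S) _ (hx ▸ Ideal.subset_span ⟨i, rfl⟩))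
  rwa [List.length_map, List.length_ofFn, hn] at h'


/-- Fix a field k, a k-algebra S of finite type, and a quasi-finite map of k-algebras k[y_1, …, y_d] →
S. A prime q of S has S_q flat over k[y_1, …, y_d] exactly when S_q is Cohen–Macaulay and Spec S has
local dimension d at q. -/
theorem result (k S : Type u) [Field k] [CommRing S]
    [Algebra k S] [Algebra.FiniteType k S] (d : ℕ) [Algebra (MvPolynomial (Fin d) k) S]
    [IsScalarTower k (MvPolynomial (Fin d) k) S] [Algebra.QuasiFinite (MvPolynomial (Fin d) k) S]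
    (q : Ideal S) [q.IsPrime] :
    Module.Flat (MvPolynomial (Fin d) k) (Localization.AtPrime q) ↔
      (LocCoh.IsCohenMacaulayLocalRing (Localization.AtPrime q) ∧
        FlatMor.localDim (PrimeSpectrum S) ⟨q, inferInstance⟩ = (d : WithBot ℕ∞)) := by
  classical
  let A := MvPolynomial (Fin d) k
  haveI : IsNoetherianRing S := Algebra.FiniteType.isNoetherianRing k S
  let p := q.under A
  let R := Localization.AtPrime p
  let T := Localization.AtPrime q
  let l := Localization.localRingHom p q (algebraMap A S) rfl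
  letI : Algebra R T := l.toAlgebra
  haveI : IsScalarTower A R T := IsScalarTower.of_algebraMap_eq fun a => by
    rw [RingHom.algebraMap_toAlgebra, Localization.localRingHom_to_map, ← IsScalarTower.algebraMap_apply]
  haveI : IsLocalHom (algebraMap R T) := Localization.isLocalHom_localRingHom p q (algebraMap A S) rfl
  haveI : IsRegularLocalRing R := IsRegularRing.isRegularLocalRing_localization p
  let J := (IsLocalRing.maximalIdeal R).map (algebraMap R T)
  have hJle : J ≤ IsLocalRing.maximalIdeal T := Ideal.map_le_iff_le_comap.2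
    (le_of_eq (IsLocalRing.maximalIdeal_comap (algebraMap R T)).symm)
  haveI : Nontrivial (T ⧸ J) :=
    Ideal.Quotient.nontrivial_iff.2 fun h => (IsLocalRing.maximalIdeal.isMaximal T).ne_top (top_le_iff.1 (h ▸ hJle))
  have hJ : ringKrullDim (T ⧸ J) = 0 := by
    refine ringKrullDimZero_iff_ringKrullDim_eq_zero.1 (Ring.KrullDimLE.mk₀ fun P hP => ?_)
    let Q := P.comap (Ideal.Quotient.mk J)
    have hQJ : J ≤ Q := fun x hx => by
      change Ideal.Quotient.mk J x ∈ P
      rw [Ideal.Quotient.eq_zero_iff_mem.2 hx]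
      exact P.zero_mem
    have hQ : Q = IsLocalRing.maximalIdeal T := by
      refine Algebra.QuasiFinite.eq_of_le_of_under_eq (R := A) Q (IsLocalRing.maximalIdeal T)
        (IsLocalRing.le_maximalIdeal (Ideal.IsPrime.ne_top inferInstance)) ?_
      refine le_antisymm (Ideal.comap_mono (IsLocalRing.le_maximalIdeal (Ideal.IsPrime.ne_top inferInstance))) ?_
      intro a ha
      refine hQJ ?_
      rw [IsScalarTower.algebraMap_apply A R T]
      refine Ideal.mem_map_of_mem _ ?_
      change algebraMap A T a ∈ IsLocalRing.maximalIdeal T at ha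
      rw [IsScalarTower.algebraMap_apply A R T] at ha
      rw [← IsLocalRing.maximalIdeal_comap (algebraMap R T)]
      exact ha
    have hPmax : (Ideal.comap (Ideal.Quotient.mk J) P).IsMaximal := by
      rw [show Ideal.comap (Ideal.Quotient.mk J) P = IsLocalRing.maximalIdeal T from hQ]
      infer_instance
    have := (Ideal.map_eq_top_or_isMaximal_of_surjective _ Ideal.Quotient.mk_surjective hPmax).resolve_left
      (fun h => hP.ne_top (by rwa [Ideal.map_comap_of_surjective _ Ideal.Quotient.mk_surjective] at h))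
    rwa [Ideal.map_comap_of_surjective _ Ideal.Quotient.mk_surjective] at this
  -- residue fields
  haveI : q.LiesOver p := ⟨rfl⟩
  haveI : IsScalarTower k p.ResidueField q.ResidueField := IsScalarTower.of_algebraMap_eq fun x => by
    rw [IsScalarTower.algebraMap_apply k A p.ResidueField, ← IsScalarTower.algebraMap_apply A p.ResidueField q.ResidueField,
      ← IsScalarTower.algebraMap_apply k A q.ResidueField]
  have htr : Algebra.trdeg k q.ResidueField = Algebra.trdeg k p.ResidueField := by
    rw [← trdeg_add_eq k p.ResidueField (A := q.ResidueField),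
      trdeg_eq_zero (R := p.ResidueField) (A := q.ResidueField), add_zero]
  have hdimA := Groth.Agent.DimF18.localDim_spec k A ⟨p, inferInstance⟩
  have hdimS := Groth.Agent.DimF18.localDim_spec k S ⟨q, inferInstance⟩
  rw [localDim_mvPolynomial_eq] at hdimA
  have hr : Groth.Agent.VarDim.tdeg k (S ⧸ q) = Groth.Agent.VarDim.tdeg k (A ⧸ p) := by
    have h1 := Groth.Agent.DimF18.trdeg_residueField_eq k S ⟨q, inferInstance⟩
    have h2 := Groth.Agent.DimF18.trdeg_residueField_eq k A ⟨p, inferInstance⟩
    rw [htr, h2, Nat.cast_inj] at h1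
    exact h1.symm
  have hiff : FlatMor.localDim (PrimeSpectrum S) ⟨q, inferInstance⟩ = (d : WithBot ℕ∞) ↔
      ringKrullDim T = ringKrullDim R := by
    rw [hdimS, hr, hdimA]
    exact ⟨fun h => le_antisymm (Groth.Agent.DepthLib.withBot_add_coe_cancel _ h.le)
      (Groth.Agent.DepthLib.withBot_add_coe_cancel _ h.ge), fun h => by rw [h]⟩
  rw [hiff, ← Module.flat_iff_of_isLocalization R p.primeCompl T]
  constructor
  · intro hflat
    have hn := IsRegularLocalRing.spanFinrank_maximalIdeal (R := R)
    set n := (IsLocalRing.maximalIdeal R).spanFinrank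
    have hdep : (n : ℕ∞) ≤ LocCoh.depth T T := le_depth_of_flat_regular rfl
    have hds : ((LocCoh.depth T T : ℕ∞) : WithBot ℕ∞) ≤ ringKrullDim T := by
      rw [← Module.supportDim_self_eq_ringKrullDim]
      exact Groth.Agent.DepthLib.depth_le_supportDim
    have hle : ringKrullDim T ≤ (n : WithBot ℕ∞) := by
      have h1 := ringKrullDim_le_ringKrullDim_add_spanFinrank (R := T) (I := J)
        (fun h => (IsLocalRing.maximalIdeal.isMaximal T).ne_top (top_le_iff.1 (h ▸ hJle)))
      rw [hJ, zero_add] at h1
      refine h1.trans ?_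
      have h2 : J.spanFinrank ≤ n := Ideal.spanFinrank_map_le_of_fg _ (IsNoetherian.noetherian _)
      exact_mod_cast h2
    have hge : ((n : ℕ∞) : WithBot ℕ∞) ≤ ((LocCoh.depth T T : ℕ∞) : WithBot ℕ∞) := WithBot.coe_le_coe.2 hdep
    exact ⟨(Groth.Agent.FibreCM5.isCM_iff_dim_eq_depth T).2
      (le_antisymm (hle.trans hge) hds), (le_antisymm hle (hge.trans hds)).trans hn⟩
  · rintro ⟨hCM, hdim⟩
    haveI := hCM
    exact Groth.Agent.Miracle4.flat_of_ringKrullDim_eq (by rw [hJ, add_zero, hdim])

end Groth.Agent.S9159
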