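import Groth.Statements.S9161
import Mathlib.Tactic.LinearCombination
import Mathlib.Tactic.Module
import Mathlib.Tactic.Abel


set_option autoImplicit false
universe u
open CAlg

namespace Groth.Agent.S9161

/-- If two two-term complexes of R-modules A₁ → A₀ and B₁ → B₀ are homotopy equivalent (maps of
complexes both ways whose composites are homotopic to the identity maps), then A₁ ⊕ B₀ and B₁ ⊕ A₀
are isomorphic R-modules. -/
theorem result (R : Type u) [CommRing R]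
    (A₁ A₀ B₁ B₀ : Type u) [AddCommGroup A₁] [Module R A₁] [AddCommGroup A₀] [Module R A₀]
    [AddCommGroup B₁] [Module R B₁] [AddCommGroup B₀] [Module R B₀]
    (dA : A₁ →ₗ[R] A₀) (dB : B₁ →ₗ[R] B₀) (φ₁ : A₁ →ₗ[R] B₁) (φ₀ : A₀ →ₗ[R] B₀)
    (ψ₁ : B₁ →ₗ[R] A₁) (ψ₀ : B₀ →ₗ[R] A₀) (hφ : dB ∘ₗ φ₁ = φ₀ ∘ₗ dA) (hψ : dA ∘ₗ ψ₁ = ψ₀ ∘ₗ dB)
    (h : A₀ →ₗ[R] A₁) (hh₁ : LinearMap.id - ψ₁ ∘ₗ φ₁ = h ∘ₗ dA) (hh₀ : LinearMap.id - ψ₀ ∘ₗ φ₀ = dA ∘ₗ h)
    (h' : B₀ →ₗ[R] B₁) (hh'₁ : LinearMap.id - φ₁ ∘ₗ ψ₁ = h' ∘ₗ dB)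
    (hh'₀ : LinearMap.id - φ₀ ∘ₗ ψ₀ = dB ∘ₗ h') :
    Nonempty ((A₁ × B₀) ≃ₗ[R] (B₁ × A₀)) := by
  let F : (A₁ × B₀) →ₗ[R] (B₁ × A₀) :=
    LinearMap.prod (φ₁ ∘ₗ LinearMap.fst R A₁ B₀ + h' ∘ₗ LinearMap.snd R A₁ B₀)
      (- (dA ∘ₗ LinearMap.fst R A₁ B₀) + ψ₀ ∘ₗ LinearMap.snd R A₁ B₀)
  let G : (B₁ × A₀) →ₗ[R] (A₁ × B₀) :=
    LinearMap.prod (ψ₁ ∘ₗ LinearMap.fst R B₁ A₀ - h ∘ₗ LinearMap.snd R B₁ A₀)
      (dB ∘ₗ LinearMap.fst R B₁ A₀ + φ₀ ∘ₗ LinearMap.snd R B₁ A₀)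
  simp only [LinearMap.ext_iff, LinearMap.comp_apply, LinearMap.add_apply, LinearMap.id_apply, sub_eq_iff_eq_add] at hφ hψ hh₁ hh₀ hh'₁ hh'₀
  let TF : (A₁ × B₀) →ₗ[R] (A₁ × B₀) := LinearMap.id
  have GF : ∀ x, G (F x) = (x.1 + (ψ₁ (h' x.2) - h (ψ₀ x.2)), x.2) := fun x => by
    refine Prod.ext ?_ ?_
    · simp only [F, G, LinearMap.prod_apply, Pi.prod, Function.prod_apply, LinearMap.add_apply, LinearMap.sub_apply, LinearMap.comp_apply,
        LinearMap.fst_apply, LinearMap.snd_apply, LinearMap.neg_apply, map_add, map_sub, map_neg]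
      linear_combination (norm := module) -(hh₁ x.1)
    · simp only [F, G, LinearMap.prod_apply, Pi.prod, Function.prod_apply, LinearMap.add_apply, LinearMap.sub_apply, LinearMap.comp_apply,
        LinearMap.fst_apply, LinearMap.snd_apply, LinearMap.neg_apply, map_add, map_sub, map_neg]
      linear_combination (norm := module) hφ x.1 - hh'₀ x.2
  have FG : ∀ y, F (G y) = (y.1, y.2 + 0) + (h' (φ₀ y.2) - φ₁ (h y.2), 0) := fun y => by
    refine Prod.ext ?_ ?_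
    · simp only [F, G, LinearMap.prod_apply, Pi.prod, Function.prod_apply, LinearMap.add_apply, LinearMap.sub_apply, LinearMap.comp_apply,
        LinearMap.fst_apply, LinearMap.snd_apply, LinearMap.neg_apply, map_add, map_sub, map_neg, Prod.fst_add]
      linear_combination (norm := module) -(hh'₁ y.1)
    · simp only [F, G, LinearMap.prod_apply, Pi.prod, Function.prod_apply, LinearMap.add_apply, LinearMap.sub_apply, LinearMap.comp_apply,
        LinearMap.fst_apply, LinearMap.snd_apply, LinearMap.neg_apply, map_add, map_sub, map_neg, Prod.snd_add]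
      linear_combination (norm := module) -(hψ y.1) - hh₀ y.2
  refine ⟨LinearEquiv.ofBijective F ⟨fun a b hab => ?_, fun y => ?_⟩⟩
  · have h2 := congrArg G hab
    rw [GF, GF, Prod.ext_iff] at h2
    obtain ⟨h3, h4⟩ := h2
    simp only at h3 h4
    rw [h4] at h3
    exact Prod.ext (add_right_cancel h3) h4
  · refine ⟨G ((y.1 - (h' (φ₀ y.2) - φ₁ (h y.2))), y.2), ?_⟩
    rw [FG]
    simp

end Groth.Agent.S9161
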