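import Groth.Statements.S9163
import Mathlib.RingTheory.FiniteType
import Mathlib.RingTheory.IntegralClosure.IsIntegral.Basic
import Mathlib.RingTheory.Adjoin.FG

set_option autoImplicit false
universe u
open CAlg

namespace Groth.Agent.S9163

/-- If S is integral over R, then any finitely many elements of R and of S lie in a pair R₀ ⊆ R, S₀ ⊆ S
with R₀ a finite type ℤ-subalgebra, S₀ an R₀-subalgebra of S, and S₀ finite as an R₀-module; so R →
S is the directed colimit of finite maps between finite type ℤ-algebras. -/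
theorem result (R S : Type u) [CommRing R] [CommRing S] [Algebra R S]
    [Algebra.IsIntegral R S] (E : Finset R) (F : Finset S) :
    ∃ (R₀ : Subalgebra ℤ R) (S₀ : Subalgebra R₀ S), Algebra.FiniteType ℤ R₀ ∧ (E : Set R) ⊆ R₀ ∧
      (F : Set S) ⊆ S₀ ∧ Module.Finite R₀ S₀ := by
  classical
  choose p hp hpx using fun s : S => (Algebra.IsIntegral.isIntegral (R := R) s)
  let G : Finset R := E ∪ F.biUnion fun s => (p s).coeffs
  let R₀ : Subalgebra ℤ R := Algebra.adjoin ℤ (G : Set R)
  have hF : ∀ s ∈ F, IsIntegral R₀ s := by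
    intro s hs
    have hsub : ↑(p s).coeffs ⊆ (R₀.toSubring : Set R) := fun c hc =>
      Algebra.subset_adjoin (Finset.mem_union_right _ (Finset.mem_biUnion.2 ⟨s, hs, hc⟩))
    refine ⟨(p s).toSubring R₀.toSubring hsub, (Polynomial.monic_toSubring _ _ hsub).2 (hp s), ?_⟩
    have h2 := congrArg (Polynomial.eval₂ (algebraMap R S) s) (Polynomial.map_toSubring (p s) R₀.toSubring hsub)
    rw [Polynomial.eval₂_map, hpx] at h2
    exact h2
  refine ⟨R₀, Algebra.adjoin R₀ (F : Set S), (Subalgebra.fg_iff_finiteType R₀).1 (Subalgebra.fg_adjoin_finset G),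
    fun e he => Algebra.subset_adjoin (Finset.mem_union_left _ he), Algebra.subset_adjoin, ?_⟩
  exact Module.Finite.iff_fg.2 (fg_adjoin_of_finite F.finite_toSet hF)

end Groth.Agent.S9163
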