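import Groth.Statements.S9164
import Groth.Agent.Lib.KrullAkizuki.Vec

set_option autoImplicit false
universe u
open CAlg

namespace Groth.Agent.S9164


open IsLocalRing

variable {R : Type u} {K : Type u} {V : Type u} [CommRing R] [IsDomain R] [Field K] [Algebra R K] [IsFractionRing R K]
  [AddCommGroup V] [Module K V] [Module R V] [IsScalarTower R K V]

theorem exists_smul_mem_of_span_eq_top {N : Submodule R V} (hN : Submodule.span K (N : Set V) = ⊤) (x : V) :
    ∃ c : R, c ≠ 0 ∧ c • x ∈ N := by
  have hx : x ∈ Submodule.span K (N : Set V) := hN ▸ trivial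
  induction hx using Submodule.span_induction with
  | mem z hz => exact ⟨1, one_ne_zero, by rwa [one_smul]⟩
  | zero => exact ⟨1, one_ne_zero, by rw [smul_zero]; exact N.zero_mem⟩
  | add y z _ _ hy hz =>
    obtain ⟨c, hc, hcy⟩ := hy
    obtain ⟨d, hd, hdz⟩ := hz
    refine ⟨c * d, mul_ne_zero hc hd, ?_⟩
    rw [smul_add, mul_smul c d z, mul_comm c d, mul_smul]
    exact N.add_mem (N.smul_mem d hcy) (N.smul_mem c hdz)
  | smul a y _ hy =>
    obtain ⟨c, hc, hcy⟩ := hy
    obtain ⟨r, s, hs, rfl⟩ := IsFractionRing.div_surjective (A := R) a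
    refine ⟨c * s, mul_ne_zero hc (nonZeroDivisors.ne_zero hs), ?_⟩
    have h : (c * s) • (algebraMap R K r / algebraMap R K s) • y = r • c • y := by
      rw [← algebraMap_smul K (c * s), smul_smul, ← algebraMap_smul K r, ← algebraMap_smul K c y, smul_smul, map_mul,
        mul_assoc, mul_div_cancel₀ _ (IsFractionRing.to_map_ne_zero_of_mem_nonZeroDivisors hs), mul_comm]
    rw [h]
    exact N.smul_mem r hcy

theorem exists_smul_le_of_fg {N N' : Submodule R V} (hN : Submodule.span K (N : Set V) = ⊤) (h : N'.FG) :
    ∃ c : R, c ≠ 0 ∧ ∀ x ∈ N', c • x ∈ N := by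
  classical
  obtain ⟨T, rfl⟩ := h
  choose c hc hcx using fun x : T => exists_smul_mem_of_span_eq_top hN (x : V)
  refine ⟨∏ x, c x, Finset.prod_ne_zero_iff.2 fun x _ => hc x, fun x hx => ?_⟩
  induction hx using Submodule.span_induction with
  | mem z hz =>
    rw [← Finset.prod_erase_mul _ _ (Finset.mem_univ (⟨z, hz⟩ : T)), mul_smul]
    exact N.smul_mem _ (hcx ⟨z, hz⟩)
  | zero => simp
  | add _ _ _ _ h1 h2 => rw [smul_add]; exact N.add_mem h1 h2
  | smul d _ _ h1 => rw [smul_comm]; exact N.smul_mem d h1

variable [IsNoetherianRing R] [Ring.KrullDimLE 1 R] [FiniteDimensional K V]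

variable (K) in
include K in
theorem length_ne_top_of_smul_le {N N' : Submodule R V} {c : R} (hc : c ≠ 0) (h : ∀ x ∈ N', c • x ∈ N) :
    Module.length R (N' ⧸ Submodule.comap N'.subtype N) ≠ ⊤ := by
  refine ne_top_of_le_ne_top (WithTop.mul_ne_top (ENat.coe_ne_top _)
    (Groth.Agent.KrullAkizuki.length_quotient_span_ne_top hc))
    ((Module.length_le_of_surjective (Submodule.mapQ _ _ LinearMap.id ?_) fun x => ?_).trans
      (Groth.Agent.KrullAkizuki.length_quotient_le_finrank R K N' hc))
  · rintro _ ⟨y, rfl⟩
    exact h y.1 y.2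
  · obtain ⟨x, rfl⟩ := Submodule.Quotient.mk_surjective _ x
    exact ⟨Submodule.Quotient.mk x, rfl⟩

theorem span_eq_top_of_smul_le {N N' : Submodule R V} {c : R} (hc : c ≠ 0) (h : ∀ x ∈ N', c • x ∈ N)
    (hN' : Submodule.span K (N' : Set V) = ⊤) : Submodule.span K (N : Set V) = ⊤ := by
  rw [eq_top_iff, ← hN', Submodule.span_le]
  intro x hx
  have h0 : algebraMap R K c ≠ 0 := (map_ne_zero_iff _ (IsFractionRing.injective R K)).2 hc
  have : x = (algebraMap R K c)⁻¹ • (c • x) := by rw [← algebraMap_smul K c x, inv_smul_smul₀ h0]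
  rw [this]
  exact Submodule.smul_mem _ _ (Submodule.subset_span (h x hx))


/-- Let R be a one-dimensional Noetherian local domain with fraction field K and V a finite-dimensional
K-vector space; a lattice is a finitely generated R-submodule of V spanning V over K. (1) For a
lattice M and an R-submodule M' ⊇ M: M' is a lattice iff M'/M has finite length over R iff M' is
finitely generated. (2) For a lattice M and M' ⊆ M: M' is a lattice iff M/M' has finite length. (3)
The intersection of two lattices is a lattice. (The published statement also asserts that the sum M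
+ M' of two lattices is a lattice and two identities between lengths of quotients of nested
lattices; this row states (1), (2) and the intersection half of (3).) -/
theorem result (R K V : Type u) [CommRing R] [IsDomain R]
    [IsNoetherianRing R] [IsLocalRing R] (hdim : ringKrullDim R = 1) [Field K] [Algebra R K]
    [IsFractionRing R K] [AddCommGroup V] [Module K V] [Module R V] [IsScalarTower R K V]
    [FiniteDimensional K V] (M : Submodule R V) [Submodule.IsLattice K M] :
    (∀ M' : Submodule R V, M ≤ M' →
        (Submodule.IsLattice K M' ↔ Module.length R (M' ⧸ Submodule.comap M'.subtype M) ≠ ⊤) ∧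
          (Submodule.IsLattice K M' ↔ M'.FG)) ∧
      (∀ M' : Submodule R V, M' ≤ M →
        (Submodule.IsLattice K M' ↔ Module.length R (M ⧸ Submodule.comap M.subtype M') ≠ ⊤)) ∧
      ∀ M' : Submodule R V, Submodule.IsLattice K M' → Submodule.IsLattice K (M ⊓ M') := by
  haveI : Ring.KrullDimLE 1 R := Ring.krullDimLE_iff.2 hdim.le
  have hMspan : Submodule.span K (M : Set V) = ⊤ := Submodule.IsLattice.span_eq_top
  have hMfg : M.FG := Submodule.IsLattice.fg (A := K)
  have hspan' : ∀ M' : Submodule R V, M ≤ M' → Submodule.span K (M' : Set V) = ⊤ := fun M' h =>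
    eq_top_iff.2 (hMspan ▸ Submodule.span_mono h)
  refine ⟨fun M' h => ?_, fun M' h => ?_, fun M' hM' => ?_⟩
  · have h2 : Submodule.IsLattice K M' ↔ M'.FG := ⟨fun hl => hl.fg, fun hfg => ⟨hfg, hspan' M' h⟩⟩
    refine ⟨⟨fun hl => ?_, fun hlen => ?_⟩, h2⟩
    · obtain ⟨c, hc, hcM⟩ := exists_smul_le_of_fg hMspan (h2.1 hl)
      exact length_ne_top_of_smul_le K hc hcM
    · refine h2.2 ?_
      haveI : Module.Finite R M := Module.Finite.iff_fg.2 hMfg
      haveI : IsNoetherian R (M' ⧸ Submodule.comap M'.subtype M) :=
        (isFiniteLength_iff_isNoetherian_isArtinian.1 (Module.length_ne_top_iff.1 hlen)).1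
      haveI : IsNoetherian R (Submodule.comap M'.subtype M) :=
        isNoetherian_of_linearEquiv (Submodule.comapSubtypeEquivOfLe h).symm
      haveI : IsNoetherian R M' :=
        isNoetherian_of_range_eq_ker (Submodule.comap M'.subtype M).subtype (Submodule.comap M'.subtype M).mkQ
          (by rw [Submodule.range_subtype, Submodule.ker_mkQ])
      exact Module.Finite.iff_fg.1 inferInstance
  · haveI : Module.Finite R M := Module.Finite.iff_fg.2 hMfg
    haveI : IsNoetherian R M' := isNoetherian_of_le (t := M) h
    have hfg : M'.FG := Module.Finite.iff_fg.1 inferInstance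
    refine ⟨fun hl => ?_, fun hlen => ⟨hfg, ?_⟩⟩
    · obtain ⟨c, hc, hcM⟩ := exists_smul_le_of_fg hl.span_eq_top hMfg
      exact length_ne_top_of_smul_le K hc hcM
    · obtain ⟨c, hcm, hc⟩ := Submodule.exists_mem_ne_zero_of_ne_bot (p := maximalIdeal R) (fun hbot => by
        have := ringKrullDim_eq_zero_of_isField (isField_iff_maximalIdeal_eq.2 hbot)
        rw [hdim] at this
        exact one_ne_zero this)
      set N := M ⧸ Submodule.comap M.subtype M'
      haveI : IsArtinian R N :=
        (isFiniteLength_iff_isNoetherian_isArtinian.1 (Module.length_ne_top_iff.1 hlen)).2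
      obtain ⟨n, hn⟩ := IsArtinian.monotone_stabilizes (R := R) (M := N)
        ⟨fun n => OrderDual.toDual (Ideal.span {c ^ n} • (⊤ : Submodule R N)), fun a b hab =>
          Submodule.smul_mono_left (Ideal.span_singleton_le_span_singleton.2 (pow_dvd_pow c hab))⟩
      have hbot : Ideal.span {c ^ n} • (⊤ : Submodule R N) = ⊥ := by
        haveI : IsNoetherian R N := inferInstance
        refine Submodule.eq_bot_of_le_smul_of_le_jacobson_bot (Ideal.span {c}) _ (IsNoetherian.noetherian _) ?_
          (((Ideal.span_singleton_le_iff_mem _).2 hcm).trans (maximalIdeal_le_jacobson _))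
        have := hn (n + 1) n.le_succ
        rw [← Submodule.mul_smul, Ideal.span_singleton_mul_span_singleton, ← pow_succ']
        exact le_of_eq (OrderDual.toDual.injective this)
      refine span_eq_top_of_smul_le (pow_ne_zero n hc) (fun x hx => ?_) hMspan
      have : c ^ n • (Submodule.Quotient.mk (⟨x, hx⟩ : M) : N) ∈ Ideal.span {c ^ n} • (⊤ : Submodule R N) :=
        Submodule.smul_mem_smul (Ideal.mem_span_singleton_self _) trivial
      rw [hbot, Submodule.mem_bot, ← Submodule.Quotient.mk_smul, Submodule.Quotient.mk_eq_zero] at this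
      exact this
  · obtain ⟨c, hc, hcM⟩ := exists_smul_le_of_fg hM'.span_eq_top hMfg
    haveI : Module.Finite R M := Module.Finite.iff_fg.2 hMfg
    haveI : IsNoetherian R ↥(M ⊓ M') := isNoetherian_of_le (t := M) inf_le_left
    exact ⟨Module.Finite.iff_fg.1 inferInstance,
      span_eq_top_of_smul_le hc (fun x hx => ⟨M.smul_mem c hx, hcM x hx⟩) hMspan⟩

end Groth.Agent.S9164
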