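import Groth.Statements.S9165
import Groth.Agent.S9374
import Groth.Agent.Lib.FibreCM5.Constr
import Groth.Agent.Lib.CI2.NearFibre
import Groth.Agent.Lib.DimF18.Affine
import Mathlib.RingTheory.Localization.Away.Lemmas
import Mathlib.RingTheory.Idempotents

set_option autoImplicit false
universe u
open CAlg

namespace Groth.Agent.S9165


open AlgebraicGeometry CategoryTheory TensorProduct Groth.Agent in
theorem isCMAt_spec (R S : Type u) [CommRing R] [CommRing S] [Algebra R S] [Module.Flat R S]
    [Algebra.FiniteType R S] (hCM : ∀ p : PrimeSpectrum R, LocCoh.IsCohenMacaulayRing (p.asIdeal.Fiber S))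
    (x : ↥(Spec (CommRingCat.of S))) : MoreMor.IsCMAt (FibreLocus.specT R S) x := by
  haveI : Flat (FibreLocus.specT R S) :=
    (HasRingHomProperty.Spec_iff (P := @Flat)).2 (RingHom.flat_algebraMap_iff.2 inferInstance)
  haveI : LocallyOfFiniteType (FibreLocus.specT R S) :=
    (HasRingHomProperty.Spec_iff (P := @LocallyOfFiniteType)).2 (RingHom.finiteType_algebraMap.2 inferInstance)
  refine ⟨Flat.stalkMap _ x, ?_⟩
  let p : PrimeSpectrum R := PrimeSpectrum.comap (algebraMap R S) x
  let K := p.asIdeal.ResidueField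
  obtain ⟨w, hw⟩ : ∃ w : PrimeSpectrum (p.asIdeal.Fiber S), PrimeSpectrum.comap
      (Algebra.TensorProduct.includeRight : S →ₐ[R] p.asIdeal.Fiber S).toRingHom w = x := by
    let E := PrimeSpectrum.preimageHomeomorphFiber R S p
    exact ⟨E ⟨x, rfl⟩, congrArg Subtype.val (E.symm_apply_apply ⟨x, rfl⟩)⟩
  have sq := FibreLocus.isPullback_specT_tensor R K S
  have h := FibreCM5.isCM_fibre_bc_iff sq w
  rw [FibreCM5.isCM_fibre_over_field_iff, FibreCM5.isCM_stalk_Spec_iff] at h
  have h' := h.1 ((hCM p).isCohenMacaulayLocalRing_localization w.asIdeal)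
  have key : ∀ y : ↥(Spec (CommRingCat.of S)), y = x →
      LocCoh.IsCohenMacaulayLocalRing (((FibreLocus.specT R S).fiber ((FibreLocus.specT R S) y)).presheaf.stalk
        ((FibreLocus.specT R S).asFiber y)) →
      LocCoh.IsCohenMacaulayLocalRing (((FibreLocus.specT R S).fiber ((FibreLocus.specT R S) x)).presheaf.stalk
        ((FibreLocus.specT R S).asFiber x)) := by
    rintro y rfl hy
    exact hy
  exact key _ hw h'

open AlgebraicGeometry Groth.Agent in
theorem fibreDimAt_facts (R S : Type u) [CommRing R] [CommRing S] [Algebra R S] [Algebra.FiniteType R S]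
    (x : PrimeSpectrum S) : ∃ m : ℕ, FlatMor.fibreDimAt (FibreLocus.specT R S) x = (m : WithBot ℕ∞) := by
  let p : PrimeSpectrum R := PrimeSpectrum.comap (algebraMap R S) x
  let E := PrimeSpectrum.preimageHomeomorphFiber R S p
  let w := E ⟨x, rfl⟩
  have hw : PrimeSpectrum.comap (Algebra.TensorProduct.includeRight : S →ₐ[R] p.asIdeal.Fiber S).toRingHom w = x :=
    congrArg Subtype.val (E.symm_apply_apply ⟨x, rfl⟩)
  haveI : IsNoetherianRing (p.asIdeal.Fiber S) := Algebra.FiniteType.isNoetherianRing p.asIdeal.ResidueField _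
  have h := CI2.localDim_fibre_eq R S p w
  rw [hw, DimF18.localDim_spec p.asIdeal.ResidueField] at h
  obtain ⟨a, ha⟩ := DepthLib.exists_supportDim_eq_natCast (R := Localization.AtPrime w.asIdeal)
    (M := Localization.AtPrime w.asIdeal)
  rw [Module.supportDim_self_eq_ringKrullDim] at ha
  refine ⟨a + VarDim.tdeg p.asIdeal.ResidueField (p.asIdeal.Fiber S ⧸ w.asIdeal), ?_⟩
  rw [← h, ha, Nat.cast_add]

open AlgebraicGeometry Groth.Agent TensorProduct in
theorem quot_facts (R S : Type u) [CommRing R] [CommRing S] [Algebra R S] [Algebra.FiniteType R S]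
    (e : S) (he : IsIdempotentElem e) (p : PrimeSpectrum R) [LocCoh.IsCohenMacaulayRing (p.asIdeal.Fiber S)] :
    LocCoh.IsCohenMacaulayRing (p.asIdeal.Fiber (S ⧸ Ideal.span {1 - e})) ∧
      ∀ P ∈ minimalPrimes (p.asIdeal.Fiber (S ⧸ Ideal.span {1 - e})), ∃ x : PrimeSpectrum S, e ∉ x.asIdeal ∧
        FlatMor.fibreDimAt (FibreLocus.specT R S) x =
          ringKrullDim (p.asIdeal.Fiber (S ⧸ Ideal.span {1 - e}) ⧸ P) := by
  let K := p.asIdeal.ResidueField
  let FS := p.asIdeal.Fiber S
  let FT := p.asIdeal.Fiber (S ⧸ Ideal.span {1 - e})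
  let Φ : FS →ₐ[K] FT := Algebra.TensorProduct.map (AlgHom.id K K) (Ideal.Quotient.mkₐ R (Ideal.span {1 - e}))
  have hΦ : Function.Surjective Φ := LinearMap.lTensor_surjective K
    (g := (Ideal.Quotient.mkₐ R (Ideal.span {1 - e})).toLinearMap) Ideal.Quotient.mk_surjective
  let e1 : FS := Algebra.TensorProduct.includeRight e
  have he1 : IsIdempotentElem e1 := he.map _
  have hker : RingHom.ker Φ.toRingHom = Ideal.span {1 - e1} := by
    have h := Algebra.TensorProduct.lTensor_ker (R := R) (A := K) (Ideal.Quotient.mkₐ R (Ideal.span {1 - e}))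
      Ideal.Quotient.mk_surjective
    refine h.trans ?_
    rw [show RingHom.ker (Ideal.Quotient.mkₐ R (Ideal.span {1 - e})) = Ideal.span {1 - e} from Ideal.mk_ker,
      Ideal.map_span, Set.image_singleton, map_sub, map_one]
  letI : Algebra FS FT := Φ.toRingHom.toAlgebra
  haveI hloc : IsLocalization.Away e1 FT := IsLocalization.away_of_isIdempotentElem he1 hker hΦ
  haveI : IsNoetherianRing FT := isNoetherianRing_of_surjective FS FT Φ.toRingHom hΦ
  have hunit : ∀ (Q : Ideal FT) [Q.IsPrime], e1 ∉ Q.comap Φ.toRingHom := fun Q _ h =>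
    Ideal.IsPrime.ne_top ‹_› (Ideal.eq_top_of_isUnit_mem Q h (IsLocalization.Away.algebraMap_isUnit e1))
  refine ⟨⟨fun Q _ => ?_⟩, fun P hP => ?_⟩
  · haveI := (‹LocCoh.IsCohenMacaulayRing FS›).isCohenMacaulayLocalRing_localization (Q.comap (algebraMap FS FT))
    haveI := IsLocalization.isLocalization_isLocalization_atPrime_isLocalization (Submonoid.powers e1)
      (Localization.AtPrime Q) Q
    exact SMT.isCM_of_ringEquiv (R := Localization.AtPrime (Q.comap (algebraMap FS FT))) (IsLocalization.algEquiv (Q.comap (algebraMap FS FT)).primeCompl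
      (Localization.AtPrime (Q.comap (algebraMap FS FT))) (Localization.AtPrime Q)).toRingEquiv inferInstance
  · haveI := hP.1.1
    let P' := P.comap Φ.toRingHom
    let w : PrimeSpectrum FS := ⟨P', inferInstance⟩
    have hmin : P' ∈ minimalPrimes FS := by
      refine ⟨⟨inferInstance, bot_le⟩, fun q hq hqP => ?_⟩
      haveI := hq.1
      have hkq : RingHom.ker Φ.toRingHom ≤ q := by
        rw [hker, Ideal.span_singleton_le_iff_mem]
        have h0 : e1 * (1 - e1) = 0 := by rw [mul_sub, mul_one, he1.eq, sub_self]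
        exact (hq.1.mem_or_mem (h0 ▸ q.zero_mem)).resolve_left fun h => hunit P (hqP h)
      have : (q.map Φ.toRingHom).IsPrime := Ideal.map_isPrime_of_surjective hΦ hkq
      have hle : q.map Φ.toRingHom ≤ P := (Ideal.map_mono hqP).trans Ideal.map_comap_le
      have := Ideal.comap_mono (f := Φ.toRingHom) (hP.2 ⟨this, bot_le⟩ hle)
      rwa [Ideal.comap_map_of_surjective Φ.toRingHom hΦ, ← RingHom.ker_eq_comap_bot, sup_of_le_left hkq] at this
    refine ⟨PrimeSpectrum.comap (Algebra.TensorProduct.includeRight : S →ₐ[R] FS).toRingHom w, hunit P, ?_⟩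
    rw [← CI2.localDim_fibre_eq R S p w, DimF18.localDim_spec K]
    have h0 : ringKrullDim (Localization.AtPrime P') = 0 := by
      rw [IsLocalization.AtPrime.ringKrullDim_eq_height P' (Localization.AtPrime P'), Ideal.height_eq_zero_iff.2 hmin]
      rfl
    let ψ : FS ⧸ P' ≃+* FT ⧸ P := (Ideal.quotEquivOfEq (by
      show P' = RingHom.ker ((Ideal.Quotient.mk P).comp Φ.toRingHom)
      rw [← RingHom.comap_ker, Ideal.mk_ker])).trans
      (RingHom.quotientKerEquivOfSurjective (Ideal.Quotient.mk_surjective.comp hΦ))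
    show ringKrullDim (Localization.AtPrime P') + (VarDim.tdeg K (FS ⧸ P') : WithBot ℕ∞) = _
    rw [h0, zero_add, ← VarDim.ringKrullDim_eq_tdeg K (FS ⧸ P')]
    exact ringKrullDim_eq_of_ringEquiv ψ



/-- A flat, finitely presented ring map R → S whose fibre rings κ(p) ⊗ S are Cohen–Macaulay decomposes S
as a finite product of R-algebras S_d (d = 0, …, N), each again flat, finitely presented with
Cohen–Macaulay fibres, and with every irreducible component of every fibre of S_d of dimension d. -/
theorem result (R S : Type u) [CommRing R]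
    [CommRing S] [Algebra R S] [Module.Flat R S] [Algebra.FinitePresentation R S]
    (hCM : ∀ p : PrimeSpectrum R, LocCoh.IsCohenMacaulayRing (p.asIdeal.Fiber S)) :
    ∃ (N : ℕ) (T : Fin (N + 1) → Type u) (_ : ∀ d, CommRing (T d)) (_ : ∀ d, Algebra R (T d)),
      Nonempty (S ≃ₐ[R] ((d : Fin (N + 1)) → T d)) ∧
        ∀ d : Fin (N + 1), Module.Flat R (T d) ∧ Algebra.FinitePresentation R (T d) ∧
          (∀ p : PrimeSpectrum R, LocCoh.IsCohenMacaulayRing (p.asIdeal.Fiber (T d))) ∧
          ∀ (p : PrimeSpectrum R), ∀ P ∈ minimalPrimes (p.asIdeal.Fiber (T d)),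
            ringKrullDim (p.asIdeal.Fiber (T d) ⧸ P) = ((d : ℕ) : WithBot ℕ∞) := by
  classical
  haveI : AlgebraicGeometry.Flat (Groth.Agent.FibreLocus.specT R S) :=
    (AlgebraicGeometry.HasRingHomProperty.Spec_iff (P := @AlgebraicGeometry.Flat)).2 (RingHom.flat_algebraMap_iff.2 inferInstance)
  haveI : AlgebraicGeometry.LocallyOfFinitePresentation (Groth.Agent.FibreLocus.specT R S) :=
    (AlgebraicGeometry.LocallyOfFinitePresentation.SpecMap_iff _).2 (RingHom.finitePresentation_algebraMap.2 inferInstance)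
  have hlc := Groth.Agent.S9374.result (Groth.Agent.FibreLocus.specT R S) (isCMAt_spec R S hCM)
  choose m hm using fibreDimAt_facts R S
  have hmlc : IsLocallyConstant m := by
    refine (IsLocallyConstant.iff_exists_open _).2 fun x => ?_
    obtain ⟨W, hW, hxW, h⟩ := (IsLocallyConstant.iff_exists_open _).1 hlc x
    refine ⟨W, hW, hxW, fun y hy => ?_⟩
    have := h y hy
    rw [hm, hm] at this
    exact_mod_cast this
  obtain ⟨N, hN⟩ : ∃ N, ∀ x, m x < N + 1 := by
    obtain ⟨N, hN⟩ := (hmlc.range_finite).bddAbove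
    exact ⟨N, fun x => Nat.lt_succ_of_le (hN ⟨x, rfl⟩)⟩
  have hclop : ∀ d : Fin (N + 1), IsClopen (m ⁻¹' {(d : ℕ)}) := fun d => hmlc.isClopen_fiber (d : ℕ)
  choose e he heD using fun d => PrimeSpectrum.isClopen_iff.1 (hclop d)
  have hmem : ∀ d (x : PrimeSpectrum S), e d ∉ x.asIdeal ↔ m x = d := fun d x =>
    (Set.ext_iff.1 (heD d) x).symm
  have hco : CompleteOrthogonalIdempotents e := by
    have horth : Pairwise (fun i j => e i * e j = 0) := fun i j hij => by
      have hnil : IsNilpotent (e i * e j) := nilpotent_iff_mem_prime.2 fun J hJ => by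
        by_contra h
        have h1 := (hmem i ⟨J, hJ⟩).1 fun h' => h (J.mul_mem_right _ h')
        have h2 := (hmem j ⟨J, hJ⟩).1 fun h' => h (J.mul_mem_left _ h')
        exact hij (Fin.ext (h1.symm.trans h2))
      exact ((he i).mul (he j)).eq_zero_of_isNilpotent hnil
    have hid : OrthogonalIdempotents e := ⟨he, horth⟩
    refine ⟨hid, ?_⟩
    have hu : IsUnit (∑ i, e i) := by
      by_contra hu
      obtain ⟨M, hM, hle⟩ := exists_max_ideal_of_mem_nonunits hu
      let x : PrimeSpectrum S := ⟨M, hM.isPrime⟩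
      let d : Fin (N + 1) := ⟨m x, hN x⟩
      refine (hmem d x).2 rfl ?_
      have := M.mul_mem_left (e d) hle
      rwa [Finset.mul_sum, Finset.sum_eq_single d (fun j _ hj => horth (Ne.symm hj)) (by simp), (he d).eq] at this
    exact (IsIdempotentElem.iff_eq_one_of_isUnit hu).1 hid.isIdempotentElem_sum
  let T : Fin (N + 1) → Type u := fun d => S ⧸ Ideal.span {1 - e d}
  refine ⟨N, T, inferInstance, inferInstance, ⟨AlgEquiv.ofBijective (Pi.algHom R _ fun d => Ideal.Quotient.mkₐ R _)
    hco.bijective_pi⟩, fun d => ?_⟩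
  haveI hT : IsLocalization.Away (e d) (S ⧸ Ideal.span {1 - e d}) := IsLocalization.Away.quotient_of_isIdempotentElem (he d)
  haveI : Module.Flat S (S ⧸ Ideal.span {1 - e d}) := IsLocalization.flat _ (Submonoid.powers (e d))
  refine ⟨Module.Flat.trans R S (S ⧸ Ideal.span {1 - e d}), Algebra.FinitePresentation.quotient (Submodule.fg_span_singleton _),
    fun p => ?_, fun p P hP => ?_⟩
  · haveI := hCM p
    exact (quot_facts R S (e d) (he d) p).1
  · haveI := hCM p
    obtain ⟨x, hx, hdim⟩ := (quot_facts R S (e d) (he d) p).2 P hP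
    refine hdim.symm.trans ?_
    rw [hm, (hmem d x).1 hx]

end Groth.Agent.S9165
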