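import Groth.Statements.S9166
import Mathlib

set_option autoImplicit false
universe u
open CAlg

namespace Groth.Agent.S9166

theorem key {R S S' : Type u} [CommRing R] [CommRing S] [CommRing S'] [Algebra R S] [Algebra R S'] [Algebra S S']
    [IsScalarTower R S S'] (I : Ideal R) (q : Ideal S) [q.IsPrime] (hI : I.map (algebraMap R S) ≤ q)
    [Module.Flat R (LocalizedModule q.primeCompl S')] (hs : Function.Surjective (algebraMap S S'))
    (j : S) (hj0 : algebraMap S S' j = 0) (t : S) (ht : t ∉ q) (htj : t * j ∈ I.map (algebraMap R S)) :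
    ∃ w : S, w ∉ q ∧ w * j ∈ q * RingHom.ker (algebraMap S S') := by
  classical
  obtain ⟨n, c, g, hg⟩ := Submodule.mem_span_set'.1 (show t * j ∈ Submodule.span S (algebraMap R S '' (I : Set R)) from htj)
  choose a ha hag using fun i => (g i).2
  have hsum : t * j = ∑ i, a i • c i := by
    rw [← hg]
    exact Finset.sum_congr rfl fun i _ => by rw [← hag i, smul_eq_mul, Algebra.smul_def, mul_comm]
  let L := LocalizedModule.mkLinearMap q.primeCompl S'
  let F : S →ₗ[R] LocalizedModule q.primeCompl S' :=
    (L.restrictScalars R).comp (IsScalarTower.toAlgHom R S S').toLinearMap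
  have hF : ∀ x : S, F x = L (algebraMap S S' x) := fun _ => rfl
  have h0 : ∑ i, a i • F (c i) = 0 := by
    rw [← map_zero F]
    simp only [← map_smul, ← map_sum, ← hsum]
    simp only [hF, map_mul, hj0, mul_zero, map_zero]
  obtain ⟨k, r, y, hy, hr⟩ := Module.Flat.isTrivialRelation_of_sum_smul_eq_zero (R := R) (M := LocalizedModule q.primeCompl S') (f := a) (x := fun i => F (c i)) h0
  have hlift : ∀ l, ∃ (z u : S), u ∉ q ∧ u • y l = F z := by
    intro l
    obtain ⟨⟨m, u⟩, hu⟩ := IsLocalizedModule.surj q.primeCompl L (y l)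
    obtain ⟨z, rfl⟩ := hs m
    exact ⟨z, u, u.2, hu⟩
  choose z u hu huy using hlift
  let U : S := ∏ l, u l
  have hU : U ∉ q := fun h => by
    obtain ⟨l, -, hl⟩ := (‹q.IsPrime›.prod_mem_iff (s := Finset.univ)).1 h
    exact hu l hl
  let z' : Fin k → S := fun l => (∏ l' ∈ Finset.univ.erase l, u l') * z l
  have hF' : ∀ (s x : S), F (s * x) = s • F x := fun s x => by
    rw [hF, hF, map_mul, ← map_smul, Algebra.smul_def]
  have hUy : ∀ l, U • y l = F (z' l) := fun l => by
    rw [hF', ← huy l, ← mul_smul, Finset.prod_erase_mul _ _ (Finset.mem_univ l)]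
  have hker : ∀ i, F (U * c i - ∑ l, r i l • z' l) = 0 := by
    intro i
    rw [map_sub, hF', map_sum, show F (c i) = ∑ l, r i l • y l from hy i, Finset.smul_sum, sub_eq_zero]
    exact Finset.sum_congr rfl fun l _ => by rw [map_smul, ← hUy, smul_comm]
  have hker' : ∀ i, ∃ v : S, v ∉ q ∧ v * (U * c i - ∑ l, r i l • z' l) ∈ RingHom.ker (algebraMap S S') := by
    intro i
    have h1 := hker i
    rw [hF] at h1
    obtain ⟨v, hv⟩ := (IsLocalizedModule.eq_zero_iff q.primeCompl L).1 h1
    refine ⟨v, v.2, ?_⟩
    rw [RingHom.mem_ker, map_mul, ← Algebra.smul_def]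
    exact hv
  choose v hv hvk using hker'
  let V : S := ∏ i, v i
  have hV : V ∉ q := fun h => by
    obtain ⟨l, -, hl⟩ := (‹q.IsPrime›.prod_mem_iff (s := Finset.univ)).1 h
    exact hv l hl
  refine ⟨V * U * t, fun h => (‹q.IsPrime›.mem_or_mem h).elim (fun h => (‹q.IsPrime›.mem_or_mem h).elim hV hU) ht, ?_⟩
  have he : V * U * t * j = ∑ i, algebraMap R S (a i) * (V * (U * c i - ∑ l, r i l • z' l)) := by
    have h2 : ∑ i, algebraMap R S (a i) * ∑ l, r i l • z' l = 0 := by
      simp only [Finset.mul_sum, Algebra.smul_def, ← mul_assoc, ← map_mul]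
      rw [Finset.sum_comm]
      refine Finset.sum_eq_zero fun l _ => ?_
      rw [← Finset.sum_mul, ← map_sum]
      have h3 : ∑ i, a i * r i l = 0 := hr l
      rw [h3, map_zero, zero_mul]
    calc V * U * t * j = V * (U * (t * j)) := by ring
      _ = V * (U * ∑ i, algebraMap R S (a i) * c i) := by rw [hsum]; simp only [Algebra.smul_def]
      _ = V * ((U * ∑ i, algebraMap R S (a i) * c i) - ∑ i, algebraMap R S (a i) * ∑ l, r i l • z' l) := by rw [h2, sub_zero]
      _ = _ := by
        rw [Finset.mul_sum, ← Finset.sum_sub_distrib, Finset.mul_sum]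
        exact Finset.sum_congr rfl fun i _ => by ring
  rw [he]
  refine sum_mem fun i _ => Ideal.mul_mem_mul (hI (Ideal.mem_map_of_mem _ (ha i))) ?_
  show V * _ ∈ RingHom.ker _
  rw [show V = v i * ∏ i' ∈ Finset.univ.erase i, v i' from (Finset.mul_prod_erase _ _ (Finset.mem_univ i)).symm, mul_right_comm]
  exact Ideal.mul_mem_right _ _ (hvk i)


/-- Let I be an ideal of a ring R, S → S' a surjective homomorphism of R-algebras with S of finite type
and S' of finite presentation over R, and q a prime of S containing IS. Assume S'_q is flat over R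
and that S_q/IS_q → S'_q/IS'_q is an isomorphism, which for a surjection says: every element of the
kernel of S → S' maps into I·S_q. Then for some g ∉ q the localized map S_g → S'_g is bijective. -/
theorem result (R S S' : Type u) [CommRing R] [CommRing S]
    [CommRing S'] [Algebra R S] [Algebra R S'] [Algebra.FiniteType R S] [Algebra.FinitePresentation R S']
    (I : Ideal R) (f : S →ₐ[R] S') (hf : Function.Surjective f) (q : Ideal S) [q.IsPrime]
    (hq : I.map (algebraMap R S) ≤ q)
    (hker : ∀ j : S, f j = 0 →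
      algebraMap S (Localization.AtPrime q) j ∈ I.map (algebraMap R (Localization.AtPrime q)))
    (hflat : letI : Module S S' := f.toRingHom.toModule
      Module.Flat R (LocalizedModule q.primeCompl S')) :
    ∃ g : S, g ∉ q ∧ Function.Bijective (Localization.awayMap f.toRingHom g) := by
  classical
  letI : Algebra S S' := f.toRingHom.toAlgebra
  haveI : IsScalarTower R S S' := IsScalarTower.of_algebraMap_eq fun r => (f.commutes r).symm
  haveI : Algebra.FinitePresentation S S' := Algebra.FinitePresentation.of_restrict_scalars_finitePresentation R S S'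
  haveI : Module.Flat R (LocalizedModule q.primeCompl S') := hflat
  have hfg : (RingHom.ker f.toRingHom).FG := Algebra.FinitePresentation.ker_fG_of_surjective (Algebra.ofId S S') hf
  have hmem : ∀ j ∈ RingHom.ker f.toRingHom, ∃ w : S, w ∉ q ∧ w * j ∈ q * RingHom.ker f.toRingHom := by
    intro j hj
    have h1 := hker j hj
    rw [IsScalarTower.algebraMap_eq R S (Localization.AtPrime q), ← Ideal.map_map,
      IsLocalization.mem_map_algebraMap_iff q.primeCompl] at h1
    obtain ⟨⟨⟨a, ha⟩, s⟩, h2⟩ := h1
    rw [← map_mul] at h2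
    obtain ⟨c, hc⟩ := (IsLocalization.eq_iff_exists q.primeCompl _).1 h2
    refine key I q hq hf j hj (c.1 * s.1) (c * s).2 ?_
    rw [mul_assoc, mul_comm s.1 j, hc]
    exact Ideal.mul_mem_left _ _ ha
  set K' := (RingHom.ker f.toRingHom).map (algebraMap S (Localization.AtPrime q))
  have hK' : K' = ⊥ := by
    refine Submodule.eq_bot_of_le_smul_of_le_jacobson_bot (IsLocalRing.maximalIdeal _) K' (hfg.map _) ?_
      (IsLocalRing.maximalIdeal_le_jacobson _)
    refine Ideal.map_le_iff_le_comap.2 fun j hj => ?_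
    obtain ⟨w, hw, hwj⟩ := hmem j hj
    have h1 := Ideal.mem_map_of_mem (algebraMap S (Localization.AtPrime q)) hwj
    rw [map_mul, Ideal.map_mul, Localization.AtPrime.map_eq_maximalIdeal] at h1
    exact (Ideal.unit_mul_mem_iff_mem _ (IsLocalization.map_units (Localization.AtPrime q) (⟨w, hw⟩ : q.primeCompl))).1 h1
  obtain ⟨G, hG⟩ := hfg
  have hkill : ∀ j : S, ∃ c : S, c ∉ q ∧ (j ∈ G → c * j = 0) := by
    intro j
    by_cases hjG : j ∈ G
    · have h1 : algebraMap S (Localization.AtPrime q) j = 0 :=
        (Submodule.mem_bot _).1 (hK'.le (Ideal.mem_map_of_mem _ (hG.le (Submodule.subset_span hjG))))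
      obtain ⟨c, hc⟩ := (IsLocalization.map_eq_zero_iff q.primeCompl _ _).1 h1
      exact ⟨c, c.2, fun _ => hc⟩
    · exact ⟨1, fun h => ‹q.IsPrime›.ne_top ((Ideal.eq_top_iff_one q).2 h), fun h => absurd h hjG⟩
  choose c hc hcj using hkill
  refine ⟨∏ j ∈ G, c j, fun h => ?_, ?_, ?_⟩
  · obtain ⟨l, -, hl⟩ := (‹q.IsPrime›.prod_mem_iff (s := G)).1 h
    exact hc l hl
  · refine Localization.awayMap_injective_iff.2 fun a ha => ⟨1, ?_⟩
    rw [pow_one]
    have ha' : a ∈ Submodule.span S (G : Set S) := hG.ge ha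
    clear ha
    induction ha' using Submodule.span_induction with
    | mem x hx =>
      rw [← Finset.prod_erase_mul _ _ hx, mul_assoc, hcj x hx, mul_zero]
    | zero => rw [mul_zero]
    | add x y _ _ hx hy => rw [mul_add, hx, hy, add_zero]
    | smul s x _ hx => rw [smul_eq_mul, mul_left_comm, hx, mul_zero]
  · refine Localization.awayMap_surjective_iff.2 fun a => ?_
    obtain ⟨b, rfl⟩ := hf a
    exact ⟨b, 0, by rw [pow_zero, one_mul]; rfl⟩

end Groth.Agent.S9166
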