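import Groth.Statements.S9167
import Mathlib

set_option autoImplicit false
universe u
open CAlg

namespace Groth.Agent.S9167


set_option maxHeartbeats 1000000


/-- With R' = S⁻¹(R/I), every finitely presented R'-module is of the form S⁻¹(M/IM) for some finitely
presented R-module M. -/
theorem result (R : Type u) [CommRing R] (I : Ideal R)
    (S : Submonoid R) (M' : Type u) [AddCommGroup M']
    [Module (Localization (S.map (Ideal.Quotient.mk I))) M']
    [Module.FinitePresentation (Localization (S.map (Ideal.Quotient.mk I))) M'] :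
    ∃ (M : Type u) (_ : AddCommGroup M) (_ : Module R M), Module.FinitePresentation R M ∧
      Nonempty (LocalizedModule (S.map (Ideal.Quotient.mk I)) (M ⧸ (I • ⊤ : Submodule R M))
        ≃ₗ[Localization (S.map (Ideal.Quotient.mk I))] M') := by
  classical
  let T := S.map (Ideal.Quotient.mk I)
  let R' := Localization T
  let φ : R →+* R' := (algebraMap (R ⧸ I) R').comp (Ideal.Quotient.mk I)
  obtain ⟨n, π, hπ⟩ := Module.Finite.exists_fin' R' M'
  obtain ⟨m, v, hv⟩ := Submodule.fg_iff_exists_fin_generating_family.1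
    (Module.FinitePresentation.fg_ker π hπ)
  have hunit : ∀ t ∈ S, IsUnit (φ t) := fun t ht =>
    IsLocalization.map_units R' (⟨_, t, ht, rfl⟩ : T)
  -- clearing denominators of vectors
  have hclear : ∀ x : Fin n → R', ∃ t ∈ S, ∃ w : Fin n → R, ∀ i, φ t * x i = φ (w i) := fun x => by
    obtain ⟨⟨_, t, ht, rfl⟩, hb⟩ := IsLocalization.exist_integer_multiples T Finset.univ x
    choose q hq using fun i => hb i (Finset.mem_univ i)
    choose w hw using fun i => Ideal.Quotient.mk_surjective (q i)
    refine ⟨t, ht, w, fun i => ?_⟩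
    show algebraMap (R ⧸ I) R' (Ideal.Quotient.mk I t) * x i = algebraMap (R ⧸ I) R' (Ideal.Quotient.mk I (w i))
    rw [hw, hq, Algebra.smul_def]
  choose tv htv wv hwv using fun j => hclear (v j)
  let N : Submodule R (Fin n → R) := Submodule.span R (Set.range wv)
  letI : Module (R ⧸ I) M' := Module.compHom M' (algebraMap (R ⧸ I) R')
  letI : Module R M' := Module.compHom M' φ
  haveI : IsScalarTower (R ⧸ I) R' M' := IsScalarTower.of_algebraMap_smul fun r x => rfl
  let π₀ : (Fin n → R) →ₗ[R] M' :=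
    { toFun := fun w => π fun i => φ (w i)
      map_add' := fun a b => by rw [← map_add]; congr 1; funext i; simp
      map_smul' := fun r a => by
        show π (fun i => φ (r * a i)) = φ r • π fun i => φ (a i)
        rw [← map_smul]; congr 1; funext i; simp }
  have hN : N ≤ LinearMap.ker π₀ := by
    rw [Submodule.span_le]
    rintro _ ⟨j, rfl⟩
    show π (fun i => φ (wv j i)) = 0
    have h : π (v j) = 0 := LinearMap.mem_ker.1 (hv.le (Submodule.subset_span ⟨j, rfl⟩))
    rw [show (fun i => φ (wv j i)) = φ (tv j) • v j from funext fun i => (hwv j i).symm, map_smul, h, smul_zero]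
  let g := Submodule.liftQ N π₀ hN
  have hI : (I • ⊤ : Submodule R ((Fin n → R) ⧸ N)) ≤ LinearMap.ker g := Submodule.smul_le.2 fun r hr x _ => by
    rw [LinearMap.mem_ker, map_smul]
    show φ r • g x = 0
    rw [show φ r = 0 from by simp [φ, Ideal.Quotient.eq_zero_iff_mem.2 hr], zero_smul]
  let f : (((Fin n → R) ⧸ N) ⧸ (I • ⊤ : Submodule R ((Fin n → R) ⧸ N))) →ₗ[R ⧸ I] M' :=
    { toFun := Submodule.liftQ _ g hI
      map_add' := fun a b => map_add _ a b
      map_smul' := fun r a => by
        obtain ⟨r, rfl⟩ := Ideal.Quotient.mk_surjective r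
        obtain ⟨a, rfl⟩ := Submodule.Quotient.mk_surjective _ a
        show g (r • a) = algebraMap (R ⧸ I) R' (Ideal.Quotient.mk I r) • g a
        rw [map_smul]
        rfl }
  haveI : IsLocalizedModule T f := by
    refine ⟨fun t => ?_, fun z => ?_, fun {a b} hab => ?_⟩
    · obtain ⟨u, hu⟩ := IsLocalization.map_units R' t
      refine (Module.End.isUnit_iff _).2 ⟨fun a b h => ?_, fun b => ⟨(↑u⁻¹ : R') • b, ?_⟩⟩
      · have h' : algebraMap (R ⧸ I) R' (t : R ⧸ I) • a = algebraMap (R ⧸ I) R' (t : R ⧸ I) • b := h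
        rw [← hu] at h'
        exact smul_left_cancel u h'
      · show algebraMap (R ⧸ I) R' (t : R ⧸ I) • _ = b
        rw [← hu]
        show (u : R') • (↑u⁻¹ : R') • b = b
        rw [smul_smul, Units.mul_inv, one_smul]
    · obtain ⟨x, rfl⟩ := hπ z
      obtain ⟨t, ht, w, hw⟩ := hclear x
      refine ⟨(Submodule.Quotient.mk (Submodule.Quotient.mk w), ⟨_, t, ht, rfl⟩), ?_⟩
      show φ t • π x = π (fun i => φ (w i))
      rw [← map_smul]
      exact congrArg π (funext hw)
    · obtain ⟨a, rfl⟩ := Submodule.Quotient.mk_surjective _ a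
      obtain ⟨b, rfl⟩ := Submodule.Quotient.mk_surjective _ b
      obtain ⟨a, rfl⟩ := Submodule.Quotient.mk_surjective _ a
      obtain ⟨b, rfl⟩ := Submodule.Quotient.mk_surjective _ b
      have hker : (fun i => φ ((a - b) i)) ∈ LinearMap.ker π := by
        rw [LinearMap.mem_ker]
        have : π₀ a = π₀ b := hab
        show π₀ (a - b) = 0
        rw [map_sub, this, sub_self]
      rw [← hv, Submodule.mem_span_range_iff_exists_fun] at hker
      obtain ⟨c, hc⟩ := hker
      choose u hu using fun j => hunit (tv j) (htv j)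
      obtain ⟨⟨_, t, ht, rfl⟩, hb⟩ := IsLocalization.exist_integer_multiples T Finset.univ fun j => c j * ((u j)⁻¹ : R'ˣ)
      choose q hq using fun j => hb j (Finset.mem_univ j)
      choose e he using fun j => Ideal.Quotient.mk_surjective (q j)
      have hzero : ∀ i, φ (t * (a - b) i - ∑ j, e j * wv j i) = 0 := fun i => by
        rw [map_sub, map_mul, map_sum, sub_eq_zero, ← congrFun hc i, Finset.sum_apply, Finset.mul_sum]
        refine Finset.sum_congr rfl fun j _ => ?_
        rw [map_mul, ← hwv, show φ (e j) = φ t * (c j * ((u j)⁻¹ : R'ˣ)) by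
          show algebraMap (R ⧸ I) R' (Ideal.Quotient.mk I (e j)) =
            algebraMap (R ⧸ I) R' (Ideal.Quotient.mk I t) * _
          rw [he, hq, Algebra.smul_def]]
        rw [Pi.smul_apply, smul_eq_mul, show φ t * (c j * ↑(u j)⁻¹) * (φ (tv j) * v j i) =
          φ t * (c j * v j i) * (↑(u j)⁻¹ * φ (tv j)) by ring, ← hu j, Units.inv_mul, mul_one]
      have hs : ∀ i, ∃ s ∈ S, s * (t * (a - b) i - ∑ j, e j * wv j i) ∈ I := fun i => by
        obtain ⟨⟨_, s, hs, rfl⟩, he'⟩ := (IsLocalization.map_eq_zero_iff T R' _).1 (hzero i)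
        exact ⟨s, hs, Ideal.Quotient.eq_zero_iff_mem.1 (by rw [map_mul]; exact he')⟩
      choose s hs hsI using hs
      let s₀ := ∏ i, s i
      refine ⟨⟨Ideal.Quotient.mk I (s₀ * t), s₀ * t, S.mul_mem (Submonoid.prod_mem _ fun i _ => hs i) ht, rfl⟩, ?_⟩
      show Ideal.Quotient.mk I (s₀ * t) •
          (Submodule.Quotient.mk (Submodule.Quotient.mk a) : ((Fin n → R) ⧸ N) ⧸ (I • ⊤ : Submodule R ((Fin n → R) ⧸ N))) =
        Ideal.Quotient.mk I (s₀ * t) •
          (Submodule.Quotient.mk (Submodule.Quotient.mk b) : ((Fin n → R) ⧸ N) ⧸ (I • ⊤ : Submodule R ((Fin n → R) ⧸ N)))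
      rw [← Ideal.Quotient.algebraMap_eq, algebraMap_smul, algebraMap_smul]
      rw [← sub_eq_zero, ← smul_sub, ← Submodule.Quotient.mk_sub, ← Submodule.Quotient.mk_smul,
        Submodule.Quotient.mk_eq_zero, ← Submodule.Quotient.mk_sub, ← Submodule.Quotient.mk_smul]
      have hwN : ∑ j, (s₀ * e j) • wv j ∈ N :=
        Submodule.sum_mem _ fun j _ => Submodule.smul_mem _ _ (Submodule.subset_span ⟨j, rfl⟩)
      rw [← sub_add_cancel ((s₀ * t) • (a - b)) (∑ j, (s₀ * e j) • wv j), Submodule.Quotient.mk_add,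
        (Submodule.Quotient.mk_eq_zero N).2 hwN, add_zero,
        ← Finset.univ_sum_single (((s₀ * t) • (a - b)) - ∑ j, (s₀ * e j) • wv j)]
      rw [← Submodule.mkQ_apply, map_sum]
      refine Submodule.sum_mem _ fun i _ => ?_
      rw [show Pi.single i ((((s₀ * t) • (a - b)) - ∑ j, (s₀ * e j) • wv j) i) =
        ((((s₀ * t) • (a - b)) - ∑ j, (s₀ * e j) • wv j) i) • (Pi.single i 1 : Fin n → R) by
          rw [← Pi.single_smul, smul_eq_mul, mul_one], map_smul]
      refine Submodule.smul_mem_smul ?_ trivial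
      have : (((s₀ * t) • (a - b)) - ∑ j, (s₀ * e j) • wv j) i =
          (∏ k ∈ Finset.univ.erase i, s k) * (s i * (t * (a - b) i - ∑ j, e j * wv j i)) := by
        rw [← mul_assoc, Finset.prod_erase_mul _ _ (Finset.mem_univ i)]
        simp only [s₀, Pi.sub_apply, Pi.smul_apply, Finset.sum_apply, smul_eq_mul, mul_sub, Finset.mul_sum, mul_assoc]
      rw [this]
      exact I.mul_mem_left _ (hsI i)
  exact ⟨(Fin n → R) ⧸ N, inferInstance, inferInstance,
    Module.finitePresentation_of_surjective N.mkQ N.mkQ_surjective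
      (by rw [Submodule.ker_mkQ]; exact Submodule.fg_span (Set.finite_range wv)),
    ⟨(IsLocalizedModule.iso T f).extendScalarsOfIsLocalization T R'⟩⟩

end Groth.Agent.S9167
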