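import Groth.Statements.S9168
import Mathlib

set_option autoImplicit false
universe u
open CAlg

namespace Groth.Agent.S9168

/-- Fractions of `A` with unit denominators. -/
def loc {R : Type u} [CommRing R] (A : Subring R) : Subring R where
  carrier := {x | ∃ a ∈ A, ∃ b ∈ A, IsUnit b ∧ x * b = a}
  one_mem' := ⟨1, A.one_mem, 1, A.one_mem, isUnit_one, mul_one 1⟩
  zero_mem' := ⟨0, A.zero_mem, 1, A.one_mem, isUnit_one, mul_one 0⟩
  add_mem' := by
    rintro x y ⟨a, ha, b, hb, hu, e⟩ ⟨a', ha', b', hb', hu', e'⟩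
    exact ⟨a * b' + a' * b, A.add_mem (A.mul_mem ha hb') (A.mul_mem ha' hb), b * b', A.mul_mem hb hb', hu.mul hu', by rw [← e, ← e']; ring⟩
  mul_mem' := by
    rintro x y ⟨a, ha, b, hb, hu, e⟩ ⟨a', ha', b', hb', hu', e'⟩
    exact ⟨a * a', A.mul_mem ha ha', b * b', A.mul_mem hb hb', hu.mul hu', by rw [← e, ← e']; ring⟩
  neg_mem' := by
    rintro x ⟨a, ha, b, hb, hu, e⟩
    exact ⟨-a, A.neg_mem ha, b, hb, hu, by rw [← e]; ring⟩

theorem le_loc {R : Type u} [CommRing R] (A : Subring R) : A ≤ loc A :=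
  fun x hx => ⟨x, hx, 1, A.one_mem, isUnit_one, mul_one x⟩

theorem isLocalHom_loc {R : Type u} [CommRing R] (A : Subring R) : IsLocalHom (loc A).subtype := by
  refine ⟨fun x hx => ?_⟩
  obtain ⟨a, ha, b, hb, hu, e⟩ := x.2
  have hxu : IsUnit (x : R) := hx
  have ha' : IsUnit a := e ▸ hxu.mul hu
  refine IsUnit.of_mul_eq_one ⟨↑hxu.unit⁻¹, b, hb, a, ha, ha', ?_⟩ (Subtype.ext hxu.mul_val_inv)
  rw [← e, ← mul_assoc, IsUnit.val_inv_mul, one_mul]

theorem isUnit_loc {R : Type u} [CommRing R] (A : Subring R) (x : loc A) (h : IsUnit (x : R)) : IsUnit x :=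
  (isLocalHom_loc A).1 x h

theorem adjoin_map {T₀ T : Type u} [CommRing T₀] [CommRing T] (L : Subring T) (φ : T₀ →+* L) (σ : Set L)
    (a : T) (ha : a ∈ Subring.closure (Set.range (L.subtype.comp φ) ∪ (L.subtype '' σ))) :
    letI := φ.toAlgebra
    ∃ h : a ∈ L, (⟨a, h⟩ : L) ∈ Algebra.adjoin T₀ σ := by
  letI := φ.toAlgebra
  have hle : Subring.closure (Set.range (L.subtype.comp φ) ∪ (L.subtype '' σ)) ≤
      (Algebra.adjoin T₀ σ).toSubring.map L.subtype := by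
    rw [Subring.closure_le]
    rintro _ (⟨r, rfl⟩ | ⟨y, hy, rfl⟩)
    · exact ⟨φ r, (Algebra.adjoin T₀ σ).algebraMap_mem r, rfl⟩
    · exact ⟨y, Algebra.subset_adjoin hy, rfl⟩
  obtain ⟨y, hy, rfl⟩ := hle ha
  exact ⟨y.2, hy⟩


/-- For a local homomorphism of local rings R → S and finite subsets E ⊆ R, F ⊆ S there are local
subrings R₀ ⊆ R and S₀ ⊆ S containing E and F, with R → S mapping R₀ into S₀, such that the
inclusions and the induced map R₀ → S₀ are local homomorphisms, R₀ is essentially of finite type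
over ℤ and S₀ is essentially of finite type over R₀. (So R → S is the directed colimit of such R₀ →
S₀.) -/
theorem result (R S : Type u) [CommRing R] [CommRing S] [IsLocalRing R]
    [IsLocalRing S] [Algebra R S] [IsLocalHom (algebraMap R S)] (E : Finset R) (F : Finset S) :
    ∃ (R₀ : Subring R) (S₀ : Subring S) (h : ∀ x ∈ R₀, algebraMap R S x ∈ S₀),
      (E : Set R) ⊆ R₀ ∧ (F : Set S) ⊆ S₀ ∧ ∃ (_ : IsLocalRing R₀) (_ : IsLocalRing S₀),
        IsLocalHom R₀.subtype ∧ IsLocalHom S₀.subtype ∧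
          IsLocalHom ((algebraMap R S).restrict R₀ S₀ h) ∧
          (algebraMap ℤ R₀).EssFiniteType ∧ ((algebraMap R S).restrict R₀ S₀ h).EssFiniteType := by
  classical
  let A : Subring R := Subring.closure (E : Set R)
  let R₀ := loc A
  let B : Subring S := Subring.closure ((algebraMap R S '' (R₀ : Set R)) ∪ (F : Set S))
  let S₀ := loc B
  have h : ∀ x ∈ R₀, algebraMap R S x ∈ S₀ := fun x hx => le_loc B (Subring.subset_closure (Or.inl ⟨x, hx, rfl⟩))
  haveI hR : IsLocalHom R₀.subtype := isLocalHom_loc A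
  haveI hS : IsLocalHom S₀.subtype := isLocalHom_loc B
  refine ⟨R₀, S₀, h, Subring.subset_closure.trans (le_loc A),
    fun x hx => le_loc B (Subring.subset_closure (Or.inr hx)),
    RingHom.domain_isLocalRing R₀.subtype, RingHom.domain_isLocalRing S₀.subtype, hR, hS, ⟨fun x hx => ?_⟩, ?_, ?_⟩
  · exact isUnit_loc A x (IsUnit.of_map (algebraMap R S) _ (hx.map S₀.subtype))
  · rw [RingHom.essFiniteType_algebraMap, Algebra.essFiniteType_iff]
    let σ : Finset R₀ := E.attach.image fun e => ⟨e.1, le_loc A (Subring.subset_closure e.2)⟩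
    refine ⟨σ, fun x => ?_⟩
    obtain ⟨a, ha, b, hb, hu, e⟩ := x.2
    have hmem : ∀ a ∈ A, ∃ h : a ∈ R₀, (⟨a, h⟩ : R₀) ∈ Algebra.adjoin ℤ (σ : Set R₀) := by
      intro a ha
      have hle : A ≤ (Algebra.adjoin ℤ (σ : Set R₀)).toSubring.map R₀.subtype := by
        rw [Subring.closure_le]
        intro y hy
        exact ⟨⟨y, le_loc A (Subring.subset_closure hy)⟩,
          Algebra.subset_adjoin (Finset.mem_image.2 ⟨⟨y, hy⟩, Finset.mem_attach _ _, rfl⟩), rfl⟩
      obtain ⟨y, hy, rfl⟩ := hle ha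
      exact ⟨y.2, hy⟩
    obtain ⟨hb', hbm⟩ := hmem b hb
    obtain ⟨ha', ham⟩ := hmem a ha
    exact ⟨⟨b, hb'⟩, hbm, isUnit_loc A _ hu, by rwa [show x * ⟨b, hb'⟩ = ⟨a, ha'⟩ from Subtype.ext e]⟩
  · let φ := (algebraMap R S).restrict R₀ S₀ h
    show @Algebra.EssFiniteType R₀ S₀ _ _ φ.toAlgebra
    letI := φ.toAlgebra
    rw [Algebra.essFiniteType_iff]
    let σ : Finset S₀ := F.attach.image fun e => ⟨e.1, le_loc B (Subring.subset_closure (Or.inr e.2))⟩
    refine ⟨σ, fun x => ?_⟩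
    have hB : B ≤ Subring.closure (Set.range (S₀.subtype.comp φ) ∪ (S₀.subtype '' (σ : Set S₀))) := by
      refine Subring.closure_mono ?_
      rintro _ (⟨r, hr, rfl⟩ | hy)
      · exact Or.inl ⟨⟨r, hr⟩, rfl⟩
      · exact Or.inr ⟨_, Finset.mem_image.2 ⟨⟨_, hy⟩, Finset.mem_attach _ _, rfl⟩, rfl⟩
    obtain ⟨a, ha, b, hb, hu, e⟩ := x.2
    obtain ⟨hb', hbm⟩ := adjoin_map S₀ φ _ b (hB hb)
    obtain ⟨ha', ham⟩ := adjoin_map S₀ φ _ a (hB ha)
    exact ⟨⟨b, hb'⟩, hbm, isUnit_loc B _ hu, by rwa [show x * ⟨b, hb'⟩ = ⟨a, ha'⟩ from Subtype.ext e]⟩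

end Groth.Agent.S9168
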