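import Groth.Statements.S9170
import Groth.Agent.Lib.CI2.Gci

set_option autoImplicit false
universe u
open Synt

namespace Groth.Agent.S9170

open Groth.Agent in

/-- For a relative global complete intersection S = R[x_1, …, x_n]/(f_1, …, f_c) over a ring R and a
prime q' of the polynomial ring containing the ideal (f_1, …, f_c): (1) f_1, …, f_c is a regular
sequence in the localization R[x]_{q'} (a local ring); (2) every quotient R[x]_{q'}/(f_1, …, f_i) is
flat over R; (3) the conormal module (f)/(f)² is free over S with basis the classes of the f_i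
(stated as: these classes are linearly independent over S and span). -/
theorem result (R : Type u) [CommRing R] (n c : ℕ)
    (F : Fin c → MvPolynomial (Fin n) R) (h : Synt.IsRelGCI R n c F)
    (q' : Ideal (MvPolynomial (Fin n) R)) [q'.IsPrime] (hq' : Ideal.span (Set.range F) ≤ q') :
    RingTheory.Sequence.IsRegular (Localization.AtPrime q')
        ((List.ofFn F).map (algebraMap (MvPolynomial (Fin n) R) (Localization.AtPrime q'))) ∧
      (∀ i ≤ c, Module.Flat R (Localization.AtPrime q' ⧸ Ideal.ofList
        (((List.ofFn F).take i).map (algebraMap (MvPolynomial (Fin n) R) (Localization.AtPrime q'))))) ∧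
      LinearIndependent (Synt.RelGCIRing R n c F)
        (fun i : Fin c => (Ideal.span (Set.range F)).toCotangent ⟨F i, Ideal.subset_span (Set.mem_range_self i)⟩) ∧
      Submodule.span (Synt.RelGCIRing R n c F) (Set.range
        (fun i : Fin c => (Ideal.span (Set.range F)).toCotangent ⟨F i, Ideal.subset_span (Set.mem_range_self i)⟩)) = ⊤ := by
  obtain ⟨hc, hd⟩ := Groth.Agent.CI2.fibre_bound h q' hq'
  have hle : Ideal.ofList (List.ofFn F) ≤ q' := by rwa [Groth.Agent.CI2.ofList_ofFn]
  refine ⟨⟨Groth.Agent.CI2.rel_isWeaklyRegular (List.ofFn F) q' hle hc hd, ?_⟩, fun i hi => ?_, ?_, ?_⟩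
  · intro htop
    rw [smul_eq_mul, Ideal.mul_top] at htop
    refine (IsLocalRing.maximalIdeal.isMaximal (Localization.AtPrime q')).ne_top (top_le_iff.mp (htop.le.trans ?_))
    refine Ideal.span_le.mpr fun x hx => ?_
    obtain ⟨f, hf, rfl⟩ := List.mem_map.mp hx
    exact (IsLocalization.AtPrime.to_map_mem_maximal_iff _ q' f).mpr (hle (Ideal.subset_span hf))
  · have := Groth.Agent.CI2.rel_flat (List.ofFn F) q' hle hc hd i (by rwa [List.length_ofFn])
    rwa [Ideal.map_ofList] at this
  · rw [Fintype.linearIndependent_iff]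
    intro g hg i
    choose a ha using fun i => Ideal.Quotient.mk_surjective (g i)
    have h0 : (Ideal.span (Set.range F)).toCotangent
        (∑ i, a i • (⟨F i, Ideal.subset_span (Set.mem_range_self i)⟩ : Ideal.span (Set.range F))) = 0 := by
      rw [map_sum, ← hg]
      refine Finset.sum_congr rfl fun j _ => ?_
      rw [map_smul, ← ha j]
      rfl
    rw [Ideal.toCotangent_eq_zero] at h0
    rw [← ha i, Ideal.Quotient.eq_zero_iff_mem]
    refine Groth.Agent.CI2.mem_of_sq_relation (Groth.Agent.CI2.ex_of_isRelGCI h) a ?_ i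
    simpa using h0
  · rw [eq_top_iff]
    rintro x -
    obtain ⟨⟨y, hy⟩, rfl⟩ := (Ideal.span (Set.range F)).toCotangent_surjective x
    have hy' := hy
    rw [Ideal.mem_span_range_iff_exists_fun] at hy'
    obtain ⟨b, hb⟩ := hy'
    have : (⟨y, hy⟩ : Ideal.span (Set.range F)) =
        ∑ i, b i • (⟨F i, Ideal.subset_span (Set.mem_range_self i)⟩ : Ideal.span (Set.range F)) := Subtype.ext (by simp [hb])
    rw [this, map_sum]
    refine sum_mem fun i _ => ?_
    rw [map_smul]
    exact Submodule.smul_of_tower_mem _ (b i) (Submodule.subset_span ⟨i, rfl⟩)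

end Groth.Agent.S9170
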