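import Groth.Statements.S9171
import Groth.Agent.Lib.CI2.Local
import Groth.Prelude

set_option autoImplicit false
universe u
open Synt

namespace Groth.Agent.S9171
open Groth.Agent.CI2

theorem dim_quot {R S : Type u} [CommRing R] [CommRing S] (f : R →+* S) (hf : Function.Surjective f)
    (J : Ideal R) (h : RingHom.ker f = J) : ringKrullDim (R ⧸ J) = ringKrullDim S := by
  subst h
  exact ringKrullDim_eq_of_ringEquiv (RingHom.quotientKerEquivOfSurjective (f := f) hf)

/-- Let S = k[x_1, …, x_n]/I over a field k, q a prime of S, q' the corresponding prime of the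
polynomial ring and c the integer with c + ht(q) = ht(q'). Equivalent: (1) S_g is a global complete
intersection over k for some g ∉ q; (2) the extension of I to the local ring k[x]_{q'} is generated
by c elements; (5) that extension is generated by a regular sequence. Stated as (1) ↔ (2) and (1) ↔
(5). -/
theorem result (k : Type u) [Field k] (n : ℕ)
    (I : Ideal (MvPolynomial (Fin n) k)) (q : Ideal (MvPolynomial (Fin n) k ⧸ I)) [q.IsPrime] (c : ℕ)
    (hc : (c : ℕ∞) + q.height = (q.comap (Ideal.Quotient.mk I)).height) :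
    ((∃ g : MvPolynomial (Fin n) k ⧸ I, g ∉ q ∧ Synt.IsGlobalCI k (Localization.Away g)) ↔
        ∃ s : Finset (Localization.AtPrime (q.comap (Ideal.Quotient.mk I))), s.card = c ∧
          Ideal.span (s : Set _) =
            I.map (algebraMap _ (Localization.AtPrime (q.comap (Ideal.Quotient.mk I))))) ∧
      ((∃ g : MvPolynomial (Fin n) k ⧸ I, g ∉ q ∧ Synt.IsGlobalCI k (Localization.Away g)) ↔
        ∃ rs : List (Localization.AtPrime (q.comap (Ideal.Quotient.mk I))),
          RingTheory.Sequence.IsRegular (Localization.AtPrime (q.comap (Ideal.Quotient.mk I))) rs ∧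
          Ideal.ofList rs =
            I.map (algebraMap _ (Localization.AtPrime (q.comap (Ideal.Quotient.mk I))))) := by
  classical
  let φ : MvPolynomial (Fin n) k →ₐ[k] MvPolynomial (Fin n) k ⧸ I := Ideal.Quotient.mkₐ k I
  have hφ : Function.Surjective φ := Ideal.Quotient.mk_surjective
  haveI : IsNoetherianRing (MvPolynomial (Fin n) k ⧸ I) := inferInstance
  obtain ⟨π, hπ, hkπ⟩ := exists_presentation_atPrime φ hφ q
  have hkπ' : RingHom.ker π.toRingHom =
      I.map (algebraMap _ (Localization.AtPrime (q.comap (Ideal.Quotient.mk I)))) := by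
    rw [hkπ]
    congr 1
    exact Ideal.mk_ker
  set L := Localization.AtPrime (q.comap (Ideal.Quotient.mk I))
  set IL := I.map (algebraMap _ L)
  haveI : LocCoh.IsCohenMacaulayLocalRing L := Groth.Agent.DepthLib.isCohenMacaulayLocalRing_of_isRegularLocalRing
  have hILle : IL ≤ IsLocalRing.maximalIdeal L := hkπ' ▸ IsLocalRing.le_maximalIdeal (RingHom.ker_ne_top π.toRingHom)
  have hdimS : ringKrullDim (L ⧸ IL) = q.height := by
    rw [← IsLocalization.AtPrime.ringKrullDim_eq_height q (Localization.AtPrime q)]
    exact dim_quot π.toRingHom hπ IL hkπ'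
  have hdimL : ringKrullDim (L ⧸ IL) + (c : WithBot ℕ∞) = ringKrullDim L := by
    rw [hdimS, IsLocalization.AtPrime.ringKrullDim_eq_height (q.comap (Ideal.Quotient.mk I)) L, ← hc]
    push_cast
    exact add_comm _ _
  have hGCI : (∃ g : MvPolynomial (Fin n) k ⧸ I, g ∉ q ∧ Synt.IsGlobalCI k (Localization.Away g)) ↔
      CInt.IsRegularIdeal IL := by
    refine ⟨fun ⟨g, hg, h⟩ => ?_, fun h => exists_away_isGlobalCI q (isCIOver_of_surjection π hπ (hkπ' ▸ h))⟩
    haveI : Algebra.FiniteType (MvPolynomial (Fin n) k ⧸ I) (Localization.Away g) :=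
      IsLocalization.finiteType_of_monoid_fg (Submonoid.powers g) _
    haveI : Algebra.FiniteType k (Localization.Away g) :=
      Algebra.FiniteType.trans (R := k) (S := MvPolynomial (Fin n) k ⧸ I) inferInstance inferInstance
    exact hkπ' ▸ isRegularIdeal_ker_of_isCIOver (isCIOver_atPrime_of_away q g hg (isLCIOver_of_isGlobalCI h)) π hπ
  refine ⟨⟨fun h => ?_, fun ⟨s, hs, hsI⟩ => ?_⟩, ⟨fun h => hGCI.mp h, fun h => hGCI.mpr h⟩⟩
  · obtain ⟨rs, hrs, hrsI⟩ := hGCI.mp h
    have h1 := ringKrullDim_add_length_eq_ringKrullDim_of_isRegular rs hrs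
    have hlen : rs.length = c := by
      rw [hrsI, ← hdimL, hdimS] at h1
      cases hh : q.height with
      | top => exact absurd hh (q.height_lt_top (Ideal.IsPrime.ne_top ‹_›)).ne
      | coe a => rw [hh] at h1; exact Nat.add_left_cancel (show a + rs.length = a + c by exact_mod_cast h1)
    refine ⟨rs.toFinset, le_antisymm (hlen ▸ rs.toFinset_card_le) ?_, ?_⟩
    · have h2 := Groth.Agent.CIReg6.length_le_spanFinrank hrs
      rw [hlen] at h2
      refine h2.trans ((Submodule.spanFinrank_span_le_ncard_of_finite rs.finite_toSet).trans ?_)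
      rw [← List.coe_toFinset, Set.ncard_coe_finset]
    · rw [List.coe_toFinset]; exact hrsI
  · have hofList : Ideal.ofList s.toList = IL := by
      rw [← hsI, Ideal.ofList]
      congr 1
      ext x
      exact Finset.mem_toList
    have hmem : ∀ x ∈ s.toList, x ∈ IsLocalRing.maximalIdeal L := fun x hx =>
      hILle (hofList ▸ Ideal.subset_span hx)
    refine hGCI.mpr ⟨s.toList, Groth.Agent.DepthLib.isRegular_of_isWeaklyRegular (I := IsLocalRing.maximalIdeal L)
      (Groth.Agent.EmbDef.isWeaklyRegular_of_dim _ hmem ?_) hmem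
      (by rw [smul_eq_mul, Ideal.mul_top]; exact (IsLocalRing.maximalIdeal.isMaximal L).ne_top), hofList⟩
    rw [hofList, Finset.length_toList, hs, hdimL]

end Groth.Agent.S9171
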