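import Groth.Statements.S9173
import Groth.Agent.Lib.CI2.NearFibre
import Groth.Prelude.Def_RegImm
import Mathlib

set_option autoImplicit false
universe u
open Synt

namespace Groth.Agent.S9173
open TensorProduct MvPolynomial AlgebraicGeometry CategoryTheory

open MvPolynomial TensorProduct in
/-- Let S = R[x_1, …, x_n]/(F_1, …, F_c) over a ring R. Let p be a prime of R whose fibre ring κ(p) ⊗ S
has Krull dimension n − c (with c ≤ n). Then some h in the polynomial ring, with image g in S,
satisfies: g maps to a unit of κ(p) ⊗ S, and the presentation S_g = R[x_1, …, x_{n+1}]/(F_1, …, F_c,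
h·x_{n+1} − 1) is a relative global complete intersection over R (with S_g isomorphic to it over R). -/
theorem result (R : Type u) [CommRing R] (n c : ℕ) (F : Fin c → MvPolynomial (Fin n) R)
    (p : Ideal R) [p.IsPrime]
    (hp : c ≤ n ∧ ringKrullDim (p.Fiber (Synt.RelGCIRing R n c F)) = ((n - c : ℕ) : WithBot ℕ∞)) :
    ∃ h : MvPolynomial (Fin n) R,
      IsUnit ((1 : p.ResidueField) ⊗ₜ[R] (Ideal.Quotient.mk (Ideal.span (Set.range F)) h) :
        p.Fiber (Synt.RelGCIRing R n c F)) ∧
      Synt.IsRelGCI R (n + 1) (c + 1)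
        (Fin.snoc (fun i => rename Fin.castSucc (F i)) (rename Fin.castSucc h * X (Fin.last n) - 1)) ∧
      Nonempty (Localization.Away (Ideal.Quotient.mk (Ideal.span (Set.range F)) h) ≃ₐ[R]
        Synt.RelGCIRing R (n + 1) (c + 1)
          (Fin.snoc (fun i => rename Fin.castSucc (F i)) (rename Fin.castSucc h * X (Fin.last n) - 1))) := by
  let S := Synt.RelGCIRing R n c F
  let B : Set (PrimeSpectrum S) := {z | ¬ (c ≤ n ∧
      FlatMor.fibreDimAt (Spec.map (CommRingCat.ofHom (algebraMap R S))) z ≤ ((n - c : ℕ) : WithBot ℕ∞))}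
  haveI : Algebra.FiniteType R S := Algebra.FiniteType.of_surjective (Ideal.Quotient.mkₐ R _) Ideal.Quotient.mk_surjective
  have hB : IsClosed B := Groth.Agent.CI2.isClosed_bad R S (n - c) (c ≤ n)
  have htop : (PrimeSpectrum.vanishingIdeal B).map
      (Algebra.TensorProduct.includeRight : S →ₐ[R] p.Fiber S).toRingHom = ⊤ := by
    refine (PrimeSpectrum.zeroLocus_empty_iff_eq_top (R := p.Fiber S)).1 ?_
    refine Set.eq_empty_of_forall_notMem fun w hw => ?_
    let e := PrimeSpectrum.preimageHomeomorphFiber R S ⟨p, ‹_›⟩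
    have hz : PrimeSpectrum.comap (Algebra.TensorProduct.includeRight : S →ₐ[R] p.Fiber S).toRingHom w ∈
        PrimeSpectrum.zeroLocus (PrimeSpectrum.vanishingIdeal B : Set S) := Ideal.map_le_iff_le_comap.1 hw
    rw [PrimeSpectrum.zeroLocus_vanishingIdeal_eq_closure, hB.closure_eq] at hz
    exact hz ⟨hp.1, (Groth.Agent.CI2.fibreDimAt_le_ringKrullDim _ ⟨p, ‹_›⟩ (e.symm w).2).trans hp.2.le⟩
  obtain ⟨a, ha, hu⟩ := Groth.Agent.CI2.exists_one_tmul_eq_of_map_eq_top R S p _ htop
  obtain ⟨h, rfl⟩ := Ideal.Quotient.mk_surjective a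
  refine ⟨h, hu, Groth.Agent.CI2.isRelGCI_away F h fun z hz => ?_, Groth.Agent.CI2.nonempty_awayEquiv F h⟩
  by_contra hzB
  exact hz ((PrimeSpectrum.mem_vanishingIdeal B _).1 ha z hzB)

end Groth.Agent.S9173
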