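import Groth.Statements.S9174
import Groth.Agent.Lib.FibDepth5.Equi
import Groth.Agent.Lib.GorFib27.Global
import Groth.Agent.Lib.EmbDef.Regular
import Groth.Agent.Lib.SMT.CMBasic
import Groth.Agent.Lib.FibDim14.Semicont

set_option autoImplicit false
universe u
open CAlg

namespace Groth.Agent.S9174

section Aux
open CategoryTheory AlgebraicGeometry Topology IsLocalRing
open Groth.Agent Groth.Agent.FibDim14 Groth.Agent.FibDepth5

set_option backward.isDefEq.respectTransparency false

variable {R S : Type u} [CommRing R] [CommRing S] [Algebra R S] [Algebra.FiniteType R S]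

omit [Algebra.FiniteType R S] in
lemma dim_zeroLocus (A : Type u) [CommRing A] (P : Ideal A) :
    topologicalKrullDim (PrimeSpectrum.zeroLocus (P : Set A)) = ringKrullDim (A ⧸ P) := by
  have e2 : Set.range (PrimeSpectrum.comap (Ideal.Quotient.mk P)) = PrimeSpectrum.zeroLocus (P : Set A) := by
    refine (range_comap_of_surjective _ (Ideal.Quotient.mk P) Ideal.Quotient.mk_surjective).trans ?_
    rw [Ideal.mk_ker]
  rw [← PrimeSpectrum.topologicalKrullDim_eq_ringKrullDim]
  exact ((Homeomorph.setCongr e2.symm).trans (PrimeSpectrum.isClosedEmbedding_comap_of_surjective _ _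
    Ideal.Quotient.mk_surjective).isEmbedding.toHomeomorph.symm).isHomeomorph.topologicalKrullDim_eq

omit [Algebra.FiniteType R S] in
lemma fibreDimAt_spec_le {x y : Spec (CommRingCat.of S)} (h : y ⤳ x) (he : algProj R S y = algProj R S x) :
    y.asIdeal ≤ x.asIdeal ∧ y.asIdeal.comap (algebraMap R S) = x.asIdeal.comap (algebraMap R S) :=
  ⟨(PrimeSpectrum.le_iff_specializes _ _).2 h, congrArg PrimeSpectrum.asIdeal he⟩

lemma fibreDimAt_proj_eq (d : ℕ)
    (heq : ∀ p : PrimeSpectrum R, ∀ P ∈ minimalPrimes (p.asIdeal.Fiber S),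
      ringKrullDim (p.asIdeal.Fiber S ⧸ P) = (d : WithBot ℕ∞))
    (x : Spec (CommRingCat.of S)) : FlatMor.fibreDimAt (algProj R S) x = (d : WithBot ℕ∞) := by
  let π := algProj R S
  obtain ⟨η, hη, hηe, hd, hall⟩ := exists_fibreDimAt_eq π x
  rw [hd]
  let y : PrimeSpectrum R := π x
  let z := (π.fiberHomeo (π x)).symm ⟨η, hηe⟩
  have hz : π.fiberι (π x) z = η := π.fiberι_fiberHomeo_symm _ _
  have hzmax : ∀ w, w ⤳ z → w = z := by
    intro w hw
    by_contra hne
    have h1 : π.fiberι (π x) w ⤳ η := hz ▸ hw.map (π.fiberι _).continuous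
    have h2 : π (π.fiberι (π x) w) = π η := ((Scheme.Hom.range_fiberι π _).le ⟨w, rfl⟩).trans hηe.symm
    have hne' : π.fiberι (π x) w ≠ η := fun e => hne ((π.fiberι _).isEmbedding.injective (e.trans hz.symm))
    have := rd_lt_of_specializes π h1 hne' h2
    have := hall _ (h1.trans hη) (h2.trans hηe)
    omega
  let H : π.fiber (π x) ≃ₜ PrimeSpectrum (y.asIdeal.Fiber S) :=
    (π.fiberHomeo (π x)).trans (PrimeSpectrum.preimageHomeomorphFiber R S y)
  have hP : (H z).asIdeal ∈ minimalPrimes (y.asIdeal.Fiber S) := by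
    refine ⟨⟨(H z).2, bot_le⟩, fun J hJ hle => ?_⟩
    haveI := hJ.1
    have hsp : (⟨J, hJ.1⟩ : PrimeSpectrum (y.asIdeal.Fiber S)) ⤳ H z :=
      (PrimeSpectrum.le_iff_specializes _ _).1 hle
    have h3 : H.symm ⟨J, hJ.1⟩ ⤳ z := by
      have := hsp.map H.symm.continuous
      rwa [H.symm_apply_apply] at this
    have h4 : (⟨J, hJ.1⟩ : PrimeSpectrum (y.asIdeal.Fiber S)) = H z := by
      have := congrArg H (hzmax _ h3)
      rwa [H.apply_symm_apply] at this
    exact (congrArg PrimeSpectrum.asIdeal h4).ge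
  have hdim := heq y _ hP
  have h5 : topologicalKrullDim (closure ({z} : Set (π.fiber (π x)))) = (d : WithBot ℕ∞) := by
    rw [← hdim]
    have e : H '' closure {z} = PrimeSpectrum.zeroLocus ((H z).asIdeal : Set (y.asIdeal.Fiber S)) := by
      rw [H.image_closure, Set.image_singleton, PrimeSpectrum.closure_singleton]
    rw [((H.image (closure {z})).trans (Homeomorph.setCongr e)).isHomeomorph.topologicalKrullDim_eq]
    exact dim_zeroLocus (y.asIdeal.Fiber S) (H z).asIdeal
  rw [VarDim.dim_closure_singleton (toPt π (π x)), ← rd_fiberι, hz] at h5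
  exact h5

lemma supportDim_fibLocMod_quot (I : Ideal S) (q : PrimeSpectrum S) :
    Module.supportDim (EGA4.FibLocRing R S q.asIdeal) (EGA4.FibLocMod R S q.asIdeal (S ⧸ I)) =
      ringKrullDim (Localization.AtPrime q.asIdeal ⧸ (I.map (algebraMap S (Localization.AtPrime q.asIdeal)) ⊔
        (q.asIdeal.comap (algebraMap R S)).map (algebraMap R (Localization.AtPrime q.asIdeal)))) := by
  let L := Localization.AtPrime q.asIdeal
  let J := I.map (algebraMap S L) ⊔ (q.asIdeal.comap (algebraMap R S)).map (algebraMap R L)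
  rw [← (invariants_red (M := S ⧸ I) q.asIdeal (p := q.asIdeal.comap (algebraMap R S)) rfl).2,
    ← Module.supportDim_quotient_eq_ringKrullDim J, Module.supportDim, Module.supportDim]
  refine congrArg (fun s : Set (PrimeSpectrum L) => Order.krullDim s) ?_
  ext Q
  rw [mem_support_localization_iff, Module.support_quotient, Set.mem_inter_iff, Module.support_eq_zeroLocus,
    Ideal.annihilator_quotient, Module.support_eq_zeroLocus, Ideal.annihilator_quotient,
    PrimeSpectrum.mem_zeroLocus, PrimeSpectrum.mem_zeroLocus, PrimeSpectrum.mem_zeroLocus,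
    SetLike.coe_subset_coe, SetLike.coe_subset_coe, SetLike.coe_subset_coe, sup_le_iff,
    Ideal.map_le_iff_le_comap, Ideal.map_le_iff_le_comap, Ideal.map_le_iff_le_comap,
    IsScalarTower.algebraMap_eq R S L, ← Ideal.comap_comap]
  rfl

lemma exists_dim_add_rd (f : List S) (t : Spec (CommRingCat.of (S ⧸ Ideal.ofList f))) (q : PrimeSpectrum S)
    (hq : Spec.map (CommRingCat.ofHom (Ideal.Quotient.mk (Ideal.ofList f))) t = q) :
    ∃ b : ℕ, ringKrullDim (EGA4.FibLocRing R S q.asIdeal ⧸
        Ideal.ofList (f.map (algebraMap S (EGA4.FibLocRing R S q.asIdeal)))) = (b : WithBot ℕ∞) ∧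
      FlatMor.fibreDimAt (Spec.map (CommRingCat.ofHom (Ideal.Quotient.mk (Ideal.ofList f))) ≫ algProj R S) t =
        ((b + rd (algProj R S) q : ℕ) : WithBot ℕ∞) := by
  let I := Ideal.ofList f
  let a : Spec (CommRingCat.of (S ⧸ I)) ⟶ Spec (CommRingCat.of S) := Spec.map (CommRingCat.ofHom (Ideal.Quotient.mk I))
  let π := algProj R S
  haveI : IsClosedImmersion a := IsClosedImmersion.spec_of_surjective _ Ideal.Quotient.mk_surjective
  have hra : ∀ q' : PrimeSpectrum S, q' ∈ Set.range a ↔ q' ∈ Module.support S (S ⧸ I) := fun q' => by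
    rw [Module.support_eq_zeroLocus, Ideal.annihilator_quotient]
    refine Iff.of_eq (congrArg (fun s => q' ∈ s) ?_)
    refine (range_comap_of_surjective _ (Ideal.Quotient.mk I) Ideal.Quotient.mk_surjective).trans ?_
    rw [Ideal.mk_ker]
  obtain ⟨b, δ, hb, hδ, hall, q', hq'q, hq's, hq'p, hr⟩ :=
    exists_supportDim_add_rd (A := R) (S ⧸ I) q ((hra q).1 ⟨t, hq⟩)
  refine ⟨b, ?_, ?_⟩
  · rw [← hb, supportDim_fibLocMod_quot]
    refine ringKrullDim_eq_of_ringEquiv ((Ideal.quotEquivOfEq ?_).trans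
      ((DoubleQuot.quotQuotEquivQuotSup _ _).trans (Ideal.quotEquivOfEq (sup_comm _ _))))
    simp only [I, Ideal.map_ofList, List.map_map]
    rfl
  · have hrd : ∀ w, rd (a ≫ π) w = rd π (a w) := fun w => by
      rw [rd_comp, rd_of_surjectiveOnStalks (f := a), add_zero]
    obtain ⟨w, hw, hwe, hd, hmax⟩ := exists_fibreDimAt_eq (a ≫ π) t
    show FlatMor.fibreDimAt (a ≫ π) t = _
    rw [hd, hrd, hδ]
    refine congrArg (fun n : ℕ => (n : WithBot ℕ∞)) (le_antisymm ?_ ?_)
    · refine hall (a w) ((PrimeSpectrum.le_iff_specializes (a w : PrimeSpectrum S) q).2 (hq ▸ hw.map a.continuous))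
        ((hra _).1 ⟨w, rfl⟩) ?_
      have := congrArg PrimeSpectrum.asIdeal hwe
      rw [← hq]
      exact this
    · obtain ⟨w', rfl⟩ := (hra q').2 hq's
      rw [← hr, ← hrd, ← hrd]
      refine hmax w' (a.isEmbedding.isInducing.specializes_iff.1 ?_) (PrimeSpectrum.ext ?_)
      · rw [hq]; exact (PrimeSpectrum.le_iff_specializes _ q).1 hq'q
      · rw [← hq] at hq'p; exact hq'p

lemma main (d : ℕ) (hCM : ∀ p : PrimeSpectrum R, LocCoh.IsCohenMacaulayRing (p.asIdeal.Fiber S))
    (heq : ∀ p : PrimeSpectrum R, ∀ P ∈ minimalPrimes (p.asIdeal.Fiber S),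
      ringKrullDim (p.asIdeal.Fiber S ⧸ P) = (d : WithBot ℕ∞))
    (f : List S) :
    ∃ U : Set (PrimeSpectrum S), IsOpen U ∧ ∀ q : PrimeSpectrum S, Ideal.ofList f ≤ q.asIdeal →
      (q ∈ U ↔ RingTheory.Sequence.IsRegular (EGA4.FibLocRing R S q.asIdeal)
        (f.map (algebraMap S (EGA4.FibLocRing R S q.asIdeal)))) := by
  let I := Ideal.ofList f
  let a : Spec (CommRingCat.of (S ⧸ I)) ⟶ Spec (CommRingCat.of S) := Spec.map (CommRingCat.ofHom (Ideal.Quotient.mk I))
  haveI : IsClosedImmersion a := IsClosedImmersion.spec_of_surjective _ Ideal.Quotient.mk_surjective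
  let g := a ≫ Groth.Agent.FibDepth5.algProj R S
  let G : Set (Spec (CommRingCat.of (S ⧸ I))) :=
    {t | FlatMor.fibreDimAt g t + (f.length : WithBot ℕ∞) ≤ (d : WithBot ℕ∞)}
  have hG : IsOpen G := by
    by_cases hfd : f.length ≤ d
    · convert Groth.Agent.FibDim14.isOpen_fibreDimAt_le g (d - f.length) using 1
      ext t
      obtain ⟨x', -, -, hd', -⟩ := Groth.Agent.FibDim14.exists_fibreDimAt_eq g t
      simp only [G, Set.mem_setOf_eq, hd', ← Nat.cast_add, Nat.cast_le]
      omega
    · convert isOpen_empty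
      ext t
      obtain ⟨x', -, -, hd', -⟩ := Groth.Agent.FibDim14.exists_fibreDimAt_eq g t
      simp only [G, Set.mem_setOf_eq, hd', ← Nat.cast_add, Nat.cast_le, Set.mem_empty_iff_false, iff_false]
      omega
  obtain ⟨U, hU, hUG⟩ := a.isEmbedding.isInducing.isOpen_iff.1 hG
  refine ⟨U, hU, fun q hq => ?_⟩
  obtain ⟨t, ht⟩ : q ∈ Set.range a := by
    refine (range_comap_of_surjective _ (Ideal.Quotient.mk I) Ideal.Quotient.mk_surjective).ge ?_
    rw [Ideal.mk_ker]
    exact hq
  rw [show q ∈ U ↔ t ∈ G by rw [← ht, ← hUG]; rfl]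
  obtain ⟨b, hb, hbd⟩ := exists_dim_add_rd (R := R) f t q ht
  obtain ⟨b0, δ, hb0, hδ, hall, q', hq'q, -, hq'p, hr⟩ :=
    Groth.Agent.FibDepth5.exists_supportDim_add_rd (A := R) (S ⧸ (⊥ : Ideal S)) q (by
      rw [Module.support_eq_zeroLocus, Ideal.annihilator_quotient, PrimeSpectrum.mem_zeroLocus]
      exact bot_le (α := Ideal S))
  haveI : IsLocalRing (EGA4.FibLocRing R S q.asIdeal) := Groth.Agent.FibDepth5.isLocalRing_fibLocRing q.asIdeal
  haveI : LocCoh.IsCohenMacaulayLocalRing (EGA4.FibLocRing R S q.asIdeal) :=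
    Groth.Agent.GRing6.fibLoc_of_fibre (fun L _ => LocCoh.IsCohenMacaulayLocalRing L)
      (fun _ _ _ _ e h => Groth.Agent.SMT.isCM_of_ringEquiv e h) q.asIdeal
      fun P _ => (hCM ⟨q.asIdeal.comap (algebraMap R S), inferInstance⟩).isCohenMacaulayLocalRing_localization P
  have hdimR : ringKrullDim (EGA4.FibLocRing R S q.asIdeal) = (b0 : WithBot ℕ∞) := by
    rw [← hb0, supportDim_fibLocMod_quot]
    refine ringKrullDim_eq_of_ringEquiv (Ideal.quotEquivOfEq ?_)
    rw [Ideal.map_bot, bot_sup_eq]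
  have hδd : δ = d := by
    have h := fibreDimAt_proj_eq d heq q
    obtain ⟨η, hη, hηe, hdη, hmax⟩ := Groth.Agent.FibDim14.exists_fibreDimAt_eq (Groth.Agent.FibDepth5.algProj R S) q
    rw [hdη] at h
    have h' : Groth.Agent.FibDim14.rd (Groth.Agent.FibDepth5.algProj R S) η = d := by exact_mod_cast h
    rw [← h']
    refine le_antisymm (hr ▸ hmax q' ((PrimeSpectrum.le_iff_specializes q' q).1 hq'q) (PrimeSpectrum.ext hq'p)) ?_
    exact hall η (fibreDimAt_spec_le hη hηe).1 (by
      rw [Module.support_eq_zeroLocus, Ideal.annihilator_quotient, PrimeSpectrum.mem_zeroLocus]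
      exact bot_le (α := Ideal S)) (fibreDimAt_spec_le hη hηe).2
  have hmem : ∀ x ∈ f.map (algebraMap S (EGA4.FibLocRing R S q.asIdeal)),
      x ∈ IsLocalRing.maximalIdeal (EGA4.FibLocRing R S q.asIdeal) := by
    intro x hx
    obtain ⟨s, hs, rfl⟩ := List.mem_map.1 hx
    have h1 : algebraMap S (Localization.AtPrime q.asIdeal) s ∈ IsLocalRing.maximalIdeal _ :=
      (IsLocalization.AtPrime.to_map_mem_maximal_iff _ q.asIdeal s).2 (hq (Ideal.subset_span hs))
    exact (IsLocalRing.map_maximalIdeal_of_surjective (Ideal.Quotient.mk _) Ideal.Quotient.mk_surjective).le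
      (Ideal.mem_map_of_mem _ h1)
  have hne : Ideal.ofList (f.map (algebraMap S (EGA4.FibLocRing R S q.asIdeal))) ≠ ⊤ :=
    ne_top_of_le_ne_top (IsLocalRing.maximalIdeal.isMaximal _).ne_top (Ideal.span_le.2 hmem)
  show FlatMor.fibreDimAt g t + _ ≤ _ ↔ _
  rw [hbd, ← hδd, ← hδ, ← Nat.cast_add, Nat.cast_le]
  constructor
  · intro hle
    classical
    have hspan : Ideal.span (((f.map (algebraMap S (EGA4.FibLocRing R S q.asIdeal))).toFinset : Finset _) :
        Set (EGA4.FibLocRing R S q.asIdeal)) = Ideal.ofList (f.map (algebraMap S (EGA4.FibLocRing R S q.asIdeal))) := by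
      rw [List.coe_toFinset]
    have hge := ringKrullDim_le_ringKrullDim_quotient_add_card
      (s := (f.map (algebraMap S (EGA4.FibLocRing R S q.asIdeal))).toFinset) (by
        rw [IsLocalRing.ringJacobson_eq_maximalIdeal, List.coe_toFinset]
        exact hmem)
    rw [hspan, hdimR, hb, ← Nat.cast_add, Nat.cast_le] at hge
    have hcard := List.toFinset_card_le (f.map (algebraMap S (EGA4.FibLocRing R S q.asIdeal)))
    rw [List.length_map] at hcard
    refine ⟨Groth.Agent.EmbDef.isWeaklyRegular_of_dim _ hmem ?_, ?_⟩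
    · rw [hdimR, hb, List.length_map, ← Nat.cast_add, Nat.cast_inj]
      omega
    · rw [smul_eq_mul, Ideal.mul_top]
      exact Ne.symm hne
  · intro hreg
    have h := ringKrullDim_add_length_eq_ringKrullDim_of_isRegular _ hreg
    rw [hdimR, hb, List.length_map, ← Nat.cast_add, Nat.cast_inj] at h
    omega

end Aux


/-- Let R → S be of finite type with every fibre ring κ(p) ⊗ S Cohen–Macaulay and equidimensional of
dimension d, and let f_1, …, f_i ∈ S. The primes q ⊇ (f_1, …, f_i) at which the f_j form a regular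
sequence in the fibre local ring S_q/pS_q (p = q ∩ R) form an open subset of V(f_1, …, f_i): there
is an open U of Spec S whose trace on V(f_1, …, f_i) is exactly this set. -/
theorem result (R S : Type u) [CommRing R] [CommRing S]
    [Algebra R S] [Algebra.FiniteType R S] (d : ℕ)
    (hCM : ∀ p : PrimeSpectrum R, LocCoh.IsCohenMacaulayRing (p.asIdeal.Fiber S))
    (heq : ∀ p : PrimeSpectrum R, ∀ P ∈ minimalPrimes (p.asIdeal.Fiber S),
      ringKrullDim (p.asIdeal.Fiber S ⧸ P) = (d : WithBot ℕ∞))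
    (f : List S) :
    ∃ U : Set (PrimeSpectrum S), IsOpen U ∧ ∀ q : PrimeSpectrum S, Ideal.ofList f ≤ q.asIdeal →
      (q ∈ U ↔ RingTheory.Sequence.IsRegular (EGA4.FibLocRing R S q.asIdeal)
        (f.map (algebraMap S (EGA4.FibLocRing R S q.asIdeal)))) := by
  exact main d hCM heq f

end Groth.Agent.S9174
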