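import Groth.Statements.S9175
import Groth.Agent.Lib.QFAffine4
import Groth.Agent.Lib.Unibr4.Scheme
import Groth.Agent.Lib.TopDimLib.Basic

set_option autoImplicit false
universe u
open CAlg

namespace Groth.Agent.S9175

open TopologicalSpace AlgebraicGeometry in
theorem exists_away (R S : Type u) [CommRing R] [CommRing S] [Algebra R S] [Algebra.FiniteType R S]
    (p : PrimeSpectrum R) (x : PrimeSpectrum S) (hx : PrimeSpectrum.comap (algebraMap R S) x = p)
    (Q : PrimeSpectrum (p.asIdeal.Fiber S))
    (hQ : (PrimeSpectrum.preimageHomeomorphFiber R S p).symm Q = ⟨x, hx⟩) (n : ℕ)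
    (hdim : FlatMor.localDim (PrimeSpectrum (p.asIdeal.Fiber S)) Q = (n : WithBot ℕ∞)) :
    ∃ g : S, g ∉ x.asIdeal ∧ ∃ φ : MvPolynomial (Fin n) R →ₐ[R] Localization.Away g,
      φ.toRingHom.FiniteType ∧ φ.toRingHom.QuasiFinite := by
  let H := PrimeSpectrum.preimageHomeomorphFiber R S p
  obtain ⟨W, hW⟩ := TopDimLib.exists_localDim_eq (X := PrimeSpectrum (p.asIdeal.Fiber S)) Q
  obtain ⟨O, hO, hOW⟩ := isOpen_induced_iff.1 (W.1.isOpen.preimage H.continuous)
  have hHQ : H ⟨x, hx⟩ = Q := (congrArg H hQ.symm).trans (H.apply_symm_apply Q)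
  have hxO : x ∈ O := by
    have : (⟨x, hx⟩ : PrimeSpectrum.comap (algebraMap R S) ⁻¹' {p}) ∈ H ⁻¹' (W.1 : Set _) := by
      show H ⟨x, hx⟩ ∈ W.1
      rw [hHQ]; exact W.2
    rw [← hOW] at this
    exact this
  obtain ⟨-, ⟨h, rfl⟩, hxh, hsub⟩ := PrimeSpectrum.isTopologicalBasis_basic_opens.exists_subset_of_mem_open hxO hO
  let S' := Localization.Away h
  obtain ⟨x', hx'⟩ : x ∈ Set.range (PrimeSpectrum.comap (algebraMap S S')) := by
    rw [PrimeSpectrum.localization_away_comap_range S' h]
    exact hxh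
  haveI : Algebra.FiniteType R S' := .trans (S := S) inferInstance (IsLocalization.finiteType_of_monoid_fg (Submonoid.powers h) S')
  let φ : CommRingCat.of R ⟶ CommRingCat.of S' := CommRingCat.ofHom (algebraMap R S')
  have hcomp : ∀ t : PrimeSpectrum S', PrimeSpectrum.comap (algebraMap R S') t =
      PrimeSpectrum.comap (algebraMap R S) (PrimeSpectrum.comap (algebraMap S S') t) := fun t => by
    rw [IsScalarTower.algebraMap_eq R S S']; rfl
  have hbound : topologicalKrullDim ((Spec.map φ) ⁻¹' {Spec.map φ x'} : Set (PrimeSpectrum S')) ≤ (n : WithBot ℕ∞) := by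
    refine le_trans ?_ (hW.trans hdim).le
    let T : Set (PrimeSpectrum S') := (Spec.map φ) ⁻¹' {Spec.map φ x'}
    have hmem : ∀ t : T, PrimeSpectrum.comap (algebraMap S S') t.1 ∈ PrimeSpectrum.comap (algebraMap R S) ⁻¹' {p} :=
      fun t => by
        show PrimeSpectrum.comap (algebraMap R S) _ = p
        have ht : PrimeSpectrum.comap (algebraMap R S') t.1 = PrimeSpectrum.comap (algebraMap R S') x' := t.2
        rw [← hcomp, ht, hcomp, hx', hx]
    have hmemW : ∀ t : T, H ⟨_, hmem t⟩ ∈ (W.1 : Set _) := fun t => by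
      show (⟨_, hmem t⟩ : PrimeSpectrum.comap (algebraMap R S) ⁻¹' {p}) ∈ H ⁻¹' (W.1 : Set _)
      rw [← hOW]
      refine hsub ?_
      have : PrimeSpectrum.comap (algebraMap S S') t.1 ∈ Set.range (PrimeSpectrum.comap (algebraMap S S')) := ⟨_, rfl⟩
      rw [PrimeSpectrum.localization_away_comap_range S' h] at this
      exact this
    exact Topology.IsInducing.topologicalKrullDim_le
      (f := fun t : T => (⟨H ⟨_, hmem t⟩, hmemW t⟩ : (W.1 : Set _)))
      (Topology.IsInducing.of_comp (f := fun t : T => (⟨H ⟨_, hmem t⟩, hmemW t⟩ : (W.1 : Set _))) (by fun_prop) continuous_subtype_val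
        (H.isInducing.comp (Topology.IsInducing.of_comp
          (f := fun t : T => (⟨_, hmem t⟩ : PrimeSpectrum.comap (algebraMap R S) ⁻¹' {p}))
          (by fun_prop) continuous_subtype_val
          ((PrimeSpectrum.localization_comap_isEmbedding S' (Submonoid.powers h)).isInducing.comp
            Topology.IsInducing.subtypeVal))))
  obtain ⟨m, b, hmn, hqf⟩ := QFAffine4.exists_qfAt_spec φ (RingHom.finiteType_algebraMap.2 ‹_›) x' hbound
  let b' : Fin n → S' := fun i => if hi : (i : ℕ) < m then b ⟨i, hi⟩ else 0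
  let P := MvPolynomial (Fin n) R
  letI : Algebra P S' := (MvPolynomial.aeval b').toRingHom.toAlgebra
  haveI : IsScalarTower R P S' := IsScalarTower.of_algebraMap_eq fun r => ((MvPolynomial.aeval b').commutes r).symm
  haveI : Algebra.FiniteType P S' := .of_restrictScalars_finiteType R P S'
  haveI hqf' : Algebra.QuasiFiniteAt P x'.asIdeal := by
    let P₀ := MvPolynomial (Fin m) R
    letI : Algebra P₀ S' := (MvPolynomial.aeval b).toRingHom.toAlgebra
    haveI : IsScalarTower R P₀ S' := IsScalarTower.of_algebraMap_eq fun r => ((MvPolynomial.aeval b).commutes r).symm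
    haveI : Algebra.FiniteType P₀ S' := .of_restrictScalars_finiteType R P₀ S'
    have h0 := Unibr4.quasiFiniteAt_of_SpecMap
      (CommRingCat.ofHom (MvPolynomial.aeval (R := R) b).toRingHom) ‹Algebra.FiniteType P₀ S'› x' hqf
    haveI : Algebra.QuasiFiniteAt P₀ x'.asIdeal := h0
    letI : Algebra P₀ P := (MvPolynomial.rename (R := R) (Fin.castLE hmn)).toRingHom.toAlgebra
    haveI : IsScalarTower P₀ P S' := IsScalarTower.of_algebraMap_eq' <| MvPolynomial.ringHom_ext
      (fun r => by simp [RingHom.algebraMap_toAlgebra, P₀, P]) fun i => by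
        simp [RingHom.algebraMap_toAlgebra, P₀, P, b', i.2]
    exact Algebra.QuasiFinite.of_restrictScalars P₀ P (Localization.AtPrime x'.asIdeal)
  obtain ⟨S₁, hS₁, r, hr, hbij⟩ := Algebra.QuasiFiniteAt.exists_fg_and_exists_notMem_and_awayMap_bijective (R := P) x'.asIdeal
  haveI : Module.Finite P S₁ := ⟨(Submodule.fg_top _).mpr hS₁⟩
  haveI : Algebra.QuasiFinite P (Localization.Away r) := .trans _ S₁ _
  haveI hqfT : Algebra.QuasiFinite P (Localization.Away r.1) :=
    Algebra.QuasiFinite.of_surjective_algHom (R := P) (S := Localization.Away r) (Localization.awayMapₐ S₁.val r) hbij.2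
  obtain ⟨k, a, ha⟩ := IsLocalization.Away.surj (S := S') h r.1
  haveI : IsLocalization.Away (algebraMap S S' a) (Localization.Away r.1) :=
    IsLocalization.Away.of_associated (r := r.1) ⟨(IsLocalization.Away.algebraMap_pow_isUnit h k).unit, ha⟩
  haveI : IsLocalization.Away (h * a) (Localization.Away r.1) := IsLocalization.Away.mul' S' _ h a
  refine ⟨h * a, fun hmem => ?_, ?_⟩
  · rcases x.isPrime.mem_or_mem hmem with h' | h'
    · exact hxh h'
    · refine hr ?_
      have h1 : algebraMap S S' a ∈ x'.asIdeal := by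
        rw [← hx'] at h'; exact h'
      rw [← ha] at h1
      exact (x'.isPrime.mem_or_mem h1).resolve_right fun hu =>
        x'.isPrime.ne_top (Ideal.eq_top_of_isUnit_mem _ hu (IsLocalization.Away.algebraMap_pow_isUnit h k))
  let e : Localization.Away r.1 ≃ₐ[S] Localization.Away (h * a) :=
    IsLocalization.algEquiv (Submonoid.powers (h * a)) _ _
  let ψ : P →ₐ[R] Localization.Away r.1 := IsScalarTower.toAlgHom R P _
  refine ⟨(e.restrictScalars R).toAlgHom.comp ψ, ?_, ?_⟩
  · exact (RingHom.FiniteType.of_surjective _ (e.restrictScalars R).surjective).comp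
      (RingHom.finiteType_algebraMap.2 (Algebra.FiniteType.trans (S := S') inferInstance
        (IsLocalization.finiteType_of_monoid_fg (Submonoid.powers r.1) _)))
  · exact RingHom.QuasiFinite.comp (RingHom.QuasiFinite.of_finite (RingHom.Finite.of_surjective _ (e.restrictScalars R).surjective))
      (RingHom.quasiFinite_algebraMap.2 hqfT)



/-- Let R → S be of finite type, q a prime of S over p, and Q the prime of the fibre ring κ(p) ⊗ S
pulling back to q. If Spec(κ(p) ⊗ S) has local dimension n at Q (the relative dimension of S over R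
at q is n), then some S_g with g ∉ q admits an R-algebra map from the polynomial ring R[t_1, …, t_n]
which is of finite type and quasi-finite. -/
theorem result (R S : Type u) [CommRing R] [CommRing S]
    [Algebra R S] [Algebra.FiniteType R S] (p : Ideal R) [p.IsPrime] (q : Ideal S) [q.IsPrime] [q.LiesOver p]
    (Q : PrimeSpectrum (p.Fiber S))
    (hQ : Q.asIdeal.comap (Algebra.TensorProduct.includeRight.toRingHom) = q) (n : ℕ)
    (hdim : FlatMor.localDim (PrimeSpectrum (p.Fiber S)) Q = (n : WithBot ℕ∞)) :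
    ∃ g : S, g ∉ q ∧ ∃ φ : MvPolynomial (Fin n) R →ₐ[R] Localization.Away g,
      φ.toRingHom.FiniteType ∧ φ.toRingHom.QuasiFinite := by
  have hover : q.comap (algebraMap R S) = p := (Ideal.LiesOver.over (P := q) (p := p)).symm
  exact exists_away R S ⟨p, inferInstance⟩ ⟨q, inferInstance⟩ (PrimeSpectrum.ext hover) Q
    (Subtype.ext (PrimeSpectrum.ext hQ)) n hdim

end Groth.Agent.S9175
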