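import Groth.Statements.S9176
import Groth.Agent.Lib.FibDim14.Compact

set_option autoImplicit false
universe u
open CAlg

namespace Groth.Agent.S9176

open AlgebraicGeometry CategoryTheory in
lemma set_eq (R S : Type u) [CommRing R] [CommRing S] [Algebra R S] (n : ℕ) :
    {q : PrimeSpectrum S | ∀ Q : PrimeSpectrum ((q.asIdeal.under R).Fiber S),
        Q.asIdeal.comap (Algebra.TensorProduct.includeRight.toRingHom) = q.asIdeal →
          FlatMor.localDim (PrimeSpectrum ((q.asIdeal.under R).Fiber S)) Q ≤ (n : WithBot ℕ∞)} =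
    {q : Spec (CommRingCat.of S) | FlatMor.fibreDimAt (Spec.map (CommRingCat.ofHom (algebraMap R S))) q ≤ (n : WithBot ℕ∞)} := by
  ext q
  let p : PrimeSpectrum R := PrimeSpectrum.comap (algebraMap R S) q
  let e := PrimeSpectrum.preimageHomeomorphFiber R S p
  have key : ∀ Q : PrimeSpectrum (p.asIdeal.Fiber S),
      Q.asIdeal.comap (Algebra.TensorProduct.includeRight.toRingHom) = q.asIdeal →
      FlatMor.fibreDimAt (Spec.map (CommRingCat.ofHom (algebraMap R S))) q =
        FlatMor.localDim (PrimeSpectrum (p.asIdeal.Fiber S)) Q := by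
    intro Q hQ
    rw [FibDim14.fibreDimAt_eq_localDim_preimage]
    have h := FibDim14.localDim_of_isOpenEmbedding e.symm.isOpenEmbedding Q
    have hq : (e.symm Q) = ⟨q, rfl⟩ := Subtype.ext (PrimeSpectrum.ext hQ)
    rw [hq] at h
    exact (h.symm.trans rfl).symm.symm
  constructor
  · intro h
    obtain ⟨Q, hQ⟩ : ∃ Q, e.symm Q = ⟨q, rfl⟩ := e.symm.surjective _
    have hQ' : Q.asIdeal.comap (Algebra.TensorProduct.includeRight.toRingHom) = q.asIdeal :=
      congrArg (fun x => x.1.asIdeal) hQ
    exact (key Q hQ').trans_le (h Q hQ')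
  · intro h Q hQ
    exact (key Q hQ).ge.trans h


/-- For a ring map R → S of finite presentation and n ≥ 0, the set of primes q of S whose fibre
Spec(κ(p) ⊗ S), p = q ∩ R, has local dimension at most n at the point over q is open and
quasi-compact in Spec S. -/
theorem result (R S : Type u) [CommRing R]
    [CommRing S] [Algebra R S] [Algebra.FinitePresentation R S] (n : ℕ) :
    IsOpen {q : PrimeSpectrum S | ∀ Q : PrimeSpectrum ((q.asIdeal.under R).Fiber S),
        Q.asIdeal.comap (Algebra.TensorProduct.includeRight.toRingHom) = q.asIdeal →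
          FlatMor.localDim (PrimeSpectrum ((q.asIdeal.under R).Fiber S)) Q ≤ (n : WithBot ℕ∞)} ∧
      IsCompact {q : PrimeSpectrum S | ∀ Q : PrimeSpectrum ((q.asIdeal.under R).Fiber S),
        Q.asIdeal.comap (Algebra.TensorProduct.includeRight.toRingHom) = q.asIdeal →
          FlatMor.localDim (PrimeSpectrum ((q.asIdeal.under R).Fiber S)) Q ≤ (n : WithBot ℕ∞)} := by
  have h := set_eq R S n
  rw [h]
  have hfp : (algebraMap R S).FinitePresentation := RingHom.finitePresentation_algebraMap.2 inferInstance
  haveI : AlgebraicGeometry.LocallyOfFinitePresentation (AlgebraicGeometry.Spec.map (CommRingCat.ofHom (algebraMap R S))) :=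
    (AlgebraicGeometry.HasRingHomProperty.Spec_iff (P := @AlgebraicGeometry.LocallyOfFinitePresentation)).2 hfp
  exact ⟨FibDim14.isOpen_fibreDimAt_le _ n, FibDim14.isCompact_setOf_le_spec (CommRingCat.ofHom (algebraMap R S)) hfp n⟩

end Groth.Agent.S9176
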