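import Groth.Statements.S9177
import Mathlib

set_option autoImplicit false
universe u
open CAlg

namespace Groth.Agent.S9177

section
open TensorProduct
variable {A : Type u} [CommRing A] {ι : Type u} [Preorder ι] [Nonempty ι] [IsDirectedOrder ι]
  {G : ι → Type u} [∀ i, CommRing (G i)] [∀ i, Algebra A (G i)]
  (f : ∀ i j, i ≤ j → G i →ₐ[A] G j) [DirectedSystem G (fun i j h => f i j h)]
  {L : Type u} [CommRing L] [Algebra A L] (o : ∀ i, G i →ₐ[A] L)
  (hof : ∀ i j h x, o j (f i j h x) = o i x) (hex : ∀ z, ∃ i x, o i x = z)
  (hzero : ∀ i x, o i x = 0 → ∃ j h, f i j h x = 0)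

include hof hex hzero in
lemma exists_stage_zero (C : Type u) [AddCommGroup C] [Module A C] {i : ι} (x : G i ⊗[A] C)
    (hx : (o i).toLinearMap.rTensor C x = 0) :
    ∃ j h, (f i j h).toLinearMap.rTensor C x = 0 := by
  classical
  let fl : ∀ i j, i ≤ j → G i →ₗ[A] G j := fun i j h => (f i j h).toLinearMap
  haveI : DirectedSystem G (fun i j h => fl i j h) :=
    ⟨fun i z => DirectedSystem.map_self' (f := fun i j h => f i j h) z,
      fun k j i hij hjk z => DirectedSystem.map_map' (f := fun i j h => f i j h) hij hjk z⟩
  let ψ : Module.DirectLimit G fl →ₗ[A] L :=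
    Module.DirectLimit.lift A ι G fl (fun i => (o i).toLinearMap) hof
  have hψ : ∀ i z, ψ (Module.DirectLimit.of A ι G fl i z) = o i z := fun i z =>
    Module.DirectLimit.lift_of _ _ _
  have hbij : Function.Bijective ψ := by
    refine ⟨(injective_iff_map_eq_zero _).2 fun z hz => ?_, fun z => ?_⟩
    · obtain ⟨i, z, rfl⟩ := Module.DirectLimit.exists_of z
      rw [hψ] at hz
      obtain ⟨j, h, h0⟩ := hzero i z hz
      rw [← Module.DirectLimit.of_f (hij := h) (x := z)]
      show Module.DirectLimit.of A ι G fl j (f i j h z) = 0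
      rw [h0, map_zero]
    · obtain ⟨i, z, rfl⟩ := hex z
      exact ⟨_, hψ i z⟩
  have e : (o i).toLinearMap = ψ ∘ₗ Module.DirectLimit.of A ι G fl i :=
    LinearMap.ext fun z => (hψ i z).symm
  rw [e, LinearMap.rTensor_comp, LinearMap.comp_apply] at hx
  have h1 : (Module.DirectLimit.of A ι G fl i).rTensor C x = 0 := by
    refine ((LinearEquiv.ofBijective ψ hbij).rTensor C).injective ?_
    rw [map_zero]
    exact hx
  have h2 := congrArg (TensorProduct.directLimitLeft fl C) h1
  rw [TensorProduct.directLimitLeft_rTensor_of, map_zero] at h2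
  exact Module.DirectLimit.of.zero_exact h2

include hof hex in
lemma exists_stage_rep (C : Type u) [AddCommGroup C] [Module A C] (z : L ⊗[A] C) :
    ∃ i x, (o i).toLinearMap.rTensor C x = z := by
  induction z using TensorProduct.induction_on with
  | zero => exact ⟨Classical.arbitrary ι, 0, map_zero _⟩
  | tmul a c => obtain ⟨i, g, rfl⟩ := hex a; exact ⟨i, g ⊗ₜ c, rfl⟩
  | add a b ha hb =>
    obtain ⟨i, x, rfl⟩ := ha
    obtain ⟨j, y, rfl⟩ := hb
    obtain ⟨k, hik, hjk⟩ := exists_ge_ge i j
    refine ⟨k, (f i k hik).toLinearMap.rTensor C x + (f j k hjk).toLinearMap.rTensor C y, ?_⟩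
    rw [map_add, ← LinearMap.comp_apply, ← LinearMap.rTensor_comp, ← LinearMap.comp_apply,
      ← LinearMap.rTensor_comp]
    congr <;> exact LinearMap.ext fun w => hof _ _ _ w

include hof hex hzero in
lemma main (B C : Type u) [CommRing B] [CommRing C] [Algebra A B] [Algebra A C] :
    (Algebra.FiniteType A B → ∀ u u' : B →ₐ[A] C,
        Algebra.TensorProduct.map (AlgHom.id A L) u = Algebra.TensorProduct.map (AlgHom.id A L) u' →
          ∃ i : ι, Algebra.TensorProduct.map (AlgHom.id A (G i)) u =
            Algebra.TensorProduct.map (AlgHom.id A (G i)) u') ∧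
      (Algebra.FiniteType A C → ∀ u : B →ₐ[A] C,
        Function.Surjective (Algebra.TensorProduct.map (AlgHom.id A L) u) →
          ∃ i : ι, Function.Surjective (Algebra.TensorProduct.map (AlgHom.id A (G i)) u)) := by
  classical
  constructor
  · intro hB u u' huu
    obtain ⟨s, hs⟩ := hB.out
    obtain ⟨i₀⟩ := ‹Nonempty ι›
    have hb : ∀ b : B, ∃ j h, (f i₀ j h).toLinearMap.rTensor C (1 ⊗ₜ (u b - u' b)) = 0 := by
      intro b
      refine exists_stage_zero f o hof hex hzero C _ ?_
      have := AlgHom.congr_fun huu (1 ⊗ₜ b)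
      simp only [Algebra.TensorProduct.map_tmul, AlgHom.id_apply] at this
      simp [TensorProduct.tmul_sub, this]
    choose J hJ hJ0 using hb
    obtain ⟨k, hk⟩ := Finset.exists_le (s.image J)
    refine ⟨k, Algebra.TensorProduct.ext (AlgHom.ext fun a => by simp) ?_⟩
    refine AlgHom.ext_of_adjoin_eq_top hs fun b hb => ?_
    have h0 := congrArg ((f (J b) k (hk _ (Finset.mem_image_of_mem _ hb))).toLinearMap.rTensor C) (hJ0 b)
    simp only [map_zero, LinearMap.rTensor_tmul, AlgHom.toLinearMap_apply, map_one,
      TensorProduct.tmul_sub, sub_eq_zero] at h0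
    simpa [sub_eq_zero] using h0
  · intro hC u hu
    obtain ⟨s, hs⟩ := hC.out
    have hc : ∀ c : C, ∃ (i : ι) (w : G i ⊗[A] B), Algebra.TensorProduct.map (AlgHom.id A (G i)) u w = 1 ⊗ₜ c := by
      intro c
      obtain ⟨z, hz⟩ := hu (1 ⊗ₜ c)
      obtain ⟨i, w, rfl⟩ := exists_stage_rep f o hof hex B z
      have hnat : ∀ (w : G i ⊗[A] B), (o i).toLinearMap.rTensor C (Algebra.TensorProduct.map (AlgHom.id A (G i)) u w) =
          Algebra.TensorProduct.map (AlgHom.id A L) u ((o i).toLinearMap.rTensor B w) := fun w => by
        induction w using TensorProduct.induction_on with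
        | zero => simp
        | tmul a b => simp
        | add a b ha hb => simp [map_add, ha, hb]
      have h0 : (o i).toLinearMap.rTensor C (Algebra.TensorProduct.map (AlgHom.id A (G i)) u w - 1 ⊗ₜ c) = 0 := by
        rw [map_sub, hnat, hz]; simp
      obtain ⟨j, hij, hj⟩ := exists_stage_zero f o hof hex hzero C _ h0
      refine ⟨j, (f i j hij).toLinearMap.rTensor B w, ?_⟩
      rw [map_sub, sub_eq_zero] at hj
      have hnat' : (f i j hij).toLinearMap.rTensor C (Algebra.TensorProduct.map (AlgHom.id A (G i)) u w) =
          Algebra.TensorProduct.map (AlgHom.id A (G j)) u ((f i j hij).toLinearMap.rTensor B w) := by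
        clear hnat h0 hj hz
        induction w using TensorProduct.induction_on with
        | zero => simp
        | tmul a b => simp
        | add a b ha hb => simp [map_add, ha, hb]
      rw [← hnat', hj]; simp
    choose I W hW using hc
    obtain ⟨k, hk⟩ := Finset.exists_le (s.image I)
    refine ⟨k, fun z => ?_⟩
    let F := Algebra.TensorProduct.map (AlgHom.id A (G k)) u
    have hgen : ∀ c : C, (1 : G k) ⊗ₜ[A] c ∈ F.range := by
      intro c
      have : c ∈ F.range.comap (Algebra.TensorProduct.includeRight : C →ₐ[A] G k ⊗[A] C) := by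
        have hle : Algebra.adjoin A (s : Set C) ≤ F.range.comap (Algebra.TensorProduct.includeRight : C →ₐ[A] G k ⊗[A] C) := by
          refine Algebra.adjoin_le fun c hc => ?_
          let φ := f (I c) k (hk _ (Finset.mem_image_of_mem _ hc))
          refine ⟨φ.toLinearMap.rTensor B (W c), ?_⟩
          have hn : ∀ w : G (I c) ⊗[A] B, φ.toLinearMap.rTensor C (Algebra.TensorProduct.map (AlgHom.id A (G (I c))) u w) =
              F (φ.toLinearMap.rTensor B w) := fun w => by
            induction w using TensorProduct.induction_on with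
            | zero => simp
            | tmul a b => simp [F]
            | add a b ha hb => simp [map_add, ha, hb]
          show F _ = _
          rw [← hn, hW]; simp
        exact hle (hs ▸ Algebra.mem_top)
      exact this
    show z ∈ F.range
    induction z using TensorProduct.induction_on with
    | zero => exact zero_mem _
    | tmul g c =>
      have : g ⊗ₜ[A] c = F (g ⊗ₜ 1) * ((1 : G k) ⊗ₜ[A] c) := by simp [F]
      rw [this]
      exact mul_mem ⟨_, rfl⟩ (hgen c)
    | add a b ha hb => exact add_mem ha hb
end


open TensorProduct in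
/-- Let R = colim R_i be a directed colimit of A-algebras (compatible transition maps), B and C
A-algebras. (1) If B is of finite type over A, two A-algebra maps B → C whose base changes to R
coincide already have equal base changes to some R_i. (2) If C is of finite type over A and u : B →
C has surjective base change to R, then its base change to some R_i is surjective. (The A-algebra
structure on R is through any stage R_l; it does not depend on l.) -/
theorem result {ι : Type u} [Preorder ι]
    [Nonempty ι] [IsDirectedOrder ι] (G : ι → Type u) [∀ i, CommRing (G i)]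
    (f : ∀ i j, i ≤ j → G i →+* G j) [DirectedSystem G (fun i j h => f i j h)]
    (A : Type u) [CommRing A] [∀ i, Algebra A (G i)]
    (hf : ∀ i j (h : i ≤ j), (f i j h).comp (algebraMap A (G i)) = algebraMap A (G j)) (l : ι)
    (B C : Type u) [CommRing B] [CommRing C] [Algebra A B] [Algebra A C] :
    letI : Algebra A (Ring.DirectLimit G (fun i j h => f i j h)) :=
      ((Ring.DirectLimit.of G (fun i j h => f i j h) l).comp (algebraMap A (G l))).toAlgebra
    (Algebra.FiniteType A B → ∀ u u' : B →ₐ[A] C,
        Algebra.TensorProduct.map (AlgHom.id A (Ring.DirectLimit G (fun i j h => f i j h))) u =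
            Algebra.TensorProduct.map (AlgHom.id A (Ring.DirectLimit G (fun i j h => f i j h))) u' →
          ∃ i : ι, Algebra.TensorProduct.map (AlgHom.id A (G i)) u =
            Algebra.TensorProduct.map (AlgHom.id A (G i)) u') ∧
      (Algebra.FiniteType A C → ∀ u : B →ₐ[A] C,
        Function.Surjective
            (Algebra.TensorProduct.map (AlgHom.id A (Ring.DirectLimit G (fun i j h => f i j h))) u) →
          ∃ i : ι, Function.Surjective (Algebra.TensorProduct.map (AlgHom.id A (G i)) u)) := by
  letI : Algebra A (Ring.DirectLimit G (fun i j h => f i j h)) :=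
    ((Ring.DirectLimit.of G (fun i j h => f i j h) l).comp (algebraMap A (G l))).toAlgebra
  let fa : ∀ i j, i ≤ j → G i →ₐ[A] G j := fun i j h =>
    { f i j h with commutes' := fun a => RingHom.congr_fun (hf i j h) a }
  haveI : DirectedSystem G (fun i j h => fa i j h) :=
    ⟨fun i z => DirectedSystem.map_self' (f := fun i j h => f i j h) z,
      fun k j i hij hjk z => DirectedSystem.map_map' (f := fun i j h => f i j h) hij hjk z⟩
  let o : ∀ i, G i →ₐ[A] Ring.DirectLimit G (fun i j h => f i j h) := fun i =>
    { Ring.DirectLimit.of G (fun i j h => f i j h) i with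
      commutes' := fun a => by
        obtain ⟨k, hik, hlk⟩ := exists_ge_ge i l
        show Ring.DirectLimit.of G (fun i j h => f i j h) i (algebraMap A (G i) a) =
          Ring.DirectLimit.of G (fun i j h => f i j h) l (algebraMap A (G l) a)
        rw [← Ring.DirectLimit.of_f (f := fun i j h => ⇑(f i j h)) hik,
          ← Ring.DirectLimit.of_f (f := fun i j h => ⇑(f i j h)) hlk, ← RingHom.comp_apply (f i k hik),
          ← RingHom.comp_apply (f l k hlk), hf, hf] }
  exact main fa o (fun i j h x => Ring.DirectLimit.of_f (f := fun i j h => ⇑(f i j h)) h x)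
    (fun z => Ring.DirectLimit.exists_of z) (fun i x h => Ring.DirectLimit.of.zero_exact h) B C

end Groth.Agent.S9177
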