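import Groth.Statements.S9178
import Mathlib

set_option autoImplicit false
universe u
open CAlg

namespace Groth.Agent.S9178




/-- For ring maps A → B → C with A → C surjective, writing I = ker(A → C) and J = ker(B → C), the
sequence I/I² → J/J² → C ⊗_B Ω_{B/A} → 0 is exact. Stated: the image of I/I² in J/J² is exactly the
kernel of J/J² → C ⊗_B Ω_{B/A} (surjectivity of the latter map is the standard conormal sequence for
the surjection B → C). -/
theorem result (A B C : Type u) [CommRing A] [CommRing B]
    [CommRing C] [Algebra A B] [Algebra B C] [Algebra A C] [IsScalarTower A B C]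
    (hAC : Function.Surjective (algebraMap A C))
    (h : RingHom.ker (algebraMap A C) ≤ (RingHom.ker (algebraMap B C)).comap (Algebra.ofId A B)) :
    Function.Exact
      (Ideal.mapCotangent (RingHom.ker (algebraMap A C)) (RingHom.ker (algebraMap B C)) (Algebra.ofId A B) h)
      (KaehlerDifferential.kerCotangentToTensor A B C) := by
  classical
  let I := RingHom.ker (algebraMap A C)
  let J := RingHom.ker (algebraMap B C)
  have hBC : Function.Surjective (algebraMap B C) := fun c => by
    obtain ⟨a, rfl⟩ := hAC c
    exact ⟨algebraMap A B a, (IsScalarTower.algebraMap_apply A B C a).symm⟩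
  let μ := Ideal.mapCotangent I J (Algebra.ofId A B) h
  have dec : ∀ b : B, ∃ a : A, b - algebraMap A B a ∈ J := fun b => by
    obtain ⟨a, ha⟩ := hAC (algebraMap B C b)
    exact ⟨a, by rw [RingHom.mem_ker, map_sub, ← IsScalarTower.algebraMap_apply, ha, sub_self]⟩
  have killJ : ∀ j ∈ J, ∀ x : J.Cotangent, j • x = 0 := by
    intro j hj x
    obtain ⟨x, rfl⟩ := Ideal.toCotangent_surjective _ x
    rw [← map_smul, Ideal.toCotangent_eq_zero, Submodule.coe_smul, smul_eq_mul, pow_two]
    exact Ideal.mul_mem_mul hj x.2
  have hkill : ∀ (b : B) (a : A), b - algebraMap A B a ∈ J → ∀ x : J.Cotangent, b • x = a • x := fun b a hba x => by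
    rw [← algebraMap_smul B a x, ← sub_eq_zero, ← sub_smul]
    exact killJ _ hba x
  let N : Submodule B J.Cotangent :=
    { carrier := LinearMap.range μ
      add_mem' := fun ha hb => add_mem ha hb
      zero_mem' := zero_mem _
      smul_mem' := fun b x hx => by
        obtain ⟨a, ha⟩ := dec b
        rw [SetLike.mem_coe, hkill b a ha]
        exact Submodule.smul_mem _ a hx }
  obtain ⟨σ, hσ⟩ := Classical.axiom_of_choice dec
  let d : B → J.Cotangent ⧸ N := fun b => N.mkQ (Ideal.toCotangent J ⟨b - algebraMap A B (σ b), hσ b⟩)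
  have dval : ∀ (b : B) (a : A) (ha : b - algebraMap A B a ∈ J),
      d b = N.mkQ (Ideal.toCotangent J ⟨b - algebraMap A B a, ha⟩) := by
    intro b a ha
    show Submodule.Quotient.mk _ = Submodule.Quotient.mk _
    rw [Submodule.Quotient.eq, ← map_sub]
    have hI : a - σ b ∈ I := by
      have := sub_mem (hσ b) ha
      rw [sub_sub_sub_cancel_left, ← map_sub, RingHom.mem_ker, ← IsScalarTower.algebraMap_apply] at this
      exact this
    refine ⟨Ideal.toCotangent I ⟨_, hI⟩, ?_⟩
    rw [Ideal.mapCotangent_toCotangent]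
    congr 1
    refine Subtype.ext ?_
    show Algebra.ofId A B (a - σ b) = _
    simp
  let lin : B →ₗ[A] J.Cotangent ⧸ N :=
    { toFun := d
      map_add' := fun b b' => by
        have hm : b + b' - algebraMap A B (σ b + σ b') ∈ J := by
          rw [map_add, add_sub_add_comm]; exact add_mem (hσ b) (hσ b')
        rw [dval _ _ hm]
        simp only [d, ← map_add]
        congr 2
        exact Subtype.ext (by simp only [map_add, Submodule.coe_add]; ring)
      map_smul' := fun r b => by
        have hm : r • b - algebraMap A B (r * σ b) ∈ J := by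
          rw [Algebra.smul_def, map_mul, ← mul_sub]; exact J.mul_mem_left _ (hσ b)
        rw [dval _ _ hm]
        simp only [d, RingHom.id_apply, ← algebraMap_smul B r (N.mkQ _), ← map_smul]
        congr 2
        exact Subtype.ext (by simp only [Submodule.coe_smul, smul_eq_mul, map_mul, Algebra.smul_def, Algebra.algebraMap_self, RingHom.id_apply]; ring) }
  have hd1 : d 1 = 0 := by
    have hm : (1 : B) - algebraMap A B 1 ∈ J := by simp
    rw [dval _ _ hm, show (⟨(1 : B) - algebraMap A B 1, hm⟩ : J) = 0 from Subtype.ext (by simp), map_zero, map_zero]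
  let D : Derivation A B (J.Cotangent ⧸ N) := Derivation.mk' lin fun b b' => by
    show d (b * b') = b • d b' + b' • d b
    have hm : b * b' - algebraMap A B (σ b * σ b') ∈ J := by
      rw [map_mul, show b * b' - algebraMap A B (σ b) * algebraMap A B (σ b') = b * (b' - algebraMap A B (σ b')) + algebraMap A B (σ b') * (b - algebraMap A B (σ b)) by ring]
      exact add_mem (J.mul_mem_left _ (hσ b')) (J.mul_mem_left _ (hσ b))
    rw [dval _ _ hm]
    simp only [d, ← map_smul, ← map_add]
    congr 1
    refine (Ideal.toCotangent_eq J).2 ?_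
    have h2 : (b - algebraMap A B (σ b)) * (b' - algebraMap A B (σ b')) ∈ J ^ 2 :=
      pow_two J ▸ Ideal.mul_mem_mul (hσ b) (hσ b')
    have := neg_mem h2
    convert this using 1
    simp only [Submodule.coe_add, Submodule.coe_smul, smul_eq_mul, map_mul]
    ring
  let L : Ω[B⁄A] →ₗ[B] J.Cotangent ⧸ N := D.liftKaehlerDifferential
  let pre : B →ₗ[B] (Ω[B⁄A] →ₗ[B] J.Cotangent ⧸ N) := (LinearMap.id : B →ₗ[B] B).smulRight L
  have hker : LinearMap.ker (Algebra.linearMap B C) ≤ LinearMap.ker pre := fun b hb => by
    refine LinearMap.ext fun ω => ?_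
    show b • L ω = 0
    obtain ⟨x, hx⟩ := N.mkQ_surjective (L ω)
    rw [← hx, ← map_smul, killJ b hb, map_zero]
  let κ : C →ₗ[B] (Ω[B⁄A] →ₗ[B] J.Cotangent ⧸ N) :=
    (Submodule.liftQ _ pre hker).comp ((Algebra.linearMap B C).quotKerEquivOfSurjective hBC).symm.toLinearMap
  have hκ : κ 1 = L := by
    have : ((Algebra.linearMap B C).quotKerEquivOfSurjective hBC).symm (1 : C) = Submodule.Quotient.mk (1 : B) := by
      rw [LinearEquiv.symm_apply_eq]; exact (map_one (algebraMap B C)).symm
    show (Submodule.liftQ _ pre hker) (((Algebra.linearMap B C).quotKerEquivOfSurjective hBC).symm 1) = L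
    rw [this, Submodule.liftQ_apply]
    exact one_smul B L
  intro y
  constructor
  · intro hy
    obtain ⟨⟨x, hx⟩, rfl⟩ := Ideal.toCotangent_surjective _ y
    rw [KaehlerDifferential.kerCotangentToTensor_toCotangent] at hy
    have h1 := congrArg (TensorProduct.lift κ) hy
    rw [TensorProduct.lift.tmul, map_zero, hκ, Derivation.liftKaehlerDifferential_comp_D] at h1
    have hx0 : x - algebraMap A B 0 ∈ J := by rwa [map_zero, sub_zero]
    have h2 : d x = N.mkQ (Ideal.toCotangent J ⟨x, hx⟩) :=
      (dval x 0 hx0).trans (by congr 2; exact Subtype.ext (by simp))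
    exact (Submodule.Quotient.mk_eq_zero N).1 (h2.symm.trans h1)
  · rintro ⟨z, rfl⟩
    obtain ⟨⟨a, ha⟩, rfl⟩ := Ideal.toCotangent_surjective _ z
    rw [Ideal.mapCotangent_toCotangent, KaehlerDifferential.kerCotangentToTensor_toCotangent]
    show (1 : C) ⊗ₜ[B] KaehlerDifferential.D A B (algebraMap A B a) = 0
    rw [Derivation.map_algebraMap, TensorProduct.tmul_zero]

end Groth.Agent.S9178
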