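import Groth.Statements.S9179
import Mathlib

set_option autoImplicit false
universe u
open CategoryTheory CategoryTheory.Limits
open CAlg

namespace Groth.Agent.S9179

open CategoryTheory CategoryTheory.Limits

section
variable {R A P : Type u} [CommRing R] [CommRing A] [CommRing P] [Algebra R A] [Algebra R P] (π : P →ₐ[R] A)

abbrev Idx : Type u := Finset {p : P // π p = 0}

def idl (t : Idx π) : Ideal P := Ideal.span (Subtype.val '' (t : Set {p : P // π p = 0}))

lemma idl_mono {s t : Idx π} (h : s ⊆ t) : idl π s ≤ idl π t :=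
  Ideal.span_mono (Set.image_mono (Finset.coe_subset.2 h))

noncomputable def tr {s t : Idx π} (h : s ⊆ t) : (P ⧸ idl π s) →ₐ[R] (P ⧸ idl π t) :=
  Ideal.Quotient.factorₐ R (idl_mono π h)

lemma idl_le (t : Idx π) : idl π t ≤ RingHom.ker π.toRingHom := by
  refine Ideal.span_le.2 ?_
  rintro _ ⟨p, -, rfl⟩
  exact p.2

noncomputable def toA (t : Idx π) : (P ⧸ idl π t) →ₐ[R] A :=
  Ideal.Quotient.liftₐ _ π fun p hp => idl_le π t hp

noncomputable def rdiag : Idx π ⥤ CommRingCat.{u} where
  obj t := CommRingCat.of (P ⧸ idl π t)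
  map f := CommRingCat.ofHom (tr π (leOfHom f)).toRingHom
  map_id t := by
    refine CommRingCat.hom_ext (RingHom.ext fun x => ?_)
    obtain ⟨q, rfl⟩ := Ideal.Quotient.mk_surjective x
    rfl
  map_comp f g := by
    refine CommRingCat.hom_ext (RingHom.ext fun x => ?_)
    obtain ⟨q, rfl⟩ := Ideal.Quotient.mk_surjective x
    rfl

noncomputable def diag : Idx π ⥤ Under (CommRingCat.of R) where
  obj t := Under.mk (CommRingCat.ofHom (algebraMap R (P ⧸ idl π t)))
  map {i j} f := Under.homMk ((rdiag π).map f) (by ext a; exact (tr π (leOfHom f)).commutes a)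
  map_id i := by ext1; exact (rdiag π).map_id i
  map_comp f g := by ext1; exact (rdiag π).map_comp f g

noncomputable def cocone : Cocone (diag π) where
  pt := Under.mk (CommRingCat.ofHom (algebraMap R A))
  ι :=
    { app := fun t => Under.homMk (CommRingCat.ofHom (toA π t).toRingHom)
        (by ext a; exact (toA π t).commutes a)
      naturality := fun i j f => by
        ext1
        refine CommRingCat.hom_ext (RingHom.ext fun x => ?_)
        obtain ⟨q, rfl⟩ := Ideal.Quotient.mk_surjective x
        rfl }

attribute [local instance] IsFiltered.isConnected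

noncomputable def isColimitCocone [IsFiltered (Idx π)] (hπ : Function.Surjective π) : IsColimit (cocone π) := by
  classical
  haveI : ReflectsColimitsOfShape (Idx π) (forget CommRingCat.{u}) :=
    reflectsColimitsOfShape_of_reflectsIsomorphisms
  refine isColimitOfReflects (Under.forget _) ?_
  refine isColimitOfReflects (forget CommRingCat.{u}) ?_
  refine Types.FilteredColimit.isColimitOf' _ _ (fun b => ?_) (fun i x y h => ?_)
  · obtain ⟨q, hq⟩ := hπ b
    exact ⟨∅, Ideal.Quotient.mk (idl π ∅) q, hq.symm⟩
  · obtain ⟨q, rfl⟩ := Ideal.Quotient.mk_surjective (I := idl π i) x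
    obtain ⟨r, rfl⟩ := Ideal.Quotient.mk_surjective (I := idl π i) y
    have h0 : π (q - r) = 0 := by rw [map_sub, sub_eq_zero]; exact h
    exact ⟨insert ⟨q - r, h0⟩ i, homOfLE (Finset.subset_insert _ _), Ideal.Quotient.eq.2
      (Ideal.subset_span ⟨⟨q - r, h0⟩, Finset.mem_coe.2 (Finset.mem_insert_self _ _), rfl⟩)⟩

end


/-- An R-algebra of finite type is the colimit of a filtered system of finitely presented R-algebras
whose transition maps are all surjective. -/
theorem result (R A : Type u) [CommRing R] [CommRing A]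
    [Algebra R A] [Algebra.FiniteType R A] :
    ∃ (I : Type u) (_ : SmallCategory I) (_ : IsFiltered I) (D : I ⥤ Under (CommRingCat.of R))
      (c : Cocone D) (_ : IsColimit c),
      (∀ i, (D.obj i).hom.hom.FinitePresentation) ∧
      (∀ (i j : I) (φ : i ⟶ j), Function.Surjective (D.map φ).right.hom) ∧
      Nonempty (c.pt ≅ Under.mk (CommRingCat.ofHom (algebraMap R A))) := by
  classical
  obtain ⟨n, π, hπ⟩ := Algebra.FiniteType.iff_quotient_mvPolynomial''.1 (inferInstance : Algebra.FiniteType R A)
  haveI : IsDirectedOrder (Idx π) := ⟨fun s t => ⟨s ∪ t, Finset.subset_union_left, Finset.subset_union_right⟩⟩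
  haveI : Nonempty (Idx π) := ⟨∅⟩
  haveI : IsFiltered (Idx π) := isFiltered_of_directed_le_nonempty _
  refine ⟨Idx π, inferInstance, inferInstance, diag π, cocone π, isColimitCocone π hπ, fun t => ?_, fun i j φ => ?_, ⟨Iso.refl _⟩⟩
  · show (algebraMap R (MvPolynomial (Fin n) R ⧸ idl π t)).FinitePresentation
    haveI : Algebra.FinitePresentation R (MvPolynomial (Fin n) R ⧸ idl π t) :=
      Algebra.FinitePresentation.quotient (Submodule.fg_span (t.finite_toSet.image _))
    exact RingHom.finitePresentation_algebraMap.2 inferInstance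
  · exact Ideal.Quotient.factor_surjective (idl_mono π (leOfHom φ))

end Groth.Agent.S9179
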