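import Groth.Statements.S9180
import Groth.Agent.Lib.FlatDepth.Rings
import Groth.Agent.Lib.DimF18.Affine
import Groth.Agent.Lib.DimF18.Alg

set_option autoImplicit false
universe u
open CAlg

namespace Groth.Agent.S9180


section
open TensorProduct Order
open Groth.Agent.VarDim Groth.Agent.DimF18

set_option backward.isDefEq.respectTransparency false

variable (k S K : Type u) [Field k] [CommRing S] [Algebra k S] [Algebra.FiniteType k S] [Field K] [Algebra k K]
  (q : Ideal S) [q.IsPrime]

attribute [local instance] Algebra.TensorProduct.rightAlgebra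

noncomputable def proj : (S ⊗[k] K) →ₐ[K] (K ⊗[k] (S ⧸ q)) :=
  { toRingHom := ((Algebra.TensorProduct.map (AlgHom.id k K) (Ideal.Quotient.mkₐ k q)).comp
      (Algebra.TensorProduct.comm k S K).toAlgHom).toRingHom
    commutes' := fun c => rfl }

theorem proj_tmul (s : S) (c : K) : proj k S K q (s ⊗ₜ c) = c ⊗ₜ Ideal.Quotient.mk q s := rfl

theorem proj_surjective : Function.Surjective (proj k S K q) :=
  (TensorProduct.map_surjective Function.surjective_id Ideal.Quotient.mk_surjective).comp
    (Algebra.TensorProduct.comm k S K).surjective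

theorem ker_proj : RingHom.ker (proj k S K q) = q.map (algebraMap S (S ⊗[k] K)) := by
  refine le_antisymm (fun x hx => ?_) (Ideal.map_le_iff_le_comap.2 fun a ha => ?_)
  · have h1 : Algebra.TensorProduct.comm k S K x ∈
        RingHom.ker (Algebra.TensorProduct.map (AlgHom.id k K) (Ideal.Quotient.mkₐ k q)) := hx
    rw [Algebra.TensorProduct.lTensor_ker (R := k) (A := K) (Ideal.Quotient.mkₐ k q) Ideal.Quotient.mk_surjective] at h1
    have hle : Ideal.map (Algebra.TensorProduct.includeRight (R := k) (A := K) (B := S))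
        (RingHom.ker (Ideal.Quotient.mkₐ k q)) ≤
        (q.map (algebraMap S (S ⊗[k] K))).comap (Algebra.TensorProduct.comm k K S).toRingHom := by
      refine Ideal.map_le_iff_le_comap.2 fun a ha => ?_
      show a ⊗ₜ[k] (1 : K) ∈ q.map (algebraMap S (S ⊗[k] K))
      exact Ideal.mem_map_of_mem _ (Ideal.Quotient.eq_zero_iff_mem.1 ha)
    have h3 := hle h1
    rw [Ideal.mem_comap] at h3
    have h4 : (Algebra.TensorProduct.comm k K S).toRingHom (Algebra.TensorProduct.comm k S K x) = x :=
      TensorProduct.induction_on x (by simp) (fun a b => rfl) fun a b ha hb => by simp only [map_add, ha, hb]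
    exact h4 ▸ h3
  · show proj k S K q (a ⊗ₜ[k] (1 : K)) = 0
    rw [proj_tmul, Ideal.Quotient.eq_zero_iff_mem.2 ha, TensorProduct.tmul_zero]

instance finiteType_right : Algebra.FiniteType K (S ⊗[k] K) :=
  Algebra.FiniteType.equiv (inferInstance : Algebra.FiniteType K (K ⊗[k] S))
    { toRingEquiv := (Algebra.TensorProduct.comm k K S).toRingEquiv
      commutes' := fun c => rfl }

theorem height_map_of_ker {A B : Type u} [CommRing A] [CommRing B] (f : A →+* B) (hf : Function.Surjective f)
    {J : Ideal A} (hJ : RingHom.ker f = J) (Q : Ideal A) :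
    (Q.map f).height = (Q.map (Ideal.Quotient.mk J)).height := by
  subst hJ
  rw [← RingEquiv.height_map (RingHom.quotientKerEquivOfSurjective hf) (Q.map (Ideal.Quotient.mk (RingHom.ker f)))]
  exact congrArg Ideal.height (Ideal.map_map (Ideal.Quotient.mk (RingHom.ker f))
    ((RingHom.quotientKerEquivOfSurjective hf) : A ⧸ RingHom.ker f →+* B)).symm

theorem dim_fib (Q : Ideal (S ⊗[k] K)) [Q.IsPrime] (hQ : Q.comap (algebraMap S (S ⊗[k] K)) = q) :
    ringKrullDim (Localization.AtPrime Q) = ringKrullDim (Localization.AtPrime q) +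
        ringKrullDim (EGA4.FibLocRing S (S ⊗[k] K) Q) ∧
      ringKrullDim (EGA4.FibLocRing S (S ⊗[k] K) Q) =
        ((Q.map (proj k S K q).toRingHom).height : WithBot ℕ∞) := by
  haveI : IsNoetherianRing S := Algebra.FiniteType.isNoetherianRing k S
  haveI : IsNoetherianRing (S ⊗[k] K) := Algebra.FiniteType.isNoetherianRing K _
  haveI : Module.Flat S (S ⊗[k] K) := Module.Flat.baseChange k S K
  obtain ⟨-, h⟩ := FlatDepth.ring_invariants (A := S) Q
  haveI : Q.LiesOver q := ⟨hQ.symm⟩
  subst hQ
  refine ⟨h, ?_⟩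
  have h2 := Ideal.height_eq_height_add_of_liesOver_of_hasGoingDown (Q.comap (algebraMap S (S ⊗[k] K))) Q
  have h3 := height_map_of_ker (proj k S K (Q.comap (algebraMap S (S ⊗[k] K)))).toRingHom
    (proj_surjective k S K _) (ker_proj k S K (Q.comap (algebraMap S (S ⊗[k] K)))) Q
  rw [h3]
  rw [IsLocalization.AtPrime.ringKrullDim_eq_height Q, IsLocalization.AtPrime.ringKrullDim_eq_height
    (Q.comap (algebraMap S (S ⊗[k] K))), h2] at h
  obtain ⟨a, ha⟩ : ∃ a : ℕ, (Q.comap (algebraMap S (S ⊗[k] K))).height = a :=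
    ⟨_, (ENat.natCast_toNat (Ideal.height_ne_top (Ideal.IsPrime.ne_top inferInstance))).symm⟩
  rw [ha] at h
  push_cast at h
  generalize ringKrullDim (EGA4.FibLocRing S (S ⊗[k] K) Q) = X at h ⊢
  cases X with
  | bot => rw [WithBot.add_bot] at h; exact absurd h (by rw [← WithBot.coe_natCast, ← WithBot.coe_add]; exact WithBot.coe_ne_bot)
  | coe x =>
    rw [← WithBot.coe_natCast, ← WithBot.coe_add, ← WithBot.coe_add] at h
    exact congrArg WithBot.some ((ENat.add_left_injective_of_ne_top (ENat.natCast_ne_top a)) (by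
      simpa [add_comm] using (WithBot.coe_injective h).symm))

theorem strictMono_comap {A B : Type u} [CommRing A] [CommRing B] (f : A →+* B) (hf : Function.Surjective f) :
    StrictMono (PrimeSpectrum.comap f) :=
  Monotone.strictMono_of_injective (fun _ _ h => Ideal.comap_mono h)
    (PrimeSpectrum.comap_injective_of_surjective f hf)

theorem exists_quot_point {A : Type u} [CommRing A] (P : Ideal A) (x : PrimeSpectrum A) (hle : P ≤ x.asIdeal) :
    ∃ y : PrimeSpectrum (A ⧸ P), height y ≤ height x ∧ coheight y ≤ coheight x := by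
  have hsm := strictMono_comap (Ideal.Quotient.mk P) Ideal.Quotient.mk_surjective
  let y : PrimeSpectrum (A ⧸ P) := ⟨x.asIdeal.map (Ideal.Quotient.mk P),
    Ideal.map_isPrime_of_surjective Ideal.Quotient.mk_surjective (by rwa [Ideal.mk_ker])⟩
  have hy : PrimeSpectrum.comap (Ideal.Quotient.mk P) y = x := PrimeSpectrum.ext (by
    show (x.asIdeal.map (Ideal.Quotient.mk P)).comap (Ideal.Quotient.mk P) = x.asIdeal
    rw [Ideal.comap_map_of_surjective _ Ideal.Quotient.mk_surjective, ← RingHom.ker_eq_comap_bot, Ideal.mk_ker,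
      sup_eq_left.2 hle])
  exact ⟨y, hy ▸ height_le_height_apply_of_strictMono _ hsm y,
    hy ▸ coheight_le_coheight_apply_of_strictMono _ hsm y⟩

theorem height_bc (Q : Ideal (K ⊗[k] (S ⧸ q))) [Q.IsPrime] :
    (Q.height : ℕ∞) + (tdeg K ((K ⊗[k] (S ⧸ q)) ⧸ Q) : ℕ∞) = (tdeg k (S ⧸ q) : ℕ∞) := by
  let E := K ⊗[k] (S ⧸ q)
  have hmin : ∀ P : PrimeSpectrum E, P.asIdeal ∈ minimalPrimes E →
      coheight P = (tdeg k (S ⧸ q) : ℕ∞) := fun P hP => by
    haveI := P.2
    rw [coheight_eq_tdeg K E P]
    apply WithBot.coe_injective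
    refine (ringKrullDim_eq_tdeg K (E ⧸ P.asIdeal)).symm.trans ?_
    refine (ringKrullDim_quotient_minimalPrime k K (S ⧸ q) hP).trans ?_
    exact ringKrullDim_eq_tdeg k (S ⧸ q)
  have hdim : Order.krullDim (PrimeSpectrum E) ≤ ((tdeg k (S ⧸ q) : ℕ∞) : WithBot ℕ∞) := by
    haveI : Nonempty (PrimeSpectrum E) := ⟨⟨Q, inferInstance⟩⟩
    rw [Order.krullDim_eq_iSup_coheight_of_nonempty]
    refine WithBot.coe_le_coe.2 (iSup_le fun p => ?_)
    obtain ⟨P, hP, hle⟩ := Ideal.exists_minimalPrimes_le (I := (⊥ : Ideal E)) (J := p.asIdeal) bot_le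
    exact (coheight_anti (a := (⟨P, hP.1.1⟩ : PrimeSpectrum E)) hle).trans (hmin _ hP).le
  let Qs : PrimeSpectrum E := ⟨Q, inferInstance⟩
  have hh : Q.height = height Qs := PrimeSpectrum.height_eq_orderHeight Qs
  have hc : (tdeg K (E ⧸ Q) : ℕ∞) = coheight Qs := (coheight_eq_tdeg K E Qs).symm
  rw [hh, hc]
  refine le_antisymm (WithBot.coe_le_coe.1 ((height_add_coheight_le_krullDim Qs).trans hdim)) ?_
  obtain ⟨P, hP, hle⟩ := Ideal.exists_minimalPrimes_le (I := (⊥ : Ideal E)) (J := Q) bot_le
  haveI : P.IsPrime := hP.1.1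
  obtain ⟨Qb, h1, h2⟩ := exists_quot_point P Qs hle
  have h3 : height Qb + coheight Qb = (tdeg k (S ⧸ q) : ℕ∞) := by
    rw [height_add_coheight_nat K (E ⧸ P) Qb, ← coheight_eq_tdeg K E ⟨P, inferInstance⟩]
    exact hmin ⟨P, inferInstance⟩ hP
  exact h3 ▸ add_le_add h1 h2

end



open TensorProduct in
/-- Let S be of finite type over a field k, K an extension field of k, S_K = S ⊗_k K, q a prime of S
whose residue field has transcendence degree r over k, and q_K a prime of S_K lying over q whose
residue field has transcendence degree r_K over K. Then the local ring at q_K of the fibre of S →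
S_K over q has dimension dim (S_K)_{q_K} − dim S_q = r − r_K (stated additively), and there is a
prime of S_K over q for which this dimension is zero. -/
theorem result (k S K : Type u) [Field k] [CommRing S] [Algebra k S]
    [Algebra.FiniteType k S] [Field K] [Algebra k K] (q : Ideal S) [q.IsPrime] (r : ℕ)
    (hr : Algebra.trdeg k q.ResidueField = r) (qK : Ideal (S ⊗[k] K)) [qK.IsPrime] [qK.LiesOver q]
    (rK : ℕ)
    (hrK : letI : Algebra K (S ⊗[k] K) := Algebra.TensorProduct.rightAlgebra
      Algebra.trdeg K qK.ResidueField = rK) :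
    ringKrullDim (EGA4.FibLocRing S (S ⊗[k] K) qK) + ringKrullDim (Localization.AtPrime q) =
        ringKrullDim (Localization.AtPrime qK) ∧
      ringKrullDim (EGA4.FibLocRing S (S ⊗[k] K) qK) + (rK : WithBot ℕ∞) = (r : WithBot ℕ∞) ∧
      ∃ (q' : Ideal (S ⊗[k] K)) (_ : q'.IsPrime), q'.LiesOver q ∧
        ringKrullDim (EGA4.FibLocRing S (S ⊗[k] K) q') = 0 := by
  classical
  letI : Algebra K (S ⊗[k] K) := Algebra.TensorProduct.rightAlgebra
  have hq : qK.comap (algebraMap S (S ⊗[k] K)) = q := (Ideal.LiesOver.over (P := qK) (p := q)).symm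
  obtain ⟨h1, h2⟩ := dim_fib k S K q qK hq
  have hker : RingHom.ker (proj k S K q).toRingHom ≤ qK := by
    have := ker_proj k S K q
    rw [show RingHom.ker (proj k S K q).toRingHom = RingHom.ker (proj k S K q) from rfl, this, ← hq]
    exact Ideal.map_comap_le
  haveI hprime : (qK.map (proj k S K q).toRingHom).IsPrime :=
    Ideal.map_isPrime_of_surjective (f := (proj k S K q).toRingHom) (proj_surjective k S K q) hker
  refine ⟨by rw [h1, add_comm], ?_, ?_⟩
  · have h3 := height_bc k S K q (qK.map (proj k S K q).toRingHom)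
    have hr' : r = Groth.Agent.VarDim.tdeg k (S ⧸ q) := by
      rw [Groth.Agent.DimF18.trdeg_residueField_eq k S ⟨q, inferInstance⟩, Nat.cast_inj] at hr
      exact hr.symm
    have hrK' : rK = Groth.Agent.VarDim.tdeg K ((TensorProduct k K (S ⧸ q)) ⧸ qK.map (proj k S K q).toRingHom) := by
      rw [Groth.Agent.DimF18.trdeg_residueField_eq K (S ⊗[k] K) ⟨qK, inferInstance⟩, Nat.cast_inj] at hrK
      rw [← hrK]
      let e : ((S ⊗[k] K) ⧸ qK) ≃ₐ[K] ((TensorProduct k K (S ⧸ q)) ⧸ qK.map (proj k S K q).toRingHom) :=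
        AlgEquiv.ofBijective
          (Ideal.Quotient.liftₐ qK ((Ideal.Quotient.mkₐ K _).comp (proj k S K q)) fun a ha =>
            Ideal.Quotient.eq_zero_iff_mem.2 (Ideal.mem_map_of_mem _ ha))
          ⟨(injective_iff_map_eq_zero _).2 fun x hx => by
            obtain ⟨a, rfl⟩ := Ideal.Quotient.mk_surjective x
            have h : proj k S K q a ∈ qK.map (proj k S K q).toRingHom := Ideal.Quotient.eq_zero_iff_mem.1 hx
            rw [Ideal.mem_map_iff_of_surjective (proj k S K q).toRingHom (proj_surjective k S K q)] at h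
            obtain ⟨b, hb, hab⟩ := h
            rw [Ideal.Quotient.eq_zero_iff_mem]
            have hsub : a - b ∈ qK := hker (by rw [RingHom.mem_ker, map_sub]; exact sub_eq_zero.2 hab.symm)
            simpa using add_mem hsub hb,
          fun y => by
            obtain ⟨z, rfl⟩ := Ideal.Quotient.mk_surjective y
            obtain ⟨a, rfl⟩ := proj_surjective k S K q z
            exact ⟨Ideal.Quotient.mk qK a, rfl⟩⟩
      exact congrArg Cardinal.toNat e.trdeg_eq
    rw [h2, hr', hrK']
    exact_mod_cast h3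
  · haveI : Nontrivial (TensorProduct k K (S ⧸ q)) := by
      refine not_subsingleton_iff_nontrivial.1 fun _ => hprime.ne_top ?_
      exact Ideal.eq_top_iff_one _ |>.2 (Subsingleton.elim (0 : TensorProduct k K (S ⧸ q)) 1 ▸ zero_mem _)
    obtain ⟨P, hP⟩ := Ideal.nonempty_minimalPrimes (I := (⊥ : Ideal (TensorProduct k K (S ⧸ q)))) bot_ne_top
    haveI : P.IsPrime := hP.1.1
    let Q := P.comap (proj k S K q).toRingHom
    have hQ : Q.comap (algebraMap S (S ⊗[k] K)) = q := by
      refine le_antisymm (fun a ha => ?_) fun a ha => ?_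
      · by_contra hne
        have hmem : (1 : K) ⊗ₜ[k] Ideal.Quotient.mk q a ∈ P := ha
        refine notMem_nonZeroDivisors_of_mem_mem_minimalPrimes hmem hP ?_
        rw [mem_nonZeroDivisors_iff_right]
        intro z hz
        have hinj := Module.Flat.lTensor_preserves_injective_linearMap (M := K)
          (LinearMap.mulLeft k (Ideal.Quotient.mk q a))
          (fun x y hxy => mul_left_cancel₀ (fun h => hne (Ideal.Quotient.eq_zero_iff_mem.1 h)) hxy)
        have key : ∀ w : TensorProduct k K (S ⧸ q), (LinearMap.mulLeft k (Ideal.Quotient.mk q a)).lTensor K w =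
            w * ((1 : K) ⊗ₜ[k] Ideal.Quotient.mk q a) := fun w => by
          induction w using TensorProduct.induction_on with
          | zero => simp
          | tmul x y => simp [Algebra.TensorProduct.tmul_mul_tmul, mul_comm]
          | add x y hx hy => simp only [map_add, hx, hy, add_mul]
        refine hinj ?_
        rw [map_zero, key]
        exact hz
      · show proj k S K q (a ⊗ₜ[k] (1 : K)) ∈ P
        rw [proj_tmul, Ideal.Quotient.eq_zero_iff_mem.2 ha, TensorProduct.tmul_zero]
        exact zero_mem P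
    refine ⟨Q, inferInstance, ⟨hQ.symm⟩, ?_⟩
    rw [(dim_fib k S K q Q hQ).2, Ideal.map_comap_of_surjective (proj k S K q).toRingHom (proj_surjective k S K q),
      Ideal.height_eq_zero_iff.2 hP]
    rfl

end Groth.Agent.S9180
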