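import Groth.Statements.S9181
import Groth.Agent.S9175
import Groth.Agent.S2100

set_option autoImplicit false
universe u
open CAlg

namespace Groth.Agent.S9181


open MvPolynomial

theorem exists_clear (R : Type u) [CommRing R] (p : Ideal R) [p.IsPrime] {σ : Type*}
    (f : MvPolynomial σ p.ResidueField) :
    ∃ c : R, c ∉ p ∧ ∃ F : MvPolynomial σ R,
      MvPolynomial.map (algebraMap R p.ResidueField) F = C (algebraMap R p.ResidueField c) * f := by
  induction f using MvPolynomial.induction_on with
  | C a =>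
    obtain ⟨⟨a₀, s⟩, hs⟩ := IsLocalization.surj (nonZeroDivisors (R ⧸ p)) a
    obtain ⟨b, rfl⟩ := Ideal.Quotient.mk_surjective a₀
    obtain ⟨c, hc⟩ := Ideal.Quotient.mk_surjective (s : R ⧸ p)
    rw [← hc] at hs
    refine ⟨c, fun h => nonZeroDivisors.coe_ne_zero s ?_, C b, ?_⟩
    · rw [← hc, Ideal.Quotient.eq_zero_iff_mem.2 h]
    · rw [map_C, ← map_mul, mul_comm]
      exact congrArg C hs.symm
  | add x y hx hy =>
    obtain ⟨c, hc, F, hF⟩ := hx
    obtain ⟨d, hd, G, hG⟩ := hy
    refine ⟨c * d, fun h => (Ideal.IsPrime.mem_or_mem ‹_› h).elim hc hd, C d * F + C c * G, ?_⟩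
    simp only [map_add, map_mul, map_C, hF, hG]
    ring
  | mul_X x i hx =>
    obtain ⟨c, hc, F, hF⟩ := hx
    exact ⟨c, hc, F * X i, by rw [map_mul, map_X, hF, mul_assoc]⟩

theorem comap_span_X {R : Type u} [CommRing R] (p : Ideal R) [p.IsPrime] {n : ℕ} (r : ℕ) :
    (Ideal.span (Set.range fun i : {i : Fin n // r ≤ (i : ℕ)} =>
        (X (i : Fin n) : MvPolynomial (Fin n) p.ResidueField))).comap
      (MvPolynomial.map (algebraMap R p.ResidueField)) =
    p.map (algebraMap R (MvPolynomial (Fin n) R)) ⊔
      Ideal.span (Set.range fun i : {i : Fin n // r ≤ (i : ℕ)} =>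
        (X (i : Fin n) : MvPolynomial (Fin n) R)) := by
  set J := Ideal.span (Set.range fun i : {i : Fin n // r ≤ (i : ℕ)} =>
    (X (i : Fin n) : MvPolynomial (Fin n) R))
  set π := MvPolynomial.map (σ := Fin n) (algebraMap R p.ResidueField)
  refine le_antisymm (fun z hz => ?_) (sup_le ?_ ?_)
  · let e : MvPolynomial (Fin n) R →ₐ[R] MvPolynomial (Fin n) R :=
      aeval fun i : Fin n => if (i : ℕ) < r then X i else 0
    have he : (Ideal.Quotient.mkₐ R J).comp e = Ideal.Quotient.mkₐ R J :=
      MvPolynomial.algHom_ext fun i => by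
        simp only [AlgHom.comp_apply, e, aeval_X]
        by_cases hi : (i : ℕ) < r
        · rw [if_pos hi]
        · rw [if_neg hi, map_zero]
          exact (Ideal.Quotient.eq_zero_iff_mem.2 (Ideal.subset_span (Set.mem_range_self
            (f := fun i : {i : Fin n // r ≤ (i : ℕ)} => (X (i : Fin n) : MvPolynomial (Fin n) R))
            ⟨i, not_lt.1 hi⟩))).symm
    have hz1 : z - e z ∈ J := Ideal.Quotient.eq.1 (DFunLike.congr_fun he z).symm
    have hcomm : π.comp e.toRingHom = (S2100.cut p.ResidueField n r).toRingHom.comp π := by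
      refine MvPolynomial.ringHom_ext (fun a => by simp [π, e, S2100.cut]) fun i => ?_
      by_cases hi : (i : ℕ) < r <;> simp [π, e, S2100.cut, hi]
    have hz2 : e z ∈ p.map (algebraMap R (MvPolynomial (Fin n) R)) := by
      have h0 : π (e z) = 0 := by
        rw [Ideal.mem_comap, ← S2100.ker_cut] at hz
        exact (RingHom.congr_fun hcomm z).trans hz
      rw [MvPolynomial.algebraMap_eq, ← p.ker_algebraMap_residueField, ← MvPolynomial.ker_map]
      exact h0
    rw [← add_sub_cancel (e z) z]
    exact Submodule.add_mem_sup hz2 hz1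
  · rw [Ideal.map_le_iff_le_comap]
    intro a ha
    simp [π, Ideal.algebraMap_residueField_eq_zero.2 ha]
  · rw [Ideal.span_le]
    rintro _ ⟨i, rfl⟩
    simp only [SetLike.mem_coe, Ideal.mem_comap, π, map_X]
    exact Ideal.subset_span ⟨i, rfl⟩

theorem exists_scale (k : Type u) [Field k] (n r : ℕ) (c : Fin n → k) (hc : ∀ i, c i ≠ 0) :
    ∃ σ : MvPolynomial (Fin n) k →ₐ[k] MvPolynomial (Fin n) k, (∀ i, σ (X i) = C (c i) * X i) ∧
      Function.Surjective σ ∧
      (Ideal.span (Set.range fun i : {i : Fin n // r ≤ (i : ℕ)} =>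
        (X (i : Fin n) : MvPolynomial (Fin n) k))).comap σ =
      Ideal.span (Set.range fun i : {i : Fin n // r ≤ (i : ℕ)} =>
        (X (i : Fin n) : MvPolynomial (Fin n) k)) := by
  let sc : (Fin n → k) → (MvPolynomial (Fin n) k →ₐ[k] MvPolynomial (Fin n) k) :=
    fun d => aeval fun i => C (d i) * X i
  let J := Ideal.span (Set.range fun i : {i : Fin n // r ≤ (i : ℕ)} =>
        (X (i : Fin n) : MvPolynomial (Fin n) k))
  have hJ : ∀ d, J ≤ J.comap (sc d) := fun d => Ideal.span_le.2 (by
    rintro _ ⟨i, rfl⟩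
    simp only [SetLike.mem_coe, Ideal.mem_comap, sc, aeval_X]
    exact J.mul_mem_left _ (Ideal.subset_span ⟨i, rfl⟩))
  let d := fun i => (c i)⁻¹
  have h1 : (sc c).comp (sc d) = AlgHom.id k _ := MvPolynomial.algHom_ext fun i => by
    simp only [sc, d, AlgHom.comp_apply, AlgHom.id_apply, aeval_X, map_mul, aeval_C, ← mul_assoc,
      MvPolynomial.algebraMap_eq]
    rw [← map_mul C, inv_mul_cancel₀ (hc i), map_one, one_mul]
  have h2 : (sc d).comp (sc c) = AlgHom.id k _ := MvPolynomial.algHom_ext fun i => by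
    simp only [sc, d, AlgHom.comp_apply, AlgHom.id_apply, aeval_X, map_mul, aeval_C, ← mul_assoc,
      MvPolynomial.algebraMap_eq]
    rw [← map_mul C, mul_inv_cancel₀ (hc i), map_one, one_mul]
  refine ⟨sc c, fun i => by simp [sc], fun z => ⟨sc d z, DFunLike.congr_fun h1 z⟩,
    le_antisymm (fun z hz => ?_) (hJ c)⟩
  have h := hJ d hz
  rwa [Ideal.mem_comap, show sc d (sc c z) = z from DFunLike.congr_fun h2 z] at h

theorem shrink {R P S : Type u} [CommRing R] [CommRing P] [CommRing S] [Algebra R P] [Algebra R S]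
    (h : S) [Algebra P (Localization.Away h)] [IsScalarTower R P (Localization.Away h)]
    [Algebra.FiniteType P (Localization.Away h)] [Algebra.FiniteType R P]
    (q : Ideal S) [q.IsPrime] (x' : Ideal (Localization.Away h)) [x'.IsPrime]
    (hh : h ∉ q) (hx : x'.comap (algebraMap S (Localization.Away h)) = q)
    [Algebra.QuasiFiniteAt P x'] :
    ∃ g : S, g ∉ q ∧ ∃ φ : P →ₐ[R] Localization.Away g, φ.toRingHom.FiniteType ∧
      φ.toRingHom.QuasiFinite ∧
      (q.map (algebraMap S (Localization.Away g))).comap φ = x'.comap (algebraMap P _) := by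
  let S' := Localization.Away h
  obtain ⟨S₁, hS₁, r, hr, hbij⟩ :=
    Algebra.QuasiFiniteAt.exists_fg_and_exists_notMem_and_awayMap_bijective (R := P) x'
  haveI : Module.Finite P S₁ := ⟨(Submodule.fg_top _).mpr hS₁⟩
  haveI : Algebra.QuasiFinite P (Localization.Away r) := .trans _ S₁ _
  haveI hqfT : Algebra.QuasiFinite P (Localization.Away r.1) :=
    Algebra.QuasiFinite.of_surjective_algHom (R := P) (S := Localization.Away r)
      (Localization.awayMapₐ S₁.val r) hbij.2
  obtain ⟨k, a, ha⟩ := IsLocalization.Away.surj (S := S') h r.1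
  haveI : IsLocalization.Away (algebraMap S S' a) (Localization.Away r.1) :=
    IsLocalization.Away.of_associated (r := r.1)
      ⟨(IsLocalization.Away.algebraMap_pow_isUnit h k).unit, ha⟩
  haveI : IsLocalization.Away (h * a) (Localization.Away r.1) := IsLocalization.Away.mul' S' _ h a
  have hg : h * a ∉ q := fun hmem => by
    rcases Ideal.IsPrime.mem_or_mem ‹_› hmem with h' | h'
    · exact hh h'
    · refine hr ?_
      have h1 : algebraMap S S' a ∈ x' := by
        rw [← hx] at h'; exact h'
      rw [← ha] at h1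
      exact (Ideal.IsPrime.mem_or_mem ‹_› h1).resolve_right fun hu =>
        Ideal.IsPrime.ne_top ‹_› (Ideal.eq_top_of_isUnit_mem _ hu
          (IsLocalization.Away.algebraMap_pow_isUnit h k))
  refine ⟨h * a, hg, ?_⟩
  let e : Localization.Away r.1 ≃ₐ[S] Localization.Away (h * a) :=
    IsLocalization.algEquiv (Submonoid.powers (h * a)) _ _
  let ι : S' →ₐ[R] Localization.Away (h * a) :=
    (e.restrictScalars R).toAlgHom.comp (IsScalarTower.toAlgHom R S' (Localization.Away r.1))
  let φ : P →ₐ[R] Localization.Away (h * a) :=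
    ι.comp (IsScalarTower.toAlgHom R P S')
  have hφ : φ.toRingHom = (e.restrictScalars R).toAlgHom.toRingHom.comp
      (algebraMap P (Localization.Away r.1)) := by
    rw [IsScalarTower.algebraMap_eq P S' (Localization.Away r.1)]
    rfl
  refine ⟨φ, ?_, ?_, ?_⟩
  · rw [hφ]
    exact (RingHom.FiniteType.of_surjective _ (e.restrictScalars R).surjective).comp
      (RingHom.finiteType_algebraMap.2 (Algebra.FiniteType.trans (S := S') inferInstance
        (IsLocalization.finiteType_of_monoid_fg (Submonoid.powers r.1) _)))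
  · rw [hφ]
    exact RingHom.QuasiFinite.comp (RingHom.QuasiFinite.of_finite
      (RingHom.Finite.of_surjective _ (e.restrictScalars R).surjective))
      (RingHom.quasiFinite_algebraMap.2 hqfT)
  · have hd : Disjoint (Submonoid.powers (h * a) : Set S) q :=
      (Ideal.disjoint_powers_iff_notMem_of_isPrime (h * a)).2 hg
    have hι : ι.toRingHom.comp (algebraMap S S') = algebraMap S _ := RingHom.ext fun s => by
      show e (algebraMap S' _ (algebraMap S S' s)) = _
      rw [← IsScalarTower.algebraMap_apply, e.commutes]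
    have h3 : ((q.map (algebraMap S (Localization.Away (h * a)))).comap ι.toRingHom) = x' := by
      rw [← IsLocalization.map_comap (Submonoid.powers h) S' x', Ideal.under_def, hx,
        ← IsLocalization.map_comap (Submonoid.powers h) S'
          ((q.map (algebraMap S (Localization.Away (h * a)))).comap ι.toRingHom),
        Ideal.under_def, Ideal.comap_comap, hι,
        ← Ideal.under_def, IsLocalization.comap_map_of_isPrime_disjoint (Submonoid.powers (h * a)) _ ‹_› hd]
    rw [← h3, Ideal.comap_comap]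
    rfl



theorem exists_lift {R S K : Type u} [CommRing R] [CommRing S] [Algebra R S] [CommRing K] [Algebra R K]
    (f : S →ₐ[R] K) (g : S) (hg : IsUnit (f g)) :
    ∃ β : Localization.Away g →ₐ[R] K, β.toRingHom.comp (algebraMap S (Localization.Away g)) = f.toRingHom :=
  ⟨IsLocalization.Away.liftAlgHom g (f := f) hg, RingHom.ext fun s =>
    IsLocalization.Away.lift_eq (g := f.toRingHom) g hg s⟩

theorem finite_preimage {A B : Type u} [CommRing A] [CommRing B] (f : A →+* B) (hf : f.QuasiFinite)
    {s : Set (PrimeSpectrum A)} (hs : s.Finite) : (PrimeSpectrum.comap f ⁻¹' s).Finite := by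
  algebraize [f]
  exact Algebra.QuasiFinite.finite_comap_preimage hs

/-- Let R → S be of finite type, q a prime of S over p, Q the prime of κ(p) ⊗ S over q, with the fibre
of local dimension n at Q and κ(q) of transcendence degree r over κ(p). Then for some f ∉ p and g ∉
q there is an R-algebra map φ : R_f[x_1, …, x_n] → S_g, of finite type and quasi-finite, such that
the inverse image of q S_g under φ is the ideal generated by p and the variables x_{r+1}, …, x_n. -/
theorem result (R S : Type u) [CommRing R] [CommRing S]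
    [Algebra R S] [Algebra.FiniteType R S] (p : Ideal R) [p.IsPrime] (q : Ideal S) [q.IsPrime] [q.LiesOver p]
    [Algebra (Localization.AtPrime p) (Localization.AtPrime q)]
    [Localization.AtPrime.IsLiesOverAlgebra p q] (Q : PrimeSpectrum (p.Fiber S))
    (hQ : Q.asIdeal.comap (Algebra.TensorProduct.includeRight.toRingHom) = q) (n r : ℕ)
    (hdim : FlatMor.localDim (PrimeSpectrum (p.Fiber S)) Q = (n : WithBot ℕ∞))
    (hr : Algebra.trdeg p.ResidueField q.ResidueField = r) :
    ∃ (f : R) (g : S), f ∉ p ∧ g ∉ q ∧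
      ∃ φ : MvPolynomial (Fin n) (Localization.Away f) →ₐ[R] Localization.Away g,
        φ.toRingHom.FiniteType ∧ φ.toRingHom.QuasiFinite ∧
        (q.map (algebraMap S (Localization.Away g))).comap φ =
          p.map (algebraMap R (MvPolynomial (Fin n) (Localization.Away f))) ⊔
            Ideal.span (Set.range fun i : {i : Fin n // r ≤ (i : ℕ)} =>
              (MvPolynomial.X (i : Fin n) : MvPolynomial (Fin n) (Localization.Away f))) := by
  classical
  obtain ⟨g₀, hg₀, φ, hφft, hφqf⟩ := S9175.result R S p q Q hQ n hdim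
  let S' := Localization.Away g₀
  let P := MvPolynomial (Fin n) R
  let k := p.ResidueField
  let K := q.ResidueField
  haveI : IsScalarTower R k K := IsScalarTower.of_algebraMap_eq fun a => by
    rw [IsScalarTower.algebraMap_apply R (Localization.AtPrime p) k,
      IsScalarTower.algebraMap_apply R (Localization.AtPrime q) K,
      IsScalarTower.algebraMap_apply R (Localization.AtPrime p) (Localization.AtPrime q)]
    rfl
  have hgK : IsUnit (IsScalarTower.toAlgHom R S K g₀) :=
    isUnit_iff_ne_zero.2 fun h => hg₀ (Ideal.algebraMap_residueField_eq_zero.1 h)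
  obtain ⟨β, hβ0⟩ := exists_lift (IsScalarTower.toAlgHom R S K) g₀ hgK
  have hβ : β.toRingHom.comp (algebraMap S S') = algebraMap S K := hβ0
  let q' : Ideal S' := RingHom.ker β
  have hq'q : q'.comap (algebraMap S S') = q := by
    show (RingHom.ker β.toRingHom).comap _ = q
    rw [RingHom.comap_ker, hβ, Ideal.ker_algebraMap_residueField]
  haveI : q'.IsPrime := RingHom.ker_isPrime _
  let π : P →+* MvPolynomial (Fin n) k := MvPolynomial.map (algebraMap R k)
  let α : MvPolynomial (Fin n) k →ₐ[k] K := aeval fun i => β (φ (X i))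
  have hαπ : α.toRingHom.comp π = (β.comp φ).toRingHom :=
    MvPolynomial.ringHom_ext (fun a => by
      show α (π (C a)) = β (φ (C a))
      rw [← MvPolynomial.algebraMap_eq, φ.commutes, β.commutes, MvPolynomial.algebraMap_eq, map_C,
        aeval_C, ← IsScalarTower.algebraMap_apply])
      fun i => by simp [π, α]
  let q₀ : Ideal (MvPolynomial (Fin n) k) := RingHom.ker α
  haveI : q₀.IsPrime := RingHom.ker_isPrime _
  have htr : Algebra.trdeg k q₀.ResidueField = r := by
    letI : Algebra P S' := φ.toRingHom.toAlgebra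
    haveI : Algebra.QuasiFinite P S' := hφqf
    letI : Algebra P K := (β.comp φ).toRingHom.toAlgebra
    let β' : S' →ₐ[P] K := { β.toRingHom with commutes' := fun _ => rfl }
    haveI : Algebra.QuasiFinite P K := Algebra.QuasiFinite.of_forall_exists_mul_mem_range β' fun x => by
      obtain ⟨⟨a₀, s⟩, hs⟩ := IsLocalization.surj (nonZeroDivisors (S ⧸ q)) x
      obtain ⟨a, rfl⟩ := Ideal.Quotient.mk_surjective a₀
      obtain ⟨b, hb⟩ := Ideal.Quotient.mk_surjective (s : S ⧸ q)
      rw [← hb, Ideal.algebraMap_quotient_residueField_mk,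
        Ideal.algebraMap_quotient_residueField_mk] at hs
      have hbb : β' (algebraMap S S' b) = algebraMap S K b := RingHom.congr_fun hβ b
      refine ⟨algebraMap S S' b, ?_, algebraMap S S' a, ?_⟩
      · rw [hbb, isUnit_iff_ne_zero, Ne, Ideal.algebraMap_residueField_eq_zero]
        exact fun h => nonZeroDivisors.coe_ne_zero s (by rw [← hb, Ideal.Quotient.eq_zero_iff_mem.2 h])
      · rw [hbb]
        exact (RingHom.congr_fun hβ a).trans hs.symm
    let j : q₀.ResidueField →ₐ[k] K := Ideal.ResidueField.liftₐ q₀ α le_rfl fun z hz => by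
      exact isUnit_iff_ne_zero.2 hz
    letI : Algebra q₀.ResidueField K := j.toRingHom.toAlgebra
    haveI : IsScalarTower k q₀.ResidueField K :=
      IsScalarTower.of_algebraMap_eq fun a => (j.commutes a).symm
    letI : Algebra P q₀.ResidueField := ((algebraMap _ q₀.ResidueField).comp π).toAlgebra
    haveI : IsScalarTower P q₀.ResidueField K := IsScalarTower.of_algebraMap_eq fun z => by
      refine (RingHom.congr_fun hαπ z).symm.trans ?_
      exact (Ideal.ResidueField.liftₐ_algebraMap q₀ α le_rfl _ (π z)).symm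
    haveI : Algebra.QuasiFinite q₀.ResidueField K := .of_restrictScalars P _ _
    haveI : Module.Finite q₀.ResidueField K := .of_quasiFinite
    rw [← hr, ← trdeg_add_eq k (S := q₀.ResidueField) (A := K)]
    simp [trdeg_eq_zero]
  obtain ⟨ψ₀, hψ₀f, hψ₀c⟩ := S2100.result n r q₀ htr
  choose c hc F hF using fun i => exists_clear R p (ψ₀ (X i))
  obtain ⟨σ, hσX, hσs, hσc⟩ := exists_scale k n r (fun i => algebraMap R k (c i))
    fun i h => hc i (Ideal.algebraMap_residueField_eq_zero.1 h)
  let ψ₁ : MvPolynomial (Fin n) k →ₐ[k] MvPolynomial (Fin n) k := ψ₀.comp σ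
  have hψ₁f : ψ₁.toRingHom.Finite := hψ₀f.comp (RingHom.Finite.of_surjective _ hσs)
  let ψ : P →ₐ[R] P := aeval F
  have hψπ : π.comp ψ.toRingHom = ψ₁.toRingHom.comp π :=
    MvPolynomial.ringHom_ext (fun a => by
      show π (ψ (C a)) = ψ₁ (π (C a))
      rw [show ψ (C a) = C a from aeval_C _ _, map_C]
      exact (ψ₁.commutes _).symm) fun i => by
      show π (ψ (X i)) = ψ₁ (π (X i))
      rw [show ψ (X i) = F i from aeval_X _ _, map_X]
      show π (F i) = ψ₀ (σ (X i))
      rw [hσX, map_mul]
      refine (hF i).trans (congrArg (· * _) ?_)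
      exact (ψ₀.commutes _).symm
  let Φ : P →ₐ[R] S' := φ.comp ψ
  have hΦq : q'.comap Φ.toRingHom = p.map (algebraMap R P) ⊔
      Ideal.span (Set.range fun i : {i : Fin n // r ≤ (i : ℕ)} => (X (i : Fin n) : P)) := by
    show (RingHom.ker β.toRingHom).comap Φ.toRingHom = _
    rw [RingHom.comap_ker, show β.toRingHom.comp Φ.toRingHom = (α.toRingHom.comp ψ₁.toRingHom).comp π by
      rw [RingHom.comp_assoc, ← hψπ, ← RingHom.comp_assoc, hαπ]; rfl,
      ← RingHom.comap_ker, ← RingHom.comap_ker, ← comap_span_X p r]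
    congr 1
    exact (Ideal.comap_comap (I := q₀) σ.toRingHom ψ₀.toRingHom).symm.trans
      ((congrArg (Ideal.comap σ.toRingHom) hψ₀c).trans hσc)
  letI : Algebra P S' := Φ.toRingHom.toAlgebra
  haveI : IsScalarTower R P S' := IsScalarTower.of_algebraMap_eq fun a => (Φ.commutes a).symm
  haveI : Algebra.FiniteType R S' := .trans (S := S) inferInstance
    (IsLocalization.finiteType_of_monoid_fg (Submonoid.powers g₀) S')
  haveI : Algebra.FiniteType P S' := .of_restrictScalars_finiteType R P S'
  let x : PrimeSpectrum S' := ⟨q', inferInstance⟩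
  let Q1 : PrimeSpectrum P := PrimeSpectrum.comap (algebraMap P S') x
  have hQ1p : ∀ a ∈ p, algebraMap R P a ∈ Q1.asIdeal := fun a ha => by
    show _ ∈ q'.comap Φ.toRingHom
    rw [hΦq]
    exact Ideal.mem_sup_left (Ideal.mem_map_of_mem _ ha)
  have hQ1R : Q1.asIdeal.comap (algebraMap R P) = p := by
    show (q'.comap (algebraMap P S')).comap (algebraMap R P) = p
    rw [Ideal.comap_comap, ← IsScalarTower.algebraMap_eq, IsScalarTower.algebraMap_eq R S S',
      ← Ideal.comap_comap, hq'q]
    exact (Ideal.LiesOver.over (P := q) (p := p)).symm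
  let Q0 : PrimeSpectrum (MvPolynomial (Fin n) k) :=
    PrimeSpectrum.comap ψ₁.toRingHom ⟨q₀, inferInstance⟩
  have hQ01 : PrimeSpectrum.comap π Q0 = Q1 := by
    refine PrimeSpectrum.ext ?_
    show ((RingHom.ker α.toRingHom).comap ψ₁.toRingHom).comap π =
      (RingHom.ker β.toRingHom).comap Φ.toRingHom
    rw [RingHom.comap_ker, RingHom.comap_ker, RingHom.comap_ker, RingHom.comp_assoc, ← hψπ,
      ← RingHom.comp_assoc, hαπ]
    rfl
  have hfin : (PrimeSpectrum.comap ψ.toRingHom ⁻¹' {Q1}).Finite := by
    have hfin0 : (PrimeSpectrum.comap ψ₁.toRingHom ⁻¹' {Q0}).Finite :=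
      finite_preimage _ (RingHom.QuasiFinite.of_finite hψ₁f) (Set.finite_singleton Q0)
    refine (hfin0.image (PrimeSpectrum.comap π)).subset fun P1 hP1 => ?_
    have hP1R : P1.asIdeal.comap (algebraMap R P) = p := by
      rw [← hQ1R, ← (hP1 : PrimeSpectrum.comap ψ.toRingHom P1 = Q1), PrimeSpectrum.comap_asIdeal,
        Ideal.comap_comap, show ψ.toRingHom.comp (algebraMap R P) = algebraMap R P from ψ.comp_algebraMap]
    let e : k →+* P1.asIdeal.ResidueField :=
      Ideal.ResidueField.map p P1.asIdeal (algebraMap R P) hP1R.symm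
    let ev : MvPolynomial (Fin n) k →+* P1.asIdeal.ResidueField :=
      eval₂Hom e fun i => algebraMap P _ (X i)
    have hev : ev.comp π = algebraMap P _ := MvPolynomial.ringHom_ext (fun a => by
      show ev (π (C a)) = _
      rw [map_C, eval₂Hom_C, ← MvPolynomial.algebraMap_eq]
      exact Ideal.ResidueField.map_algebraMap _ _ _ _ a) fun i => by simp [ev, π]
    let P0 : PrimeSpectrum (MvPolynomial (Fin n) k) := ⟨RingHom.ker ev, RingHom.ker_isPrime ev⟩
    have hP0 : PrimeSpectrum.comap π P0 = P1 := PrimeSpectrum.ext (by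
      show (RingHom.ker ev).comap π = P1.asIdeal
      rw [RingHom.comap_ker, hev, Ideal.ker_algebraMap_residueField])
    refine ⟨P0, ?_, hP0⟩
    have hinj : Function.Injective (PrimeSpectrum.comap π) := fun A B hAB => by
      have key : ∀ (D : PrimeSpectrum (MvPolynomial (Fin n) k)) f a G, a ∉ p →
          π G = C (algebraMap R k a) * f → (f ∈ D.asIdeal ↔ G ∈ (PrimeSpectrum.comap π D).asIdeal) :=
        fun D f a G ha hG => by
          have hu : IsUnit (C (algebraMap R k a) : MvPolynomial (Fin n) k) :=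
            (isUnit_iff_ne_zero.2 fun h => ha (Ideal.algebraMap_residueField_eq_zero.1 h)).map C
          rw [PrimeSpectrum.comap_asIdeal, Ideal.mem_comap, hG, Ideal.unit_mul_mem_iff_mem _ hu]
      refine PrimeSpectrum.ext (Ideal.ext fun f => ?_)
      obtain ⟨a, ha, G, hG⟩ := exists_clear R p f
      rw [key A f a G ha hG, key B f a G ha hG, hAB]
    show PrimeSpectrum.comap ψ₁.toRingHom P0 = Q0
    apply hinj
    rw [hQ01, ← (hP1 : PrimeSpectrum.comap ψ.toRingHom P1 = Q1), ← hP0,
      ← PrimeSpectrum.comap_comp_apply, ← PrimeSpectrum.comap_comp_apply, hψπ]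
  have hfinS : (PrimeSpectrum.comap (algebraMap P S') ⁻¹' {Q1}).Finite := by
    exact (finite_preimage φ.toRingHom hφqf hfin).subset fun z hz => hz
  haveI hqfAt : Algebra.QuasiFiniteAt P q' := by
    refine (Algebra.quasiFiniteAt_iff_isOpen_singleton_fiber (R := P) x).2 ?_
    let H := PrimeSpectrum.preimageHomeomorphFiber P S' Q1
    haveI : Finite (PrimeSpectrum (Q1.asIdeal.Fiber S')) := by
      haveI := hfinS.to_subtype
      exact Finite.of_equiv _ H.toEquiv
    haveI : IsJacobsonRing (Q1.asIdeal.Fiber S') :=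
      isJacobsonRing_of_finiteType (A := Q1.asIdeal.ResidueField)
    rw [← H.isOpen_image]
    exact isOpen_discrete _
  obtain ⟨g, hg, χ, hχft, hχqf, hχc⟩ := shrink (R := R) (P := P) g₀ q q' hg₀ hq'q
  refine ⟨1, g, (Ideal.ne_top_iff_one p).1 (Ideal.IsPrime.ne_top ‹_›), hg, ?_⟩
  let e₁ : R ≃ₐ[R] Localization.Away (1 : R) := IsLocalization.atOne R (Localization.Away (1 : R))
  let E : MvPolynomial (Fin n) (Localization.Away (1 : R)) ≃ₐ[R] P :=
    (MvPolynomial.mapAlgEquiv (Fin n) e₁).symm
  refine ⟨χ.comp E.toAlgHom, ?_, ?_, ?_⟩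
  · exact hχft.comp (RingHom.FiniteType.of_surjective _ E.surjective)
  · exact hχqf.comp (RingHom.QuasiFinite.of_finite (RingHom.Finite.of_surjective _ E.surjective))
  · show ((q.map _).comap (χ.toRingHom.comp E.toAlgHom.toRingHom)) = _
    rw [← Ideal.comap_comap]
    show Ideal.comap E.toAlgHom.toRingHom ((q.map _).comap χ) = _
    rw [hχc, show q'.comap (algebraMap P S') = q'.comap Φ.toRingHom from rfl, hΦq]
    show Ideal.comap E.toRingEquiv _ = _
    rw [← Ideal.map_symm, Ideal.map_sup]
    change Ideal.map E.symm.toAlgHom.toRingHom _ ⊔ Ideal.map E.symm.toAlgHom.toRingHom _ = _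
    rw [Ideal.map_map, Ideal.map_span, ← Set.range_comp]
    congr 1
    · congr 1
      exact E.symm.toAlgHom.comp_algebraMap
    · congr 1
      congr 1
      funext i
      exact MvPolynomial.map_X _ _

end Groth.Agent.S9181
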