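import Groth.Statements.S9182
import Groth.Agent.Lib.CotStable1.Basic

set_option autoImplicit false
universe u
open CAlg

namespace Groth.Agent.S9182

/-- For presentations α : R[x_1, …, x_n] → S and β : R[y_1, …, y_m] → S_g (g ∈ S) with kernels I and J,
the S_g-modules (I/I²)_g ⊕ S_g^m and J/J² ⊕ S_g^n are isomorphic. -/
theorem result (R S : Type u) [CommRing R] [CommRing S] [Algebra R S]
    (g : S) (n m : ℕ) (α : MvPolynomial (Fin n) R →ₐ[R] S) (hα : Function.Surjective α)
    (β : MvPolynomial (Fin m) R →ₐ[R] Localization.Away g) (hβ : Function.Surjective β) :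
    Nonempty ((LocalizedModule (Submonoid.powers g) (Algebra.Extension.ofSurjective α hα).Cotangent ×
        (Fin m → Localization.Away g)) ≃ₗ[Localization.Away g]
      ((Algebra.Extension.ofSurjective β hβ).Cotangent × (Fin n → Localization.Away g))) := by
  haveI : Algebra.FormallySmooth R (Algebra.Extension.ofSurjective α hα).Ring :=
    inferInstanceAs (Algebra.FormallySmooth R (MvPolynomial (Fin n) R))
  haveI : Algebra.FormallySmooth R (Algebra.Extension.ofSurjective β hβ).Ring :=
    inferInstanceAs (Algebra.FormallySmooth R (MvPolynomial (Fin m) R))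
  obtain ⟨eα⟩ := Groth.Agent.CotStable1.nonempty_cotangentSpace_equiv n α hα
  obtain ⟨eβ⟩ := Groth.Agent.CotStable1.nonempty_cotangentSpace_equiv m β hβ
  obtain ⟨Q, hQ, ⟨eC⟩, ⟨eV⟩⟩ := Groth.Agent.CotStable1.exists_localized_presentation
    (Localization.Away g) (Algebra.Extension.ofSurjective α hα) (Submonoid.powers g)
  haveI := hQ
  haveI : Module.Projective (Localization.Away g) (Algebra.Extension.ofSurjective β hβ).CotangentSpace :=
    Module.Projective.of_equiv eβ.symm
  obtain ⟨e⟩ := Groth.Agent.CotStable1.nonempty_cotangent_prod Q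
    (Algebra.Extension.ofSurjective β hβ)
  let T := Localization.Away g
  let eV' : Q.CotangentSpace ≃ₗ[T] (Fin n → T) :=
    (eV.symm.trans (TensorProduct.AlgebraTensorModule.congr (LinearEquiv.refl T T) eα)).trans
      (TensorProduct.piScalarRight S T T (Fin n))
  exact ⟨(((LocalizedModule.equivTensorProduct (Submonoid.powers g) _).trans eC).prodCongr eβ.symm).trans
    (e.trans ((LinearEquiv.refl T _).prodCongr eV'))⟩

end Groth.Agent.S9182
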