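import Groth.Statements.S9184
import Groth.Agent.Lib.SchDom.LocalInj
import Groth.Agent.Lib.FlatH4.FlatLocusFP
import Groth.Agent.Lib.HBDef3.Basic

set_option autoImplicit false
universe u
open CAlg

namespace Groth.Agent.S9184


section Aux
open TensorProduct
variable {R S : Type u} [CommRing R] [CommRing S] [Algebra R S] (q : Ideal S) [q.IsPrime]

local notation "pp" => Ideal.comap (algebraMap R S) q
local notation "TT" => EGA4.FibLocRing R S q

noncomputable def pii {a : ℕ} : (Fin a → S) →ₗ[S] (Fin a → TT) :=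
  LinearMap.pi fun i => (Algebra.linearMap S TT).comp (LinearMap.proj i)

theorem pii_apply {a : ℕ} (v : Fin a → S) (i : Fin a) :
    pii (R := R) q v i = algebraMap S TT (v i) := rfl

theorem algMap_eq_zero_iff (s : S) :
    algebraMap S TT s = 0 ↔ ∃ t ∉ q, t * s ∈ (pp).map (algebraMap R S) := by
  rw [show algebraMap S TT s = Ideal.Quotient.mk _ (algebraMap S (Localization.AtPrime q) s) from rfl,
    Ideal.Quotient.eq_zero_iff_mem, IsScalarTower.algebraMap_eq R S (Localization.AtPrime q),
    ← Ideal.map_map, IsLocalization.algebraMap_mem_map_algebraMap_iff q.primeCompl]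
  rfl

theorem isUnit_algMap {t : S} (ht : t ∉ q) : IsUnit (algebraMap S TT t) :=
  (IsLocalization.map_units (Localization.AtPrime q) (⟨t, ht⟩ : q.primeCompl)).map
    (Ideal.Quotient.mk _)

theorem pii_eq_zero_iff {a : ℕ} (v : Fin a → S) :
    pii (R := R) q v = 0 ↔ ∃ t ∉ q, t • v ∈ (pp) • (⊤ : Submodule R (Fin a → S)) := by
  classical
  constructor
  · intro h
    have h' := fun i => (algMap_eq_zero_iff (R := R) q (v i)).1 (congrFun h i)
    choose t ht hts using h'
    refine ⟨∏ i, t i, fun hm => ?_, (Groth.Agent.HBDef3.mem_smul_top_pi_iff _ _).2 fun i => ?_⟩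
    · obtain ⟨i, -, hi⟩ := (‹q.IsPrime›.prod_mem_iff).1 hm
      exact ht i hi
    · rw [Pi.smul_apply, smul_eq_mul, ← Finset.prod_erase_mul _ _ (Finset.mem_univ i), mul_assoc]
      exact Ideal.mul_mem_left _ _ (hts i)
  · rintro ⟨t, ht, hv⟩
    funext i
    exact (algMap_eq_zero_iff (R := R) q (v i)).2
      ⟨t, ht, (Groth.Agent.HBDef3.mem_smul_top_pi_iff _ _).1 hv i⟩

theorem exists_pii {a : ℕ} (w : Fin a → TT) :
    ∃ (t : S) (v : Fin a → S), t ∉ q ∧ t • w = pii (R := R) q v := by
  choose x hx using fun i => Ideal.Quotient.mk_surjective (w i)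
  obtain ⟨b, hb⟩ := IsLocalization.exist_integer_multiples_of_finite q.primeCompl x
  choose v hv using hb
  refine ⟨b, v, b.2, funext fun i => ?_⟩
  have h1 := congrArg (Ideal.Quotient.mk ((pp).map (algebraMap R (Localization.AtPrime q)))) (hv i)
  rw [Pi.smul_apply, pii_apply, ← hx i]
  exact h1.symm

theorem pii_mulVec {a b : ℕ} (A : Matrix (Fin a) (Fin b) S) (v : Fin b → S) :
    Matrix.mulVecLin (A.map (algebraMap S TT)) (pii (R := R) q v) =
      pii (R := R) q (Matrix.mulVecLin A v) := by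
  funext i
  exact (RingHom.map_mulVec (algebraMap S TT) A v i).symm

/-- The fibre of `d` at `q` is exact modulo `B`. -/
def FE {N M : Type u} [AddCommGroup N] [Module R N] [Module S N] [IsScalarTower R S N] [AddCommGroup M]
    [Module R M] [Module S M] [IsScalarTower R S M] (d : N →ₗ[S] M) (B : Submodule S N) : Prop :=
  ∀ v : N, (∃ t ∉ q, t • d v ∈ (pp) • (⊤ : Submodule R M)) →
    ∃ t ∉ q, t • v ∈ B.restrictScalars R ⊔ (pp) • (⊤ : Submodule R N)

section
variable {N M : Type u} [AddCommGroup N] [Module R N] [Module S N] [IsScalarTower R S N] [AddCommGroup M]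
    [Module R M] [Module S M] [IsScalarTower R S M] (d : N →ₗ[S] M) (B : Submodule S N)

theorem smul_mem_psmul (X : Type u) [AddCommGroup X] [Module R X] [Module S X] [IsScalarTower R S X]
    (I : Ideal R) (t : S) {x : X} (hx : x ∈ I • (⊤ : Submodule R X)) :
    t • x ∈ I • (⊤ : Submodule R X) :=
  (Submodule.map_smul'' I (⊤ : Submodule R X) ((LinearMap.lsmul S X t).restrictScalars R)).trans_le
    (Submodule.smul_mono le_rfl le_top) (Submodule.mem_map_of_mem hx)

theorem le_flat_of_FE [IsNoetherianRing S] [Module.Finite S N] [Module.Finite S M] [Module.Flat R M]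
    (hB : B ≤ LinearMap.ker d) (h : FE (R := R) q d B) :
    (∀ v, d v = 0 → ∃ t ∉ q, t • v ∈ B) ∧
      Module.Flat R (LocalizedModule q.primeCompl (M ⧸ LinearMap.range d)) := by
  obtain ⟨h1, h2⟩ := Groth.Agent.SchDom.injective_flat_coker_of_fibre_noetherian (R := R) q
    (B.liftQ d hB) (fun z t ht hz => by
      obtain ⟨v, rfl⟩ := B.mkQ_surjective z
      obtain ⟨t', ht', hv⟩ := h v ⟨t, ht, hz⟩
      obtain ⟨b, hb, e, he, hbe⟩ := Submodule.mem_sup.1 hv
      refine ⟨t', ht', ?_⟩
      rw [← map_smul, ← hbe, map_add, Submodule.mkQ_apply,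
        (Submodule.Quotient.mk_eq_zero B).2 hb, zero_add]
      exact (Submodule.map_smul'' _ (⊤ : Submodule R N) (B.mkQ.restrictScalars R)).trans_le
        (Submodule.smul_mono le_rfl le_top) (Submodule.mem_map_of_mem he))
  refine ⟨fun v hv => ?_, ?_⟩
  · obtain ⟨t, ht, h0⟩ := h1 (B.mkQ v) 1
      (fun h => ‹q.IsPrime›.ne_top ((Ideal.eq_top_iff_one q).2 h)) (by simp [hv])
    rw [← map_smul, Submodule.mkQ_apply, Submodule.Quotient.mk_eq_zero] at h0
    exact ⟨t, ht, h0⟩
  · rw [Submodule.range_liftQ] at h2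
    exact h2

theorem FE_of_le_flat (hex : ∀ v, d v = 0 → ∃ t ∉ q, t • v ∈ B)
    (hfl : Module.Flat R (LocalizedModule q.primeCompl (M ⧸ LinearMap.range d))) :
    FE (R := R) q d B := by
  rintro v ⟨t, ht, htv⟩
  let p := pp
  let mu : ∀ (X : Type u) [AddCommGroup X] [Module R X] [Module S X] [IsScalarTower R S X],
      X ⊗[R] p →ₗ[S] X := fun X _ _ _ _ =>
    (AlgebraTensorModule.rid R S X).toLinearMap.comp (AlgebraTensorModule.lTensor S X p.subtype)
  have hmu : ∀ (X : Type u) [AddCommGroup X] [Module R X] [Module S X] [IsScalarTower R S X]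
      (z : X ⊗[R] p), mu X z ∈ p • (⊤ : Submodule R X) := by
    intro X _ _ _ _ z
    induction z using TensorProduct.induction_on with
    | zero => simp
    | add a b ha hb => rw [map_add]; exact add_mem ha hb
    | tmul x a => simpa [mu] using Submodule.smul_mem_smul a.2 (Submodule.mem_top (R := R) (x := x))
  obtain ⟨η, hη⟩ : ∃ η : M ⊗[R] p, mu M η = t • d v := by
    refine Submodule.smul_induction_on htv (fun a ha m _ => ⟨m ⊗ₜ ⟨a, ha⟩, by simp [mu]⟩) ?_
    rintro x y ⟨a, rfl⟩ ⟨b, rfl⟩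
    exact ⟨a + b, map_add _ _ _⟩
  let K := LinearMap.range d
  let g : M ⊗[R] p →ₗ[S] (M ⧸ K) ⊗[R] p := AlgebraTensorModule.map K.mkQ LinearMap.id
  let f : N ⊗[R] p →ₗ[S] M ⊗[R] p := AlgebraTensorModule.map d LinearMap.id
  have hg : ∀ z, mu (M ⧸ K) (g z) = K.mkQ (mu M z) := by
    intro z
    induction z using TensorProduct.induction_on with
    | zero => simp
    | add a b ha hb => simp only [map_add, ha, hb]
    | tmul x a => simp [mu, g]
  have hf : ∀ z, mu M (f z) = d (mu N z) := by
    intro z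
    induction z using TensorProduct.induction_on with
    | zero => simp
    | add a b ha hb => simp only [map_add, ha, hb]
    | tmul x a => simp [mu, f, LinearMap.map_smul_of_tower]
  have h0 : mu (M ⧸ K) (g η) = 0 := by
    rw [hg, hη, Submodule.mkQ_apply, Submodule.Quotient.mk_eq_zero]
    exact K.smul_mem t ⟨v, rfl⟩
  obtain ⟨s, hs, hsξ⟩ := (Groth.Agent.FlatH4.flat_localized_iff (R := R) q).1 hfl p (g η) (by
    apply (TensorProduct.rid R (M ⧸ K)).injective
    rw [map_zero]
    exact h0)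
  rw [← map_smul] at hsξ
  obtain ⟨η', hη'⟩ := (rTensor_exact p (f := d.restrictScalars R) (g := K.mkQ.restrictScalars R)
    (LinearMap.exact_map_mkQ_range d) K.mkQ_surjective (s • η)).1 hsξ
  have hη'' : f η' = s • η := hη'
  have h2 : d ((s * t) • v - mu N η') = 0 := by
    rw [map_sub, map_smul, ← hf, hη'', map_smul, hη, mul_smul, sub_self]
  obtain ⟨t', ht', hm⟩ := hex _ h2
  refine ⟨t' * (s * t), fun hm => (‹q.IsPrime›.mem_or_mem hm).elim ht'
    (fun h => (‹q.IsPrime›.mem_or_mem h).elim hs ht), Submodule.mem_sup.2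
    ⟨_, hm, _, smul_mem_psmul N p t' (hmu N η'), ?_⟩⟩
  rw [mul_smul t', smul_sub, sub_add_cancel]

end

theorem ker_eq_range_iff {a b c : ℕ} (A : Matrix (Fin a) (Fin b) S) (A' : Matrix (Fin b) (Fin c) S)
    (h : A * A' = 0) :
    LinearMap.ker (Matrix.mulVecLin (A.map (algebraMap S TT))) =
        LinearMap.range (Matrix.mulVecLin (A'.map (algebraMap S TT))) ↔
      FE (R := R) q (Matrix.mulVecLin A) (LinearMap.range (Matrix.mulVecLin A')) := by
  constructor
  · intro he v hv
    have h0 : pii (R := R) q v ∈ LinearMap.ker (Matrix.mulVecLin (A.map (algebraMap S TT))) := by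
      rw [LinearMap.mem_ker, pii_mulVec, pii_eq_zero_iff]
      exact hv
    rw [he] at h0
    obtain ⟨w, hw⟩ := h0
    obtain ⟨t, w', ht, hw'⟩ := exists_pii (R := R) q w
    have h1 : pii (R := R) q (t • v - Matrix.mulVecLin A' w') = 0 := by
      rw [map_sub, map_smul, ← hw, ← pii_mulVec, ← hw', LinearMap.map_smul_of_tower, sub_self]
    obtain ⟨t', ht', hm⟩ := (pii_eq_zero_iff (R := R) q _).1 h1
    refine ⟨t' * t, fun hm => (‹q.IsPrime›.mem_or_mem hm).elim ht' ht, Submodule.mem_sup.2
      ⟨t' • Matrix.mulVecLin A' w', ⟨t' • w', map_smul _ _ _⟩, _, hm, ?_⟩⟩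
    rw [smul_sub, mul_smul, add_sub_cancel]
  · intro hFE
    apply le_antisymm
    · intro w hw
      obtain ⟨t, v, ht, hv⟩ := exists_pii (R := R) q w
      have h0 : pii (R := R) q (Matrix.mulVecLin A v) = 0 := by
        rw [← pii_mulVec, ← hv, LinearMap.map_smul_of_tower, LinearMap.mem_ker.1 hw, smul_zero]
      obtain ⟨t', ht', hm⟩ := hFE v ((pii_eq_zero_iff (R := R) q _).1 h0)
      obtain ⟨_, ⟨z, rfl⟩, e, he, hze⟩ := Submodule.mem_sup.1 hm
      have he0 : pii (R := R) q e = 0 := (pii_eq_zero_iff (R := R) q e).2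
        ⟨1, fun h => ‹q.IsPrime›.ne_top ((Ideal.eq_top_iff_one q).2 h), by rwa [one_smul]⟩
      have h3 := congrArg (pii (R := R) q) hze
      rw [map_add, he0, add_zero, map_smul, ← hv, ← pii_mulVec, smul_smul, ← algebraMap_smul TT] at h3
      obtain ⟨u, hu⟩ := isUnit_algMap (R := R) q
        (t := t' * t) fun hm => (‹q.IsPrime›.mem_or_mem hm).elim ht' ht
      refine ⟨(↑u⁻¹ : TT) • pii (R := R) q z, ?_⟩
      rw [map_smul, h3, ← hu, smul_smul, Units.inv_mul, one_smul]
    · rintro _ ⟨w, rfl⟩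
      rw [LinearMap.mem_ker, ← LinearMap.comp_apply, ← Matrix.mulVecLin_mul, ← Matrix.map_mul, h,
        Matrix.map_zero _ (map_zero _), Matrix.mulVecLin_zero]
      rfl

theorem injective_iff_FE {a b : ℕ} (A : Matrix (Fin a) (Fin b) S) :
    Function.Injective (Matrix.mulVecLin (A.map (algebraMap S TT))) ↔
      FE (R := R) q (Matrix.mulVecLin A) ⊥ := by
  constructor
  · intro hinj v hv
    have h0 : pii (R := R) q v = 0 := hinj (by
      rw [map_zero, pii_mulVec, pii_eq_zero_iff]; exact hv)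
    obtain ⟨t, ht, hm⟩ := (pii_eq_zero_iff (R := R) q v).1 h0
    exact ⟨t, ht, Submodule.mem_sup_right hm⟩
  · intro hFE
    rw [injective_iff_map_eq_zero]
    intro w hw
    obtain ⟨t, v, ht, hv⟩ := exists_pii (R := R) q w
    have h0 : pii (R := R) q (Matrix.mulVecLin A v) = 0 := by
      rw [← pii_mulVec, ← hv, LinearMap.map_smul_of_tower, hw, smul_zero]
    obtain ⟨t', ht', hm⟩ := hFE v ((pii_eq_zero_iff (R := R) q _).1 h0)
    obtain ⟨z, hz, e, he, hze⟩ := Submodule.mem_sup.1 hm
    rw [Submodule.restrictScalars_mem, Submodule.mem_bot] at hz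
    subst hz
    rw [zero_add] at hze
    subst hze
    have he0 : pii (R := R) q (t' • v) = 0 := (pii_eq_zero_iff (R := R) q _).2
      ⟨1, fun h => ‹q.IsPrime›.ne_top ((Ideal.eq_top_iff_one q).2 h), by rwa [one_smul]⟩
    rw [map_smul, ← hv, smul_smul, ← algebraMap_smul TT] at he0
    exact (isUnit_algMap (R := R) q
      fun hm => (‹q.IsPrime›.mem_or_mem hm).elim ht' ht).smul_eq_zero.1 he0

omit q in
theorem isOpen_exact {N M : Type u} [AddCommGroup N] [Module S N] [AddCommGroup M]
    [Module S M] [IsNoetherianRing S] [Module.Finite S N] (d : N →ₗ[S] M) (B : Submodule S N) :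
    IsOpen {x : PrimeSpectrum S | ∀ v, d v = 0 → ∃ t ∉ x.asIdeal, t • v ∈ B} := by
  let K := LinearMap.ker d
  obtain ⟨g, hg⟩ : K.FG := IsNoetherian.noetherian K
  have he : {x : PrimeSpectrum S | ∀ v, d v = 0 → ∃ t ∉ x.asIdeal, t • v ∈ B} =
      ⋂ v ∈ g, {x : PrimeSpectrum S | ∃ t ∉ x.asIdeal, t • v ∈ B} := by
    ext x
    simp only [Set.mem_iInter, Set.mem_ofPred_eq]
    refine ⟨fun h v hv => h v (LinearMap.mem_ker.1 (show v ∈ K from hg ▸ Submodule.subset_span hv)),
      fun h v hv => ?_⟩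
    have hv' : v ∈ Submodule.span S (g : Set N) := by rw [hg]; exact hv
    clear hv
    induction hv' using Submodule.span_induction with
    | mem a ha => exact h a ha
    | zero => exact ⟨1, fun h => x.isPrime.ne_top ((Ideal.eq_top_iff_one _).2 h), by simp⟩
    | add a b _ _ ha hb =>
      obtain ⟨s, hs, hsa⟩ := ha
      obtain ⟨t, ht, htb⟩ := hb
      refine ⟨s * t, fun hm => (x.isPrime.mem_or_mem hm).elim hs ht, ?_⟩
      rw [smul_add]
      refine add_mem ?_ ?_
      · rw [mul_comm, mul_smul]; exact B.smul_mem _ hsa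
      · rw [mul_smul]; exact B.smul_mem _ htb
    | smul r a _ ha =>
      obtain ⟨s, hs, hsa⟩ := ha
      exact ⟨s, hs, by rw [smul_comm]; exact B.smul_mem _ hsa⟩
  rw [he]
  refine isOpen_biInter_finset fun v _ => isOpen_iff_forall_mem_open.2 ?_
  rintro x ⟨t, ht, htv⟩
  exact ⟨PrimeSpectrum.basicOpen t, fun y hy => ⟨t, hy, htv⟩, PrimeSpectrum.isOpen_basicOpen, ht⟩

omit q in
theorem main [IsNoetherianRing R] [Algebra.FiniteType R S] [Module.Flat R S] (e : ℕ) (n : ℕ → ℕ)
    (φ : (i : ℕ) → Matrix (Fin (n i)) (Fin (n (i + 1))) S)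
    (hφ : ∀ i, i + 2 ≤ e → φ i * φ (i + 1) = 0) :
    IsOpen {q : PrimeSpectrum S |
      (∀ i, i + 2 ≤ e →
        LinearMap.ker (Matrix.mulVecLin ((φ i).map (algebraMap S (EGA4.FibLocRing R S q.asIdeal)))) =
          LinearMap.range (Matrix.mulVecLin ((φ (i + 1)).map (algebraMap S (EGA4.FibLocRing R S q.asIdeal))))) ∧
      (1 ≤ e → Function.Injective
        (Matrix.mulVecLin ((φ (e - 1)).map (algebraMap S (EGA4.FibLocRing R S q.asIdeal)))))} := by
  haveI : IsNoetherianRing S := Algebra.FiniteType.isNoetherianRing R S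
  haveI : Algebra.FinitePresentation R S := Algebra.FinitePresentation.of_finiteType.1 inferInstance
  let B : (i : ℕ) → Submodule S (Fin (n (i + 1)) → S) := fun i =>
    if i + 2 ≤ e then LinearMap.range (Matrix.mulVecLin (φ (i + 1))) else ⊥
  have hB : ∀ i, B i ≤ LinearMap.ker (Matrix.mulVecLin (φ i)) := fun i => by
    simp only [B]
    split_ifs with h
    · rintro _ ⟨w, rfl⟩
      rw [LinearMap.mem_ker, ← LinearMap.comp_apply, ← Matrix.mulVecLin_mul, hφ i h,
        Matrix.mulVecLin_zero]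
      rfl
    · exact bot_le
  have hopen : ∀ i : ℕ, IsOpen {x : PrimeSpectrum S |
      FE (R := R) x.asIdeal (Matrix.mulVecLin (φ i)) (B i)} := fun i => by
    haveI : Module.Flat R (Fin (n i) → S) := Module.Flat.trans R S _
    haveI : Module.FinitePresentation S
        ((Fin (n i) → S) ⧸ LinearMap.range (Matrix.mulVecLin (φ i))) :=
      Module.finitePresentation_of_finite _ _
    have he : {x : PrimeSpectrum S | FE (R := R) x.asIdeal (Matrix.mulVecLin (φ i)) (B i)} =
        {x : PrimeSpectrum S | ∀ v, Matrix.mulVecLin (φ i) v = 0 → ∃ t ∉ x.asIdeal, t • v ∈ B i} ∩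
        {x : PrimeSpectrum S | Module.Flat R (LocalizedModule x.asIdeal.primeCompl
          ((Fin (n i) → S) ⧸ LinearMap.range (Matrix.mulVecLin (φ i))))} := by
      ext x
      exact ⟨le_flat_of_FE (R := R) x.asIdeal _ _ (hB i),
        fun h => FE_of_le_flat (R := R) x.asIdeal _ _ h.1 h.2⟩
    rw [he]
    exact (isOpen_exact _ _).inter Groth.Agent.FlatH4.isOpen_flat_localized
  convert isOpen_iInter_of_finite (fun i : Fin e => hopen i) using 1
  ext x
  simp only [Set.mem_iInter, Set.mem_ofPred_eq]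
  constructor
  · rintro ⟨h1, h2⟩ ⟨i, hi⟩
    by_cases h : i + 2 ≤ e
    · simp only [B, if_pos h]
      exact (ker_eq_range_iff (R := R) x.asIdeal _ _ (hφ i h)).1 (h1 i h)
    · obtain rfl : i = e - 1 := by omega
      simp only [B, if_neg h]
      exact (injective_iff_FE (R := R) x.asIdeal _).1 (h2 (by omega))
  · intro h
    refine ⟨fun i hi => ?_, fun he => ?_⟩
    · have h' := h ⟨i, by omega⟩
      simp only [B, if_pos hi] at h'
      exact (ker_eq_range_iff (R := R) x.asIdeal _ _ (hφ i hi)).2 h'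
    · have h' := h ⟨e - 1, by omega⟩
      simp only [B, if_neg (show ¬ e - 1 + 2 ≤ e by omega)] at h'
      exact (injective_iff_FE (R := R) x.asIdeal _).2 h'

end Aux



/-- Let R be Noetherian, R → S flat of finite type whose fibre rings are Cohen–Macaulay and
equidimensional of dimension d, and let 0 → S^{n_e} → ⋯ → S^{n_1} → S^{n_0} be a complex of finite
free S-modules, the map S^{n_{i+1}} → S^{n_i} being given by the matrix φ_i. Then the set of primes
q of S such that the complex is exact (exact at each S^{n_i} with 0 < i < e and injective at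
S^{n_e}) after base change to the fibre local ring S_q/pS_q, p = q ∩ R, is open in Spec S. (The
published statement asks only that the fibres be Cohen–Macaulay of dimension d; this row assumes
them equidimensional of dimension d, the hypothesis the printed argument uses.) -/
theorem result (R S : Type u) [CommRing R] [IsNoetherianRing R] [CommRing S]
    [Algebra R S] [Algebra.FiniteType R S] [Module.Flat R S] (d : ℕ)
    (hCM : ∀ p : PrimeSpectrum R, LocCoh.IsCohenMacaulayRing (p.asIdeal.Fiber S))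
    (heq : ∀ p : PrimeSpectrum R, ∀ P ∈ minimalPrimes (p.asIdeal.Fiber S),
      ringKrullDim (p.asIdeal.Fiber S ⧸ P) = (d : WithBot ℕ∞))
    (e : ℕ) (n : ℕ → ℕ) (φ : (i : ℕ) → Matrix (Fin (n i)) (Fin (n (i + 1))) S)
    (hφ : ∀ i, i + 2 ≤ e → φ i * φ (i + 1) = 0) :
    IsOpen {q : PrimeSpectrum S |
      (∀ i, i + 2 ≤ e →
        LinearMap.ker (Matrix.mulVecLin ((φ i).map (algebraMap S (EGA4.FibLocRing R S q.asIdeal)))) =
          LinearMap.range (Matrix.mulVecLin ((φ (i + 1)).map (algebraMap S (EGA4.FibLocRing R S q.asIdeal))))) ∧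
      (1 ≤ e → Function.Injective
        (Matrix.mulVecLin ((φ (e - 1)).map (algebraMap S (EGA4.FibLocRing R S q.asIdeal)))))} := by
  exact main e n φ hφ

end Groth.Agent.S9184
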