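import Groth.Statements.S9185
import Groth.Agent.Lib.Diff16.FormallyEtale

set_option autoImplicit false
universe u
open Diff16

namespace Groth.Agent.S9185

/-- For a ring map R → S, an S-module M and k ≥ 0 there is an S-module P together with a differential
operator D : M → P of order at most k (relative to R → S) such that every differential operator of
order at most k from M to an S-module N is α ∘ D for a unique S-linear map α : P → N; that is,
differential operators of order ≤ k out of M are represented by P. (Target modules N are taken in
the same universe.) -/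
theorem result (R S : Type u) [CommRing R] [CommRing S] [Algebra R S] (M : Type u)
    [AddCommGroup M] [Module S M] [Module R M] [IsScalarTower R S M] (k : ℕ) :
    ∃ (P : Type u) (_ : AddCommGroup P) (_ : Module S P) (_ : Module R P) (_ : IsScalarTower R S P)
      (D : M →ₗ[R] P), Diff16.IsDiffOpLE R S M P k D ∧
        ∀ (N : Type u) [AddCommGroup N] [Module S N] [Module R N] [IsScalarTower R S N] (D' : M →ₗ[R] N),
          Diff16.IsDiffOpLE R S M N k D' → ∃! α : P →ₗ[S] N, α.restrictScalars R ∘ₗ D = D' := by
  let U : Submodule S (TensorProduct R S M) :=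
    Submodule.span S (Set.range (Groth.Agent.DiffOps.ppRel R S M k))
  let D : M →ₗ[R] TensorProduct R S M ⧸ U :=
    U.mkQ.restrictScalars R ∘ₗ TensorProduct.mk R S M 1
  refine ⟨TensorProduct R S M ⧸ U, inferInstance, inferInstance, inferInstance, inferInstance, D,
    ?_, fun N _ _ _ _ D' hD' => ?_⟩
  · refine (Groth.Agent.DiffOps.iff_altSum k D).mpr fun b t => ?_
    rw [← Groth.Agent.DiffOps.map_ppRel k (b, t) D U.mkQ (fun _ => rfl)]
    exact (Submodule.Quotient.mk_eq_zero U).mpr (Submodule.subset_span ⟨(b, t), rfl⟩)
  · have hU : U ≤ LinearMap.ker (LinearMap.liftBaseChange S D') := by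
      refine Submodule.span_le.mpr ?_
      rintro _ ⟨p, rfl⟩
      rw [SetLike.mem_coe, LinearMap.mem_ker,
        Groth.Agent.DiffOps.map_ppRel k p D' _ (fun m => by simp)]
      exact (Groth.Agent.DiffOps.iff_altSum k D').mp hD' _ _
    refine ⟨U.liftQ (LinearMap.liftBaseChange S D') hU, LinearMap.ext fun m => by simp [D],
      fun β hβ => ?_⟩
    refine Submodule.linearMap_qext _ (LinearMap.ext fun x => ?_)
    induction x using TensorProduct.induction_on with
    | zero => simp
    | tmul s m =>
      have e : TensorProduct.tmul R s m = s • TensorProduct.tmul R (1 : S) m := by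
        rw [TensorProduct.smul_tmul', smul_eq_mul, mul_one]
      rw [e, map_smul, map_smul]
      congr 1
      simpa [D] using LinearMap.congr_fun hβ m
    | add x y hx hy => rw [map_add, map_add, hx, hy]

end Groth.Agent.S9185
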