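import Groth.Statements.S9197
import Groth.Agent.Lib.Descend.Stage
import Groth.Agent.Lib.Descend19.Flat
import Groth.Agent.Lib.LimH13.Descend

set_option autoImplicit false
universe u
open CategoryTheory AlgebraicGeometry
open Lim

namespace Groth.Agent.S9197

set_option backward.isDefEq.respectTransparency false
set_option backward.isDefEq.respectTransparency.types false
set_option linter.style.haveILetI false


/-- Let S = lim S_i be a cofiltered limit of schemes with affine transition morphisms, S_{i₀} a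
quasi-compact quasi-separated stage, f₀ : X₀ → Y₀ a morphism of quasi-compact quasi-separated
schemes over S_{i₀}, and f : X → Y its base change along S → S_{i₀} (base changes expressed by
pullback squares). Let d be a natural number. If f₀ is locally of finite presentation and f is
finite locally free of degree d (finite, flat, locally of finite presentation, with rank function
constant equal to d), then for some index i over i₀ the base change f_i : X_i → Y_i of f₀ along S_i
→ S_{i₀} is finite locally free of degree d. -/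
theorem result {I : Type u} [SmallCategory I] [IsCofiltered I]
    (D : I ⥤ Scheme.{u}) (c : Limits.Cone D) (hc : Limits.IsLimit c)
    [∀ (i j : I) (f : i ⟶ j), IsAffineHom (D.map f)] (i₀ : I) [CompactSpace (D.obj i₀)]
    [QuasiSeparatedSpace (D.obj i₀)] {X₀ Y₀ : Scheme.{u}} (f₀ : X₀ ⟶ Y₀) (g₀ : Y₀ ⟶ D.obj i₀)
    [CompactSpace X₀] [QuasiSeparatedSpace X₀] [CompactSpace Y₀] [QuasiSeparatedSpace Y₀]
    [LocallyOfFinitePresentation f₀] (d : ℕ)
    {X Y : Scheme.{u}} (f : X ⟶ Y) (g : Y ⟶ c.pt) (qY : Y ⟶ Y₀) (qX : X ⟶ X₀)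
    (hY : IsPullback qY g g₀ (c.π.app i₀)) (hX : IsPullback qX f f₀ qY) (hf : Mor2.IsFinLocFreeOfDeg d f) :
    ∃ (i : I) (φ : i ⟶ i₀) (Xi Yi : Scheme.{u}) (fi : Xi ⟶ Yi) (gi : Yi ⟶ D.obj i) (pY : Yi ⟶ Y₀)
      (pX : Xi ⟶ X₀), IsPullback pY gi g₀ (D.map φ) ∧ IsPullback pX fi f₀ pY ∧ Mor2.IsFinLocFreeOfDeg d fi := by

  refine Descend.exists_stage (fun _ _ f => Mor2.IsFinLocFreeOfDeg d f)
    (fun _ _ f => Mor2.IsFinLocFreeOfDeg d f) hc f₀ g₀ f g qY qX hY hX hf
    fun E t e _ q P p r he hq hP hr => ?_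
  obtain ⟨⟨hfin, hflat, -⟩, hdeg⟩ := hr
  haveI := hfin
  haveI := hflat
  haveI : QuasiCompact f₀ := quasiCompact_of_compactSpace f₀
  haveI : QuasiSeparated f₀ := inferInstance
  haveI : ∀ {a b : Over i₀} (φ : a ⟶ b), IsAffineHom (E.map φ) := fun φ => Descend.isAffineHom_map E t φ
  haveI : ∀ k, CompactSpace (E.obj k) := fun k => Descend.compactSpace_obj E t k
  obtain ⟨k₁, hk₁⟩ := LimH13.exists_isFinite (f := f₀) he hq hP
  obtain ⟨k₂, hk₂⟩ := Descend19.exists_flat (f := f₀) he hq hP
  let k := IsCofiltered.min k₁ k₂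
  let a₁ := IsCofiltered.minToLeft k₁ k₂
  let a₂ := IsCofiltered.minToRight k₁ k₂
  haveI : IsFinite (Limits.pullback.snd f₀ (t.app k)) :=
    MorphismProperty.of_isPullback (Descend.pbMap_isPullback E t f₀ a₁) hk₁
  haveI : Flat (Limits.pullback.snd f₀ (t.app k)) :=
    MorphismProperty.of_isPullback (Descend.pbMap_isPullback E t f₀ a₂) hk₂
  haveI : LocallyOfFinitePresentation (Limits.pullback.snd f₀ (t.app k)) :=
    MorphismProperty.pullback_snd _ _ inferInstance
  let h := Limits.pullback.snd f₀ (t.app k)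
  let U : (E.obj k).Opens := ⟨{y | h.finrank y = d}, h.isLocallyConstant_finrank.isOpen_fiber d⟩
  obtain ⟨j, a, hj⟩ := exists_map_preimage_le_map_preimage E e he (i := k) (U := ⊤) (V := U)
    isCompact_univ fun x _ => by
      show h.finrank (e.π.app k x) = d
      exact ((Scheme.Hom.finrank_of_isPullback _ _ _ _ (Descend.pbCone_isPullback E t f₀ e hq hP k) x).symm).trans (hdeg x)
  haveI : IsFinite (Limits.pullback.snd f₀ (t.app j)) :=
    MorphismProperty.of_isPullback (Descend.pbMap_isPullback E t f₀ a) inferInstance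
  haveI : Flat (Limits.pullback.snd f₀ (t.app j)) :=
    MorphismProperty.of_isPullback (Descend.pbMap_isPullback E t f₀ a) inferInstance
  haveI : LocallyOfFinitePresentation (Limits.pullback.snd f₀ (t.app j)) :=
    MorphismProperty.pullback_snd _ _ inferInstance
  refine ⟨j, ⟨inferInstance, inferInstance, inferInstance⟩, fun y => ?_⟩
  rw [Scheme.Hom.finrank_of_isPullback _ _ _ _ (Descend.pbMap_isPullback E t f₀ a) y]
  exact hj (show y ∈ E.map a ⁻¹ᵁ ⊤ from trivial)

end Groth.Agent.S9197
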