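import Groth.Statements.S9208
import Groth.Agent.Lib.AlgColimH13.Spec
-- import your own Groth.Agent.* helpers here

set_option autoImplicit false
set_option backward.isDefEq.respectTransparency false
universe u
open CategoryTheory AlgebraicGeometry
open Lim Groth.Agent

namespace Groth.Agent.S9208

open AlgColimH13 in
theorem exists_lift {A B : Type u} [CommRing A] [CommRing B] [Algebra A B] (i : Idx A B)
    {ι : Type u} [Finite ι] (b : ι → B) :
    ∃ (j : Idx A B) (_ : i ≤ j) (z : ι → j.Ring), ∀ t, j.toB (z t) = b t := by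
  choose i' x hx using fun t => exists_toB_eq (A := A) (b t)
  obtain ⟨j, hj⟩ := Finite.exists_le (fun o : Option ι => o.elim i i')
  exact ⟨j, hj none, fun t => Idx.trans (show i' t ≤ j from hj (some t)) (x t),
    fun t => (Idx.toB_trans _ _).trans (hx t)⟩

open AlgColimH13 in
theorem trans_trans {A B : Type u} [CommRing A] [CommRing B] [Algebra A B] {i j k : Idx A B}
    (h : i ≤ j) (h' : j ≤ k) (x : i.Ring) :
    Idx.trans h' (Idx.trans h x) = Idx.trans (h.trans h') x := by
  have e := ConcreteCategory.congr_hom ((ringDiag A B).map_comp (homOfLE h) (homOfLE h')) x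
  exact e.symm


/-- Let f : X → S be a morphism of schemes. Suppose that for every inverse system (T_j) of affine
schemes over S indexed by a nonempty directed preordered set, with limit T, the canonical map
colim_j Mor_S(T_j, X) → Mor_S(T, X) is surjective: every S-morphism T → X is the composite of the
projection T → T_j with an S-morphism T_j → X for some j. Then f is locally of finite presentation
(surjectivity alone suffices; bijectivity is not required). -/
theorem result {X S : Scheme.{u}} (f : X ⟶ S)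
    (h : ∀ (J : Type u) [Preorder J] [IsDirected J (· ≤ ·)] [Nonempty J] (D : Jᵒᵖ ⥤ Scheme.{u})
      (t : D ⟶ (Functor.const Jᵒᵖ).obj S) (c : Limits.Cone D) (_ : Limits.IsLimit c),
      (∀ j, IsAffine (D.obj j)) → ∀ (j₀ : Jᵒᵖ) (g : c.pt ⟶ X), g ≫ f = c.π.app j₀ ≫ t.app j₀ →
        ∃ (j : Jᵒᵖ) (gj : D.obj j ⟶ X), gj ≫ f = t.app j ∧ c.π.app j ≫ gj = g) :
    LocallyOfFinitePresentation f := by
  classical
  refine ⟨fun {U} hU {V} hV e => ?_⟩
  letI : Algebra Γ(S, U) Γ(X, V) := (f.appLE U V e).hom.toAlgebra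
  let A : Type u := Γ(S, U)
  let B : Type u := Γ(X, V)
  let ψ : Spec (CommRingCat.of A) ⟶ (U : Scheme.{u}) := hU.isoSpec.inv
  let Z := AlgColimH13.specDiag A B ψ
  haveI : ∀ j, IsAffine (Z.obj j).left := fun j => inferInstanceAs (IsAffine (Spec _))
  haveI := IsCofiltered.isConnected ((AlgColimH13.Idx A B)ᵒᵖ)
  let D : (AlgColimH13.Idx A B)ᵒᵖ ⥤ Scheme.{u} := Z ⋙ Over.forget _
  let t : D ⟶ (Functor.const _).obj S :=
    { app := fun j => (Z.obj j).hom ≫ U.ι
      naturality := fun i j φ => by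
        have := Over.w (Z.map φ)
        simp only [D, Functor.comp_map, Over.forget_map, Functor.const_obj_map, Category.comp_id]
        exact (Category.assoc _ _ _).symm.trans (congrArg (· ≫ U.ι) this) }
  let c : Limits.Cone D := (Over.forget _).mapCone (AlgColimH13.specCone A B ψ)
  have hlim : Limits.IsLimit c :=
    Limits.isLimitOfPreserves (Over.forget (U : Scheme.{u})) (AlgColimH13.specIsLimit A B ψ)
  have hcomm : Spec.map (f.appLE U V e) ≫ ψ ≫ U.ι = hV.fromSpec ≫ f := by
    rw [hU.isoSpec_inv_ι]; exact hU.SpecMap_appLE_fromSpec f hV e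
  let j₀ : (AlgColimH13.Idx A B)ᵒᵖ := Opposite.op (Classical.arbitrary _)
  have hc0 : hV.fromSpec ≫ f = c.π.app j₀ ≫ t.app j₀ := by
    show hV.fromSpec ≫ f = Spec.map (AlgColimH13.proj A B j₀.unop) ≫ (Spec.map (AlgColimH13.str A B j₀.unop) ≫ ψ) ≫ U.ι
    rw [Category.assoc, ← Category.assoc, ← Spec.map_comp, AlgColimH13.str_proj]
    exact hcomm.symm
  obtain ⟨⟨i⟩, gl0, hgl1, hgl2⟩ := h (AlgColimH13.Idx A B) D t c hlim
    (fun j => inferInstanceAs (IsAffine (Spec _))) j₀ hV.fromSpec hc0
  let gl : Spec ((AlgColimH13.ringDiag A B).obj i) ⟶ X := gl0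
  have hg' : Spec.map (AlgColimH13.proj A B i) ≫ gl = hV.fromSpec := hgl2
  have hgw : gl ≫ f = Spec.map (AlgColimH13.str A B i) ≫ ψ ≫ U.ι := hgl1.trans (Category.assoc _ _ _)
  let W : Set (PrimeSpectrum i.Ring) := (gl ⁻¹ᵁ V).carrier
  obtain ⟨a, ha⟩ := (PrimeSpectrum.isClosed_iff_zeroLocus_ideal Wᶜ).1
      (gl ⁻¹ᵁ V).isOpen.isClosed_compl
  have htop : a.map i.toB.toRingHom = ⊤ := by
    rw [← PrimeSpectrum.zeroLocus_empty_iff_eq_top, Set.eq_empty_iff_forall_notMem]
    intro p hp
    have h1 : PrimeSpectrum.comap i.toB.toRingHom p ∈ PrimeSpectrum.zeroLocus (a : Set i.Ring) := by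
      intro y hy
      exact hp (Ideal.mem_map_of_mem _ hy)
    rw [← ha] at h1
    apply h1
    show gl (Spec.map (AlgColimH13.proj A B i) p) ∈ V
    have h2 : ∀ q : ↑(Spec (CommRingCat.of B)), gl (Spec.map (AlgColimH13.proj A B i) q) ∈ V := by
      intro q
      rw [← Scheme.Hom.comp_apply, hg']
      exact hV.range_fromSpec.subset ⟨q, rfl⟩
    exact h2 p
  obtain ⟨k, hik, hk⟩ : ∃ (k : AlgColimH13.Idx A B) (hik : i ≤ k),
      a.map (AlgColimH13.Idx.trans hik).toRingHom = ⊤ := by
    have h1 : (1 : B) ∈ a.map i.toB.toRingHom := htop ▸ Submodule.mem_top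
    obtain ⟨T, hT, h1T⟩ := Submodule.mem_span_finite_of_mem_span h1
    choose y hy using fun t : T => hT t.2
    obtain ⟨cf, hcf⟩ := Submodule.mem_span_finset.1 h1T
    obtain ⟨j, hij, z, hz⟩ := exists_lift i (fun t : T => cf t.1)
    have hsum : j.toB (∑ t : T, z t * AlgColimH13.Idx.trans hij (y t)) = j.toB 1 := by
      simp only [map_sum, map_mul, map_one, AlgColimH13.Idx.toB_trans, hz]
      have : ∀ t : T, i.toB (y t) = t.1 := fun t => (hy t).2
      simp only [this]
      rw [← hcf.2, ← Finset.sum_coe_sort T]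
      rfl
    obtain ⟨k, hjk, hk⟩ := AlgColimH13.exists_trans_eq _ _ hsum
    refine ⟨k, hij.trans hjk, (Ideal.eq_top_iff_one _).2 ?_⟩
    rw [map_one] at hk
    rw [← hk, map_sum]
    refine Ideal.sum_mem _ fun t _ => ?_
    rw [map_mul]
    refine Ideal.mul_mem_left _ _ ?_
    rw [trans_trans]
    exact Ideal.mem_map_of_mem (AlgColimH13.Idx.trans (hij.trans hjk)).toRingHom (hy t).1
  let hom : i ⟶ k := homOfLE hik
  let gk : Spec ((AlgColimH13.ringDiag A B).obj k) ⟶ X := Spec.map ((AlgColimH13.ringDiag A B).map hom) ≫ gl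
  have hrange : Set.range gk ⊆ Set.range hV.fromSpec := by
    rw [hV.range_fromSpec]
    rintro _ ⟨p, rfl⟩
    show gl (Spec.map ((AlgColimH13.ringDiag A B).map hom) p) ∈ V
    by_contra hp
    have h1 : PrimeSpectrum.comap (AlgColimH13.Idx.trans hik).toRingHom p ∈
        PrimeSpectrum.zeroLocus (a : Set i.Ring) := by rw [← ha]; exact hp
    have h2 : a.map (AlgColimH13.Idx.trans hik).toRingHom ≤ p.asIdeal :=
      Ideal.map_le_iff_le_comap.2 fun y hy => h1 hy
    exact p.isPrime.ne_top (top_le_iff.1 (hk ▸ h2))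
  let γ : CommRingCat.of B ⟶ (AlgColimH13.ringDiag A B).obj k :=
    Spec.preimage (IsOpenImmersion.lift hV.fromSpec gk hrange)
  have hγ : Spec.map γ ≫ hV.fromSpec = gk := by
    rw [Spec.map_preimage]; exact IsOpenImmersion.lift_fac _ _ hrange
  have hk1 : γ ≫ AlgColimH13.proj A B k = 𝟙 _ := by
    apply Spec.map_injective
    rw [← cancel_mono hV.fromSpec, Spec.map_comp, Spec.map_id, Category.assoc, hγ]
    dsimp only [gk]
    rw [← Category.assoc, ← Spec.map_comp, AlgColimH13.map_proj, hg', Category.id_comp]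
  have hk2 : f.appLE U V e ≫ γ = AlgColimH13.str A B k := by
    apply Spec.map_injective
    rw [← cancel_mono (ψ ≫ U.ι), Spec.map_comp, Category.assoc, hcomm, reassoc_of% hγ]
    dsimp only [gk]
    rw [Category.assoc, hgw, ← Category.assoc, ← Spec.map_comp, AlgColimH13.str_map]
  let s : B →ₐ[A] k.Ring :=
    { γ.hom with
      commutes' := fun r => ConcreteCategory.congr_hom hk2 r }
  exact AlgColimH13.finitePresentation_of_retract k.toB s
    (fun b => ConcreteCategory.congr_hom hk1 b)

end Groth.Agent.S9208
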