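import Groth.Statements.S9209
import Groth.Agent.Lib.LimH13.DVRCrit

set_option autoImplicit false
universe u
open CategoryTheory CategoryTheory.Limits AlgebraicGeometry
open Lim

namespace Groth.Agent.S9209

/-- Let S be a locally Noetherian scheme, f : X → S a separated morphism of finite type and h : U → X a
morphism of finite type whose image is dense in X. Suppose that for every discrete valuation ring A
with fraction field K and every commutative square formed by a morphism Spec K → U → X and a
morphism Spec A → S, there is a morphism Spec A → X making the resulting diagram commute. Then f is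
proper. -/
theorem result {X S U : Scheme.{u}} [IsLocallyNoetherian S] (f : X ⟶ S)
    [IsSeparated f] [LocallyOfFiniteType f] [QuasiCompact f] (h : U ⟶ X) [LocallyOfFiniteType h] [QuasiCompact h]
    (hd : DenseRange h.base)
    (H : ∀ (A : Type u) [CommRing A] [IsDomain A] [IsDiscreteValuationRing A]
      (u : Spec (CommRingCat.of (FractionRing A)) ⟶ U) (y : Spec (CommRingCat.of A) ⟶ S),
      u ≫ h ≫ f = Spec.map (CommRingCat.ofHom (algebraMap A (FractionRing A))) ≫ y →
        ∃ l : Spec (CommRingCat.of A) ⟶ X, l ≫ f = y ∧ Spec.map (CommRingCat.ofHom (algebraMap A (FractionRing A))) ≫ l = u ≫ h) :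
    IsProper f := by
  haveI : UniversallyClosed f := LimH13.universallyClosed_of_dvr_generic f fun η hη A hA y w => by
    obtain ⟨z, hz⟩ := SchPt.exists_specializes_of_mem_closure_range h (hd η)
    obtain rfl : h z = η := (SchPt.closure_mem_irreducibleComponents_iff.mp hη) _ hz
    haveI := hA
    obtain ⟨V, hV, hVA⟩ := LimH13.exists_dvr_extension h z A
    subst hVA
    let g := (h.residueFieldMap z).hom
    let ρ : V.comap g →+* V := (g.comp (V.comap g).subtype).codRestrict V.toSubring fun x => x.2
    have hρ : CommRingCat.ofHom ρ ≫ CommRingCat.ofHom V.subtype =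
        CommRingCat.ofHom (V.comap g).subtype ≫ h.residueFieldMap z :=
      CommRingCat.hom_ext (RingHom.ext fun _ => rfl)
    have hres : Spec.map (h.residueFieldMap z) ≫ X.fromSpecResidueField (h z) =
        (U.fromSpecResidueField z ≫ h) := Scheme.Hom.SpecMap_residueFieldMap_fromSpecResidueField h z
    have w' : Spec.map (CommRingCat.ofHom V.subtype) ≫ Spec.map (CommRingCat.ofHom ρ) ≫ y = (U.fromSpecResidueField z ≫ h) ≫ f := by
      rw [← Spec.map_comp_assoc, hρ, Spec.map_comp_assoc, w, reassoc_of% hres, Category.assoc]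
    obtain ⟨e, he1, he2⟩ := LimH13.range_fracIso (K := U.residueField z) ((U.fromSpecResidueField z ≫ h)) _ f w'
    haveI := hV
    obtain ⟨l, hl1, hl2⟩ := H V (e.inv ≫ U.fromSpecResidueField z) (Spec.map (CommRingCat.ofHom ρ) ≫ y)
      (by simpa [Category.assoc] using he1)
    have hl : Spec.map (CommRingCat.ofHom V.subtype) ≫ l = Spec.map (CommRingCat.ofHom g) ≫ X.fromSpecResidueField (h z) := by
      rw [CommRingCat.ofHom_hom, hres, show CommRingCat.ofHom V.subtype = CommRingCat.ofHom (algebraMap V (U.residueField z)) from rfl,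
        ← he2, Category.assoc, hl2, ← Category.assoc, Iso.hom_inv_id_assoc]
    obtain ⟨l', ⟨hl'1, hl'2⟩, -⟩ := ValCritRes.existsUnique_descend g V ρ (fun _ => rfl) l _ hl
    refine ⟨l', hl'2, ?_⟩
    obtain ⟨_, -, huniq⟩ := ValCritRes.existsUnique_descend g V ρ (fun _ => rfl) (l ≫ f)
      (X.fromSpecResidueField (h z) ≫ f) (by rw [reassoc_of% hl])
    rw [huniq (l' ≫ f) ⟨by rw [reassoc_of% hl'1], by rw [reassoc_of% hl'2]⟩,
      huniq y ⟨hl1.symm, w⟩]
  exact { }

end Groth.Agent.S9209
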