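import Groth.Statements.S9210
import Groth.Agent.Lib.LimH13.DVRCrit

set_option autoImplicit false
universe u
open CategoryTheory CategoryTheory.Limits AlgebraicGeometry
open Lim

namespace Groth.Agent.S9210

/-- Let S be a locally Noetherian scheme, f : X → S a morphism locally of finite type and h : U → X a
morphism of finite type whose image is dense in X. Suppose that for every discrete valuation ring A
with fraction field K and every commutative square formed by a morphism Spec K → U → X and a
morphism Spec A → S, there is at most one morphism Spec A → X making the resulting diagram commute.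
Then f is separated. -/
theorem result {X S U : Scheme.{u}} [IsLocallyNoetherian S] (f : X ⟶ S)
    [LocallyOfFiniteType f] (h : U ⟶ X) [LocallyOfFiniteType h] [QuasiCompact h] (hd : DenseRange h.base)
    (H : ∀ (A : Type u) [CommRing A] [IsDomain A] [IsDiscreteValuationRing A]
      (u : Spec (CommRingCat.of (FractionRing A)) ⟶ U) (y : Spec (CommRingCat.of A) ⟶ S),
      u ≫ h ≫ f = Spec.map (CommRingCat.ofHom (algebraMap A (FractionRing A))) ≫ y →
        ∀ l₁ l₂ : Spec (CommRingCat.of A) ⟶ X, l₁ ≫ f = y → Spec.map (CommRingCat.ofHom (algebraMap A (FractionRing A))) ≫ l₁ = u ≫ h →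
          l₂ ≫ f = y → Spec.map (CommRingCat.ofHom (algebraMap A (FractionRing A))) ≫ l₂ = u ≫ h → l₁ = l₂) :
    IsSeparated f := by
  refine LimH13.isSeparated_of_dvr_dense f h (fun x => SchPt.exists_specializes_of_mem_closure_range h (hd x))
    fun z A hA _ l₁ l₂ he h1 h2 => ?_
  haveI := hA
  obtain ⟨e, he1, he2⟩ := LimH13.range_fracIso (K := U.residueField z) (U.fromSpecResidueField z ≫ h) (l₁ ≫ f) f
    ((Category.assoc _ _ _).symm.trans (congrArg (· ≫ f) h1))
  have hconv : ∀ l : Spec (CommRingCat.of A) ⟶ X,
      Spec.map (CommRingCat.ofHom A.subtype) ≫ l = U.fromSpecResidueField z ≫ h →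
      Spec.map (CommRingCat.ofHom (algebraMap A (FractionRing A))) ≫ l = (e.inv ≫ U.fromSpecResidueField z) ≫ h := by
    intro l hl
    rw [← cancel_epi e.hom, ← Category.assoc, he2, Category.assoc, Iso.hom_inv_id_assoc]
    exact hl
  exact H A (e.inv ≫ U.fromSpecResidueField z) (l₁ ≫ f) (by simpa [Category.assoc] using he1) l₁ l₂ rfl
    (hconv l₁ h1) he.symm (hconv l₂ h2)

end Groth.Agent.S9210
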