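import Groth.Statements.S9211
import Groth.Agent.Lib.LimH13.DVRCrit

set_option autoImplicit false
universe u
open CategoryTheory CategoryTheory.Limits AlgebraicGeometry
open Lim

namespace Groth.Agent.S9211

/-- Let S be a locally Noetherian scheme and f : X → S a morphism locally of finite type. Then f is
separated if and only if the following uniqueness holds: for every generic point η of an irreducible
component of X, every discrete valuation ring A contained in the residue field κ(η) with fraction
field κ(η) (a valuation subring of κ(η) which is a discrete valuation ring), and every pair of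
morphisms Spec A → X with the same composite to S and both restricting on Spec κ(η) to the canonical
morphism Spec κ(η) → X, the two morphisms coincide. -/
theorem result {X S : Scheme.{u}} [IsLocallyNoetherian S] (f : X ⟶ S)
    [LocallyOfFiniteType f] :
    IsSeparated f ↔ ∀ (η : X), closure {η} ∈ irreducibleComponents (X : Type u) →
      ∀ (A : ValuationSubring (X.residueField η)), IsDiscreteValuationRing A →
        ∀ l₁ l₂ : Spec (CommRingCat.of A) ⟶ X, l₁ ≫ f = l₂ ≫ f →
          Spec.map (CommRingCat.ofHom A.subtype) ≫ l₁ = X.fromSpecResidueField η →
          Spec.map (CommRingCat.ofHom A.subtype) ≫ l₂ = X.fromSpecResidueField η → l₁ = l₂ := by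
  constructor
  · intro hs η _ A hA l₁ l₂ he h1 h2
    exact congrArg CommSq.LiftStruct.l ((IsSeparated.valuativeCriterion f
      { R := A, K := X.residueField η, i₁ := X.fromSpecResidueField η, i₂ := l₁ ≫ f,
        commSq := ⟨by rw [← h1, Category.assoc]; rfl⟩ }).elim ⟨l₁, h1, rfl⟩ ⟨l₂, h2, he.symm⟩)
  · intro H
    refine LimH13.isSeparated_of_dvr_dense f (𝟙 X) (fun x => ⟨x, specializes_rfl⟩)
      fun z A hA hgen l₁ l₂ he h1 h2 => ?_
    exact H z (SchPt.closure_mem_irreducibleComponents_iff.mpr fun w hw => hgen w hw) A hA l₁ l₂ he
      (by simpa using h1) (by simpa using h2)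

end Groth.Agent.S9211
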