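import Groth.Statements.S9212
import Groth.Agent.Lib.LimH13.DVRCrit

set_option autoImplicit false
universe u
open CategoryTheory CategoryTheory.Limits AlgebraicGeometry
open Lim

namespace Groth.Agent.S9212

/-- Let S be a locally Noetherian scheme and f : X → S a morphism of finite type. Then f is proper if
and only if: for every generic point η of an irreducible component of X, every discrete valuation
ring A contained in the residue field κ(η) with fraction field κ(η) (a valuation subring of κ(η)
which is a discrete valuation ring), and every morphism Spec A → S whose restriction to Spec κ(η) is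
the canonical morphism Spec κ(η) → X followed by f, there is exactly one morphism Spec A → X over S
restricting to the canonical morphism on Spec κ(η). -/
theorem result {X S : Scheme.{u}} [IsLocallyNoetherian S] (f : X ⟶ S)
    [LocallyOfFiniteType f] [QuasiCompact f] :
    IsProper f ↔ ∀ (η : X), closure {η} ∈ irreducibleComponents (X : Type u) →
      ∀ (A : ValuationSubring (X.residueField η)), IsDiscreteValuationRing A →
        ∀ y : Spec (CommRingCat.of A) ⟶ S,
          Spec.map (CommRingCat.ofHom A.subtype) ≫ y = X.fromSpecResidueField η ≫ f →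
          ∃! l : Spec (CommRingCat.of A) ⟶ X,
            l ≫ f = y ∧ Spec.map (CommRingCat.ofHom A.subtype) ≫ l = X.fromSpecResidueField η := by
  constructor
  · intro hp η _ A hA y w
    obtain ⟨u⟩ := (IsProper.eq_valuativeCriterion ▸ hp :
      (ValuativeCriterion ⊓ @QuasiCompact ⊓ @QuasiSeparated ⊓ @LocallyOfFiniteType : MorphismProperty Scheme.{u}) f).1.1.1
        { R := A, K := X.residueField η, i₁ := X.fromSpecResidueField η, i₂ := y, commSq := ⟨w.symm⟩ }
    exact ⟨u.default.l, ⟨u.default.fac_right, u.default.fac_left⟩,
      fun l hl => congrArg CommSq.LiftStruct.l (u.uniq ⟨l, hl.2, hl.1⟩)⟩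
  · intro H
    haveI : IsSeparated f := LimH13.isSeparated_of_dvr_dense f (𝟙 X) (fun x => ⟨x, specializes_rfl⟩)
      fun z A hA hgen l₁ l₂ he h1 h2 => (H z (SchPt.closure_mem_irreducibleComponents_iff.mpr fun w hw => hgen w hw)
        A hA (l₁ ≫ f) (by rw [reassoc_of% h1]; try simp)).unique ⟨rfl, by simpa using h1⟩ ⟨he.symm, by simpa using h2⟩
    haveI : UniversallyClosed f := LimH13.universallyClosed_of_dvr_generic f fun η hη A hA y w => by
      obtain ⟨l, ⟨h1, h2⟩, -⟩ := H η hη A hA y w
      exact ⟨l, h2, h1⟩
    exact { }

end Groth.Agent.S9212
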