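import Groth.Statements.S9214
import Groth.Agent.S2078
import Groth.Agent.S0591

set_option autoImplicit false
universe u
open CategoryTheory CategoryTheory.Limits AlgebraicGeometry
open Lim

namespace Groth.Agent.S9214

set_option backward.isDefEq.respectTransparency false
set_option backward.isDefEq.respectTransparency.types false


/-- Let S = lim S_i be a cofiltered limit of Noetherian schemes with affine transition morphisms, and
suppose X → S is of finite type and quasi-separated. One can then find an index i, a finite type
morphism W → S_i and a morphism X → W over S_i (compatible with X → S → S_i) for which the resulting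
map X → S ×_{S_i} W into the fibre product is a closed immersion. -/
theorem result {I : Type u} [SmallCategory I] [IsCofiltered I]
    (D : I ⥤ Scheme.{u}) (c : Limits.Cone D) (hc : Limits.IsLimit c)
    [∀ (i j : I) (f : i ⟶ j), IsAffineHom (D.map f)] [∀ i, IsNoetherian (D.obj i)]
    {X : Scheme.{u}} (a : X ⟶ c.pt) [QuasiSeparated a] [QuasiCompact a] [LocallyOfFiniteType a] :
    ∃ (i : I) (W : Scheme.{u}) (w : W ⟶ D.obj i) (b : X ⟶ W) (hb : a ≫ c.π.app i = b ≫ w),
      LocallyOfFiniteType w ∧ QuasiCompact w ∧ IsClosedImmersion (pullback.lift a b hb) := by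

  haveI : ∀ {i j} (f : i ⟶ j), IsAffineHom (D.map f) := fun f => inferInstance
  haveI : CompactSpace c.pt := Scheme.compactSpace_of_isLimit D c hc
  obtain ⟨i₀⟩ := IsCofiltered.nonempty (C := I)
  haveI : IsAffineHom (c.π.app i₀) := isAffineHom_π_app D c hc i₀
  haveI : QuasiSeparatedSpace c.pt := quasiSeparatedSpace_of_quasiSeparated (c.π.app i₀)
  haveI : CompactSpace X := QuasiCompact.compactSpace_of_compactSpace a
  haveI : QuasiSeparatedSpace X := quasiSeparatedSpace_of_quasiSeparated a
  obtain ⟨X', f', j, h1, h2, h3, h4, h5⟩ := Groth.Agent.S2078.result a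
  haveI := h1
  haveI := h2
  haveI := h3
  haveI := h4
  obtain ⟨i, W, w, g, hw, hwc, hws, hpb⟩ := Groth.Agent.S0591.result D c hc X' f'
  haveI := hw
  have hb : a ≫ c.π.app i = (j ≫ g) ≫ w := by
    rw [← h5, Category.assoc, Category.assoc, hpb.w]
  refine ⟨i, W, w, j ≫ g, hb, inferInstance, hwc, ?_⟩
  have e : Limits.pullback.lift a (j ≫ g) hb = j ≫ hpb.flip.isoPullback.hom := by
    apply Limits.pullback.hom_ext
    · rw [Limits.pullback.lift_fst, Category.assoc, hpb.flip.isoPullback_hom_fst, h5]
    · rw [Limits.pullback.lift_snd, Category.assoc, hpb.flip.isoPullback_hom_snd]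
  rw [e]
  infer_instance

end Groth.Agent.S9214
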