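import Groth.Statements.S9221
import Groth.Agent.S2074
import Groth.Agent.Lib.LimH13.SuppProper
import Groth.Agent.Lib.TensorMod.PullSupport

set_option autoImplicit false
universe u
open CategoryTheory AlgebraicGeometry
open Lim

namespace Groth.Agent.S9221

set_option backward.isDefEq.respectTransparency false
set_option backward.isDefEq.respectTransparency.types false
set_option linter.style.haveILetI false


/-- Let S = lim S_i be a cofiltered limit of schemes with affine transition morphisms, S_{i₀} a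
quasi-compact quasi-separated stage, f₀ : X₀ → Y₀ a morphism of quasi-compact quasi-separated
schemes over S_{i₀}, and f : X → Y its base change along S → S_{i₀} (base changes expressed by
pullback squares). Let F₀ be a quasi-coherent O_{X₀}-module of finite type, with pullbacks F to X
and F_i to X_i, and assume f₀ is locally of finite type. If the support of F (a closed subset of X,
taken with its reduced structure; equivalently the scheme-theoretic support of F) is proper over Y,
then for some index i over i₀, with f_i : X_i → Y_i the base change of f₀ along S_i → S_{i₀}, the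
support of F_i is proper over Y_i. -/
theorem result {I : Type u} [SmallCategory I] [IsCofiltered I]
    (D : I ⥤ Scheme.{u}) (c : Limits.Cone D) (hc : Limits.IsLimit c)
    [∀ (i j : I) (f : i ⟶ j), IsAffineHom (D.map f)] (i₀ : I) [CompactSpace (D.obj i₀)]
    [QuasiSeparatedSpace (D.obj i₀)] {X₀ Y₀ : Scheme.{u}} (f₀ : X₀ ⟶ Y₀) (g₀ : Y₀ ⟶ D.obj i₀)
    [CompactSpace X₀] [QuasiSeparatedSpace X₀] [CompactSpace Y₀] [QuasiSeparatedSpace Y₀]
    [LocallyOfFiniteType f₀] (F₀ : X₀.Modules) [Coh.IsQCoh F₀] (hF₀ : CohB1.IsFT F₀)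
    {X Y : Scheme.{u}} (f : X ⟶ Y) (g : Y ⟶ c.pt) (qY : Y ⟶ Y₀) (qX : X ⟶ X₀)
    (hY : IsPullback qY g g₀ (c.π.app i₀)) (hX : IsPullback qX f f₀ qY) (hF : ClSub.IsProperOver f (CohB1.support ((Scheme.Modules.pullback qX).obj F₀))) :
    ∃ (i : I) (φ : i ⟶ i₀) (Xi Yi : Scheme.{u}) (fi : Xi ⟶ Yi) (gi : Yi ⟶ D.obj i) (pY : Yi ⟶ Y₀)
      (pX : Xi ⟶ X₀), IsPullback pY gi g₀ (D.map φ) ∧ IsPullback pX fi f₀ pY ∧ ClSub.IsProperOver fi (CohB1.support ((Scheme.Modules.pullback pX).obj F₀)) := by

  have hZ : IsClosed (CohB1.support F₀) := M1.isClosed_support hF₀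
  let I₀ := Scheme.IdealSheafData.vanishingIdeal (⟨_, hZ⟩ : TopologicalSpace.Closeds X₀)
  let ι₀ := I₀.subschemeι
  haveI : IsClosedImmersion ι₀ := inferInstanceAs (IsClosedImmersion I₀.subschemeι)
  haveI : CompactSpace I₀.subscheme := QuasiCompact.compactSpace_of_compactSpace ι₀
  haveI : QuasiSeparatedSpace I₀.subscheme := quasiSeparatedSpace_of_quasiSeparated ι₀
  have hr₀ : Set.range ι₀ = CohB1.support F₀ := by
    rw [Scheme.IdealSheafData.range_subschemeι, Scheme.IdealSheafData.coe_support_vanishingIdeal]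
    rfl
  haveI : LocallyOfFiniteType f := MorphismProperty.of_isPullback hX inferInstance
  let W := Limits.pullback qX ι₀
  have hW : Set.range (Limits.pullback.fst qX ι₀) = CohB1.support ((Scheme.Modules.pullback qX).obj F₀) := by
    rw [Scheme.Pullback.range_fst, hr₀, M2.support_pullback qX inferInstance hF₀]
  haveI : IsClosedImmersion (Limits.pullback.fst qX ι₀) := MorphismProperty.pullback_fst _ _ inferInstance
  haveI : IsProper (Limits.pullback.fst qX ι₀ ≫ f) := LimH13.isProper_of_isProperOver f _ hW hF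
  have hWp : IsPullback (Limits.pullback.snd qX ι₀) (Limits.pullback.fst qX ι₀ ≫ f) (ι₀ ≫ f₀) qY :=
    ((IsPullback.of_hasPullback qX ι₀).flip).paste_vert hX
  obtain ⟨i, φ, Wi, Yi, fi', gi, pY, pW, hY', hW', hfi⟩ :=
    Groth.Agent.S2074.result D c hc i₀ (ι₀ ≫ f₀) g₀ (Limits.pullback.fst qX ι₀ ≫ f) g qY
      (Limits.pullback.snd qX ι₀) hY hWp
  let fi := Limits.pullback.snd f₀ pY
  let pX := Limits.pullback.fst f₀ pY
  have hw : (pW ≫ ι₀) ≫ f₀ = fi' ≫ pY := by rw [Category.assoc]; exact hW'.w
  let k : Wi ⟶ Limits.pullback f₀ pY := Limits.pullback.lift (pW ≫ ι₀) fi' hw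
  have hk : IsPullback pW k ι₀ pX := by
    refine IsPullback.of_bot (v₂₁ := fi) (v₂₂ := f₀) (h₃₁ := pY) ?_ (Limits.pullback.lift_fst _ _ _).symm
      (IsPullback.of_hasPullback f₀ pY)
    rw [Limits.pullback.lift_snd]
    exact hW'
  haveI : IsClosedImmersion k := MorphismProperty.of_isPullback hk inferInstance
  have hkr : Set.range k = CohB1.support ((Scheme.Modules.pullback pX).obj F₀) := by
    rw [M2.support_pullback pX inferInstance hF₀, ← hr₀, ← Scheme.Pullback.range_fst]
    rw [← hk.flip.isoPullback_hom_fst, Scheme.Hom.comp_base, TopCat.coe_comp, Set.range_comp,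
      Set.range_eq_univ.mpr hk.flip.isoPullback.hom.surjective, Set.image_univ]
  haveI : IsProper (k ≫ fi) := by rw [Limits.pullback.lift_snd]; exact hfi
  exact ⟨i, φ, _, Yi, fi, gi, pY, pX, hY', IsPullback.of_hasPullback _ _,
    LimH13.isProperOver_of_isProper fi k hkr⟩

end Groth.Agent.S9221
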