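import Groth.Statements.S9226
import Groth.Agent.Lib.RegLoc.Quotient

set_option autoImplicit false
universe u
open CAlg

namespace Groth.Agent.S9226

/-- Let R be a regular local ring, m ≥ 1, f_1, ..., f_m elements of the maximal ideal, and D_1, ..., D_m
derivations of R such that the determinant of the matrix (D_i(f_j)) is a unit of R. Then R/(f_1,
..., f_m) is a regular local ring and f_1, ..., f_m is a regular sequence on R. -/
theorem result (R : Type u) [CommRing R]
    [IsRegularLocalRing R] (m : ℕ) (hm : 1 ≤ m) (f : Fin m → R)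
    (hf : ∀ i, f i ∈ IsLocalRing.maximalIdeal R) (D : Fin m → Derivation ℤ R R)
    (hdet : IsUnit (Matrix.det (Matrix.of (fun i j : Fin m => D i (f j))))) :
    IsRegularLocalRing (R ⧸ Ideal.span (Set.range f)) ∧
      RingTheory.Sequence.IsRegular R (List.ofFn f) := by
  refine Groth.Agent.RegLoc.regular_of_independent m R f hf fun a ha => ?_
  set M : Matrix (Fin m) (Fin m) R := Matrix.of fun i j => D i (f j)
  have hmul : ∀ i, M.mulVec a i ∈ IsLocalRing.maximalIdeal R := by
    intro i
    have h1 := Groth.Agent.RegLoc.derivation_mem_of_mem_sq (D i) ha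
    rw [map_sum] at h1
    simp only [Derivation.leibniz, smul_eq_mul, Finset.sum_add_distrib] at h1
    rw [Submodule.add_mem_iff_left _ (Submodule.sum_mem _ fun j _ => Ideal.mul_mem_right _ _ (hf j))] at h1
    simpa [M, Matrix.mulVec, dotProduct, mul_comm] using h1
  intro j
  have hinv : M⁻¹.mulVec (M.mulVec a) = a := by
    rw [Matrix.mulVec_mulVec, Matrix.nonsing_inv_mul M hdet, Matrix.one_mulVec]
  rw [← hinv]
  show ∑ k, M⁻¹ j k * M.mulVec a k ∈ _
  exact Submodule.sum_mem _ fun k _ => Ideal.mul_mem_left _ _ (hmul k)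

end Groth.Agent.S9226
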