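import Groth.Statements.S9227
import Groth.Agent.Lib.RegLoc.Quotient
import Mathlib.RingTheory.RegularLocalRing.Polynomial
import Mathlib.RingTheory.Derivation.MapCoeffs

set_option autoImplicit false
universe u
open CAlg

namespace Groth.Agent.S9227

/-- Let R be a regular ring, f an element of R and D a derivation of R with D(f) a unit of R. Then for
every polynomial p with integer coefficients the ring R[z]/(p(z) - f) is regular; in particular
R[z]/(z^n - f) is regular for every n ≥ 1. -/
theorem result (R : Type u) [CommRing R]
    [IsRegularRing R] (f : R) (D : Derivation ℤ R R) (hD : IsUnit (D f)) (p : Polynomial ℤ) :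
    IsRegularRing (Polynomial R ⧸
      Ideal.span ({Polynomial.map (Int.castRingHom R) p - Polynomial.C f} : Set (Polynomial R))) := by
  letI : Differential R := ⟨D⟩
  refine Groth.Agent.RegLoc.isRegularRing_quotient_of_derivation _ Differential.mapCoeffs ?_
  have h : Differential.mapCoeffs (Polynomial.map (Int.castRingHom R) p - Polynomial.C f) = -Polynomial.C (D f) := by
    rw [map_sub, Differential.mapCoeffs_C]
    suffices Differential.mapCoeffs (Polynomial.map (Int.castRingHom R) p) = 0 by rw [this, zero_sub]; rfl
    induction p using Polynomial.induction_on' with
    | add a b ha hb => rw [Polynomial.map_add, map_add, ha, hb, add_zero]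
    | monomial n a =>
      rw [Polynomial.map_monomial, Differential.mapCoeffs_monomial, eq_intCast, Derivation.map_intCast, map_zero]
  erw [h, map_neg]
  exact (((Polynomial.isUnit_C).2 hD).map _).neg

end Groth.Agent.S9227
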