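import Groth.Statements.S9232
import Groth.Agent.Lib.CplLocH7.Basic
import Mathlib.RingTheory.RingHom.Flat

set_option autoImplicit false
universe u
open CAlg

namespace Groth.Agent.S9232

/-- Suppose A → B is a flat local ring map between Noetherian local rings, the maximal ideal of A
generates that of B, and the residue field map is bijective. Then the induced map between the
completions of A and B (a ring map of the completions compatible with A → B; it is unique since A is
Noetherian) is an isomorphism. -/
theorem result (A B : Type u) [CommRing A]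
    [CommRing B] [IsLocalRing A] [IsLocalRing B] [IsNoetherianRing A] [IsNoetherianRing B]
    [Algebra A B] [IsLocalHom (algebraMap A B)] [Module.Flat A B]
    (hm : Ideal.map (algebraMap A B) (IsLocalRing.maximalIdeal A) = IsLocalRing.maximalIdeal B)
    (hk : Function.Bijective (IsLocalRing.ResidueField.map (algebraMap A B)))
    (ψ : AdicCompletion (IsLocalRing.maximalIdeal A) A →+* AdicCompletion (IsLocalRing.maximalIdeal B) B)
    (hψ : ψ.comp (algebraMap A (AdicCompletion (IsLocalRing.maximalIdeal A) A)) =
      (algebraMap B (AdicCompletion (IsLocalRing.maximalIdeal B) B)).comp (algebraMap A B)) :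
    Function.Bijective ψ := by
  letI := ψ.toAlgebra
  haveI : IsScalarTower A (Groth.Agent.CplLocH7.Cpl A) (Groth.Agent.CplLocH7.Cpl B) := IsScalarTower.of_algebraMap_eq fun x => by
    rw [IsScalarTower.algebraMap_apply A B (Groth.Agent.CplLocH7.Cpl B)]
    exact (RingHom.congr_fun hψ x).symm
  have hsurj : Function.Surjective ψ := by
    have hs := Groth.Agent.CplLocH7.surjective_linearCombination (A := A) hm (fun _ : Fin 1 => (1 : B)) fun b => by
      obtain ⟨a, ha⟩ := hk.2 (IsLocalRing.residue B b)
      obtain ⟨a, rfl⟩ := IsLocalRing.residue_surjective a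
      refine ⟨fun _ => a, ?_⟩
      rw [← IsLocalRing.residue_eq_zero_iff, map_sub, sub_eq_zero, Fin.sum_univ_one, ← ha, Algebra.smul_def, mul_one]
      rfl
    intro y
    obtain ⟨c, hc⟩ := hs y
    refine ⟨c 0, ?_⟩
    rw [← hc, Fintype.linearCombination_apply, Fin.sum_univ_one, map_one, Algebra.smul_def, mul_one]
    rfl
  haveI : Module.Flat (Groth.Agent.CplLocH7.Cpl A) (Groth.Agent.CplLocH7.Cpl B) := Groth.Agent.CplLocH7.flat_iff.2 inferInstance
  haveI : Module.FaithfullyFlat (Groth.Agent.CplLocH7.Cpl A) (Groth.Agent.CplLocH7.Cpl B) := Module.FaithfullyFlat.of_flat_of_isLocalHom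
  exact ⟨FaithfulSMul.algebraMap_injective (Groth.Agent.CplLocH7.Cpl A) (Groth.Agent.CplLocH7.Cpl B), hsurj⟩

end Groth.Agent.S9232
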