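import Mathlib.RingTheory.Henselian
import Mathlib.RingTheory.LocalRing.ResidueField.Basic
import Mathlib.RingTheory.LocalRing.RingHom.Basic
import Groth.Prelude.Def_Hensel
import Groth.Prelude.Def_CAlg
import Mathlib.RingTheory.Noetherian.Basic
import Groth.Agent.Lib.Hens.Transfer

set_option autoImplicit false
universe u
open Hensel

namespace Groth.Agent.S9234

/-- A strict henselization S of a Noetherian local ring R has the same depth as R. -/
theorem result (R S : Type u) [CommRing R] [IsLocalRing R]
    [IsNoetherianRing R] [CommRing S] [IsLocalRing S] [Algebra R S] [IsLocalHom (algebraMap R S)]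
    [Hensel.IsStrictHenselization R S] : LocCoh.depth S S = LocCoh.depth R R := by
  haveI := Groth.Agent.Hens.strictHenselization_flat R S; haveI := Groth.Agent.Hens.strictHenselization_isNoetherianRing R S; exact Groth.Agent.Hens.depth_eq_of_map_maximalIdeal R S (Groth.Agent.Hens.strictHenselization_map_maximalIdeal R S)

end Groth.Agent.S9234
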