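import Groth.Statements.S9247
import Groth.Agent.Lib.RegLoc.UFD
import Mathlib.RingTheory.PicardGroup

set_option autoImplicit false
universe u
open CAlg

namespace Groth.Agent.S9247

/-- For a regular local ring R and an element f of R, the Picard group of R_f is trivial. -/
theorem result (R : Type u) [CommRing R]
    [IsRegularLocalRing R] (f : R) : Subsingleton (CommRing.Pic (Localization.Away f)) := by
  have := Groth.Agent.RegLoc.isDomain R
  have := Groth.Agent.RegLoc.ufd_of_isRegularLocalRing R
  by_cases hf : f = 0
  · have : Subsingleton (Localization.Away f) :=
      IsLocalization.subsingleton (M := Submonoid.powers f) ⟨1, by simp [hf]⟩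
    refine ⟨fun a b => ?_⟩
    have h : ∀ x : CommRing.Pic (Localization.Away f), x = 1 := fun x => by
      have : Subsingleton x.AsModule := Module.subsingleton (Localization.Away f) _
      rw [← CommRing.Pic.mk_self, ← CommRing.Pic.mk_eq_self (M := x), CommRing.Pic.mk_eq_mk_iff]
      exact ⟨LinearEquiv.ofSubsingleton _ _⟩
    rw [h a, h b]
  · have hd : IsDomain (Localization.Away f) := IsLocalization.Away.isDomain _ hf
    have : UniqueFactorizationMonoid (Localization.Away f) :=
      UniqueFactorizationMonoid.of_isLocalization (Submonoid.powers f) _
    infer_instance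

end Groth.Agent.S9247
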