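import Groth.Statements.S9250
import Groth.Agent.Lib.GRing6.RegOpen

set_option autoImplicit false
universe u
open CAlg

namespace Groth.Agent.S9250

/-- Let R → S be a regular ring map with S Noetherian and R regular. Then S is regular. -/
theorem result (R S : Type u) [CommRing R] [CommRing S] [Algebra R S]
    [IsRegularRing R] [IsNoetherianRing S] (h : CAlg.IsRegularHom R S) : IsRegularRing S := by
  rw [isRegularRing_iff]
  intro q hq
  have : (⟨q, hq⟩ : PrimeSpectrum S) ∈ EGA4.regLocus S := by
    rw [Groth.Agent.GRing6.regLocus_eq_preimage R S h]
    exact isRegularRing_iff.mp ‹IsRegularRing R› _ 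
  exact this

end Groth.Agent.S9250
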