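import Groth.Statements.S9256
import Groth.Agent.Lib.FlatDepth.GeomExt
import Groth.Agent.Lib.FlatDepth.RegNormal

set_option autoImplicit false
universe u
open CAlg

namespace Groth.Agent.S9256

open TensorProduct in
lemma transfer {k κ : Type u} [Field k] [Field κ] [Algebra k κ] (hb : Function.Bijective (algebraMap k κ))
    (K : Type u) [CommRing K] [Algebra k K] :
    CAlg.IsGeometricallyRegular κ (κ ⊗[k] K) ↔ CAlg.IsGeometricallyRegular k K := by
  haveI : Module.Finite k κ := Module.Finite.of_surjective (Algebra.linearMap k κ) hb.2
  constructor
  · intro h k' _ _ hk'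
    let e := RingEquiv.ofBijective _ hb
    letI : Algebra κ k' := ((algebraMap k k').comp e.symm.toRingHom).toAlgebra
    haveI : IsScalarTower k κ k' := .of_algebraMap_eq fun x => by
      show algebraMap k k' x = algebraMap k k' (e.symm (e x))
      rw [e.symm_apply_apply]
    haveI : Module.Finite κ k' := Module.Finite.of_restrictScalars_finite k κ k'
    haveI := h k' inferInstance
    exact IsRegularRing.of_ringEquiv (Algebra.TensorProduct.cancelBaseChange k κ k' k' K).toRingEquiv
  · intro h k' _ _ hk'
    letI : Algebra k k' := ((algebraMap κ k').comp (algebraMap k κ)).toAlgebra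
    haveI : IsScalarTower k κ k' := .of_algebraMap_eq fun x => rfl
    haveI : Module.Finite k k' := Module.Finite.trans κ k'
    haveI := h k' inferInstance
    exact IsRegularRing.of_ringEquiv (Algebra.TensorProduct.cancelBaseChange k κ k' k' K).symm.toRingEquiv


/-- For a field extension K of k, the ring map k → K is regular exactly when K is separable over k, that
is, geometrically reduced over k. -/
theorem result (k K : Type u) [Field k] [Field K]
    [Algebra k K] : CAlg.IsRegularHom k K ↔ Algebra.IsGeometricallyReduced k K := by
  have hb : ∀ (p : Ideal k) [p.IsPrime], Function.Bijective (algebraMap k p.ResidueField) := by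
    intro p hp
    haveI : p.IsMaximal := (Ideal.eq_bot_of_prime p).symm ▸ Ideal.bot_isMaximal
    exact ⟨(algebraMap k p.ResidueField).injective, p.algebraMap_residueField_surjective⟩
  constructor
  · intro h
    exact FlatDepth.geomReduced_of_geomRegular ((transfer (hb ⊥) K).1 (h.2 ⊥).2)
  · intro h
    refine ⟨inferInstance, fun p _ => ⟨?_, (transfer (hb p) K).2 FlatDepth.geomRegular_of_field⟩⟩
    exact isNoetherianRing_of_ringEquiv K
      ((Algebra.TensorProduct.congr (AlgEquiv.ofBijective (Algebra.ofId k p.ResidueField) (hb p))
        AlgEquiv.refl).toRingEquiv.symm.symm |> fun e => (Algebra.TensorProduct.lid k K).symm.toRingEquiv.trans e)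

end Groth.Agent.S9256
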