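import Groth.Statements.S9258
import Groth.Prelude.Def_CAlgX
import Mathlib

set_option autoImplicit false
universe u
open CAlg

namespace Groth.Agent.S9258

open IsLocalRing in
/-- One step of the extension of a derivation. -/
theorem exists_step {A B : Type u} [CommRing A] [CommRing B] [IsLocalRing B] [Algebra A B]
    (hfs : CAlgX.IsAdicFormallySmooth A B (maximalIdeal B)) (D : Derivation ℤ A A) (n : ℕ)
    (d : B →+ B ⧸ maximalIdeal B ^ (n + 1))
    (hd : ∀ x y, d (x * y) = Ideal.Quotient.mk _ x * d y + Ideal.Quotient.mk _ y * d x)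
    (hA : ∀ a, d (algebraMap A B a) = Ideal.Quotient.mk _ (algebraMap A B (D a))) :
    ∃ d' : B →+ B ⧸ maximalIdeal B ^ (n + 2),
      (∀ x y, d' (x * y) = Ideal.Quotient.mk _ x * d' y + Ideal.Quotient.mk _ y * d' x) ∧
      (∀ a, d' (algebraMap A B a) = Ideal.Quotient.mk _ (algebraMap A B (D a))) ∧
      ∀ x, Ideal.Quotient.factor (Ideal.pow_le_pow_right (Nat.le_succ (n + 1))) (d' x) = d x := by
  have hII : (maximalIdeal B ^ (n + 2)) ≤ (maximalIdeal B ^ (n + 1)) := Ideal.pow_le_pow_right (Nat.le_succ (n + 1))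
  let R₁ := B ⧸ (maximalIdeal B ^ (n + 2))
  let f : R₁ →+* B ⧸ (maximalIdeal B ^ (n + 1)) := Ideal.Quotient.factor hII
  let s₁ : A →+* (TrivSqZeroExt R₁ R₁) :=
    { toFun := fun a => TrivSqZeroExt.inl (Ideal.Quotient.mk (maximalIdeal B ^ (n + 2)) (algebraMap A B a)) +
        TrivSqZeroExt.inr (Ideal.Quotient.mk (maximalIdeal B ^ (n + 2)) (algebraMap A B (D a)))
      map_one' := by
        refine TrivSqZeroExt.ext ?_ ?_ <;> simp [-DualNumber.inr_eq_smul_eps]
      map_mul' := fun a b => by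
        refine TrivSqZeroExt.ext ?_ ?_
        · simp [-DualNumber.inr_eq_smul_eps]
        · simp only [TrivSqZeroExt.snd_add, TrivSqZeroExt.snd_inl, TrivSqZeroExt.snd_inr, zero_add,
            TrivSqZeroExt.snd_mul, TrivSqZeroExt.fst_add, TrivSqZeroExt.fst_inl, TrivSqZeroExt.fst_inr,
            add_zero, D.leibniz, smul_eq_mul, MulOpposite.smul_eq_mul_unop, MulOpposite.unop_op, map_add, map_mul]
          ring
      map_zero' := by refine TrivSqZeroExt.ext ?_ ?_ <;> simp [-DualNumber.inr_eq_smul_eps]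
      map_add' := fun a b => by refine TrivSqZeroExt.ext ?_ ?_ <;> simp [-DualNumber.inr_eq_smul_eps] }
  let _ : Algebra A (TrivSqZeroExt R₁ R₁) := s₁.toAlgebra
  let N : Ideal (TrivSqZeroExt R₁ R₁) :=
    { carrier := {x | x.fst = 0 ∧ f x.snd = 0}
      add_mem' := fun {x y} hx hy => ⟨by simp [hx.1, hy.1], by simp [hx.2, hy.2]⟩
      zero_mem' := ⟨by simp, by simp⟩
      smul_mem' := fun c x hx => ⟨by simp [hx.1], by
        rw [smul_eq_mul, TrivSqZeroExt.snd_mul, smul_eq_mul, MulOpposite.smul_eq_mul_unop,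
          MulOpposite.unop_op, hx.1, mul_zero, add_zero, map_mul, hx.2, mul_zero]⟩ }
  have hN : N ^ 2 = ⊥ := by
    rw [pow_two, eq_bot_iff, Ideal.mul_le]
    intro x hx y hy
    refine Ideal.mem_bot.2 (TrivSqZeroExt.ext ?_ ?_)
    · simp [hx.1]
    · rw [TrivSqZeroExt.snd_mul, hx.1, hy.1]; simp
  have heq : ∀ z w : (TrivSqZeroExt R₁ R₁), z.fst = w.fst → f z.snd = f w.snd →
      Ideal.Quotient.mk N z = Ideal.Quotient.mk N w := fun z w h1 h2 =>
    Ideal.Quotient.eq.2 ⟨by simp [h1], by simp [h2]⟩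
  choose L hL using fun x => Ideal.Quotient.factor_surjective hII (d x)
  let c : B → (TrivSqZeroExt R₁ R₁) := fun x => TrivSqZeroExt.inl (Ideal.Quotient.mk (maximalIdeal B ^ (n + 2)) x) + TrivSqZeroExt.inr (L x)
  have hc1 : ∀ x, (c x).fst = Ideal.Quotient.mk (maximalIdeal B ^ (n + 2)) x := fun x => by simp [c]
  have hc2 : ∀ x, f (c x).snd = d x := fun x => by simp [c, f, hL]
  have hd1 : d 1 = 0 := by
    have h1 := hd 1 1
    simp only [one_mul, map_one] at h1
    simpa using h1
  let u : B →ₐ[A] (TrivSqZeroExt R₁ R₁) ⧸ N :=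
    { toFun := fun x => Ideal.Quotient.mk N (c x)
      map_one' := heq (c 1) 1 (by simp [hc1]) (by simp [hc2, hd1])
      map_mul' := fun x y => (heq (c (x * y)) (c x * c y) (by simp [hc1]) (by
        rw [hc2, hd, TrivSqZeroExt.snd_mul, smul_eq_mul, MulOpposite.smul_eq_mul_unop, MulOpposite.unop_op,
          hc1, hc1, map_add, map_mul, map_mul, hc2, hc2]
        show _ = Ideal.Quotient.mk _ x * d y + d x * Ideal.Quotient.mk _ y
        ring)).trans (map_mul _ _ _)
      map_zero' := heq (c 0) 0 (by simp [hc1]) (by simp [hc2])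
      map_add' := fun x y => (heq (c (x + y)) (c x + c y) (by simp [hc1]) (by simp [hc2])).trans (map_add _ _ _)
      commutes' := fun a => heq (c (algebraMap A B a)) (s₁ a) (by simp [hc1, s₁]) (by
        rw [hc2, hA, show (s₁ a).snd = Ideal.Quotient.mk _ (algebraMap A B (D a)) by simp [s₁, -DualNumber.inr_eq_smul_eps]]
        rfl) }
  have hzero : ∀ a ∈ maximalIdeal B ^ (n + 2), ∀ b ∈ maximalIdeal B ^ (n + 2), u (a * b) = 0 := by
    intro a ha b hb
    refine (heq (c (a * b)) 0 ?_ ?_).trans (map_zero _)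
    · rw [hc1, map_mul, Ideal.Quotient.eq_zero_iff_mem.2 ha, zero_mul]; rfl
    · rw [hc2, hd, Ideal.Quotient.eq_zero_iff_mem.2 (hII ha), Ideal.Quotient.eq_zero_iff_mem.2 (hII hb)]
      simp
  obtain ⟨v, hv⟩ := hfs (TrivSqZeroExt R₁ R₁) N hN u ⟨(n + 2) + (n + 2), fun x hx => by
    rw [pow_add] at hx
    exact Submodule.mul_induction_on hx hzero fun a b ha hb => by rw [map_add, ha, hb, add_zero]⟩
  have hv' : ∀ x, (v x).fst = Ideal.Quotient.mk (maximalIdeal B ^ (n + 2)) x ∧ f (v x).snd = d x := fun x => by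
    obtain ⟨h1, h2⟩ := Ideal.Quotient.eq.1 (AlgHom.congr_fun hv x : Ideal.Quotient.mk N (v x) = Ideal.Quotient.mk N (c x))
    rw [TrivSqZeroExt.fst_sub, sub_eq_zero] at h1
    rw [TrivSqZeroExt.snd_sub, map_sub, sub_eq_zero] at h2
    exact ⟨h1.trans (hc1 x), h2.trans (hc2 x)⟩
  let d' : B →+ R₁ :=
    { toFun := fun x => (v x).snd
      map_zero' := by simp
      map_add' := fun x y => by simp }
  refine ⟨d', fun x y => ?_, fun a => ?_, fun x => (hv' x).2⟩
  · show (v (x * y)).snd = _
    rw [map_mul, TrivSqZeroExt.snd_mul, (hv' x).1, (hv' y).1, smul_eq_mul, MulOpposite.smul_eq_mul_unop,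
      MulOpposite.unop_op, mul_comm (v x).snd]
    rfl
  · show (v (algebraMap A B a)).snd = _
    rw [v.commutes]
    show (s₁ a).snd = _
    simp [s₁, R₁, -DualNumber.inr_eq_smul_eps]


/-- Suppose A → B is a local map of Noetherian local rings, B is complete, and A → B is formally smooth
for the adic topology of the maximal ideal of B. Then each derivation D of A extends to a derivation
D' of B, in the sense that D' restricted along A → B equals D followed by A → B. -/
theorem result (A B : Type u) [CommRing A]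
    [CommRing B] [IsLocalRing A] [IsLocalRing B] [IsNoetherianRing A] [IsNoetherianRing B]
    [Algebra A B] [IsLocalHom (algebraMap A B)]
    [IsAdicComplete (IsLocalRing.maximalIdeal B) B]
    (hfs : CAlgX.IsAdicFormallySmooth A B (IsLocalRing.maximalIdeal B)) (D : Derivation ℤ A A) :
    ∃ D' : Derivation ℤ B B, ∀ a : A, D' (algebraMap A B a) = algebraMap A B (D a) := by
  let m := IsLocalRing.maximalIdeal B
  let T : ℕ → Type u := fun n => {d : B →+ B ⧸ m ^ (n + 1) //
    (∀ x y, d (x * y) = Ideal.Quotient.mk _ x * d y + Ideal.Quotient.mk _ y * d x) ∧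
    ∀ a, d (algebraMap A B a) = Ideal.Quotient.mk _ (algebraMap A B (D a))}
  -- the first step: lift from the zero ring
  have h0 : Nonempty (T 0) := by
    let s₁ : A →+* (TrivSqZeroExt (B ⧸ m ^ 1) (B ⧸ m ^ 1)) :=
      { toFun := fun a => TrivSqZeroExt.inl (Ideal.Quotient.mk _ (algebraMap A B a)) +
          TrivSqZeroExt.inr (Ideal.Quotient.mk _ (algebraMap A B (D a)))
        map_one' := by
          refine TrivSqZeroExt.ext ?_ ?_ <;> simp [-DualNumber.inr_eq_smul_eps]
        map_mul' := fun a b => by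
          refine TrivSqZeroExt.ext ?_ ?_
          · simp [-DualNumber.inr_eq_smul_eps]
          · simp only [TrivSqZeroExt.snd_add, TrivSqZeroExt.snd_inl, TrivSqZeroExt.snd_inr, zero_add,
              TrivSqZeroExt.snd_mul, TrivSqZeroExt.fst_add, TrivSqZeroExt.fst_inl, TrivSqZeroExt.fst_inr,
              add_zero, D.leibniz, smul_eq_mul, MulOpposite.smul_eq_mul_unop, MulOpposite.unop_op, map_add, map_mul]
            ring
        map_zero' := by refine TrivSqZeroExt.ext ?_ ?_ <;> simp [-DualNumber.inr_eq_smul_eps]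
        map_add' := fun a b => by refine TrivSqZeroExt.ext ?_ ?_ <;> simp [-DualNumber.inr_eq_smul_eps] }
    let _ : Algebra A (TrivSqZeroExt (B ⧸ m ^ 1) (B ⧸ m ^ 1)) := s₁.toAlgebra
    let π : (TrivSqZeroExt (B ⧸ m ^ 1) (B ⧸ m ^ 1)) →ₐ[A] B ⧸ m ^ 1 :=
      { (TrivSqZeroExt.fstHom ℤ (B ⧸ m ^ 1) (B ⧸ m ^ 1)).toRingHom with
        commutes' := fun a => by
          show (s₁ a).fst = _
          simp [s₁] }
    have hπ : Function.Surjective π := fun y => ⟨TrivSqZeroExt.inl y, rfl⟩
    let N := RingHom.ker π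
    have hN : N ^ 2 = ⊥ := by
      rw [pow_two, eq_bot_iff, Ideal.mul_le]
      intro x hx y hy
      refine Ideal.mem_bot.2 (TrivSqZeroExt.ext ?_ ?_)
      · rw [TrivSqZeroExt.fst_mul, show x.fst = 0 from hx, zero_mul]; rfl
      · rw [TrivSqZeroExt.snd_mul, show x.fst = 0 from hx, show y.fst = 0 from hy]; simp
    let e := Ideal.quotientKerAlgEquivOfSurjective hπ
    obtain ⟨v, hv⟩ := hfs (TrivSqZeroExt (B ⧸ m ^ 1) (B ⧸ m ^ 1)) N hN (e.symm.toAlgHom.comp (Ideal.Quotient.mkₐ A _))
      ⟨1, fun x hx => by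
        show e.symm (Ideal.Quotient.mk _ x) = 0
        rw [Ideal.Quotient.eq_zero_iff_mem.2 hx, map_zero]⟩
    have hvf : ∀ x, (v x).fst = Ideal.Quotient.mk _ x := fun x => by
      have h := congrArg e (AlgHom.congr_fun hv x)
      simp only [AlgHom.comp_apply, AlgEquiv.coe_toAlgHom, AlgEquiv.apply_symm_apply] at h
      exact h
    refine ⟨⟨{ toFun := fun x => (v x).snd, map_zero' := by simp, map_add' := fun x y => by simp },
      fun x y => ?_, fun a => ?_⟩⟩
    · show (v (x * y)).snd = _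
      rw [map_mul, TrivSqZeroExt.snd_mul, hvf, hvf, smul_eq_mul, MulOpposite.smul_eq_mul_unop,
        MulOpposite.unop_op, mul_comm (v x).snd]
      rfl
    · show (v (algebraMap A B a)).snd = _
      rw [v.commutes]
      show (s₁ a).snd = _
      simp [s₁, -DualNumber.inr_eq_smul_eps]
  obtain ⟨t0⟩ := h0
  choose nxt h1 h2 h3 using fun n (d : T n) => exists_step hfs D n d.1 d.2.1 d.2.2
  let g : ∀ n, T n := fun n => Nat.rec t0 (fun m d => ⟨nxt m d, h1 m d, h2 m d⟩) n
  have hg : ∀ n x, Ideal.Quotient.factor (Ideal.pow_le_pow_right (Nat.le_succ (n + 1))) ((g (n + 1)).1 x) =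
      (g n).1 x := fun n x => h3 n (g n) x
  let L : B → ℕ → B := fun x n => Function.surjInv Ideal.Quotient.mk_surjective ((g n).1 x)
  have hL : ∀ x n, Ideal.Quotient.mk (m ^ (n + 1)) (L x n) = (g n).1 x := fun x n =>
    Function.surjInv_eq Ideal.Quotient.mk_surjective _
  have hcauchy : ∀ x (a b : ℕ), a ≤ b → L x b - L x a ∈ m ^ (a + 1) := by
    intro x a b hab
    induction b, hab using Nat.le_induction with
    | base => rw [sub_self]; exact zero_mem _
    | succ b hab ih =>
      have h := hg b x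
      rw [← hL x (b + 1), Ideal.Quotient.factor_mk, ← hL x b, Ideal.Quotient.eq] at h
      rw [show L x (b + 1) - L x a = (L x (b + 1) - L x b) + (L x b - L x a) by ring]
      exact add_mem (Ideal.pow_le_pow_right (by omega) h) ih
  have hlim : ∀ x, ∃ l : B, ∀ n, Ideal.Quotient.mk (m ^ (n + 1)) l = (g n).1 x := by
    intro x
    obtain ⟨l, hl⟩ := IsPrecomplete.prec (inferInstance : IsPrecomplete m B) (f := L x) fun {a b} hab => by
      rw [SModEq.sub_mem, smul_eq_mul, Ideal.mul_top, ← neg_mem_iff, neg_sub]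
      exact Ideal.pow_le_pow_right (Nat.le_succ a) (hcauchy x a b hab)
    refine ⟨l, fun n => ?_⟩
    rw [← hL, Ideal.Quotient.eq]
    have h := hl (n + 1)
    rw [SModEq.sub_mem, smul_eq_mul, Ideal.mul_top] at h
    have h' := hcauchy x n (n + 1) (Nat.le_succ n)
    rw [show l - L x n = (L x (n + 1) - L x n) - (L x (n + 1) - l) by ring]
    exact sub_mem h' h
  choose l hl using hlim
  have huniq : ∀ a b : B, (∀ n, Ideal.Quotient.mk (m ^ (n + 1)) a = Ideal.Quotient.mk (m ^ (n + 1)) b) → a = b := by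
    intro a b h
    rw [← sub_eq_zero]
    refine IsHausdorff.haus (inferInstance : IsHausdorff m B) _ fun n => ?_
    rw [SModEq.zero, smul_eq_mul, Ideal.mul_top]
    exact Ideal.pow_le_pow_right (Nat.le_succ n) (Ideal.Quotient.eq.1 (h n))
  let Dadd : B →+ B :=
    { toFun := l
      map_zero' := huniq _ _ fun n => by rw [hl, map_zero, map_zero]
      map_add' := fun x y => huniq _ _ fun n => by rw [map_add (Ideal.Quotient.mk _), hl, hl, hl, map_add] }
  refine ⟨Derivation.mk' Dadd.toIntLinearMap fun x y => huniq _ _ fun n => ?_, fun a => huniq _ _ fun n => ?_⟩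
  · show Ideal.Quotient.mk _ (l (x * y)) = Ideal.Quotient.mk _ (x • l y + y • l x)
    rw [hl, (g n).2.1, smul_eq_mul, smul_eq_mul, map_add, map_mul, map_mul, hl, hl]
  · show Ideal.Quotient.mk _ (l (algebraMap A B a)) = _
    rw [hl, (g n).2.2]

end Groth.Agent.S9258
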