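import Groth.Statements.S9259
import Groth.Agent.Lib.FormalFib3.Basic
import Groth.Agent.Lib.CplDomain.GRing

set_option autoImplicit false
universe u
open CAlg

namespace Groth.Agent.S9259

open TensorProduct IsLocalRing
open Groth.Agent in
theorem regLocal_tensor (A B : Type u) [CommRing A] [CommRing B] [Algebra A B] (k' : Type u) [CommRing k'] [Algebra A k']
    (Q : Ideal (k' ⊗[A] B)) [Q.IsPrime] (q : Ideal B) [q.IsPrime]
    (hq : Q.comap (Algebra.TensorProduct.includeRight : B →ₐ[A] k' ⊗[A] B) ≤ q)
    [IsRegularRing (k' ⊗[A] Localization.AtPrime q)] : IsRegularLocalRing (Localization.AtPrime Q) := by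
  let S := k' ⊗[A] B
  let f : S →ₐ[k'] k' ⊗[A] Localization.AtPrime q :=
    Algebra.TensorProduct.map (AlgHom.id k' k') (IsScalarTower.toAlgHom A B (Localization.AtPrime q))
  letI : Algebra S (k' ⊗[A] Localization.AtPrime q) := f.toRingHom.toAlgebra
  haveI : IsScalarTower k' S (k' ⊗[A] Localization.AtPrime q) := .of_algebraMap_eq fun x => (f.commutes x).symm
  haveI := IsLocalization.tensorProduct_tensorProduct_right A k' q.primeCompl (Localization.AtPrime q)
    (RingHom.ext fun x => by
      show f (1 ⊗ₜ x) = _
      exact Algebra.TensorProduct.map_tmul _ _ _ _)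
  let M := q.primeCompl.map (Algebra.TensorProduct.includeRight (R := A) (A := k') (B := B))
  have hM : M ≤ Q.primeCompl := by
    rintro _ ⟨b, hb, rfl⟩ h
    exact hb (hq h)
  let Q' := Q.map (algebraMap S (k' ⊗[A] Localization.AtPrime q))
  have hdisj : Disjoint (M : Set S) (Q : Set S) := Set.disjoint_left.2 fun x hx hx' => hM hx hx'
  haveI : Q'.IsPrime := IsLocalization.isPrime_of_isPrime_disjoint M _ Q ‹_› hdisj
  have hc : Q'.comap (algebraMap S (k' ⊗[A] Localization.AtPrime q)) = Q :=
    IsLocalization.comap_map_of_isPrime_disjoint M _ ‹_› hdisj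
  haveI : IsRegularLocalRing (Localization.AtPrime Q') := inferInstance
  haveI h1 := IsLocalization.isLocalization_isLocalization_atPrime_isLocalization M (Localization.AtPrime Q') Q'
  have e : (Q'.comap (algebraMap S (k' ⊗[A] Localization.AtPrime q))).primeCompl = Q.primeCompl := by
    ext x
    show x ∉ Q'.comap _ ↔ x ∉ Q
    rw [hc]
  have h2 : IsLocalization Q.primeCompl (Localization.AtPrime Q') := e ▸ h1
  exact IsRegularLocalRing.of_ringEquiv (R := Localization.AtPrime Q')
    (IsLocalization.algEquiv Q.primeCompl (Localization.AtPrime Q') (Localization.AtPrime Q)).toRingEquiv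

/-- Tensoring over a localization of the base is tensoring over the base. -/
theorem regular_tensor_iff {R R₁ k' T : Type u} [CommRing R] [CommRing R₁] [CommRing k'] [CommRing T]
    (M : Submonoid R) [Algebra R R₁] [IsLocalization M R₁] [Algebra R k'] [Algebra R T] [Algebra R₁ k'] [Algebra R₁ T]
    [IsScalarTower R R₁ k'] [IsScalarTower R R₁ T] :
    IsRegularRing (k' ⊗[R₁] T) ↔ IsRegularRing (k' ⊗[R] T) := by
  haveI := IsLocalization.tensorProduct_compatibleSMul M R₁ k' T
  let e := (Algebra.TensorProduct.equivOfCompatibleSMul R R₁ k' k' T).toRingEquiv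
  exact ⟨fun _ => IsRegularRing.of_ringEquiv e, fun _ => IsRegularRing.of_ringEquiv e.symm⟩

open Groth.Agent in
theorem fwd {R Λ : Type u} [CommRing R] [CommRing Λ] [Algebra R Λ] [IsNoetherianRing Λ]
    (h : CAlg.IsRegularHom R Λ) (q : Ideal Λ) [q.IsPrime] (p : Ideal R) [p.IsPrime]
    [Algebra (Localization.AtPrime p) (Localization.AtPrime q)]
    [IsScalarTower R (Localization.AtPrime p) (Localization.AtPrime q)] :
    CAlg.IsRegularHom (Localization.AtPrime p) (Localization.AtPrime q) := by
  haveI := h.1
  haveI : Module.Flat R (Localization.AtPrime q) := Module.Flat.trans R Λ _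
  haveI : IsNoetherianRing (Localization.AtPrime q) := IsLocalization.isNoetherianRing q.primeCompl _ inferInstance
  refine ⟨(Module.flat_iff_of_isLocalization (Localization.AtPrime p) p.primeCompl _).2 inferInstance,
    fun P _ => ⟨CplDomain.isNoetherianRing_tensor_essFiniteType _ _ _, fun k' _ _ hfin => ?_⟩⟩
  letI : Algebra (Localization.AtPrime p) k' := ((algebraMap P.ResidueField k').comp (algebraMap _ _)).toAlgebra
  haveI : IsScalarTower (Localization.AtPrime p) P.ResidueField k' := .of_algebraMap_eq fun _ => rfl
  letI : Algebra R k' := ((algebraMap (Localization.AtPrime p) k').comp (algebraMap _ _)).toAlgebra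
  haveI : IsScalarTower R (Localization.AtPrime p) k' := .of_algebraMap_eq fun _ => rfl
  have hs : (algebraMap R (Localization.AtPrime p)).SurjectiveOnStalks :=
    RingHom.surjectiveOnStalks_of_isLocalization p.primeCompl _
  let r := P.comap (algebraMap R (Localization.AtPrime p))
  let f : r.ResidueField →+* P.ResidueField := Ideal.ResidueField.map r P (algebraMap R _) rfl
  letI : Algebra r.ResidueField k' := ((algebraMap P.ResidueField k').comp f).toAlgebra
  haveI : IsScalarTower R r.ResidueField k' := .of_algebraMap_eq fun x => by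
    show _ = algebraMap P.ResidueField k' (f _)
    rw [Ideal.ResidueField.map_algebraMap]
    rfl
  have hfin' : Module.Finite r.ResidueField k' := by
    letI : Algebra r.ResidueField P.ResidueField := f.toAlgebra
    haveI : IsScalarTower r.ResidueField P.ResidueField k' := .of_algebraMap_eq fun _ => rfl
    haveI : Module.Finite r.ResidueField P.ResidueField :=
      Module.Finite.of_surjective (Algebra.linearMap _ _) (hs.residueFieldMap_bijective r P rfl).2
    haveI := hfin
    exact Module.Finite.trans P.ResidueField k'
  haveI : IsRegularRing (k' ⊗[R] Λ) := @IsRegularRing.of_ringEquiv _ _ _ _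
    (Algebra.TensorProduct.cancelBaseChange R r.ResidueField r.ResidueField k' Λ).toRingEquiv ((h.2 r).2 k' hfin')
  haveI := FormalFib3.regular_tensor_atPrime (R := R) k' q
  haveI := (regular_tensor_iff (R₁ := Localization.AtPrime p) (k' := k') (T := Localization.AtPrime q) p.primeCompl).2 inferInstance
  exact IsRegularRing.of_ringEquiv
    (Algebra.TensorProduct.cancelBaseChange (Localization.AtPrime p) P.ResidueField P.ResidueField k' (Localization.AtPrime q)).symm.toRingEquiv

theorem regular_of_local {R : Type u} [CommRing R] {T : Type u} [CommRing T] [Algebra R T]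
    (p : Ideal R) [p.IsPrime] [Algebra (Localization.AtPrime p) T] [IsScalarTower R (Localization.AtPrime p) T]
    (h : CAlg.IsRegularHom (Localization.AtPrime p) T) (r : Ideal R) [r.IsPrime] (hr : r ≤ p)
    (k' : Type u) [Field k'] [Algebra r.ResidueField k'] [Algebra R k'] [IsScalarTower R r.ResidueField k']
    (hfin : Module.Finite r.ResidueField k') : IsRegularRing (k' ⊗[R] T) := by
  have hs : (algebraMap R (Localization.AtPrime p)).SurjectiveOnStalks :=
    RingHom.surjectiveOnStalks_of_isLocalization p.primeCompl _
  let P := r.map (algebraMap R (Localization.AtPrime p))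
  have hd : Disjoint (p.primeCompl : Set R) (r : Set R) := Set.disjoint_left.2 fun x hx hx' => hx (hr hx')
  haveI : P.IsPrime := IsLocalization.isPrime_of_isPrime_disjoint p.primeCompl _ r ‹_› hd
  have hc : P.comap (algebraMap R (Localization.AtPrime p)) = r :=
    IsLocalization.comap_map_of_isPrime_disjoint p.primeCompl _ ‹_› hd
  let e := RingEquiv.ofBijective _ (hs.residueFieldMap_bijective r P hc.symm)
  letI : Algebra P.ResidueField k' := ((algebraMap r.ResidueField k').comp e.symm.toRingHom).toAlgebra
  letI : Algebra (Localization.AtPrime p) k' := ((algebraMap P.ResidueField k').comp (algebraMap _ _)).toAlgebra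
  haveI : IsScalarTower (Localization.AtPrime p) P.ResidueField k' := .of_algebraMap_eq fun _ => rfl
  haveI : IsScalarTower R (Localization.AtPrime p) k' := .of_algebraMap_eq fun x => by
    show _ = algebraMap r.ResidueField k' (e.symm (algebraMap (Localization.AtPrime p) P.ResidueField (algebraMap R _ x)))
    rw [IsScalarTower.algebraMap_apply R r.ResidueField k']
    congr 1
    rw [eq_comm, RingEquiv.symm_apply_eq]
    exact (Ideal.ResidueField.map_algebraMap _ P _ hc.symm x).symm
  have hfin' : Module.Finite P.ResidueField k' := by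
    obtain ⟨s, hs'⟩ := hfin
    refine ⟨s, eq_top_iff.2 fun x _ => ?_⟩
    have hx : x ∈ Submodule.span r.ResidueField (s : Set k') := hs' ▸ trivial
    induction hx using Submodule.span_induction with
    | mem y hy => exact Submodule.subset_span hy
    | zero => exact zero_mem _
    | add y z _ _ hy hz => exact add_mem (hy trivial) (hz trivial)
    | smul c y _ hy =>
      have : c • y = e c • y := by
        rw [Algebra.smul_def, Algebra.smul_def]
        show _ = algebraMap r.ResidueField k' (e.symm (e c)) * y
        rw [e.symm_apply_apply]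
      exact this ▸ Submodule.smul_mem _ _ (hy trivial)
  haveI : IsRegularRing (k' ⊗[Localization.AtPrime p] T) := @IsRegularRing.of_ringEquiv _ _ _ _
    (Algebra.TensorProduct.cancelBaseChange (Localization.AtPrime p) P.ResidueField P.ResidueField k' T).toRingEquiv
    ((h.2 P).2 k' hfin')
  exact (regular_tensor_iff (R₁ := Localization.AtPrime p) (k' := k') (T := T) p.primeCompl).1 inferInstance

open Groth.Agent in
theorem bwd {R Λ : Type u} [CommRing R] [CommRing Λ] [Algebra R Λ] [IsNoetherianRing Λ]
    (h : ∀ (n : Ideal Λ) [n.IsMaximal],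
      letI := (Localization.localRingHom (Ideal.comap (algebraMap R Λ) n) n (algebraMap R Λ) rfl).toAlgebra
      CAlg.IsRegularHom (Localization.AtPrime (Ideal.comap (algebraMap R Λ) n)) (Localization.AtPrime n)) :
    CAlg.IsRegularHom R Λ := by
  have key : ∀ (n : Ideal Λ) [n.IsMaximal], Module.Flat R (Localization.AtPrime n) ∧
      ∀ (r : Ideal R) [r.IsPrime], r ≤ n.comap (algebraMap R Λ) →
      ∀ (k' : Type u) [Field k'] [Algebra r.ResidueField k'] [Algebra R k'] [IsScalarTower R r.ResidueField k'],
        Module.Finite r.ResidueField k' → IsRegularRing (k' ⊗[R] Localization.AtPrime n) := by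
    intro n _
    letI := (Localization.localRingHom (Ideal.comap (algebraMap R Λ) n) n (algebraMap R Λ) rfl).toAlgebra
    haveI : IsScalarTower R (Localization.AtPrime (Ideal.comap (algebraMap R Λ) n)) (Localization.AtPrime n) :=
      .of_algebraMap_eq fun x => by
        rw [IsScalarTower.algebraMap_apply R Λ (Localization.AtPrime n)]
        exact (Localization.localRingHom_to_map _ _ _ rfl x).symm
    haveI := (h n).1
    exact ⟨Module.Flat.trans R (Localization.AtPrime (Ideal.comap (algebraMap R Λ) n)) _,
      fun r _ hr k' _ _ _ _ hfin => regular_of_local _ (h n) r hr k' hfin⟩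
  refine ⟨Module.flat_of_isLocalized_maximal Λ Λ (fun m [m.IsMaximal] => Localization.AtPrime m)
    (fun m _ => Algebra.linearMap Λ _) fun m _ => (key m).1,
    fun r _ => ⟨CplDomain.isNoetherianRing_tensor_essFiniteType R Λ r.ResidueField, fun k' _ _ hfin => ?_⟩⟩
  letI : Algebra R k' := ((algebraMap r.ResidueField k').comp (algebraMap R _)).toAlgebra
  haveI : IsScalarTower R r.ResidueField k' := .of_algebraMap_eq fun _ => rfl
  haveI : IsRegularRing (k' ⊗[R] Λ) := by
    haveI : IsNoetherianRing (k' ⊗[R] Λ) := by
      haveI : Algebra.EssFiniteType R k' := Algebra.EssFiniteType.comp R r.ResidueField k'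
      exact CplDomain.isNoetherianRing_tensor_essFiniteType R Λ k'
    refine isRegularRing_iff.2 fun Q hQ => ?_
    let q := Q.comap (Algebra.TensorProduct.includeRight : Λ →ₐ[R] k' ⊗[R] Λ)
    obtain ⟨n, hn, hqn⟩ := q.exists_le_maximal (Ideal.IsPrime.ne_top inferInstance)
    have hr : r ≤ n.comap (algebraMap R Λ) := fun a ha => hqn (by
      show (1 : k') ⊗ₜ[R] algebraMap R Λ a ∈ Q
      rw [Algebra.algebraMap_eq_smul_one, ← TensorProduct.smul_tmul, Algebra.smul_def, mul_one,
        IsScalarTower.algebraMap_apply R r.ResidueField k', Ideal.algebraMap_residueField_eq_zero.2 ha, map_zero, TensorProduct.zero_tmul]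
      exact Q.zero_mem)
    haveI := (key n).2 r hr k' hfin
    exact regLocal_tensor R Λ k' Q n hqn
  exact IsRegularRing.of_ringEquiv (Algebra.TensorProduct.cancelBaseChange R r.ResidueField r.ResidueField k' Λ).symm.toRingEquiv


/-- Regularity of a ring map is a local property: for a ring map R → Λ with Noetherian target,
regularity of R → Λ is equivalent to regularity of every induced local map R_p → Λ_q (q a prime of
Λ, p = q ∩ R), and also to regularity of those induced maps at the maximal ideals q of Λ. (The maps
of local rings are the canonical localized maps.) -/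
theorem result (R Λ : Type u) [CommRing R] [CommRing Λ] [Algebra R Λ]
    [IsNoetherianRing Λ] :
    (CAlg.IsRegularHom R Λ ↔
      ∀ (q : Ideal Λ) [q.IsPrime],
        letI := (Localization.localRingHom (Ideal.comap (algebraMap R Λ) q) q (algebraMap R Λ) rfl).toAlgebra
        CAlg.IsRegularHom (Localization.AtPrime (Ideal.comap (algebraMap R Λ) q))
          (Localization.AtPrime q)) ∧
    (CAlg.IsRegularHom R Λ ↔
      ∀ (n : Ideal Λ) [n.IsMaximal],
        letI := (Localization.localRingHom (Ideal.comap (algebraMap R Λ) n) n (algebraMap R Λ) rfl).toAlgebra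
        CAlg.IsRegularHom (Localization.AtPrime (Ideal.comap (algebraMap R Λ) n))
          (Localization.AtPrime n)) := by
  have hf : CAlg.IsRegularHom R Λ → ∀ (q : Ideal Λ) [q.IsPrime],
      letI := (Localization.localRingHom (Ideal.comap (algebraMap R Λ) q) q (algebraMap R Λ) rfl).toAlgebra
      CAlg.IsRegularHom (Localization.AtPrime (Ideal.comap (algebraMap R Λ) q)) (Localization.AtPrime q) := by
    intro h q _
    letI := (Localization.localRingHom (Ideal.comap (algebraMap R Λ) q) q (algebraMap R Λ) rfl).toAlgebra
    haveI : IsScalarTower R (Localization.AtPrime (Ideal.comap (algebraMap R Λ) q)) (Localization.AtPrime q) :=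
      .of_algebraMap_eq fun x => by
        rw [IsScalarTower.algebraMap_apply R Λ (Localization.AtPrime q)]
        exact (Localization.localRingHom_to_map _ _ _ rfl x).symm
    exact fwd h q _
  exact ⟨⟨hf, fun h => bwd fun n _ => h n⟩, ⟨fun h n _ => hf h n, bwd⟩⟩

end Groth.Agent.S9259
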