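import Groth.Statements.S9260
import Mathlib

set_option autoImplicit false
universe u
open CAlg

namespace Groth.Agent.S9260


open Polynomial

theorem prod_pow_mem {A : Type u} [CommRing A] (J : Ideal A) {m : ℕ} (a : Fin m → A) (ha : ∀ i, a i ∈ J)
    (d : Fin m →₀ ℕ) (hd : d ≠ 0) : (∏ i, a i ^ d i) ∈ J := by
  obtain ⟨i, hi⟩ := Finsupp.ne_iff.1 hd
  exact Ideal.mem_of_dvd J (Finset.dvd_prod_of_mem _ (Finset.mem_univ i))
    (Ideal.pow_mem_of_mem J (ha i) _ (Nat.pos_of_ne_zero (by simpa using hi)))


/-- Suppose a finite group G with n elements acts on a ring R by ring automorphisms, A → R is a ring map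
compatible with the action whose image contains the invariants (so that A maps onto R^G), J is an
ideal of A, and x lies in JR. Then ∏_σ (T - σ(x)) is the image of a monic polynomial over A of
degree at most n whose coefficients below degree n all lie in J. (The published statement takes A =
R^G and a polynomial of degree n; this row allows any such A mapping onto R^G and asks degree at
most n, which is the same when A is nonzero.) -/
theorem result (A R G : Type u) [CommRing A]
    [CommRing R] [Algebra A R] [Group G] [Fintype G] [MulSemiringAction G R] [SMulCommClass G A R]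
    [Algebra.IsInvariant A R G] (J : Ideal A) (x : R) (hx : x ∈ Ideal.map (algebraMap A R) J) :
    ∃ P : Polynomial A, P.Monic ∧ P.natDegree ≤ Fintype.card G ∧
      (∀ i : ℕ, i < Fintype.card G → P.coeff i ∈ J) ∧
      Polynomial.map (algebraMap A R) P = ∏ σ : G, (Polynomial.X - Polynomial.C (σ • x)) := by
  classical
  obtain ⟨m, a, r, ha, hx⟩ : ∃ (m : ℕ) (a : Fin m → A) (r : Fin m → R), (∀ i, a i ∈ J) ∧
      x = ∑ i, algebraMap A R (a i) * r i := by
    obtain ⟨m, r, g, hsum⟩ := Submodule.mem_span_set'.1 hx
    choose a ha hag using fun i => (g i).2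
    exact ⟨m, a, r, ha, hsum ▸ Finset.sum_congr rfl fun i _ => by rw [smul_eq_mul, hag, mul_comm]⟩
  let Q : Polynomial (MvPolynomial (Fin m) R) :=
    ∏ σ : G, (X - C (∑ i, MvPolynomial.C (σ • r i) * MvPolynomial.X i))
  have hinv : ∀ (j : ℕ) (d : Fin m →₀ ℕ), ∃ c : A, algebraMap A R c = MvPolynomial.coeff d (Q.coeff j) := by
    intro j d
    refine Algebra.IsInvariant.isInvariant (G := G) _ fun τ => ?_
    let φ := MulSemiringAction.toRingHom G R τ
    have hQ : Q.map (MvPolynomial.map φ) = Q := by
      rw [Polynomial.map_prod]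
      refine Fintype.prod_equiv (Equiv.mulLeft τ) _ _ fun σ => ?_
      rw [Polynomial.map_sub, Polynomial.map_X, Polynomial.map_C, map_sum]
      simp [φ, mul_smul]
    conv_rhs => rw [← hQ]
    rw [Polynomial.coeff_map, MvPolynomial.coeff_map]
    rfl
  choose c hc using hinv
  let n := Fintype.card G
  let p : ℕ → A := fun j => ∑ d ∈ (Q.coeff j).support, c j d * ∏ i, a i ^ d i
  let ev : MvPolynomial (Fin m) R →+* R := MvPolynomial.eval fun i => algebraMap A R (a i)
  have hev : Q.map ev = ∏ σ : G, (X - C (σ • x)) := by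
    rw [Polynomial.map_prod]
    refine Finset.prod_congr rfl fun σ _ => ?_
    rw [Polynomial.map_sub, Polynomial.map_X, Polynomial.map_C, map_sum, hx, Finset.smul_sum]
    congr 2
    refine Finset.sum_congr rfl fun i _ => ?_
    simp [ev, smul_mul', smul_algebraMap, mul_comm]
  have hp : ∀ j, algebraMap A R (p j) = ev (Q.coeff j) := by
    intro j
    rw [MvPolynomial.eval_eq' , map_sum]
    refine Finset.sum_congr rfl fun d _ => ?_
    rw [map_mul, hc, map_prod]
    simp
  have h0 : Q.map (MvPolynomial.constantCoeff) = X ^ n := by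
    rw [Polynomial.map_prod]
    simp [n, Polynomial.map_sum]
  have hJ : ∀ j < n, p j ∈ J := by
    intro j hj
    refine J.sum_mem fun d hd => Ideal.mul_mem_left _ _ (prod_pow_mem J a ha d ?_)
    rintro rfl
    have := congrArg (fun P => P.coeff j) h0
    simp only [Polynomial.coeff_map, Polynomial.coeff_X_pow, if_neg hj.ne] at this
    exact MvPolynomial.mem_support_iff.1 hd this
  let P : Polynomial A := X ^ n + ∑ j ∈ Finset.range n, C (p j) * X ^ j
  have hdeg : (∑ j ∈ Finset.range n, C (p j) * X ^ j).degree < (n : WithBot ℕ) :=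
    lt_of_le_of_lt (Polynomial.degree_sum_le _ _) ((Finset.sup_lt_iff (WithBot.bot_lt_coe n)).2 fun j hj =>
      lt_of_le_of_lt (Polynomial.degree_C_mul_X_pow_le j (p j)) (WithBot.coe_lt_coe.2 (Finset.mem_range.1 hj)))
  refine ⟨P, Polynomial.monic_X_pow_add hdeg, ?_, fun j hj => ?_, ?_⟩
  · refine Polynomial.natDegree_le_of_degree_le ?_
    exact le_trans (Polynomial.degree_add_le _ _) (max_le (Polynomial.degree_X_pow_le n) hdeg.le)
  · simp [P, Polynomial.coeff_X_pow, hj.ne, Finset.sum_ite_eq, Finset.mem_range]
    rw [if_neg hj.ne, zero_add, if_pos hj]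
    exact hJ j hj
  · rcases subsingleton_or_nontrivial R with hR | hR
    · exact Subsingleton.elim _ _
    have hmon : (Q.map ev).Monic := by rw [hev]; exact monic_prod_of_monic _ _ fun σ _ => monic_X_sub_C _
    have hnd : (Q.map ev).natDegree = n := by
      rw [hev, natDegree_prod_of_monic _ _ fun σ _ => monic_X_sub_C _]
      simp [n]
    rw [← hev]
    conv_rhs => rw [hmon.as_sum, hnd]
    simp [P, Polynomial.map_add, Polynomial.map_sum, hp]

end Groth.Agent.S9260
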