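import Groth.Statements.S9261
import Mathlib

set_option autoImplicit false
universe u
open CAlg

namespace Groth.Agent.S9261




/-- Let G be a finite group acting on a ring R, S = R^G its ring of invariants (here: S → R injective
with image the invariants) and A a flat S-algebra. Then the map A → A ⊗_S R is injective with image
the invariants of G acting on A ⊗_S R through the second factor; that is, A → (A ⊗_S R)^G is an
isomorphism. -/
theorem result (S R A G : Type u) [CommRing S] [CommRing R] [Algebra S R]
    [FaithfulSMul S R] [Group G] [Finite G] [MulSemiringAction G R] [SMulCommClass G S R]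
    [Algebra.IsInvariant S R G] [CommRing A] [Algebra S A] [Module.Flat S A] :
    Function.Injective (algebraMap A (TensorProduct S A R)) ∧
      ∀ x : TensorProduct S A R,
        (∀ σ : G, Algebra.TensorProduct.map (AlgHom.id S A) (MulSemiringAction.toAlgHom S R σ) x = x) →
          x ∈ Set.range (algebraMap A (TensorProduct S A R)) := by
  classical
  have hS : Function.Injective (Algebra.linearMap S R) := FaithfulSMul.algebraMap_injective S R
  have hl : Function.Injective ((Algebra.linearMap S R).lTensor A) :=
    Module.Flat.lTensor_preserves_injective_linearMap _ hS
  have he : ∀ a : A, (Algebra.linearMap S R).lTensor A (a ⊗ₜ[S] (1 : S)) = algebraMap A (TensorProduct S A R) a := by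
    intro a; simp [Algebra.TensorProduct.algebraMap_apply]
  refine ⟨fun a b hab => ?_, fun x hx => ?_⟩
  · rw [← he, ← he] at hab
    simpa using congrArg (TensorProduct.rid S A) (hl hab)
  · haveI : Fintype G := Fintype.ofFinite G
    let d : R →ₗ[S] (G → R) := LinearMap.pi fun σ => (MulSemiringAction.toAlgHom S R σ).toLinearMap - LinearMap.id
    have hex : Function.Exact (Algebra.linearMap S R) d := by
      intro r
      constructor
      · intro h
        obtain ⟨s, hs⟩ := Algebra.IsInvariant.isInvariant (A := S) (G := G) r fun σ => sub_eq_zero.1 (congrFun h σ)
        exact ⟨s, hs⟩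
      · rintro ⟨s, rfl⟩
        funext σ
        simp [d]
    have hd : d.lTensor A x = 0 := by
      apply (TensorProduct.piRight S S A (fun _ : G => R)).injective
      rw [map_zero]
      funext σ
      have key : ∀ y, (TensorProduct.piRight S S A (fun _ : G => R) (d.lTensor A y)) σ =
          Algebra.TensorProduct.map (AlgHom.id S A) (MulSemiringAction.toAlgHom S R σ) y - y := by
        intro y
        induction y with
        | zero => simp
        | add p q hp hq => simp only [map_add, Pi.add_apply, hp, hq]; abel
        | tmul a r => simp [d, TensorProduct.tmul_sub]
      rw [key, hx σ, sub_self]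
      rfl
    obtain ⟨y, hy⟩ := (Module.Flat.lTensor_exact A hex x).1 hd
    refine ⟨TensorProduct.rid S A y, ?_⟩
    rw [← he, ← hy]
    congr 1
    rw [← TensorProduct.rid_symm_apply, LinearEquiv.symm_apply_apply]

end Groth.Agent.S9261
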