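import Groth.Statements.S9263
import Mathlib.Algebra.Homology.HomotopyCategory.Triangulated
import Mathlib.Algebra.Module.LocalizedModule.Basic

set_option autoImplicit false
universe u
attribute [local instance] HasDerivedCategory.standard
open CategoryTheory
open DerCA

namespace Groth.Agent.S9263

open HomotopyCategory CategoryTheory.Pretriangulated CategoryTheory.Limits

variable {R : Type u} [CommRing R]

/-- Contractible complexes. -/
abbrev Q : CochainComplex (ModuleCat.{u} R) ℤ ⥤ HomotopyCategory (ModuleCat.{u} R) (ComplexShape.up ℤ) :=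
  HomotopyCategory.quotient _ _

theorem isZero_cocone {K L : CochainComplex (ModuleCat.{u} R) ℤ} (φ : K ⟶ L) (h : IsIso (Q.map φ)) :
    IsZero (Q.obj (CochainComplex.mappingCocone φ)) :=
  have h₃ : IsZero (Q.obj (CochainComplex.mappingCone φ)) :=
    Triangle.isZero₃_of_isIso₁ _ (mappingCone_triangleh_distinguished φ) h
  ((CategoryTheory.shiftFunctor _ (-1 : ℤ)).map_isZero h₃).of_iso
    ((Q.commShiftIso (-1 : ℤ)).app (CochainComplex.mappingCone φ))

theorem isZero_iff (K : CochainComplex (ModuleCat.{u} R) ℤ) :
    IsZero (Q.obj K) ↔ Nonempty (Homotopy (𝟙 K) 0) := by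
  rw [IsZero.iff_id_eq_zero]
  constructor
  · intro h
    exact ⟨HomotopyCategory.homotopyOfEq _ _ (by rw [CategoryTheory.Functor.map_id, h, Functor.map_zero])⟩
  · rintro ⟨h⟩
    rw [← CategoryTheory.Functor.map_id, HomotopyCategory.eq_of_homotopy _ _ h, Functor.map_zero]

theorem isIso_unit (f : R) (hf : IsUnit f) (K : CochainComplex (ModuleCat.{u} R) ℤ) :
    IsIso (DerCA.locCxUnit (Submonoid.powers f) K) := by
  haveI : ∀ i, IsIso ((DerCA.locCxUnit (Submonoid.powers f) K).f i) := fun i => by
    have hid : IsLocalizedModule (Submonoid.powers f) (LinearMap.id : K.X i →ₗ[R] K.X i) := by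
      refine IsLocalizedModule.mk (fun x => ?_) (fun y => ⟨(y, 1), by simp⟩) (fun h => ⟨1, by simpa using h⟩)
      obtain ⟨n, hn⟩ := x.2
      exact (hn ▸ hf.pow n : IsUnit (x : R)).map _
    let e := IsLocalizedModule.linearEquiv (Submonoid.powers f) (LinearMap.id : K.X i →ₗ[R] K.X i)
      (LocalizedModule.mkLinearMap (Submonoid.powers f) (K.X i))
    have he : (DerCA.locCxUnit (Submonoid.powers f) K).f i = e.toModuleIso.hom := by
      apply ModuleCat.hom_ext
      apply LinearMap.ext
      intro x
      exact (IsLocalizedModule.linearEquiv_apply (Submonoid.powers f) (LinearMap.id : K.X i →ₗ[R] K.X i)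
        (LocalizedModule.mkLinearMap (Submonoid.powers f) (K.X i)) x).symm
    rw [he]; exact ⟨⟨e.toModuleIso.inv, e.toModuleIso.hom_inv_id, e.toModuleIso.inv_hom_id⟩⟩
  exact HomologicalComplex.Hom.isIso_of_components _

theorem isZero_extCech (M : ModuleCat.{u} R) : ∀ fs : List R, (∃ f ∈ fs, IsUnit f) →
    IsZero (Q.obj (DerCA.extCech M fs))
  | [], h => absurd h (by simp)
  | f :: fs, h => by
    refine isZero_cocone _ ?_
    by_cases hu : IsUnit f
    · haveI := isIso_unit f hu (DerCA.extCech M fs)
      infer_instance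
    · obtain ⟨g, hg, hgu⟩ := h
      have hfs : IsZero (Q.obj (DerCA.extCech M fs)) := isZero_extCech M fs
        ⟨g, (List.mem_cons.1 hg).resolve_left (fun e => hu (e ▸ hgu)), hgu⟩
      obtain ⟨ht⟩ := (isZero_iff _).1 hfs
      have hL : IsZero (Q.obj ((DerCA.locCx (Submonoid.powers f)).obj (DerCA.extCech M fs))) := by
        refine (isZero_iff _).2 ⟨?_⟩
        have := (DerCA.locFunctor (Submonoid.powers f)).mapHomotopy ht
        rwa [CategoryTheory.Functor.map_id, Functor.map_zero] at this
      exact ⟨⟨0, hfs.eq_of_src _ _, hL.eq_of_src _ _⟩⟩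


/-- Let R be a ring, f_1, ..., f_r elements of R such that some f_i is a unit, and M an R-module. Then
the extended alternating Cech complex of M with respect to f_1, ..., f_r is homotopy equivalent to
zero: its identity map is null-homotopic. -/
theorem result (R : Type u) [CommRing R] (fs : List R)
    (hf : ∃ f ∈ fs, IsUnit f) (M : ModuleCat.{u} R) :
    Nonempty (Homotopy (𝟙 (DerCA.extCech M fs)) 0) := by
  exact (isZero_iff _).1 (isZero_extCech M fs hf)


end Groth.Agent.S9263
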