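import Groth.Statements.S9271
import Groth.Agent.Lib.QRegFlat1.LocNilp

set_option autoImplicit false
universe u
open CAlg

namespace Groth.Agent.S9271

/-- Suppose A' → B' is a flat ring map of finite presentation (smooth maps being one example), and let I
be a locally nilpotent ideal of A', with A = A'/I and B = B'/IB'. Let f'_1, ..., f'_r be elements of
B' whose images f_1, ..., f_r in B form a quasi-regular sequence with B/(f_1, ..., f_r) smooth over
A. Then B'/(f'_1, ..., f'_r) is smooth over A'. -/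
theorem result (A' B' : Type u) [CommRing A']
    [CommRing B'] [Algebra A' B'] [Module.Flat A' B'] [Algebra.FinitePresentation A' B']
    (I : Ideal A') (hI : ∀ x ∈ I, IsNilpotent x) (r : ℕ) (f' : Fin r → B')
    (hq : CAlgX.IsQuasiRegular
      (fun i => Ideal.Quotient.mk (Ideal.map (algebraMap A' B') I) (f' i)))
    (hsm : Algebra.Smooth (A' ⧸ I)
      ((B' ⧸ Ideal.map (algebraMap A' B') I) ⧸
        Ideal.span (Set.range (fun i => Ideal.Quotient.mk (Ideal.map (algebraMap A' B') I) (f' i))))) :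
    Algebra.Smooth A' (B' ⧸ Ideal.span (Set.range f')) := by
  classical
  haveI hsm' := hsm
  haveI hfl : Module.Flat (A' ⧸ I) ((B' ⧸ Ideal.map (algebraMap A' B') I) ⧸
      Ideal.span (Set.range (fun i => Ideal.Quotient.mk (Ideal.map (algebraMap A' B') I) (f' i)))) :=
    Algebra.Smooth.flat _ _
  haveI := Groth.Agent.QRegFlat1.flat_quotient I hI f' hq
  haveI : Algebra.FinitePresentation A' (B' ⧸ Ideal.span (Set.range f')) :=
    Algebra.FinitePresentation.quotient (Submodule.fg_span (Set.finite_range f'))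
  refine Algebra.Smooth.of_formallySmooth_fiber fun p _ => ?_
  open TensorProduct in
  let J := Ideal.span (Set.range f')
  let I' := Ideal.map (algebraMap A' B') I
  let J₀ := Ideal.span (Set.range (fun i => Ideal.Quotient.mk I' (f' i)))
  let K := p.ResidueField
  have hIp : I ≤ p := fun x hx => Ideal.IsPrime.mem_of_pow_mem inferInstance _
    (by rw [(hI x hx).choose_spec]; exact zero_mem p)
  have hIK : ∀ a ∈ I, algebraMap A' K a = 0 := fun a ha => by
    rw [← RingHom.mem_ker, Ideal.ker_algebraMap_residueField]; exact hIp ha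
  letI : Algebra (A' ⧸ I) K := (Ideal.Quotient.lift I (algebraMap A' K) hIK).toAlgebra
  haveI : IsScalarTower A' (A' ⧸ I) K := IsScalarTower.of_algebraMap_eq fun a => rfl
  let g₂ : B' →ₐ[A'] ((B' ⧸ I') ⧸ J₀) := (Ideal.Quotient.mkₐ A' J₀).comp (Ideal.Quotient.mkₐ A' I')
  have hg₂ : ∀ b ∈ J, g₂ b = 0 := fun b hb => by
    have : J ≤ RingHom.ker g₂ := Ideal.span_le.2 (by
      rintro _ ⟨i, rfl⟩
      exact Ideal.Quotient.eq_zero_iff_mem.2 (Ideal.subset_span ⟨i, rfl⟩))
    exact this hb
  haveI : Algebra.Smooth (A' ⧸ I) ((B' ⧸ I') ⧸ J₀) := hsm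
  refine Groth.Agent.QRegFlat1.formallySmooth_tensor (A₀ := A' ⧸ I) (C₀ := (B' ⧸ I') ⧸ J₀)
    Ideal.Quotient.mk_surjective (Ideal.Quotient.liftₐ J g₂ hg₂) (fun z => ?_) fun c hc => ?_
  · obtain ⟨z, rfl⟩ := Ideal.Quotient.mk_surjective z
    obtain ⟨b, rfl⟩ := Ideal.Quotient.mk_surjective z
    exact ⟨Ideal.Quotient.mk J b, rfl⟩
  · obtain ⟨b, rfl⟩ := Ideal.Quotient.mk_surjective c
    have hb : b ∈ J ⊔ I' := by
      have h1 : Ideal.Quotient.mk I' b ∈ J₀ := Ideal.Quotient.eq_zero_iff_mem.1 hc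
      rw [show J₀ = J.map (Ideal.Quotient.mk I') by rw [Ideal.map_span, ← Set.range_comp]; rfl] at h1
      exact Ideal.mem_quotient_iff_mem_sup.1 h1
    obtain ⟨u, hu, v, hv, rfl⟩ := Submodule.mem_sup.1 hb
    rw [map_add, Ideal.Quotient.eq_zero_iff_mem.2 hu, zero_add]
    have hker : I' ≤ RingHom.ker ((Algebra.TensorProduct.includeRight :
        (B' ⧸ J) →ₐ[A'] TensorProduct A' K (B' ⧸ J)).toRingHom.comp (Ideal.Quotient.mk J)) :=
      Ideal.map_le_iff_le_comap.2 fun a ha => by
        show Algebra.TensorProduct.includeRight (algebraMap A' (B' ⧸ J) a) = _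
        rw [AlgHom.commutes, Algebra.TensorProduct.algebraMap_apply]
        show algebraMap A' K a ⊗ₜ[A'] (1 : B' ⧸ J) = 0
        rw [hIK a ha, TensorProduct.zero_tmul]
    exact hker hv

end Groth.Agent.S9271
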