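import Groth.Statements.S9275
import Mathlib.RingTheory.RingHom.Etale
import Mathlib.RingTheory.Etale.Locus

set_option autoImplicit false
universe u
open EtAlg

namespace Groth.Agent.S9275

/-- Let A → B be a ring map and J an ideal of B such that A → B is étale at every prime of V(J), in the
sense that every prime q ⊇ J has some h ∉ q with A → B_h étale. Then there is g ∈ B mapping to a
unit of B/J such that A → B_g is étale. -/
theorem result (A B : Type u) [CommRing A] [CommRing B]
    [Algebra A B] (J : Ideal B)
    (h : ∀ (q : Ideal B) [q.IsPrime], J ≤ q → ∃ h : B, h ∉ q ∧ Algebra.Etale A (Localization.Away h)) :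
    ∃ g : B, IsUnit (Ideal.Quotient.mk J g) ∧ Algebra.Etale A (Localization.Away g) := by
  classical
  let H : Set B := {h | Algebra.Etale A (Localization.Away h)}
  have htop : Ideal.span H ⊔ J = ⊤ := by
    by_contra hne
    obtain ⟨q, hq, hle⟩ := Ideal.exists_le_maximal _ hne
    haveI := hq.isPrime
    obtain ⟨k, hk, he⟩ := h q (le_sup_right.trans hle)
    exact hk (hle (Ideal.mem_sup_left (Ideal.subset_span he)))
  obtain ⟨g, hg, j, hj, e⟩ := Submodule.mem_sup.1 (htop.symm ▸ Submodule.mem_top : (1 : B) ∈ Ideal.span H ⊔ J)
  refine ⟨g, ?_, ?_⟩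
  · rw [← add_zero (Ideal.Quotient.mk J g), ← (Ideal.Quotient.eq_zero_iff_mem.2 hj), ← map_add, e, map_one]
    exact isUnit_one
  let Bg := Localization.Away g
  rw [← RingHom.etale_algebraMap]
  refine RingHom.Etale.ofLocalizationSpanTarget (algebraMap A Bg) (algebraMap B Bg '' H) ?_ ?_
  · rw [← Ideal.map_span]
    exact Ideal.eq_top_of_isUnit_mem _ (Ideal.mem_map_of_mem _ hg) (IsLocalization.Away.algebraMap_isUnit g)
  · rintro ⟨_, k, hk, rfl⟩
    let L := Localization.Away (algebraMap B Bg k)
    haveI : Algebra.Etale A (Localization.Away k) := hk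
    have hu : IsUnit (algebraMap B L k) := by
      rw [IsScalarTower.algebraMap_apply B Bg L]
      exact IsLocalization.Away.algebraMap_isUnit _
    letI : Algebra (Localization.Away k) L := (IsLocalization.Away.lift (S := Localization.Away k) k hu).toAlgebra
    haveI hT : IsScalarTower B (Localization.Away k) L := IsScalarTower.of_algebraMap_eq fun r =>
      (IsLocalization.Away.lift_eq (S := Localization.Away k) k hu r).symm
    haveI : IsScalarTower A (Localization.Away k) L := IsScalarTower.of_algebraMap_eq fun r => by
      rw [IsScalarTower.algebraMap_apply A B (Localization.Away k), ← IsScalarTower.algebraMap_apply B,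
        ← IsScalarTower.algebraMap_apply A B L]
    haveI : Algebra.Etale B Bg := Algebra.Etale.of_isLocalizationAway g
    haveI : Algebra.Etale Bg L := Algebra.Etale.of_isLocalizationAway (algebraMap B Bg k)
    haveI : Algebra.Etale B (Localization.Away k) := Algebra.Etale.of_isLocalizationAway k
    haveI : Algebra.Etale B L := Algebra.Etale.comp B Bg L
    haveI : Algebra.Etale (Localization.Away k) L := Algebra.Etale.of_restrictScalars B (Localization.Away k) L
    haveI : Algebra.Etale A L := Algebra.Etale.comp A (Localization.Away k) L
    rw [← IsScalarTower.algebraMap_eq A Bg L, RingHom.etale_algebraMap]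
    infer_instance

end Groth.Agent.S9275
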