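import Groth.Statements.S9276
import Groth.Agent.Lib.GRing6.PairHens7

set_option autoImplicit false
universe u
open CAlg

namespace Groth.Agent.S9276

/-- Let A be a G-ring, I an ideal of A and B the henselization of the pair (A, I). Then B is a G-ring. -/
theorem result (A : Type u) [CommRing A] (hA : CAlg.IsGRing A) (I : Ideal A)
    (B : Type u) [CommRing B] [Algebra A B] (hB : Hens2.IsPairHenselization A I B) :
    CAlg.IsGRing B := by
  obtain ⟨e⟩ := Hens.exists_pairHenselization_equiv (I := I) B hB
  exact GRing6.isGRing_of_ringEquiv e.symm.toRingEquiv (GRing6.isGRing_pHs I hA)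

end Groth.Agent.S9276
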