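import Groth.Statements.S9279
import Groth.Agent.Lib.Branch14.Completion

set_option autoImplicit false
universe u
open Brnch

namespace Groth.Agent.S9279

set_option maxSynthPendingDepth 3
set_option backward.isDefEq.respectTransparency.types false

/-- For a Noetherian local ring A with henselization S and completion A^ at its maximal ideal, the
spectrum of A^ with its closed point removed is preconnected exactly when the spectrum of S with its
closed point removed is (the two sets are empty together, namely when A has dimension zero). Stated
as: the complement of the closed point in Spec A^ is preconnected iff the complement of the closed
point in Spec S is. -/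
theorem result (A S : Type u) [CommRing A]
    [IsLocalRing A] [IsNoetherianRing A] [CommRing S] [IsLocalRing S] [Algebra A S]
    [IsLocalHom (algebraMap A S)] [Hensel.IsHenselization A S] :
    IsPreconnected
        ({IsLocalRing.closedPoint (AdicCompletion (IsLocalRing.maximalIdeal A) A)}ᶜ :
          Set (PrimeSpectrum (AdicCompletion (IsLocalRing.maximalIdeal A) A))) ↔
      IsPreconnected ({IsLocalRing.closedPoint S}ᶜ : Set (PrimeSpectrum S)) := by
  exact Groth.Agent.Branch14.isPreconnected_punctured_cpl_iff A S

end Groth.Agent.S9279
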