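import Groth.Statements.S9282
import Groth.Prelude.Def_CAlgX
import Mathlib

set_option autoImplicit false
universe u
open CAlg

namespace Groth.Agent.S9282

open IsLocalRing in
/-- Relations with vanishing differential lie in the square. -/
theorem mem_sq_of_pderiv_mem {A B : Type u} [CommRing A] [CommRing B] [IsLocalRing B] [Algebra A B]
    (hfs : CAlgX.IsAdicFormallySmooth A B (maximalIdeal B)) (y : MvPolynomial B A)
    (hy : MvPolynomial.aeval (id : B → B) y = 0)
    (hd : ∀ i, MvPolynomial.aeval (id : B → B) (MvPolynomial.pderiv i y) ∈ maximalIdeal B) :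
    y ∈ ((maximalIdeal B).comap (MvPolynomial.aeval (R := A) (id : B → B)).toRingHom) ^ 2 := by
  let Q := MvPolynomial B A
  let ε : Q →ₐ[A] B := MvPolynomial.aeval id
  have hε : Function.Surjective ε := fun b => ⟨MvPolynomial.X b, MvPolynomial.aeval_X _ _⟩
  set J : Ideal Q := (maximalIdeal B).comap ε.toRingHom with hJ
  let I := RingHom.ker ε.toRingHom
  have hIJ : I ≤ J := fun p hp => by show ε p ∈ maximalIdeal B; rw [show ε p = 0 from hp]; exact zero_mem _
  let q : Q →ₐ[A] Q ⧸ J ^ 2 := Ideal.Quotient.mkₐ A _
  let N : Ideal (Q ⧸ J ^ 2) := I.map q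
  have hkill : ∀ a ∈ J, ∀ n ∈ N, q a * n = 0 := by
    intro a ha n hn
    obtain ⟨i, hi, rfl⟩ := (Ideal.mem_map_iff_of_surjective _ Ideal.Quotient.mk_surjective).1 hn
    show Ideal.Quotient.mk (J ^ 2) a * Ideal.Quotient.mk (J ^ 2) i = 0
    rw [← map_mul, Ideal.Quotient.eq_zero_iff_mem, pow_two]
    exact Ideal.mul_mem_mul ha (hIJ hi)
  have hN : N ^ 2 = ⊥ := by
    rw [pow_two N, eq_bot_iff, Ideal.mul_le]
    intro a ha b hb
    obtain ⟨i, hi, rfl⟩ := (Ideal.mem_map_iff_of_surjective _ Ideal.Quotient.mk_surjective).1 ha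
    exact Ideal.mem_bot.2 (hkill i (hIJ hi) b hb)
  let ψ₀ : (Q ⧸ RingHom.ker ε) →ₐ[A] (Q ⧸ J ^ 2) ⧸ N :=
    Ideal.Quotient.liftₐ _ ((Ideal.Quotient.mkₐ A N).comp q) fun p hp =>
      Ideal.Quotient.eq_zero_iff_mem.2 (Ideal.mem_map_of_mem _ hp)
  let e := Ideal.quotientKerAlgEquivOfSurjective hε
  let ψ : B →ₐ[A] (Q ⧸ J ^ 2) ⧸ N := ψ₀.comp e.symm.toAlgHom
  have hψ : ∀ p, ψ (ε p) = Ideal.Quotient.mk N (q p) := fun p => by
    show ψ₀ (e.symm (ε p)) = _
    rw [show e.symm (ε p) = Ideal.Quotient.mk _ p by rw [AlgEquiv.symm_apply_eq]; rfl]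
    rfl
  obtain ⟨χ, hχ⟩ := hfs (Q ⧸ J ^ 2) N hN ψ ⟨2, fun b hb => by
    obtain ⟨p, rfl⟩ := hε b
    have h1 : maximalIdeal B ^ 2 ≤ (J ^ 2).map ε.toRingHom := by
      rw [Ideal.map_pow, hJ, Ideal.map_comap_of_surjective ε.toRingHom hε]
    obtain ⟨p', hp', hpp⟩ := (Ideal.mem_map_iff_of_surjective ε.toRingHom hε).1 (h1 hb)
    rw [← hpp, show ψ (ε.toRingHom p') = ψ (ε p') from rfl, hψ,
      show q p' = 0 from Ideal.Quotient.eq_zero_iff_mem.2 hp', map_zero]⟩
  let g : Q →ₐ[A] Q ⧸ J ^ 2 := χ.comp ε
  have hqg : ∀ p, q p - g p ∈ N := fun p => by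
    rw [← Ideal.Quotient.eq_zero_iff_mem, map_sub, sub_eq_zero, ← hψ]
    exact (AlgHom.congr_fun hχ _).symm
  let d : Derivation A Q (Q ⧸ J ^ 2) :=
    { toLinearMap := q.toLinearMap - g.toLinearMap
      map_one_eq_zero' := by simp
      leibniz' := fun a b => by
        show q (a * b) - g (a * b) = q a * (q b - g b) + q b * (q a - g a)
        have h2 : (q b - g b) * (q a - g a) = 0 := by
          have := Ideal.mul_mem_mul (hqg b) (hqg a)
          rw [← pow_two N, hN] at this
          exact this
        rw [map_mul, map_mul]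
        linear_combination (-1 : Q ⧸ J ^ 2) * h2 }
  have h0 : d y = 0 := by
    rw [← d.liftKaehlerDifferential_comp_D,
      ← (KaehlerDifferential.mvPolynomialBasis A B).linearCombination_repr (KaehlerDifferential.D A Q y),
      Finsupp.apply_linearCombination, Finsupp.linearCombination_apply]
    refine Finset.sum_eq_zero fun i _ => ?_
    simp only [Function.comp_apply, KaehlerDifferential.mvPolynomialBasis_apply,
      Derivation.liftKaehlerDifferential_comp_D, KaehlerDifferential.mvPolynomialBasis_repr_apply]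
    erw [KaehlerDifferential.mvPolynomialBasis_repr_apply, Derivation.liftKaehlerDifferential_comp_D]
    exact hkill _ (hd i) _ (hqg (MvPolynomial.X i))
  have h1 : q y - g y = 0 := h0
  rw [show g y = χ (ε y) from rfl, show ε y = 0 from hy, map_zero, sub_zero] at h1
  exact Ideal.Quotient.eq_zero_iff_mem.1 h1


/-- Let A → B be a local ring map between Noetherian local rings that is formally smooth for the adic
topology of the maximal ideal of B, and write K for the residue field of B. In the Jacobi–Zariski
sequence attached to A → B → K, the map from H_1(NL_{K/A}) to H_1(NL_{K/B}), which is m_B/m_B^2, is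
injective; the remaining terms are exact in general, so that sequence starts with a zero. -/
theorem result (A B : Type u) [CommRing A]
    [CommRing B] [IsLocalRing A] [IsLocalRing B] [IsNoetherianRing A] [IsNoetherianRing B]
    [Algebra A B] [IsLocalHom (algebraMap A B)]
    (hfs : CAlgX.IsAdicFormallySmooth A B (IsLocalRing.maximalIdeal B)) :
    Function.Injective
      (Algebra.H1Cotangent.map A B (IsLocalRing.ResidueField B) (IsLocalRing.ResidueField B)) := by
  classical
  let κ := IsLocalRing.ResidueField B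
  let P : Algebra.Extension.{u} A κ :=
    Algebra.Extension.ofSurjective (IsScalarTower.toAlgHom A B κ) IsLocalRing.residue_surjective
  let G : Algebra.Generators A κ B :=
    Algebra.Generators.ofSurjective (fun b : B => IsLocalRing.residue B b) fun z => by
      obtain ⟨b, rfl⟩ := IsLocalRing.residue_surjective z
      exact ⟨MvPolynomial.X b, MvPolynomial.aeval_X _ _⟩
  let ε : MvPolynomial B A →ₐ[A] B := MvPolynomial.aeval id
  have hres : ∀ p, MvPolynomial.aeval (fun b : B => IsLocalRing.residue B b) p = IsLocalRing.residue B (ε p) :=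
    fun p => by
      rw [show IsLocalRing.residue B (ε p) = (IsScalarTower.toAlgHom A B κ) (ε p) from rfl,
        MvPolynomial.comp_aeval_apply]
      rfl
  let eHom : G.toExtension.Hom P := Algebra.Extension.Hom.ofAlgHom ε (AlgHom.ext fun p => (hres p).symm)
  -- injectivity on the presentation by `B`
  have key : Function.Injective (Algebra.Extension.H1Cotangent.map eHom) := by
    rw [injective_iff_map_eq_zero]
    rintro ⟨x, hx⟩ h0
    obtain ⟨⟨p, hp⟩, rfl⟩ := Algebra.Extension.Cotangent.mk_surjective x
    change MvPolynomial B A at p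
    refine Subtype.ext ?_
    have h1 : (⟨ε p, _⟩ : P.ker) ∈ LinearMap.ker (Algebra.Extension.Cotangent.mk (P := P)) :=
      LinearMap.mem_ker.2 ((Algebra.Extension.Cotangent.map_mk eHom ⟨p, hp⟩).symm.trans
        (congrArg Subtype.val h0))
    have hker : @Eq (Ideal B) P.ker (IsLocalRing.maximalIdeal B) := IsLocalRing.ker_residue (R := B)
    have h2 : ε p ∈ P.ker ^ 2 := by
      have h3 : (Algebra.Extension.Cotangent.mk (P := P) (⟨ε p, _⟩ : P.ker)).val = 0 :=
        congrArg Algebra.Extension.Cotangent.val (LinearMap.mem_ker.1 h1)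
      exact (Ideal.toCotangent_eq_zero _ _).1 h3
    let J : Ideal (MvPolynomial B A) := (IsLocalRing.maximalIdeal B).comap ε.toRingHom
    have hGker : G.toExtension.ker = J := by
      ext z
      show MvPolynomial.aeval (fun b : B => IsLocalRing.residue B b) z = 0 ↔ ε z ∈ IsLocalRing.maximalIdeal B
      rw [hres, IsLocalRing.residue_eq_zero_iff]
    have hεs : Function.Surjective ε := fun b => ⟨MvPolynomial.X b, MvPolynomial.aeval_X _ _⟩
    rw [hker] at h2
    have h4 : ε p ∈ (J ^ 2).map ε.toRingHom := by
      rw [Ideal.map_pow, Ideal.map_comap_of_surjective ε.toRingHom hεs]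
      exact h2
    obtain ⟨w, hw, hwp⟩ := (Ideal.mem_map_iff_of_surjective ε.toRingHom hεs).1 h4
    suffices p - w ∈ J ^ 2 by
      have hmem' : p ∈ J ^ 2 := by
        have := add_mem this hw
        rwa [sub_add_cancel] at this
      have hmem : p ∈ G.toExtension.ker ^ 2 := by
        rw [hGker]
        exact hmem'
      refine Algebra.Extension.Cotangent.ext ?_
      exact (Ideal.toCotangent_eq_zero _ _).2 hmem
    refine mem_sq_of_pderiv_mem hfs (p - w) ?_ fun i => ?_
    · rw [map_sub, sub_eq_zero]
      exact hwp.symm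
    · have hwker : w ∈ G.toExtension.ker := hGker ▸ Ideal.pow_le_self two_ne_zero hw
      have hpw : Algebra.Extension.Cotangent.mk (P := G.toExtension) ⟨p - w, sub_mem hp hwker⟩ =
          Algebra.Extension.Cotangent.mk ⟨p, hp⟩ := by
        refine Algebra.Extension.Cotangent.ext ((Ideal.toCotangent_eq _).2 ?_)
        show p - w - p ∈ G.toExtension.ker ^ 2
        rw [hGker, show p - w - p = -w by ring]
        exact neg_mem hw
      have h5 : G.toExtension.cotangentComplex (Algebra.Extension.Cotangent.mk ⟨p - w, sub_mem hp hwker⟩) = 0 := by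
        rw [hpw]; exact hx
      rw [Algebra.Extension.cotangentComplex_mk] at h5
      have h6 := Finsupp.ext_iff.1 (congrArg G.cotangentSpaceBasis.repr h5) i
      rw [G.cotangentSpaceBasis_repr_one_tmul, map_zero, Finsupp.zero_apply] at h6
      rw [← IsLocalRing.residue_eq_zero_iff, ← hres]
      exact h6
  -- transport along the comparison maps
  have key2 : Function.Injective (Algebra.Extension.H1Cotangent.map P.defaultHom) := by
    have heq : Algebra.Extension.H1Cotangent.map P.defaultHom =
        (Algebra.Extension.H1Cotangent.map eHom).comp G.equivH1Cotangent.symm.toLinearMap := by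
      rw [Algebra.Extension.H1Cotangent.map_eq P.defaultHom
        (eHom.comp (Algebra.Generators.defaultHom (Algebra.Generators.self A κ) G).toExtensionHom),
        Algebra.Extension.H1Cotangent.map_comp]
      rfl
    rw [heq]
    exact key.comp G.equivH1Cotangent.symm.injective
  intro a b hab
  apply key2
  apply Algebra.Extension.h1Cotangentι_injective
  have h := LinearMap.congr_fun P.h1CotangentEquivCotangent_comp_map
  exact (h a).symm.trans ((congrArg P.h1CotangentEquivCotangent hab).trans (h b))

end Groth.Agent.S9282
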