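import Groth.Statements.S9283
import Mathlib.RingTheory.Ideal.Maximal
import Mathlib.RingTheory.Finiteness.Ideal

set_option autoImplicit false
universe u
open CAlg

namespace Groth.Agent.S9283

/-- Let R be an auto-associated ring, that is, a local ring whose maximal ideal is weakly associated to
R: some nonzero x ∈ R is killed by a power of every element of the maximal ideal. Then every proper
finitely generated ideal of R has a nonzero annihilator. -/
theorem result (R : Type u) [CommRing R] [IsLocalRing R]
    (h : ∃ x : R, x ≠ 0 ∧ ∀ f ∈ IsLocalRing.maximalIdeal R, ∃ n : ℕ, f ^ n * x = 0)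
    (I : Ideal R) (hI : I.FG) (hI' : I ≠ ⊤) : I.annihilator ≠ ⊥ := by
  classical
  obtain ⟨x, hx, hann⟩ := h
  obtain ⟨s, hs⟩ := hI
  have hle : I ≤ IsLocalRing.maximalIdeal R := IsLocalRing.le_maximalIdeal hI'
  suffices ∀ t : Finset R, (t : Set R) ⊆ IsLocalRing.maximalIdeal R →
      ∃ y : R, y ≠ 0 ∧ (∀ f ∈ IsLocalRing.maximalIdeal R, ∃ n : ℕ, f ^ n * y = 0) ∧ ∀ f ∈ t, f * y = 0 by
    obtain ⟨y, hy, -, hy'⟩ := this s fun f hf => hle (hs ▸ Ideal.subset_span hf)
    intro h0
    refine hy ?_
    have : y ∈ I.annihilator := by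
      rw [← hs, Ideal.span, Submodule.mem_annihilator_span]
      exact fun f => (mul_comm y f.1).trans (hy' f.1 f.2)
    rwa [h0, Submodule.mem_bot] at this
  intro t
  induction t using Finset.induction_on with
  | empty => exact fun _ => ⟨x, hx, hann, by simp⟩
  | @insert a t hat ih =>
    intro hsub
    rw [Finset.coe_insert, Set.insert_subset_iff] at hsub
    obtain ⟨y, hy, hynil, hyt⟩ := ih hsub.2
    have hex := hynil a hsub.1
    have h0 : Nat.find hex ≠ 0 := fun h0 => hy (by simpa [h0] using Nat.find_spec hex)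
    obtain ⟨n, hn⟩ := Nat.exists_eq_succ_of_ne_zero h0
    refine ⟨a ^ n * y, Nat.find_min hex (by omega), fun f hf => ?_, fun f hf => ?_⟩
    · obtain ⟨j, hj⟩ := hynil f hf
      exact ⟨j, by rw [mul_left_comm, hj, mul_zero]⟩
    · rcases Finset.mem_insert.1 hf with rfl | hf
      · rw [← mul_assoc, ← pow_succ']
        have := Nat.find_spec hex
        rwa [hn] at this
      · rw [mul_left_comm, hyt f hf, mul_zero]

end Groth.Agent.S9283
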