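import Groth.Statements.S9285
import Mathlib

set_option autoImplicit false
universe u
open CAlg

namespace Groth.Agent.S9285




/-- A ring R has the property that every proper finitely generated ideal has a nonzero annihilator if
and only if every injective linear map R → R^n admits a retraction. -/
theorem result (R : Type u) [CommRing R] :
    (∀ I : Ideal R, I.FG → I ≠ ⊤ → I.annihilator ≠ ⊥) ↔
      ∀ (n : ℕ) (u : R →ₗ[R] (Fin n → R)), Function.Injective u →
        ∃ v : (Fin n → R) →ₗ[R] R, v.comp u = LinearMap.id := by
  classical
  constructor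
  · intro h n u hu
    let a : Fin n → R := u 1
    have hu' : ∀ r, u r = r • a := fun r => by rw [← map_smul, smul_eq_mul, mul_one]
    have htop : Ideal.span (Set.range a) = ⊤ := by
      by_contra hne
      refine h _ (Submodule.fg_span (Set.finite_range a)) hne ((Submodule.eq_bot_iff _).2 fun x hx => hu ?_)
      rw [map_zero, hu']
      funext i
      exact (Submodule.mem_annihilator.1 hx) (a i) (Ideal.subset_span ⟨i, rfl⟩)
    obtain ⟨c, hc⟩ := (Submodule.mem_span_range_iff_exists_fun R).1 (htop ▸ Submodule.mem_top (x := (1 : R)))
    refine ⟨Fintype.linearCombination R c, LinearMap.ext_ring ?_⟩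
    simp only [LinearMap.comp_apply, LinearMap.id_apply, Fintype.linearCombination_apply, smul_eq_mul]
    simp only [smul_eq_mul] at hc
    refine Eq.trans (Finset.sum_congr rfl fun i _ => ?_) hc
    rw [mul_comm]
  · intro h I hI hne hann
    obtain ⟨n, a, ha⟩ := Submodule.fg_iff_exists_fin_generating_family.1 hI
    let u : R →ₗ[R] (Fin n → R) := LinearMap.id.smulRight a
    have hu : Function.Injective u := by
      rw [injective_iff_map_eq_zero]
      intro x hx
      have : x ∈ I.annihilator := by
        rw [← ha, Submodule.mem_annihilator_span]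
        rintro ⟨_, i, rfl⟩
        exact congrFun hx i
      rwa [hann, Submodule.mem_bot] at this
    obtain ⟨v, hv⟩ := h n u hu
    apply hne
    rw [Ideal.eq_top_iff_one, ← show v (u 1) = 1 from LinearMap.congr_fun hv 1]
    rw [show v (u 1) = ∑ i, a i * v (Pi.single i 1) by
      rw [show u 1 = a by simp [u]]
      conv_lhs => rw [pi_eq_sum_univ' a, map_sum]
      simp]
    exact Submodule.sum_mem _ fun i _ => Ideal.mul_mem_right _ _ (ha ▸ Submodule.subset_span ⟨i, rfl⟩)

end Groth.Agent.S9285
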