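import Groth.Statements.S9286
import Mathlib.RingTheory.Finiteness.Projective
import Mathlib.LinearAlgebra.Dual.Lemmas
import Mathlib.Algebra.Module.Projective
import Mathlib.RingTheory.Ideal.Maps
import Mathlib.RingTheory.Finiteness.Prod

set_option autoImplicit false
universe u
open CAlg

namespace Groth.Agent.S9286

lemma left_inverse_free {R : Type u} [CommRing R]
    (hP : ∀ I : Ideal R, I.FG → I ≠ ⊤ → I.annihilator ≠ ⊥) :
    ∀ (n : ℕ) (M : Type u) [AddCommGroup M] [Module R M] [Module.Finite R M] [Module.Projective R M]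
      (u : (Fin n → R) →ₗ[R] M), Function.Injective u → ∃ g : M →ₗ[R] (Fin n → R), g ∘ₗ u = LinearMap.id := by
  intro n
  induction n with
  | zero => intro M _ _ _ _ u _; exact ⟨0, LinearMap.ext fun x => Subsingleton.elim _ _⟩
  | succ n ih =>
    intro M _ _ _ _ u hu
    set x := u (Pi.single 0 1) with hx
    let I : Ideal R := LinearMap.range (Module.Dual.eval R M x)
    have hI : I = ⊤ := by
      by_contra hne
      have hfg : I.FG := by
        rw [show I = Submodule.map (Module.Dual.eval R M x) ⊤ from (Submodule.map_top _).symm]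
        exact Submodule.FG.map _ Module.Finite.fg_top
      obtain ⟨a, ha, ha0⟩ := Submodule.exists_mem_ne_zero_of_ne_bot (hP I hfg hne)
      have hax : a • x = 0 := (Module.forall_dual_apply_eq_zero_iff R (a • x)).1 fun φ => by
        rw [map_smul]
        exact Submodule.mem_annihilator.1 ha (φ x) ⟨φ, rfl⟩
      rw [hx, ← map_smul, ← map_zero u] at hax
      exact ha0 (by simpa using congrFun (hu hax) 0)
    obtain ⟨φ, hφ⟩ : (1 : R) ∈ LinearMap.range (Module.Dual.eval R M x) := by
      change (1 : R) ∈ I; rw [hI]; exact Submodule.mem_top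
    replace hφ : φ x = 1 := hφ
    let π : M →ₗ[R] LinearMap.ker φ :=
      (LinearMap.id - φ.smulRight x).codRestrict _ fun m => by simp [hφ]
    haveI : Module.Finite R (LinearMap.ker φ) := Module.Finite.of_surjective π fun m => ⟨m.1, Subtype.ext (by simp [π, LinearMap.mem_ker.1 m.2])⟩
    haveI : Module.Projective R (LinearMap.ker φ) :=
      Module.Projective.of_split (LinearMap.ker φ).subtype π (by ext m; simp [π])
    let i : (Fin n → R) →ₗ[R] (Fin (n + 1) → R) :=
      { toFun := fun y => Fin.cons 0 y
        map_add' := fun a b => by ext j; refine Fin.cases ?_ (fun j => ?_) j <;> simp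
        map_smul' := fun r a => by ext j; refine Fin.cases ?_ (fun j => ?_) j <;> simp }
    have hdec : ∀ z : Fin (n + 1) → R, z = z 0 • Pi.single 0 1 + i (Fin.tail z) := by
      intro z; ext j; refine Fin.cases ?_ (fun j => ?_) j <;> simp [i, Fin.tail]
    obtain ⟨g, hg⟩ := ih (LinearMap.ker φ) (π ∘ₗ u ∘ₗ i) (by
      rw [injective_iff_map_eq_zero]
      intro y hy
      have h1 : u (i y - φ (u (i y)) • Pi.single 0 1) = 0 := by
        rw [map_sub, map_smul, ← hx]; simpa [π] using congrArg Subtype.val hy
      rw [← map_zero u] at h1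
      funext j
      simpa [i] using congrFun (hu h1) j.succ)
    let c : M →ₗ[R] R := φ - φ ∘ₗ u ∘ₗ i ∘ₗ g ∘ₗ π
    refine ⟨c.smulRight (Pi.single 0 1) + i ∘ₗ g ∘ₗ π, LinearMap.ext fun z => ?_⟩
    have hπx : π x = 0 := Subtype.ext (by simp [π, hφ])
    have hgz : g (π (u z)) = Fin.tail z := by
      conv_lhs => rw [hdec z, map_add, map_smul, ← hx, map_add, map_smul, hπx, smul_zero, zero_add]
      exact LinearMap.congr_fun hg _
    conv_rhs => rw [LinearMap.id_apply, hdec z]
    have hc : c (u z) = z 0 := by
      simp only [c, LinearMap.sub_apply, LinearMap.comp_apply, hgz]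
      conv_lhs => arg 1; rw [hdec z]
      simp [hx ▸ hφ]
    simp [hc, hgz]


/-- Let R be a ring in which every proper finitely generated ideal has a nonzero annihilator. Given an
injective R-linear map u : N → M, where both N and M are finite and projective over R, the quotient
Coker(u) = M/u(N) is again projective as an R-module. -/
theorem result (R : Type u) [CommRing R]
    (hP : (∀ I : Ideal R, I.FG → I ≠ ⊤ → I.annihilator ≠ ⊥))
    (N M : Type u) [AddCommGroup N] [Module R N] [Module.Finite R N] [Module.Projective R N]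
    [AddCommGroup M] [Module R M] [Module.Finite R M] [Module.Projective R M]
    (u : N →ₗ[R] M) (hu : Function.Injective u) :
    Module.Projective R (M ⧸ LinearMap.range u) := by
  obtain ⟨n, f, s, hf, -, hfs⟩ := Module.Finite.exists_comp_eq_id_of_projective R N
  have hfs' : ∀ y, f (s y) = y := fun y => LinearMap.congr_fun hfs y
  let π : (Fin n → R) →ₗ[R] LinearMap.ker f :=
    (LinearMap.id - s ∘ₗ f).codRestrict _ fun x => by simp [hfs']
  haveI : Module.Finite R (LinearMap.ker f) := Module.Finite.of_surjective π fun x => ⟨x.1, Subtype.ext (by simp [π, LinearMap.mem_ker.1 x.2])⟩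
  haveI : Module.Projective R (LinearMap.ker f) :=
    Module.Projective.of_split (LinearMap.ker f).subtype π (by ext x; simp [π])
  obtain ⟨G, hG⟩ := left_inverse_free hP n (M × LinearMap.ker f) ((u ∘ₗ f).prod π) (by
    rw [injective_iff_map_eq_zero]
    intro x hx
    have h1 : f x = 0 := hu (by simpa using congrArg Prod.fst hx)
    simpa [π, h1] using congrArg (fun p => (Subtype.val (Prod.snd p))) hx)
  let g : M →ₗ[R] N := f ∘ₗ G ∘ₗ LinearMap.inl R M _
  have hgu : ∀ y, g (u y) = y := fun y => by
    have h2 := LinearMap.congr_fun hG (s y)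
    have h3 : ((u ∘ₗ f).prod π) (s y) = (u y, 0) := Prod.ext (by simp [hfs']) (Subtype.ext (by simp [π, hfs']))
    rw [LinearMap.comp_apply, h3] at h2
    simp [g, h2, hfs']
  refine Module.Projective.of_split ((LinearMap.range u).liftQ (LinearMap.id - u ∘ₗ g) ?_) (LinearMap.range u).mkQ ?_
  · rintro _ ⟨y, rfl⟩; simp [hgu]
  · ext m; simp [Submodule.Quotient.mk_sub]

end Groth.Agent.S9286
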