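import Groth.Statements.S9289
import Groth.Agent.Lib.GRing6.HensExc
import Mathlib

set_option autoImplicit false
universe u
open CAlg

namespace Groth.Agent.S9289

/-- Let R and R' be Noetherian rings with R' of finite type over R and quasi-finite at the prime p' of
R', lying over p. If R_p has geometrically regular formal fibres, so does R'_{p'}; stated as: if the
completion map of R_p is regular, so is that of R'_{p'}. -/
theorem result (R R' : Type u) [CommRing R]
    [CommRing R'] [IsNoetherianRing R] [IsNoetherianRing R'] [Algebra R R'] [Algebra.FiniteType R R']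
    (p' : Ideal R') [p'.IsPrime] [Algebra.QuasiFiniteAt R p']
    (h : CAlg.IsRegularHom (Localization.AtPrime (Ideal.comap (algebraMap R R') p'))
      (AdicCompletion (IsLocalRing.maximalIdeal (Localization.AtPrime (Ideal.comap (algebraMap R R') p')))
        (Localization.AtPrime (Ideal.comap (algebraMap R R') p')))) :
    CAlg.IsRegularHom (Localization.AtPrime p')
      (AdicCompletion (IsLocalRing.maximalIdeal (Localization.AtPrime p')) (Localization.AtPrime p')) := by
  let p := Ideal.comap (algebraMap R R') p'
  let Rp := Localization.AtPrime p
  let M := Algebra.algebraMapSubmonoid R' p.primeCompl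
  let Sp := Localization M
  haveI : IsNoetherianRing Rp := IsLocalization.isNoetherianRing p.primeCompl _ inferInstance
  have hG : CAlg.IsGRing Rp := Groth.Agent.GRing6.isGRing_of_local Rp h
  haveI : Algebra.FiniteType Rp Sp := by
    haveI : Algebra.IsPushout R Rp R' Sp := .symm <| Algebra.isPushout_of_isLocalization p.primeCompl _ _ _
    exact Algebra.FiniteType.equiv inferInstance (Algebra.IsPushout.equiv R Rp R' Sp)
  have hS : CAlg.IsGRing Sp := Groth.Agent.GRing6.isGRing_of_finiteType Rp Sp hG
  have hle : M ≤ p'.primeCompl := by
    rintro _ ⟨x, hx, rfl⟩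
    exact hx
  letI : Algebra Sp (Localization.AtPrime p') :=
    IsLocalization.localizationAlgebraOfSubmonoidLe Sp (Localization.AtPrime p') M p'.primeCompl hle
  haveI : IsScalarTower R' Sp (Localization.AtPrime p') :=
    IsLocalization.localization_isScalarTower_of_submonoid_le Sp (Localization.AtPrime p') M p'.primeCompl hle
  haveI : IsLocalization (p'.primeCompl.map (algebraMap R' Sp)) (Localization.AtPrime p') :=
    IsLocalization.isLocalization_of_submonoid_le Sp (Localization.AtPrime p') M p'.primeCompl hle
  have hG' : CAlg.IsGRing (Localization.AtPrime p') :=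
    Groth.Agent.GRing6.isGRing_of_isLocalization Sp _ (p'.primeCompl.map (algebraMap R' Sp)) hS
  haveI := hG'.1
  exact Groth.Agent.GRing6.regularProp.hom_cpl_of_gAll _ hG'.2

end Groth.Agent.S9289
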