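import Groth.Statements.S9293
import Groth.Agent.Lib.FlatDepth.HomBC

set_option autoImplicit false
universe u
open CAlg

namespace Groth.Agent.S9293

/-- If R → Λ is a regular ring map and R' is an R-algebra of finite type, then R' → R' ⊗_R Λ is again
regular. -/
theorem result (R Λ R' : Type u) [CommRing R] [CommRing Λ] [CommRing R']
    [Algebra R Λ] [Algebra R R'] [Algebra.FiniteType R R'] (h : CAlg.IsRegularHom R Λ) :
    CAlg.IsRegularHom R' (TensorProduct R R' Λ) := by
  haveI := h.1
  refine ⟨inferInstance, fun P _ => ?_⟩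
  let p := P.under R
  haveI : P.LiesOver p := ⟨rfl⟩
  letI := Localization.AtPrime.algebraOfLiesOver p P
  let e : TensorProduct p.ResidueField P.ResidueField (p.Fiber Λ) ≃ₐ[P.ResidueField] P.Fiber (TensorProduct R R' Λ) :=
    (Algebra.TensorProduct.cancelBaseChange R p.ResidueField P.ResidueField P.ResidueField Λ).trans
      (Algebra.TensorProduct.cancelBaseChange R R' P.ResidueField P.ResidueField Λ).symm
  haveI : Algebra.EssFiniteType R P.ResidueField := Algebra.EssFiniteType.comp R R' P.ResidueField
  haveI : Algebra.EssFiniteType p.ResidueField P.ResidueField := Algebra.EssFiniteType.of_comp R _ _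
  haveI := (h.2 p).1
  haveI := Groth.Agent.FlatDepth.isNoetherianRing_tensor_essFinite (k := p.ResidueField) (p.Fiber Λ) P.ResidueField
  exact ⟨isNoetherianRing_of_ringEquiv _ e.toRingEquiv,
    Groth.Agent.FlatDepth.geomRegular_of_algEquiv e (Groth.Agent.FlatDepth.geomRegular_baseChange _ _ (h.2 p).2)⟩

end Groth.Agent.S9293
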