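import Groth.Statements.S9294
import Groth.Agent.Lib.FlatDepth.GeomFib

set_option autoImplicit false
universe u
open CAlg

namespace Groth.Agent.S9294

open TensorProduct
attribute [local instance] Algebra.TensorProduct.rightAlgebra


/-- If A → B and B → C are regular ring maps and every fibre ring of the composite A → C is Noetherian,
the composite is regular. -/
theorem result (A B C : Type u) [CommRing A] [CommRing B] [CommRing C]
    [Algebra A B] [Algebra B C] [Algebra A C] [IsScalarTower A B C]
    (hAB : CAlg.IsRegularHom A B) (hBC : CAlg.IsRegularHom B C)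
    (hN : ∀ (p : Ideal A) [p.IsPrime], IsNoetherianRing (p.Fiber C)) :
    CAlg.IsRegularHom A C := by
  haveI := hAB.1
  haveI := hBC.1
  refine ⟨Module.Flat.trans A B C, fun p _ => ?_⟩
  obtain ⟨_, _, ⟨e⟩⟩ := FlatDepth.exists_fibre_tower A B C p
  haveI := (hAB.2 p).1
  haveI := hN p
  haveI : Module.Flat (p.Fiber B) (p.Fiber C) := Module.Flat.of_linearEquiv e.symm.toLinearEquiv
  exact ⟨inferInstance, FlatDepth.geomRegular_comp (hAB.2 p).2 fun Q _ =>
    FlatDepth.isGeomRegular_fibre (FlatDepth.surjectiveOnStalks_fibre A B p) e (fun q _ => (hBC.2 q).2) Q⟩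

end Groth.Agent.S9294
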