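import Groth.Statements.S9295
import Groth.Agent.Lib.FlatDepth.GeomFib
import Groth.Agent.Lib.Hens.Noetherian

set_option autoImplicit false
universe u
open CAlg

namespace Groth.Agent.S9295

open Groth.Agent in
theorem aux {k S T : Type u} [Field k] [CommRing S] [CommRing T] [Algebra k S] [Algebra k T] [Algebra S T]
    [IsScalarTower k S T] [IsNoetherianRing T] [Module.FaithfullyFlat S T]
    (hT : CAlg.IsGeometricallyRegular k T) : IsNoetherianRing S ∧ CAlg.IsGeometricallyRegular k S :=
  haveI := Hens.isNoetherianRing_of_faithfullyFlat S T
  ⟨inferInstance, FlatDepth.geomRegular_descend (S := S) (T := T) hT⟩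


/-- For ring maps A → B → C, if the composite A → C is a regular map and C is flat over B with every
prime of B lying under a prime of C (that is, B → C is faithfully flat), then A → B is a regular
map. -/
theorem result (A B C : Type u) [CommRing A] [CommRing B] [CommRing C]
    [Algebra A B] [Algebra B C] [Algebra A C] [IsScalarTower A B C]
    (hAC : CAlg.IsRegularHom A C) [Module.Flat B C]
    (hsurj : Function.Surjective (PrimeSpectrum.comap (algebraMap B C))) :
    CAlg.IsRegularHom A B := by
  haveI := hAC.1
  haveI : Module.FaithfullyFlat B C := Module.FaithfullyFlat.of_comap_surjective hsurj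
  refine ⟨Groth.Agent.FlatDepth.flat_of_comp A B C, fun p _ => ?_⟩
  obtain ⟨_, _, ⟨e⟩⟩ := Groth.Agent.FlatDepth.exists_fibre_tower A B C p
  haveI := (hAC.2 p).1
  haveI := Groth.Agent.FlatDepth.faithfullyFlat_fibre A B C p e
  exact aux (hAC.2 p).2

end Groth.Agent.S9295
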