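import Groth.Prelude.Def_EGA4b
import Mathlib.RingTheory.Spectrum.Prime.Topology
import Mathlib.RingTheory.Noetherian.Basic
import Groth.Agent.Lib.FlatDepth.Locus

set_option autoImplicit false
universe u
open EGA4

namespace Groth.Agent.S9296

/-- For a Noetherian ring R, the set of primes at which R is regular is open in Spec R (R is J-1)
exactly when, for each such prime p, some nonempty open part of the closed set V(p) consists of
primes at which R is regular. Stated with an open U of Spec R whose trace on V(p) is nonempty and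
contained in the regular locus. -/
theorem result (R : Type u) [CommRing R] [IsNoetherianRing R] :
    IsOpen (EGA4.regLocus R) ↔
      ∀ p ∈ EGA4.regLocus R, ∃ U : Set (PrimeSpectrum R), IsOpen U ∧
        (U ∩ PrimeSpectrum.zeroLocus (p.asIdeal : Set R)).Nonempty ∧
        U ∩ PrimeSpectrum.zeroLocus (p.asIdeal : Set R) ⊆ EGA4.regLocus R := by
  refine ⟨fun h p hp => ⟨_, h, ⟨p, hp, (PrimeSpectrum.mem_zeroLocus _ _).2 subset_rfl⟩, fun q hq => hq.1⟩, fun h => ?_⟩
  refine FlatDepth.isOpen_of_nagata _ (fun p q hle hq => FlatDepth.regular_of_le hle hq) fun p hp => ?_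
  obtain ⟨U, hU, ⟨q₀, hq₀U, hq₀⟩, hsub⟩ := h p hp
  obtain ⟨_, ⟨g, rfl⟩, hg, hgU⟩ :=
    PrimeSpectrum.isTopologicalBasis_basic_opens.exists_subset_of_mem_open hq₀U hU
  refine ⟨g, fun hgp => hg ((PrimeSpectrum.mem_zeroLocus _ _).1 hq₀ hgp), fun q hpq hgq => hsub ⟨hgU hgq, ?_⟩⟩
  exact (PrimeSpectrum.mem_zeroLocus _ _).2 hpq

end Groth.Agent.S9296
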