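import Groth.Statements.S9298
import Groth.Agent.Lib.Compl.Algebraize

set_option autoImplicit false
universe u
open CAlg

namespace Groth.Agent.S9298

open Groth.Agent.Compl Submodule Polynomial


/-- Let A be a Noetherian ring, I an ideal, B a finite type A-algebra and B^ its I-adic completion. Let
π be a surjective ring map from B^ to C, with kernel J, and suppose some power I^c (c ≥ 0) kills the
conormal module J/J^2. Then, compatibly with the maps from A, C is isomorphic to the I-adic
completion of some finite type A-algebra. -/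
theorem result (A : Type u) [CommRing A]
    [IsNoetherianRing A] (I : Ideal A) (B : Type u) [CommRing B] [Algebra A B] [Algebra.FiniteType A B]
    (C : Type u) [CommRing C]
    (π : AdicCompletion (Ideal.map (algebraMap A B) I) B →+* C) (hπ : Function.Surjective π) (c : ℕ)
    (hJ : Ideal.map ((algebraMap B (AdicCompletion (Ideal.map (algebraMap A B) I) B)).comp
        (algebraMap A B)) I ^ c * RingHom.ker π ≤ RingHom.ker π ^ 2) :
    ∃ (D : Type u) (_ : CommRing D) (_ : Algebra A D), Algebra.FiniteType A D ∧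
      ∃ e : C ≃+* AdicCompletion (Ideal.map (algebraMap A D) I) D,
        ∀ a : A, e (π (algebraMap B _ (algebraMap A B a))) =
          algebraMap D _ (algebraMap A D a) := by
  classical
  haveI : IsNoetherianRing B := Algebra.FiniteType.isNoetherianRing A B
  let IB := I.map (algebraMap A B)
  let Bh := AdicCompletion IB B
  let o := algebraMap B Bh
  haveI : IsNoetherianRing Bh := isNoetherianRing_adicCompletion IB (IsNoetherian.noetherian IB)
  let J : Ideal Bh := RingHom.ker π
  let J' : Ideal Bh := (J : Submodule Bh Bh).annihilator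
  have hJ' : (IB ^ c).map o * J ≤ J ^ 2 := by
    rw [Ideal.map_pow, Ideal.map_map]
    exact hJ
  have hrad : (IB ^ c).map o ≤ (J ⊔ J').radical := by
    intro a ha
    let φ : Module.End Bh J := algebraMap Bh (Module.End Bh J) a
    have hrange : LinearMap.range φ ≤ J • ⊤ := by
      rintro _ ⟨x, rfl⟩
      have h1 : a * (x : Bh) ∈ J • J := by
        rw [smul_eq_mul, ← sq]
        exact hJ' (Ideal.mul_mem_mul ha x.2)
      rw [show (J • J : Submodule Bh Bh) = (J • (⊤ : Submodule Bh J)).map J.subtype by
        rw [Submodule.map_smul'', Submodule.map_top, Submodule.range_subtype]] at h1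
      obtain ⟨y, hy, hyx⟩ := h1
      rwa [show φ x = y from Subtype.ext hyx.symm]
    obtain ⟨p, hpm, -, hcoeff, hpa⟩ :=
      LinearMap.exists_monic_and_natDegree_eq_and_coeff_mem_pow_and_aeval_eq_zero Bh φ J hrange
    refine ⟨p.natDegree, ?_⟩
    have h2 : p.eval a ∈ J' := by
      rw [Submodule.mem_annihilator]
      intro x hx
      have h := LinearMap.congr_fun hpa ⟨x, hx⟩
      rw [Polynomial.aeval_algebraMap_apply_eq_algebraMap_eval] at h
      exact congrArg Subtype.val h
    have h3 : a ^ p.natDegree - p.eval a ∈ J := by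
      have hmap : p.map (Ideal.Quotient.mk J) = X ^ p.natDegree := by
        ext i
        rw [Polynomial.coeff_map, Polynomial.coeff_X_pow]
        split_ifs with h
        · rw [h, hpm.coeff_natDegree, map_one]
        · rcases Nat.lt_or_gt_of_ne h with h | h
          · exact Ideal.Quotient.eq_zero_iff_mem.2 (Ideal.pow_le_self (by omega) (hcoeff i))
          · rw [Polynomial.coeff_eq_zero_of_natDegree_lt h, map_zero]
      rw [← Ideal.Quotient.eq_zero_iff_mem, map_sub, map_pow, ← Polynomial.eval₂_hom, ← Polynomial.eval_map, hmap,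
        Polynomial.eval_pow, Polynomial.eval_X, sub_self]
    have := add_mem (mem_sup_left h3 : _ ∈ J ⊔ J') (mem_sup_right h2)
    rwa [sub_add_cancel] at this
  obtain ⟨k, hk⟩ := Ideal.exists_pow_le_of_le_radical_of_fg_radical hrad (IsNoetherian.noetherian _)
  have hN : ∀ a ∈ IB ^ (c * k), ∃ j ∈ J, ∃ j' ∈ J', o a = j + j' := fun a ha => by
    have h1 : o a ∈ ((IB ^ c).map o) ^ k := by
      rw [← Ideal.map_pow, ← pow_mul]; exact Ideal.mem_map_of_mem _ ha
    obtain ⟨j, hj, j', hj', h⟩ := mem_sup.1 (hk h1)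
    exact ⟨j, hj, j', hj', h.symm⟩
  let E := (Bh ⧸ J) × (Bh ⧸ J')
  have hK : ∀ x : Bh, algebraMap Bh E x = 0 → ∀ a ∈ IB ^ (c * k), o a * x = 0 := by
    intro x hx a ha
    obtain ⟨j, hj, j', hj', h⟩ := hN a ha
    have h1 : x ∈ J := Ideal.Quotient.eq_zero_iff_mem.1 (congrArg Prod.fst hx)
    have h2 : x ∈ J' := Ideal.Quotient.eq_zero_iff_mem.1 (congrArg Prod.snd hx)
    have e1 := (Submodule.mem_annihilator.1 h2) j hj
    have e2 := (Submodule.mem_annihilator.1 hj') x h1
    rw [smul_eq_mul] at e1 e2
    rw [h, add_mul, mul_comm j, e1, e2, add_zero]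
  have hQ : ∀ a ∈ IB ^ (c * k), ∀ z : E, ∃ h : Bh, algebraMap Bh E h = algebraMap B E a * z := by
    rintro a ha ⟨p, q⟩
    obtain ⟨p, rfl⟩ := Ideal.Quotient.mk_surjective p
    obtain ⟨q, rfl⟩ := Ideal.Quotient.mk_surjective q
    obtain ⟨j, hj, j', hj', h⟩ := hN a ha
    refine ⟨j' * p + j * q, ?_⟩
    rw [IsScalarTower.algebraMap_apply B Bh E, show algebraMap B Bh a = j + j' from h]
    refine Prod.ext ?_ ?_
    · show Ideal.Quotient.mk J (j' * p + j * q) = Ideal.Quotient.mk J (j + j') * Ideal.Quotient.mk J p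
      rw [← map_mul, Ideal.Quotient.eq, show j' * p + j * q - (j + j') * p = j * (q - p) by ring]
      exact J.mul_mem_right _ hj
    · show Ideal.Quotient.mk J' (j' * p + j * q) = Ideal.Quotient.mk J' (j + j') * Ideal.Quotient.mk J' q
      rw [← map_mul, Ideal.Quotient.eq, show j' * p + j * q - (j + j') * q = j' * (p - q) by ring]
      exact J'.mul_mem_right _ hj'
  haveI : Module.Finite B (descend IB E) := finite_descend IB E (c * k) hK hQ
  haveI : Algebra.FiniteType A (descend IB E) :=
    Algebra.FiniteType.trans ‹Algebra.FiniteType A B› inferInstance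
  let e : E := (1, 0)
  obtain ⟨s, hs, hse⟩ := exists_mem_descend_sub_mem IB E (c * k) hK hQ 1 e
  rw [pow_one] at hse
  let G := Localization.Away (⟨s, hs⟩ : descend IB E)
  haveI : Algebra.FiniteType (descend IB E) G := IsLocalization.finiteType_of_monoid_fg (Submonoid.powers (⟨s, hs⟩ : descend IB E)) G
  haveI : Algebra.FiniteType A G := Algebra.FiniteType.trans ‹Algebra.FiniteType A (descend IB E)› ‹_›
  refine ⟨G, inferInstance, inferInstance, inferInstance, ?_⟩
  let C0 := Bh ⧸ J
  let M : Ideal C0 := IB.map (algebraMap B C0)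
  haveI : IsAdicComplete M C0 := by
    haveI := AdicCompletion.isAdicComplete_self IB (IsNoetherian.noetherian IB)
    haveI := isAdicComplete_of_finite (IB.map o) C0
    have h := (IsAdicComplete.map_algebraMap_iff (IB.map o) C0 (S := C0)).2 inferInstance
    rwa [Ideal.map_map, ← IsScalarTower.algebraMap_eq] at h
  let ψ0 : descend IB E →+* C0 := (RingHom.fst _ _).comp (descend IB E).val.toRingHom
  have hunit : IsUnit (ψ0 ⟨s, hs⟩) := by
    have h1 : (1 : C0) - s.1 ∈ M := by
      have := Ideal.mem_map_of_mem (RingHom.fst (Bh ⧸ J) (Bh ⧸ J')) hse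
      rw [Ideal.map_map] at this
      exact this
    have h2 := Ideal.mem_jacobson_bot.1 (IsAdicComplete.le_jacobson_bot M h1) (-1)
    rw [show (1 - s.1) * (-1) + 1 = s.1 by ring] at h2
    exact h2
  let ψ : G →+* C0 := IsLocalization.Away.lift (⟨s, hs⟩ : descend IB E) hunit
  have hψ : ∀ d, ψ (algebraMap (descend IB E) G d) = ψ0 d := fun d => IsLocalization.Away.lift_eq _ _ d
  have hψA : ∀ a, ψ (algebraMap A G a) = Ideal.Quotient.mk J (o (algebraMap A B a)) := fun a => by
    rw [IsScalarTower.algebraMap_apply A (descend IB E) G, hψ]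
    show ((algebraMap A (descend IB E) a : descend IB E) : E).1 = _
    rw [IsScalarTower.algebraMap_apply A B (descend IB E)]
    rfl
  have hL : ∀ n, (I.map (algebraMap A G)) ^ n = ((IB ^ n).map (algebraMap B (descend IB E))).map (algebraMap (descend IB E) G) := fun n => by
    rw [Ideal.map_pow, Ideal.map_pow, Ideal.map_map]
    show I.map (algebraMap A G) ^ n = ((I.map (algebraMap A B)).map ((algebraMap (descend IB E) G).comp (algebraMap B (descend IB E)))) ^ n
    rw [Ideal.map_map, RingHom.comp_assoc, ← IsScalarTower.algebraMap_eq A B (descend IB E), ← IsScalarTower.algebraMap_eq]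
  have hM : (I.map (algebraMap A G)).map ψ = M := by
    rw [Ideal.map_map, show ψ.comp (algebraMap A G) = (algebraMap B C0).comp (algebraMap A B) from RingHom.ext hψA,
      ← Ideal.map_map]
  haveI : IsAdicComplete ((I.map (algebraMap A G)).map ψ) C0 := hM.symm ▸ inferInstance
  obtain ⟨e2, he2⟩ := exists_ringEquiv_adicCompletion (I.map (algebraMap A G)) ψ (fun n z => by
      obtain ⟨d, hd, hzd⟩ := exists_mem_descend_sub_mem IB E (c * k) hK hQ n ((z, 0) : E)
      refine ⟨algebraMap (descend IB E) G ⟨d, hd⟩, ?_⟩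
      rw [hψ, hM, ← Ideal.map_pow]
      have := Ideal.mem_map_of_mem (RingHom.fst (Bh ⧸ J) (Bh ⧸ J')) hzd
      rw [Ideal.map_map] at this
      exact this) (fun n g hg => by
      rw [hM] at hg
      obtain ⟨m, d, hdm⟩ := IsLocalization.Away.surj (⟨s, hs⟩ : descend IB E) g
      have h1 : ψ0 d ∈ (IB ^ n).map (algebraMap B C0) := by
        rw [← hψ, ← hdm, map_mul, Ideal.map_pow]
        exact Ideal.mul_mem_right _ _ hg
      have h2 : ∀ x ∈ (IB ^ n).map (algebraMap B C0), ((x, 0) : E) ∈ (IB ^ n).map (algebraMap B E) := by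
        intro x hx
        refine Submodule.span_induction ?_ (zero_mem _) ?_ ?_ hx
        · rintro _ ⟨b, hb, rfl⟩
          rw [show ((algebraMap B C0 b, 0) : E) = algebraMap B E b * e from Prod.ext (mul_one _).symm (mul_zero _).symm]
          exact Ideal.mul_mem_right _ _ (Ideal.mem_map_of_mem _ hb)
        · intro x y _ _ hx hy
          have := add_mem hx hy
          rwa [Prod.mk_add_mk, add_zero] at this
        · intro r x _ hx
          have := Ideal.mul_mem_left _ ((r, 0) : E) hx
          rwa [Prod.mk_mul_mk, mul_zero] at this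
      have h3 : (1 - e) * s ∈ IB.map (algebraMap B E) := by
        rw [show (1 - e) * s = (1 - e) * e - (1 - e) * (e - s) by ring,
          show (1 - e) * e = 0 from Prod.ext (show ((1 : Bh ⧸ J) - 1) * 1 = 0 by rw [sub_self, zero_mul]) (show ((1 : Bh ⧸ J') - 0) * 0 = 0 by rw [mul_zero]), zero_sub]
        exact neg_mem (Ideal.mul_mem_left _ _ hse)
      have h4 : s ^ n * (d : E) ∈ (IB ^ n).map (algebraMap B E) := by
        have hidem : ∀ n : ℕ, (1 - e) * (1 - e) ^ n = 1 - e := fun n => by
          induction n with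
          | zero => rw [pow_zero, mul_one]
          | succ n ih => rw [pow_succ, ← mul_assoc, ih, mul_sub, mul_one, show (1 - e) * e = 0 from Prod.ext (show ((1 : Bh ⧸ J) - 1) * 1 = 0 by rw [sub_self, zero_mul]) (show ((1 : Bh ⧸ J') - 0) * 0 = 0 by rw [mul_zero]), sub_zero]
        have he : ∀ n : ℕ, (1 - e) * s ^ n = (1 - e) * ((1 - e) * s) ^ n := fun n => by
          rw [mul_pow, ← mul_assoc, hidem]
        rw [show s ^ n * (d : E) = s ^ n * (e * (d : E)) + (1 - e) * s ^ n * (d : E) by ring, he,
          show e * (d : E) = ((ψ0 d, 0) : E) from Prod.ext (one_mul _) (zero_mul _)]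
        refine add_mem (Ideal.mul_mem_left _ _ (h2 _ h1)) (Ideal.mul_mem_right _ _ (Ideal.mul_mem_left _ _ ?_))
        rw [Ideal.map_pow]
        exact Ideal.pow_mem_pow h3 n
      have h5 : (⟨s, hs⟩ : descend IB E) ^ n * d ∈ (IB ^ n).map (algebraMap B (descend IB E)) :=
        mem_map_of_mem_descend IB E (c * k) hK hQ (z := s ^ n * (d : E)) ((⟨s, hs⟩ ^ n * d : descend IB E)).2 h4
      have h6 := Ideal.mem_map_of_mem (algebraMap (descend IB E) G) h5
      rw [← hL, map_mul, ← hdm, map_pow, ← mul_assoc, mul_comm (_ ^ n), mul_assoc, ← pow_add] at h6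
      exact (Ideal.mul_unit_mem_iff_mem _ ((IsLocalization.Away.algebraMap_isUnit (S := G) (⟨s, hs⟩ : descend IB E)).pow _)).1 h6)
  refine ⟨(RingHom.quotientKerEquivOfSurjective hπ).symm.trans e2, fun a => ?_⟩
  rw [RingEquiv.trans_apply, ← he2, hψA]
  congr 1
  rw [RingEquiv.symm_apply_eq]
  rfl

end Groth.Agent.S9298
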