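import Groth.Statements.S9300
import Mathlib.RingTheory.Ideal.Maximal
import Mathlib.RingTheory.Ideal.Maps

set_option autoImplicit false
universe u
open CAlg

namespace Groth.Agent.S9300

/-- Let A and B be domains and A → B a ring map for which the generic point of Spec(A) has a unique
preimage in Spec(B). Then every nonzero ideal of B has nonzero preimage in A. -/
theorem result (A B : Type u) [CommRing A] [IsDomain A]
    [CommRing B] [IsDomain B] (φ : A →+* B)
    (h : ∃! q : PrimeSpectrum B, Ideal.comap φ q.asIdeal = ⊥) (J : Ideal B) (hJ : J ≠ ⊥) :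
    Ideal.comap φ J ≠ ⊥ := by
  obtain ⟨q₀, hq₀, huniq⟩ := h
  have hker : RingHom.ker φ = ⊥ :=
    eq_bot_iff.2 ((Ideal.comap_mono (bot_le : (⊥ : Ideal B) ≤ q₀.asIdeal)).trans_eq hq₀)
  have hbot : Ideal.comap φ (⊥ : Ideal B) = ⊥ := hker
  have hq : q₀ = ⟨⊥, Ideal.isPrime_bot⟩ := (huniq ⟨⊥, Ideal.isPrime_bot⟩ hbot).symm
  intro hc
  have hdisj : Disjoint (J : Set B) ((nonZeroDivisors A).map φ : Set B) := by
    rw [Set.disjoint_left]
    rintro _ hb ⟨a, ha, rfl⟩
    have : a ∈ Ideal.comap φ J := hb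
    rw [hc, Ideal.mem_bot] at this
    exact nonZeroDivisors.ne_zero ha this
  obtain ⟨Q, hQ, hJQ, hQd⟩ := J.exists_le_prime_disjoint _ hdisj
  have hQc : Ideal.comap φ Q = ⊥ := eq_bot_iff.2 fun a ha => by
    by_contra hne
    exact Set.disjoint_left.1 hQd ha ⟨a, mem_nonZeroDivisors_of_ne_zero hne, rfl⟩
  have := congrArg PrimeSpectrum.asIdeal ((huniq ⟨Q, hQ⟩ hQc).trans hq)
  exact hJ (eq_bot_iff.2 (hJQ.trans_eq this))

end Groth.Agent.S9300
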