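import Groth.Statements.S9301
import Mathlib.RingTheory.QuasiFinite.Basic
import Mathlib.RingTheory.Flat.TorsionFree
import Mathlib.RingTheory.Ideal.GoingUp
import Mathlib.RingTheory.Localization.Integral

set_option autoImplicit false
universe u
open CAlg

namespace Groth.Agent.S9301




/-- Let A and B be domains and A → B a flat ring map which is the localization of a quasi-finite ring
map A → B₀ (of finite type with finite fibres). Then every nonzero ideal of B has nonzero preimage
in A. -/
theorem result (A B₀ B : Type u) [CommRing A] [IsDomain A]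
    [CommRing B₀] [CommRing B] [IsDomain B] [Algebra A B₀] [Algebra.FiniteType A B₀]
    [Algebra.QuasiFinite A B₀] (S : Submonoid B₀) [Algebra B₀ B] [IsLocalization S B] [Algebra A B]
    [IsScalarTower A B₀ B] [Module.Flat A B] (J : Ideal B) (hJ : J ≠ ⊥) :
    Ideal.comap (algebraMap A B) J ≠ ⊥ := by
  classical
  obtain ⟨x, hxJ, hx0⟩ := Submodule.exists_mem_ne_zero_of_ne_bot hJ
  obtain ⟨⟨b₀, s⟩, hs⟩ := IsLocalization.surj S x
  have hs0 : algebraMap B₀ B (s : B₀) ≠ 0 := (IsLocalization.map_units B s).ne_zero
  have hy0 : algebraMap B₀ B b₀ ≠ 0 := hs ▸ mul_ne_zero hx0 hs0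
  have hyJ : algebraMap B₀ B b₀ ∈ J := hs ▸ J.mul_mem_right _ hxJ
  have hinj : Function.Injective (algebraMap A B) := by
    rw [injective_iff_map_eq_zero]
    intro a ha
    by_contra h
    have h1 : a • (1 : B) = a • (0 : B) := by rw [smul_zero, Algebra.smul_def, ha, zero_mul]
    exact one_ne_zero ((IsRegular.of_ne_zero h).isSMulRegular h1)
  let K := FractionRing A
  let L := FractionRing B
  have : FaithfulSMul A B := (faithfulSMul_iff_algebraMap_injective A B).2 hinj
  have : FaithfulSMul A L := (faithfulSMul_iff_algebraMap_injective A L).2 (by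
    rw [IsScalarTower.algebraMap_eq A B L]
    exact (IsFractionRing.injective B L).comp hinj)
  let : Algebra K L := FractionRing.liftAlgebra A L
  let ψ : TensorProduct A K B₀ →ₐ[K] L :=
    Algebra.TensorProduct.lift (Algebra.ofId K L) ((IsScalarTower.toAlgHom A B L).comp (IsScalarTower.toAlgHom A B₀ B)) (fun _ _ => .all _ _)
  have : Algebra.QuasiFinite K (TensorProduct A K B₀) := inferInstance
  have : Module.Finite K (TensorProduct A K B₀) := Module.Finite.of_quasiFinite
  have hint : IsIntegral K (algebraMap B L (algebraMap B₀ B b₀)) := by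
    have := (IsIntegral.of_finite K ((1 : K) ⊗ₜ[A] b₀)).map ψ
    simpa [ψ] using this
  have halg : IsAlgebraic A (algebraMap B L (algebraMap B₀ B b₀)) :=
    (IsFractionRing.isAlgebraic_iff A K L).2 hint.isAlgebraic
  refine Ideal.comap_ne_bot_of_algebraic_mem hy0 hyJ ?_
  exact (isAlgebraic_algebraMap_iff (IsFractionRing.injective B L)).1 halg

end Groth.Agent.S9301
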