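import Groth.Statements.S9302
import Groth.Agent.Lib.HensSchH7.Alg
import Mathlib.Algebra.Category.Ring.FilteredColimits
import Mathlib.Algebra.Category.Ring.Limits

set_option autoImplicit false
universe u
open CategoryTheory
open EtAlg

namespace Groth.Agent.S9302

/-- Henselian pairs are preserved under limits: for an inverse system (A_j, I_j) of henselian pairs over
a preordered set J, the limit A = lim A_j with the ideal I = lim I_j (elements all of whose
projections lie in the I_j) is a henselian pair. -/
theorem result (J : Type u) [Preorder J] (F : J ⥤ CommRingCat.{u})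
    (I : ∀ j : J, Ideal (F.obj j))
    (hI : ∀ (i j : J) (φ : i ⟶ j), Ideal.map (F.map φ).hom (I i) ≤ I j)
    (h : ∀ j : J, HenselianRing (F.obj j) (I j)) :
    HenselianRing ((Limits.limit F : CommRingCat.{u}) : Type u)
      (⨅ j : J, Ideal.comap (Limits.limit.π F j).hom (I j)) := by
  classical
  let L : Type u := (Limits.limit F : CommRingCat.{u})
  let K : Ideal L := ⨅ j : J, Ideal.comap (Limits.limit.π F j).hom (I j)
  let p : ∀ j, L →+* (F.obj j : Type u) := fun j => (Limits.limit.π F j).hom
  have hp : ∀ {i j : J} (φ : i ⟶ j) (x : L), (F.map φ).hom (p i x) = p j x := fun φ x =>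
    congr($(Limits.limit.w F φ) x)
  have hext : ∀ x y : L, (∀ j, p j x = p j y) → x = y := fun x y hxy =>
    Limits.Concrete.limit_ext F x y hxy
  let hlim := Limits.isLimitOfPreserves (forget CommRingCat.{u}) (Limits.limit.isLimit F)
  let e := Limits.Types.isLimitEquivSections hlim
  have hlift : ∀ a : ∀ j, (F.obj j : Type u), (∀ {i j : J} (φ : i ⟶ j), (F.map φ).hom (a i) = a j) →
      ∃ x : L, ∀ j, p j x = a j := fun a ha =>
    ⟨e.symm ⟨a, fun φ => ha φ⟩, fun j =>
      Limits.Types.isLimitEquivSections_symm_apply hlim ⟨a, fun φ => ha φ⟩ j⟩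
  have hmem : ∀ x : L, x ∈ K ↔ ∀ j, p j x ∈ I j := fun x => by simp [K, p, Ideal.mem_iInf]
  refine ⟨fun x hx => Ideal.mem_jacobson_bot.mpr fun y => ?_, fun f hf a₀ h₀ h₁ => ?_⟩
  · have hu : ∀ j, IsUnit (p j (x * y + 1)) := fun j => by
      rw [map_add, map_mul, map_one]
      exact Ideal.mem_jacobson_bot.mp ((h j).jac ((hmem x).mp hx j)) (p j y)
    choose w hw using fun j => (hu j).exists_right_inv
    obtain ⟨z, hz⟩ := hlift w (fun {i j} φ => (hu j).mul_left_cancel (by
      rw [hw j, ← hp φ (x * y + 1), ← map_mul, hw i, map_one]))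
    exact IsUnit.of_mul_eq_one z (hext _ _ fun j => by rw [map_mul, hz, hw, map_one])
  · have hev : ∀ (j : J) (q : Polynomial L) (a : L), (q.map (p j)).eval (p j a) = p j (q.eval a) :=
      fun j q a => by rw [Polynomial.eval_map, Polynomial.eval₂_at_apply]
    have hev' : ∀ {i j : J} (φ : i ⟶ j) (q : Polynomial L) (a : (F.obj i : Type u)),
        (q.map (p j)).eval ((F.map φ).hom a) = (F.map φ).hom ((q.map (p i)).eval a) := by
      intro i j φ q a
      rw [show p j = (F.map φ).hom.comp (p i) from RingHom.ext fun x => (hp φ x).symm,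
        ← Polynomial.map_map, Polynomial.eval_map (f := (F.map φ).hom), Polynomial.eval₂_at_apply]
    have hu : ∀ j, IsUnit (Ideal.Quotient.mk (I j) ((f.map (p j)).derivative.eval (p j a₀))) := by
      intro j
      rw [Polynomial.derivative_map, hev]
      exact h₁.map (Ideal.quotientMap (I j) (p j) (fun x hx => (hmem x).mp hx j))
    choose a ha haI using fun j => (h j).is_henselian (f.map (p j)) (hf.map _) (p j a₀)
      (by rw [hev]; exact (hmem _).mp h₀ j) (hu j)
    obtain ⟨x, hx⟩ := hlift a (fun {i j} φ => by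
      refine Groth.Agent.HensSchH7.root_unique (f := f.map (p j)) (a₀ := p j a₀) (h j).jac
        ?_ ?_ (ha j) (haI j) (hu j)
      · rw [Polynomial.IsRoot.def, hev' φ, (ha i).eq_zero, map_zero]
      · rw [← hp φ a₀, ← map_sub]
        exact hI i j φ (Ideal.mem_map_of_mem _ (haI i)))
    refine ⟨x, hext _ _ fun j => ?_, (hmem _).mpr fun j => ?_⟩
    · rw [← hev, hx, (ha j).eq_zero, map_zero]
    · rw [map_sub, hx]; exact haI j

end Groth.Agent.S9302
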