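import Groth.Statements.S9303
import Mathlib.Tactic.LinearCombination
import Mathlib.LinearAlgebra.Quotient.Basic

set_option autoImplicit false
universe u
open CAlg

namespace Groth.Agent.S9303

theorem bij_of {A : Type u} [CommRing A] (f : A) (D : Type u) [CommRing D] [Algebra A D]
    (h1 : ∀ a : A, algebraMap A D a = 0 → ∃ n : ℕ, f ^ n * a = 0)
    (h2 : ∀ y : D, ∃ (n : ℕ) (a : A), algebraMap A D a = f ^ n • y) :
    Function.Bijective (algebraMap (Localization.Away f)
      (Localization (Algebra.algebraMapSubmonoid D (Submonoid.powers f)))) := by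
  set S := Algebra.algebraMapSubmonoid D (Submonoid.powers f)
  have hu : IsUnit (algebraMap A (Localization S) f) := by
    rw [IsScalarTower.algebraMap_apply A D (Localization S)]
    exact IsLocalization.map_units (M := S) (Localization S) ⟨_, ⟨f, ⟨1, pow_one f⟩, rfl⟩⟩
  refine ⟨(injective_iff_map_eq_zero _).2 fun x hx => ?_, fun y => ?_⟩
  · obtain ⟨k, a, ha⟩ := IsLocalization.Away.surj f x
    have h0 := congrArg (algebraMap (Localization.Away f) (Localization S)) ha
    rw [map_mul, hx, zero_mul, ← IsScalarTower.algebraMap_apply, IsScalarTower.algebraMap_apply A D (Localization S)] at h0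
    obtain ⟨⟨_, ⟨_, ⟨j, rfl⟩, rfl⟩⟩, hj⟩ := (IsLocalization.map_eq_zero_iff S _ _).1 h0.symm
    obtain ⟨n, hn⟩ := h1 (f ^ j * a) (by rw [map_mul]; exact hj)
    have hua := (IsLocalization.Away.algebraMap_isUnit (S := Localization.Away f) f)
    refine (hua.pow k).mul_left_eq_zero.1 (ha.trans ?_)
    refine (hua.pow (n + j)).mul_right_eq_zero.1 ?_
    rw [← map_pow, ← map_mul, pow_add, mul_assoc, hn, map_zero]
  · obtain ⟨d, ⟨_, _, ⟨j, rfl⟩, rfl⟩, rfl⟩ := IsLocalization.exists_mk'_eq S y
    obtain ⟨n, a, ha⟩ := h2 d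
    obtain ⟨z, hz⟩ : ∃ z : Localization.Away f,
        z * algebraMap A (Localization.Away f) (f ^ (n + j)) = algebraMap A (Localization.Away f) a :=
      ⟨_, IsLocalization.mk'_spec (Localization.Away f) a (⟨f ^ (n + j), n + j, rfl⟩ : Submonoid.powers f)⟩
    refine ⟨z, (hu.pow (n + j)).mul_left_inj.1 ?_⟩
    have h3 := congrArg (algebraMap (Localization.Away f) (Localization S)) hz
    rw [map_mul, ← IsScalarTower.algebraMap_apply, ← IsScalarTower.algebraMap_apply, map_pow] at h3
    have h4 : ∀ w : Localization S, w * algebraMap A (Localization S) (f ^ j) = algebraMap D _ d →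
        w * algebraMap A (Localization S) f ^ (n + j) = algebraMap A (Localization S) a := fun w hw => by
      rw [IsScalarTower.algebraMap_apply A D (Localization S) a, ha, Algebra.smul_def, map_mul, ← hw,
        ← IsScalarTower.algebraMap_apply, map_pow, map_pow, pow_add]
      ring
    rw [h3]
    refine (h4 _ ?_).symm
    rw [IsScalarTower.algebraMap_apply A D (Localization S)]
    exact IsLocalization.mk'_spec (Localization S) d _

theorem ideal_of_gens {A : Type u} [CommRing A] {I : Ideal A} {s : Finset A} (hs : Ideal.span (s : Set A) = I)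
    {J : Ideal A} (h : ∀ g ∈ s, g ∈ J.radical) {f : A} (hf : f ∈ I) : ∃ n : ℕ, f ^ n ∈ J :=
  (hs ▸ Ideal.span_le.2 h : I ≤ J.radical) hf



/-- Let A be a ring, I a finitely generated ideal and A → C a ring map such that for every f ∈ I the map
A_f → C_f is the localization of A_f at an idempotent. Then there is a surjection A → C' (C' = A/K
for an ideal K) such that A_f → (C × C')_f is an isomorphism for every f ∈ I. -/
theorem result (A : Type u) [CommRing A]
    (I : Ideal A) (hI : I.FG) (C : Type u) [CommRing C] [Algebra A C]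
    (h : ∀ f ∈ I, ∃ e : Localization.Away f, IsIdempotentElem e ∧
      IsLocalization.Away e (Localization (Algebra.algebraMapSubmonoid C (Submonoid.powers f)))) :
    ∃ K : Ideal A, ∀ f ∈ I, Function.Bijective
      (algebraMap (Localization.Away f)
        (Localization (Algebra.algebraMapSubmonoid (C × (A ⧸ K)) (Submonoid.powers f)))) := by
  classical
  obtain ⟨s, hs⟩ := hI
  have hsI : ∀ g ∈ s, g ∈ I := fun g hg => hs ▸ Ideal.subset_span hg
  let K : Ideal A :=
    { carrier := {a | ∀ g (hg : g ∈ s), algebraMap A (Localization.Away g) a * (1 - (h g (hsI g hg)).choose) = 0}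
      add_mem' := fun ha hb g hg => by rw [map_add, add_mul, ha g hg, hb g hg, add_zero]
      zero_mem' := fun g hg => by rw [map_zero, zero_mul]
      smul_mem' := fun c a ha g hg => by rw [smul_eq_mul, map_mul, mul_assoc, ha g hg, mul_zero] }
  let C' (g : A) := Localization (Algebra.algebraMapSubmonoid C (Submonoid.powers g))
  -- the image in the localised `C` vanishes iff multiplication by the idempotent kills
  have hker : ∀ g (hg : g ∈ s) (z : Localization.Away g),
      algebraMap (Localization.Away g) (C' g) z = 0 ↔ (h g (hsI g hg)).choose * z = 0 := by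
    intro g hg z
    obtain ⟨he, hloc⟩ := (h g (hsI g hg)).choose_spec
    haveI := hloc
    rw [IsLocalization.map_eq_zero_iff (Submonoid.powers (h g (hsI g hg)).choose) (C' g)]
    refine ⟨?_, fun hz => ⟨⟨_, 1, pow_one _⟩, hz⟩⟩
    rintro ⟨⟨_, m, rfl⟩, hm⟩
    rcases Nat.eq_zero_or_pos m with rfl | hpos
    · simp only [pow_zero, one_mul] at hm; rw [hm, mul_zero]
    · rwa [← he.pow_succ_eq (m - 1), Nat.sub_add_cancel hpos]
  have hzero : ∀ g (a : A), algebraMap A (C' g) a = 0 → ∃ n : ℕ, g ^ n • algebraMap A C a = 0 := by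
    intro g a ha
    rw [IsScalarTower.algebraMap_apply A C (C' g)] at ha
    obtain ⟨⟨_, _, ⟨n, rfl⟩, rfl⟩, hn⟩ :=
      (IsLocalization.map_eq_zero_iff (Algebra.algebraMapSubmonoid C (Submonoid.powers g)) _ _).1 ha
    exact ⟨n, by rw [Algebra.smul_def]; exact hn⟩
  -- killing at one generator implies killing at every other one
  have claim : ∀ g (hg : g ∈ s) (a : A), algebraMap A (Localization.Away g) a * (1 - (h g (hsI g hg)).choose) = 0 →
      ∀ g' (hg' : g' ∈ s), ∃ m : ℕ, algebraMap A (Localization.Away g') (g ^ m * a) * (1 - (h g' (hsI g' hg')).choose) = 0 := by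
    intro g hg a ha g' hg'
    obtain ⟨he', -⟩ := (h g' (hsI g' hg')).choose_spec
    set e' := (h g' (hsI g' hg')).choose
    obtain ⟨N, u, hu⟩ := IsLocalization.Away.surj g' (1 - e')
    have hb : algebraMap A (Localization.Away g') (a * u) =
        algebraMap A _ a * (1 - e') * algebraMap A _ g' ^ N := by rw [map_mul, ← hu, mul_assoc]
    have h0 : algebraMap A (C' g') (a * u) = 0 := by
      rw [IsScalarTower.algebraMap_apply A (Localization.Away g') (C' g'), hb, map_mul, map_mul,
        (hker g' hg' (1 - e')).2 (by rw [mul_sub, mul_one, he'.eq, sub_self]), mul_zero, zero_mul]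
    obtain ⟨i, hi⟩ := hzero g' (a * u) h0
    rw [Algebra.smul_def, ← map_mul] at hi
    have h1 : (h g (hsI g hg)).choose * algebraMap A (Localization.Away g) (g' ^ i * (a * u)) = 0 :=
      (hker g hg _).1 (by rw [← IsScalarTower.algebraMap_apply, IsScalarTower.algebraMap_apply A C (C' g), hi, map_zero])
    have h2 : algebraMap A (Localization.Away g) (g' ^ i * (a * u)) = 0 := by
      have h3 : algebraMap A (Localization.Away g) (g' ^ i * (a * u)) * (1 - (h g (hsI g hg)).choose) = 0 := by
        rw [show g' ^ i * (a * u) = (g' ^ i * u) * a by ring, map_mul, mul_assoc, ha, mul_zero]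
      rwa [mul_sub, mul_one, mul_comm _ (h g (hsI g hg)).choose, h1, sub_zero] at h3
    obtain ⟨⟨_, m, rfl⟩, hm⟩ := (IsLocalization.map_eq_zero_iff (Submonoid.powers g) _ _).1 h2
    refine ⟨m, ?_⟩
    have hu' := IsLocalization.Away.algebraMap_isUnit (S := Localization.Away g') g'
    refine (hu'.pow (i + N)).mul_left_eq_zero.1 ?_
    have h5 := congrArg (algebraMap A (Localization.Away g')) hm
    simp only [map_mul, map_pow, map_zero, ← hu] at h5 ⊢
    rw [← h5]
    ring
  -- bounded powers put such elements in `K`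
  have inK : ∀ g (hg : g ∈ s) (a : A), algebraMap A (Localization.Away g) a * (1 - (h g (hsI g hg)).choose) = 0 →
      ∃ m : ℕ, g ^ m * a ∈ K := by
    intro g hg a ha
    choose m hm using fun g' : {x // x ∈ s} => claim g hg a ha g'.1 g'.2
    refine ⟨Finset.univ.sup m, fun g' hg' => ?_⟩
    have hle : m ⟨g', hg'⟩ ≤ Finset.univ.sup m := Finset.le_sup (Finset.mem_univ _)
    rw [← Nat.sub_add_cancel hle, pow_add, mul_assoc, map_mul, mul_assoc, hm ⟨g', hg'⟩, mul_zero]
  refine ⟨K, fun f hf => bij_of f (C × (A ⧸ K)) ?_ ?_⟩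
  · intro a ha
    obtain ⟨haC, haK⟩ := Prod.ext_iff.1 ha
    refine ideal_of_gens hs (J := LinearMap.ker (LinearMap.toSpanSingleton A A a)) (fun g hg => ?_) hf |>.imp
      fun n hn => hn
    have h1 : (h g (hsI g hg)).choose * algebraMap A (Localization.Away g) a = 0 :=
      (hker g hg _).1 (by
        rw [← IsScalarTower.algebraMap_apply, IsScalarTower.algebraMap_apply A C (C' g),
          show algebraMap A C a = 0 from haC, map_zero])
    have h2 := (Ideal.Quotient.eq_zero_iff_mem.1 haK) g hg
    rw [mul_sub, mul_one, mul_comm _ (h g (hsI g hg)).choose, h1, sub_zero] at h2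
    obtain ⟨⟨_, m, rfl⟩, hm⟩ := (IsLocalization.map_eq_zero_iff (Submonoid.powers g) _ _).1 h2
    exact ⟨m, hm⟩
  · intro y
    let R : Ideal A :=
      { carrier := {r | ∃ a : A, algebraMap A (C × (A ⧸ K)) a = r • y}
        add_mem' := fun ⟨a, ha⟩ ⟨b, hb⟩ => ⟨a + b, by rw [map_add, ha, hb, add_smul]⟩
        zero_mem' := ⟨0, by rw [map_zero, zero_smul]⟩
        smul_mem' := fun c r ⟨a, ha⟩ => ⟨c * a, by rw [map_mul, ha, smul_eq_mul, mul_smul, ← Algebra.smul_def]⟩ }
    suffices hR : ∀ g ∈ s, g ∈ R.radical by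
      obtain ⟨n, a, ha⟩ := ideal_of_gens hs hR hf
      exact ⟨n, a, ha⟩
    intro g hg
    obtain ⟨he, hloc⟩ := (h g (hsI g hg)).choose_spec
    haveI := hloc
    set e := (h g (hsI g hg)).choose with hedef
    obtain ⟨c, abar⟩ := y
    obtain ⟨a₀, rfl⟩ := Ideal.Quotient.mk_surjective abar
    have hu := IsLocalization.Away.algebraMap_isUnit (S := Localization.Away g) g
    obtain ⟨z, hz⟩ := IsLocalization.Away.algebraMap_surjective_of_isIdempotentElem (S := C' g) (e := e) he
      (algebraMap C (C' g) c)
    obtain ⟨n, a, ha⟩ := IsLocalization.Away.surj g (e * z + (1 - e) * algebraMap A (Localization.Away g) a₀)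
    have h1e : algebraMap (Localization.Away g) (C' g) (1 - e) = 0 :=
      (hker g hg _).2 (by rw [← hedef, mul_sub, mul_one, he.eq, sub_self])
    have haC : algebraMap A (C' g) a = algebraMap C (C' g) (g ^ n • c) := by
      rw [IsScalarTower.algebraMap_apply A (Localization.Away g) (C' g), ← ha, map_mul, map_add, map_mul, map_mul,
        h1e, zero_mul, add_zero, ← map_pow, ← IsScalarTower.algebraMap_apply, hz]
      have hee : algebraMap (Localization.Away g) (C' g) e = 1 := by
        rw [map_sub, map_one, sub_eq_zero] at h1e; exact h1e.symm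
      rw [hee, one_mul, Algebra.smul_def, map_mul, ← IsScalarTower.algebraMap_apply, mul_comm]
    rw [IsScalarTower.algebraMap_apply A C (C' g)] at haC
    obtain ⟨⟨_, _, ⟨i, rfl⟩, rfl⟩, hi⟩ :=
      (IsLocalization.eq_iff_exists (Algebra.algebraMapSubmonoid C (Submonoid.powers g)) _).1 haC
    have hd : algebraMap A (Localization.Away g) (a - g ^ n * a₀) * (1 - e) = 0 := by
      have he1 : (1 - e) * (1 - e) = 1 - e := he.one_sub.eq
      have he2 : e * (1 - e) = 0 := by rw [mul_sub, mul_one, he.eq, sub_self]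
      rw [map_sub, map_mul, map_pow, ← ha]
      linear_combination (z * algebraMap A (Localization.Away g) g ^ n) * he2 +
        (algebraMap A (Localization.Away g) a₀ * algebraMap A (Localization.Away g) g ^ n) * he1
    obtain ⟨m, hm⟩ := inK g hg _ hd
    refine ⟨m + i + n, g ^ (m + i) * a, ?_⟩
    refine Prod.ext ?_ ?_
    · show algebraMap A C (g ^ (m + i) * a) = g ^ (m + i + n) • c
      have hi' : algebraMap A C (g ^ i) * algebraMap A C a = algebraMap A C (g ^ i) * (g ^ n • c) := hi
      simp only [Algebra.smul_def, pow_add, map_mul] at hi' ⊢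
      linear_combination algebraMap A C (g ^ m) * hi'
    · show Ideal.Quotient.mk K (g ^ (m + i) * a) = g ^ (m + i + n) • Ideal.Quotient.mk K a₀
      rw [Algebra.smul_def, Ideal.Quotient.algebraMap_eq, ← map_mul, Ideal.Quotient.eq]
      have : g ^ (m + i) * a - g ^ (m + i + n) * a₀ = g ^ i * (g ^ m * (a - g ^ n * a₀)) := by ring
      rw [this]
      exact K.mul_mem_left _ hm

end Groth.Agent.S9303
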