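import Groth.Statements.S9305
import Groth.Agent.Lib.Branch14.Main

set_option autoImplicit false
universe u
open CAlg

namespace Groth.Agent.S9305

set_option backward.isDefEq.respectTransparency.types false
set_option maxSynthPendingDepth 3

open TensorProduct in
/-- Let A be a local ring with finitely many minimal primes, A' the integral closure of A_red in its
total ring of fractions and A^sh a strict henselization of A. In the ring A' ⊗_A A^sh, each minimal
prime lies in exactly one maximal ideal and each maximal ideal contains exactly one minimal prime. -/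
theorem result {A Ash : Type u} [CommRing A]
    [IsLocalRing A] (hfin : (minimalPrimes A).Finite) [CommRing Ash] [IsLocalRing Ash] [Algebra A Ash]
    [IsLocalHom (algebraMap A Ash)] [Hensel.IsStrictHenselization A Ash] :
    (∀ q ∈ minimalPrimes ((CAlg2.normRed A) ⊗[A] Ash),
        ∃! m : Ideal ((CAlg2.normRed A) ⊗[A] Ash), m.IsMaximal ∧ q ≤ m) ∧
      (∀ m : Ideal ((CAlg2.normRed A) ⊗[A] Ash), m.IsMaximal →
        ∃! q : Ideal ((CAlg2.normRed A) ⊗[A] Ash), q ∈ minimalPrimes ((CAlg2.normRed A) ⊗[A] Ash) ∧ q ≤ m) := by
  have hg := Groth.Agent.Branch14.good_strictHenselization A Ash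
  refine ⟨fun q hq => ?_, fun m hm => ?_⟩
  · have := hq.1.1
    exact hg.existsUnique_maximal q
  · have := hm.isPrime
    exact hg.existsUnique_minimal hfin m

end Groth.Agent.S9305
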