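import Groth.Statements.S9306
import Groth.Agent.Lib.EtRamBC29.Unram

set_option autoImplicit false
universe u
open EtRam

namespace Groth.Agent.S9306

open TensorProduct in
/-- Let A → B be an injective local homomorphism of discrete valuation rings with fraction fields K ⊆ L,
and let K' be a finite separable extension of K that is unramified relative to A. Then every field F
onto which K' ⊗_K L surjects is, as an extension of L, unramified relative to B. (The published
statement also records that K' ⊗_K L is a finite product of fields, whose factors are these F; this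
row does not state that part.) -/
theorem result (A B K L K' : Type u) [CommRing A] [IsDomain A]
    [IsDiscreteValuationRing A] [CommRing B] [IsDomain B] [IsDiscreteValuationRing B] [Algebra A B]
    [IsLocalHom (algebraMap A B)] (hinj : Function.Injective (algebraMap A B))
    [Field K] [Field L] [Field K'] [Algebra A K] [IsFractionRing A K] [Algebra B L] [IsFractionRing B L]
    [Algebra K L] [Algebra A L] [IsScalarTower A K L] [IsScalarTower A B L]
    [Algebra K K'] [FiniteDimensional K K'] [Algebra.IsSeparable K K']
    (h : EtRam.IsUnramifiedExt A ((algebraMap K K').comp (algebraMap A K)))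
    (F : Type u) [Field F] [Algebra (K' ⊗[K] L) F] (hF : Function.Surjective (algebraMap (K' ⊗[K] L) F)) :
    EtRam.IsUnramifiedExt B ((algebraMap (K' ⊗[K] L) F).comp
      ((Algebra.TensorProduct.includeRight : L →ₐ[K] K' ⊗[K] L).toRingHom.comp (algebraMap B L))) := by
  classical
  set ι := algebraMap (K' ⊗[K] L) F
  letI : Algebra K' F := (ι.comp (Algebra.TensorProduct.includeLeft (R := K) (S := K) (A := K') (B := L)).toRingHom).toAlgebra
  letI : Algebra L F := (ι.comp (Algebra.TensorProduct.includeRight : L →ₐ[K] K' ⊗[K] L).toRingHom).toAlgebra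
  letI : Algebra K F := ((algebraMap K' F).comp (algebraMap K K')).toAlgebra
  haveI : IsScalarTower K K' F := IsScalarTower.of_algebraMap_eq fun _ => rfl
  haveI : IsScalarTower K L F := IsScalarTower.of_algebraMap_eq fun c => by
    exact congrArg ι (((Algebra.TensorProduct.includeLeft (R := K) (S := K) (A := K') (B := L)).commutes c).trans
      ((Algebra.TensorProduct.includeRight : L →ₐ[K] K' ⊗[K] L).commutes c).symm)
  have hgen : Algebra.adjoin K' (Set.range (algebraMap L F)) = ⊤ := by
    refine top_le_iff.1 fun z hz => ?_
    clear hz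
    obtain ⟨w, rfl⟩ := hF z
    induction w using TensorProduct.induction_on with
    | zero => rw [map_zero]; exact zero_mem _
    | add a b ha hb => rw [map_add]; exact add_mem ha hb
    | tmul a b =>
      rw [show a ⊗ₜ[K] b = (a ⊗ₜ 1) * (1 ⊗ₜ b) by simp, map_mul]
      exact mul_mem (Subalgebra.algebraMap_mem _ a) (Algebra.subset_adjoin ⟨b, rfl⟩)
  show EtRam.IsUnramifiedExt B ((algebraMap L F).comp (algebraMap B L))
  intro W hW
  letI : Algebra B W := (RingHom.codRestrict _ W hW.1).toAlgebra
  intro _
  have hW0 : EtRam.Dominates B (algebraMap B L) (W.comap (algebraMap L F)) := EtRamH7.dominates_comap _ hW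
  letI : Algebra B (W.comap (algebraMap L F)) := (RingHom.codRestrict (algebraMap B L) _ hW0.1).toAlgebra
  have hbij : Function.Bijective (algebraMap B (W.comap (algebraMap L F))) :=
    ⟨fun a b hab => IsFractionRing.injective B L (congrArg Subtype.val hab), EtRamBC29.surjective_cod _ hW0⟩
  haveI hdvr : IsDiscreteValuationRing (W.comap (algebraMap L F)) :=
    IsDiscreteValuationRing.RingEquivClass.isDiscreteValuationRing (RingEquiv.ofBijective _ hbij)
  haveI : IsLocalHom (algebraMap B (W.comap (algebraMap L F))) := EtRamH7.isLocalHom_cod hW0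
  -- the place of `K'`
  have hAW : EtRam.Dominates A ((algebraMap K' F).comp ((algebraMap K K').comp (algebraMap A K))) W := by
    have hc : ∀ a : A, algebraMap K' F (algebraMap K K' (algebraMap A K a)) = algebraMap L F (algebraMap B L (algebraMap A B a)) := fun a => by
      rw [← IsScalarTower.algebraMap_apply K K' F, ← IsScalarTower.algebraMap_apply A B L,
        IsScalarTower.algebraMap_apply A K L, ← IsScalarTower.algebraMap_apply K L F]
    refine ⟨fun a => ?_, fun a ha => ?_⟩
    · show algebraMap K' F (algebraMap K K' (algebraMap A K a)) ∈ W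
      rw [hc]; exact hW.1 _
    · show W.valuation (algebraMap K' F (algebraMap K K' (algebraMap A K a))) < 1
      rw [hc]
      exact hW.2 _ (((IsLocalRing.local_hom_TFAE (algebraMap A B)).out 0 2 rfl rfl).1 inferInstance
        (Ideal.mem_map_of_mem _ ha))
  have hV := EtRamH7.dominates_comap (algebraMap K' F) hAW
  letI : Algebra A K' := ((algebraMap K K').comp (algebraMap A K)).toAlgebra
  haveI : IsScalarTower A K K' := IsScalarTower.of_algebraMap_eq fun _ => rfl
  haveI := EtRamH7.dvr_of_dominates A K K' _ rfl _ hV
  letI : Algebra A (W.comap (algebraMap K' F)) := (RingHom.codRestrict _ _ hV.1).toAlgebra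
  haveI : IsLocalHom (algebraMap A (W.comap (algebraMap K' F))) := EtRamH7.isLocalHom_cod hV
  haveI : IsScalarTower A (W.comap (algebraMap K' F)) K' := IsScalarTower.of_algebraMap_eq fun _ => rfl
  obtain ⟨hw, hs⟩ := @h _ hV (inferInstance : IsLocalHom (algebraMap A (W.comap (algebraMap K' F))))
  haveI := hs
  obtain ⟨hw', hg⟩ := EtRamBC29.isSolution_finite A (W.comap (algebraMap K' F)) K K'
    (EtRamH7.injective_cod A K K' _ rfl _ hV.1) hw L F hgen W (EtRamH7.dominates_self_comap (algebraMap K' F) W) hdvr
  letI : Algebra (W.comap (algebraMap L F)) W := (EtRam.inclOfComap W (algebraMap L F)).toAlgebra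
  haveI : IsLocalHom (algebraMap (W.comap (algebraMap L F)) W) := EtRam.isLocalHom_inclOfComap _ _
  haveI : IsScalarTower B (W.comap (algebraMap L F)) W := IsScalarTower.of_algebraMap_eq fun _ => rfl
  have hwB : EtRam.IsWeaklyUnramified B (W.comap (algebraMap L F)) := by
    refine le_antisymm (((IsLocalRing.local_hom_TFAE (algebraMap B (W.comap (algebraMap L F)))).out 0 2 rfl rfl).1 inferInstance) fun x hx => ?_
    obtain ⟨b, rfl⟩ := hbij.2 x
    exact Ideal.mem_map_of_mem _ ((IsLocalRing.mem_maximalIdeal b).2 fun hu => (IsLocalRing.mem_maximalIdeal _).1 hx (hu.map _))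
  refine ⟨EtRamH7.weakly_trans B (W.comap (algebraMap L F)) W hwB hw', ?_⟩
  haveI : FiniteDimensional L F := EtRamBC29.finite_of_adjoin (K := K) (L := K') hgen
  haveI : IsScalarTower (W.comap (algebraMap L F)) W F := IsScalarTower.of_algebraMap_eq fun _ => rfl
  haveI : IsDiscreteValuationRing W := EtRamH7.dvr_of_dominates (W.comap (algebraMap L F)) L F
    ((algebraMap L F).comp (W.comap (algebraMap L F)).subtype) rfl W (EtRamH7.dominates_self_comap (algebraMap L F) W)
  haveI : Module.Finite (IsLocalRing.ResidueField (W.comap (algebraMap L F))) (IsLocalRing.ResidueField W) :=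
    (S7132.result (W.comap (algebraMap L F)) W L F
      (fun a b hab => Subtype.ext ((algebraMap L F).injective (congrArg Subtype.val hab)))).1
  haveI : Algebra.IsGeometricallyReduced (IsLocalRing.ResidueField (W.comap (algebraMap L F))) (IsLocalRing.ResidueField W) :=
    EtRamH7.geomRed_canonical hg
  refine EtRamH7.sep_trans B (W.comap (algebraMap L F)) W ⟨fun z => ?_⟩
    (GlobFun18.isSeparable_of_isGeometricallyReduced (k := IsLocalRing.ResidueField (W.comap (algebraMap L F))) (IsLocalRing.ResidueField W))
  obtain ⟨z, rfl⟩ := IsLocalRing.residue_surjective z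
  obtain ⟨b, rfl⟩ := hbij.2 z
  exact isSeparable_algebraMap (IsLocalRing.residue B b)

end Groth.Agent.S9306
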