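import Groth.Statements.S9307
import Groth.Agent.Lib.EtRamBC29.Tame
import Groth.Agent.Lib.EtRamBC29.Dom
import Mathlib.FieldTheory.IsAlgClosed.AlgebraicClosure

set_option autoImplicit false
universe u
open EtRam

namespace Groth.Agent.S9307

open TensorProduct in
/-- Let A → B be an injective local homomorphism of discrete valuation rings with fraction fields K ⊆ L,
and let K' be a finite separable extension of K that is tamely ramified relative to A. Then every
field F onto which K' ⊗_K L surjects is, as an extension of L, tamely ramified relative to B. (The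
published statement also records that K' ⊗_K L is a finite product of fields, whose factors are
these F; this row does not state that part.) -/
theorem result (A B K L K' : Type u) [CommRing A] [IsDomain A]
    [IsDiscreteValuationRing A] [CommRing B] [IsDomain B] [IsDiscreteValuationRing B] [Algebra A B]
    [IsLocalHom (algebraMap A B)] (hinj : Function.Injective (algebraMap A B))
    [Field K] [Field L] [Field K'] [Algebra A K] [IsFractionRing A K] [Algebra B L] [IsFractionRing B L]
    [Algebra K L] [Algebra A L] [IsScalarTower A K L] [IsScalarTower A B L]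
    [Algebra K K'] [FiniteDimensional K K'] [Algebra.IsSeparable K K']
    (h : EtRam.IsTamelyRamified A ((algebraMap K K').comp (algebraMap A K)))
    (F : Type u) [Field F] [Algebra (K' ⊗[K] L) F] (hF : Function.Surjective (algebraMap (K' ⊗[K] L) F)) :
    EtRam.IsTamelyRamified B ((algebraMap (K' ⊗[K] L) F).comp
      ((Algebra.TensorProduct.includeRight : L →ₐ[K] K' ⊗[K] L).toRingHom.comp (algebraMap B L))) := by
  classical
  set ι := algebraMap (K' ⊗[K] L) F
  letI : Algebra K' F := (ι.comp (Algebra.TensorProduct.includeLeft (R := K) (S := K) (A := K') (B := L)).toRingHom).toAlgebra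
  letI : Algebra L F := (ι.comp (Algebra.TensorProduct.includeRight : L →ₐ[K] K' ⊗[K] L).toRingHom).toAlgebra
  letI : Algebra K F := ((algebraMap K' F).comp (algebraMap K K')).toAlgebra
  haveI : IsScalarTower K K' F := IsScalarTower.of_algebraMap_eq fun _ => rfl
  haveI : IsScalarTower K L F := IsScalarTower.of_algebraMap_eq fun c => by
    exact congrArg ι (((Algebra.TensorProduct.includeLeft (R := K) (S := K) (A := K') (B := L)).commutes c).trans
      ((Algebra.TensorProduct.includeRight : L →ₐ[K] K' ⊗[K] L).commutes c).symm)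
  have hgen : Algebra.adjoin K' (Set.range (algebraMap L F)) = ⊤ := by
    refine top_le_iff.1 fun z hz => ?_
    clear hz
    obtain ⟨w, rfl⟩ := hF z
    induction w using TensorProduct.induction_on with
    | zero => rw [map_zero]; exact zero_mem _
    | add a b ha hb => rw [map_add]; exact add_mem ha hb
    | tmul a b =>
      rw [show a ⊗ₜ[K] b = (a ⊗ₜ 1) * (1 ⊗ₜ b) by simp, map_mul]
      exact mul_mem (Subalgebra.algebraMap_mem _ a) (Algebra.subset_adjoin ⟨b, rfl⟩)
  haveI : FiniteDimensional L F := EtRamBC29.finite_of_adjoin (K := K) (L := K') hgen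
  show EtRam.IsTamelyRamified B ((algebraMap L F).comp (algebraMap B L))
  intro W hW
  letI : Algebra B W := (RingHom.codRestrict _ W hW.1).toAlgebra
  intro _
  haveI := EtRamH7.dvr_of_dominates B L F _ rfl _ hW
  -- the place of `K'`
  have hcA : ∀ a : A, algebraMap K' F (algebraMap K K' (algebraMap A K a)) = algebraMap L F (algebraMap B L (algebraMap A B a)) := fun a => by
    rw [← IsScalarTower.algebraMap_apply K K' F, ← IsScalarTower.algebraMap_apply A B L,
      IsScalarTower.algebraMap_apply A K L, ← IsScalarTower.algebraMap_apply K L F]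
  have hAW : EtRam.Dominates A ((algebraMap K' F).comp ((algebraMap K K').comp (algebraMap A K))) W := by
    refine ⟨fun a => ?_, fun a ha => ?_⟩
    · show algebraMap K' F (algebraMap K K' (algebraMap A K a)) ∈ W
      rw [hcA]; exact hW.1 _
    · show W.valuation (algebraMap K' F (algebraMap K K' (algebraMap A K a))) < 1
      rw [hcA]
      exact hW.2 _ (((IsLocalRing.local_hom_TFAE (algebraMap A B)).out 0 2 rfl rfl).1 inferInstance
        (Ideal.mem_map_of_mem _ ha))
  have hV := EtRamH7.dominates_comap (algebraMap K' F) hAW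
  letI : Algebra A K' := ((algebraMap K K').comp (algebraMap A K)).toAlgebra
  haveI : IsScalarTower A K K' := IsScalarTower.of_algebraMap_eq fun _ => rfl
  haveI := EtRamH7.dvr_of_dominates A K K' _ rfl _ hV
  letI : Algebra A (W.comap (algebraMap K' F)) := (RingHom.codRestrict _ _ hV.1).toAlgebra
  haveI : IsLocalHom (algebraMap A (W.comap (algebraMap K' F))) := EtRamH7.isLocalHom_cod hV
  haveI : IsScalarTower A (W.comap (algebraMap K' F)) K' := IsScalarTower.of_algebraMap_eq fun _ => rfl
  obtain ⟨hs, htm⟩ := @h _ hV (inferInstance : IsLocalHom (algebraMap A (W.comap (algebraMap K' F))))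
  have hinjV := EtRamH7.injective_cod A K K' _ rfl _ hV.1
  set eV := Ideal.ramificationIdx' (IsLocalRing.maximalIdeal A) (IsLocalRing.maximalIdeal (W.comap (algebraMap K' F))) with heV
  have heV0 : eV ≠ 0 := by
    intro h0
    have hm := EtRamH7.map_maximalIdeal_eq_pow A (W.comap (algebraMap K' F)) hinjV
    rw [← heV, h0, pow_zero, Ideal.one_eq_top] at hm
    exact (IsLocalRing.maximalIdeal.isMaximal _).ne_top (top_le_iff.1 (hm ▸
      (((IsLocalRing.local_hom_TFAE (algebraMap A (W.comap (algebraMap K' F)))).out 0 2 rfl rfl).1 inferInstance)))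
  have heVk : (eV : IsLocalRing.ResidueField A) ≠ 0 := by
    obtain ⟨q, hq⟩ := CharP.exists (IsLocalRing.ResidueField A)
    rcases CharP.char_is_prime_or_zero (IsLocalRing.ResidueField A) q with hp | rfl
    · exact fun h0 => htm q hp hq ((CharP.cast_eq_zero_iff (IsLocalRing.ResidueField A) q eV).1 h0)
    · exact fun h0 => heV0 ((CharP.cast_eq_zero_iff (IsLocalRing.ResidueField A) 0 eV).1 h0 |> zero_dvd_iff.1)
  have he : 0 < eV := Nat.pos_of_ne_zero heV0
  -- adjoin a root of a uniformiser of `B`
  obtain ⟨ρ, hρ⟩ := IsDiscreteValuationRing.exists_irreducible B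
  obtain ⟨idom, idvr, hinjB', hlocB', hmapB', hsepB'⟩ := EtRamBC29.exists_root_dvr ρ hρ eV he
  haveI := idom
  haveI := idvr
  haveI := hlocB'
  let B' := AdjoinRoot (Polynomial.X ^ eV - Polynomial.C ρ : Polynomial B)
  let Ω := AlgebraicClosure F
  obtain ⟨x, hx⟩ := IsAlgClosed.exists_pow_nat_eq (algebraMap F Ω (algebraMap L F (algebraMap B L ρ))) he
  have hxint : IsIntegral F x := ⟨Polynomial.X ^ eV - Polynomial.C (algebraMap L F (algebraMap B L ρ)),
    Polynomial.monic_X_pow_sub_C _ heV0, by simp [hx]⟩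
  let F₁ := IntermediateField.adjoin F ({x} : Set Ω)
  haveI : FiniteDimensional F F₁ := IntermediateField.adjoin.finiteDimensional hxint
  let x' : F₁ := ⟨x, IntermediateField.mem_adjoin_simple_self F x⟩
  letI : Algebra L F₁ := ((algebraMap F F₁).comp (algebraMap L F)).toAlgebra
  letI : Algebra K' F₁ := ((algebraMap F F₁).comp (algebraMap K' F)).toAlgebra
  letI : Algebra K F₁ := ((algebraMap F F₁).comp (algebraMap K F)).toAlgebra
  haveI : IsScalarTower L F F₁ := IsScalarTower.of_algebraMap_eq fun _ => rfl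
  haveI : IsScalarTower K' F F₁ := IsScalarTower.of_algebraMap_eq fun _ => rfl
  haveI : IsScalarTower K K' F₁ := IsScalarTower.of_algebraMap_eq fun c =>
    congrArg (algebraMap F F₁) (IsScalarTower.algebraMap_apply K K' F c)
  haveI : FiniteDimensional L F₁ := Module.Finite.trans F F₁
  have hx' : x' ^ eV = algebraMap L F₁ (algebraMap B L ρ) := Subtype.ext hx
  have hjB : (Polynomial.X ^ eV - Polynomial.C ρ : Polynomial B).eval₂ ((algebraMap L F₁).comp (algebraMap B L)) x' = 0 := by
    simp [hx']
  let jB : B' →+* F₁ := AdjoinRoot.lift ((algebraMap L F₁).comp (algebraMap B L)) x' hjB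
  have hjof : ∀ b : B, jB (algebraMap B B' b) = algebraMap L F₁ (algebraMap B L b) := fun b =>
    AdjoinRoot.lift_of (f := Polynomial.X ^ eV - Polynomial.C ρ) hjB
  have hρ0 : algebraMap L F₁ (algebraMap B L ρ) ≠ 0 := fun h0 =>
    hρ.ne_zero (IsFractionRing.injective B L (((map_eq_zero _).1 h0).trans (map_zero _).symm))
  have hjinj : Function.Injective jB := by
    rw [RingHom.injective_iff_ker_eq_bot]
    haveI : (RingHom.ker jB).IsPrime := RingHom.ker_isPrime _
    haveI : Module.Finite B B' := (Polynomial.monic_X_pow_sub_C ρ heV0).finite_adjoinRoot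
    haveI : Algebra.IsIntegral B B' := Algebra.IsIntegral.of_finite B B'
    refine Ideal.eq_bot_of_comap_eq_bot (R := B) (eq_bot_iff.2 fun b hb => ?_)
    have h0 : algebraMap L F₁ (algebraMap B L b) = 0 := by rw [← hjof]; exact hb
    exact IsFractionRing.injective B L (((map_eq_zero _).1 h0).trans (map_zero _).symm)
  let L₁ := FractionRing B'
  let jL : L₁ →+* F₁ := IsFractionRing.lift hjinj
  letI : Algebra L₁ F₁ := jL.toAlgebra
  have hjL : ∀ w : B', algebraMap L₁ F₁ (algebraMap B' L₁ w) = jB w := fun w => IsFractionRing.lift_algebraMap hjinj w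
  have hinjBL : Function.Injective ((algebraMap B' L₁).comp (algebraMap B B')) :=
    (IsFractionRing.injective B' L₁).comp hinjB'
  letI : Algebra L L₁ := (IsFractionRing.lift hinjBL).toAlgebra
  haveI hTL : IsScalarTower L L₁ F₁ := IsScalarTower.of_algebraMap_eq' (by
    refine IsLocalization.ringHom_ext (nonZeroDivisors B) (RingHom.ext fun b => ?_)
    show algebraMap L F₁ (algebraMap B L b) = algebraMap L₁ F₁ (algebraMap L L₁ (algebraMap B L b))
    rw [show algebraMap L L₁ (algebraMap B L b) = algebraMap B' L₁ (algebraMap B B' b) from IsFractionRing.lift_algebraMap hinjBL b,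
      hjL, hjof])
  letI : Algebra K L₁ := ((algebraMap L L₁).comp (algebraMap K L)).toAlgebra
  haveI : IsScalarTower K L₁ F₁ := IsScalarTower.of_algebraMap_eq fun c => by
    show algebraMap F F₁ (algebraMap K F c) = algebraMap L₁ F₁ (algebraMap L L₁ (algebraMap K L c))
    rw [← IsScalarTower.algebraMap_apply L L₁ F₁, IsScalarTower.algebraMap_apply K L F]
    rfl
  have hgen₁ : Algebra.adjoin K' (Set.range (algebraMap L₁ F₁)) = ⊤ := by
    let G := Algebra.adjoin K' (Set.range (algebraMap L₁ F₁))
    have hF' : ∀ y : F, algebraMap F F₁ y ∈ G := by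
      intro y
      have hy : y ∈ Algebra.adjoin K' (Set.range (algebraMap L F)) := by rw [hgen]; trivial
      induction hy using Algebra.adjoin_induction with
      | mem z hz =>
        obtain ⟨z, rfl⟩ := hz
        exact Algebra.subset_adjoin ⟨algebraMap L L₁ z, (IsScalarTower.algebraMap_apply L L₁ F₁ z).symm⟩
      | algebraMap z => rw [← IsScalarTower.algebraMap_apply]; exact G.algebraMap_mem _
      | add a b _ _ ha hb => rw [map_add]; exact add_mem ha hb
      | mul a b _ _ ha hb => rw [map_mul]; exact mul_mem ha hb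
    let G' : Subalgebra F F₁ := { G.toSubsemiring with algebraMap_mem' := hF' }
    refine top_le_iff.1 fun y _ => ?_
    have hpb := (IntermediateField.adjoin.powerBasis hxint).adjoin_gen_eq_top
    have hle : Algebra.adjoin F {(IntermediateField.adjoin.powerBasis hxint).gen} ≤ G' := by
      rw [Algebra.adjoin_le_iff, Set.singleton_subset_iff]
      exact Algebra.subset_adjoin ⟨algebraMap B' L₁ (AdjoinRoot.root _),
        (hjL _).trans (AdjoinRoot.lift_root (f := Polynomial.X ^ eV - Polynomial.C ρ) hjB)⟩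
    exact hle (by rw [hpb]; trivial)
  haveI : FiniteDimensional L₁ F₁ := EtRamBC29.finite_of_adjoin (K := K) (L := K') hgen₁
  obtain ⟨W₁, hW₁⟩ := EtRamH7.exists_comap_eq (algebraMap F F₁) W
  subst hW₁
  have hBW₁ : EtRam.Dominates B ((algebraMap L F₁).comp (algebraMap B L)) W₁ :=
    EtRamH7.dominates_trans hW (algebraMap F F₁) (EtRamH7.dominates_self_comap _ W₁)
  have hB'W₁ : EtRam.Dominates B' jB W₁ :=
    EtRamBC29.root_dominates ((algebraMap L F₁).comp (algebraMap B L)) ρ hρ hρ0 eV he jB hjof W₁ hBW₁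
  have hW1 : EtRam.Dominates B' (algebraMap B' L₁) (W₁.comap (algebraMap L₁ F₁)) := by
    refine EtRamH7.dominates_comap _ ?_
    have hc : (algebraMap L₁ F₁).comp (algebraMap B' L₁) = jB := RingHom.ext hjL
    rw [hc]; exact hB'W₁
  letI : Algebra B' (W₁.comap (algebraMap L₁ F₁)) := (RingHom.codRestrict (algebraMap B' L₁) _ hW1.1).toAlgebra
  haveI : IsLocalHom (algebraMap B' (W₁.comap (algebraMap L₁ F₁))) := EtRamH7.isLocalHom_cod hW1
  have hbij : Function.Bijective (algebraMap B' (W₁.comap (algebraMap L₁ F₁))) :=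
    ⟨fun a b hab => IsFractionRing.injective B' L₁ (congrArg Subtype.val hab), EtRamBC29.surjective_cod _ hW1⟩
  haveI hdvr : IsDiscreteValuationRing (W₁.comap (algebraMap L₁ F₁)) :=
    IsDiscreteValuationRing.RingEquivClass.isDiscreteValuationRing (RingEquiv.ofBijective _ hbij)
  obtain ⟨hwB', hsB'⟩ := EtRamBC29.weakly_of_bijective hbij
  haveI : IsLocalHom (algebraMap A B') := by
    rw [IsScalarTower.algebraMap_eq A B B']
    exact RingHom.isLocalHom_comp (algebraMap B B') (algebraMap A B)
  have hA1 : ∀ a : A, algebraMap K L₁ (algebraMap A K a) = algebraMap B' L₁ (algebraMap A B' a) := fun a => by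
    show algebraMap L L₁ (algebraMap K L (algebraMap A K a)) = _
    rw [← IsScalarTower.algebraMap_apply A K L, IsScalarTower.algebraMap_apply A B L]
    rw [IsScalarTower.algebraMap_apply A B B']
    exact IsFractionRing.lift_algebraMap hinjBL _
  have hA1mem : ∀ a : A, algebraMap K L₁ (algebraMap A K a) ∈ W₁.comap (algebraMap L₁ F₁) := fun a => by
    rw [hA1]; exact hW1.1 _
  haveI := hs
  have hV₁ : W₁.comap (algebraMap K' F₁) = (W₁.comap (algebraMap F F₁)).comap (algebraMap K' F) := by
    rw [ValuationSubring.comap_comap, ← IsScalarTower.algebraMap_eq]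
  have hWdom : EtRam.Dominates ((W₁.comap (algebraMap F F₁)).comap (algebraMap K' F))
      ((algebraMap K' F₁).comp (algebraMap ((W₁.comap (algebraMap F F₁)).comap (algebraMap K' F)) K')) W₁ :=
    hV₁ ▸ EtRamH7.dominates_self_comap (algebraMap K' F₁) W₁
  have hab := EtRamBC29.abhyankar_finite A ((W₁.comap (algebraMap F F₁)).comap (algebraMap K' F)) K K' hinjV heVk
    L₁ F₁ hgen₁ W₁ hWdom hdvr hA1mem
  letI : Algebra A (W₁.comap (algebraMap L₁ F₁)) :=
    (RingHom.codRestrict ((algebraMap K L₁).comp (algebraMap A K)) _ hA1mem).toAlgebra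
  haveI : IsScalarTower A B' (W₁.comap (algebraMap L₁ F₁)) := IsScalarTower.of_algebraMap_eq fun a => Subtype.ext (hA1 a)
  haveI : IsLocalHom (algebraMap A (W₁.comap (algebraMap L₁ F₁))) := by
    rw [IsScalarTower.algebraMap_eq A B' (W₁.comap (algebraMap L₁ F₁))]
    exact RingHom.isLocalHom_comp _ _
  have hinjAB' : Function.Injective (algebraMap A B') := by
    rw [IsScalarTower.algebraMap_eq A B B']; exact hinjB'.comp hinj
  have heB' : Ideal.ramificationIdx' (IsLocalRing.maximalIdeal B) (IsLocalRing.maximalIdeal B') = eV :=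
    (EtRamBC29.pow_inj_maximalIdeal (hmapB'.symm.trans (EtRamH7.map_maximalIdeal_eq_pow B B' hinjB'))).symm
  obtain ⟨hw', hg⟩ := hab (by
    show eV ∣ _
    rw [EtRamH7.ramificationIdx'_mul A B' (W₁.comap (algebraMap L₁ F₁)) hinjAB' hbij.1,
      (EtRamH7.weaklyUnramified_iff B' (W₁.comap (algebraMap L₁ F₁)) hbij.1).1 hwB', mul_one,
      EtRamH7.ramificationIdx'_mul A B B' hinj hinjB', heB']
    exact dvd_mul_left _ _)
  letI : Algebra (W₁.comap (algebraMap L₁ F₁)) W₁ := (EtRam.inclOfComap W₁ (algebraMap L₁ F₁)).toAlgebra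
  haveI : IsLocalHom (algebraMap (W₁.comap (algebraMap L₁ F₁)) W₁) := EtRam.isLocalHom_inclOfComap _ _
  letI : Algebra B' W₁ := (RingHom.codRestrict jB W₁ hB'W₁.1).toAlgebra
  haveI : IsLocalHom (algebraMap B' W₁) := EtRamH7.isLocalHom_cod hB'W₁
  haveI : IsScalarTower B' (W₁.comap (algebraMap L₁ F₁)) W₁ := IsScalarTower.of_algebraMap_eq fun w => Subtype.ext (hjL w).symm
  haveI : IsScalarTower (W₁.comap (algebraMap L₁ F₁)) W₁ F₁ := IsScalarTower.of_algebraMap_eq fun _ => rfl
  haveI : IsDiscreteValuationRing W₁ := EtRamH7.dvr_of_dominates (W₁.comap (algebraMap L₁ F₁)) L₁ F₁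
    ((algebraMap L₁ F₁).comp (W₁.comap (algebraMap L₁ F₁)).subtype) rfl W₁ (EtRamH7.dominates_self_comap (algebraMap L₁ F₁) W₁)
  have hinjW₁ : Function.Injective (algebraMap (W₁.comap (algebraMap L₁ F₁)) W₁) :=
    fun a b hab => Subtype.ext ((algebraMap L₁ F₁).injective (congrArg Subtype.val hab))
  haveI : Module.Finite (IsLocalRing.ResidueField (W₁.comap (algebraMap L₁ F₁))) (IsLocalRing.ResidueField W₁) :=
    (S7132.result (W₁.comap (algebraMap L₁ F₁)) W₁ L₁ F₁ hinjW₁).1
  haveI : Algebra.IsGeometricallyReduced (IsLocalRing.ResidueField (W₁.comap (algebraMap L₁ F₁))) (IsLocalRing.ResidueField W₁) :=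
    EtRamH7.geomRed_canonical hg
  letI : Algebra B W₁ := (RingHom.codRestrict _ W₁ hBW₁.1).toAlgebra
  haveI : IsLocalHom (algebraMap B W₁) := EtRamH7.isLocalHom_cod hBW₁
  haveI : IsScalarTower B B' W₁ := IsScalarTower.of_algebraMap_eq fun b => Subtype.ext (hjof b).symm
  letI : Algebra (W₁.comap (algebraMap F F₁)) W₁ := (EtRam.inclOfComap W₁ (algebraMap F F₁)).toAlgebra
  haveI : IsLocalHom (algebraMap (W₁.comap (algebraMap F F₁)) W₁) := EtRam.isLocalHom_inclOfComap _ _
  haveI : IsScalarTower B (W₁.comap (algebraMap F F₁)) W₁ := IsScalarTower.of_algebraMap_eq fun _ => rfl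
  have hsW₁ : Algebra.IsSeparable (IsLocalRing.ResidueField B) (IsLocalRing.ResidueField W₁) :=
    EtRamH7.sep_trans B B' W₁ hsepB' (EtRamH7.sep_trans B' (W₁.comap (algebraMap L₁ F₁)) W₁ hsB'
      (GlobFun18.isSeparable_of_isGeometricallyReduced (k := IsLocalRing.ResidueField (W₁.comap (algebraMap L₁ F₁))) (IsLocalRing.ResidueField W₁)))
  have hinjB'W₁ : Function.Injective (algebraMap B' W₁) := fun a b hab => hjinj (congrArg Subtype.val hab)
  have hinjBW : Function.Injective (algebraMap B (W₁.comap (algebraMap F F₁))) := fun a b hab =>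
    IsFractionRing.injective B L ((algebraMap L F).injective (congrArg Subtype.val hab))
  refine ⟨EtRamH7.sep_bot B (W₁.comap (algebraMap F F₁)) W₁ hsW₁, fun p hp hc hdvd => ?_⟩
  have hd : p ∣ Ideal.ramificationIdx' (IsLocalRing.maximalIdeal B) (IsLocalRing.maximalIdeal W₁) := by
    rw [EtRamH7.ramificationIdx'_mul B (W₁.comap (algebraMap F F₁)) W₁ hinjBW
      (fun a b hab => Subtype.ext ((algebraMap F F₁).injective (congrArg Subtype.val hab)))]
    exact hdvd.mul_right _
  rw [EtRamH7.ramificationIdx'_mul B B' W₁ hinjB' hinjB'W₁, heB',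
    (EtRamH7.weaklyUnramified_iff B' W₁ hinjB'W₁).1 (EtRamH7.weakly_trans B' (W₁.comap (algebraMap L₁ F₁)) W₁ hwB' hw'),
    mul_one] at hd
  exact htm p hp ((Algebra.charP_iff (IsLocalRing.ResidueField A) (IsLocalRing.ResidueField B) p).2 hc) hd

end Groth.Agent.S9307
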