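import Groth.Statements.S9308
import Mathlib
import Groth.Agent.Lib.ColimRegH1.Basic
import Groth.Agent.Lib.SmoothReg17.Basic

set_option autoImplicit false
universe u
open CAlg

namespace Groth.Agent.S9308

open TensorProduct

variable {R : Type u} [CommRing R] {ι : Type u} [Preorder ι] [IsDirectedOrder ι] [Nonempty ι]
  {G : ι → Type u} [∀ i, CommRing (G i)] [∀ i, Algebra R (G i)]
  (f : ∀ i j : ι, i ≤ j → (G i →ₐ[R] G j)) [DirectedSystem G (fun i j h => f i j h)]

theorem of_comp {i j : ι} (h : i ≤ j) : (DirectLimit.Algebra.of G f j).toLinearMap ∘ₗ (f i j h).toLinearMap =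
    (DirectLimit.Algebra.of G f i).toLinearMap :=
  LinearMap.ext fun _ => DirectLimit.Algebra.of_f _ _

theorem exists_lTensor (M : Type u) [AddCommGroup M] [Module R M] (z : M ⊗[R] DirectLimit G f) :
    ∃ i w, (DirectLimit.Algebra.of G f i).toLinearMap.lTensor M w = z := by
  induction z using TensorProduct.induction_on with
  | zero => exact ⟨Classical.arbitrary ι, 0, map_zero _⟩
  | tmul m a =>
    induction a using DirectLimit.induction with
    | _ i x => exact ⟨i, m ⊗ₜ x, rfl⟩
  | add x y hx hy =>
    obtain ⟨i, a, rfl⟩ := hx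
    obtain ⟨j, b, rfl⟩ := hy
    obtain ⟨k, h1, h2⟩ := exists_ge_ge i j
    refine ⟨k, (f i k h1).toLinearMap.lTensor M a + (f j k h2).toLinearMap.lTensor M b, ?_⟩
    rw [map_add, ← LinearMap.lTensor_comp_apply, ← LinearMap.lTensor_comp_apply]
    rw [of_comp f h1, of_comp f h2]

theorem exists_lTensor_eq_zero (M : Type u) [AddCommGroup M] [Module R M] {i : ι} (w : M ⊗[R] G i)
    (hw : (DirectLimit.Algebra.of G f i).toLinearMap.lTensor M w = 0) :
    ∃ j h, (f i j h).toLinearMap.lTensor M w = 0 := by
  classical
  let f' : ∀ i j, i ≤ j → G i →ₗ[R] G j := fun i j h => (f i j h).toLinearMap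
  haveI : DirectedSystem G (fun i j h => f' i j h) := inferInstanceAs (DirectedSystem G fun i j h => f i j h)
  let L : DirectLimit G f →ₗ[R] Module.DirectLimit G f' :=
    { toFun := _root_.DirectLimit.lift f (fun i => Module.DirectLimit.of R ι G f' i)
        (fun i j h x => (Module.DirectLimit.of_f (f := f')).symm)
      map_add' := fun a b => by
        induction a, b using DirectLimit.induction₂ with
        | _ i x y => rw [DirectLimit.add_def]; exact map_add _ _ _
      map_smul' := fun r a => by
        induction a using DirectLimit.induction with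
        | _ i x => rw [DirectLimit.smul_def]; exact map_smul _ _ _ }
  have h1 : (Module.DirectLimit.of R ι G f' i).lTensor M w = 0 := by
    have := congrArg (L.lTensor M) hw
    rw [← LinearMap.lTensor_comp_apply, map_zero] at this
    exact this
  have h2 : Module.DirectLimit.of R ι (fun i => M ⊗[R] G i) (fun i j h => (f' i j h).lTensor M) i w = 0 := by
    have h3 : ∀ v, TensorProduct.directLimitRight f' M ((Module.DirectLimit.of R ι G f' i).lTensor M v) =
        Module.DirectLimit.of R ι (fun i => M ⊗[R] G i) (fun i j h => (f' i j h).lTensor M) i v := fun v => by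
      induction v using TensorProduct.induction_on with
      | zero => simp
      | tmul m x => simp
      | add a b ha hb => simp [ha, hb]
    rw [← h3, h1, map_zero]
  exact Module.DirectLimit.of.zero_exact h2

theorem flat_directLimit (hflat : ∀ i, Module.Flat R (G i)) : Module.Flat R (DirectLimit G f) := by
  rw [Module.Flat.iff_rTensor_injective']
  intro I
  rw [injective_iff_map_eq_zero]
  intro z hz
  obtain ⟨i, w, rfl⟩ := exists_lTensor f I z
  have h0 : (DirectLimit.Algebra.of G f i).toLinearMap.lTensor R (I.subtype.rTensor (G i) w) = 0 := by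
    rw [← LinearMap.comp_apply, LinearMap.lTensor_comp_rTensor, ← LinearMap.rTensor_comp_lTensor]
    exact hz
  obtain ⟨j, h, hj⟩ := exists_lTensor_eq_zero f R _ h0
  rw [← LinearMap.comp_apply, LinearMap.lTensor_comp_rTensor, ← LinearMap.rTensor_comp_lTensor,
    LinearMap.comp_apply] at hj
  haveI := hflat j
  have hj' := Module.Flat.rTensor_preserves_injective_linearMap (M := G j) I.subtype
    (Submodule.injective_subtype I) (hj.trans (map_zero _).symm)
  rw [← of_comp f h, LinearMap.lTensor_comp_apply, hj', map_zero]



/-- Let R be a ring and (A_i, φ_ii') a directed system of smooth R-algebras with colimit Λ (the index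
type is taken in the universe of the rings). Suppose that for every prime p of R the ring Λ ⊗_R κ(p)
is Noetherian. Then R → Λ is a regular ring map. -/
theorem result (R : Type u) [CommRing R] {ι : Type u} [Preorder ι]
    [IsDirectedOrder ι] [Nonempty ι] (G : ι → Type u) [∀ i, CommRing (G i)] [∀ i, Algebra R (G i)]
    (f : ∀ i j : ι, i ≤ j → (G i →ₐ[R] G j)) [DirectedSystem G (fun i j h => f i j h)]
    (hs : ∀ i, Algebra.Smooth R (G i))
    (hN : ∀ (p : Ideal R) [p.IsPrime], IsNoetherianRing (p.Fiber (DirectLimit G f))) :
    CAlg.IsRegularHom R (DirectLimit G f) := by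
  haveI : ∀ i, Algebra.FormallySmooth R (G i) := fun i => (hs i).formallySmooth
  refine ⟨flat_directLimit f fun i => (haveI := hs i; inferInstance), fun p _ => ⟨hN p, ?_⟩⟩
  intro k' _ _ hk
  haveI := hN p
  haveI := hk
  letI : Algebra R k' := ((algebraMap p.ResidueField k').comp (algebraMap R p.ResidueField)).toAlgebra
  haveI : IsScalarTower R p.ResidueField k' := .of_algebraMap_eq fun _ => rfl
  haveI : IsNoetherianRing (k' ⊗[p.ResidueField] p.Fiber (DirectLimit G f)) :=
    @isNoetherianRing_of_ringEquiv _ _ _ _
      (Algebra.TensorProduct.comm p.ResidueField (p.Fiber (DirectLimit G f)) k').toRingEquiv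
      (Algebra.FiniteType.isNoetherianRing (p.Fiber (DirectLimit G f))
        (p.Fiber (DirectLimit G f) ⊗[p.ResidueField] k'))
  let e : k' ⊗[p.ResidueField] p.Fiber (DirectLimit G f) ≃+* k' ⊗[R] DirectLimit G f :=
    (Algebra.TensorProduct.cancelBaseChange R p.ResidueField k' k' (DirectLimit G f)).toRingEquiv
  haveI : IsNoetherianRing (k' ⊗[R] DirectLimit G f) :=
    isNoetherianRing_of_ringEquiv (k' ⊗[p.ResidueField] p.Fiber (DirectLimit G f)) e
  haveI : IsRegularRing (k' ⊗[R] DirectLimit G f) := by
    refine ColimRegH1.isRegularRing_of_approx (fun i => k' ⊗[R] G i)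
      (fun i j h => (Algebra.TensorProduct.map (AlgHom.id R k') (f i j h)).toRingHom)
      (fun i => (Algebra.TensorProduct.map (AlgHom.id R k') (DirectLimit.Algebra.of G f i)).toRingHom)
      ?_ (fun z => exists_lTensor f k' z) (fun i w hw => exists_lTensor_eq_zero f k' w hw) ?_
    · intro i j h x
      show (DirectLimit.Algebra.of G f j).toLinearMap.lTensor k' ((f i j h).toLinearMap.lTensor k' x) =
        (DirectLimit.Algebra.of G f i).toLinearMap.lTensor k' x
      rw [← LinearMap.lTensor_comp_apply]
      rw [of_comp f h]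
    · intro i
      haveI := hs i
      haveI : IsNoetherianRing (k' ⊗[R] G i) := Algebra.FiniteType.isNoetherianRing k' _
      rw [isRegularRing_iff]
      intro q _
      exact SmoothReg17.isRegularLocalRing_of_smooth (algebraMap k' (k' ⊗[R] G i))
        (RingHom.smooth_algebraMap.2 inferInstance) q
  exact IsRegularRing.of_ringEquiv e.symm

end Groth.Agent.S9308
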