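import Groth.Statements.S9309
import Groth.Agent.Lib.HensColimH7.GRings

set_option autoImplicit false
universe u
open CAlg

namespace Groth.Agent.S9309

/-- Every henselian local ring A is the colimit of a directed system of henselian local G-rings whose
transition maps are local homomorphisms; that is, there is such a system whose direct limit is
isomorphic to A. -/
theorem result (A : Type u) [CommRing A]
    [HenselianLocalRing A] :
    ∃ (ι : Type u) (_ : Preorder ι) (_ : IsDirectedOrder ι) (_ : Nonempty ι) (G : ι → Type u)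
      (_ : ∀ i, CommRing (G i)) (f : ∀ i j : ι, i ≤ j → (G i →+* G j))
      (_ : DirectedSystem G (fun i j h => f i j h)),
      (∀ i, HenselianLocalRing (G i) ∧ CAlg.IsGRing (G i)) ∧
      (∀ (i j : ι) (h : i ≤ j), IsLocalHom (f i j h)) ∧
      Nonempty (A ≃+* DirectLimit G f) := by
  classical
  obtain ⟨S, hm, hmem, hS⟩ := Groth.Agent.HensColimH7.exists_subrings A
  let f : ∀ i j : Finset A, i ≤ j → (↥(S i) →+* ↥(S j)) := fun i j h => Subring.inclusion (hm h)
  haveI : DirectedSystem (fun i => ↥(S i)) (fun i j h => f i j h) :=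
    ⟨fun _ _ => rfl, fun _ _ _ _ _ _ => rfl⟩
  refine ⟨Finset A, inferInstance, inferInstance, inferInstance, fun i => ↥(S i),
    fun i => inferInstance, f, inferInstance, fun i => ⟨(hS i).1, (hS i).2.1⟩, ?_, ?_⟩
  · intro i j h
    refine ⟨fun x hx => ?_⟩
    haveI := (hS i).2.2
    exact isUnit_of_map_unit (S i).subtype x (hx.map (S j).subtype)
  · let L := DirectLimit.Ring.lift (fun i => ↥(S i)) f A (fun i => (S i).subtype) (fun _ _ _ _ => rfl)
    refine ⟨(RingEquiv.ofBijective L ⟨?_, fun a => ?_⟩).symm⟩
    · intro z w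
      induction z, w using DirectLimit.induction₂ with | _ i x y
      intro h
      exact congrArg (fun z => (⟦⟨i, z⟩⟧ : DirectLimit (fun i => ↥(S i)) f)) (Subtype.ext h : x = y)
    · exact ⟨DirectLimit.Ring.of (fun i => ↥(S i)) f {a} ⟨a, hmem a⟩, rfl⟩

end Groth.Agent.S9309
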