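import Groth.Statements.S9311
import Groth.Agent.Lib.SubstBij1.Basic

set_option autoImplicit false
universe u
open CAlg

namespace Groth.Agent.S9311

/-- Let Λ be a Cohen ring (a complete discrete valuation ring whose maximal ideal is generated by a
prime number p), B = Λ[[x_1, ..., x_n]], and y_1, ..., y_n ∈ B with zero constant terms such that p,
y_1, ..., y_n is a regular system of parameters of B (these n + 1 elements generate the maximal
ideal). Then the substitution map Λ[[y_1, ..., y_n]] → B is an isomorphism: f ↦ f(y_1, ..., y_n) is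
a bijection of Λ[[x_1, ..., x_n]] onto itself. (The published statement allows the y_i to have
constant terms in pΛ, the substitution being defined through the (p, x)-adic topology of B; this row
asks the constant terms to vanish, the case in which substitution is defined coefficientwise with no
topology on Λ.) -/
theorem result (Λ : Type u) [CommRing Λ] [IsDomain Λ]
    [IsDiscreteValuationRing Λ] [IsAdicComplete (IsLocalRing.maximalIdeal Λ) Λ] (p : ℕ) (hp : p.Prime)
    (hm : IsLocalRing.maximalIdeal Λ = Ideal.span {(p : Λ)}) (n : ℕ)
    (y : Fin n → MvPowerSeries (Fin n) Λ) (hy0 : ∀ i, MvPowerSeries.constantCoeff (y i) = 0)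
    (hy : Ideal.span (insert (p : MvPowerSeries (Fin n) Λ) (Set.range y)) =
      IsLocalRing.maximalIdeal (MvPowerSeries (Fin n) Λ)) :
    Function.Bijective (MvPowerSeries.subst y : MvPowerSeries (Fin n) Λ → MvPowerSeries (Fin n) Λ) := by
  refine SubstBij1.bijective y hy0 ?_
  let π := IsLocalRing.residue Λ
  let y' : Fin n → MvPowerSeries (Fin n) (IsLocalRing.ResidueField Λ) := fun i => MvPowerSeries.map π (y i)
  have h0 : ∀ i, MvPowerSeries.constantCoeff (y' i) = 0 := fun i => by
    simp [y', MvPowerSeries.constantCoeff_map, hy0]
  have hu : IsUnit (SubstBij1.lin y').det := by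
    refine SubstBij1.isUnit_det_lin y' h0 fun i => ?_
    have hX : (MvPowerSeries.X i : MvPowerSeries (Fin n) Λ) ∈ IsLocalRing.maximalIdeal (MvPowerSeries (Fin n) Λ) := by
      rw [IsLocalRing.mem_maximalIdeal, mem_nonunits_iff, MvPowerSeries.isUnit_iff_constantCoeff, MvPowerSeries.constantCoeff_X]
      exact not_isUnit_zero
    rw [← hy] at hX
    have h1 := Ideal.mem_map_of_mem (MvPowerSeries.map π) hX
    rw [Ideal.map_span, Set.image_insert_eq, ← Set.range_comp, map_natCast,
      show ((p : MvPowerSeries (Fin n) (IsLocalRing.ResidueField Λ))) = MvPowerSeries.C (π (p : Λ)) by simp,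
      show π (p : Λ) = 0 from (IsLocalRing.residue_eq_zero_iff _).2 (hm ▸ Ideal.subset_span rfl), map_zero,
      Ideal.span_insert_zero] at h1
    rw [MvPowerSeries.map_X] at h1
    exact h1
  have e : SubstBij1.lin y' = (SubstBij1.lin y).map π := by
    ext i j
    simp [SubstBij1.lin, y', MvPowerSeries.coeff_map]
  rw [e, show (SubstBij1.lin y).map π = π.mapMatrix (SubstBij1.lin y) from rfl, ← RingHom.map_det] at hu
  exact isUnit_of_map_unit π _ hu

end Groth.Agent.S9311
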