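import Groth.Statements.S9312
import Mathlib

set_option autoImplicit false
universe u
open CAlg

namespace Groth.Agent.S9312

section Aux
open Polynomial
variable (R G : Type u) [CommRing R] [Group G] [Fintype G] [MulSemiringAction G R]

local notation "SS" => FixedPoints.subring R G

noncomputable def lin {ι : Type} [Fintype ι] (r : ι → R) (σ : G) : MvPolynomial ι R :=
  ∑ i, MvPolynomial.C (σ • r i) * MvPolynomial.X i

noncomputable def prodPoly {ι : Type} [Fintype ι] (r : ι → R) : Polynomial (MvPolynomial ι R) :=
  ∏ σ : G, (Polynomial.X - Polynomial.C (lin R G r σ))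

theorem exists_descend {ι : Type} [Fintype ι] (r : ι → R) :
    ∃ Q : Polynomial (MvPolynomial ι SS),
      Q.map (MvPolynomial.map (Subring.subtype SS)) = prodPoly R G r := by
  have hinv : ∀ τ : G,
      (prodPoly R G r).map (MvPolynomial.map (MulSemiringAction.toRingHom G R τ)) = prodPoly R G r := by
    intro τ
    simp only [prodPoly, Polynomial.map_prod, Polynomial.map_sub, Polynomial.map_X, Polynomial.map_C]
    refine Fintype.prod_equiv (Equiv.mulLeft τ) _ _ fun σ => ?_
    simp [lin, mul_smul]
  have hl : prodPoly R G r ∈ Polynomial.lifts (MvPolynomial.map (Subring.subtype SS)) := by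
    rw [Polynomial.lifts_iff_coeff_lifts]
    intro n
    rw [MvPolynomial.mem_range_map_iff_coeffs_subset]
    intro c hc
    rw [Finset.mem_coe, MvPolynomial.mem_coeffs_iff] at hc
    obtain ⟨m, -, rfl⟩ := hc
    refine ⟨⟨_, fun τ => ?_⟩, rfl⟩
    have h := congrArg (fun P => MvPolynomial.coeff m (Polynomial.coeff P n)) (hinv τ)
    simp only [Polynomial.coeff_map, MvPolynomial.coeff_map] at h
    exact h
  exact hl

open scoped TensorProduct in
theorem exists_relations (S : Type u) [CommRing S] (X A : Type u) [AddCommGroup X] [Module S X]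
    [AddCommGroup A] [Module S A] [DecidableEq X] (a : A) (x₀ : X) (ha : a ⊗ₜ[S] x₀ = 0) :
    ∃ (m : ℕ) (c : Fin m → A) (k : Fin m → (X →₀ S)),
      (∀ j, Finsupp.linearCombination S id (k j) = 0) ∧
      ∀ x, ∑ j, k j x • c j = if x = x₀ then a else 0 := by
  classical
  let π : (X →₀ S) →ₗ[S] X := Finsupp.linearCombination S id
  have hπ : Function.Surjective π := fun x => ⟨Finsupp.single x 1, by simp [π]⟩
  have h0 : π.lTensor A (a ⊗ₜ[S] Finsupp.single x₀ (1 : S)) = 0 := by
    rw [LinearMap.lTensor_tmul, ← ha]
    simp [π]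
  obtain ⟨z, hz⟩ := (lTensor_exact (M := LinearMap.ker π) (N := X →₀ S) (P := X) A (LinearMap.exact_subtype_ker_map π) hπ _).1 h0
  obtain ⟨m, c, k, hzk⟩ : ∃ (m : ℕ) (c : Fin m → A) (k : Fin m → LinearMap.ker π),
      z = ∑ j, c j ⊗ₜ[S] k j := by
    clear hz
    induction z using TensorProduct.induction_on with
    | zero => exact ⟨0, Fin.elim0, Fin.elim0, by simp⟩
    | tmul a r => exact ⟨1, fun _ => a, fun _ => r, by simp⟩
    | add x y hx hy =>
      obtain ⟨m, a, r, rfl⟩ := hx
      obtain ⟨m', a', r', rfl⟩ := hy
      exact ⟨m + m', Fin.append a a', Fin.append r r', by simp [Fin.sum_univ_add]⟩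
  refine ⟨m, c, fun j => k j, fun j => (k j).2, fun x => ?_⟩
  have h := congrArg ((TensorProduct.rid S A).toLinearMap ∘ₗ (Finsupp.lapply x : (X →₀ S) →ₗ[S] S).lTensor A) hz
  simp [hzk, map_sum, Finsupp.single_apply] at h
  by_cases hx : x = x₀
  · subst hx; simpa using h
  · simpa [hx, Ne.symm hx] using h

variable (A : Type u) [CommRing A] [Algebra (FixedPoints.subring R G) A]

open scoped TensorProduct in
theorem exists_finrep (b : A ⊗[SS] R) :
    ∃ (m : ℕ) (a : Fin m → A) (r : Fin m → R), b = ∑ i, a i ⊗ₜ[SS] r i := by
  induction b using TensorProduct.induction_on with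
  | zero => exact ⟨0, Fin.elim0, Fin.elim0, by simp⟩
  | tmul a r => exact ⟨1, fun _ => a, fun _ => r, by simp⟩
  | add x y hx hy =>
    obtain ⟨m, a, r, rfl⟩ := hx
    obtain ⟨m', a', r', rfl⟩ := hy
    exact ⟨m + m', Fin.append a a', Fin.append r r', by simp [Fin.sum_univ_add]⟩

open scoped TensorProduct in
theorem part1 (b : A ⊗[SS] R)
    (hb : ∀ σ : G, Algebra.TensorProduct.map (AlgHom.id SS A)
        (MulSemiringAction.toAlgHom SS R σ) b = b) :
    ∃ P : Polynomial A, P.Monic ∧
      Polynomial.map (algebraMap A (A ⊗[SS] R)) P = (Polynomial.X - Polynomial.C b) ^ Fintype.card G := by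
  obtain ⟨m, a, r, hb'⟩ := exists_finrep R G A b
  obtain ⟨Q, hQ⟩ := exists_descend R G r
  have hQm : Q.Monic := by
    apply Polynomial.monic_of_injective
      (MvPolynomial.map_injective (Subring.subtype SS) Subtype.val_injective)
    rw [hQ]
    exact Polynomial.monic_prod_of_monic _ _ fun σ _ => Polynomial.monic_X_sub_C _
  let h : MvPolynomial (Fin m) R →+* A ⊗[SS] R :=
    MvPolynomial.eval₂Hom (Algebra.TensorProduct.includeRight : R →ₐ[SS] A ⊗[SS] R).toRingHom
      (fun i => a i ⊗ₜ[SS] (1 : R))
  refine ⟨Q.map (MvPolynomial.aeval a : MvPolynomial (Fin m) SS →ₐ[SS] A).toRingHom, hQm.map _, ?_⟩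
  have hcomp : (algebraMap A (A ⊗[SS] R)).comp
      (MvPolynomial.aeval a : MvPolynomial (Fin m) SS →ₐ[SS] A).toRingHom =
      h.comp (MvPolynomial.map (Subring.subtype SS)) := by
    refine MvPolynomial.ringHom_ext (fun c => ?_) (fun i => ?_)
    · simp only [RingHom.comp_apply, AlgHom.toRingHom_eq_coe, RingHom.coe_coe, MvPolynomial.aeval_C,
        MvPolynomial.map_C, h, MvPolynomial.eval₂Hom_C]
      rw [← IsScalarTower.algebraMap_apply]
      exact ((Algebra.TensorProduct.includeRight : R →ₐ[SS] A ⊗[SS] R).commutes c).symm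
    · simp [h, Algebra.TensorProduct.algebraMap_apply]
  rw [Polynomial.map_map, hcomp, ← Polynomial.map_map, hQ]
  simp only [prodPoly, Polynomial.map_prod, Polynomial.map_sub, Polynomial.map_X, Polynomial.map_C]
  rw [← Finset.card_univ, ← Finset.prod_const]
  refine Finset.prod_congr rfl fun σ _ => ?_
  congr 2
  conv_rhs => rw [← hb σ, hb']
  simp [lin, h, map_sum]

open scoped TensorProduct in
open scoped TensorProduct in
theorem part2 (a : A) (ha : algebraMap A (A ⊗[SS] R) a = 0) :
    (Polynomial.X - Polynomial.C a) ^ Fintype.card G = Polynomial.X ^ Fintype.card G := by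
  classical
  obtain ⟨m, c, k, hkπ, hcoord⟩ := exists_relations (SS) R A a (1 : R)
    (by rw [← ha, Algebra.TensorProduct.algebraMap_apply]; rfl)
  let s : Finset R := insert 1 (Finset.univ.biUnion fun j => (k j).support)
  let e : Fin s.card ≃ s := s.equivFin.symm
  let r : Fin s.card → R := fun i => e i
  obtain ⟨Q, hQ⟩ := exists_descend R G r
  let i1 : Fin s.card := e.symm ⟨1, Finset.mem_insert_self _ _⟩
  have hinj : Function.Injective
      (Polynomial.map (MvPolynomial.map (Subring.subtype SS)) :
        Polynomial (MvPolynomial (Fin m) SS) → Polynomial (MvPolynomial (Fin m) R)) :=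
    Polynomial.map_injective _
      (MvPolynomial.map_injective (Subring.subtype SS) Subtype.val_injective)
  let subU : MvPolynomial (Fin s.card) SS →+* MvPolynomial (Fin m) SS :=
    MvPolynomial.eval₂Hom MvPolynomial.C
      (fun i => ∑ j, MvPolynomial.C ((k j) (r i)) * MvPolynomial.X j)
  let subU' : MvPolynomial (Fin s.card) R →+* MvPolynomial (Fin m) R :=
    MvPolynomial.eval₂Hom MvPolynomial.C
      (fun i => ∑ j, MvPolynomial.C (((k j) (r i) : SS) : R) * MvPolynomial.X j)
  have hU : Q.map subU = Polynomial.X ^ Fintype.card G := by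
    apply hinj
    have hc : (MvPolynomial.map (Subring.subtype SS)).comp subU =
        subU'.comp (MvPolynomial.map (Subring.subtype SS)) :=
      MvPolynomial.ringHom_ext (fun c => by simp [subU, subU']) (fun i => by simp [subU, subU'])
    rw [Polynomial.map_map, hc, ← Polynomial.map_map, hQ, Polynomial.map_pow, Polynomial.map_X]
    simp only [prodPoly, Polynomial.map_prod, Polynomial.map_sub, Polynomial.map_X, Polynomial.map_C]
    rw [← Finset.card_univ, ← Finset.prod_const]
    refine Finset.prod_congr rfl fun σ _ => ?_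
    have hz0 : subU' (lin R G r σ) = 0 := by
      simp only [lin, subU', map_sum]
      simp only [map_mul, MvPolynomial.eval₂Hom_C, MvPolynomial.eval₂Hom_X']
      simp only [Finset.mul_sum, ← mul_assoc, ← map_mul]
      rw [Finset.sum_comm]
      refine Finset.sum_eq_zero fun j _ => ?_
      rw [← Finset.sum_mul, ← map_sum]
      suffices h : ∑ i, σ • r i * (((k j) (r i) : SS) : R) = 0 by rw [h, map_zero, zero_mul]
      have hk : ∑ i, (((k j) (r i) : SS) : R) * r i = 0 := by
        have h1 := hkπ j
        simp only [Finsupp.linearCombination_apply, id] at h1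
        rw [Finsupp.sum_of_support_subset _ (s := s) (fun x hx => Finset.mem_insert_of_mem
          (Finset.mem_biUnion.2 ⟨j, Finset.mem_univ _, hx⟩)) _ (by simp)] at h1
        rw [← h1, ← Finset.sum_coe_sort s]
        exact Fintype.sum_equiv e _ _ fun i => rfl
      have h2 := congrArg (fun x => σ • x) hk
      simp only [Finset.smul_sum, smul_mul', smul_zero] at h2
      refine Eq.trans (Finset.sum_congr rfl fun i _ => ?_) h2
      rw [((k j) (r i)).2 σ, mul_comm]
    rw [hz0, map_zero, sub_zero]
  let subV : MvPolynomial (Fin s.card) SS →+* Polynomial SS :=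
    MvPolynomial.eval₂Hom Polynomial.C (fun i => if i = i1 then Polynomial.X else 0)
  let subV' : MvPolynomial (Fin s.card) R →+* Polynomial R :=
    MvPolynomial.eval₂Hom Polynomial.C (fun i => if i = i1 then Polynomial.X else 0)
  have hV : Q.map subV = (Polynomial.X - Polynomial.C Polynomial.X) ^ Fintype.card G := by
    apply Polynomial.map_injective (Polynomial.mapRingHom (Subring.subtype SS))
      (Polynomial.map_injective _ Subtype.val_injective)
    have hc : (Polynomial.mapRingHom (Subring.subtype SS)).comp subV =
        subV'.comp (MvPolynomial.map (Subring.subtype SS)) :=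
      MvPolynomial.ringHom_ext (fun c => by simp [subV, subV'])
        (fun i => by by_cases hi : i = i1 <;> simp [subV, subV', hi])
    rw [Polynomial.map_map, hc, ← Polynomial.map_map, hQ]
    simp only [prodPoly, Polynomial.map_prod, Polynomial.map_sub, Polynomial.map_X, Polynomial.map_C,
      Polynomial.map_pow, Polynomial.coe_mapRingHom]
    rw [← Finset.card_univ, ← Finset.prod_const]
    refine Finset.prod_congr rfl fun σ _ => ?_
    have hlin : subV' (lin R G r σ) = Polynomial.X := by
      simp only [lin, subV', map_sum]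
      simp only [map_mul, MvPolynomial.eval₂Hom_C, MvPolynomial.eval₂Hom_X']
      rw [Finset.sum_eq_single i1 (fun i _ hi => by rw [if_neg hi, mul_zero]) (by simp), if_pos rfl]
      simp [r, i1]
    rw [hlin]
  have hf : (Polynomial.eval₂RingHom (algebraMap SS A) a).comp subV =
      (MvPolynomial.eval₂Hom (algebraMap SS A) c).comp subU := by
    refine MvPolynomial.ringHom_ext (fun c => by simp [subV, subU]) fun i => ?_
    simp only [RingHom.comp_apply, subV, subU, MvPolynomial.eval₂Hom_X', map_sum, map_mul,
      MvPolynomial.eval₂Hom_C, ← Algebra.smul_def, hcoord]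
    by_cases hi : i = i1
    · subst hi; simp [r, i1]
    · have : r i ≠ 1 := fun h => hi (e.injective (Subtype.ext (by simpa [r, i1] using h)))
      simp [hi, this]
  have := congrArg (fun f => Q.map f) hf
  simp only [← Polynomial.map_map, hU, hV] at this
  simpa using this

end Aux



/-- Let a finite group G with n elements act on a ring R by ring automorphisms, with invariant ring R^G,
and let A be an algebra over R^G; G acts on A ⊗ R through the factor R. (1) For every G-invariant b
∈ A ⊗ R there is a monic polynomial over A whose image in (A ⊗ R)[T] is (T - b)^n. (2) For every a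
in the kernel of A → A ⊗ R, all coefficients of (T - a)^n below degree n vanish, that is (T - a)^n =
T^n in A[T]. -/
theorem result (R G A : Type u) [CommRing R] [Group G] [Fintype G]
    [MulSemiringAction G R] [CommRing A] [Algebra (FixedPoints.subring R G) A] :
    (∀ b : TensorProduct (FixedPoints.subring R G) A R,
      (∀ σ : G, Algebra.TensorProduct.map (AlgHom.id (FixedPoints.subring R G) A)
        (MulSemiringAction.toAlgHom (FixedPoints.subring R G) R σ) b = b) →
      ∃ P : Polynomial A, P.Monic ∧
        Polynomial.map (algebraMap A (TensorProduct (FixedPoints.subring R G) A R)) P =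
          (Polynomial.X - Polynomial.C b) ^ Fintype.card G) ∧
    (∀ a : A, algebraMap A (TensorProduct (FixedPoints.subring R G) A R) a = 0 →
      ∀ i : ℕ, i < Fintype.card G → ((Polynomial.X - Polynomial.C a) ^ Fintype.card G).coeff i = 0) := by
  refine ⟨fun b hb => part1 R G A b hb, fun a ha i hi => ?_⟩
  rw [part2 R G A a ha, Polynomial.coeff_X_pow, if_neg hi.ne]

end Groth.Agent.S9312
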