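import Groth.Statements.S9313
import Mathlib.RingTheory.ZariskisMainTheorem

set_option autoImplicit false
universe u
open CAlg

namespace Groth.Agent.S9313


/-- Elements of the integral closure multiplying `x` into the integral closure. -/
def cond (A B : Type u) [CommRing A] [CommRing B] [Algebra A B] (x : B) : Ideal (integralClosure A B) where
  carrier := {g | (g : B) * x ∈ integralClosure A B}
  add_mem' {a b} ha hb := by
    show ((a : B) + (b : B)) * x ∈ integralClosure A B
    rw [add_mul]; exact add_mem ha hb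
  zero_mem' := by
    show ((0 : integralClosure A B) : B) * x ∈ integralClosure A B
    rw [ZeroMemClass.coe_zero, zero_mul]; exact zero_mem _
  smul_mem' c {a} ha := by
    show ((c : B) * (a : B)) * x ∈ integralClosure A B
    rw [mul_assoc]; exact mul_mem c.2 ha

/-- Elements `g` of the integral closure with `B'_g = B_g`. -/
def good (A B : Type u) [CommRing A] [CommRing B] [Algebra A B] : Ideal (integralClosure A B) :=
  ⨅ x : B, (cond A B x).radical

theorem mem_good {A B : Type u} [CommRing A] [CommRing B] [Algebra A B] {g : integralClosure A B} :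
    g ∈ good A B ↔ ∀ x : B, ∃ m : ℕ, (g : B) ^ m * x ∈ integralClosure A B := by
  simp only [good, Submodule.mem_iInf]
  exact Iff.rfl

theorem exists_good_notMem (A B : Type u) [CommRing A] [CommRing B] [Algebra A B] [Algebra.FiniteType A B]
    (I : Ideal A) (E : B) (J : Ideal B) [Module.Finite A (B ⧸ J)]
    (hJ : J = I.map (algebraMap A B) ⊔ Ideal.span {1 - E}) (hE : E * (1 - E) ∈ I.map (algebraMap A B))
    (q : Ideal B) [q.IsPrime] (hq : J ≤ q) : ∃ g ∈ good A B, (g : B) ∉ q := by
  have hIp : I ≤ q.under A := Ideal.map_le_iff_le_comap.mp ((hJ.ge.trans hq |> le_sup_left.trans))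
  let L := Localization.AtPrime q ⧸ (q.under A).map (algebraMap A (Localization.AtPrime q))
  let φ : B →ₐ[A] L := (Ideal.Quotient.mkₐ A _).comp (IsScalarTower.toAlgHom A B (Localization.AtPrime q))
  have hI0 : ∀ z ∈ I.map (algebraMap A B), φ z = 0 := by
    intro z hz
    refine Ideal.Quotient.eq_zero_iff_mem.mpr ?_
    have := Ideal.mem_map_of_mem (algebraMap B (Localization.AtPrime q)) hz
    rw [Ideal.map_map, ← IsScalarTower.algebraMap_eq] at this
    exact Ideal.map_mono hIp this
  have hEu : IsUnit (φ E) := by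
    refine IsUnit.map (Ideal.Quotient.mkₐ A _) (IsLocalization.map_units (M := q.primeCompl) (Localization.AtPrime q) ⟨E, fun h => ?_⟩)
    have h2 : 1 - E ∈ q := hq (hJ.ge (Ideal.mem_sup_right (Ideal.mem_span_singleton_self _)))
    have := add_mem h h2
    rw [add_sub_cancel] at this
    exact Ideal.IsPrime.ne_top inferInstance ((Ideal.eq_top_iff_one q).mpr this)
  have hle : J ≤ RingHom.ker φ.toRingHom := by
    rw [hJ]
    refine sup_le (fun z hz => hI0 z hz) ((Ideal.span_singleton_le_iff_mem _).mpr ?_)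
    have h1 : φ E * φ (1 - E) = 0 := by rw [← map_mul]; exact hI0 _ hE
    exact hEu.mul_right_eq_zero.mp h1
  let f : B ⧸ J →ₐ[A] L := Ideal.Quotient.liftₐ J φ fun z hz => hle hz
  haveI : Algebra.WeaklyQuasiFiniteAt A q := by
    rw [Algebra.weaklyQuasiFiniteAt_iff]
    refine Algebra.QuasiFinite.of_forall_exists_mul_mem_range f fun x => ?_
    obtain ⟨y, rfl⟩ := Ideal.Quotient.mk_surjective x
    obtain ⟨b, s, rfl⟩ := IsLocalization.exists_mk'_eq q.primeCompl y
    refine ⟨Ideal.Quotient.mk J (s : B), IsUnit.map (Ideal.Quotient.mkₐ A _) (IsLocalization.map_units (M := q.primeCompl) (Localization.AtPrime q) s),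
      Ideal.Quotient.mk J b, ?_⟩
    show Ideal.Quotient.mk _ (algebraMap B _ b) = _
    rw [← IsLocalization.mk'_spec (Localization.AtPrime q) b s, map_mul]
    rfl
  obtain ⟨r, hr, hri, hm⟩ := Algebra.zariskisMainProperty_iff.mp
    (Algebra.ZariskisMainProperty.of_finiteType_of_weaklyQuasiFiniteAt (R := A) q)
  exact ⟨⟨r, hri⟩, mem_good.mpr hm, hr⟩



/-- Let A be a ring with an ideal I and A → B a ring map of finite type, and suppose B/IB = C_1 × C_2
(given by an idempotent e of B/IB with C_1 = (B/IB)/(1 - e)) where C_1 is finite over A/I. Writing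
B' for the integral closure of A in B, some g ∈ B' has idempotent image in B'/IB' lifting e (so
B'/IB' = C_1' × C_2' compatibly with the decomposition of B/IB), and the map B'_g → B_g is an
isomorphism (whence C_1' = C_1). -/
theorem result (A B : Type u) [CommRing A] [CommRing B]
    [Algebra A B] [Algebra.FiniteType A B] (I : Ideal A) (e : B ⧸ Ideal.map (algebraMap A B) I)
    (he : IsIdempotentElem e)
    (hfin : Module.Finite (A ⧸ I) ((B ⧸ Ideal.map (algebraMap A B) I) ⧸ Ideal.span {1 - e})) :
    ∃ g : integralClosure A B,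
      IsIdempotentElem (Ideal.Quotient.mk (Ideal.map (algebraMap A (integralClosure A B)) I) g) ∧
      Ideal.Quotient.mk (Ideal.map (algebraMap A B) I) (g : B) = e ∧
      Function.Bijective (algebraMap (Localization.Away g)
        (Localization (Algebra.algebraMapSubmonoid B (Submonoid.powers g)))) := by
  classical
  obtain ⟨E, rfl⟩ := Ideal.Quotient.mk_surjective e
  set IB := Ideal.map (algebraMap A B) I with hIB
  set IB' := Ideal.map (algebraMap A (integralClosure A B)) I with hIB'
  have hE : E * (1 - E) ∈ IB := by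
    rw [← Ideal.Quotient.eq_zero_iff_mem, map_mul, map_sub, map_one, mul_sub, mul_one, he.eq, sub_self]
  let J := IB ⊔ Ideal.span {1 - E}
  haveI hJfin : Module.Finite A (B ⧸ J) := by
    haveI : Module.Finite A ((B ⧸ IB) ⧸ Ideal.span {1 - Ideal.Quotient.mk IB E}) := Module.Finite.trans (A ⧸ I) _
    let ψ : ((B ⧸ IB) ⧸ Ideal.span {1 - Ideal.Quotient.mk IB E}) →ₐ[A] B ⧸ J :=
      Ideal.Quotient.liftₐ _ (Ideal.Quotient.factorₐ A (le_sup_left : IB ≤ J)) (by
        intro z hz
        obtain ⟨c, rfl⟩ := Ideal.mem_span_singleton'.mp hz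
        obtain ⟨c, rfl⟩ := Ideal.Quotient.mk_surjective c
        show Ideal.Quotient.mk J (c * (1 - E)) = 0
        exact Ideal.Quotient.eq_zero_iff_mem.mpr (J.mul_mem_left c (Ideal.mem_sup_right (Ideal.mem_span_singleton_self _))))
    refine Module.Finite.of_surjective ψ.toLinearMap fun z => ?_
    obtain ⟨z, rfl⟩ := Ideal.Quotient.mk_surjective z
    exact ⟨Ideal.Quotient.mk _ (Ideal.Quotient.mk IB z), rfl⟩
  obtain ⟨Y, hY⟩ := (Module.Finite.fg_top : (⊤ : Submodule A (B ⧸ J)).FG)
  have htop : Ideal.span ((↑) '' (good A B : Set (integralClosure A B)) : Set B) ⊔ J = ⊤ := by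
    by_contra hne
    obtain ⟨q, hq, hle⟩ := Ideal.exists_le_maximal _ hne
    haveI := hq.isPrime
    obtain ⟨g, hg, hgq⟩ := exists_good_notMem A B I E J rfl hE q (le_sup_right.trans hle)
    exact hgq (hle (Ideal.mem_sup_left (Ideal.subset_span ⟨g, hg, rfl⟩)))
  have hh : ∃ h ∈ good A B, (h : B) - E ∈ IB := by
    have hEJ : ∀ z ∈ J, E * z ∈ IB := by
      intro z hz
      obtain ⟨x, hx, y, hy, rfl⟩ := Submodule.mem_sup.mp hz
      obtain ⟨c, rfl⟩ := Ideal.mem_span_singleton'.mp hy
      rw [mul_add, mul_left_comm]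
      exact add_mem (IB.mul_mem_left _ hx) (IB.mul_mem_left _ hE)
    -- the elements of `B` whose product with `E` is congruent to an element of `good`
    let T : Submodule A B :=
      { carrier := {z | ∃ h ∈ good A B, (h : B) - E * z ∈ IB}
        add_mem' := by
          rintro a b ⟨h, hh, ha⟩ ⟨k, hk, hb⟩
          refine ⟨h + k, add_mem hh hk, ?_⟩
          rw [AddMemClass.coe_add, mul_add, add_sub_add_comm]
          exact add_mem ha hb
        zero_mem' := ⟨0, zero_mem _, by simp⟩
        smul_mem' := by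
          rintro c a ⟨h, hh, ha⟩
          refine ⟨c • h, Submodule.smul_of_tower_mem _ c hh, ?_⟩
          have : ((c • h : integralClosure A B) : B) - E * (c • a) = c • ((h : B) - E * a) := by
            rw [SetLike.val_smul, smul_sub, mul_smul_comm]
          rw [this]
          exact Submodule.smul_of_tower_mem _ c ha }
    have hTJ : ∀ z z', z - z' ∈ J → z' ∈ T → z ∈ T := by
      rintro z z' hd ⟨h, hh, hz⟩
      refine ⟨h, hh, ?_⟩
      have := sub_mem hz (hEJ _ hd)
      rwa [mul_sub, sub_sub, add_sub_cancel] at this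
    choose y hy using fun z : B ⧸ J => Ideal.Quotient.mk_surjective (I := J) z
    obtain ⟨Gs, hGs, h1⟩ : ∃ Gs : Finset (integralClosure A B), (∀ g ∈ Gs, g ∈ good A B) ∧
        (1 : B) ∈ Ideal.span ((↑) '' (Gs : Set (integralClosure A B)) : Set B) ⊔ J := by
      obtain ⟨x, hx, w, hw, hxw⟩ := Submodule.mem_sup.mp (htop.ge (Submodule.mem_top (x := (1 : B))))
      obtain ⟨t, ht, hxt⟩ := Submodule.mem_span_finite_of_mem_span hx
      obtain ⟨Gs, hGs, rfl⟩ := Finset.subset_set_image_iff.mp ht
      exact ⟨Gs, fun g hg => hGs hg, Submodule.mem_sup.mpr ⟨x, by simpa using hxt, w, hw, hxw⟩⟩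
    have hM : ∀ p : integralClosure A B × (B ⧸ J), p.1 ∈ good A B → ∃ m : ℕ, ∀ k, m ≤ k →
        ∃ h ∈ good A B, (h : B) = (p.1 : B) ^ k * (E * y p.2) := by
      intro p hp
      obtain ⟨m, hm⟩ := mem_good.mp hp (E * y p.2)
      refine ⟨m + 1, fun k hk => ⟨p.1 ^ (k - m) * ⟨_, hm⟩, Ideal.mul_mem_right _ _ (Ideal.pow_mem_of_mem _ hp _ (by omega)), ?_⟩⟩
      rw [MulMemClass.coe_mul, SubmonoidClass.coe_pow, ← mul_assoc, ← pow_add, Nat.sub_add_cancel (by omega)]
    choose m hm using hM
    let M := (Gs ×ˢ Y).sup fun p => if hp : p.1 ∈ good A B then m p hp else 0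
    have h2 : (1 : B) ∈ Ideal.span ((fun g : integralClosure A B => (g : B) ^ M) '' (Gs : Set (integralClosure A B))) ⊔ J := by
      rw [← Ideal.eq_top_iff_one] at h1 ⊢
      by_contra hne
      obtain ⟨q, hq, hle⟩ := Ideal.exists_le_maximal _ hne
      refine hq.ne_top (top_le_iff.mp (h1.ge.trans (sup_le (Ideal.span_le.mpr ?_) (le_sup_right.trans hle))))
      rintro _ ⟨g, hg, rfl⟩
      exact hq.isPrime.mem_of_pow_mem M (hle (Ideal.mem_sup_left (Ideal.subset_span ⟨g, hg, rfl⟩)))
    obtain ⟨x, hx, w, hw, hxw⟩ := Submodule.mem_sup.mp h2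
    have hxT : x ∈ T := by
      have : ∀ c : B, c * x ∈ T := by
        clear hxw
        induction hx using Submodule.span_induction with
        | mem z hz =>
          obtain ⟨g, hg, rfl⟩ := hz
          intro c
          have hc : Ideal.Quotient.mk J c ∈ Submodule.span A (Y : Set (B ⧸ J)) := hY.ge trivial
          obtain ⟨a, -, ha⟩ := Submodule.mem_span_finset.mp hc
          refine hTJ _ ((∑ i ∈ Y, a i • y i) * (g : B) ^ M) ?_ ?_
          · rw [← sub_mul]
            refine J.mul_mem_right _ (Ideal.Quotient.eq.mp ?_)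
            rw [map_sum, ← ha]
            exact Finset.sum_congr rfl fun i _ => by rw [← Ideal.Quotient.mkₐ_eq_mk A, map_smul, Ideal.Quotient.mkₐ_eq_mk, hy]
          · rw [Finset.sum_mul]
            refine sum_mem fun i hi => ?_
            rw [smul_mul_assoc]
            refine Submodule.smul_mem T _ ?_
            obtain ⟨h, hh, he'⟩ := hm (g, i) (hGs g hg) M (by
              have := Finset.le_sup (f := fun p => if hp : p.1 ∈ good A B then m p hp else 0)
                (Finset.mk_mem_product hg hi)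
              simpa [dif_pos (hGs g hg)] using this)
            refine ⟨h, hh, ?_⟩
            rw [he', show (g : B) ^ M * (E * y i) = E * (y i * (g : B) ^ M) by ring, sub_self]
            exact zero_mem _
        | zero => intro c; rw [mul_zero]; exact zero_mem _
        | add z z' _ _ hz hz' => intro c; rw [mul_add]; exact add_mem (hz c) (hz' c)
        | smul a z _ hz => intro c; rw [smul_eq_mul, ← mul_assoc]; exact hz (c * a)
      simpa using this 1
    obtain ⟨h, hh, hd⟩ := hTJ 1 x (by rw [← hxw, add_sub_cancel_left]; exact hw) hxT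
    exact ⟨h, hh, by rwa [mul_one] at hd⟩
  obtain ⟨h, hh, hhE⟩ := hh
  have hidem : (h : B) * (h - 1) ∈ IB := by
    have : (h : B) * (h - 1) = ((h : B) - E) * (h + E - 1) - E * (1 - E) := by ring
    rw [this]
    exact sub_mem (IB.mul_mem_right _ hhE) hE
  have key : ∀ z ∈ IB, ∃ m : ℕ, ∃ w ∈ IB', (w : B) = (h : B) ^ m * z := by
    intro z hz
    suffices ∀ c : B, ∃ m : ℕ, ∃ w ∈ IB', (w : B) = (h : B) ^ m * (c * z) by simpa using this 1
    induction hz using Submodule.span_induction with
    | mem z hz =>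
      obtain ⟨a, ha, rfl⟩ := hz
      intro c
      obtain ⟨m, hm⟩ := mem_good.mp hh c
      refine ⟨m, algebraMap A _ a * ⟨_, hm⟩, Ideal.mul_mem_right _ _ (Ideal.mem_map_of_mem _ ha), ?_⟩
      rw [MulMemClass.coe_mul, Subalgebra.coe_algebraMap]
      ring
    | zero => exact fun c => ⟨0, 0, zero_mem _, by simp⟩
    | add z z' _ _ hz hz' =>
      intro c
      obtain ⟨m, w, hw, e1⟩ := hz c
      obtain ⟨m', w', hw', e2⟩ := hz' c
      refine ⟨m + m', h ^ m' * w + h ^ m * w', add_mem (Ideal.mul_mem_left _ _ hw) (Ideal.mul_mem_left _ _ hw'), ?_⟩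
      rw [AddMemClass.coe_add, MulMemClass.coe_mul, MulMemClass.coe_mul, SubmonoidClass.coe_pow, SubmonoidClass.coe_pow, e1, e2]
      ring
    | smul a z _ hz => intro c; rw [smul_eq_mul, ← mul_assoc c a z]; exact hz (c * a)
  obtain ⟨m, w, hw, hwe⟩ := key _ hidem
  have hstep : h ^ (m + 1) * (h - 1) ∈ IB' := by
    have : h ^ (m + 1) * (h - 1) = w := Subtype.ext (by
      rw [hwe]
      push_cast
      ring)
    rw [this]; exact hw
  have hgood : h ^ (m + 1) ∈ good A B := Ideal.pow_mem_of_mem _ hh _ (Nat.succ_pos m)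
  refine ⟨h ^ (m + 1), ?_, ?_, ?_⟩
  · have h0 : ∀ k, Ideal.Quotient.mk IB' h ^ (m + 1 + k) = Ideal.Quotient.mk IB' h ^ (m + 1) := by
      intro k
      induction k with
      | zero => rfl
      | succ k ih =>
        have h3 : Ideal.Quotient.mk IB' h ^ (m + 1) * (Ideal.Quotient.mk IB' h - 1) = 0 := by
          rw [← map_one (Ideal.Quotient.mk IB'), ← map_sub, ← map_pow, ← map_mul]
          exact Ideal.Quotient.eq_zero_iff_mem.mpr hstep
        rw [mul_sub, mul_one, sub_eq_zero, ← pow_succ] at h3
        rw [← add_assoc, pow_succ, ih, ← pow_succ, h3]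
    show Ideal.Quotient.mk IB' (h ^ (m + 1)) * Ideal.Quotient.mk IB' (h ^ (m + 1)) = _
    rw [map_pow, ← pow_add, h0]
  · rw [SubmonoidClass.coe_pow, map_pow, Ideal.Quotient.eq.mpr hhE, he.pow_succ_eq]
  · generalize h ^ (m + 1) = g at hgood ⊢
    let M := Algebra.algebraMapSubmonoid B (Submonoid.powers g)
    let T := Localization M
    have hmap : ∀ (b : integralClosure A B) (s : Submonoid.powers g),
        algebraMap (Localization.Away g) T (IsLocalization.mk' _ b s) =
          IsLocalization.mk' T (b : B) (⟨(s : integralClosure A B), s, s.2, rfl⟩ : M) :=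
      fun b s => IsLocalization.map_mk' (g := algebraMap (integralClosure A B) B) (T := M) (Submonoid.powers g).le_comap_map b s
    constructor
    · intro x y hxy
      obtain ⟨b, s, rfl⟩ := IsLocalization.exists_mk'_eq (Submonoid.powers g) x
      obtain ⟨b', s', rfl⟩ := IsLocalization.exists_mk'_eq (Submonoid.powers g) y
      rw [hmap, hmap, IsLocalization.mk'_eq_iff_eq, IsLocalization.eq_iff_exists M] at hxy
      obtain ⟨⟨_, t, ht, rfl⟩, hc⟩ := hxy
      rw [IsLocalization.mk'_eq_iff_eq, IsLocalization.eq_iff_exists (Submonoid.powers g)]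
      exact ⟨⟨t, ht⟩, Subtype.ext hc⟩
    · intro x
      obtain ⟨b, ⟨_, t, ⟨k, rfl⟩, rfl⟩, rfl⟩ := IsLocalization.exists_mk'_eq M x
      obtain ⟨n, hn⟩ := mem_good.mp hgood b
      refine ⟨IsLocalization.mk' _ ⟨_, hn⟩ (⟨g ^ (n + k), n + k, rfl⟩ : Submonoid.powers g), ?_⟩
      rw [hmap, IsLocalization.mk'_eq_iff_eq]
      congr 1
      show (g : B) ^ k * ((g : B) ^ n * b) = ((g ^ (n + k) : integralClosure A B) : B) * b
      rw [SubmonoidClass.coe_pow, pow_add]
      ring

end Groth.Agent.S9313
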