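import Groth.Statements.S9314
import Groth.Agent.Lib.AndreFS1.Main
import Groth.Agent.S9317

set_option autoImplicit false
universe u
open CAlg

namespace Groth.Agent.S9314

/-- Let `A` and `B` be Noetherian local rings and `A → B` a local ring map, and suppose that the map
from `A` to its completion along the maximal ideal is a regular ring map. If `A → B` is formally
smooth for the adic topology of the maximal ideal of `B`, then `A → B` is a regular ring map: flat,
with Noetherian fibres that are geometrically regular over the residue fields of `A`. -/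
theorem result {A B : Type u}
    [CommRing A] [CommRing B] [IsLocalRing A] [IsLocalRing B] [IsNoetherianRing A]
    [IsNoetherianRing B] [Algebra A B] [IsLocalHom (algebraMap A B)]
    (hA : CAlg.IsRegularHom A (AdicCompletion (IsLocalRing.maximalIdeal A) A))
    (h : CAlgX.IsAdicFormallySmooth A B (IsLocalRing.maximalIdeal B)) :
    CAlg.IsRegularHom A B := by
  let m := IsLocalRing.maximalIdeal A
  let n := IsLocalRing.maximalIdeal B
  have hmn : m.map (algebraMap A B) ≤ n := ((IsLocalRing.local_hom_TFAE (algebraMap A B)).out 0 2).1 (inferInstance : IsLocalHom (algebraMap A B))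
  obtain ⟨_, htow, hff⟩ := FlatDepth.exists_cpl_tower A B
  haveI := htow
  haveI := CplLocH7.isNoetherianRing_cpl A
  haveI := CplLocH7.isNoetherianRing_cpl B
  haveI := CplLocH7.faithfullyFlat_cpl B
  have hmA : IsLocalRing.maximalIdeal (EGA4.Cpl A) = m.map (algebraMap A (EGA4.Cpl A)) := CplLocH7.maximalIdeal_cpl A
  have hmB : IsLocalRing.maximalIdeal (EGA4.Cpl B) = n.map (algebraMap B (EGA4.Cpl B)) := CplLocH7.maximalIdeal_cpl B
  haveI : IsAdicComplete (IsLocalRing.maximalIdeal (EGA4.Cpl A)) (EGA4.Cpl A) := by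
    rw [hmA]
    exact (IsAdicComplete.map_algebraMap_iff _ _).2 (AdicCompletion.isAdicComplete (IsNoetherian.noetherian _))
  haveI : IsAdicComplete (IsLocalRing.maximalIdeal (EGA4.Cpl B)) (EGA4.Cpl B) := by
    rw [hmB]
    exact (IsAdicComplete.map_algebraMap_iff _ _).2 (AdicCompletion.isAdicComplete (IsNoetherian.noetherian _))
  haveI : IsLocalHom (algebraMap (EGA4.Cpl A) (EGA4.Cpl B)) := by
    refine ((IsLocalRing.local_hom_TFAE (algebraMap (EGA4.Cpl A) (EGA4.Cpl B))).out 0 2).2 ?_
    rw [hmA, hmB, Ideal.map_map, ← IsScalarTower.algebraMap_eq A (EGA4.Cpl A) (EGA4.Cpl B),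
      IsScalarTower.algebraMap_eq A B (EGA4.Cpl B), ← Ideal.map_map]
    exact Ideal.map_mono hmn
  have hfs := (Groth.Agent.S9317.result m n (IsNoetherian.noetherian _) (IsNoetherian.noetherian _)
    ⟨1, by rw [pow_one]; exact hmn⟩ (algebraMap (EGA4.Cpl A) (EGA4.Cpl B))
    (by rw [← IsScalarTower.algebraMap_eq A (EGA4.Cpl A) (EGA4.Cpl B)]; exact IsScalarTower.algebraMap_eq A B (EGA4.Cpl B))).1 h
  have hfs' : CAlgX.IsAdicFormallySmooth (EGA4.Cpl A) (EGA4.Cpl B) (IsLocalRing.maximalIdeal (EGA4.Cpl B)) := by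
    rw [hmB]
    convert hfs using 1
    exact Algebra.algebra_ext _ _ fun _ => rfl
  exact FlatDepth.isRegularHom_of_comp A B (EGA4.Cpl B)
    (FlatDepth.isRegularHom_comp A (EGA4.Cpl A) (EGA4.Cpl B) hA (AndreFS1.isRegularHom_of_adicFS _ _ hfs'))

end Groth.Agent.S9314
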