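import Groth.Statements.S9315
import Groth.Agent.Lib.AdicSmooth.SmallExt

set_option autoImplicit false
universe u
open CAlg

namespace Groth.Agent.S9315

open IsLocalRing in
/-- Let `R → S` be a local homomorphism of local rings (no Noetherian hypothesis). Then `R → S` is
formally smooth for the adic topology of the maximal ideal of `S` if and only if the following
lifting property holds: for every local ring `A` with a local structure map `R → A`, every ideal `J`
of `A` of square zero such that some power of the maximal ideal of `A` is zero, and every local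
`R`-algebra homomorphism `ψ : S → A/J` inducing a bijection on residue fields, there is an
`R`-algebra homomorphism `S → A` lifting `ψ`. -/
theorem result {R S : Type u} [CommRing R] [CommRing S]
    [IsLocalRing R] [IsLocalRing S] [Algebra R S] [IsLocalHom (algebraMap R S)] :
    CAlgX.IsAdicFormallySmooth R S (maximalIdeal S) ↔
      ∀ (A : Type u) [CommRing A] [IsLocalRing A] [Algebra R A] [IsLocalHom (algebraMap R A)]
        (J : Ideal A), J ^ 2 = ⊥ → (∃ n : ℕ, maximalIdeal A ^ n = ⊥) →
        ∀ [IsLocalRing (A ⧸ J)] (ψ : S →ₐ[R] A ⧸ J) [IsLocalHom ψ.toRingHom],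
          Function.Bijective (ResidueField.map ψ.toRingHom) →
          ∃ χ : S →ₐ[R] A, (Ideal.Quotient.mkₐ R J).comp χ = ψ := by
  refine ⟨fun h A _ _ _ _ J hJ hn _ ψ _ _ => h A J hJ ψ ?_, fun h A _ _ J hJ ψ hk => ?_⟩
  · obtain ⟨n, hn⟩ := hn
    refine ⟨n, fun x hx => ?_⟩
    have hm : maximalIdeal (A ⧸ J) = (maximalIdeal A).map (Ideal.Quotient.mk J) :=
      (IsLocalRing.map_maximalIdeal_of_surjective _ Ideal.Quotient.mk_surjective).symm
    have h1 : (maximalIdeal S ^ n).map ψ.toRingHom ≤ ⊥ := by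
      rw [Ideal.map_pow]
      refine (Ideal.pow_right_mono ((IsLocalRing.local_hom_TFAE ψ.toRingHom).out 0 2 |>.1 ‹_›) n).trans ?_
      rw [hm, ← Ideal.map_pow, hn, Ideal.map_bot]
    exact h1 (Ideal.mem_map_of_mem _ hx)
  · obtain ⟨k, hk⟩ := hk
    have hk' : ∀ x ∈ maximalIdeal S ^ (k + 1), ψ x = 0 :=
      fun x hx => hk x (Ideal.pow_le_pow_right (Nat.le_succ k) hx)
    let B := S ⧸ maximalIdeal S ^ (k + 1)
    have : Nontrivial B := Ideal.Quotient.nontrivial_iff.2 fun h1 =>
      (maximalIdeal.isMaximal S).ne_top (top_le_iff.1 (h1 ▸ Ideal.pow_le_self k.succ_ne_zero))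
    have : IsLocalRing B := IsLocalRing.of_surjective' _ Ideal.Quotient.mk_surjective
    have hBm : maximalIdeal B ^ (k + 1) = ⊥ := by
      rw [(IsLocalRing.map_maximalIdeal_of_surjective (Ideal.Quotient.mk (maximalIdeal S ^ (k + 1)))
        Ideal.Quotient.mk_surjective).symm, ← Ideal.map_pow, Ideal.map_quotient_self]
    let f : A →ₐ[R] A ⧸ J := Ideal.Quotient.mkₐ R J
    let ψB : B →ₐ[R] A ⧸ J := Ideal.Quotient.liftₐ _ ψ hk'
    let E := Groth.Agent.AdicSmooth.pullbackAlg f ψB
    let π := Groth.Agent.AdicSmooth.pullSnd f ψB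
    have hπ : Function.Surjective π :=
      Groth.Agent.AdicSmooth.pullSnd_surjective f ψB Ideal.Quotient.mk_surjective
    have hsq : ∀ x y, π x = 0 → π y = 0 → x * y = 0 := by
      refine Groth.Agent.AdicSmooth.mul_pullSnd_ker f ψB fun x y hx hy => ?_
      have : x * y ∈ J ^ 2 := by
        rw [pow_two]
        exact Ideal.mul_mem_mul (Ideal.Quotient.eq_zero_iff_mem.1 hx) (Ideal.Quotient.eq_zero_iff_mem.1 hy)
      rwa [hJ] at this
    let K := RingHom.ker π.toRingHom
    have hK : K ^ 2 = ⊥ := by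
      rw [pow_two, eq_bot_iff, Ideal.mul_le]
      exact fun a ha b hb => Ideal.mem_bot.2 (hsq a b ha hb)
    have : IsLocalRing E := Groth.Agent.AdicSmooth.isLocalRing_of_sq_zero_surjective π.toRingHom hπ hsq
    have : IsLocalHom π.toRingHom := IsLocalHom.of_surjective _ hπ
    let σ : S →ₐ[R] B := Ideal.Quotient.mkₐ R _
    have : IsLocalHom σ.toRingHom := IsLocalHom.of_surjective _ Ideal.Quotient.mk_surjective
    have : IsLocalHom (algebraMap R E) := ⟨fun r hr => by
      have h1 : IsUnit (σ (algebraMap R S r)) := by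
        rw [σ.commutes, ← π.commutes]
        exact hr.map π
      exact (isUnit_map_iff (algebraMap R S) r).1 ((isUnit_map_iff σ.toRingHom _).1 h1)⟩
    have hEn : maximalIdeal E ^ ((k + 1) * 2) = ⊥ := by
      have h1 : maximalIdeal E ^ (k + 1) ≤ K := by
        intro x hx
        have h2 : π x ∈ maximalIdeal B ^ (k + 1) := by
          rw [← IsLocalRing.map_maximalIdeal_of_surjective π.toRingHom hπ, ← Ideal.map_pow]
          exact Ideal.mem_map_of_mem _ hx
        rw [hBm] at h2
        exact h2
      rw [pow_mul, eq_bot_iff, ← hK]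
      exact Ideal.pow_right_mono h1 2
    let e : (E ⧸ K) ≃ₐ[R] B := Ideal.quotientKerAlgEquivOfSurjective hπ
    have : IsLocalRing (E ⧸ K) := e.symm.toRingEquiv.isLocalRing
    let φ : S →ₐ[R] E ⧸ K := e.symm.toAlgHom.comp σ
    have hφ : Function.Surjective φ := e.symm.surjective.comp Ideal.Quotient.mk_surjective
    have hφl : IsLocalHom φ.toRingHom := ⟨fun a ha => (isUnit_map_iff σ.toRingHom a).1 (by
      have h2 := ha.map e
      rwa [show φ.toRingHom a = e.symm (σ a) from rfl, AlgEquiv.apply_symm_apply] at h2)⟩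
    obtain ⟨χ, hχ⟩ := h E K hK ⟨_, hEn⟩ φ
      (Groth.Agent.AdicSmooth.residueFieldMap_bijective_of_surjective _ hφ)
    refine ⟨(Groth.Agent.AdicSmooth.pullFst f ψB).comp χ, AlgHom.ext fun x => ?_⟩
    have h1 : π (χ x) = σ x := by
      have := congrArg e (AlgHom.congr_fun hχ x)
      simp only [φ, AlgHom.comp_apply, AlgEquiv.coe_toAlgHom, AlgEquiv.apply_symm_apply] at this
      exact this
    exact ((χ x).2 : f (χ x).1.1 = ψB (π (χ x))).trans ((congrArg ψB h1).trans rfl)

end Groth.Agent.S9315
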