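import Groth.Statements.S9319
import Groth.Agent.Lib.Sep.Basic

set_option autoImplicit false
universe u
open CAlg

namespace Groth.Agent.S9319

open TensorProduct in
theorem δAux_map {F K L M : Type u} [CommRing F] [CommRing K] [CommRing L] [CommRing M] [Algebra F K]
    [Algebra K L] [Algebra L M] [Algebra K M] [IsScalarTower K L M] [Algebra F L] [Algebra F M]
    [IsScalarTower F K L] [IsScalarTower F K M] (p : (Algebra.Generators.self K L).Ring) :
    Algebra.Generators.H1Cotangent.δAux F (Algebra.Generators.self K M)
        ((Algebra.Generators.defaultHom (Algebra.Generators.self K L) (Algebra.Generators.self K M)).toAlgHom p) =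
      LinearMap.rTensor Ω[K⁄F] (IsScalarTower.toAlgHom K L M).toLinearMap
        (Algebra.Generators.H1Cotangent.δAux F (Algebra.Generators.self K L) p) := by
  induction p using MvPolynomial.induction_on with
  | C r =>
    rw [Algebra.Generators.H1Cotangent.δAux_C,
      show (Algebra.Generators.defaultHom (Algebra.Generators.self K L) (Algebra.Generators.self K M)).toAlgHom (MvPolynomial.C r) = MvPolynomial.C r from
        AlgHom.commutes _ r, Algebra.Generators.H1Cotangent.δAux_C, LinearMap.rTensor_tmul]
    simp
  | add a b ha hb => simp only [map_add, ha, hb]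
  | mul_X a i ha =>
    rw [map_mul, Algebra.Generators.Hom.toAlgHom_X, Algebra.Generators.H1Cotangent.δAux_mul,
      Algebra.Generators.H1Cotangent.δAux_mul, Algebra.Generators.H1Cotangent.δAux_X, map_add]
    have hX : (Algebra.Generators.defaultHom (Algebra.Generators.self K L) (Algebra.Generators.self K M)).val i =
        MvPolynomial.X (algebraMap L M i) := rfl
    rw [hX, Algebra.Generators.H1Cotangent.δAux_X, smul_zero, zero_add, smul_zero, map_zero, zero_add, ha]
    simp only [← @IsScalarTower.algebraMap_smul (Algebra.Generators.self K M).Ring M,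
      ← @IsScalarTower.algebraMap_smul (Algebra.Generators.self K L).Ring L,
      Algebra.Generators.algebraMap_apply, MvPolynomial.aeval_X]
    generalize Algebra.Generators.H1Cotangent.δAux F (Algebra.Generators.self K L) a = w
    induction w with
    | zero => simp
    | add x y hx hy => simp only [smul_add, map_add, hx, hy]
    | tmul x y => simp [TensorProduct.smul_tmul', Algebra.smul_def]

open TensorProduct in
theorem δ_map {F K L M : Type u} [CommRing F] [CommRing K] [CommRing L] [CommRing M] [Algebra F K]
    [Algebra K L] [Algebra L M] [Algebra K M] [IsScalarTower K L M] [Algebra F L] [Algebra F M]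
    [IsScalarTower F K L] [IsScalarTower F K M] (x : Algebra.H1Cotangent K L) :
    Algebra.H1Cotangent.δ F K M (Algebra.H1Cotangent.map K K L M x) =
      LinearMap.rTensor Ω[K⁄F] (IsScalarTower.toAlgHom K L M).toLinearMap (Algebra.H1Cotangent.δ F K L x) := by
  obtain ⟨x, hx⟩ := x
  obtain ⟨⟨y, hy⟩, rfl⟩ := Algebra.Extension.Cotangent.mk_surjective x
  show Algebra.Generators.H1Cotangent.δ _ _ (Algebra.Extension.H1Cotangent.map _ ⟨_, hx⟩) =
    LinearMap.rTensor Ω[K⁄F] _ (Algebra.Generators.H1Cotangent.δ _ _ ⟨_, hx⟩)
  rw [Algebra.Generators.H1Cotangent.δ_eq_δAux]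
  refine Eq.trans ?_ (δAux_map y)
  have hm : (Algebra.Generators.defaultHom (Algebra.Generators.self K L) (Algebra.Generators.self K M)).toAlgHom y ∈
      (Algebra.Generators.self K M).ker := by
    show algebraMap _ M _ = 0
    exact ((Algebra.Generators.defaultHom (Algebra.Generators.self K L) (Algebra.Generators.self K M)).algebraMap_toAlgHom y).trans
      ((congrArg (algebraMap L M) hy).trans (map_zero _))
  have hx' : Algebra.Extension.Cotangent.mk (P := (Algebra.Generators.self K M).toExtension) ⟨_, hm⟩ ∈
      LinearMap.ker (Algebra.Generators.self K M).toExtension.cotangentComplex := by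
    have h2 := (Algebra.Extension.H1Cotangent.map
      (Algebra.Generators.defaultHom (Algebra.Generators.self K L) (Algebra.Generators.self K M)).toExtensionHom ⟨_, hx⟩).2
    rw [Algebra.Extension.H1Cotangent.map_apply_coe, Algebra.Extension.Cotangent.map_mk] at h2
    exact h2
  refine Eq.trans (congrArg _ (Subtype.ext ?_ : _ = (⟨_, hx'⟩ : Algebra.H1Cotangent K M)))
    (Algebra.Generators.H1Cotangent.δ_eq_δAux (R := F) (Algebra.Generators.self K M) (Algebra.Generators.self F K) ⟨_, hm⟩ hx')
  rw [Algebra.Extension.H1Cotangent.map_apply_coe, Algebra.Extension.Cotangent.map_mk]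
  rfl



open TensorProduct in
/-- For a tower of fields `K ⊆ L ⊆ M`, the first map of the Jacobi–Zariski sequence, from `H_1(L_{L/K})
⊗_L M` to `H_1(L_{M/K})`, is injective; here `H_1(L)` denotes the first homology of the naive
cotangent complex and the map is the `M`-linear extension of the functoriality map. (The rest of the
six-term sequence is exact for any three rings, so for fields it is exact with a zero on the left.) -/
theorem result {K L M : Type u} [Field K] [Field L]
    [Field M] [Algebra K L] [Algebra L M] [Algebra K M] [IsScalarTower K L M] :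
    Function.Injective ((Algebra.H1Cotangent.map K K L M).liftBaseChange M) := by
  haveI := PrimeField.perfectField_bot K
  haveI : Algebra.FormallySmooth (⊥ : Subfield K) L := FieldFS.formallySmooth_of_perfectField _ _
  have hδ : Function.Injective (Algebra.H1Cotangent.δ (⊥ : Subfield K) K L) := by
    rw [injective_iff_map_eq_zero]
    intro w hw
    obtain ⟨y, rfl⟩ := (Algebra.H1Cotangent.exact_map_δ (⊥ : Subfield K) K L w).1 hw
    rw [Subsingleton.elim y 0, map_zero]
  let δL := Algebra.H1Cotangent.δ (⊥ : Subfield K) K L
  have hinj : Function.Injective ((TensorProduct.AlgebraTensorModule.cancelBaseChange K L M M Ω[K⁄(⊥ : Subfield K)]) ∘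
      (δL.lTensor M)) :=
    (LinearEquiv.injective _).comp (Module.Flat.lTensor_preserves_injective_linearMap δL hδ)
  have key : ∀ z : M ⊗[L] Algebra.H1Cotangent K L,
      Algebra.H1Cotangent.δ (⊥ : Subfield K) K M ((Algebra.H1Cotangent.map K K L M).liftBaseChange M z) =
        TensorProduct.AlgebraTensorModule.cancelBaseChange K L M M Ω[K⁄(⊥ : Subfield K)] (δL.lTensor M z) := by
    intro z
    induction z with
    | zero => simp
    | add a b ha hb => simp only [map_add, ha, hb]
    | tmul m x =>
      rw [LinearMap.liftBaseChange_tmul, map_smul, δ_map, LinearMap.lTensor_tmul]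
      generalize δL x = w
      induction w with
      | zero => simp
      | add a b ha hb => simp only [map_add, smul_add, ha, hb, TensorProduct.tmul_add]
      | tmul l ω => simp [TensorProduct.smul_tmul', Algebra.smul_def, mul_comm]
  intro a b hab
  refine hinj ?_
  show _ = (TensorProduct.AlgebraTensorModule.cancelBaseChange K L M M Ω[K⁄(⊥ : Subfield K)]) (δL.lTensor M b)
  rw [← key, ← hab, key]
  rfl

end Groth.Agent.S9319
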