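import Groth.Statements.S9320
import Groth.Agent.Lib.CartierEq3.Basic
import Groth.Agent.S9319
import Mathlib.Algebra.Module.LinearMap.Index
import Mathlib.RingTheory.Kaehler.JacobiZariski

set_option autoImplicit false
universe u
open CAlg

namespace Groth.Agent.S9320


section
open TensorProduct LinearMap

set_option backward.isDefEq.respectTransparency false

theorem h1_map_comp {R R' S S' T : Type u} [CommRing R] [CommRing R'] [CommRing S] [CommRing S'] [CommRing T]
    [Algebra R R'] [Algebra R S] [Algebra R S'] [Algebra R T] [Algebra R' T] [Algebra S S'] [Algebra S T]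
    [Algebra S' T] [IsScalarTower R S S'] [IsScalarTower R S T] [IsScalarTower R S' T] [IsScalarTower R R' T]
    [IsScalarTower S S' T] (x : Algebra.H1Cotangent R S) :
    Algebra.H1Cotangent.map R R' S T x =
      Algebra.H1Cotangent.map R R' S' T (Algebra.H1Cotangent.map R R S S' x) := by
  unfold Algebra.H1Cotangent.map
  rw [← Algebra.Extension.H1Cotangent.map_comp_apply, Algebra.Extension.H1Cotangent.map_eq]

/-- Finite bookkeeping for an exact pair. -/
theorem finrank_ker_add_range {F M N : Type u} [Field F] [AddCommGroup M] [Module F M] [AddCommGroup N]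
    [Module F N] [Module.Finite F M] (f : M →ₗ[F] N) :
    Module.finrank F (LinearMap.ker f) + Module.finrank F (LinearMap.range f) = Module.finrank F M := by
  rw [add_comm]; exact f.finrank_range_add_finrank_ker

theorem index_diff_left {k K K' : Type u} [Field k] [Field K] [Field K'] [Algebra k K] [Algebra k K']
    [Algebra K K'] [IsScalarTower k K K'] [Algebra.EssFiniteType K K'] :
    let u := KaehlerDifferential.mapBaseChange k K K'
    let w := (Algebra.H1Cotangent.map k k K K').liftBaseChange K'
    Module.Finite K' (LinearMap.ker u) ∧ Module.Finite K' (Ω[K'⁄k] ⧸ LinearMap.range u) ∧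
      Module.Finite K' (LinearMap.ker w) ∧ Module.Finite K' (Algebra.H1Cotangent k K' ⧸ LinearMap.range w) ∧
      u.index - w.index = -(Cardinal.toNat (Algebra.trdeg K K') : ℤ) := by
  intro u w
  obtain ⟨f1, f2, f3⟩ := CartierEq3.h1_kaehler K K'
  haveI := f1; haveI := f2
  let δ := Algebra.H1Cotangent.δ k K K'
  have hw : Function.Injective w := Groth.Agent.S9319.result (K := k) (L := K) (M := K')
  have hu : LinearMap.ker u = LinearMap.range δ :=
    (Algebra.H1Cotangent.exact_δ_mapBaseChange k K K').linearMap_ker_eq
  let e1 : (Ω[K'⁄k] ⧸ LinearMap.range u) ≃ₗ[K'] Ω[K'⁄K] :=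
    (Submodule.quotEquivOfEq _ _ (KaehlerDifferential.exact_mapBaseChange_map k K K').linearMap_ker_eq.symm).trans
      ((KaehlerDifferential.map k K K' K').quotKerEquivOfSurjective (KaehlerDifferential.map_surjective k K K'))
  let e2 : (Algebra.H1Cotangent k K' ⧸ LinearMap.range w) ≃ₗ[K'] LinearMap.ker δ :=
    ((Submodule.quotEquivOfEq _ _ (Algebra.H1Cotangent.exact_liftBaseChange_map_of_flat k K K').linearMap_ker_eq.symm).trans
      (Algebra.H1Cotangent.map k K K' K').quotKerEquivRange).trans
      (LinearEquiv.ofEq _ _ (Algebra.H1Cotangent.exact_map_δ k K K').linearMap_ker_eq.symm)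
  haveI i1 : Module.Finite K' (LinearMap.ker u) := by rw [hu]; infer_instance
  haveI i2 := Module.Finite.equiv e1.symm
  haveI i4 := Module.Finite.equiv e2.symm
  haveI i3 : Module.Finite K' (LinearMap.ker w) := by rw [LinearMap.ker_eq_bot.2 hw]; infer_instance
  refine ⟨i1, i2, i3, i4, ?_⟩
  rw [LinearMap.index_eq_finrank_sub, LinearMap.index_of_injective hw, e1.finrank_eq, e2.finrank_eq,
    LinearEquiv.finrank_eq (LinearEquiv.ofEq _ _ hu)]
  have := finrank_ker_add_range δ
  omega

theorem index_diff_right {k k' K' : Type u} [Field k] [Field k'] [Field K'] [Algebra k k'] [Algebra k K']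
    [Algebra k' K'] [IsScalarTower k k' K'] [Algebra.EssFiniteType k k'] :
    let u := KaehlerDifferential.map k k' K' K'
    let w := Algebra.H1Cotangent.map k k' K' K'
    Module.Finite K' (LinearMap.ker u) ∧ Module.Finite K' (Ω[K'⁄k'] ⧸ LinearMap.range u) ∧
      Module.Finite K' (LinearMap.ker w) ∧ Module.Finite K' (Algebra.H1Cotangent k' K' ⧸ LinearMap.range w) ∧
      u.index - w.index = (Cardinal.toNat (Algebra.trdeg k k') : ℤ) := by
  intro u w
  obtain ⟨f1, f2, f3⟩ := CartierEq3.h1_kaehler k k'
  haveI := f1; haveI := f2
  let m := KaehlerDifferential.mapBaseChange k k' K'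
  let δ := Algebra.H1Cotangent.δ k k' K'
  let l := (Algebra.H1Cotangent.map k k k' K').liftBaseChange K'
  have hl : Function.Injective l := Groth.Agent.S9319.result (K := k) (L := k') (M := K')
  have hu : LinearMap.ker u = LinearMap.range m :=
    (KaehlerDifferential.exact_mapBaseChange_map k k' K').linearMap_ker_eq
  have hus : Function.Surjective u := KaehlerDifferential.map_surjective k k' K'
  have hw : LinearMap.ker w = LinearMap.range l :=
    (Algebra.H1Cotangent.exact_liftBaseChange_map_of_flat k k' K').linearMap_ker_eq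
  let e3 : (TensorProduct k' K' (Algebra.H1Cotangent k k')) ≃ₗ[K'] LinearMap.ker w :=
    (LinearEquiv.ofInjective l hl).trans (LinearEquiv.ofEq _ _ hw.symm)
  let e4 : (Algebra.H1Cotangent k' K' ⧸ LinearMap.range w) ≃ₗ[K'] LinearMap.range δ :=
    (Submodule.quotEquivOfEq _ _ (Algebra.H1Cotangent.exact_map_δ k k' K').linearMap_ker_eq.symm).trans δ.quotKerEquivRange
  haveI i1 : Module.Finite K' (LinearMap.ker u) := by rw [hu]; infer_instance
  haveI i2 : Module.Finite K' (Ω[K'⁄k'] ⧸ LinearMap.range u) := by
    rw [LinearMap.range_eq_top.2 hus]; infer_instance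
  haveI i3 := Module.Finite.equiv e3
  haveI i4 := Module.Finite.equiv e4.symm
  refine ⟨i1, i2, i3, i4, ?_⟩
  rw [LinearMap.index_of_surjective hus, LinearMap.index_eq_finrank_sub, e4.finrank_eq, ← e3.finrank_eq,
    Module.finrank_baseChange, LinearEquiv.finrank_eq (LinearEquiv.ofEq _ _ hu)]
  have h1 := finrank_ker_add_range m
  rw [Module.finrank_baseChange] at h1
  have h2 : Module.finrank K' (LinearMap.ker m) = Module.finrank K' (LinearMap.range δ) :=
    LinearEquiv.finrank_eq (LinearEquiv.ofEq _ _ (Algebra.H1Cotangent.exact_δ_mapBaseChange k k' K').linearMap_ker_eq)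
  omega

theorem finite_comp {F M N P : Type u} [Field F] [AddCommGroup M] [Module F M] [AddCommGroup N] [Module F N]
    [AddCommGroup P] [Module F P] (f : M →ₗ[F] N) (g : N →ₗ[F] P) [Module.Finite F (LinearMap.ker f)]
    [Module.Finite F (LinearMap.ker g)] [Module.Finite F (N ⧸ LinearMap.range f)]
    [Module.Finite F (P ⧸ LinearMap.range g)] :
    Module.Finite F (LinearMap.ker (g ∘ₗ f)) ∧ Module.Finite F (P ⧸ LinearMap.range (g ∘ₗ f)) :=
  ⟨by rw [LinearMap.ker_comp]; infer_instance, by rw [LinearMap.range_comp]; infer_instance⟩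

end



open TensorProduct in
/-- Consider a commutative square of fields with maps `k → K`, `k → k'`, `k' → K'` and `K → K'`, where
`k'` is a finitely generated field extension of `k` and `K'` is a finitely generated field extension
of `K`. Let `α : Ω_{K/k} ⊗_K K' → Ω_{K'/k'}` and `β : H_1(L_{K/k}) ⊗_K K' → H_1(L_{K'/k'})` be the
comparison maps (`H_1(L)` the first homology of the naive cotangent complex). Then the kernels and
cokernels of `α` and `β` are finite-dimensional `K'`-vector spaces, and the difference of
transcendence degrees trdeg_k(k') − trdeg_K(K') equals (dim Ker α + dim Coker β) − (dim Coker α +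
dim Ker β). -/
theorem result {k k' K K' : Type u} [Field k] [Field k']
    [Field K] [Field K'] [Algebra k k'] [Algebra k K] [Algebra k K'] [Algebra k' K'] [Algebra K K']
    [IsScalarTower k k' K'] [IsScalarTower k K K']
    [Algebra.EssFiniteType k k'] [Algebra.EssFiniteType K K'] :
    Module.Finite K' (LinearMap.ker ((KaehlerDifferential.map k k' K K').liftBaseChange K')) ∧
      Module.Finite K' (Ω[K'⁄k'] ⧸ LinearMap.range ((KaehlerDifferential.map k k' K K').liftBaseChange K')) ∧
      Module.Finite K' (LinearMap.ker ((Algebra.H1Cotangent.map k k' K K').liftBaseChange K')) ∧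
      Module.Finite K' (Algebra.H1Cotangent k' K' ⧸ LinearMap.range ((Algebra.H1Cotangent.map k k' K K').liftBaseChange K')) ∧
      ((Module.finrank K' (LinearMap.ker ((KaehlerDifferential.map k k' K K').liftBaseChange K')) : ℤ)
          - Module.finrank K' (Ω[K'⁄k'] ⧸ LinearMap.range ((KaehlerDifferential.map k k' K K').liftBaseChange K'))
          - Module.finrank K' (LinearMap.ker ((Algebra.H1Cotangent.map k k' K K').liftBaseChange K'))
          + Module.finrank K' (Algebra.H1Cotangent k' K' ⧸ LinearMap.range ((Algebra.H1Cotangent.map k k' K K').liftBaseChange K'))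
        = (Cardinal.toNat (Algebra.trdeg k k') : ℤ) - Cardinal.toNat (Algebra.trdeg K K')) := by
  obtain ⟨a1, a2, a3, a4, a5⟩ := index_diff_left (k := k) (K := K) (K' := K')
  obtain ⟨b1, b2, b3, b4, b5⟩ := index_diff_right (k := k) (k' := k') (K' := K')
  have hΩ : (KaehlerDifferential.map k k' K K').liftBaseChange K' =
      (KaehlerDifferential.map k k' K' K') ∘ₗ KaehlerDifferential.mapBaseChange k K K' := by
    refine LinearMap.ext fun z => ?_
    induction z using TensorProduct.induction_on with
    | zero => rw [map_zero, map_zero]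
    | add a b ha hb => rw [map_add, map_add, ha, hb]
    | tmul c w =>
      rw [LinearMap.liftBaseChange_tmul, LinearMap.comp_apply, KaehlerDifferential.mapBaseChange_tmul, map_smul]
      congr 1
      have hw : w ∈ Submodule.span K (Set.range (KaehlerDifferential.D k K)) := by
        rw [KaehlerDifferential.span_range_derivation]; trivial
      induction hw using Submodule.span_induction with
      | mem _ hx => obtain ⟨y, rfl⟩ := hx; simp [KaehlerDifferential.map_D, ← IsScalarTower.algebraMap_apply]
      | zero => simp only [map_zero]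
      | add a b _ _ ha hb => simp only [map_add, ha, hb]
      | smul a b _ hb => simp only [map_smul, LinearMap.map_smul_of_tower, hb]
  have hH : (Algebra.H1Cotangent.map k k' K K').liftBaseChange K' =
      (Algebra.H1Cotangent.map k k' K' K') ∘ₗ (Algebra.H1Cotangent.map k k K K').liftBaseChange K' := by
    refine LinearMap.ext fun z => ?_
    induction z using TensorProduct.induction_on with
    | zero => rw [map_zero, map_zero]
    | add a b ha hb => rw [map_add, map_add, ha, hb]
    | tmul c w =>
      rw [LinearMap.liftBaseChange_tmul, LinearMap.comp_apply, LinearMap.liftBaseChange_tmul, map_smul,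
        h1_map_comp (S' := K')]
  rw [hΩ, hH]
  haveI := a1; haveI := a2; haveI := a3; haveI := a4
  haveI := b1; haveI := b2; haveI := b3; haveI := b4
  obtain ⟨c1, c2⟩ := finite_comp (KaehlerDifferential.mapBaseChange k K K') (KaehlerDifferential.map k k' K' K')
  obtain ⟨c3, c4⟩ := finite_comp ((Algebra.H1Cotangent.map k k K K').liftBaseChange K') (Algebra.H1Cotangent.map k k' K' K')
  refine ⟨c1, c2, c3, c4, ?_⟩
  have h1 := LinearMap.index_comp (f := KaehlerDifferential.mapBaseChange k K K') (KaehlerDifferential.map k k' K' K')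
  have h2 := LinearMap.index_comp (f := (Algebra.H1Cotangent.map k k K K').liftBaseChange K') (Algebra.H1Cotangent.map k k' K' K')
  rw [LinearMap.index_eq_finrank_sub] at h1 h2
  omega

end Groth.Agent.S9320
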