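import Groth.Statements.S9323
import Groth.Agent.Lib.AdicSmooth.CohenFS
import Groth.Agent.Lib.AdicSmooth.PowerSeries

set_option autoImplicit false
open CAlg

namespace Groth.Agent.S9323

/-- Let `Λ` be a Cohen ring (a complete discrete valuation ring whose maximal ideal is generated by a
prime number) and `n ≥ 0`. Then `ℤ → Λ[[x_1, …, x_n]]` is formally smooth for the adic topology of
the maximal ideal of the power series ring. (`Λ` is taken in the lowest universe, where `ℤ` lives.) -/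
theorem result (Λ : Type) [CommRing Λ] [IsLocalRing Λ]
    (hΛ : CAlg.IsCohenRing Λ) (n : ℕ) :
    CAlgX.IsAdicFormallySmooth ℤ (MvPowerSeries (Fin n) Λ)
      (IsLocalRing.maximalIdeal (MvPowerSeries (Fin n) Λ)) := by
  intro E _ _ J hJ ψ hk
  obtain ⟨k, hk⟩ := hk
  have hM : ∀ f : MvPowerSeries (Fin n) Λ, MvPowerSeries.constantCoeff f ∈ IsLocalRing.maximalIdeal Λ →
      f ∈ IsLocalRing.maximalIdeal (MvPowerSeries (Fin n) Λ) := fun f hf =>
    (IsLocalRing.mem_maximalIdeal f).2 fun hu => hf (MvPowerSeries.isUnit_iff_constantCoeff.1 hu)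
  have hC : (IsLocalRing.maximalIdeal Λ).map (MvPowerSeries.C : Λ →+* MvPowerSeries (Fin n) Λ) ≤
      IsLocalRing.maximalIdeal _ := Ideal.map_le_iff_le_comap.2 fun x hx =>
    hM _ (by rw [MvPowerSeries.constantCoeff_C]; exact hx)
  obtain ⟨v, hv⟩ := Groth.Agent.AdicSmooth.exists_lift_cohen hΛ hJ
    (ψ.toRingHom.comp MvPowerSeries.C) (k := k) fun x hx => hk _ (by
      refine Ideal.pow_right_mono hC k ?_
      rw [← Ideal.map_pow]
      exact Ideal.mem_map_of_mem _ hx)
  let _ : Algebra Λ E := v.toAlgebra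
  let ψΛ : MvPowerSeries (Fin n) Λ →ₐ[Λ] E ⧸ J :=
    { ψ.toRingHom with commutes' := fun r => (RingHom.congr_fun hv r).symm }
  obtain ⟨χ, hχ⟩ := Groth.Agent.AdicSmooth.exists_continuous_lift_powerSeries
    (IsLocalRing.maximalIdeal Λ) J ⟨2, hJ⟩ ψΛ ⟨k, fun x hx => hk x (Ideal.pow_right_mono
      (sup_le hC fun f hf => hM f (by rw [show MvPowerSeries.constantCoeff f = 0 from hf]; exact zero_mem _)) k hx)⟩
  exact ⟨{ χ.toRingHom with commutes' := fun r => by simp },
    AlgHom.ext fun f => AlgHom.congr_fun hχ f⟩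

end Groth.Agent.S9323
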