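import Groth.Statements.S9324
import Groth.Agent.S0526
import Groth.Agent.S1971
import Mathlib.RingTheory.TensorProduct.Maps
import Mathlib.RingTheory.IntegralClosure.Algebra.Basic
import Mathlib.RingTheory.Spectrum.Prime.Topology

set_option autoImplicit false
universe u
open Hensel

namespace Groth.Agent.S9324

open TensorProduct in
/-- Let `(A, I) → (B, J)` be a map of pairs, i.e. `I B ⊆ J`, such that `J` and `I B` have the same
radical, and suppose `A → B` is integral. Let `A^h` be a henselization of the pair `(A, I)`, `B^h` a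
henselization of the pair `(B, J)`, and `φ : A^h → B^h` an `A`-algebra homomorphism (there is
exactly one, by the universal property of `A^h`). Then the induced map `A^h ⊗_A B → B^h` is
bijective: henselization commutes with integral base change. -/
theorem result {A B Ah Bh : Type u} [CommRing A]
    [CommRing B] [CommRing Ah] [CommRing Bh] [Algebra A B] (I : Ideal A) (J : Ideal B)
    (hIJ : I.map (algebraMap A B) ≤ J) (hrad : J.radical = (I.map (algebraMap A B)).radical)
    [Algebra.IsIntegral A B] [Algebra A Ah] (hA : Hens2.IsPairHenselization A I Ah)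
    [Algebra B Bh] [Algebra A Bh] [IsScalarTower A B Bh] (hB : Hens2.IsPairHenselization B J Bh)
    (φ : Ah →ₐ[A] Bh) :
    Function.Bijective (Algebra.TensorProduct.productMap φ (IsScalarTower.toAlgHom A B Bh)) := by
  open TensorProduct in
  have hB' : Hens2.IsPairHenselization B (I.map (algebraMap A B)) Bh :=
    (Groth.Agent.S1971.result B J _ ((PrimeSpectrum.zeroLocus_eq_iff).2 hrad) Bh).1 hB
  obtain ⟨hhB, huB⟩ := hB'
  obtain ⟨hhA, huA⟩ := hA
  let X := Ah ⊗[A] B
  let iA : Ah →+* X := (Algebra.TensorProduct.includeLeftRingHom : Ah →+* X)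
  let iB : B →+* X := (Algebra.TensorProduct.includeRight : B →ₐ[A] X).toRingHom
  haveI : Algebra.IsIntegral Ah X := ⟨fun x => by
    induction x using TensorProduct.induction_on with
    | zero => exact isIntegral_zero
    | add x y hx hy => exact hx.add hy
    | tmul a b =>
      obtain ⟨p, hp, hpb⟩ := Algebra.IsIntegral.isIntegral (R := A) b
      have h1 : IsIntegral Ah (iB b) := by
        refine ⟨p.map (algebraMap A Ah), hp.map _, ?_⟩
        rw [Polynomial.eval₂_map, show (algebraMap Ah X).comp (algebraMap A Ah) = iB.comp (algebraMap A B) from RingHom.ext fun r => by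
            show algebraMap A Ah r ⊗ₜ[A] (1 : B) = (1 : Ah) ⊗ₜ[A] algebraMap A B r
            rw [Algebra.algebraMap_eq_smul_one, Algebra.algebraMap_eq_smul_one, TensorProduct.smul_tmul],
          ← Polynomial.hom_eval₂, hpb, map_zero]
      have := (isIntegral_algebraMap (R := Ah) (A := X) (x := a)).mul h1
      rwa [show algebraMap Ah X a = a ⊗ₜ[A] (1 : B) from rfl, show iB b = (1 : Ah) ⊗ₜ[A] b from rfl,
        Algebra.TensorProduct.tmul_mul_tmul, mul_one, one_mul] at this⟩
  have hcomm : iA.comp (algebraMap A Ah) = iB.comp (algebraMap A B) := RingHom.ext fun r => by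
    show algebraMap A Ah r ⊗ₜ[A] (1 : B) = (1 : Ah) ⊗ₜ[A] algebraMap A B r
    rw [Algebra.algebraMap_eq_smul_one, Algebra.algebraMap_eq_smul_one, TensorProduct.smul_tmul]
  haveI := hhA
  have hX : HenselianRing X ((I.map (algebraMap A B)).map iB) := by
    have h := Groth.Agent.S0526.result Ah (I.map (algebraMap A Ah)) X
    rw [Ideal.map_map, ← hcomm, ← Ideal.map_map]
    exact h
  let ψ : X →ₐ[A] Bh := Algebra.TensorProduct.productMap φ (IsScalarTower.toAlgHom A B Bh)
  obtain ⟨g, hg, -⟩ := huB X ((I.map (algebraMap A B)).map iB) iB hX le_rfl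
  have h1 : ψ.toRingHom.comp g = RingHom.id Bh := by
    refine (huB Bh ((I.map (algebraMap A B)).map (algebraMap B Bh)) (algebraMap B Bh) hhB le_rfl).unique ?_ (RingHom.id_comp _)
    rw [RingHom.comp_assoc, hg]
    exact RingHom.ext fun b => by
      show ψ ((1 : Ah) ⊗ₜ[A] b) = _
      rw [Algebra.TensorProduct.productMap_apply_tmul, map_one, one_mul]; rfl
  have h2 : g.comp (φ : Ah →+* Bh) = iA := by
    refine (huA X ((I.map (algebraMap A B)).map iB) (iB.comp (algebraMap A B)) hX (by rw [Ideal.map_map])).unique ?_ hcomm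
    rw [RingHom.comp_assoc, φ.comp_algebraMap, IsScalarTower.algebraMap_eq A B Bh, ← RingHom.comp_assoc, hg]
  refine ⟨Function.LeftInverse.injective (g := g) fun x => ?_, fun y => ⟨g y, RingHom.congr_fun h1 y⟩⟩
  show g (ψ x) = x
  induction x using TensorProduct.induction_on with
  | zero => simp
  | add x y hx hy => rw [map_add, map_add, hx, hy]
  | tmul a b =>
    show g (ψ (a ⊗ₜ[A] b)) = _
    rw [Algebra.TensorProduct.productMap_apply_tmul, map_mul,
      show g (φ a) = iA a from RingHom.congr_fun h2 a,
      show g (IsScalarTower.toAlgHom A B Bh b) = iB b from RingHom.congr_fun hg b]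
    show a ⊗ₜ[A] (1 : B) * ((1 : Ah) ⊗ₜ[A] b) = _
    rw [Algebra.TensorProduct.tmul_mul_tmul, mul_one, one_mul]

end Groth.Agent.S9324
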