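import Groth.Statements.S9325
import Groth.Prelude.Def_CAlgX
import Mathlib

set_option autoImplicit false
universe u
open CAlg

namespace Groth.Agent.S9325


theorem mem_mul_of_mem_sq {A : Type u} [CommRing A] (I J : Ideal A) (g₀ : A) {L : Type u} [CommRing L] [Algebra A L]
    [Algebra (A ⧸ I) L] [IsScalarTower A (A ⧸ I) L] [IsLocalization.Away (Ideal.Quotient.mk I g₀) L]
    {c : ℕ} (f : Fin c → L) (hf : CAlgX.IsH1Regular f) (hIJ : I ≤ J)
    (hspan : Ideal.span (Set.range f) = (J.map (Ideal.Quotient.mk I)).map (algebraMap (A ⧸ I) L))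
    {x : A} (hxI : x ∈ I) (hxJ : x ∈ J ^ 2) : ∃ n : ℕ, g₀ ^ n * x ∈ I * J := by
  classical
  let φ := algebraMap A L
  have hker : ∀ a, φ a = 0 → ∃ n : ℕ, g₀ ^ n * a ∈ I := fun a ha => by
    change algebraMap A L a = 0 at ha
    rw [IsScalarTower.algebraMap_apply A (A ⧸ I) L, Ideal.Quotient.algebraMap_eq] at ha
    obtain ⟨⟨_, n, rfl⟩, hn⟩ := (IsLocalization.map_eq_zero_iff (Submonoid.powers (Ideal.Quotient.mk I g₀)) L _).1 ha
    exact ⟨n, Ideal.Quotient.eq_zero_iff_mem.1 (by rw [map_mul, map_pow]; exact hn)⟩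
  have hu : ∀ n : ℕ, IsUnit (φ (g₀ ^ n)) := fun n => by
    show IsUnit (algebraMap A L (g₀ ^ n))
    rw [IsScalarTower.algebraMap_apply A (A ⧸ I) L, Ideal.Quotient.algebraMap_eq, map_pow]
    exact IsLocalization.map_units L (⟨_, n, rfl⟩ : Submonoid.powers (Ideal.Quotient.mk I g₀))
  have hnum : ∀ z : L, ∃ (n : ℕ) (a : A), φ (g₀ ^ n) * z = φ a := fun z => by
    obtain ⟨⟨w, ⟨_, n, rfl⟩⟩, hw⟩ := IsLocalization.surj (Submonoid.powers (Ideal.Quotient.mk I g₀)) z
    obtain ⟨a, rfl⟩ := Ideal.Quotient.mk_surjective w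
    refine ⟨n, a, ?_⟩
    show algebraMap A L (g₀ ^ n) * z = algebraMap A L a
    rw [IsScalarTower.algebraMap_apply A (A ⧸ I) L, IsScalarTower.algebraMap_apply A (A ⧸ I) L a,
      Ideal.Quotient.algebraMap_eq, map_pow, mul_comm]
    exact hw
  have hj0 : ∀ i, ∃ (n : ℕ), ∃ j ∈ J, φ (g₀ ^ n) * f i = φ j := fun i => by
    have hfi : f i ∈ (J.map (Ideal.Quotient.mk I)).map (algebraMap (A ⧸ I) L) := hspan ▸ Ideal.subset_span ⟨i, rfl⟩
    obtain ⟨⟨⟨b, hb⟩, ⟨_, n, rfl⟩⟩, he⟩ :=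
      (IsLocalization.mem_map_algebraMap_iff (Submonoid.powers (Ideal.Quotient.mk I g₀)) L).1 hfi
    obtain ⟨j, hj, rfl⟩ := (Ideal.mem_map_iff_of_surjective _ Ideal.Quotient.mk_surjective).1 hb
    refine ⟨n, j, hj, ?_⟩
    show algebraMap A L (g₀ ^ n) * f i = algebraMap A L j
    rw [IsScalarTower.algebraMap_apply A (A ⧸ I) L, IsScalarTower.algebraMap_apply A (A ⧸ I) L j,
      Ideal.Quotient.algebraMap_eq, map_pow, mul_comm]
    exact he
  choose n j₁ hj₁ he using hj0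
  let N := ∑ i, n i
  let j : Fin c → A := fun i => g₀ ^ (N - n i) * j₁ i
  have hjJ : ∀ i, j i ∈ J := fun i => J.mul_mem_left _ (hj₁ i)
  have hjf : ∀ i, φ (g₀ ^ N) * f i = φ (j i) := fun i => by
    show _ = φ (g₀ ^ (N - n i) * j₁ i)
    rw [map_mul, ← he, ← mul_assoc, ← map_mul, ← pow_add,
      Nat.sub_add_cancel (Finset.single_le_sum (fun i _ => Nat.zero_le (n i)) (Finset.mem_univ i))]
  set Jj := Ideal.span (Set.range j)
  have hJj : Jj ≤ J := Ideal.span_le.2 (by rintro _ ⟨i, rfl⟩; exact hjJ i)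
  -- every element of `J` is locally in `(j) + I`
  have hJloc : ∀ z ∈ J, ∃ m : ℕ, g₀ ^ m * z ∈ Jj ⊔ I := fun z hz => by
    have hzf : φ z ∈ Ideal.span (Set.range f) := by
      rw [hspan]
      show algebraMap A L z ∈ _
      rw [IsScalarTower.algebraMap_apply A (A ⧸ I) L]
      exact Ideal.mem_map_of_mem _ (Ideal.mem_map_of_mem _ hz)
    obtain ⟨w, hw⟩ := (Submodule.mem_span_range_iff_exists_fun L).1 hzf
    choose m b hb using fun i => hnum (w i)
    let M := ∑ i, m i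
    have h0 : φ (g₀ ^ (M + N) * z - ∑ i, g₀ ^ (M - m i) * b i * j i) = 0 := by
      rw [map_sub, map_mul, ← hw, Finset.mul_sum, map_sum, sub_eq_zero]
      refine Finset.sum_congr rfl fun i _ => ?_
      rw [map_mul, map_mul, ← hb, ← hjf, smul_eq_mul, pow_add, map_mul,
        show φ (g₀ ^ M) = φ (g₀ ^ (M - m i)) * φ (g₀ ^ m i) by
          rw [← map_mul, ← pow_add, Nat.sub_add_cancel (Finset.single_le_sum (fun i _ => Nat.zero_le (m i)) (Finset.mem_univ i))]]
      ring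
    obtain ⟨k, hk⟩ := hker _ h0
    refine ⟨k + (M + N), ?_⟩
    rw [mul_sub] at hk
    rw [pow_add, mul_assoc, ← sub_add_cancel (g₀ ^ k * (g₀ ^ (M + N) * z)) (g₀ ^ k * ∑ i, g₀ ^ (M - m i) * b i * j i)]
    exact add_mem (Submodule.mem_sup_right hk) (Submodule.mem_sup_left (Ideal.mul_mem_left _ _
      (sum_mem fun i _ => Ideal.mul_mem_left _ _ (Ideal.subset_span ⟨i, rfl⟩))))
  -- squares
  have hsq : ∀ z ∈ J * J, ∃ m : ℕ, ∃ b : Fin c → A, g₀ ^ m * z - ∑ i, b i * j i ∈ I * J := fun z hz => by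
    induction hz using Submodule.mul_induction_on' with
    | mem_mul_mem p hp q hq =>
      obtain ⟨m₁, h1⟩ := hJloc p hp
      obtain ⟨m₂, h2⟩ := hJloc q hq
      obtain ⟨p', hp', y₁, hy₁, e1⟩ := Submodule.mem_sup.1 h1
      obtain ⟨q', hq', y₂, hy₂, e2⟩ := Submodule.mem_sup.1 h2
      obtain ⟨b, hb⟩ := (Submodule.mem_span_range_iff_exists_fun A).1 hp'
      refine ⟨m₁ + m₂, fun i => b i * q', ?_⟩
      have e : g₀ ^ (m₁ + m₂) * (p * q) - ∑ i, b i * q' * j i = y₂ * p' + y₁ * (g₀ ^ m₂ * q) := by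
        rw [show ∑ i, b i * q' * j i = q' * p' by
          rw [← hb, Finset.mul_sum]; exact Finset.sum_congr rfl fun i _ => by rw [smul_eq_mul]; ring]
        rw [pow_add, mul_mul_mul_comm, ← e1, ← e2]; ring
      rw [e]
      exact add_mem (Ideal.mul_mem_mul hy₂ (hJj hp')) (Ideal.mul_mem_mul hy₁ (J.mul_mem_left _ hq))
    | add p _ q _ hp hq =>
      obtain ⟨m₁, b₁, h1⟩ := hp
      obtain ⟨m₂, b₂, h2⟩ := hq
      refine ⟨m₁ + m₂, fun i => g₀ ^ m₂ * b₁ i + g₀ ^ m₁ * b₂ i, ?_⟩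
      have e : g₀ ^ (m₁ + m₂) * (p + q) - ∑ i, (g₀ ^ m₂ * b₁ i + g₀ ^ m₁ * b₂ i) * j i =
          g₀ ^ m₂ * (g₀ ^ m₁ * p - ∑ i, b₁ i * j i) + g₀ ^ m₁ * (g₀ ^ m₂ * q - ∑ i, b₂ i * j i) := by
        simp only [add_mul, Finset.sum_add_distrib, mul_sub, Finset.mul_sum, pow_add, mul_assoc, mul_add]
        ring
      rw [e]
      exact add_mem (Ideal.mul_mem_left _ _ h1) (Ideal.mul_mem_left _ _ h2)
  obtain ⟨m, b, hb⟩ := hsq x (by rwa [← pow_two])
  have hsumI : ∑ i, b i * j i ∈ I := by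
    have := sub_mem (I.mul_mem_left (g₀ ^ m) hxI) ((Ideal.mul_le_left : I * J ≤ I) hb)
    rwa [sub_sub_cancel] at this
  have hrel : ∑ i, φ (b i) * f i = 0 := by
    have h0 : φ (∑ i, b i * j i) = 0 := by
      show algebraMap A L _ = 0
      rw [IsScalarTower.algebraMap_apply A (A ⧸ I) L, Ideal.Quotient.algebraMap_eq,
        Ideal.Quotient.eq_zero_iff_mem.2 hsumI, map_zero]
    rw [map_sum] at h0
    refine (hu N).mul_right_eq_zero.1 ?_
    rw [Finset.mul_sum, ← h0]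
    exact Finset.sum_congr rfl fun i _ => by rw [map_mul, ← hjf]; ring
  have hkey : ∃ (k : ℕ) (v : Fin c → A), ∑ i, v i * j i = 0 ∧ ∀ i, φ (g₀ ^ k) * φ (b i) = φ (v i) := by
    suffices H : ∀ a ∈ Submodule.span L {v : Fin c → L | ∃ p q : Fin c, v = Pi.single p (f q) - Pi.single q (f p)},
        ∃ (k : ℕ) (v : Fin c → A), ∑ i, v i * j i = 0 ∧ ∀ i, φ (g₀ ^ k) * a i = φ (v i) from
      H _ (hf (fun i => φ (b i)) hrel)
    intro a ha
    induction ha using Submodule.span_induction with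
    | mem v hv =>
      obtain ⟨p, q, rfl⟩ := hv
      refine ⟨N, Pi.single p (j q) - Pi.single q (j p), ?_, fun i => ?_⟩
      · simp only [Pi.sub_apply, sub_mul, Finset.sum_sub_distrib, Pi.single_apply, ite_mul, zero_mul,
          Finset.sum_ite_eq', Finset.mem_univ, if_true]
        ring
      · simp only [Pi.sub_apply, Pi.single_apply, mul_sub, mul_ite, mul_zero, map_sub]
        rw [apply_ite φ, apply_ite φ, map_zero, hjf, hjf]
    | zero => exact ⟨0, 0, by simp, by simp⟩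
    | add p q _ _ hp hq =>
      obtain ⟨k₁, v₁, s1, e1⟩ := hp
      obtain ⟨k₂, v₂, s2, e2⟩ := hq
      refine ⟨k₁ + k₂, g₀ ^ k₂ • v₁ + g₀ ^ k₁ • v₂, ?_, fun i => ?_⟩
      · simp only [Pi.add_apply, Pi.smul_apply, smul_eq_mul, add_mul, mul_assoc, Finset.sum_add_distrib,
          ← Finset.mul_sum, s1, s2, mul_zero, add_zero]
      · simp only [Pi.add_apply, Pi.smul_apply, smul_eq_mul, map_add, map_mul, pow_add, ← e1, ← e2]
        ring
    | smul a p _ hp =>
      obtain ⟨k₁, v₁, s1, e1⟩ := hp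
      obtain ⟨k₂, a', ha'⟩ := hnum a
      refine ⟨k₂ + k₁, a' • v₁, ?_, fun i => ?_⟩
      · simp only [Pi.smul_apply, smul_eq_mul, mul_assoc, ← Finset.mul_sum, s1, mul_zero]
      · simp only [Pi.smul_apply, smul_eq_mul, map_mul, pow_add, ← e1, ← ha']
        ring
  obtain ⟨k, v, hv, hev⟩ := hkey
  choose l hl using fun i => hker (g₀ ^ k * b i - v i) (by rw [map_sub, map_mul, hev, sub_self])
  let Lsum := ∑ i, l i
  refine ⟨Lsum + k + m, ?_⟩
  have hy : ∑ i, g₀ ^ Lsum * (g₀ ^ k * b i - v i) * j i ∈ I * J := sum_mem fun i _ =>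
    Ideal.mul_mem_mul (by
      rw [show g₀ ^ Lsum = g₀ ^ (Lsum - l i) * g₀ ^ l i by
        rw [← pow_add, Nat.sub_add_cancel (Finset.single_le_sum (fun i _ => Nat.zero_le (l i)) (Finset.mem_univ i))],
        mul_assoc]
      exact I.mul_mem_left _ (hl i)) (hjJ i)
  have hrw : ∑ i, g₀ ^ Lsum * (g₀ ^ k * b i - v i) * j i = g₀ ^ (Lsum + k) * ∑ i, b i * j i := by
    simp only [mul_sub, sub_mul, Finset.sum_sub_distrib, mul_assoc, ← Finset.mul_sum, hv, mul_zero, sub_zero]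
    rw [pow_add, mul_assoc]
  rw [hrw] at hy
  have := add_mem ((I * J).mul_mem_left (g₀ ^ (Lsum + k)) hb) hy
  rwa [mul_sub, sub_add_cancel, ← mul_assoc, ← pow_add] at this


/-- Let `A` be a ring and `I ⊆ J` ideals of `A` such that the ideal `J/I` of `A/I` is `H_1`-regular: for
every prime `𝔮` of `A/I` containing `J/I` there is `g ∉ 𝔮` such that the extension of `J/I` to
`(A/I)_g` is generated by an `H_1`-regular sequence (a finite sequence all of whose linear relations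
are combinations of the trivial ones). Then `I ∩ J² = I J`. -/
theorem result {A : Type u} [CommRing A] (I J : Ideal A)
    (hIJ : I ≤ J)
    (h : ∀ (𝔮 : Ideal (A ⧸ I)) [𝔮.IsPrime], J.map (Ideal.Quotient.mk I) ≤ 𝔮 →
      ∃ g : A ⧸ I, g ∉ 𝔮 ∧ ∃ (c : ℕ) (f : Fin c → Localization.Away g),
        CAlgX.IsH1Regular f ∧
          Ideal.span (Set.range f) =
            (J.map (Ideal.Quotient.mk I)).map (algebraMap (A ⧸ I) (Localization.Away g))) :
    I ⊓ J ^ 2 = I * J := by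
  refine le_antisymm (fun x hx => ?_) (le_inf Ideal.mul_le_left ?_)
  · obtain ⟨hxI, hxJ⟩ := Ideal.mem_inf.1 hx
    suffices (I * J).colon {x} = ⊤ by
      have h1 := (Ideal.eq_top_iff_one _).1 this
      rwa [Submodule.mem_colon_singleton, one_smul] at h1
    by_contra hne
    obtain ⟨m, hm, hle⟩ := Ideal.exists_le_maximal _ hne
    by_cases hJm : J ≤ m
    · haveI : (m.map (Ideal.Quotient.mk I)).IsPrime :=
        Ideal.map_isPrime_of_surjective Ideal.Quotient.mk_surjective (by rw [Ideal.mk_ker]; exact hIJ.trans hJm)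
      obtain ⟨g, hg, c, f, hf, hspan⟩ := h (m.map (Ideal.Quotient.mk I)) (Ideal.map_mono hJm)
      obtain ⟨g₀, rfl⟩ := Ideal.Quotient.mk_surjective g
      obtain ⟨n, hn⟩ := mem_mul_of_mem_sq I J g₀ f hf hIJ hspan hxI hxJ
      have : g₀ ^ n ∈ m := hle (by rw [Submodule.mem_colon_singleton]; exact hn)
      exact hg (Ideal.mem_map_of_mem _ (hm.isPrime.mem_of_pow_mem n this))
    · obtain ⟨j, hj, hjm⟩ := SetLike.not_le_iff_exists.1 hJm
      exact hjm (hle (by
        rw [Submodule.mem_colon_singleton, smul_eq_mul]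
        exact mul_comm x j ▸ Ideal.mul_mem_mul hxI hj))
  · rw [pow_two]
    exact Ideal.mul_mono hIJ le_rfl

end Groth.Agent.S9325
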