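import Groth.Statements.S9326
import Mathlib

set_option autoImplicit false
universe u
open CAlg

namespace Groth.Agent.S9326


open Topology Filter

theorem image_eq_closure {N M : Type u} [AddCommGroup N]
    [AddCommGroup M] [UniformSpace N] [IsUniformAddGroup N] [TopologicalSpace M]
    [IsTopologicalAddGroup M] [T2Space M] [CompleteSpace N] [NonarchimedeanAddGroup N]
    [FirstCountableTopology N] (u : N →+ M) (hu : Continuous u)
    (h : ∀ V : OpenAddSubgroup N, IsOpen ((V.toAddSubgroup.map u).topologicalClosure : Set M))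
    (V : OpenAddSubgroup N) :
    u '' (V : Set N) = closure (u '' (V : Set N)) := by
  classical
  obtain ⟨W, hW⟩ := (𝓝 (0 : N)).exists_antitone_basis
  choose U hU using fun n => NonarchimedeanAddGroup.is_nonarchimedean (W n) (hW.1.mem_of_mem (i := n) trivial)
  let Vs : ℕ → OpenAddSubgroup N := Nat.rec V fun k P => P ⊓ U k
  have hVs : Antitone Vs := antitone_nat_of_succ_le fun k => inf_le_left
  have hbasis : ∀ S ∈ 𝓝 (0 : N), ∃ n : ℕ, SetLike.coe (Vs n) ⊆ S := fun S hS => by
    obtain ⟨n, -, hn⟩ := hW.1.mem_iff.1 hS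
    exact ⟨n + 1, fun x (hx : x ∈ Vs n ⊓ U n) => hn (hU n hx.2)⟩
  let C : ℕ → AddSubgroup M := fun n => ((Vs n).toAddSubgroup.map u).topologicalClosure
  have hC : ∀ n, (C n : Set M) = closure (u '' SetLike.coe (Vs n)) := fun n => rfl
  refine Set.Subset.antisymm subset_closure fun y hy => ?_
  have step : ∀ (n : ℕ) (r : M), r ∈ C n → ∃ x ∈ Vs n, r - u x ∈ C (n + 1) := by
    intro n r hr
    have ho : IsOpen ((fun z => r - z) ⁻¹' (C (n + 1) : Set M)) :=
      (h (Vs (n + 1))).preimage (continuous_const.sub continuous_id)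
    obtain ⟨_, hz, x, hx, rfl⟩ := mem_closure_iff.1 (hr : r ∈ closure (u '' SetLike.coe (Vs n))) _ ho
      (show r - r ∈ C (n + 1) by rw [sub_self]; exact zero_mem _)
    exact ⟨x, hx, hz⟩
  choose g hg1 hg2 using step
  let r : (n : ℕ) → {r : M // r ∈ C n} := fun n => n.rec ⟨y, hy⟩ fun k p => ⟨p.1 - u (g k p.1 p.2), hg2 k p.1 p.2⟩
  let x : ℕ → N := fun n => g n (r n).1 (r n).2
  let s : ℕ → N := fun n => ∑ i ∈ Finset.range n, x i
  have hr : ∀ n, (r n).1 = y - u (s n) := by
    intro n
    induction n with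
    | zero => simp [r, s]
    | succ k ih =>
      show (r k).1 - u (x k) = _
      rw [ih]
      simp only [s, Finset.sum_range_succ, map_add]
      abel
  have hx : ∀ n, x n ∈ Vs n := fun n => hg1 n (r n).1 (r n).2
  have hs : CauchySeq s := by
    refine NonarchimedeanAddGroup.cauchySeq_of_tendsto_sub_nhds_zero ?_
    have : (fun n => s (n + 1) - s n) = x := funext fun n => by simp [s, Finset.sum_range_succ]
    rw [this, tendsto_def]
    intro S hS
    obtain ⟨n, hn⟩ := hbasis S hS
    exact mem_atTop_sets.2 ⟨n, fun m hm => hn (hVs hm (hx m))⟩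
  obtain ⟨l, hl⟩ := cauchySeq_tendsto_of_complete hs
  have hlV : l ∈ V := (OpenAddSubgroup.isClosed V).mem_of_tendsto hl (Eventually.of_forall fun n =>
    sum_mem fun i _ => hVs (Nat.zero_le i) (hx i))
  have hres : ∀ n, y - u l ∈ C n := fun n => by
    refine (AddSubgroup.isClosed_topologicalClosure _).mem_of_tendsto
      ((tendsto_const_nhds (x := y)).sub ((hu.tendsto l).comp hl)) ?_
    refine mem_atTop_sets.2 ⟨n, fun m hm => ?_⟩
    have h1 := (r m).2
    rw [hr m] at h1
    exact closure_mono (Set.image_mono (hVs hm)) h1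
  refine ⟨l, hlV, ?_⟩
  by_contra hne
  have hne' : y - u l ≠ 0 := sub_ne_zero.2 (Ne.symm hne)
  obtain ⟨S, hS, hSc, hSsub⟩ := exists_mem_nhds_isClosed_subset
    (isOpen_ne.mem_nhds (Ne.symm hne' : (0 : M) ≠ y - u l))
  obtain ⟨n, hn⟩ := hbasis (u ⁻¹' S) (hu.continuousAt.preimage_mem_nhds (by rwa [map_zero]))
  have : closure (u '' SetLike.coe (Vs n)) ⊆ S := closure_minimal (Set.image_subset_iff.2 hn) hSc
  exact hSsub (this (hres n)) rfl


/-- Let `u : N → M` be a continuous homomorphism of topological abelian groups. Assume `M` is Hausdorff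
and `N` is Hausdorff and complete, linearly topologized (every neighbourhood of zero contains an
open subgroup) and first countable (zero has a countable basis of neighbourhoods). Then exactly one
of two things holds: `u` is an open map; or there is an open subgroup of `N` whose image is nowhere
dense in `M`. -/
theorem result {N M : Type u} [AddCommGroup N]
    [AddCommGroup M] [UniformSpace N] [IsUniformAddGroup N] [TopologicalSpace M]
    [IsTopologicalAddGroup M] [T2Space M] [T2Space N] [CompleteSpace N] [NonarchimedeanAddGroup N]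
    [FirstCountableTopology N] (u : N →+ M) (hu : Continuous u) :
    Xor (IsOpenMap u) (∃ V : OpenAddSubgroup N, IsNowhereDense (u '' (V : Set N))) := by
  by_cases hex : ∃ V : OpenAddSubgroup N, IsNowhereDense (u '' (V : Set N))
  · right
    refine ⟨hex, fun ho => ?_⟩
    obtain ⟨V, hV⟩ := hex
    have h1 : interior (closure (u '' (V : Set N))) = ∅ := hV
    have h2 : u '' (V : Set N) ⊆ interior (closure (u '' (V : Set N))) :=
      interior_maximal subset_closure (ho _ V.isOpen)
    rw [h1] at h2
    exact h2 ⟨0, V.zero_mem, rfl⟩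
  · left
    refine ⟨?_, hex⟩
    push Not at hex
    have hopen : ∀ V : OpenAddSubgroup N, IsOpen ((V.toAddSubgroup.map u).topologicalClosure : Set M) := fun V => by
      obtain ⟨z, hz⟩ := Set.nonempty_iff_ne_empty.2 (hex V)
      exact AddSubgroup.isOpen_of_mem_nhds _ (mem_interior_iff_mem_nhds.1 hz)
    intro S hS
    rw [isOpen_iff_mem_nhds]
    rintro _ ⟨a, ha, rfl⟩
    have hS' : IsOpen ((fun z => a + z) ⁻¹' S) := hS.preimage (continuous_const.add continuous_id)
    obtain ⟨V, hV⟩ := NonarchimedeanAddGroup.is_nonarchimedean _ (hS'.mem_nhds (show a + 0 ∈ S by rwa [add_zero]))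
    have hVo : IsOpen (u '' (V : Set N)) := by
      rw [image_eq_closure u hu hopen V]
      exact hopen V
    have hT : IsOpen ((fun z => z - u a) ⁻¹' (u '' (V : Set N))) := hVo.preimage (continuous_id.sub continuous_const)
    refine mem_of_superset (hT.mem_nhds (show u a - u a ∈ u '' (V : Set N) from ⟨0, V.zero_mem, by simp⟩)) ?_
    rintro z ⟨v, hv, hzv⟩
    exact ⟨a + v, hV hv, by rw [map_add, hzv, add_sub_cancel]⟩

end Groth.Agent.S9326
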