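import Groth.Statements.S9629
import Groth.Agent.Lib.GeomRed18.More

set_option autoImplicit false
universe u
open CAlg

namespace Groth.Agent.S9629

open TensorProduct in
/-- For a field k and a k-algebra S the following are equivalent: (1) S is geometrically integral, i.e.
k' ⊗_k S is an integral domain for every field extension k'/k; (2) k' ⊗_k S is an integral domain
for every finite field extension k'/k; (3) k̄ ⊗_k S is an integral domain for the algebraic closure
k̄ of k. Here the test fields range over field extensions in the universe of k; this is equivalent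
to the unrestricted notion, since an algebraic closure of k suffices as a test. -/
theorem result {k S : Type u} [Field k] [CommRing S] [Algebra k S] :
    [∀ (k' : Type u) [Field k'] [Algebra k k'], IsDomain (k' ⊗[k] S),
      ∀ (k' : Type u) [Field k'] [Algebra k k'] [Module.Finite k k'], IsDomain (k' ⊗[k] S),
      IsDomain (AlgebraicClosure k ⊗[k] S)].TFAE := by
  let kb := AlgebraicClosure k
  tfae_have 1 → 2 := fun h k' _ _ _ => h k'
  tfae_have 2 → 3 := by
    intro h
    haveI := h k
    haveI : Nontrivial S := (Algebra.TensorProduct.lid k S).toEquiv.symm.nontrivial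
    haveI : Nontrivial (kb ⊗[k] S) := (Algebra.TensorProduct.includeRight_injective (A := kb) (B := S)
      (algebraMap k kb).injective).nontrivial
    suffices NoZeroDivisors (kb ⊗[k] S) from NoZeroDivisors.to_isDomain _
    refine ⟨fun {a b} hab => ?_⟩
    classical
    obtain ⟨s, hs⟩ := TensorProduct.exists_finset a
    obtain ⟨t, ht⟩ := TensorProduct.exists_finset b
    let F := IntermediateField.adjoin k (((s ∪ t).image Prod.fst : Finset kb) : Set kb)
    haveI : FiniteDimensional k F := IntermediateField.finiteDimensional_adjoin fun x _ => Algebra.IsIntegral.isIntegral x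
    haveI := h F
    let ι := Algebra.TensorProduct.map F.val (AlgHom.id k S)
    have hι : Function.Injective ι := Module.Flat.rTensor_preserves_injective_linearMap F.val.toLinearMap F.val.injective
    have lift : ∀ (r : Finset (kb × S)), (∀ i ∈ r, i ∈ s ∪ t) → ∃ a', ι a' = ∑ i ∈ r, i.1 ⊗ₜ[k] i.2 := fun r hr => by
      refine ⟨∑ i ∈ r.attach, (⟨i.1.1, IntermediateField.subset_adjoin k _ (Finset.mem_coe.mpr (Finset.mem_image_of_mem _ (hr i.1 i.2)))⟩ : F) ⊗ₜ[k] i.1.2, ?_⟩
      rw [map_sum]
      exact Finset.sum_attach r (fun i => i.1 ⊗ₜ[k] i.2)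
    obtain ⟨a', ha'⟩ := lift s (fun i hi => Finset.mem_union_left _ hi)
    obtain ⟨b', hb'⟩ := lift t (fun i hi => Finset.mem_union_right _ hi)
    rw [← hs] at ha'
    rw [← ht] at hb'
    rw [← ha', ← hb', ← map_mul, map_eq_zero_iff _ hι, mul_eq_zero] at hab
    exact hab.imp (fun h' => by rw [← ha', h', map_zero]) (fun h' => by rw [← hb', h', map_zero])
  tfae_have 3 → 1 := by
    intro h K _ _
    let L := AlgebraicClosure K
    letI : Algebra kb L := (IsAlgClosed.lift (R := k) (S := kb) (M := L)).toAlgebra
    haveI : IsScalarTower k kb L :=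
      IsScalarTower.of_algebraMap_eq' (IsAlgClosed.lift (R := k) (S := kb) (M := L)).comp_algebraMap.symm
    haveI : IsDomain (L ⊗[kb] (kb ⊗[k] S)) := GeomIrr.isDomain_tensor L (kb ⊗[k] S)
    haveI : IsDomain (L ⊗[k] S) := (Algebra.TensorProduct.cancelBaseChange k kb L L S).symm.toRingEquiv.injective.isDomain
    exact Function.Injective.isDomain (Algebra.TensorProduct.map (IsScalarTower.toAlgHom k K L) (AlgHom.id k S)).toRingHom
      (Module.Flat.rTensor_preserves_injective_linearMap _ (RingHom.injective _))
  tfae_finish

end Groth.Agent.S9629
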