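import Groth.Statements.S9327
import Groth.Agent.Lib.Branch14At27.Tensor
import Groth.Agent.Lib.Hens15.Quotient
import Groth.Agent.Lib.Branch14.Main
import Groth.Agent.S9628
import Groth.Agent.S9629
-- import your own Groth.Agent.* helpers here

set_option autoImplicit false
universe u
open Hensel

namespace Groth.Agent.S9327

theorem comap_mem_minimalPrimes {R T : Type u} [CommRing R] [CommRing T] {f : R →+* T}
    (hf : f.Flat) (Q : Ideal T) (hQ : Q ∈ minimalPrimes T) : Q.comap f ∈ minimalPrimes R :=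
  letI := f.toAlgebra
  haveI : Module.Flat R T := hf
  Branch14.comap_mem_minimalPrimes_of_flat Q hQ

open TensorProduct in
theorem flat_includes {k A B : Type u} [Field k] [CommRing A] [CommRing B] [Algebra k A] [Algebra k B] :
    (Algebra.TensorProduct.includeLeft : A →ₐ[k] A ⊗[k] B).toRingHom.Flat ∧
      (Algebra.TensorProduct.includeRight : B →ₐ[k] A ⊗[k] B).toRingHom.Flat := by
  refine ⟨RingHom.flat_algebraMap_iff.2 inferInstance, ?_⟩
  have h : (algebraMap B (B ⊗[k] A)).Flat := RingHom.flat_algebraMap_iff.2 inferInstance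
  have := h.comp (RingHom.Flat.of_bijective (f := (Algebra.TensorProduct.comm k B A).toRingEquiv.toRingHom)
    (Algebra.TensorProduct.comm k B A).bijective)
  convert this using 1
  exact RingHom.ext fun b => by simp

open TensorProduct in
theorem isDomain_tensor {k A B : Type u} [Field k] [IsAlgClosed k] [CommRing A] [IsDomain A] [CommRing B]
    [IsDomain B] [Algebra k A] [Algebra k B] : IsDomain (A ⊗[k] B) := by
  refine S9628.result ((S9629.result (k := k) (S := B)).out 1 0 |>.1 ?_)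
  intro L _ _ _
  let e : k ≃ₐ[k] L := AlgEquiv.ofBijective (Algebra.ofId k L)
    (IsAlgClosed.algebraMap_bijective_of_isIntegral (k := k) (K := L))
  exact ((Algebra.TensorProduct.congr e.symm AlgEquiv.refl).trans
    (Algebra.TensorProduct.lid k B)).toRingEquiv.toMulEquiv.isDomain B

/-- A quotient of a henselian local ring with separably closed residue field that is a domain is
geometrically unibranch. -/
theorem isGeomUnibranch_quotient {A : Type u} [CommRing A] [HenselianLocalRing A]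
    [IsSepClosed (IsLocalRing.ResidueField A)] (p : Ideal A) [p.IsPrime] [IsLocalRing (A ⧸ p)]
    [IsLocalHom (algebraMap (A ⧸ p) (A ⧸ p.map (algebraMap A A)))]
    [IsLocalRing (A ⧸ p.map (algebraMap A A))] : CAlg2.IsGeomUnibranch (A ⧸ p) := by
  haveI := Hens.isStrictHenselization_self A
  haveI := Hens15.isStrictHenselization_quotient (S := A) p
  rw [Branch14.isGeomUnibranch_iff (A ⧸ p) (A ⧸ p.map (algebraMap A A))]
  have he : p.map (algebraMap A A) = p := Ideal.map_id p
  haveI : (p.map (algebraMap A A)).IsPrime := by rw [he]; infer_instance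
  exact ⟨⊥, ⟨⟨Ideal.isPrime_bot, le_rfl⟩, fun q _ _ => bot_le⟩,
    fun q hq => eq_bot_iff.2 (hq.2 ⟨Ideal.isPrime_bot, le_rfl⟩ bot_le)⟩


open TensorProduct IsLocalRing in
/-- Let `k` be an algebraically closed field and `A`, `B` henselian local `k`-algebras with residue
field `k` (the composites `k → A → A/m_A` and `k → B → B/m_B` are bijective; as `k` is algebraically
closed, `A` and `B` are strictly henselian). Let `𝔪 = m_A ⊗ B + A ⊗ m_B`, a maximal ideal of `A ⊗_k
B`, and let `C` be a strict henselization of the local ring `(A ⊗_k B)_𝔪`. Then sending a prime of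
`C` to the pair of its preimages in `A` and in `B` is a bijection from the set of minimal primes of
`C` onto the set of pairs (minimal prime of `A`, minimal prime of `B`). -/
theorem result {k A B C : Type u} [Field k]
    [IsAlgClosed k] [CommRing A] [CommRing B] [HenselianLocalRing A] [HenselianLocalRing B]
    [Algebra k A] [Algebra k B]
    (hA : Function.Bijective ((residue A).comp (algebraMap k A)))
    (hB : Function.Bijective ((residue B).comp (algebraMap k B)))
    (𝔪 : Ideal (A ⊗[k] B)) [𝔪.IsPrime]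
    (h𝔪 : 𝔪 = (maximalIdeal A).map (Algebra.TensorProduct.includeLeft : A →ₐ[k] A ⊗[k] B) ⊔
      (maximalIdeal B).map (Algebra.TensorProduct.includeRight : B →ₐ[k] A ⊗[k] B))
    [CommRing C] [IsLocalRing C] [Algebra (Localization.AtPrime 𝔪) C]
    [IsLocalHom (algebraMap (Localization.AtPrime 𝔪) C)]
    [Hensel.IsStrictHenselization (Localization.AtPrime 𝔪) C] :
    Set.BijOn
      (fun 𝔯 : Ideal C =>
        (𝔯.comap ((algebraMap (Localization.AtPrime 𝔪) C).comp
            ((algebraMap (A ⊗[k] B) (Localization.AtPrime 𝔪)).comp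
              (Algebra.TensorProduct.includeLeft : A →ₐ[k] A ⊗[k] B).toRingHom)),
          𝔯.comap ((algebraMap (Localization.AtPrime 𝔪) C).comp
            ((algebraMap (A ⊗[k] B) (Localization.AtPrime 𝔪)).comp
              (Algebra.TensorProduct.includeRight : B →ₐ[k] A ⊗[k] B).toRingHom))))
      (minimalPrimes C) (minimalPrimes A ×ˢ minimalPrimes B) := by
  let ιA : A →+* A ⊗[k] B := (Algebra.TensorProduct.includeLeft : A →ₐ[k] A ⊗[k] B).toRingHom
  let ιB : B →+* A ⊗[k] B := (Algebra.TensorProduct.includeRight : B →ₐ[k] A ⊗[k] B).toRingHom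
  let L := Localization.AtPrime 𝔪
  let φ : A ⊗[k] B →+* C := (algebraMap L C).comp (algebraMap (A ⊗[k] B) L)
  have hfA : ιA.Flat := flat_includes.1
  have hfB : ιB.Flat := flat_includes.2
  haveI := Hens.strictHenselization_faithfullyFlat L C
  have hfφ : φ.Flat := (RingHom.flat_algebraMap_iff.2
    (IsLocalization.flat L 𝔪.primeCompl)).comp (RingHom.flat_algebraMap_iff.2 inferInstance)
  haveI : IsSepClosed (ResidueField A) :=
    haveI := IsAlgClosed.of_ringEquiv k _ (RingEquiv.ofBijective _ hA)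
    inferInstance
  haveI : IsSepClosed (ResidueField B) :=
    haveI := IsAlgClosed.of_ringEquiv k _ (RingEquiv.ofBijective _ hB)
    inferInstance
  suffices key : ∀ p ∈ minimalPrimes A, ∀ q ∈ minimalPrimes B,
      ∃! r : Ideal C, r ∈ minimalPrimes C ∧ r.comap (φ.comp ιA) = p ∧ r.comap (φ.comp ιB) = q by
    refine ⟨fun r hr => ?_, fun r hr r' hr' h => ?_, fun pq hpq => ?_⟩
    · exact ⟨comap_mem_minimalPrimes (hfA.comp hfφ) r hr, comap_mem_minimalPrimes (hfB.comp hfφ) r hr⟩
    · obtain ⟨h1, h2⟩ := Prod.mk.inj h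
      exact (key _ (comap_mem_minimalPrimes (hfA.comp hfφ) r hr) _
        (comap_mem_minimalPrimes (hfB.comp hfφ) r hr)).unique ⟨hr, rfl, rfl⟩
          ⟨hr', h1.symm, h2.symm⟩
    · obtain ⟨r, ⟨hr, h1, h2⟩, -⟩ := key _ hpq.1 _ hpq.2
      exact ⟨r, hr, Prod.ext h1 h2⟩
  intro p hp q hq
  haveI := hp.1.1
  haveI := hq.1.1
  let π : A ⊗[k] B →ₐ[k] (A ⧸ p) ⊗[k] (B ⧸ q) :=
    Algebra.TensorProduct.map (Ideal.Quotient.mkₐ k p) (Ideal.Quotient.mkₐ k q)
  have hπs : Function.Surjective π :=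
    TensorProduct.map_surjective (g := (Ideal.Quotient.mkₐ k p).toLinearMap)
      (g' := (Ideal.Quotient.mkₐ k q).toLinearMap) Ideal.Quotient.mk_surjective Ideal.Quotient.mk_surjective
  haveI := isDomain_tensor (k := k) (A := A ⧸ p) (B := B ⧸ q)
  set P := RingHom.ker π with hP
  haveI : P.IsPrime := RingHom.ker_isPrime π
  have hPeq : P = p.map (Algebra.TensorProduct.includeLeft : A →ₐ[k] A ⊗[k] B) ⊔
      q.map (Algebra.TensorProduct.includeRight : B →ₐ[k] A ⊗[k] B) := by
    rw [hP]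
    erw [Algebra.TensorProduct.map_ker _ _ Ideal.Quotient.mk_surjective Ideal.Quotient.mk_surjective]
    congr 2 <;> exact Ideal.mk_ker
  have hP𝔪 : P ≤ 𝔪 := by
    rw [hPeq, h𝔪]
    exact sup_le_sup (Ideal.map_mono (le_maximalIdeal Ideal.IsPrime.ne_top'))
      (Ideal.map_mono (le_maximalIdeal Ideal.IsPrime.ne_top'))
  -- the prime `P` is minimal, and the only minimal prime over `(p, q)`
  have hover : ∀ Q ∈ minimalPrimes (A ⊗[k] B), Q.comap ιA = p → Q.comap ιB = q → Q = P := by
    intro Q hQ h1 h2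
    have hle : P ≤ Q := by
      rw [hPeq]
      exact sup_le (Ideal.map_le_iff_le_comap.2 h1.ge) (Ideal.map_le_iff_le_comap.2 h2.ge)
    exact le_antisymm (hQ.2 ⟨‹P.IsPrime›, bot_le⟩ hle) hle
  obtain ⟨P₀, hP₀, hP₀le⟩ := Ideal.exists_minimalPrimes_le (I := (⊥ : Ideal (A ⊗[k] B))) (J := P) bot_le
  have hPA : P.comap ιA ≤ p := fun a ha => by
    have h1 : (Ideal.Quotient.mk p a) ⊗ₜ[k] (1 : B ⧸ q) = 0 := ha
    refine Ideal.Quotient.eq_zero_iff_mem.1
      ((Algebra.TensorProduct.includeLeft_injective (R := k) (A := A ⧸ p) (B := B ⧸ q) (S := k) ?_) ?_)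
    · exact (algebraMap k (B ⧸ q)).injective
    · rw [map_zero]; exact h1
  have hPB : P.comap ιB ≤ q := fun b hb => by
    have h1 : (1 : A ⧸ p) ⊗ₜ[k] (Ideal.Quotient.mk q b) = 0 := by
      have : π ((1 : A) ⊗ₜ[k] b) = 0 := hb
      simpa [π] using this
    refine Ideal.Quotient.eq_zero_iff_mem.1
      ((Algebra.TensorProduct.includeRight_injective (R := k) (A := A ⧸ p) (B := B ⧸ q) ?_) ?_)
    · exact (algebraMap k (A ⧸ p)).injective
    · rw [map_zero]; exact h1
  have hPmin : P ∈ minimalPrimes (A ⊗[k] B) := by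
    haveI := hP₀.1.1
    have hA0 := comap_mem_minimalPrimes hfA P₀ hP₀
    have hB0 := comap_mem_minimalPrimes hfB P₀ hP₀
    have e1 : P₀.comap ιA = p := le_antisymm ((Ideal.comap_mono hP₀le).trans hPA)
      (hp.2 ⟨hA0.1.1, bot_le⟩ ((Ideal.comap_mono hP₀le).trans hPA))
    have e2 : P₀.comap ιB = q := le_antisymm ((Ideal.comap_mono hP₀le).trans hPB)
      (hq.2 ⟨hB0.1.1, bot_le⟩ ((Ideal.comap_mono hP₀le).trans hPB))
    exact hover P₀ hP₀ e1 e2 ▸ hP₀
  have hPA' : P.comap ιA = p := le_antisymm hPA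
    (hp.2 ⟨inferInstance, bot_le⟩ hPA)
  have hPB' : P.comap ιB = q := le_antisymm hPB
    (hq.2 ⟨inferInstance, bot_le⟩ hPB)
  -- the prime of the localization, and the quotient
  let PL : Ideal L := P.map (algebraMap (A ⊗[k] B) L)
  have hdisj : Disjoint (𝔪.primeCompl : Set (A ⊗[k] B)) P :=
    Set.disjoint_left.2 fun x hx hxP => hx (hP𝔪 hxP)
  haveI : PL.IsPrime := IsLocalization.isPrime_of_isPrime_disjoint 𝔪.primeCompl L P inferInstance hdisj
  have hPL : PL.comap (algebraMap (A ⊗[k] B) L) = P :=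
    IsLocalization.under_map_of_isPrime_disjoint 𝔪.primeCompl L inferInstance hdisj
  let J : Ideal C := PL.map (algebraMap L C)
  have hJcomap : J.comap (algebraMap L C) = PL := Ideal.comap_map_eq_self_of_faithfullyFlat PL
  have hJne : J ≠ ⊤ := fun h => Ideal.IsPrime.ne_top (I := PL) inferInstance
    (by rw [← hJcomap, h, Ideal.comap_top])
  haveI : Nontrivial (C ⧸ J) := Ideal.Quotient.nontrivial_iff.2 hJne
  haveI : IsLocalRing (C ⧸ J) := IsLocalRing.of_surjective' (Ideal.Quotient.mk J) Ideal.Quotient.mk_surjective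
  haveI : IsLocalRing (L ⧸ PL) := IsLocalRing.of_surjective' (Ideal.Quotient.mk PL) Ideal.Quotient.mk_surjective
  haveI : IsLocalHom (algebraMap (L ⧸ PL) (C ⧸ PL.map (algebraMap L C))) := ⟨fun x hx => by
    obtain ⟨x, rfl⟩ := Ideal.Quotient.mk_surjective x
    haveI : IsLocalHom (Ideal.Quotient.mk J) := IsLocalHom.of_surjective _ Ideal.Quotient.mk_surjective
    rw [Ideal.Quotient.algebraMap_quotient_map_quotient] at hx
    exact (isUnit_of_map_unit (algebraMap L C) x (isUnit_of_map_unit (Ideal.Quotient.mk J) _ hx)).map _⟩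
  haveI : IsLocalRing (C ⧸ PL.map (algebraMap L C)) := ‹IsLocalRing (C ⧸ J)›
  haveI := Hens15.isStrictHenselization_quotient (S := C) PL
  -- geometric unibranchness of the quotient
  have hGU : CAlg2.IsGeomUnibranch (L ⧸ PL) := by
    haveI : IsLocalRing (A ⧸ p) := IsLocalRing.of_surjective' (Ideal.Quotient.mk p) Ideal.Quotient.mk_surjective
    haveI : IsLocalRing (B ⧸ q) := IsLocalRing.of_surjective' (Ideal.Quotient.mk q) Ideal.Quotient.mk_surjective
    haveI : Nontrivial (A ⧸ p.map (algebraMap A A)) :=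
      Ideal.Quotient.nontrivial_iff.2 (by rw [Algebra.algebraMap_self, Ideal.map_id]; exact Ideal.IsPrime.ne_top')
    haveI : Nontrivial (B ⧸ q.map (algebraMap B B)) :=
      Ideal.Quotient.nontrivial_iff.2 (by rw [Algebra.algebraMap_self, Ideal.map_id]; exact Ideal.IsPrime.ne_top')
    haveI : IsLocalRing (A ⧸ p.map (algebraMap A A)) :=
      IsLocalRing.of_surjective' (Ideal.Quotient.mk _) Ideal.Quotient.mk_surjective
    haveI : IsLocalRing (B ⧸ q.map (algebraMap B B)) :=
      IsLocalRing.of_surjective' (Ideal.Quotient.mk _) Ideal.Quotient.mk_surjective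
    haveI : IsLocalHom (algebraMap (A ⧸ p) (A ⧸ p.map (algebraMap A A))) :=
      IsLocalHom.of_surjective _ fun y => by
        obtain ⟨a, rfl⟩ := Ideal.Quotient.mk_surjective y
        exact ⟨Ideal.Quotient.mk p a, rfl⟩
    haveI : IsLocalHom (algebraMap (B ⧸ q) (B ⧸ q.map (algebraMap B B))) :=
      IsLocalHom.of_surjective _ fun y => by
        obtain ⟨b, rfl⟩ := Ideal.Quotient.mk_surjective y
        exact ⟨Ideal.Quotient.mk q b, rfl⟩
    have gA := isGeomUnibranch_quotient (A := A) p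
    have gB := isGeomUnibranch_quotient (A := B) q
    let 𝔪' : Ideal ((A ⧸ p) ⊗[k] (B ⧸ q)) := 𝔪.map π
    haveI : 𝔪'.IsPrime := Ideal.map_isPrime_of_surjective hπs hP𝔪
    have h𝔪' : 𝔪'.comap π = 𝔪 :=
      (Ideal.comap_map_of_surjective _ hπs 𝔪).trans (sup_eq_left.2 hP𝔪)
    have hA' : 𝔪'.comap (Algebra.TensorProduct.includeLeft :
        A ⧸ p →ₐ[k] (A ⧸ p) ⊗[k] (B ⧸ q)).toRingHom = maximalIdeal (A ⧸ p) := by
      refine ((IsLocalRing.maximalIdeal.isMaximal _).eq_of_le (Ideal.IsPrime.comap _).ne_top ?_).symm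
      intro x hx
      obtain ⟨a, rfl⟩ := Ideal.Quotient.mk_surjective x
      have ha : a ∈ maximalIdeal A := fun hu => hx (hu.map _)
      have hm : a ⊗ₜ[k] (1 : B) ∈ 𝔪 := by
        rw [h𝔪]; exact Ideal.mem_sup_left (Ideal.mem_map_of_mem _ ha)
      exact Ideal.mem_map_of_mem π hm
    have hB' : 𝔪'.comap (Algebra.TensorProduct.includeRight :
        B ⧸ q →ₐ[k] (A ⧸ p) ⊗[k] (B ⧸ q)).toRingHom = maximalIdeal (B ⧸ q) := by
      refine ((IsLocalRing.maximalIdeal.isMaximal _).eq_of_le (Ideal.IsPrime.comap _).ne_top ?_).symm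
      intro x hx
      obtain ⟨b, rfl⟩ := Ideal.Quotient.mk_surjective x
      have hb : b ∈ maximalIdeal B := fun hu => hx (hu.map _)
      have hm : (1 : A) ⊗ₜ[k] b ∈ 𝔪 := by
        rw [h𝔪]; exact Ideal.mem_sup_right (Ideal.mem_map_of_mem _ hb)
      have := Ideal.mem_map_of_mem π hm
      simpa [π] using this
    have g := Branch14At27.isGeomUnibranch_tensor_atPrime gA gB 𝔪' hA' hB'
    let ψ : L →+* Localization.AtPrime 𝔪' := Localization.localRingHom 𝔪 𝔪' π.toRingHom h𝔪'.symm
    have hψ : ∀ x, ψ (algebraMap (A ⊗[k] B) L x) = algebraMap _ (Localization.AtPrime 𝔪') (π x) :=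
      fun x => Localization.localRingHom_to_map 𝔪 𝔪' _ h𝔪'.symm x
    have hψs : Function.Surjective ψ := fun z => by
      obtain ⟨y, t, rfl⟩ := IsLocalization.exists_mk'_eq 𝔪'.primeCompl z
      obtain ⟨x, rfl⟩ := hπs y
      obtain ⟨s, hs⟩ := hπs (t : (A ⧸ p) ⊗[k] (B ⧸ q))
      have hs' : s ∈ 𝔪.primeCompl := fun h => t.2 (hs ▸ Ideal.mem_map_of_mem π h)
      refine ⟨IsLocalization.mk' L x (⟨s, hs'⟩ : 𝔪.primeCompl), ?_⟩
      show Localization.localRingHom 𝔪 𝔪' π.toRingHom h𝔪'.symm _ = _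
      rw [Localization.localRingHom_mk']
      congr 1
      exact Subtype.ext hs
    have hker : RingHom.ker ψ = PL := by
      refine le_antisymm (fun z hz => ?_) (Ideal.map_le_iff_le_comap.2 fun x hx => ?_)
      · obtain ⟨x, s, rfl⟩ := IsLocalization.exists_mk'_eq 𝔪.primeCompl z
        have h0 : algebraMap _ (Localization.AtPrime 𝔪') (π x) = 0 := by
          rw [← hψ, ← IsLocalization.mk'_spec L x s, map_mul, hz, zero_mul]
        obtain ⟨t, ht⟩ := (IsLocalization.map_eq_zero_iff 𝔪'.primeCompl _ _).1 h0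
        have hx0 : π x = 0 := (mul_eq_zero.1 ht).resolve_left fun h => t.2 (h ▸ 𝔪'.zero_mem)
        exact IsLocalization.mk'_mem_iff.2 (Ideal.mem_map_of_mem _ hx0)
      · rw [Ideal.mem_comap, RingHom.mem_ker, hψ, show π x = 0 from hx, map_zero]
    exact Branch14At27.isGeomUnibranch_of_ringEquiv
      ((Ideal.quotEquivOfEq hker.symm).trans (RingHom.quotientKerEquivOfSurjective hψs)).symm g
  obtain ⟨r₀, hr₀, hr₀u⟩ := (Branch14.isGeomUnibranch_iff (L ⧸ PL) (C ⧸ PL.map (algebraMap L C))).1 hGU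
  -- the correspondence with minimal primes of `C`
  have hJle : ∀ r ∈ minimalPrimes C, r.comap (φ.comp ιA) = p → r.comap (φ.comp ιB) = q → J ≤ r := by
    intro r hr h1 h2
    have he : r.comap φ = P :=
      hover _ (comap_mem_minimalPrimes hfφ r hr) h1 h2
    rw [Ideal.map_le_iff_le_comap, Ideal.map_le_iff_le_comap, ← he]
    exact le_rfl
  have huq : ∀ r ∈ minimalPrimes C, J ≤ r → r = r₀.comap (Ideal.Quotient.mk J) := by
    intro r hr hle
    haveI := hr.1.1
    have hmap : (r.map (Ideal.Quotient.mk J)).comap (Ideal.Quotient.mk J) = r :=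
      (Ideal.comap_map_of_surjective _ Ideal.Quotient.mk_surjective r).trans
        (sup_eq_left.2 (le_trans (by rw [← RingHom.ker_eq_comap_bot, Ideal.mk_ker]) hle))
    rw [← hr₀u (r.map (Ideal.Quotient.mk J)) ⟨⟨Ideal.map_isPrime_of_surjective Ideal.Quotient.mk_surjective
      (by rw [Ideal.mk_ker]; exact hle), bot_le⟩, fun s hs hsle => ?_⟩, hmap]
    haveI := hs.1
    have h2 : s.comap (Ideal.Quotient.mk J) ≤ r := hmap ▸ Ideal.comap_mono hsle
    exact Ideal.map_le_iff_le_comap.2 (hr.2 ⟨Ideal.IsPrime.comap _, bot_le⟩ h2)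
  obtain ⟨r', hr'⟩ := PrimeSpectrum.comap_surjective_of_faithfullyFlat (A := L) (B := C) ⟨PL, ‹_›⟩
  have hr'' : r'.asIdeal.comap φ = P := by
    rw [← Ideal.comap_comap]
    exact (congrArg (fun z : PrimeSpectrum L => z.asIdeal.comap (algebraMap (A ⊗[k] B) L)) hr').trans hPL
  obtain ⟨r, hr, hrle⟩ := Ideal.exists_minimalPrimes_le (I := (⊥ : Ideal C)) (J := r'.asIdeal) bot_le
  haveI := hr.1.1
  have hrφ : r.comap φ = P :=
    le_antisymm (hr'' ▸ Ideal.comap_mono hrle)
      (hPmin.2 ⟨Ideal.IsPrime.comap _, bot_le⟩ (hr'' ▸ Ideal.comap_mono hrle))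
  have hrA : r.comap (φ.comp ιA) = p := by rw [← Ideal.comap_comap, hrφ, hPA']
  have hrB : r.comap (φ.comp ιB) = q := by rw [← Ideal.comap_comap, hrφ, hPB']
  refine ⟨r, ⟨hr, hrA, hrB⟩, fun s hs => ?_⟩
  rw [huq s hs.1 (hJle s hs.1 hs.2.1 hs.2.2), huq r hr (hJle r hr hrA hrB)]

end Groth.Agent.S9327
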