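import Groth.Statements.S9329
import Groth.Agent.Lib.EtRamBC29.Root
import Mathlib.FieldTheory.IsAlgClosed.AlgebraicClosure
import Mathlib.FieldTheory.SeparableDegree

set_option autoImplicit false
universe u
open EtRam

namespace Groth.Agent.S9329

open Polynomial IsLocalRing in
/-- Let `K` be the fraction field of a discrete valuation ring `A`, let `π` be a uniformizer of `A`, and
let `L` be a finite separable extension of `K` which is tamely ramified with respect to `A`. Then
there is `e₀ ≥ 1` invertible in the residue field of `A` such that for each `d ≥ 1` that is also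
invertible in the residue field, setting `e = d e₀` and `A' = A[z]/(z^e - π)`, there is a finite
separable extension `L'` of `K` into which `L` embeds over `K`, carrying an `A'`-algebra structure
extending `A → K → L'`, such that `L'` is unramified with respect to `A'`. (The local-ring instance
on `A'`, which holds, is quantified as a hypothesis.) -/
theorem result
    {A K L : Type u} [CommRing A] [IsDomain A]
    [IsDiscreteValuationRing A] [Field K] [Algebra A K] [IsFractionRing A K] [Field L] [Algebra K L]
    [Algebra A L] [IsScalarTower A K L] [FiniteDimensional K L] [Algebra.IsSeparable K L]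
    (π : A) (hπ : maximalIdeal A = Ideal.span {π}) (h : EtRam.IsTamelyRamified A (algebraMap A L)) :
    ∃ e₀ : ℕ, 0 < e₀ ∧ (e₀ : ResidueField A) ≠ 0 ∧
      ∀ d : ℕ, 0 < d → (d : ResidueField A) ≠ 0 →
        ∃ (L' : Type u) (_ : Field L') (_ : Algebra K L')
          (_ : Algebra (AdjoinRoot (X ^ (d * e₀) - C π : A[X])) L') (_ : L →ₐ[K] L'),
          FiniteDimensional K L' ∧ Algebra.IsSeparable K L' ∧
          (algebraMap (AdjoinRoot (X ^ (d * e₀) - C π : A[X])) L').comp (AdjoinRoot.of (X ^ (d * e₀) - C π)) =
            (algebraMap K L').comp (algebraMap A K) ∧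
          ∀ [IsLocalRing (AdjoinRoot (X ^ (d * e₀) - C π : A[X]))],
            EtRam.IsUnramifiedExt (AdjoinRoot (X ^ (d * e₀) - C π : A[X]))
              (algebraMap (AdjoinRoot (X ^ (d * e₀) - C π : A[X])) L') := by
  classical
  have hπi : Irreducible π := (IsDiscreteValuationRing.irreducible_iff_uniformizer π).2 hπ
  refine ⟨((Finset.range (Module.finrank K L + 1)).filter (fun j : ℕ => j ≠ 0 ∧ (j : ResidueField A) ≠ 0)).prod id,
    Finset.prod_pos fun j hj => Nat.pos_of_ne_zero (Finset.mem_filter.1 hj).2.1, ?_, fun d hd hdk => ?_⟩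
  · rw [Nat.cast_prod]
    exact Finset.prod_ne_zero_iff.2 fun j hj => (Finset.mem_filter.1 hj).2.2
  set e₀ := ((Finset.range (Module.finrank K L + 1)).filter (fun j : ℕ => j ≠ 0 ∧ (j : ResidueField A) ≠ 0)).prod id with he₀
  set e := d * e₀ with he
  have hek : (e : ResidueField A) ≠ 0 := by
    rw [he, Nat.cast_mul, he₀, Nat.cast_prod]
    exact mul_ne_zero hdk (Finset.prod_ne_zero_iff.2 fun j hj => (Finset.mem_filter.1 hj).2.2)
  have he0 : 0 < e := Nat.pos_of_ne_zero fun h0 => hek (by rw [h0, Nat.cast_zero])
  have heK : (e : K) ≠ 0 := fun h0 => hek (by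
    have h1 : (e : A) = 0 := IsFractionRing.injective A K (by rwa [map_natCast, map_zero])
    rw [← map_natCast (residue A), h1, map_zero])
  obtain ⟨idom, idvr, hinjA', hlocA', hmapA', -⟩ := EtRamBC29.exists_root_dvr π hπi e he0
  haveI := idom
  haveI := idvr
  haveI := hlocA'
  let A' := AdjoinRoot (X ^ e - C π : A[X])
  let Ω := AlgebraicClosure L
  obtain ⟨x, hx⟩ := IsAlgClosed.exists_pow_nat_eq (algebraMap K Ω (algebraMap A K π)) he0
  have hπK : algebraMap A K π ≠ 0 := fun h0 => hπi.ne_zero (IsFractionRing.injective A K (h0.trans (map_zero _).symm))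
  have hxint : IsIntegral L x := ⟨X ^ e - C (algebraMap K L (algebraMap A K π)), monic_X_pow_sub_C _ he0.ne',
    by simp [hx, ← IsScalarTower.algebraMap_apply K L Ω]⟩
  have hxsep : IsSeparable L x := by
    refine Polynomial.Separable.of_dvd (separable_X_pow_sub_C (F := L) (n := e) (algebraMap K L (algebraMap A K π)) ?_ ?_) (minpoly.dvd L x ?_)
    · rw [← map_natCast (algebraMap K L)]; exact fun h0 => heK ((map_eq_zero _).1 h0)
    · exact fun h0 => hπK ((map_eq_zero _).1 h0)
    · simp [hx, ← IsScalarTower.algebraMap_apply K L Ω]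
  let L' := IntermediateField.adjoin L ({x} : Set Ω)
  haveI : FiniteDimensional L L' := IntermediateField.adjoin.finiteDimensional hxint
  haveI : FiniteDimensional K L' := Module.Finite.trans L L'
  haveI : Algebra.IsSeparable L L' := (IntermediateField.isSeparable_adjoin_simple_iff_isSeparable _ _).2 hxsep
  haveI : Algebra.IsSeparable K L' := Algebra.IsSeparable.trans K L L'
  let x' : L' := ⟨x, IntermediateField.mem_adjoin_simple_self L x⟩
  have hx' : x' ^ e = algebraMap K L' (algebraMap A K π) := Subtype.ext hx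
  have hjA : (X ^ e - C π : A[X]).eval₂ ((algebraMap K L').comp (algebraMap A K)) x' = 0 := by simp [hx']
  let jA : AdjoinRoot (X ^ e - C π : A[X]) →+* L' :=
    AdjoinRoot.lift ((algebraMap K L').comp (algebraMap A K)) x' hjA
  letI algA' : Algebra A' L' := jA.toAlgebra
  refine ⟨L', inferInstance, inferInstance, algA', IsScalarTower.toAlgHom K L L', inferInstance, inferInstance, ?_, ?_⟩
  · exact RingHom.ext fun a => AdjoinRoot.lift_of (f := X ^ e - C π) hjA
  intro _
  -- the fraction field of `A'`
  have hjof : ∀ a : A, jA (algebraMap A A' a) = algebraMap K L' (algebraMap A K a) := fun a => AdjoinRoot.lift_of (f := X ^ e - C π) hjA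
  have hjinj : Function.Injective jA := by
    rw [RingHom.injective_iff_ker_eq_bot]
    haveI : (RingHom.ker jA).IsPrime := RingHom.ker_isPrime _
    haveI : Module.Finite A A' := (monic_X_pow_sub_C π he0.ne').finite_adjoinRoot
    haveI : Algebra.IsIntegral A A' := Algebra.IsIntegral.of_finite A A'
    refine Ideal.eq_bot_of_comap_eq_bot (R := A) (eq_bot_iff.2 fun a ha => ?_)
    have h0 : algebraMap K L' (algebraMap A K a) = 0 := by rw [← hjof]; exact ha
    exact IsFractionRing.injective A K (((map_eq_zero _).1 h0).trans (map_zero _).symm)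
  let K₁ := FractionRing A'
  let jK : K₁ →+* L' := IsFractionRing.lift hjinj
  letI : Algebra K₁ L' := jK.toAlgebra
  have hinjK : Function.Injective ((algebraMap A' K₁).comp (algebraMap A A')) :=
    (IsFractionRing.injective A' K₁).comp hinjA'
  letI : Algebra K K₁ := (IsFractionRing.lift hinjK).toAlgebra
  have hKK₁ : ∀ a : A, algebraMap K K₁ (algebraMap A K a) = algebraMap A' K₁ (algebraMap A A' a) := fun a =>
    IsFractionRing.lift_algebraMap hinjK a
  have hjK : ∀ w : A', algebraMap K₁ L' (algebraMap A' K₁ w) = jA w := fun w => IsFractionRing.lift_algebraMap hjinj w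
  haveI : IsScalarTower K K₁ L' := IsScalarTower.of_algebraMap_eq' (by
    refine IsLocalization.ringHom_ext (nonZeroDivisors A) (RingHom.ext fun a => ?_)
    show algebraMap K L' (algebraMap A K a) = algebraMap K₁ L' (algebraMap K K₁ (algebraMap A K a))
    rw [hKK₁, hjK, hjof])
  haveI : FiniteDimensional K K₁ :=
    FiniteDimensional.of_injective (IsScalarTower.toAlgHom K K₁ L').toLinearMap (algebraMap K₁ L').injective
  have hgen : Algebra.adjoin L (Set.range (algebraMap K₁ L')) = ⊤ := by
    have hpb := (IntermediateField.adjoin.powerBasis hxint).adjoin_gen_eq_top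
    refine top_le_iff.1 (hpb ▸ Algebra.adjoin_mono ?_)
    rw [Set.singleton_subset_iff]
    exact ⟨algebraMap A' K₁ (AdjoinRoot.root _), (hjK _).trans (AdjoinRoot.lift_root (f := X ^ e - C π) hjA)⟩
  intro W hW
  letI : Algebra A' W := (RingHom.codRestrict _ W hW.1).toAlgebra
  intro _
  have hW1 : EtRam.Dominates A' (algebraMap A' K₁) (W.comap (algebraMap K₁ L')) := by
    refine EtRamH7.dominates_comap _ ?_
    have hc : (algebraMap K₁ L').comp (algebraMap A' K₁) = algebraMap A' L' := RingHom.ext hjK
    rw [hc]; exact hW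
  letI : Algebra A' (W.comap (algebraMap K₁ L')) := (RingHom.codRestrict (algebraMap A' K₁) _ hW1.1).toAlgebra
  haveI : IsLocalHom (algebraMap A' (W.comap (algebraMap K₁ L'))) := EtRamH7.isLocalHom_cod hW1
  have hbij : Function.Bijective (algebraMap A' (W.comap (algebraMap K₁ L'))) :=
    ⟨fun a b hab => IsFractionRing.injective A' K₁ (congrArg Subtype.val hab), EtRamBC29.surjective_cod _ hW1⟩
  haveI : IsDiscreteValuationRing (W.comap (algebraMap K₁ L')) :=
    IsDiscreteValuationRing.RingEquivClass.isDiscreteValuationRing (RingEquiv.ofBijective _ hbij)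
  have hwB : EtRam.IsWeaklyUnramified A' (W.comap (algebraMap K₁ L')) := by
    refine le_antisymm (((IsLocalRing.local_hom_TFAE (algebraMap A' (W.comap (algebraMap K₁ L')))).out 0 2 rfl rfl).1 inferInstance) fun y hy => ?_
    obtain ⟨b, rfl⟩ := hbij.2 y
    exact Ideal.mem_map_of_mem _ ((IsLocalRing.mem_maximalIdeal b).2 fun hu => (IsLocalRing.mem_maximalIdeal _).1 hy (hu.map _))
  have hA1 : EtRam.Dominates A ((algebraMap K K₁).comp (algebraMap A K)) (W.comap (algebraMap K₁ L')) :=
    ⟨fun a => by rw [RingHom.comp_apply, hKK₁]; exact hW1.1 _, fun a ha => by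
      rw [RingHom.comp_apply, hKK₁]
      exact hW1.2 _ (((IsLocalRing.local_hom_TFAE (algebraMap A A')).out 0 2 rfl rfl).1 inferInstance (Ideal.mem_map_of_mem _ ha))⟩
  have hAW : EtRam.Dominates A ((algebraMap L L').comp ((algebraMap K L).comp (algebraMap A K))) W := by
    have hc : (algebraMap L L').comp ((algebraMap K L).comp (algebraMap A K)) = (algebraMap K₁ L').comp ((algebraMap K K₁).comp (algebraMap A K)) := by
      rw [← RingHom.comp_assoc, ← IsScalarTower.algebraMap_eq K L L', ← RingHom.comp_assoc, ← IsScalarTower.algebraMap_eq K K₁ L']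
    rw [hc]
    exact EtRamH7.dominates_trans hA1 _ (EtRamH7.dominates_self_comap _ W)
  have hV : EtRam.Dominates A ((algebraMap K L).comp (algebraMap A K)) (W.comap (algebraMap L L')) := EtRamH7.dominates_comap _ hAW
  haveI := EtRamH7.dvr_of_dominates A K L _ rfl _ hV
  letI : Algebra A (W.comap (algebraMap L L')) := (RingHom.codRestrict _ _ hV.1).toAlgebra
  haveI : IsLocalHom (algebraMap A (W.comap (algebraMap L L'))) := EtRamH7.isLocalHom_cod hV
  haveI : IsScalarTower A (W.comap (algebraMap L L')) L :=
    IsScalarTower.of_algebraMap_eq fun a => IsScalarTower.algebraMap_apply A K L a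
  have hgL : algebraMap A L = (algebraMap K L).comp (algebraMap A K) := IsScalarTower.algebraMap_eq A K L
  have h' : EtRam.IsTamelyRamified A ((algebraMap K L).comp (algebraMap A K)) := hgL ▸ h
  obtain ⟨hs, htm⟩ := @h' _ hV (inferInstance : IsLocalHom (algebraMap A (W.comap (algebraMap L L'))))
  have hinjV := EtRamH7.injective_cod A K L _ rfl _ hV.1
  set eV := Ideal.ramificationIdx' (maximalIdeal A) (maximalIdeal (W.comap (algebraMap L L'))) with heV
  have h7 := S7132.result A (W.comap (algebraMap L L')) K L hinjV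
  haveI := h7.1
  have heV0 : eV ≠ 0 := by
    intro h0
    have hm := EtRamH7.map_maximalIdeal_eq_pow A (W.comap (algebraMap L L')) hinjV
    rw [← heV, h0, pow_zero, Ideal.one_eq_top] at hm
    exact (maximalIdeal.isMaximal _).ne_top (top_le_iff.1 (hm ▸
      (((local_hom_TFAE (algebraMap A (W.comap (algebraMap L L')))).out 0 2 rfl rfl).1 inferInstance)))
  have heVk : (eV : ResidueField A) ≠ 0 := by
    obtain ⟨q, hq⟩ := CharP.exists (ResidueField A)
    rcases CharP.char_is_prime_or_zero (ResidueField A) q with hp | rfl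
    · exact fun h0 => htm q hp hq ((CharP.cast_eq_zero_iff (ResidueField A) q eV).1 h0)
    · exact fun h0 => heV0 ((CharP.cast_eq_zero_iff (ResidueField A) 0 eV).1 h0 |> zero_dvd_iff.1)
  have hdvd : eV ∣ e := by
    refine Dvd.dvd.mul_left (Finset.dvd_prod_of_mem id (Finset.mem_filter.2 ⟨Finset.mem_range.2 ?_, heV0, heVk⟩)) d
    have hf : 0 < Module.finrank (ResidueField A) (ResidueField (W.comap (algebraMap L L'))) := Module.finrank_pos
    have h1 : eV ≤ eV * Module.finrank (ResidueField A) (ResidueField (W.comap (algebraMap L L'))) := Nat.le_mul_of_pos_right _ hf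
    exact Nat.lt_succ_of_le (h1.trans h7.2)
  have htame : CharZero (ResidueField A) ∨ ∃ p : ℕ, p.Prime ∧ CharP (ResidueField A) p ∧ ¬ p ∣ eV ∧
      Algebra.IsGeometricallyReduced (ResidueField A) (ResidueField (W.comap (algebraMap L L'))) := by
    obtain ⟨q, hq⟩ := CharP.exists (ResidueField A)
    rcases CharP.char_is_prime_or_zero (ResidueField A) q with hp | rfl
    · exact Or.inr ⟨q, hp, hq, htm q hp hq, EtRamH7.geomRed_of_separable _ _⟩
    · exact Or.inl (CharP.charP_to_charZero _)
  have hab := S1982.result A (W.comap (algebraMap L L')) K L hinjV htame K₁ L' hgen W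
    (EtRamH7.dominates_self_comap (algebraMap L L') W) (fun a => hA1.1 a)
  letI : Algebra A (W.comap (algebraMap K₁ L')) := (RingHom.codRestrict _ _ hA1.1).toAlgebra
  haveI : IsScalarTower A A' (W.comap (algebraMap K₁ L')) := IsScalarTower.of_algebraMap_eq fun a => Subtype.ext (hKK₁ a)
  haveI : IsLocalHom (algebraMap A (W.comap (algebraMap K₁ L'))) := EtRamH7.isLocalHom_cod hA1
  obtain ⟨hw', hg⟩ := hab (by
    show eV ∣ _
    rw [EtRamH7.ramificationIdx'_mul A A' (W.comap (algebraMap K₁ L')) hinjA' hbij.1,
      (EtRamH7.weaklyUnramified_iff A' (W.comap (algebraMap K₁ L')) hbij.1).1 hwB, mul_one,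
      ← EtRamBC29.pow_inj_maximalIdeal (hmapA'.symm.trans (EtRamH7.map_maximalIdeal_eq_pow A A' hinjA'))]
    exact hdvd)
  letI : Algebra (W.comap (algebraMap K₁ L')) W := (EtRam.inclOfComap W (algebraMap K₁ L')).toAlgebra
  haveI : IsLocalHom (algebraMap (W.comap (algebraMap K₁ L')) W) := EtRam.isLocalHom_inclOfComap _ _
  haveI : IsScalarTower A' (W.comap (algebraMap K₁ L')) W := IsScalarTower.of_algebraMap_eq fun w => Subtype.ext (hjK w).symm
  refine ⟨EtRamH7.weakly_trans A' (W.comap (algebraMap K₁ L')) W hwB hw', ?_⟩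
  haveI : FiniteDimensional K₁ L' := FiniteDimensional.right K K₁ L'
  haveI : IsScalarTower (W.comap (algebraMap K₁ L')) W L' := IsScalarTower.of_algebraMap_eq fun _ => rfl
  haveI : IsDiscreteValuationRing W := EtRamH7.dvr_of_dominates (W.comap (algebraMap K₁ L')) K₁ L'
    ((algebraMap K₁ L').comp (W.comap (algebraMap K₁ L')).subtype) rfl W (EtRamH7.dominates_self_comap (algebraMap K₁ L') W)
  haveI : Module.Finite (ResidueField (W.comap (algebraMap K₁ L'))) (ResidueField W) :=
    (S7132.result (W.comap (algebraMap K₁ L')) W K₁ L'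
      (fun a b hab => Subtype.ext ((algebraMap K₁ L').injective (congrArg Subtype.val hab)))).1
  haveI : Algebra.IsGeometricallyReduced (ResidueField (W.comap (algebraMap K₁ L'))) (ResidueField W) :=
    EtRamH7.geomRed_canonical hg
  refine EtRamH7.sep_trans A' (W.comap (algebraMap K₁ L')) W ⟨fun z => ?_⟩
    (GlobFun18.isSeparable_of_isGeometricallyReduced (k := ResidueField (W.comap (algebraMap K₁ L'))) (ResidueField W))
  obtain ⟨z, rfl⟩ := residue_surjective z
  obtain ⟨b, rfl⟩ := hbij.2 z
  exact isSeparable_algebraMap (residue A' b)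

end Groth.Agent.S9329
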