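import Groth.Statements.S9328
import Groth.Agent.S9329
import Groth.Agent.S1989

set_option autoImplicit false
universe u
open EtRam

namespace Groth.Agent.S9328

open Polynomial IsLocalRing in
/-- Let `K` be the fraction field of a discrete valuation ring `A`, let `π` be a uniformizer of `A`, and
let `L` be a finite separable extension of `K`. For `e ≥ 1` write `A' = A[z]/(z^e - π)`, a discrete
valuation ring whose fraction field is `K' = K[π^{1/e}]`. Then `L` is tamely ramified with respect
to `A` if and only if there exist `e ≥ 1` invertible in the residue field of `A` and a finite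
separable extension `L'` of `K` into which `L` embeds over `K`, carrying an `A'`-algebra structure
extending `A → K → L'` (so `K' ⊆ L'`), such that `L'` is unramified with respect to `A'`. (The
local-ring instance on `A'`, which holds, is quantified as a hypothesis.) -/
theorem result {A K L : Type u} [CommRing A] [IsDomain A]
    [IsDiscreteValuationRing A] [Field K] [Algebra A K] [IsFractionRing A K] [Field L] [Algebra K L]
    [Algebra A L] [IsScalarTower A K L] [FiniteDimensional K L] [Algebra.IsSeparable K L]
    (π : A) (hπ : maximalIdeal A = Ideal.span {π}) :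
    EtRam.IsTamelyRamified A (algebraMap A L) ↔
      ∃ e : ℕ, 0 < e ∧ (e : ResidueField A) ≠ 0 ∧
        ∃ (L' : Type u) (_ : Field L') (_ : Algebra K L')
          (_ : Algebra (AdjoinRoot (X ^ e - C π : A[X])) L') (_ : L →ₐ[K] L'),
          FiniteDimensional K L' ∧ Algebra.IsSeparable K L' ∧
          (algebraMap (AdjoinRoot (X ^ e - C π : A[X])) L').comp (AdjoinRoot.of (X ^ e - C π)) =
            (algebraMap K L').comp (algebraMap A K) ∧
          ∀ [IsLocalRing (AdjoinRoot (X ^ e - C π : A[X]))],
            EtRam.IsUnramifiedExt (AdjoinRoot (X ^ e - C π : A[X]))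
              (algebraMap (AdjoinRoot (X ^ e - C π : A[X])) L') := by
  classical
  constructor
  · intro h
    obtain ⟨e₀, h0, h1, h2⟩ := S9329.result (K := K) π hπ h
    obtain ⟨L', i1, i2, i3, φ, h3, h4, h5, h6⟩ := h2 1 one_pos (by rw [Nat.cast_one]; exact one_ne_zero)
    refine ⟨1 * e₀, by omega, by rwa [one_mul], L', i1, i2, i3, φ, h3, h4, h5, ?_⟩
    exact h6
  rintro ⟨e, he0, hek, L', i1, i2, i3, φ, h3, h4, h5, h6⟩
  have hπi : Irreducible π := (IsDiscreteValuationRing.irreducible_iff_uniformizer π).2 hπ
  obtain ⟨idom, idvr, hinjA', hlocA', hmapA', hsepA'⟩ := EtRamBC29.exists_root_dvr π hπi e he0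
  haveI := idom
  haveI := idvr
  haveI := hlocA'
  let A' := AdjoinRoot (X ^ e - C π : A[X])
  letI : Algebra L L' := φ.toRingHom.toAlgebra
  haveI : IsScalarTower K L L' := IsScalarTower.of_algebraMap_eq fun c => (φ.commutes c).symm
  suffices hL' : EtRam.IsTamelyRamified A ((algebraMap K L').comp (algebraMap A K)) by
    have := (S1989.result A K L L').1 hL'
    rwa [← IsScalarTower.algebraMap_eq A K L] at this
  intro W hW
  letI : Algebra A W := (RingHom.codRestrict _ W hW.1).toAlgebra
  intro _
  haveI := EtRamH7.dvr_of_dominates A K L' _ rfl _ hW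
  have hj : ∀ a : A, algebraMap A' L' (algebraMap A A' a) = algebraMap K L' (algebraMap A K a) := fun a => RingHom.congr_fun h5 a
  set z := algebraMap A' L' (AdjoinRoot.root (X ^ e - C π : A[X])) with hz
  have hze : z ^ e = algebraMap K L' (algebraMap A K π) := by
    rw [hz, ← map_pow, ← hj]
    congr 1
    have h := AdjoinRoot.eval₂_root (X ^ e - C π : A[X])
    rwa [eval₂_sub, eval₂_pow, eval₂_X, eval₂_C, sub_eq_zero] at h
  have hvπ : W.valuation (algebraMap K L' (algebraMap A K π)) < 1 := hW.2 π ((mem_maximalIdeal π).2 hπi.not_isUnit)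
  have hvz : W.valuation z < 1 := by
    rw [← hze, map_pow] at hvπ
    exact (pow_lt_one_iff he0.ne').1 hvπ
  have hzW : z ∈ W := (W.valuation_le_one_iff z).1 hvz.le
  have hmem : ∀ w : A', algebraMap A' L' w ∈ W := by
    intro w
    obtain ⟨g, rfl⟩ := AdjoinRoot.mk_surjective w
    induction g using Polynomial.induction_on' with
    | add p q hp hq => rw [map_add, map_add]; exact W.add_mem _ _ hp hq
    | monomial n a =>
      rw [← C_mul_X_pow_eq_monomial, map_mul, map_pow, AdjoinRoot.mk_C, AdjoinRoot.mk_X, map_mul, map_pow,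
        ← AdjoinRoot.algebraMap_eq, hj, ← hz]
      exact W.mul_mem _ _ (hW.1 a) (pow_mem hzW n)
  have hW' : EtRam.Dominates A' (algebraMap A' L') W := by
    refine ⟨hmem, fun w hw => ?_⟩
    haveI : ((maximalIdeal W).comap (RingHom.codRestrict (algebraMap A' L') W hmem)).IsPrime := Ideal.IsPrime.comap _
    have hne : (maximalIdeal W).comap (RingHom.codRestrict (algebraMap A' L') W hmem) ≠ ⊥ := fun hb => by
      have h1 : AdjoinRoot.root (X ^ e - C π : A[X]) ∈ (maximalIdeal W).comap (RingHom.codRestrict (algebraMap A' L') W hmem) :=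
        Ideal.mem_comap.2 ((W.valuation_lt_one_iff _).2 hvz)
      rw [hb, Ideal.mem_bot] at h1
      have h2 : z = 0 := by rw [hz, h1, map_zero]
      rw [h2, zero_pow he0.ne'] at hze
      exact hπi.ne_zero (IsFractionRing.injective A K (((map_eq_zero _).1 hze.symm).trans (map_zero _).symm))
    have hmax := eq_maximalIdeal (IsPrime.to_maximal_ideal hne)
    have h1 : w ∈ (maximalIdeal W).comap (RingHom.codRestrict (algebraMap A' L') W hmem) := hmax ▸ hw
    exact (W.valuation_lt_one_iff _).1 (Ideal.mem_comap.1 h1)
  letI : Algebra A' W := (RingHom.codRestrict _ W hW'.1).toAlgebra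
  haveI : IsLocalHom (algebraMap A' W) := EtRamH7.isLocalHom_cod hW'
  haveI : IsScalarTower A A' W := IsScalarTower.of_algebraMap_eq fun a => Subtype.ext (hj a).symm
  obtain ⟨hw, hs⟩ := @h6 inferInstance W hW' (inferInstance : IsLocalHom (algebraMap A' W))
  have hinjW : Function.Injective (algebraMap A' W) := by
    rw [RingHom.injective_iff_ker_eq_bot]
    haveI : (RingHom.ker (algebraMap A' W)).IsPrime := RingHom.ker_isPrime _
    haveI : Module.Finite A A' := (monic_X_pow_sub_C π he0.ne').finite_adjoinRoot
    haveI : Algebra.IsIntegral A A' := Algebra.IsIntegral.of_finite A A'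
    refine Ideal.eq_bot_of_comap_eq_bot (R := A) (eq_bot_iff.2 fun a ha => ?_)
    have h0 : algebraMap K L' (algebraMap A K a) = 0 := by rw [← hj]; exact congrArg Subtype.val ha
    exact IsFractionRing.injective A K (((map_eq_zero _).1 h0).trans (map_zero _).symm)
  refine ⟨EtRamH7.sep_trans A A' W hsepA' hs, fun q hq hqc hdvd => ?_⟩
  rw [EtRamH7.ramificationIdx'_mul A A' W hinjA' hinjW, (EtRamH7.weaklyUnramified_iff A' W hinjW).1 hw, mul_one,
    ← EtRamBC29.pow_inj_maximalIdeal (hmapA'.symm.trans (EtRamH7.map_maximalIdeal_eq_pow A A' hinjA'))] at hdvd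
  exact hek ((CharP.cast_eq_zero_iff (ResidueField A) q e).2 hdvd)

end Groth.Agent.S9328
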