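import Groth.Statements.S9335
import Groth.Agent.Lib.FtPts3.Fibre

set_option autoImplicit false
universe u
open QFin

namespace Groth.Agent.S9335

open AlgebraicGeometry CategoryTheory in
/-- If f : X → S is of finite type and s ∈ S, then f is quasi-finite at only finitely many points of the
fibre over s. -/
theorem result {X S : Scheme.{u}} (f : X ⟶ S) [LocallyOfFiniteType f] [QuasiCompact f] (s : S) :
    {x : ↑X | f.base x = s ∧ f.QuasiFiniteAt x}.Finite := by
  haveI := FtPts3.isLocallyNoetherian_fiber f s
  haveI : IsNoetherian (f.fiber s) := {}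
  let A : Set ↑(f.fiber s) := {z | IsOpen ({z} : Set ↑(f.fiber s))}
  have hA : A.Finite := by
    haveI : DiscreteTopology A := discreteTopology_iff_isOpen_singleton.2 fun z => by
      have := z.2.preimage (continuous_subtype_val : Continuous ((↑) : A → ↑(f.fiber s)))
      convert this using 1
      ext w; simp [Subtype.ext_iff]
    haveI : CompactSpace A := isCompact_iff_compactSpace.1 (TopologicalSpace.NoetherianSpace.isCompact A)
    exact Set.finite_coe_iff.1 finite_of_compact_of_discrete
  refine (hA.image (f.fiberι s)).subset ?_
  rintro x ⟨rfl, hx⟩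
  exact ⟨f.asFiber x, Scheme.Hom.quasiFiniteAt_iff_isOpen_singleton_asFiber.1 hx, f.fiberι_asFiber x⟩

end Groth.Agent.S9335
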