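import Groth.Statements.S9337
import Groth.Agent.Lib.FtPts3.Basic

set_option autoImplicit false
universe u
open FtPts

namespace Groth.Agent.S9337

open AlgebraicGeometry CategoryTheory in
/-- Let k be a field and f : Spec k → S a morphism of schemes with image point u. Then f is locally of
finite type if and only if some affine open U ∋ u of S has u as a closed point and the residue field
of Spec k (that is, k) is finite over κ(u). -/
theorem result (S : Scheme.{u}) (k : Type u) [Field k] (f : Spec (CommRingCat.of k) ⟶ S) :
    LocallyOfFiniteType f ↔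
      ∃ U : S.Opens, IsAffineOpen U ∧ ∃ hu : f.base (IsLocalRing.closedPoint k) ∈ U,
        IsClosed ({⟨f.base (IsLocalRing.closedPoint k), hu⟩} : Set ↥U) ∧
          (f.residueFieldMap (IsLocalRing.closedPoint k)).hom.Finite := by
  let pt : ↑(Spec (CommRingCat.of k)) := IsLocalRing.closedPoint k
  haveI : Subsingleton ↑(Spec (CommRingCat.of k)) := inferInstanceAs (Subsingleton (PrimeSpectrum k))
  haveI : IsClosedImmersion ((Spec (CommRingCat.of k)).fromSpecResidueField pt) :=
    isClosed_singleton_iff_isClosedImmersion.mp (isClosed_discrete _)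
  refine ⟨fun h => ?_, fun ⟨U, hU, hu, hc, hfin⟩ => ?_⟩
  · obtain ⟨U, hU, hu, hc⟩ := FtPts3.exists_affine_closed f
    exact ⟨U, hU, hu, hc, FtPts3.finite_residueFieldMap_of_lft f pt⟩
  · haveI := FtPts3.lft_of_closed_in_open U hu hc
    haveI : IsFinite (Spec.map (f.residueFieldMap pt)) := (IsFinite.SpecMap_iff _).2 hfin
    have : LocallyOfFiniteType (Spec.map (f.residueFieldMap pt) ≫ S.fromSpecResidueField (f.base (IsLocalRing.closedPoint k))) := inferInstance
    have h2 : LocallyOfFiniteType ((Spec (CommRingCat.of k)).fromSpecResidueField pt ≫ f) := by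
      rw [← Scheme.Hom.SpecMap_residueFieldMap_fromSpecResidueField]; exact this
    haveI : Surjective ((Spec (CommRingCat.of k)).fromSpecResidueField pt) :=
      ⟨fun y => ⟨IsLocalRing.closedPoint _, Subsingleton.elim _ _⟩⟩
    haveI : IsIso ((Spec (CommRingCat.of k)).fromSpecResidueField pt) := isIso_of_isClosedImmersion_of_surjective _
    exact (MorphismProperty.cancel_left_of_respectsIso (P := @LocallyOfFiniteType) _ _).1 h2

end Groth.Agent.S9337
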