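import Groth.Statements.S9338
import Groth.Agent.Lib.FtPts3.Basic
import Mathlib

set_option autoImplicit false
universe u
open FtPts

namespace Groth.Agent.S9338

theorem finiteType_of_residue {R A : Type*} [CommRing R] [CommRing A] [IsArtinianRing A] [IsLocalRing A]
    (φ : R →+* A) (hft : ((IsLocalRing.residue A).comp φ).FiniteType) : φ.FiniteType := by
  classical
  letI := φ.toAlgebra
  letI : Algebra R (IsLocalRing.ResidueField A) := ((IsLocalRing.residue A).comp φ).toAlgebra
  haveI : Algebra.FiniteType R (IsLocalRing.ResidueField A) := hft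
  obtain ⟨s, hs⟩ := (inferInstance : Algebra.FiniteType R (IsLocalRing.ResidueField A)).out
  choose l hl using IsLocalRing.residue_surjective (R := A)
  obtain ⟨T, hT⟩ := IsNoetherian.noetherian (IsLocalRing.maximalIdeal A)
  let B : Subalgebra R A := Algebra.adjoin R (((s.image l) ∪ T : Finset A) : Set A)
  have hB : ∀ a : A, ∃ b ∈ B, a - b ∈ IsLocalRing.maximalIdeal A := by
    intro a
    let g : A →ₐ[R] IsLocalRing.ResidueField A := { IsLocalRing.residue A with commutes' := fun _ => rfl }
    have : (⊤ : Subalgebra R (IsLocalRing.ResidueField A)) ≤ B.map g := by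
      rw [← hs]
      refine Algebra.adjoin_le fun x hx => ⟨l x, Algebra.subset_adjoin ?_, hl x⟩
      rw [Finset.coe_union, Finset.coe_image]
      exact Or.inl ⟨x, hx, rfl⟩
    obtain ⟨b, hb, hbe⟩ := this (Algebra.mem_top (x := g a))
    exact ⟨b, hb, Ideal.Quotient.eq.1 (hbe : IsLocalRing.residue A b = IsLocalRing.residue A a).symm⟩
  have hn : ∀ (n : ℕ) (a : A), ∃ b ∈ B, a - b ∈ IsLocalRing.maximalIdeal A ^ n := by
    intro n
    induction n with
    | zero => exact fun a => ⟨0, zero_mem _, by simp⟩
    | succ n ih =>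
      intro a
      obtain ⟨b, hb, hab⟩ := hB a
      rw [← hT] at hab
      obtain ⟨c, hc, hcs⟩ : ∃ c : A → A, c.support ⊆ ↑T ∧ ∑ t ∈ T, c t • t = a - b := Submodule.mem_span_finset.1 hab
      choose e he hce using fun t => ih (c t)
      refine ⟨b + ∑ t ∈ T, e t * t, B.add_mem hb (B.sum_mem fun t ht => B.mul_mem (he t)
        (Algebra.subset_adjoin (Finset.mem_coe.2 (Finset.mem_union_right _ ht)))), ?_⟩
      have : a - (b + ∑ t ∈ T, e t * t) = ∑ t ∈ T, (c t - e t) * t := by
        rw [Finset.sum_congr rfl fun t _ => sub_mul (c t) (e t) t, Finset.sum_sub_distrib,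
          show ∑ t ∈ T, c t * t = a - b from hcs]
        ring
      rw [this, pow_succ]
      exact Ideal.sum_mem _ fun t ht => Ideal.mul_mem_mul (hce t) (hT ▸ Ideal.subset_span ht)
  obtain ⟨n, hn0⟩ := IsArtinianRing.isNilpotent_jacobson_bot (R := A)
  rw [IsLocalRing.jacobson_eq_maximalIdeal ⊥ bot_ne_top] at hn0
  refine ⟨⟨s.image l ∪ T, eq_top_iff.2 fun a _ => ?_⟩⟩
  obtain ⟨b, hb, hab⟩ := hn n a
  rw [hn0, Ideal.zero_eq_bot, Ideal.mem_bot, sub_eq_zero] at hab
  exact hab ▸ hb

open AlgebraicGeometry CategoryTheory in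
/-- For an Artinian local ring A with residue field κ, a morphism f : Spec A → S is (locally) of finite
type exactly when the composite Spec κ → Spec A → S is. -/
theorem result (S : Scheme.{u}) (A : Type u) [CommRing A] [IsArtinianRing A] [IsLocalRing A]
    (f : Spec (CommRingCat.of A) ⟶ S) :
    LocallyOfFiniteType f ↔
      LocallyOfFiniteType (Spec.map (CommRingCat.ofHom (IsLocalRing.residue A)) ≫ f) := by
  haveI : IsClosedImmersion (Spec.map (CommRingCat.ofHom (IsLocalRing.residue A))) :=
    IsClosedImmersion.spec_of_surjective _ Ideal.Quotient.mk_surjective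
  refine ⟨fun _ => inferInstance, fun h => ?_⟩
  let pt : ↑(Spec (CommRingCat.of A)) := IsLocalRing.closedPoint A
  obtain ⟨W, hW, hxW, -⟩ := exists_isAffineOpen_mem_and_subset (X := S) (x := f.base pt) (U := ⊤) trivial
  have hr : Set.range f.base ⊆ Set.range hW.fromSpec.base := by
    rintro _ ⟨y, rfl⟩
    have : y = pt := PrimeSpectrum.ext (IsLocalRing.eq_maximalIdeal (Ideal.IsPrime.isMaximal' (y : PrimeSpectrum A).2))
    rw [hW.range_fromSpec, this]
    exact hxW
  let f' := IsOpenImmersion.lift hW.fromSpec f hr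
  have hfac : f' ≫ hW.fromSpec = f := IsOpenImmersion.lift_fac _ _ _
  rw [← hfac, ← Category.assoc] at h
  rw [← hfac]
  haveI := h
  haveI := locallyOfFiniteType_of_comp (Spec.map (CommRingCat.ofHom (IsLocalRing.residue A)) ≫ f') hW.fromSpec
  obtain ⟨φ, hφ⟩ := Spec.map_surjective f'
  have h' : LocallyOfFiniteType (Spec.map (φ ≫ CommRingCat.ofHom (IsLocalRing.residue A))) := by
    rw [Spec.map_comp, hφ]; infer_instance
  have hft : ((IsLocalRing.residue A).comp φ.hom).FiniteType :=
    (HasRingHomProperty.Spec_iff (P := @LocallyOfFiniteType)).1 h'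
  suffices hA : φ.hom.FiniteType by
    haveI : LocallyOfFiniteType f' := hφ ▸ (HasRingHomProperty.Spec_iff (P := @LocallyOfFiniteType)).2 hA
    infer_instance
  clear h' hφ
  exact finiteType_of_residue φ.hom hft

end Groth.Agent.S9338
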