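import Groth.Statements.S9340
import Groth.Agent.Lib.FtPts3.Basic

set_option autoImplicit false
universe u
open FtPts

namespace Groth.Agent.S9340

open AlgebraicGeometry CategoryTheory in
/-- A surjective morphism locally of finite type maps the set of finite type points of the source onto
the set of finite type points of the target. -/
theorem result {T S : Scheme.{u}} (f : T ⟶ S) [LocallyOfFiniteType f] [Surjective f] :
    f.base '' {t : ↑T | LocallyOfFiniteType (T.fromSpecResidueField t)} =
      {s : ↑S | LocallyOfFiniteType (S.fromSpecResidueField s)} := by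
  refine Set.Subset.antisymm ?_ fun s hs => ?_
  · rintro _ ⟨t, ht, rfl⟩
    haveI : LocallyOfFiniteType (T.fromSpecResidueField t) := ht
    exact FtPts3.mem_ftPts_map f t
  · haveI : LocallyOfFiniteType (S.fromSpecResidueField s) := hs
    haveI : LocallyOfFiniteType (f.fiberι s) := CategoryTheory.MorphismProperty.pullback_fst _ _ inferInstance
    obtain ⟨t, ht⟩ := f.surjective s
    haveI : Nonempty (f.fiber s) := ⟨(f.fiberHomeo s).symm ⟨t, ht⟩⟩
    obtain ⟨z, -, hz⟩ := FtPts3.exists_mem_of_isLocallyClosed (S := f.fiber s) isOpen_univ.isLocallyClosed Set.univ_nonempty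
    haveI := hz
    refine ⟨f.fiberι s z, FtPts3.mem_ftPts_map (f.fiberι s) z, ?_⟩
    have : f.fiberι s z ∈ Set.range (f.fiberι s) := ⟨z, rfl⟩
    rw [f.range_fiberι] at this
    exact this

end Groth.Agent.S9340
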