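import Groth.Statements.S9344
import Mathlib.AlgebraicGeometry.PullbackCarrier

set_option autoImplicit false
universe u
open Dom

namespace Groth.Agent.S9344


open AlgebraicGeometry CategoryTheory in
/-- The base change of a dominant morphism f : X → S along an open morphism g : S' → S is dominant. -/
theorem result {X S X' S' : Scheme.{u}} (f : X ⟶ S) [IsDominant f]
    (g : S' ⟶ S) (g' : X' ⟶ X) (f' : X' ⟶ S') (hsq : IsPullback g' f' f g) (hg : IsOpenMap g.base) :
    IsDominant f' := by
  have hr : Set.range f'.base = g.base ⁻¹' Set.range f.base := by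
    have h1 : f' = hsq.isoPullback.hom ≫ Limits.pullback.snd f g := hsq.isoPullback_hom_snd.symm
    rw [h1, ← Scheme.Pullback.range_snd f g]
    exact Set.Subset.antisymm (by rintro _ ⟨x, rfl⟩; exact ⟨hsq.isoPullback.hom.base x, rfl⟩)
      (by rintro _ ⟨x, rfl⟩; exact ⟨hsq.isoPullback.inv.base x, congrArg (Limits.pullback.snd f g).base
        (congrArg (fun h => h.base x) hsq.isoPullback.inv_hom_id :)⟩)
  refine ⟨?_⟩
  rw [DenseRange, hr]
  exact f.denseRange.preimage hg


end Groth.Agent.S9344
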