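import Groth.Statements.S9345
import Mathlib.AlgebraicGeometry.Properties
import Mathlib.Topology.Sober

set_option autoImplicit false
universe u
open Dom

namespace Groth.Agent.S9345


open AlgebraicGeometry CategoryTheory in
/-- For a morphism f : X → S whose source has only finitely many irreducible components, the image of f
is dense exactly when it contains the generic point of each irreducible component of S, and then S
too has finitely many. -/
theorem result {X S : Scheme.{u}} (f : X ⟶ S)
    (hX : (irreducibleComponents (↑X : Type u)).Finite) :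
    (IsDominant f ↔ ∀ s : ↑S, closure {s} ∈ irreducibleComponents (↑S : Type u) → s ∈ Set.range f.base) ∧
      (IsDominant f → (irreducibleComponents (↑S : Type u)).Finite) := by
  classical
  let P : Set S := f.base '' genericPoints (↑X : Type u)
  have hPfin : P.Finite := (genericPoints.finite hX).image _
  have hrange : Set.range f.base ⊆ closure P := by
    rintro _ ⟨x, rfl⟩
    let g := genericPoints.ofComponent ⟨irreducibleComponent x, irreducibleComponent_mem_irreducibleComponents x⟩
    have hg : IsGenericPoint g.1 (irreducibleComponent x) :=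
      (isIrreducible_irreducibleComponent (x := x)).isGenericPoint_genericPoint isClosed_irreducibleComponent
    have hx : g.1 ⤳ x := hg.specializes mem_irreducibleComponent
    exact (hx.map f.base.hom.continuous).mem_closed isClosed_closure
      (subset_closure ⟨g.1, g.2, rfl⟩)
  have hclP : closure P = ⋃ p ∈ P, closure {p} := by
    conv_lhs => rw [← Set.biUnion_of_singleton P]
    exact hPfin.closure_biUnion _
  have key : IsDominant f → ∀ Z ∈ irreducibleComponents (↑S : Type u), ∃ p ∈ P, Z = closure {p} := by
    intro hd Z hZ
    haveI := hd
    have hsub : Z ⊆ ⋃ p ∈ P, closure {p} := by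
      rw [← hclP]
      intro z _
      exact closure_minimal hrange isClosed_closure (f.denseRange z)
    obtain ⟨C, hC, hZC⟩ := (isIrreducible_iff_sUnion_isClosed.1 hZ.1
      (hPfin.toFinset.image fun p => closure {p})
      (fun C hC => by obtain ⟨p, -, rfl⟩ := Finset.mem_image.1 hC; exact isClosed_closure)
      (fun z hz => by
        obtain ⟨p, hp, hzp⟩ := Set.mem_iUnion₂.1 (hsub hz)
        exact Set.mem_sUnion.2 ⟨_, Finset.mem_coe.2 (Finset.mem_image_of_mem _ (hPfin.mem_toFinset.2 hp)), hzp⟩))
    obtain ⟨p, hp, rfl⟩ := Finset.mem_image.1 hC
    exact ⟨p, hPfin.mem_toFinset.1 hp, hZC.antisymm (hZ.2 isIrreducible_singleton.closure hZC)⟩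
  refine ⟨⟨fun hd s hs => ?_, fun h => ⟨fun z => ?_⟩⟩, fun hd => ?_⟩
  · obtain ⟨p, ⟨x, -, rfl⟩, hp⟩ := key hd _ hs
    exact ⟨x, ((show IsGenericPoint s (closure {s}) from rfl).eq (show IsGenericPoint (f.base x) (closure {s}) from hp.symm)).symm⟩
  · let g := genericPoints.ofComponent
      ⟨irreducibleComponent z, irreducibleComponent_mem_irreducibleComponents z⟩
    have hg : IsGenericPoint g.1 (irreducibleComponent z) :=
      (isIrreducible_irreducibleComponent (x := z)).isGenericPoint_genericPoint isClosed_irreducibleComponent
    exact (hg.specializes mem_irreducibleComponent).mem_closed isClosed_closure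
      (subset_closure (h g.1 g.2))
  · refine (hPfin.image fun p => closure {p}).subset fun Z hZ => ?_
    obtain ⟨p, hp, rfl⟩ := key hd Z hZ
    exact ⟨p, hp, rfl⟩


end Groth.Agent.S9345
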