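import Groth.Statements.S9346
import Mathlib.AlgebraicGeometry.FunctionField

set_option autoImplicit false
universe u
open Dom

namespace Groth.Agent.S9346

open Opposite CategoryTheory AlgebraicGeometry

variable {X Y : Scheme.{u}} [AlgebraicGeometry.IsIntegral X] [AlgebraicGeometry.IsIntegral Y] (f : X ⟶ Y)

theorem eta_mem {W : X.Opens} (hW : (W : Set X).Nonempty) : genericPoint X ∈ W :=
  (genericPoint_spec X).mem_open_set_iff W.isOpen |>.2 (by simpa using hW)

theorem eq_zero_of_germ {W : X.Opens} (hW : (W : Set X).Nonempty) (s : Γ(X, W))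
    (h : X.presheaf.germ W (genericPoint X) (eta_mem hW) s = 0) : s = 0 :=
  germ_injective_of_isIntegral X _ _ (h.trans (map_zero _).symm)

theorem injective_appLE (h2 : f.base (genericPoint X) = genericPoint Y) {U : X.Opens} {V : Y.Opens}
    (hUV : U ≤ f ⁻¹ᵁ V) (hU : (U : Set X).Nonempty) : Function.Injective (f.appLE V U hUV) := by
  rw [injective_iff_map_eq_zero]
  intro s hs
  have hη : genericPoint X ∈ U := eta_mem hU
  have h1 : f.stalkMap (genericPoint X) (Y.presheaf.germ V _ (hUV hη) s) = 0 := by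
    refine (Scheme.Hom.germ_stalkMap_apply f V (genericPoint X) (hUV hη) s).trans ?_
    rw [← X.presheaf.germ_res_apply (homOfLE hUV) _ hη]
    exact (congrArg (X.presheaf.germ U _ hη) hs).trans (map_zero _)
  have hf : IsField (Y.presheaf.stalk (f.base (genericPoint X))) := by
    rw [h2]; exact Field.toIsField Y.functionField
  letI := hf.toField
  have h3 : Y.presheaf.germ V _ (hUV hη) s = 0 :=
    (f.stalkMap (genericPoint X)).hom.injective (h1.trans (map_zero _).symm)
  exact germ_injective_of_isIntegral Y _ _ (h3.trans (map_zero _).symm)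

theorem exists_kills (h2 : f.base (genericPoint X) ≠ genericPoint Y) {V : Y.Opens}
    (hV : IsAffineOpen V) (hne : (V : Set Y).Nonempty) :
    ∃ g : Γ(Y, V), g ≠ 0 ∧ f.app V g = 0 := by
  let C : Y.Opens := ⟨(closure {f.base (genericPoint X)})ᶜ, isClosed_closure.isOpen_compl⟩
  have hηC : genericPoint Y ∈ C := fun h => h2
    ((specializes_iff_mem_closure.2 h).antisymm (genericPoint_specializes _)).eq
  obtain ⟨g, hg, hgη⟩ := hV.exists_basicOpen_le (V := C) ⟨genericPoint Y, hηC⟩ (eta_mem hne)
  refine ⟨g, ?_, ?_⟩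
  · rintro rfl
    rw [Scheme.basicOpen_zero] at hgη
    exact hgη
  · rcases Set.eq_empty_or_nonempty ((f ⁻¹ᵁ V : X.Opens) : Set X) with he | hne'
    · have : IsEmpty (f ⁻¹ᵁ V : X.Opens) := Set.isEmpty_coe_sort.2 he
      have := X.sheaf.isTerminalOfEqEmpty (show f ⁻¹ᵁ V = ⊥ from TopologicalSpace.Opens.ext he)
      exact Subsingleton.elim (h := CommRingCat.subsingleton_of_isTerminal this) _ _
    · have hη := eta_mem hne'
      refine eq_zero_of_germ hne' _ ?_
      by_contra hu
      have : genericPoint X ∈ X.basicOpen (f.app V g) :=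
        (X.mem_basicOpen _ _ hη).2 (isUnit_iff_ne_zero.2 (show
          (X.presheaf.germ (f ⁻¹ᵁ V) (genericPoint X) hη (f.app V g) : X.functionField) ≠ 0 from hu))
      rw [← Scheme.preimage_basicOpen] at this
      exact hg this (subset_closure rfl)


open AlgebraicGeometry CategoryTheory in
/-- For a morphism f : X → Y between integral schemes, these six conditions coincide: (1) f is dominant;
(2) f sends the generic point of X to that of Y; (3) there exist affine opens U ⊆ X, V ⊆ Y with U
nonempty and U ⊆ f⁻¹V such that the induced ring map on sections is injective; (4) the same for all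
such pairs; (5) for some x ∈ X the map of local rings O_{Y,f x} → O_{X,x} is injective; (6) the same
for all x. -/
theorem result {X Y : Scheme.{u}} [AlgebraicGeometry.IsIntegral X] [AlgebraicGeometry.IsIntegral Y] (f : X ⟶ Y) :
    [IsDominant f,
      f.base (genericPoint ↑X) = genericPoint ↑Y,
      ∃ (U : X.Opens) (V : Y.Opens) (hUV : U ≤ f ⁻¹ᵁ V), IsAffineOpen U ∧ IsAffineOpen V ∧ (U : Set ↑X).Nonempty ∧
        Function.Injective (f.appLE V U hUV),
      ∀ (U : X.Opens) (V : Y.Opens) (hUV : U ≤ f ⁻¹ᵁ V), IsAffineOpen U → IsAffineOpen V → (U : Set ↑X).Nonempty →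
        Function.Injective (f.appLE V U hUV),
      ∃ x : ↑X, Function.Injective (f.stalkMap x),
      ∀ x : ↑X, Function.Injective (f.stalkMap x)].TFAE := by
  tfae_have 1 → 2 := fun h => by
    have hcl : closure {f.base (genericPoint X)} = Set.univ := Set.univ_subset_iff.1 fun z _ =>
      closure_minimal (by
        rintro _ ⟨x, rfl⟩
        exact specializes_iff_mem_closure.1 ((genericPoint_specializes x).map f.base.hom.continuous))
        isClosed_closure (f.denseRange z)
    exact (show IsGenericPoint (f.base (genericPoint X)) (Set.univ : Set Y) from hcl).eq (genericPoint_spec Y)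
  tfae_have 2 → 1 := fun h => ⟨fun z => (genericPoint_specializes z).mem_closed isClosed_closure
    (subset_closure ⟨_, h⟩)⟩
  tfae_have 2 → 4 := fun h U V hUV _ _ hU => injective_appLE f h hUV hU
  tfae_have 4 → 3 := fun h => by
    obtain ⟨V, hV, hηV, -⟩ := exists_isAffineOpen_mem_and_subset (U := (⊤ : Y.Opens))
      (x := f.base (genericPoint X)) trivial
    obtain ⟨U, hU, hηU, hUV⟩ := exists_isAffineOpen_mem_and_subset (U := f ⁻¹ᵁ V)
      (x := genericPoint X) hηV
    exact ⟨U, V, hUV, hU, hV, ⟨_, hηU⟩, h U V hUV hU hV ⟨_, hηU⟩⟩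
  tfae_have 3 → 2 := by
    rintro ⟨U, V, hUV, -, hV, ⟨x, hx⟩, hinj⟩
    by_contra h
    obtain ⟨g, hg0, hg⟩ := exists_kills f h hV ⟨_, hUV hx⟩
    refine hg0 (hinj ?_)
    rw [map_zero]
    show X.presheaf.map (homOfLE hUV).op (f.app V g) = 0
    rw [hg, map_zero]
  tfae_have 2 → 6 := fun h x => by
    rw [injective_iff_map_eq_zero]
    intro a ha
    obtain ⟨V, hxV, s, rfl⟩ := Y.presheaf.exists_germ_eq a; have hxV' : x ∈ f ⁻¹ᵁ V := hxV
    rw [Scheme.Hom.germ_stalkMap_apply] at ha
    obtain ⟨W, hxW, i₁, i₂, he⟩ := X.presheaf.germ_eq x hxV' hxV' _ _ (ha.trans (map_zero _).symm)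
    rw [show s = 0 from injective_appLE f h (U := W) i₁.le ⟨x, hxW⟩ (he.trans ((map_zero _).trans (map_zero _).symm)),
      map_zero]
  tfae_have 6 → 5 := fun h => ⟨genericPoint X, h _⟩
  tfae_have 5 → 2 := by
    rintro ⟨x, hx⟩
    by_contra h
    obtain ⟨V, hV, hxV, -⟩ := exists_isAffineOpen_mem_and_subset (U := (⊤ : Y.Opens))
      (x := f.base x) trivial
    obtain ⟨g, hg0, hg⟩ := exists_kills f h hV ⟨_, hxV⟩
    refine hg0 (germ_injective_of_isIntegral Y _ hxV (hx ?_))
    rw [map_zero, map_zero, Scheme.Hom.germ_stalkMap_apply, hg, map_zero]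
  tfae_finish


end Groth.Agent.S9346
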