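import Groth.Statements.S9348
import Mathlib.AlgebraicGeometry.PullbackCarrier

set_option autoImplicit false
universe u
open Dom

namespace Groth.Agent.S9348


open AlgebraicGeometry CategoryTheory in
/-- Let f : X → Y be a morphism and g : Y' → Y open and surjective. If the base change f' : X ×_Y Y' →
Y' of f is quasi-compact, then so is f. -/
theorem result {X Y X' Y' : Scheme.{u}} (f : X ⟶ Y) (g : Y' ⟶ Y) [Surjective g]
    (hg : IsOpenMap g.base) (g' : X' ⟶ X) (f' : X' ⟶ Y') (hsq : IsPullback g' f' f g) [QuasiCompact f'] :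
    QuasiCompact f := by
  classical
  refine ⟨fun U hU hUc => ?_⟩
  have hloc : ∀ y ∈ U, ∃ W : Set Y', IsOpen W ∧ IsCompact W ∧ g.base '' W ⊆ U ∧ y ∈ g.base '' W := by
    intro y hy
    obtain ⟨z, hz⟩ := Scheme.Hom.surjective g y
    obtain ⟨W, hW, hzW, hWU⟩ := exists_isAffineOpen_mem_and_subset
      (U := (g ⁻¹ᵁ ⟨U, hU⟩)) (x := z) (show g.base z ∈ U from hz ▸ hy)
    exact ⟨W, W.isOpen, hW.isCompact, Set.image_subset_iff.2 hWU, z, hzW, hz⟩
  choose W hWo hWc hWU hWy using hloc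
  obtain ⟨t, ht⟩ := hUc.elim_finite_subcover (fun y : U => g.base '' W y.1 y.2)
    (fun y => hg _ (hWo _ _)) (fun y hy => Set.mem_iUnion.2 ⟨⟨y, hy⟩, hWy y hy⟩)
  let W₀ : Set Y' := ⋃ y ∈ t, W y.1 y.2
  have hW₀c : IsCompact W₀ := t.isCompact_biUnion fun y _ => hWc _ _
  have hW₀o : IsOpen W₀ := isOpen_biUnion fun y _ => hWo _ _
  have him : g'.base '' (f'.base ⁻¹' W₀) = f.base ⁻¹' U := by
    apply Set.Subset.antisymm
    · rintro _ ⟨z, hz, rfl⟩
      obtain ⟨y, hy, hzy⟩ := Set.mem_iUnion₂.1 hz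
      have := congrArg (fun k : X' ⟶ Y => k.base z) hsq.w
      change f.base (g'.base z) ∈ U
      rw [show f.base (g'.base z) = g.base (f'.base z) from this]
      exact hWU _ _ ⟨_, hzy, rfl⟩
    · intro x hx
      obtain ⟨y, hy, hxy⟩ := Set.mem_iUnion₂.1 (ht hx)
      obtain ⟨w, hw, hwx⟩ := hxy
      obtain ⟨p, hp₁, hp₂⟩ := Scheme.Pullback.exists_preimage_pullback (f := f) (g := g) x w hwx.symm
      refine ⟨hsq.isoPullback.inv.base p, ?_, ?_⟩
      · change f'.base (hsq.isoPullback.inv.base p) ∈ W₀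
        rw [← Scheme.Hom.comp_apply, IsPullback.isoPullback_inv_snd, hp₂]
        exact Set.mem_biUnion hy hw
      · rw [← Scheme.Hom.comp_apply, IsPullback.isoPullback_inv_fst, hp₁]
  rw [← him]
  exact (QuasiCompact.isCompact_preimage (f := f') W₀ hW₀o hW₀c).image g'.base.hom.continuous


end Groth.Agent.S9348
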