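import Groth.Statements.S9351
import Groth.Agent.Lib.PureClosed13.Basic

set_option autoImplicit false
universe u
open FlatMod

namespace Groth.Agent.S9351

open AlgebraicGeometry CategoryTheory in
/-- On a scheme X, taking supports is a bijection from the closed subschemes Z ⊆ X with Z → X flat
(indexed by their quasi-coherent ideal sheaves) onto the closed subsets of X stable under
generalization; and any morphism g : Y → X with image inside such a Z factors through Z. -/
theorem result (X : Scheme.{u}) :
    Set.BijOn (fun I : X.IdealSheafData => I.support) {I : X.IdealSheafData | Flat I.subschemeι}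
        {Z : TopologicalSpace.Closeds ↑X | StableUnderGeneralization (Z : Set ↑X)} ∧
      ∀ I : X.IdealSheafData, Flat I.subschemeι → ∀ (Y : Scheme.{u}) (g : Y ⟶ X),
        Set.range g.base ⊆ (I.support : Set ↑X) → ∃ g' : Y ⟶ I.subscheme, g' ≫ I.subschemeι = g := by
  refine ⟨⟨fun I hI => ?_, fun I hI J hJ h => ?_, fun Z hZ => ?_⟩,
    fun I hI Y g hg => haveI := hI; PureClosed13.exists_lift I g hg⟩
  · haveI : Flat I.subschemeι := hI
    exact PureClosed13.stableUnderGeneralization_support I
  · haveI : Flat I.subschemeι := hI
    haveI : Flat J.subschemeι := hJ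
    refine Scheme.IdealSheafData.ext (funext fun U => ?_)
    haveI := PureClosed13.pure_ideal I U
    haveI := PureClosed13.pure_ideal J U
    refine Ideal.zeroLocus_inj_of_pure.1 ?_
    rw [PureClosed13.zeroLocus_ideal, PureClosed13.zeroLocus_ideal]
    exact congrArg (fun C : TopologicalSpace.Closeds X => PureClosed13.pre (C : Set X) U) h
  · exact ⟨PureClosed13.flatIdeal Z.isClosed hZ, PureClosed13.flat_flatIdeal _ _,
      TopologicalSpace.Closeds.ext (PureClosed13.support_flatIdeal _ _)⟩

end Groth.Agent.S9351
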