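import Groth.Statements.S9358
import Groth.Agent.Lib.DimF18.Prod

set_option autoImplicit false
universe u
open FibDim

namespace Groth.Agent.S9358

open AlgebraicGeometry CategoryTheory in
/-- In a cartesian square with f : X → S locally of finite type and base change f' : X' → S', g' : X' →
X, one has dim_{x'}(X'_{f' x'}) = dim_{g' x'}(X_{f (g' x')}) for all x' ∈ X'; hence relative
dimension ≤ d and relative dimension d are preserved by base change. -/
theorem result {X S X' S' : Scheme.{u}} (f : X ⟶ S) [LocallyOfFiniteType f] (g : S' ⟶ S)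
    (g' : X' ⟶ X) (f' : X' ⟶ S') (hsq : IsPullback g' f' f g) (d : ℕ) :
    (∀ x' : ↑X', FlatMor.fibreDimAt f' x' = FlatMor.fibreDimAt f (g'.base x')) ∧
      ((∀ x : ↑X, FlatMor.fibreDimAt f x ≤ d) → ∀ x' : ↑X', FlatMor.fibreDimAt f' x' ≤ d) ∧
        (Cyc.HasRelDim f d → Cyc.HasRelDim f' d) := by
  have hy : ∀ y : ↑S', ∃ (sqy : f'.fiber y ⟶ f.fiber (g y)),
      IsPullback sqy (f'.fiberToSpecResidueField y) (f.fiberToSpecResidueField (g y))
        (Spec.map (CommRingCat.ofHom (g.residueFieldMap y).hom)) ∧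
      sqy ≫ f.fiberι (g y) = f'.fiberι y ≫ g' := fun y =>
    ⟨_, isPullback_fiberToSpecResidueField_of_isPullback hsq y, Limits.pullback.lift_fst _ _ _⟩
  haveI : ∀ s : ↑S, @LocallyOfFiniteType (f.fiber s) (Spec (CommRingCat.of (S.residueField s)))
      (f.fiberToSpecResidueField s) := fun s =>
    MorphismProperty.pullback_snd (P := @LocallyOfFiniteType) _ _ inferInstance
  have key : ∀ x' : ↑X', FlatMor.fibreDimAt f' x' = FlatMor.fibreDimAt f (g'.base x') := by
    intro x'
    obtain ⟨sy, hs, hι⟩ := hy (f' x')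
    have hgf : g (f' x') = f (g' x') := by
      rw [← Scheme.Hom.comp_apply, ← hsq.w, Scheme.Hom.comp_apply]
    show FlatMor.localDim (f'.fiber (f' x')) (f'.asFiber x') = FlatMor.localDim (f.fiber (f (g' x'))) (f.asFiber (g' x'))
    have e := @DimF18.localDim_bc _ _ _ _ _ _ _ _ (this (g (f' x'))) _ _ hs (f'.asFiber x')
    rw [show FlatMor.localDim (f'.fiber (f' x')) (f'.asFiber x') =
      FlatMor.localDim (f.fiber (g (f' x'))) (sy (f'.asFiber x')) from e]
    have hval : f.fiberι (g (f' x')) (sy (f'.asFiber x')) = g' x' := by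
      rw [← Scheme.Hom.comp_apply, hι, Scheme.Hom.comp_apply, Scheme.Hom.fiberι_asFiber]
    have : ∀ (s : ↑S) (h : s = f (g' x')) (w : f.fiber s), f.fiberι s w = g' x' →
        FlatMor.localDim (f.fiber s) w = FlatMor.localDim (f.fiber (f (g' x'))) (f.asFiber (g' x')) := by
      rintro s rfl w hw
      rw [(f.fiberι _).isEmbedding.injective (hw.trans (Scheme.Hom.fiberι_asFiber f (g' x')).symm)]
    exact this _ hgf _ hval
  refine ⟨key, fun h x' => (key x').trans_le (h _), fun h y T hT => ?_⟩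
  obtain ⟨sy, hs, -⟩ := hy y
  obtain ⟨Z, hZ, e⟩ := @DimF18.exists_component_dim_bc _ _ _ _ _ _ _ _ (this (g y)) _ _ hs _ hT
  rw [e, h (g y) Z hZ]

end Groth.Agent.S9358
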