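import Groth.Statements.S9359
import Groth.Agent.Lib.AlgSpRel14.FlatDim
import Groth.Agent.Lib.FibDim14.Comp

set_option autoImplicit false
universe u
open FibDim

set_option backward.isDefEq.respectTransparency.types false

namespace Groth.Agent.S9359

open AlgebraicGeometry CategoryTheory in
/-- Let f : X → Y be flat, locally of finite type and of relative dimension d, with X and Y locally
Noetherian. Then dim_x(X) = dim_y(Y) + d for every x ∈ X with image y. -/
theorem result {X Y : Scheme.{u}} [IsLocallyNoetherian X] [IsLocallyNoetherian Y] (f : X ⟶ Y)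
    [Flat f] [LocallyOfFiniteType f] (d : ℕ) (hd : Cyc.HasRelDim f d) (x : X) :
    FlatMor.localDim ↑X x = FlatMor.localDim ↑Y (f.base x) + (d : WithBot ℕ∞) := by
  refine AlgSpRel14.localDim_eq_of_flat f d (fun a => ?_) x
  obtain ⟨z, -, hmax, hd', -⟩ := DimF18.exists_localDim_eq_sdim (FibDim14.toPt f (f a)) (f.asFiber a)
  have h := (FibDim14.hasRelDim_iff f d).1 hd _ ((FibDim14.isMaxFib_fiberι f (f a) z).2 hmax)
  rw [FibDim14.rd_fiberι] at h
  rw [← h]
  exact hd'

end Groth.Agent.S9359
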