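import Groth.Statements.S9360
import Groth.Agent.Lib.SchImage14.Immersion

set_option autoImplicit false
universe u
open SchDense

set_option backward.isDefEq.respectTransparency.types false

namespace Groth.Agent.S9360

open AlgebraicGeometry CategoryTheory in
/-- Let U ⊆ X be a reduced open subscheme. Then the scheme-theoretic closure of U in X is X if and only
if U is scheme-theoretically dense in X (for every open W the scheme-theoretic closure of U ∩ W in W
is W); and in that case X is reduced. -/
theorem result (X : Scheme.{u}) (U : X.Opens) [IsReduced (↑U : Scheme.{u})] :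
    (IsSchemeTheoreticallyDominant U.ι ↔
        ∀ W : X.Opens, IsSchemeTheoreticallyDominant (X.homOfLE (inf_le_right : U ⊓ W ≤ W))) ∧
      (IsSchemeTheoreticallyDominant U.ι → IsReduced X) := by
  have key : IsSchemeTheoreticallyDominant U.ι → IsReduced X ∧ CInt.IsSchematicallyDense U := by
    intro hU
    have hb : U.ι.ker = ⊥ := hU.ker_eq_bot
    have : IsIso U.ι.imageι := by
      rw [IsClosedImmersion.isIso_iff_ker_eq_bot, Scheme.Hom.imageι, Scheme.IdealSheafData.ker_subschemeι, hb]
    have := Groth.Agent.SchImage14.isReduced_image U.ι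
    have hX : IsReduced X := isReduced_of_isOpenImmersion (inv U.ι.imageι)
    refine ⟨hX, Groth.Agent.SchImage14.dense_of_dense_isReduced U ?_⟩
    have h : DenseRange (U.ι.toImage ≫ U.ι.imageι).base := by
      rw [Scheme.Hom.comp_base, TopCat.coe_comp]
      exact DenseRange.comp (U.ι.imageι.surjective).denseRange
        (Groth.Agent.SchImage14.denseRange_toImage U.ι (Or.inr inferInstance)) U.ι.imageι.continuous
    rw [Scheme.Hom.toImage_imageι] at h
    rw [DenseRange, Scheme.Opens.range_ι] at h
    exact h
  refine ⟨⟨fun h W => Groth.Agent.SchImage14.isSchemeTheoreticallyDominant_homOfLE (key h).2 W,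
    fun h => ?_⟩, fun h => (key h).1⟩
  have := h ⊤
  have : IsIso (⊤ : X.Opens).ι := X.topIso.isIso_hom
  have : IsIso (X.homOfLE (inf_le_left : U ⊓ ⊤ ≤ U)) :=
    X.isoOfEq_hom (inf_top_eq U) ▸ inferInstance
  rw [show U.ι = inv (X.homOfLE (inf_le_left : U ⊓ ⊤ ≤ U)) ≫ X.homOfLE (inf_le_right : U ⊓ ⊤ ≤ ⊤) ≫ (⊤ : X.Opens).ι by
    rw [X.homOfLE_ι, IsIso.eq_inv_comp, X.homOfLE_ι]]
  infer_instance

end Groth.Agent.S9360
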