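import Groth.Statements.S9361
import Mathlib.AlgebraicGeometry.Morphisms.ClosedImmersion
import Mathlib.AlgebraicGeometry.Morphisms.Separated
import Mathlib.AlgebraicGeometry.Morphisms.Immersion

set_option autoImplicit false
universe u
open SchImage

namespace Groth.Agent.S9361

open AlgebraicGeometry CategoryTheory in
/-- Let f : X → Y be separated, V ⊆ Y a retrocompact open and s : V → X a section of f over V. If Y' ⊆ X
is the scheme-theoretic image of s, then Y' → Y is an isomorphism over V. -/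
theorem result {X Y : Scheme.{u}} (f : X ⟶ Y) [IsSeparated f] (V : Y.Opens) [QuasiCompact V.ι]
    (s : (↑V : Scheme.{u}) ⟶ X) (hs : s ≫ f = V.ι) :
    IsIso ((s.imageι ≫ f) ∣_ V) := by
  haveI : QuasiCompact (s ≫ f) := hs ▸ inferInstance
  haveI : QuasiCompact s := QuasiCompact.of_comp s f
  haveI : IsImmersion (s ≫ f) := hs ▸ inferInstance
  haveI : IsImmersion s := IsImmersion.of_comp s f
  haveI : IsPreimmersion (s.toImage ≫ s.imageι) := by rw [Scheme.Hom.toImage_imageι]; infer_instance
  haveI : IsPreimmersion s.toImage := IsPreimmersion.of_comp s.toImage s.imageι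
  have hinj : ∀ x, Function.Injective (s.toImage.stalkMap x).hom := fun x => by
    have h1 := TopCat.Presheaf.stalkPushforward.stalkPushforward_iso_of_isInducing CommRingCat
      (f := s.toImage.base) s.toImage.isEmbedding.isInducing (↑V : Scheme.{u}).presheaf x
    exact ((ConcreteCategory.isIso_iff_bijective _).mp h1).1.comp (s.stalkFunctor_toImage_injective (s.toImage x))
  let T : s.image.Opens := (s.imageι ≫ f) ⁻¹ᵁ V
  let g : (↑T : Scheme.{u}) ⟶ ↑V := (s.imageι ≫ f) ∣_ V
  have hmem : ∀ v : ↥V, s.toImage v ∈ T := fun v => by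
    show (s.toImage ≫ (s.imageι ≫ f)) v ∈ V
    rw [Scheme.Hom.toImage_imageι_assoc, hs]; exact v.2
  have hpre : s.toImage ⁻¹ᵁ T = ⊤ := top_le_iff.1 fun v _ => hmem v
  let t := s.toImage ∣_ T
  haveI : IsIso (t ≫ g) := by
    have e : t ≫ g = (s.toImage ⁻¹ᵁ T).ι := by
      rw [← cancel_mono V.ι, Category.assoc, morphismRestrict_ι, morphismRestrict_ι_assoc,
        Scheme.Hom.toImage_imageι_assoc, hs]
    rw [e, isIso_iff_isOpenImmersion_and_surjective]
    exact ⟨inferInstance, ⟨fun v => ⟨⟨v, hmem v⟩, rfl⟩⟩⟩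
  haveI : IsClosedImmersion t := IsClosedImmersion.of_comp t g
  have hsurj : Function.Surjective t := fun y => by
    have hcl := t.isClosedEmbedding.isClosed_range
    by_contra hy
    obtain ⟨W, hW, hWe⟩ := T.ι.isOpenEmbedding.isInducing.isOpen_iff.1 hcl.isOpen_compl
    have hyW : T.ι y ∈ W := (Set.ext_iff.1 hWe y).2 hy
    obtain ⟨z, hz, v, rfl⟩ := s.toImage.denseRange.inter_open_nonempty (W ∩ T) (hW.inter T.2) ⟨_, hyW, y.2⟩
    have := (Set.ext_iff.1 hWe (t ⟨v, hmem v⟩)).1 (by
      show (t ≫ T.ι) ⟨v, hmem v⟩ ∈ W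
      rw [morphismRestrict_ι]; exact hz.1)
    exact this ⟨_, rfl⟩
  haveI : IsIso t := by
    refine isomorphisms_eq_stalkwise.ge _ ⟨?_, fun x => ⟨?_, t.stalkMap_surjective x⟩⟩
    · exact inferInstanceAs (IsIso (TopCat.isoOfHomeo (isHomeomorph_iff_isEmbedding_surjective.mpr ⟨t.isEmbedding, hsurj⟩).homeomorph).hom)
    · exact ((MorphismProperty.arrow_mk_iso_iff (MorphismProperty.injective CommRingCat)
        (morphismRestrictStalkMap s.toImage T x)).2 (hinj _))
  exact IsIso.of_isIso_comp_left t g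

end Groth.Agent.S9361
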