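import Groth.Statements.S9362
import Groth.Agent.Lib.QCoh8.Main
-- import your own Groth.Agent.* helpers here

set_option autoImplicit false
set_option linter.style.haveILetI false
set_option backward.isDefEq.respectTransparency false
universe u
open QCohSub
open CategoryTheory CategoryTheory.Limits

namespace Groth.Agent.S9362

open AlgebraicGeometry CategoryTheory in
/-- Let F be a quasi-coherent O_X-module and G ⊆ F an O_X-submodule. There is a quasi-coherent submodule
G' ⊆ G such that Hom(H, G') → Hom(H, G) is bijective for every quasi-coherent O_X-module H; in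
particular G' is the largest quasi-coherent submodule of F contained in G (it is unique up to unique
isomorphism over G). -/
theorem result (X : Scheme.{u}) (F G : X.Modules) (hF : Coh.IsQCoh F) (j : G ⟶ F) [Mono j] :
    ∃ (G' : X.Modules) (k : G' ⟶ G), Coh.IsQCoh G' ∧ Mono k ∧
      ∀ H : X.Modules, Coh.IsQCoh H → Function.Bijective (fun φ : H ⟶ G' => φ ≫ k) := by
  haveI := Agent.QCoh8.isLeftAdjoint_ι X
  let adj := Adjunction.ofIsLeftAdjoint (QCohCat.isQCoh X).ι
  let R := (QCohCat.isQCoh X).ι.rightAdjoint
  haveI : PreservesLimitsOfSize.{0, 0} R := adj.rightAdjoint_preservesLimits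
  haveI : R.PreservesMonomorphisms := inferInstance
  haveI : IsIso (adj.counit.app F) :=
    inferInstanceAs (IsIso (adj.counit.app ((QCohCat.isQCoh X).ι.obj ⟨F, hF⟩)))
  haveI : Mono ((QCohCat.isQCoh X).ι.map (R.map j)) := inferInstance
  refine ⟨(R.obj G).obj, adj.counit.app G, (R.obj G).property, ?_, fun H hH => ?_⟩
  · haveI : Mono (adj.counit.app G ≫ j) := by
      rw [← adj.counit_naturality j]; exact mono_comp _ _
    exact mono_of_mono (adj.counit.app G) j
  · have e : (fun φ : H ⟶ (R.obj G).obj => φ ≫ adj.counit.app G) =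
        (adj.homEquiv ⟨H, hH⟩ G).symm ∘ ObjectProperty.homMk := funext fun φ => by
      exact ((adj.homEquiv_counit (X := ⟨H, hH⟩) (g := ObjectProperty.homMk φ))).symm
    rw [e]
    exact (Equiv.bijective _).comp ⟨fun a b h => congrArg InducedCategory.Hom.hom h,
      fun g => ⟨g.hom, rfl⟩⟩

end Groth.Agent.S9362
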