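import Groth.Statements.S9366
import Groth.Agent.Lib.CI2.Smooth
import Groth.Agent.Lib.FibDim14.Basic
import Groth.Agent.Lib.TopDimLib.Basic
import Groth.Prelude

set_option autoImplicit false
universe u
open Synt

namespace Groth.Agent.S9366

theorem le_localDim (F : Type u) [CommRing F] [IsJacobsonRing F] (d : ℕ)
    (hd : ∀ m : Ideal F, m.IsMaximal → (d : ℕ∞) ≤ m.height) (z : PrimeSpectrum F) :
    (d : WithBot ℕ∞) ≤ FlatMor.localDim (PrimeSpectrum F) z := by
  refine le_iInf fun ⟨U, hzU⟩ => ?_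
  obtain ⟨_, ⟨g, rfl⟩, hzg, hgU⟩ :=
    PrimeSpectrum.isTopologicalBasis_basic_opens.isOpen_iff.mp U.isOpen z hzU
  have hgm : ∃ m : Ideal F, m.IsMaximal ∧ g ∉ m := by
    by_contra h
    push Not at h
    have hj : g ∈ z.asIdeal.jacobson := Ideal.mem_sInf.mpr fun {m} hm => h m hm.2
    rw [(IsJacobsonRing.out' (R := F) _ z.2.isRadical : z.asIdeal.jacobson = z.asIdeal)] at hj
    exact hzg hj
  obtain ⟨m, hm, hgm⟩ := hgm
  let Fg := Localization.Away g
  have hdisj : Disjoint (Submonoid.powers g : Set F) (m : Set F) := Set.disjoint_left.2 fun x ⟨i, hi⟩ hx =>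
    hgm (hm.isPrime.mem_of_pow_mem i (show g ^ i ∈ m by rw [show g ^ i = x from hi]; exact hx))
  let M := m.map (algebraMap F Fg)
  haveI : M.IsPrime := IsLocalization.isPrime_of_isPrime_disjoint (Submonoid.powers g) Fg m hm.isPrime hdisj
  have h1 : m.height = M.height := (IsLocalization.height_map_of_disjoint (Submonoid.powers g) m hdisj).symm
  have h2 : (d : WithBot ℕ∞) ≤ ringKrullDim Fg :=
    le_trans (WithBot.coe_le_coe.mpr ((hd m hm).trans_eq h1)) (Ideal.height_le_ringKrullDim_of_ne_top (Ideal.IsPrime.ne_top ‹_›))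
  refine h2.trans ?_
  rw [← PrimeSpectrum.topologicalKrullDim_eq_ringKrullDim]
  have he := PrimeSpectrum.localization_away_isOpenEmbedding Fg g
  have hsub : Set.range (PrimeSpectrum.comap (algebraMap F Fg)) ⊆ (U : Set (PrimeSpectrum F)) :=
    (PrimeSpectrum.localization_away_comap_range Fg g).trans_le hgU
  exact Topology.IsInducing.topologicalKrullDim_le
    (f := fun x => (⟨PrimeSpectrum.comap (algebraMap F Fg) x, hsub ⟨x, rfl⟩⟩ : (U : Set (PrimeSpectrum F))))
    (he.isInducing.codRestrict _)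

open AlgebraicGeometry CategoryTheory in
/-- For a relative global complete intersection R → A = R[x_1, …, x_n]/(F_1, …, F_c) and f : Spec A →
Spec R, the function x ↦ dim_x(X_{f x}) is constant with value n − c. -/
theorem result (R : Type u) [CommRing R] (n c : ℕ) (F : Fin c → MvPolynomial (Fin n) R)
    (hF : Synt.IsRelGCI R n c F) (x : ↑(Spec (CommRingCat.of (Synt.RelGCIRing R n c F)))) :
    FlatMor.fibreDimAt (Spec.map (CommRingCat.ofHom (algebraMap R (Synt.RelGCIRing R n c F)))) x =
      ((n - c : ℕ) : WithBot ℕ∞) := by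
  let p : PrimeSpectrum R := PrimeSpectrum.comap (algebraMap R (Synt.RelGCIRing R n c F)) x
  let e := PrimeSpectrum.preimageHomeomorphFiber R (Synt.RelGCIRing R n c F) p
  let A := p.asIdeal.Fiber (Synt.RelGCIRing R n c F)
  let z : PrimeSpectrum A := e ⟨x, rfl⟩
  haveI : Nontrivial A := ⟨0, 1, fun h => z.2.ne_top ((Ideal.eq_top_iff_one _).mpr (h ▸ zero_mem _))⟩
  obtain ⟨hcn, hdim⟩ := hF p inferInstance
  rw [Groth.Agent.FibDim14.fibreDimAt_eq_localDim_preimage]
  refine Eq.trans (show _ = FlatMor.localDim (PrimeSpectrum A) z from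
    Groth.Agent.FibDim14.localDim_of_isOpenEmbedding e.isOpenEmbedding ⟨x, rfl⟩) ?_
  refine le_antisymm ?_ ?_
  · rw [← hdim, ← PrimeSpectrum.topologicalKrullDim_eq_ringKrullDim]
    exact Groth.Agent.TopDimLib.localDim_le z
  · haveI : IsJacobsonRing A := isJacobsonRing_of_finiteType (A := p.asIdeal.ResidueField)
    refine le_localDim A (n - c) (fun m hm => ?_) z
    rcases Groth.Agent.CI2.isGlobalCI_fibre hF p with hs | ⟨n', c', hcn', φ, r, hφ, hker, hdim'⟩
    · exact absurd hs (not_subsingleton A)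
    · have h : n - c = n' - c' := by
        have := hdim.symm.trans hdim'
        exact_mod_cast this
      rw [h]
      exact Groth.Agent.CI2.le_height_maximal φ hφ r hker m

end Groth.Agent.S9366
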