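import Groth.Statements.S9373
import Groth.Agent.S9390

set_option autoImplicit false
universe u
open QCohSub

namespace Groth.Agent.S9373

open AlgebraicGeometry CategoryTheory in
/-- The support of a quasi-coherent O_X-module is closed under specialization. -/
theorem result (X : Scheme.{u}) (F : X.Modules) (hF : Coh.IsQCoh F) :
    StableUnderSpecialization (CohB1.support F) := by
  intro x y hxy hx
  obtain ⟨U, hU, hyU, -⟩ := exists_isAffineOpen_mem_and_subset (x := y) (U := ⊤) trivial
  have hxU : x ∈ U := hxy.mem_open U.2 hyU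
  rw [← Groth.Agent.S9390.result X F hF ⟨U, hU⟩ y hyU]
  refine Module.mem_support_mono ?_ ((Groth.Agent.S9390.result X F hF ⟨U, hU⟩ x hxU).mpr hx)
  rw [PrimeSpectrum.le_iff_specializes]
  exact ((subtype_specializes_iff (⟨x, hxU⟩ : U) ⟨y, hyU⟩).mpr hxy).map hU.isoSpec.hom.continuous

end Groth.Agent.S9373
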