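import Groth.Statements.S9376
import Groth.Agent.Lib.ModM1.ClosedImm

set_option autoImplicit false
universe u
open QCohSub

namespace Groth.Agent.S9376

open AlgebraicGeometry CategoryTheory Opposite in
/-- For a closed immersion i : Z → X with ideal sheaf 𝓘 and a quasi-coherent O_X-module G, the unit G →
i_* i^* G is an isomorphism if and only if 𝓘 G = 0 (sections of 𝓘 over affine opens annihilate the
sections of G). Full faithfulness and exactness of i_* are not restated. -/
theorem result {Z X : Scheme.{u}} (i : Z ⟶ X) [IsClosedImmersion i]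
    (G : X.Modules) (hG : Coh.IsQCoh G) :
    IsIso ((Scheme.Modules.pullbackPushforwardAdjunction i).unit.app G) ↔
      ∀ (U : X.affineOpens) (a : Γ(X, U.1)), a ∈ i.ker.ideal U → ∀ s : Γ(G, U.1), a • s = 0 := by
  refine ⟨fun h U a ha s => ?_, fun h => Groth.Agent.M1.isIso_unit_of_ker_smul i G hG h⟩
  let η := (Scheme.Modules.pullbackPushforwardAdjunction i).unit.app G
  haveI : IsIso η := h
  refine Groth.Agent.M1.app_injective η U.1 ?_
  rw [Scheme.Modules.Hom.app_smul, map_zero]
  rw [Scheme.Hom.ker_apply, RingHom.mem_ker] at ha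
  change (i.app U.1 a) • (show Γ((Scheme.Modules.pullback i).obj G, i ⁻¹ᵁ U.1) from η.app U.1 s) = 0
  rw [ha, zero_smul]

end Groth.Agent.S9376
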