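import Groth.Statements.S9377
import Groth.Agent.Lib.ModM1.Ann
import Groth.Agent.Lib.ModM1.ClosedImm
-- import your own Groth.Agent.* helpers here

set_option autoImplicit false
set_option linter.style.haveILetI false
set_option backward.isDefEq.respectTransparency false
universe u
open QCohSub
open CategoryTheory CategoryTheory.Limits

namespace Groth.Agent.S9377

open AlgebraicGeometry CategoryTheory Opposite in
/-- A finite type quasi-coherent O_X-module F has a scheme-theoretic support: a closed subscheme Z
(ideal sheaf J), cut out on each affine open U by the annihilator of F(U), such that F ≅ i_* i^* F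
via the unit, any other closed subscheme for which this unit is an isomorphism contains Z (i.e. its
ideal sheaf lies below J), and Z has the same underlying set as Supp(F). (The published statement
also says that the O_Z-module G with i_*G ≅ F is unique up to unique isomorphism and of finite type;
those clauses are not stated here.) -/
theorem result (X : Scheme.{u}) (F : X.Modules) (hq : Coh.IsQCoh F) (hft : CohB1.IsFT F) :
    ∃ J : X.IdealSheafData,
      (∀ U : X.affineOpens, J.ideal U = Module.annihilator Γ(X, U.1) Γ(F, U.1)) ∧
        IsIso ((Scheme.Modules.pullbackPushforwardAdjunction J.subschemeι).unit.app F) ∧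
          (∀ J' : X.IdealSheafData, IsIso ((Scheme.Modules.pullbackPushforwardAdjunction J'.subschemeι).unit.app F) → J' ≤ J) ∧
            (J.support : Set ↑X) = CohB1.support F := by
  refine ⟨M1.annSheaf hq hft, fun U => M1.annSheaf_ideal hq hft U, ?_, ?_, M1.support_annSheaf hq hft⟩
  · refine M1.isIso_unit_of_ker_smul _ F hq fun U a ha s => ?_
    rw [Scheme.IdealSheafData.ker_subschemeι, M1.annSheaf_ideal] at ha
    exact Module.mem_annihilator.mp ha s
  · intro J' hJ'
    refine (Scheme.IdealSheafData.le_def).2 fun U a ha => ?_
    rw [M1.annSheaf_ideal, Module.mem_annihilator]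
    intro s
    let u := (Scheme.Modules.pullbackPushforwardAdjunction J'.subschemeι).unit.app F
    haveI : IsIso u := hJ'
    have h0 : J'.subschemeι.app U.1 a = 0 := by
      rw [← Scheme.IdealSheafData.ker_subschemeι_app J' U] at ha
      exact ha
    refine (ConcreteCategory.bijective_of_isIso (u.app U.1)).1 ?_
    rw [Scheme.Modules.Hom.app_smul, map_zero]
    show J'.subschemeι.app U.1 a • (show Γ((Scheme.Modules.pullback J'.subschemeι).obj F, J'.subschemeι ⁻¹ᵁ U.1) from u.app U.1 s) = 0
    rw [h0, zero_smul]

end Groth.Agent.S9377
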