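import Groth.Statements.S9378
import Groth.Agent.Lib.SchDom.PullSections
import Groth.Agent.Lib.ModM1.Ann
import Groth.Agent.Lib.ModM1.Pull
import Groth.Agent.Lib.BlowUp3.SpecIdeal
-- import your own Groth.Agent.* helpers here

set_option autoImplicit false
set_option backward.isDefEq.respectTransparency false
universe u
open QCohSub

namespace Groth.Agent.S9378

open TensorProduct in
/-- The annihilator of a finite module commutes with flat base change. -/
theorem annihilator_baseChange {A B M : Type u} [CommRing A] [CommRing B] [Algebra A B] [AddCommGroup M]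
    [Module A M] [Module.Finite A M] [Module.Flat A B] :
    Module.annihilator B (B ⊗[A] M) = (Module.annihilator A M).map (algebraMap A B) := by
  classical
  refine le_antisymm (fun b hb => ?_) (Ideal.map_le_iff_le_comap.2 fun a ha => ?_)
  · obtain ⟨n, m, hm⟩ := Module.Finite.exists_fin (R := A) (M := M)
    let φ : A →ₗ[A] (Fin n → M) := LinearMap.pi fun i => LinearMap.toSpanSingleton A M (m i)
    have hker : ∀ a, φ a = 0 → a ∈ Module.annihilator A M := by
      intro a ha
      rw [← Submodule.annihilator_top, ← hm, Submodule.mem_annihilator_span]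
      rintro ⟨_, i, rfl⟩
      exact congrFun ha i
    have hex : Function.Exact (Module.annihilator A M).subtype φ := by
      intro a
      refine ⟨fun ha => ⟨⟨a, hker a ha⟩, rfl⟩, ?_⟩
      rintro ⟨⟨a, ha⟩, rfl⟩
      ext i
      exact Module.mem_annihilator.1 ha (m i)
    have hz : LinearMap.lTensor B φ (b ⊗ₜ (1 : A)) = 0 := by
      refine (TensorProduct.piRight A A B (fun _ : Fin n => M)).injective ?_
      rw [map_zero, LinearMap.lTensor_tmul, TensorProduct.piRight_apply]
      ext i
      rw [TensorProduct.piRightHom_tmul]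
      show b ⊗ₜ[A] ((1 : A) • m i) = 0
      rw [one_smul]
      have h1 := Module.mem_annihilator.1 hb ((1 : B) ⊗ₜ[A] m i)
      rwa [TensorProduct.smul_tmul', smul_eq_mul, mul_one] at h1
    obtain ⟨z, hz⟩ := (Module.Flat.lTensor_exact B hex _).1 hz
    have key : ∀ z, (TensorProduct.rid A B) (LinearMap.lTensor B (Module.annihilator A M).subtype z) ∈
        (Module.annihilator A M).map (algebraMap A B) := by
      intro z
      induction z using TensorProduct.induction_on with
      | zero => simp
      | tmul x a =>
        rw [LinearMap.lTensor_tmul, TensorProduct.rid_tmul, Algebra.smul_def, Submodule.subtype_apply]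
        exact Ideal.mul_mem_right _ _ (Ideal.mem_map_of_mem _ a.2)
      | add x y hx hy => rw [map_add, map_add]; exact add_mem hx hy
    have h := key z
    rwa [hz, TensorProduct.rid_tmul, one_smul] at h
  · rw [Ideal.mem_comap, Module.mem_annihilator]
    intro z
    rw [algebraMap_smul]
    induction z using TensorProduct.induction_on with
    | zero => rw [smul_zero]
    | tmul x m => rw [← TensorProduct.tmul_smul, Module.mem_annihilator.1 ha m, TensorProduct.tmul_zero]
    | add x y hx hy => rw [smul_add, hx, hy, add_zero]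

open AlgebraicGeometry CategoryTheory Opposite in
/-- Let f : Y → X be flat and F a quasi-coherent O_X-module of finite type, where the ideal sheaf J
(given by annihilators on affine opens) defines the scheme-theoretic support of F. Then the inverse
image ideal sheaf of J along f cuts out the scheme-theoretic support of f^*F. -/
theorem result {Y X : Scheme.{u}} (f : Y ⟶ X) [Flat f] (F : X.Modules)
    (hq : Coh.IsQCoh F) (hft : CohB1.IsFT F) (J : X.IdealSheafData)
    (hJ : ∀ U : X.affineOpens, J.ideal U = Module.annihilator Γ(X, U.1) Γ(F, U.1)) :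
    ∀ V : Y.affineOpens, (J.comap f).ideal V =
      Module.annihilator Γ(Y, V.1) Γ((Scheme.Modules.pullback f).obj F, V.1) := by
  haveI := hq
  let F' := (Scheme.Modules.pullback f).obj F
  have hq' : Coh.IsQCoh F' := M1.isQCoh_pullback f hq
  have hft' : CohB1.IsFT F' := M1.isFT_pullback f hft
  suffices h : J.comap f = M1.annSheaf hq' hft' by
    intro V
    rw [h, M1.annSheaf_ideal]
  have hcov : ∀ y : Y, ∃ (U : X.affineOpens) (V : Y.affineOpens), y ∈ V.1 ∧ V.1 ≤ f ⁻¹ᵁ U.1 := by
    intro y
    obtain ⟨U, hU, hyU, -⟩ := exists_isAffineOpen_mem_and_subset (show f y ∈ (⊤ : X.Opens) from trivial)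
    obtain ⟨V, hV, hyV, hVU⟩ := exists_isAffineOpen_mem_and_subset (show y ∈ f ⁻¹ᵁ U from hyU)
    exact ⟨⟨U, hU⟩, ⟨V, hV⟩, hyV, hVU⟩
  choose U V hyV hVU using hcov
  refine Scheme.IdealSheafData.ext_of_iSup_eq_top V ?_ fun y => ?_
  · exact top_le_iff.1 fun y _ => TopologicalSpace.Opens.mem_iSup.2 ⟨y, hyV y⟩
  rw [EffCartier.comap_ideal J f (U y) (V y) (hVU y), hJ, M1.annSheaf_ideal]
  letI := (f.appLE (U y).1 (V y).1 (hVU y)).hom.toAlgebra
  haveI : Module.Flat Γ(X, (U y).1) Γ(Y, (V y).1) := f.flat_appLE (U y).2 (V y).2 (hVU y)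
  haveI : Module.Finite Γ(X, (U y).1) Γ(F, (U y).1) := M1.finite_sections hq hft (U y).2
  obtain ⟨L, -⟩ := SchDom.exists_pullEquiv f F (U y).2 (V y).2 (hVU y)
  refine Eq.trans ?_ L.annihilator_eq
  exact (annihilator_baseChange (A := Γ(X, (U y).1)) (B := Γ(Y, (V y).1)) (M := Γ(F, (U y).1))).symm

end Groth.Agent.S9378
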