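import Groth.Statements.S9380
import Groth.Agent.Lib.EGA2.AffAlgLib
import Groth.Agent.S3569
import Groth.Agent.Lib.RelSpecB.Basic

set_option backward.isDefEq.respectTransparency.types false

set_option autoImplicit false
universe u
open QAff

namespace Groth.Agent.S9380

open AlgebraicGeometry CategoryTheory in
/-- A quasi-compact quasi-separated morphism f : X → S is quasi-affine if and only if the canonical
S-morphism X → Spec_S(f_*O_X) (the one inducing the comparison map on direct-image algebras) exists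
as a quasi-compact open immersion. -/
theorem result {X S : Scheme.{u}} (f : X ⟶ S) [QuasiCompact f] [QuasiSeparated f] :
    MoreMor.IsQuasiAffineHom f ↔
      ∃ (c : X ⟶ (RelSpec.QCAlg.directImage f).spec) (e : c ≫ (RelSpec.QCAlg.directImage f).π = f),
        (RelSpec.QCAlg.directImage f).gammaMap = AffAlg.algHom (RelSpec.QCAlg.directImage f).π f c e ∧
          QuasiCompact c ∧ IsOpenImmersion c := by
  let A := RelSpec.QCAlg.directImage f
  have hgm : ∀ U : S.affineOpens, IsIso (A.gammaMap.app (Opposite.op U.1)) := fun U => by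
    rw [A.gammaMap_app U.1 U.2]; exact RelSpecB.isIso_gammaAff A U.1 U.2
  have key : ∀ (c : X ⟶ A.spec) (e : c ≫ A.π = f), A.gammaMap = AffAlg.algHom A.π f c e →
      ∀ U : S.affineOpens, (f ⁻¹ᵁ U.1).ι ≫ c =
        ((f ⁻¹ᵁ U.1 : X.Opens) : Scheme.{u}).toSpecΓ ≫ Spec.map (f ⁻¹ᵁ U.1).topIso.inv ≫
          Spec.map (A.gammaMap.app (Opposite.op U.1)) ≫ (U.2.preimage A.π).fromSpec := by
    intro c e h U
    have h1 := EGA2.piece_algHom A.π f c e U
    rw [← h] at h1
    rw [← h1, EGA2.piece, Scheme.Opens.toSpecΓ, Category.assoc]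
  have hopen : ∀ U : S.affineOpens, IsOpenImmersion (Spec.map (f ⁻¹ᵁ U.1).topIso.inv ≫
      Spec.map (A.gammaMap.app (Opposite.op U.1)) ≫ (U.2.preimage A.π).fromSpec) := fun U => by
    haveI : IsIso (A.gammaMap.app (Opposite.op U.1)) := hgm U
    haveI h1 : IsOpenImmersion (Spec.map (A.gammaMap.app (Opposite.op U.1))) :=
      (inferInstance : IsOpenImmersion _)
    haveI h2 : IsOpenImmersion (Spec.map (f ⁻¹ᵁ U.1).topIso.inv) := inferInstance
    exact MorphismProperty.comp_mem _ _ _ h2 (MorphismProperty.comp_mem _ _ _ h1 inferInstance)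
  refine ⟨fun hq => ?_, ?_⟩
  · obtain ⟨⟨c, e⟩, hc⟩ := (S3569.result A.π f).2 ⟨A.gammaMap, A.π_c_gammaMap⟩
    have hce : A.gammaMap = AffAlg.algHom A.π f c e := (congrArg Subtype.val hc).symm
    haveI : QuasiCompact c :=
      MorphismProperty.of_postcomp (W := @QuasiCompact) (W' := @QuasiSeparated) c A.π inferInstance
        (by rw [e]; infer_instance)
    refine ⟨c, e, hce, inferInstance, ?_⟩
    refine (IsZariskiLocalAtTarget.iff_of_iSup_eq_top (P := @IsOpenImmersion)
      (fun U : S.affineOpens => A.π ⁻¹ᵁ U.1) ?_).2 fun U => ?_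
    · rw [← Scheme.Hom.preimage_iSup, iSup_affineOpens_eq_top, Scheme.Hom.preimage_top]
    · haveI : Scheme.IsQuasiAffine (f ⁻¹ᵁ U.1 : X.Opens) := hq.2 U.1 U.2
      have hpre : c ⁻¹ᵁ (A.π ⁻¹ᵁ U.1) = f ⁻¹ᵁ U.1 := by
        rw [← Scheme.Hom.comp_preimage]; exact congrArg (fun h : X ⟶ S => h ⁻¹ᵁ U.1) e
      have h3 : IsOpenImmersion ((f ⁻¹ᵁ U.1).ι ≫ c) := by
        rw [key c e hce U]
        exact MorphismProperty.comp_mem _ _ _
          (inferInstance : IsOpenImmersion ((f ⁻¹ᵁ U.1 : X.Opens) : Scheme.{u}).toSpecΓ) (hopen U)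
      haveI : IsOpenImmersion ((c ∣_ (A.π ⁻¹ᵁ U.1)) ≫ (A.π ⁻¹ᵁ U.1).ι) := by
        rw [morphismRestrict_ι, ← X.isoOfEq_hom_ι hpre, Category.assoc]
        exact MorphismProperty.comp_mem _ _ _ inferInstance h3
      exact IsOpenImmersion.of_comp _ (A.π ⁻¹ᵁ U.1).ι
  · rintro ⟨c, e, hce, -, hc⟩
    refine ⟨inferInstance, fun V hV => ?_⟩
    haveI : CompactSpace (f ⁻¹ᵁ V : X.Opens) :=
      isCompact_iff_compactSpace.1 (f.isCompact_preimage hV.isCompact)
    haveI := hopen ⟨V, hV⟩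
    haveI : IsOpenImmersion (((f ⁻¹ᵁ V : X.Opens) : Scheme.{u}).toSpecΓ ≫ Spec.map (f ⁻¹ᵁ V).topIso.inv ≫
          Spec.map (A.gammaMap.app (Opposite.op V)) ≫ (hV.preimage A.π).fromSpec) := by
      rw [← key c e hce ⟨V, hV⟩]; exact MorphismProperty.comp_mem _ _ _ inferInstance hc
    haveI : IsOpenImmersion ((f ⁻¹ᵁ V : X.Opens) : Scheme.{u}).toSpecΓ :=
      IsOpenImmersion.of_comp _ (Spec.map (f ⁻¹ᵁ V).topIso.inv ≫
          Spec.map (A.gammaMap.app (Opposite.op V)) ≫ (hV.preimage A.π).fromSpec)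
    exact { }

end Groth.Agent.S9380
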