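import Groth.Statements.S9395


set_option autoImplicit false
universe u
open CAlg

namespace Groth.Agent.S9395

open Polynomial in
theorem aux (R : Type u) [CommRing R] [IsDomain R] [IsNoetherianRing R]
    (S : Type u) [CommRing S] [IsDomain S] [Algebra (Polynomial R) S]
    [IsLocalization.Away (Polynomial.X : Polynomial R) S] (h : CAlg.IsN1 S) : CAlg.IsN1 R := by
  haveI : IsNoetherianRing S := IsLocalization.isNoetherianRing (Submonoid.powers (X : R[X])) S inferInstance
  haveI : Module.Finite S (integralClosure S (FractionRing S)) := h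
  have hinjS : Function.Injective (algebraMap R[X] S) :=
    IsLocalization.injective S (powers_le_nonZeroDivisors_of_noZeroDivisors X_ne_zero)
  let K := FractionRing R
  let L := FractionRing S
  let j : R →+* L := ((algebraMap S L).comp (algebraMap R[X] S)).comp C
  have hRX : Function.Injective ((algebraMap S L).comp (algebraMap R[X] S)) :=
    (IsFractionRing.injective S L).comp hinjS
  have hj : Function.Injective j := hRX.comp C_injective
  let ι : K →+* L := IsFractionRing.lift hj
  have hι : ∀ r : R, ι (algebraMap R K r) = j r := IsFractionRing.lift_algebraMap hj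
  let Φ : K[X] →+* L := eval₂RingHom ι (algebraMap S L (algebraMap R[X] S X))
  have hΦ : ∀ p : R[X], Φ (p.map (algebraMap R K)) = algebraMap S L (algebraMap R[X] S p) := by
    intro p
    show (p.map (algebraMap R K)).eval₂ ι _ = _
    rw [eval₂_map, show ι.comp (algebraMap R K) = j from RingHom.ext hι]
    conv_rhs => rw [← eval₂_C_X (p := p)]
    exact (hom_eval₂ p C ((algebraMap S L).comp (algebraMap R[X] S)) X).symm
  have hΦi : Function.Injective Φ := by
    rw [injective_iff_map_eq_zero]
    intro q hq
    obtain ⟨b, hb0, hb⟩ := IsLocalization.integerNormalization_map_to_map (nonZeroDivisors R) q |>.imp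
      (fun b hb => And.intro (nonZeroDivisors.coe_ne_zero b) hb)
    set p := IsLocalization.integerNormalization (nonZeroDivisors R) q
    have h1 : p.map (algebraMap R K) = algebraMap R K (b : R) • q := by
      rw [hb, algebraMap_smul]
    have h2 : Φ (p.map (algebraMap R K)) = 0 := by
      rw [h1, smul_eq_C_mul, map_mul, hq, mul_zero]
    rw [hΦ] at h2
    have h3 : p = 0 := hRX (h2.trans (map_zero _).symm)
    rw [h3, Polynomial.map_zero] at h1
    refine (smul_eq_zero.1 h1.symm).resolve_left ?_
    rw [map_eq_zero_iff _ (IsFractionRing.injective R K)]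
    exact hb0
  let T : Set L := ι '' (integralClosure R K : Set K)
  have hT : Submodule.span S T ≤ Subalgebra.toSubmodule (integralClosure S L) := by
    rw [Submodule.span_le]
    rintro _ ⟨x, hx, rfl⟩
    obtain ⟨p, hp, hpx⟩ := hx
    refine ⟨p.map ((algebraMap R[X] S).comp C), hp.map _, ?_⟩
    rw [eval₂_map]
    have := congrArg ι hpx
    rw [map_zero, hom_eval₂, show ι.comp (algebraMap R K) = j from RingHom.ext hι] at this
    exact this
  have hfg : (Submodule.span S T).FG := by
    haveI : IsNoetherian S (Subalgebra.toSubmodule (integralClosure S L)) := isNoetherian_of_isNoetherianRing_of_finite S (integralClosure S L)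
    have h := IsNoetherian.noetherian ((Submodule.span S T).comap (Subalgebra.toSubmodule (integralClosure S L)).subtype)
    have h' := h.map (Subalgebra.toSubmodule (integralClosure S L)).subtype
    rwa [Submodule.map_comap_subtype, inf_eq_right.2 hT] at h'
  obtain ⟨T', hT'sub, hT'fin, hT'⟩ : ∃ T' ⊆ T, T'.Finite ∧ Submodule.span S T' = Submodule.span S T := by
    obtain ⟨t, ht, ht'⟩ := Submodule.fg_span_iff_fg_span_finset_subset T |>.1 hfg
    exact ⟨t, ht, t.finite_toSet, ht'.symm⟩
  let W : Submodule R K := Submodule.span R ((integralClosure R K : Set K) ∩ ι ⁻¹' T')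
  have hWfg : W.FG := by
    refine Submodule.fg_span ((hT'fin.preimage ι.injective.injOn).subset Set.inter_subset_right)
  have key : ∀ z ∈ Submodule.span S T', ∃ (N : ℕ) (q : K[X]), algebraMap S L (algebraMap R[X] S X) ^ N * z = Φ q ∧ ∀ i, q.coeff i ∈ W := by
    intro z hz
    induction hz using Submodule.span_induction with
    | mem z hz =>
      obtain ⟨x, hx, rfl⟩ := hT'sub hz
      refine ⟨0, C x, by rw [pow_zero, one_mul]; exact (eval₂_C _ _).symm, fun i => ?_⟩
      rw [coeff_C]
      split_ifs
      · exact Submodule.subset_span ⟨hx, hz⟩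
      · exact zero_mem _
    | zero => exact ⟨0, 0, by simp, fun i => by simp⟩
    | add z w _ _ hz hw =>
      obtain ⟨N, q, hq, hqW⟩ := hz
      obtain ⟨M, r, hr, hrW⟩ := hw
      refine ⟨N + M, q * X ^ M + r * X ^ N, ?_, fun i => ?_⟩
      · have hX : Φ X = algebraMap S L (algebraMap R[X] S X) := eval₂_X _ _
        rw [map_add, map_mul, map_mul, map_pow, map_pow, ← hq, ← hr, hX]; ring
      · rw [coeff_add, coeff_mul_X_pow', coeff_mul_X_pow']
        refine add_mem ?_ ?_ <;> split_ifs
        · exact hqW _
        · exact zero_mem _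
        · exact hrW _
        · exact zero_mem _
    | smul c z _ hz =>
      obtain ⟨N, q, hq, hqW⟩ := hz
      obtain ⟨n, p, hp⟩ := IsLocalization.Away.surj (X : R[X]) c
      refine ⟨N + n, p.map (algebraMap R K) * q, ?_, fun i => ?_⟩
      · rw [map_mul, hΦ, ← hq, ← hp, Algebra.smul_def, map_mul, map_pow]; ring
      · rw [coeff_mul]
        refine sum_mem fun a _ => ?_
        rw [coeff_map, ← Algebra.smul_def]
        exact W.smul_mem _ (hqW _)
  have hle : Subalgebra.toSubmodule (integralClosure R K) ≤ W := by
    intro x hx
    obtain ⟨N, q, hq, hqW⟩ := key (ι x) (hT' ▸ Submodule.subset_span ⟨x, hx, rfl⟩)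
    have hX : Φ X = algebraMap S L (algebraMap R[X] S X) := eval₂_X _ _
    have : C x * X ^ N = q := hΦi (by
      rw [← hq, map_mul, map_pow, hX, mul_comm]
      exact congrArg _ (eval₂_C _ _))
    have := hqW N
    rwa [← ‹C x * X ^ N = q›, coeff_C_mul, coeff_X_pow_self, mul_one] at this
  show Module.Finite R (integralClosure R K)
  have heq : Subalgebra.toSubmodule (integralClosure R K) = W :=
    le_antisymm hle (Submodule.span_le.2 Set.inter_subset_left)
  exact Module.Finite.iff_fg.2 (heq ▸ hWfg)



/-- For a Noetherian domain R, if the Laurent polynomial ring R[X, 1/X] (the localization of R[X] away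
from X) is N-1, then R is N-1. -/
theorem result (R : Type u) [CommRing R] [IsDomain R] [IsNoetherianRing R]
    (S : Type u) [CommRing S] [IsDomain S] [Algebra (Polynomial R) S]
    [IsLocalization.Away (Polynomial.X : Polynomial R) S] (h : CAlg.IsN1 S) : CAlg.IsN1 R := by
  exact aux R S h

end Groth.Agent.S9395
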