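import Groth.Statements.S9400
import Groth.Agent.S9394
import Groth.Agent.Lib.CAlgLow.N1Loc
import Mathlib.RingTheory.Localization.Finiteness

set_option autoImplicit false
universe u
open CAlg

namespace Groth.Agent.S9400

/-- Being a Nagata ring can be checked on a finite cover of Spec R by principal opens. -/
theorem result (R : Type u) [CommRing R]
    {ι : Type u} [Finite ι] (f : ι → R) (hf : Ideal.span (Set.range f) = ⊤)
    (h : ∀ i, CAlg.IsNagata (Localization.Away (f i))) : CAlg.IsNagata R := by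
  refine ⟨⟨fun I => Ideal.fg_of_localizationSpan (Set.range f) hf ?_⟩, fun p hp => ?_⟩
  · rintro ⟨_, i, rfl⟩
    have := (h i).1
    exact IsNoetherian.noetherian _
  let g : {i : ι // Ideal.Quotient.mk p (f i) ≠ 0} → R ⧸ p := fun i => Ideal.Quotient.mk p (f i.1)
  have hg : Ideal.span (Set.range g) = ⊤ := by
    have h1 := congrArg (Ideal.map (Ideal.Quotient.mk p)) hf
    rw [Ideal.map_span, Ideal.map_top] at h1
    refine eq_top_iff.2 (h1 ▸ Ideal.span_le.2 ?_)
    rintro _ ⟨_, ⟨i, rfl⟩, rfl⟩
    by_cases hi : Ideal.Quotient.mk p (f i) = 0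
    · rw [hi]; exact zero_mem _
    · exact Ideal.subset_span ⟨⟨i, hi⟩, rfl⟩
  have : ∀ i, IsDomain (Localization.Away (g i)) := fun i =>
    IsLocalization.isDomain_localization (powers_le_nonZeroDivisors_of_noZeroDivisors i.2)
  refine Groth.Agent.S9394.result (R ⧸ p) g hg (fun i => Localization.Away (g i)) fun i => ?_
  let φ : R →+* Localization.Away (g i) := (algebraMap (R ⧸ p) _).comp (Ideal.Quotient.mk p)
  have hu : ∀ y : Submonoid.powers (f i.1), IsUnit (φ y) := by
    rintro ⟨_, n, rfl⟩
    rw [map_pow]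
    exact IsUnit.pow n (IsLocalization.Away.algebraMap_isUnit (g i))
  let ψ : Localization.Away (f i.1) →+* Localization.Away (g i) := IsLocalization.lift hu
  have hψ : Function.Surjective ψ := by
    intro z
    obtain ⟨⟨a, ⟨_, n, rfl⟩⟩, hz⟩ := IsLocalization.surj (Submonoid.powers (g i)) z
    obtain ⟨r, rfl⟩ := Ideal.Quotient.mk_surjective a
    refine ⟨IsLocalization.mk' (Localization.Away (f i.1)) r (⟨f i.1 ^ n, n, rfl⟩ : Submonoid.powers (f i.1)), ?_⟩
    rw [IsLocalization.lift_mk'_spec, mul_comm]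
    change φ r = z * φ (f i.1 ^ n)
    exact hz.symm.trans (by simp [φ, g])
  have : (RingHom.ker ψ).IsPrime := RingHom.ker_isPrime ψ
  let e := RingHom.quotientKerEquivOfSurjective hψ
  let _ : Algebra (Localization.Away (f i.1) ⧸ RingHom.ker ψ) (Localization.Away (g i)) := e.toRingHom.toAlgebra
  have : IsLocalization (⊥ : Submonoid (Localization.Away (f i.1) ⧸ RingHom.ker ψ)) (Localization.Away (g i)) :=
    ⟨fun y => by rw [(Submonoid.mem_bot).1 y.2, map_one]; exact isUnit_one,
      fun z => ⟨⟨e.symm z, 1⟩, by rw [Submonoid.coe_one, map_one, mul_one]; exact (e.apply_symm_apply z).symm⟩,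
      fun {x y} hxy => ⟨1, by rw [e.injective hxy]⟩⟩
  exact Groth.Agent.CAlgLow.isN2_of_isLocalization ⊥ ((h i.1).2 (RingHom.ker ψ))

end Groth.Agent.S9400
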