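import Groth.Statements.S9401
import Groth.Agent.Lib.CAlgLow.AnUnram
import Groth.Agent.Lib.CAlgLow.NagataFinite
import Groth.Agent.Lib.SmoothRed.Basic
import Groth.Agent.Lib.Hens.Noetherian

set_option autoImplicit false
universe u
open CAlg

namespace Groth.Agent.S9401

open scoped TensorProduct


/-- The Nagata property descends along smooth ring maps that are surjective on spectra. -/
theorem result (R : Type u) [CommRing R] (S : Type u)
    [CommRing S] [Algebra R S] [Algebra.Smooth R S]
    (hs : Function.Surjective (PrimeSpectrum.comap (algebraMap R S))) (hS : CAlg.IsNagata S) :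
    CAlg.IsNagata R := by
  haveI : Module.FaithfullyFlat R S := Module.FaithfullyFlat.of_comap_surjective hs
  haveI := hS.1
  haveI : IsNoetherianRing R := Hens.isNoetherianRing_of_faithfullyFlat R S
  refine ⟨inferInstance, fun p _ L _ _ _ _ hfin => ?_⟩
  haveI := hfin
  let A := R ⧸ p
  let T := A ⊗[R] S
  haveI : Module.FaithfullyFlat A T := inferInstance
  have hT : CAlg.IsNagata T := CAlgLow.isNagata_of_surjective hS
    (Algebra.TensorProduct.includeRight : S →ₐ[R] T).toRingHom
    (Algebra.TensorProduct.includeRight_surjective (R := R) (S := A) S Ideal.Quotient.mk_surjective)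
  let M := Algebra.algebraMapSubmonoid T (nonZeroDivisors A)
  have hMle : M ≤ nonZeroDivisors T := by
    rintro _ ⟨a, ha, rfl⟩
    have h := IsSMulRegular.of_flat (S := T) (IsRegular.of_ne_zero (nonZeroDivisors.ne_zero ha)).left.isSMulRegular
    exact mem_nonZeroDivisors_iff_right.mpr fun y hy => h (by simpa [mul_comm] using hy)
  let R' := Localization M
  have hinj : Function.Injective (algebraMap T R') := IsLocalization.injective R' hMle
  have hunit : ∀ a : A, a ≠ 0 → IsUnit (algebraMap A R' a) := fun a ha => by
    rw [IsScalarTower.algebraMap_apply A T R']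
    exact IsLocalization.map_units R' (⟨_, a, mem_nonZeroDivisors_of_ne_zero ha, rfl⟩ : M)
  haveI : Module.Flat A L := Module.Flat.trans A (FractionRing A) L
  haveI : IsReduced (L ⊗[A] T) := SmoothRed.isReduced_of_smooth L (L ⊗[A] T)
  haveI : IsReduced (T ⊗[A] L) := isReduced_of_injective (Algebra.TensorProduct.comm A T L) (AlgEquiv.injective _)
  let φ : T ⊗[A] L →ₐ[A] R' ⊗[A] L := Algebra.TensorProduct.map (IsScalarTower.toAlgHom A T R') (AlgHom.id A L)
  have hφ : Function.Surjective φ := by
    intro z
    induction z using TensorProduct.induction_on with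
    | zero => exact ⟨0, map_zero _⟩
    | add u v hu hv =>
      obtain ⟨u, rfl⟩ := hu; obtain ⟨v, rfl⟩ := hv
      exact ⟨u + v, map_add _ _ _⟩
    | tmul r l =>
      obtain ⟨⟨t, _, a, ha, rfl⟩, hta⟩ := IsLocalization.surj M r
      obtain ⟨l', hl'⟩ : ∃ l', a • l' = l := by
        refine ⟨(algebraMap A L a)⁻¹ * l, ?_⟩
        rw [Algebra.smul_def, mul_inv_cancel_left₀]
        intro h0
        rw [IsScalarTower.algebraMap_apply A (FractionRing A) L, map_eq_zero] at h0
        exact nonZeroDivisors.ne_zero ha (IsFractionRing.injective A (FractionRing A) (h0.trans (map_zero _).symm))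
      refine ⟨t ⊗ₜ l', ?_⟩
      show algebraMap T R' t ⊗ₜ[A] l' = r ⊗ₜ[A] l
      change r * algebraMap T R' (algebraMap A T a) = algebraMap T R' t at hta
      rw [← (show a • r = algebraMap T R' t by rw [Algebra.smul_def, IsScalarTower.algebraMap_apply A T R']; refine (mul_comm (G := R') _ _).trans ?_; exact hta), ← hl', TensorProduct.smul_tmul]
  haveI : IsReduced (R' ⊗[A] L) := by
    have hb : Function.Bijective φ :=
      ⟨Module.Flat.rTensor_preserves_injective_linearMap (M := L) (IsScalarTower.toAlgHom A T R').toLinearMap hinj, hφ⟩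
    exact isReduced_of_injective (AlgEquiv.ofBijective φ hb).symm (AlgEquiv.injective _)
  exact AnUnram.finite_integralClosure_of_isReduced_fibre T hT M R' hinj hunit L

end Groth.Agent.S9401
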