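import Groth.Statements.S9403
import Groth.Agent.Lib.DerReg1.Basic
import Mathlib.RingTheory.Kaehler.Basic
import Mathlib.Algebra.Algebra.Rat

set_option autoImplicit false
universe u
open CAlg

namespace Groth.Agent.S9403

/-- Let R → S be a ring map with S a Noetherian local ring which is an algebra over the rationals, and f
∈ S such that some S-linear form on the module of differentials of S over R sends df to 1 (df spans
a free direct summand of rank one). Then f is a nonzerodivisor of S. (The published statement asks
only that S·df be a direct summand of the module of differentials, which also holds for the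
rationals with a square-zero element adjoined, where f is a zero divisor; this row asks for an
S-linear form on the differentials sending df to 1, as the published proof uses.) -/
theorem result (R : Type u) [CommRing R]
    (S : Type u) [CommRing S] [IsLocalRing S] [IsNoetherianRing S] [Algebra R S] [Algebra ℚ S]
    (f : S) (θ : Ω[S⁄R] →ₗ[S] S) (hθ : θ (KaehlerDifferential.D R S f) = 1) : f ∈ nonZeroDivisors S := by
  by_cases hf : f ∈ IsLocalRing.maximalIdeal S
  · rw [mem_nonZeroDivisors_iff_right]
    intro g hg
    have hq : ∀ n : ℕ, IsUnit (((n + 1 : ℕ) : S)) := fun n => by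
      have hq : IsUnit ((n + 1 : ℕ) : ℚ) := IsUnit.mk0 _ (Nat.cast_ne_zero.2 n.succ_ne_zero)
      simpa using hq.map (algebraMap ℚ S)
    have := Groth.Agent.DerReg1.mem_of_mul_mem hq (θ.compDer (KaehlerDifferential.D R S)) ⊥
      (fun x hx => by rw [Ideal.mem_bot] at hx ⊢; rw [hx, map_zero]) hθ hf
      (g := g) (by rw [Ideal.mem_bot, mul_comm]; exact hg)
    rwa [Ideal.mem_bot] at this
  · exact (IsLocalRing.notMem_maximalIdeal.1 hf).mem_nonZeroDivisors

end Groth.Agent.S9403
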