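import Groth.Statements.S9404
import Mathlib

set_option autoImplicit false
universe u
open CAlg

namespace Groth.Agent.S9404


open TensorProduct IsLocalRing

theorem maximal_eq_of_purelyInseparable {A B C T : Type u} [CommRing A] [IsLocalRing A] [CommRing B] [IsLocalRing B]
    [CommRing C] [IsLocalRing C] [CommRing T] [Algebra A B] [Algebra A C] [IsLocalHom (algebraMap A C)]
    [IsPurelyInseparable (ResidueField A) (ResidueField C)] (φ : B →+* T) (ψ : C →+* T)
    (hA : φ.comp (algebraMap A B) = ψ.comp (algebraMap A C))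
    (hgen : ∀ t : T, t ∈ Subring.closure (Set.range φ ∪ Set.range ψ))
    (hB : ∀ M : Ideal T, M.IsMaximal → M.comap φ = maximalIdeal B)
    (hC : ∀ M : Ideal T, M.IsMaximal → M.comap ψ = maximalIdeal C)
    (M M' : Ideal T) (hM : M.IsMaximal) (hM' : M'.IsMaximal) : M = M' := by
  obtain ⟨q, hq⟩ := ExpChar.exists (ResidueField A)
  have hexp : ∀ (N : Ideal T) [N.IsMaximal], ExpChar (T ⧸ N) q := fun N hN => by
    letI := Ideal.Quotient.field N
    let g : ResidueField A →+* T ⧸ N :=
      Ideal.Quotient.lift (maximalIdeal A) ((Ideal.Quotient.mk N).comp (ψ.comp (algebraMap A C))) fun a ha => by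
        show Ideal.Quotient.mk N (ψ (algebraMap A C a)) = 0
        rw [Ideal.Quotient.eq_zero_iff_mem, ← Ideal.mem_comap, hC N hN]
        exact map_nonunit (algebraMap A C) a ha
    exact expChar_of_injective_ringHom g.injective q
  have key : ∀ t : T, ∃ (n : ℕ) (b : B), ∀ N : Ideal T, N.IsMaximal →
      Ideal.Quotient.mk N t ^ (q ^ n) = Ideal.Quotient.mk N (φ b) := by
    intro t
    have up : ∀ (t : T) (n : ℕ) (b : B) (n' : ℕ),
        (∀ N : Ideal T, N.IsMaximal → Ideal.Quotient.mk N t ^ (q ^ n) = Ideal.Quotient.mk N (φ b)) →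
        ∀ N : Ideal T, N.IsMaximal → Ideal.Quotient.mk N t ^ (q ^ (n + n')) = Ideal.Quotient.mk N (φ (b ^ (q ^ n'))) := by
      intro t n b n' h N hN
      rw [pow_add, pow_mul, h N hN, map_pow, map_pow]
    induction hgen t using Subring.closure_induction with
    | mem x hx =>
      rcases hx with ⟨b, rfl⟩ | ⟨c, rfl⟩
      · exact ⟨0, b, fun N _ => by rw [pow_zero, pow_one]⟩
      · obtain ⟨n, r, hr⟩ := IsPurelyInseparable.pow_mem (ResidueField A) q (residue C c)
        obtain ⟨a, rfl⟩ := IsLocalRing.residue_surjective r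
        refine ⟨n, algebraMap A B a, fun N hN => ?_⟩
        have hmem : c ^ (q ^ n) - algebraMap A C a ∈ maximalIdeal C := by
          rw [← residue_eq_zero_iff, map_sub, map_pow, ← hr, sub_eq_zero]
          exact (IsLocalRing.ResidueField.algebraMap_residue (R := A) (S := C) a)
        rw [← hC N hN, Ideal.mem_comap, ← Ideal.Quotient.eq_zero_iff_mem, map_sub, map_sub, sub_eq_zero,
          map_pow, map_pow] at hmem
        rw [hmem]
        exact congrArg _ (RingHom.congr_fun hA a).symm
    | zero => exact ⟨0, 0, fun N _ => by simp⟩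
    | one => exact ⟨0, 1, fun N _ => by simp⟩
    | neg x _ h =>
      obtain ⟨n, b, hb⟩ := h
      refine ⟨n, (-1) ^ (q ^ n) * b, fun N hN => ?_⟩
      rw [map_neg, neg_pow, hb N hN, map_mul, map_mul, map_pow, map_pow, map_neg, map_neg, map_one, map_one]
    | mul x y _ _ hx hy =>
      obtain ⟨n, b, hb⟩ := hx
      obtain ⟨m, c, hc⟩ := hy
      refine ⟨n + m, b ^ (q ^ m) * c ^ (q ^ n), fun N hN => ?_⟩
      rw [map_mul, mul_pow, up x n b m hb N hN, show n + m = m + n from add_comm n m, up y m c n hc N hN,
        map_mul, map_mul]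
    | add x y _ _ hx hy =>
      obtain ⟨n, b, hb⟩ := hx
      obtain ⟨m, c, hc⟩ := hy
      refine ⟨n + m, b ^ (q ^ m) + c ^ (q ^ n), fun N hN => ?_⟩
      haveI := hN
      haveI := hexp N
      rw [map_add, add_pow_expChar_pow, up x n b m hb N hN, show n + m = m + n from add_comm n m,
        up y m c n hc N hN, map_add, map_add]
  ext t
  obtain ⟨n, b, hb⟩ := key t
  have hq0 : q ^ n ≠ 0 := pow_ne_zero n (expChar_pos (ResidueField A) q).ne'
  have : ∀ (N : Ideal T), N.IsMaximal → (t ∈ N ↔ b ∈ maximalIdeal B) := fun N hN => by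
    haveI := hN
    rw [← hB N hN, Ideal.mem_comap, ← Ideal.Quotient.eq_zero_iff_mem, ← Ideal.Quotient.eq_zero_iff_mem, ← hb N hN,
      pow_eq_zero_iff hq0]
  rw [this M hM, this M' hM']


open TensorProduct in
/-- For local homomorphisms of local rings A → B and A → C with A → C integral, if the residue field of
C or that of B is purely inseparable over the residue field of A, then B ⊗_A C is local and both
structure maps into it are local. -/
theorem result (A : Type u) [CommRing A]
    [IsLocalRing A] (B : Type u) [CommRing B] [IsLocalRing B] [Algebra A B]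
    [IsLocalHom (algebraMap A B)] (C : Type u) [CommRing C] [IsLocalRing C] [Algebra A C]
    [IsLocalHom (algebraMap A C)] [Algebra.IsIntegral A C]
    (h : IsPurelyInseparable (IsLocalRing.ResidueField A) (IsLocalRing.ResidueField C) ∨
      IsPurelyInseparable (IsLocalRing.ResidueField A) (IsLocalRing.ResidueField B)) :
    IsLocalRing (B ⊗[A] C) ∧
      IsLocalHom (Algebra.TensorProduct.includeLeft : B →ₐ[A] B ⊗[A] C).toRingHom ∧
      IsLocalHom (Algebra.TensorProduct.includeRight : C →ₐ[A] B ⊗[A] C).toRingHom := by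
  let iB : B →ₐ[A] B ⊗[A] C := Algebra.TensorProduct.includeLeft
  let iC : C →ₐ[A] B ⊗[A] C := Algebra.TensorProduct.includeRight
  have hB : ∀ M : Ideal (B ⊗[A] C), M.IsMaximal → M.comap iB.toRingHom = maximalIdeal B := fun M hM => by
    haveI := hM
    exact IsLocalRing.eq_maximalIdeal (Ideal.isMaximal_comap_of_isIntegral_of_isMaximal (R := B) M)
  have hC : ∀ M : Ideal (B ⊗[A] C), M.IsMaximal → M.comap iC.toRingHom = maximalIdeal C := fun M hM => by
    haveI := hM
    haveI : (M.comap iC.toRingHom).IsPrime := inferInstance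
    refine IsLocalRing.eq_maximalIdeal (Ideal.isMaximal_of_isIntegral_of_isMaximal_comap (R := A) _ ?_)
    have h : (M.comap iC.toRingHom).comap (algebraMap A C) = (M.comap iB.toRingHom).comap (algebraMap A B) := by
      ext a
      show iC (algebraMap A C a) ∈ M ↔ iB (algebraMap A B a) ∈ M
      rw [AlgHom.commutes, AlgHom.commutes]
    rw [h, hB M hM, show (maximalIdeal B).comap (algebraMap A B) = maximalIdeal A from Ideal.ext fun a => by
      simp only [Ideal.mem_comap, mem_maximalIdeal, mem_nonunits_iff]
      exact not_congr ⟨fun hu => isUnit_of_map_unit (algebraMap A B) a hu, fun hu => hu.map _⟩]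
    exact maximalIdeal.isMaximal A
  haveI : Nontrivial (B ⊗[A] C) := by
    haveI : Nontrivial (ResidueField B ⊗[ResidueField A] ResidueField C) :=
      Algebra.TensorProduct.nontrivial_of_algebraMap_injective_of_isDomain _ _ _ (RingHom.injective _) (RingHom.injective _)
    let l : B →ₐ[A] ResidueField B ⊗[ResidueField A] ResidueField C :=
      ((Algebra.TensorProduct.includeLeft :
        ResidueField B →ₐ[ResidueField A] _).restrictScalars A).comp (IsScalarTower.toAlgHom A B (ResidueField B))
    let r : C →ₐ[A] ResidueField B ⊗[ResidueField A] ResidueField C :=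
      ((Algebra.TensorProduct.includeRight :
        ResidueField C →ₐ[ResidueField A] _).restrictScalars A).comp (IsScalarTower.toAlgHom A C (ResidueField C))
    exact (Algebra.TensorProduct.lift l r fun _ _ => Commute.all _ _).toRingHom.domain_nontrivial
  have hgen : ∀ t : B ⊗[A] C, t ∈ Subring.closure (Set.range iB.toRingHom ∪ Set.range iC.toRingHom) := by
    intro t
    induction t using TensorProduct.induction_on with
    | zero => exact zero_mem _
    | tmul b c =>
      rw [show b ⊗ₜ[A] c = iB b * iC c by simp [iB, iC]]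
      exact mul_mem (Subring.subset_closure (Or.inl ⟨b, rfl⟩)) (Subring.subset_closure (Or.inr ⟨c, rfl⟩))
    | add x y hx hy => exact add_mem hx hy
  have hA : iB.toRingHom.comp (algebraMap A B) = iC.toRingHom.comp (algebraMap A C) := by
    ext a
    show iB (algebraMap A B a) = iC (algebraMap A C a)
    rw [AlgHom.commutes, AlgHom.commutes]
  obtain ⟨M, hM⟩ := Ideal.exists_maximal (B ⊗[A] C)
  have huniq : ∀ N : Ideal (B ⊗[A] C), N.IsMaximal → N = M := fun N hN => by
    rcases h with h | h
    · exact maximal_eq_of_purelyInseparable (A := A) iB.toRingHom iC.toRingHom hA hgen hB hC N M hN hM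
    · exact maximal_eq_of_purelyInseparable (A := A) iC.toRingHom iB.toRingHom hA.symm
        (fun t => by rw [Set.union_comm]; exact hgen t) hC hB N M hN hM
  haveI hloc : IsLocalRing (B ⊗[A] C) := IsLocalRing.of_unique_max_ideal ⟨M, hM, huniq⟩
  refine ⟨hloc, ?_, ?_⟩
  · exact ((IsLocalRing.local_hom_TFAE iB.toRingHom).out 0 4).2 (hB _ (maximalIdeal.isMaximal _))
  · exact ((IsLocalRing.local_hom_TFAE iC.toRingHom).out 0 4).2 (hC _ (maximalIdeal.isMaximal _))

end Groth.Agent.S9404
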