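import Groth.Statements.S9406
import Groth.Agent.Lib.RegLoc.GlobalDim
import Mathlib.RingTheory.Localization.AtPrime.Basic
import Mathlib.RingTheory.Flat.Localization
import Mathlib.RingTheory.Flat.FaithfullyFlat.Algebra
import Mathlib.RingTheory.Finiteness.Descent

set_option autoImplicit false
universe u
open CAlg

namespace Groth.Agent.S9406

/-- Regularity descends along faithfully flat ring maps: whenever S is a faithfully flat R-algebra whose
underlying ring is regular, the base ring R is regular as well. -/
theorem result (R : Type u) [CommRing R] (S : Type u) [CommRing S]
    [Algebra R S] [Module.FaithfullyFlat R S] [IsRegularRing S] : IsRegularRing R := by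
  haveI : IsNoetherianRing R := by
    rw [isNoetherianRing_iff_ideal_fg]
    exact fun I => Ideal.FG.of_FG_map_of_faithfullyFlat (S := S) (IsNoetherian.noetherian _)
  rw [isRegularRing_iff]
  intro p hp
  obtain ⟨q, hq, hlie⟩ := Ideal.exists_isPrime_liesOver_of_faithfullyFlat (B := S) p
  letI := Localization.localRingHom p q (algebraMap R S) (q.over_def p) |>.toAlgebra
  haveI : IsScalarTower R (Localization.AtPrime p) (Localization.AtPrime q) := by
    refine IsScalarTower.of_algebraMap_eq fun r => ?_
    rw [RingHom.algebraMap_toAlgebra, Localization.localRingHom_to_map,
      ← IsScalarTower.algebraMap_apply R S (Localization.AtPrime q)]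
  haveI : IsLocalHom (algebraMap (Localization.AtPrime p) (Localization.AtPrime q)) :=
    Localization.isLocalHom_localRingHom p q (algebraMap R S) (q.over_def p)
  haveI : Module.Flat R (Localization.AtPrime q) := Module.Flat.trans R S (Localization.AtPrime q)
  haveI : Module.Flat (Localization.AtPrime p) (Localization.AtPrime q) := by
    rw [Module.flat_iff_of_isLocalization (Localization.AtPrime p) p.primeCompl]
    infer_instance
  exact Groth.Agent.RegLoc.isRegularLocalRing_of_flat (Localization.AtPrime p) (Localization.AtPrime q)

end Groth.Agent.S9406
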