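import Groth.Statements.S9409
import Mathlib

set_option autoImplicit false
universe u
open CAlg

namespace Groth.Agent.S9409

open TensorProduct


/-- Let k be a field written as a directed union of subfields k_i (given as fields mapping to k whose
images form a directed family covering k) and A a Noetherian k-algebra. Geometric regularity of A
over every one of the k_i implies that A is also geometrically regular as a k-algebra. -/
theorem result (k : Type u) [Field k] {ι : Type u}
    (K : ι → Type u) [∀ i, Field (K i)] [∀ i, Algebra (K i) k]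
    (hdir : ∀ i j, ∃ l, Set.range (algebraMap (K i) k) ⊆ Set.range (algebraMap (K l) k) ∧
      Set.range (algebraMap (K j) k) ⊆ Set.range (algebraMap (K l) k))
    (hcov : ∀ x : k, ∃ i, x ∈ Set.range (algebraMap (K i) k))
    (A : Type u) [CommRing A] [Algebra k A] [IsNoetherianRing A] [∀ i, Algebra (K i) A]
    [∀ i, IsScalarTower (K i) k A] (h : ∀ i, CAlg.IsGeometricallyRegular (K i) A) :
    CAlg.IsGeometricallyRegular k A := by
  classical
  intro k' _ _ hk'
  haveI := hk'
  let b := Module.finBasis k k'
  let d := Module.finrank k k'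
  let G : Finset k := (Finset.univ.image fun x : Fin d × Fin d × Fin d => b.repr (b x.1 * b x.2.1) x.2.2) ∪
    (Finset.univ.image fun m => b.repr 1 m)
  have hι : Nonempty ι := ⟨(hcov 0).choose⟩
  have hfin : ∀ s : Finset k, ∃ l, ∀ x ∈ s, x ∈ Set.range (algebraMap (K l) k) := by
    intro s
    induction s using Finset.induction_on with
    | empty => exact ⟨hι.some, fun x hx => absurd hx (Finset.notMem_empty x)⟩
    | insert a s _ ih =>
      obtain ⟨l, hl⟩ := ih
      obtain ⟨i, hi⟩ := hcov a
      obtain ⟨m, h1, h2⟩ := hdir i l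
      refine ⟨m, fun x hx => ?_⟩
      rcases Finset.mem_insert.1 hx with rfl | hx
      · exact h1 hi
      · exact h2 (hl x hx)
  obtain ⟨l, hl⟩ := hfin G
  letI : Algebra (K l) k' := ((algebraMap k k').comp (algebraMap (K l) k)).toAlgebra
  haveI : IsScalarTower (K l) k k' := .of_algebraMap_eq fun x => rfl
  let V : Submodule (K l) k' := Submodule.span (K l) (Set.range b)
  have hlin : LinearIndependent (K l) (fun m => b m) :=
    b.linearIndependent.restrict_scalars (by
      intro x y hxy
      simp only [Algebra.smul_def, mul_one] at hxy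
      exact (algebraMap (K l) k).injective hxy)
  have hmemV : ∀ z : k', (∀ m, b.repr z m ∈ Set.range (algebraMap (K l) k)) → z ∈ V := by
    intro z hz
    rw [← b.sum_repr z]
    refine Submodule.sum_mem _ fun m _ => ?_
    obtain ⟨c, hc⟩ := hz m
    rw [← hc, algebraMap_smul]
    exact Submodule.smul_mem _ c (Submodule.subset_span ⟨m, rfl⟩)
  have h1 : (1 : k') ∈ V := hmemV 1 fun m => hl _ (Finset.mem_union_right _ (Finset.mem_image_of_mem _ (Finset.mem_univ m)))
  have hVV : V * V ≤ V := by
    rw [Submodule.span_mul_span, Submodule.span_le]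
    rintro _ ⟨_, ⟨i, rfl⟩, _, ⟨j, rfl⟩, rfl⟩
    exact hmemV _ fun m => hl _ (Finset.mem_union_left _
      (Finset.mem_image.2 ⟨(i, j, m), Finset.mem_univ _, rfl⟩))
  let L₀ : Subalgebra (K l) k' := V.toSubalgebra h1 (fun x y hx hy => hVV (Submodule.mul_mem_mul hx hy))
  haveI : Module.Finite (K l) L₀ := Module.Finite.span_of_finite (K l) (Set.finite_range b)
  haveI : Algebra.IsIntegral (K l) L₀ := Algebra.IsIntegral.of_finite (K l) L₀
  letI : Field L₀ := (isField_of_isIntegral_of_isField' (Field.toIsField (K l))).toField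
  haveI := h l L₀ inferInstance
  let Θ : k ⊗[K l] L₀ →ₐ[k] k' :=
    Algebra.TensorProduct.lift (Algebra.ofId k k') L₀.val fun _ _ => Commute.all _ _
  have hΘ : Function.Surjective Θ := fun z => by
    refine ⟨∑ m, (b.repr z m) ⊗ₜ ⟨b m, Submodule.subset_span ⟨m, rfl⟩⟩, ?_⟩
    rw [map_sum]
    exact (Finset.sum_congr rfl fun m _ => by simp [Θ, Algebra.smul_def]).trans (b.sum_repr z)
  have hrank : Module.finrank k (k ⊗[K l] L₀) = Module.finrank k k' := by
    rw [Module.finrank_baseChange]
    show Module.finrank (K l) V = _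
    rw [finrank_span_eq_card hlin, Fintype.card_fin]
  have hinj : Function.Injective Θ :=
    (LinearMap.injective_iff_surjective_of_finrank_eq_finrank hrank (f := Θ.toLinearMap)).2 hΘ
  let E : k ⊗[K l] L₀ ≃ₐ[k] k' := AlgEquiv.ofBijective Θ ⟨hinj, hΘ⟩
  let e : L₀ ⊗[K l] A ≃+* k' ⊗[k] A :=
    (Algebra.TensorProduct.comm (K l) L₀ A).toRingEquiv.trans
      ((Algebra.TensorProduct.cancelBaseChange (K l) k A A L₀).symm.toRingEquiv.trans
        ((Algebra.TensorProduct.congr (AlgEquiv.refl : A ≃ₐ[k] A) E).toRingEquiv.trans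
          (Algebra.TensorProduct.comm k A k').toRingEquiv))
  exact IsRegularRing.of_ringEquiv e

end Groth.Agent.S9409
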