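import Groth.Statements.S9410
import Groth.Agent.Lib.CAlgLow.GeomReg
import Groth.Agent.S9409

set_option autoImplicit false
universe u
open CAlg

namespace Groth.Agent.S9410

/-- Given a separable algebraic field extension k'/k and a Noetherian k'-algebra A, geometric regularity
of A over k' is equivalent to geometric regularity of A over k. -/
theorem result (k : Type u) [Field k] (k' : Type u)
    [Field k'] [Algebra k k'] [Algebra.IsSeparable k k'] (A : Type u) [CommRing A] [Algebra k' A]
    [Algebra k A] [IsScalarTower k k' A] [IsNoetherianRing A] :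
    CAlg.IsGeometricallyRegular k A ↔ CAlg.IsGeometricallyRegular k' A := by
  refine ⟨fun h => ?_, CAlgLow.geomRegular_of_isSeparable_base A⟩
  refine Groth.Agent.S9409.result k' (fun L : {L : IntermediateField k k' // FiniteDimensional k L} => L.1)
    (fun L M => ?_) (fun x => ?_) A fun L => ?_
  · haveI := L.2; haveI := M.2
    refine ⟨⟨L.1 ⊔ M.1, inferInstance⟩, ?_, ?_⟩
    · rintro _ ⟨z, rfl⟩; exact ⟨⟨z, (le_sup_left : L.1 ≤ L.1 ⊔ M.1) z.2⟩, rfl⟩
    · rintro _ ⟨z, rfl⟩; exact ⟨⟨z, (le_sup_right : M.1 ≤ L.1 ⊔ M.1) z.2⟩, rfl⟩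
  · exact ⟨⟨IntermediateField.adjoin k {x}, IntermediateField.adjoin.finiteDimensional
      (Algebra.IsIntegral.isIntegral x)⟩, ⟨x, IntermediateField.mem_adjoin_simple_self k x⟩, rfl⟩
  · haveI := L.2
    haveI : Algebra.IsSeparable k L.1 := inferInstance
    exact CAlgLow.geomRegular_up_finite A h

end Groth.Agent.S9410
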