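import Groth.Statements.S9414
import Mathlib

set_option autoImplicit false
universe u
open CAlg

namespace Groth.Agent.S9414


open TensorProduct KaehlerDifferential

theorem nonempty_cotangent_equiv_kaehler_quot {k S : Type u} [CommRing k] [CommRing S] [Algebra k S]
    (m : Ideal S) (e : Function.Bijective (algebraMap k (S ⧸ m))) :
    Nonempty ((Ω[S⁄k] ⧸ (m • ⊤ : Submodule S Ω[S⁄k])) ≃ₗ[S] m.Cotangent) := by
  let ε : k ≃ₐ[k] S ⧸ m := AlgEquiv.ofBijective (Algebra.ofId k _) e
  let c : S →ₐ[k] k := ε.symm.toAlgHom.comp (Ideal.Quotient.mkₐ k m)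
  have hc : ∀ s : S, s - algebraMap k S (c s) ∈ m := fun s => by
    rw [← Ideal.Quotient.eq_zero_iff_mem, map_sub, sub_eq_zero]
    exact (ε.apply_symm_apply (Ideal.Quotient.mk m s)).symm
  let δ₀ : S →ₗ[k] m.Cotangent :=
    { toFun := fun s => m.toCotangent ⟨_, hc s⟩
      map_add' := fun s t => by rw [← map_add]; congr 1; ext; simp; ring
      map_smul' := fun r s => by
        rw [RingHom.id_apply, ← IsScalarTower.algebraMap_smul S r (m.toCotangent _), ← map_smul]
        congr 1; ext; simp [Algebra.smul_def, c.commutes]; ring }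
  have hδ : ∀ s, δ₀ s = m.toCotangent ⟨_, hc s⟩ := fun _ => rfl
  let δ : Derivation k S m.Cotangent := Derivation.mk' δ₀ fun s t => by
    rw [hδ, hδ, hδ, ← map_smul, ← map_smul, ← map_add, Ideal.toCotangent_eq]
    have : -((s - algebraMap k S (c s)) * (t - algebraMap k S (c t))) ∈ m ^ 2 :=
      neg_mem (by rw [pow_two]; exact Ideal.mul_mem_mul (hc s) (hc t))
    convert this using 1
    simp
    ring
  let L := δ.liftKaehlerDifferential
  have hL : ∀ x : m, L (D k S x) = m.toCotangent x := fun x => by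
    rw [Derivation.liftKaehlerDifferential_comp_D]
    show m.toCotangent _ = _
    congr 1
    ext
    have : c x = 0 := by
      show ε.symm (Ideal.Quotient.mk m x) = 0
      rw [Ideal.Quotient.eq_zero_iff_mem.2 x.2, map_zero]
    simp [this]
  let β₀ : m →ₗ[S] Ω[S⁄k] ⧸ (m • ⊤ : Submodule S Ω[S⁄k]) :=
    { toFun := fun x => Submodule.Quotient.mk (D k S x)
      map_add' := fun x y => by simp
      map_smul' := fun s x => by
        rw [RingHom.id_apply, ← Submodule.Quotient.mk_smul, Submodule.Quotient.eq]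
        have : (x : S) • D k S s ∈ (m • ⊤ : Submodule S Ω[S⁄k]) := Submodule.smul_mem_smul x.2 trivial
        simpa using this }
  have hβ₀ : (m • ⊤ : Submodule S m) ≤ LinearMap.ker β₀ := Submodule.smul_le.2 fun r hr x _ => by
    rw [LinearMap.mem_ker, map_smul]
    obtain ⟨w, hw⟩ := Submodule.Quotient.mk_surjective _ (β₀ x)
    rw [← hw, ← Submodule.Quotient.mk_smul, Submodule.Quotient.mk_eq_zero]
    exact Submodule.smul_mem_smul hr trivial
  let β : m.Cotangent →ₗ[S] Ω[S⁄k] ⧸ (m • ⊤ : Submodule S Ω[S⁄k]) := Submodule.liftQ _ β₀ hβ₀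
  have hLm : (m • ⊤ : Submodule S Ω[S⁄k]) ≤ LinearMap.ker L := Submodule.smul_le.2 fun r hr w _ => by
    rw [LinearMap.mem_ker, map_smul]
    obtain ⟨y, hy⟩ := m.toCotangent_surjective (L w)
    rw [← hy, ← map_smul, Ideal.toCotangent_eq_zero]
    exact pow_two m ▸ Ideal.mul_mem_mul hr y.2
  refine ⟨LinearEquiv.ofLinear (Submodule.liftQ _ L hLm) β (LinearMap.ext fun z => ?_) ?_⟩
  · obtain ⟨x, rfl⟩ := m.toCotangent_surjective z
    exact hL x
  · refine Submodule.linearMap_qext _ (Derivation.liftKaehlerDifferential_unique _ _ (Derivation.ext fun s => ?_))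
    show β (L (D k S s)) = Submodule.Quotient.mk (D k S s)
    rw [Derivation.liftKaehlerDifferential_comp_D]
    show Submodule.Quotient.mk (D k S (s - algebraMap k S (c s))) = _
    simp


open TensorProduct in
/-- For an algebraically closed field k, a finite type k-algebra S and a maximal ideal m of S with
residue field κ = S/m, the κ-vector spaces κ ⊗_S Ω_{S/k} and m/m² have the same dimension. -/
theorem result (k : Type u) [Field k]
    [IsAlgClosed k] (S : Type u) [CommRing S] [Algebra k S] [Algebra.FiniteType k S]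
    (m : Ideal S) [m.IsMaximal] :
    Module.finrank (S ⧸ m) ((S ⧸ m) ⊗[S] Ω[S⁄k]) = Module.finrank (S ⧸ m) m.Cotangent := by
  haveI : IsJacobsonRing k := inferInstance
  letI := Ideal.Quotient.field m
  haveI : Module.Finite k (S ⧸ m) := finite_of_finite_type_of_isJacobsonRing k (S ⧸ m)
  have e : Function.Bijective (algebraMap k (S ⧸ m)) := IsAlgClosed.algebraMap_bijective_of_isIntegral
  obtain ⟨E⟩ := nonempty_cotangent_equiv_kaehler_quot m e
  exact ((TensorProduct.quotTensorEquivQuotSMul Ω[S⁄k] m).trans E).extendScalarsOfSurjective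
    Ideal.Quotient.mk_surjective |>.finrank_eq

end Groth.Agent.S9414
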