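import Groth.Statements.S9415
import Groth.Agent.Lib.Sep.Basic
import Mathlib.RingTheory.Smooth.Kaehler

set_option autoImplicit false
universe u
open CAlg

namespace Groth.Agent.S9415

/-- Let R be a Noetherian local algebra over a field k whose residue field κ is a finitely generated,
separable (that is, geometrically reduced) field extension of k. Then the map from m/m² (m the
maximal ideal, realised as the kernel of R → κ) to κ ⊗_R Ω_{R/k} sending the class of x to 1 ⊗ dx is
injective. -/
theorem result (k : Type u) [Field k] (R : Type u)
    [CommRing R] [IsLocalRing R] [IsNoetherianRing R] [Algebra k R]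
    [Algebra.EssFiniteType k (IsLocalRing.ResidueField R)]
    [Algebra.IsGeometricallyReduced k (IsLocalRing.ResidueField R)] :
    Function.Injective
      (KaehlerDifferential.kerCotangentToTensor k R (IsLocalRing.ResidueField R)) := by
  haveI : Algebra.FormallySmooth k (IsLocalRing.ResidueField R) :=
    (Sep.formallySmooth_iff_isGeometricallyReduced k (IsLocalRing.ResidueField R)).mpr ‹_›
  let φ := IsScalarTower.toAlgHom k R (IsLocalRing.ResidueField R)
  have hf : Function.Surjective (algebraMap R (IsLocalRing.ResidueField R)) := IsLocalRing.residue_surjective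
  have hs : Function.Surjective φ.kerSquareLift := fun y => by
    obtain ⟨x, rfl⟩ := hf y
    exact ⟨Ideal.Quotient.mk _ x, rfl⟩
  have hn : IsNilpotent (RingHom.ker φ.kerSquareLift.toRingHom) := by
    refine ⟨2, ?_⟩
    erw [AlgHom.ker_kerSquareLift, Ideal.cotangentIdeal_square]
    rfl
  obtain ⟨l, hl⟩ := (retractionKerCotangentToTensorEquivSection (R := k) (P := R)
    (S := IsLocalRing.ResidueField R) hf).symm
    ⟨Algebra.FormallySmooth.liftOfSurjective (AlgHom.id k _) φ.kerSquareLift hs hn,
      Algebra.FormallySmooth.comp_liftOfSurjective _ _ hs hn⟩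
  exact Function.LeftInverse.injective (g := l) (LinearMap.congr_fun hl)

end Groth.Agent.S9415
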