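import Groth.Statements.S9416
import Mathlib


set_option autoImplicit false
universe u
open CAlg

namespace Groth.Agent.S9416

open Finset

theorem core {K : Type u} [Field K] (p : ℕ) [Fact p.Prime] [CharP K p] (D : Derivation ℤ K K)
    (S : Subring K) (hD : ∀ s ∈ S, D s ∈ S) (a : K) (haS : a ∈ S)
    (c : ℕ → K) (hu : (∑ j ∈ range p, c j ^ p * a ^ j) ∈ S) (j : ℕ) (hj : j < p) :
    (D a) ^ (2 * p) * c j ^ p ∈ S := by
  have hp : p.Prime := Fact.out
  have hDp : ∀ z : K, D (z ^ p) = 0 := fun z => by
    rw [Derivation.leibniz_pow, ← Nat.cast_smul_eq_nsmul K, CharP.cast_eq_zero, zero_smul]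
  let T : ℕ → K := fun m => ∑ j ∈ range p, (j.choose m : K) * c j ^ p * a ^ (j - m)
  have hT : ∀ m, D (T m) = ((m + 1 : ℕ) : K) * D a * T (m + 1) := fun m => by
    simp only [T, map_sum, mul_sum]
    refine sum_congr rfl fun i _ => ?_
    rw [Derivation.leibniz, Derivation.leibniz, Derivation.map_natCast, hDp, Derivation.leibniz_pow]
    simp only [smul_zero, add_zero, smul_eq_mul, nsmul_eq_mul, mul_zero]
    have h : (i.choose m : K) * ((i - m : ℕ) : K) = (i.choose (m + 1) : K) * ((m + 1 : ℕ) : K) := by
      rw [← Nat.cast_mul, ← Nat.cast_mul, Nat.choose_succ_right_eq]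
    rw [show i - (m + 1) = i - m - 1 by omega]
    linear_combination c i ^ p * a ^ (i - m - 1) * D a * h
  have hDa : D a ∈ S := hD a haS
  have hunit : ∀ m, m + 1 < p → ∀ z : K, ((m + 1 : ℕ) : K) * z ∈ S → z ∈ S := fun m hm z hz => by
    have h0 : ((m + 1 : ℕ) : ZMod p) ≠ 0 := by
      rw [Ne, ZMod.natCast_eq_zero_iff]
      exact fun h => absurd (Nat.le_of_dvd (Nat.succ_pos m) h) (not_le.2 hm)
    have h1 := congrArg (ZMod.castHom (dvd_refl p) K) (ZMod.pow_card_sub_one_eq_one h0)
    rw [map_pow, map_one, map_natCast, show p - 1 = (p - 2) + 1 by omega, pow_succ] at h1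
    rw [← one_mul z, ← h1, mul_assoc]
    exact mul_mem (pow_mem (natCast_mem S _) _) hz
  have hTS : ∀ m, m < p → D a ^ (2 * m) * T m ∈ S := by
    intro m
    induction m with
    | zero => intro _; simpa [T] using hu
    | succ m ih =>
      intro hm
      have h1 := ih (by omega)
      have h2 : D (D a ^ (2 * m + 1) * T m) ∈ S := hD _ (by
        rw [pow_succ', mul_assoc]; exact mul_mem hDa h1)
      refine hunit m hm _ ?_
      have h3 : D (D a ^ (2 * m + 1) * T m) = ((2 * m + 1 : ℕ) : K) * D (D a) * (D a ^ (2 * m) * T m)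
          + ((m + 1 : ℕ) : K) * (D a ^ (2 * (m + 1)) * T (m + 1)) := by
        rw [Derivation.leibniz, hT, Derivation.leibniz_pow]
        simp only [smul_eq_mul, nsmul_eq_mul, Nat.add_sub_cancel]
        ring
      rw [h3] at h2
      exact (add_mem_cancel_left (mul_mem (mul_mem (natCast_mem S _) (hD _ hDa)) h1)).1 h2
  suffices ∀ k j, p ≤ j + k → j < p → D a ^ (2 * p) * c j ^ p ∈ S from this p j (by omega) hj
  intro k
  induction k with
  | zero => intro j h1 h2; omega
  | succ k ih =>
    intro j h1 h2
    have h3 : D a ^ (2 * p) * T j ∈ S := by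
      rw [show 2 * p = (2 * p - 2 * j) + 2 * j by omega, pow_add, mul_assoc]
      exact mul_mem (pow_mem hDa _) (hTS j h2)
    simp only [T] at h3
    rw [← Finset.add_sum_erase _ _ (mem_range.2 h2), mul_add] at h3
    simp only [Nat.choose_self, Nat.cast_one, one_mul, Nat.sub_self, pow_zero, mul_one] at h3
    refine (add_mem_cancel_right ?_).1 h3
    rw [mul_sum]
    refine sum_mem fun i hi => ?_
    obtain ⟨hne, hi⟩ := mem_erase.1 hi
    rcases lt_or_gt_of_ne hne with hlt | hgt
    · rw [Nat.choose_eq_zero_of_lt hlt]; simp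
    · rw [show D a ^ (2 * p) * ((i.choose j : K) * c i ^ p * a ^ (i - j)) =
        (i.choose j : K) * a ^ (i - j) * (D a ^ (2 * p) * c i ^ p) by ring]
      exact mul_mem (mul_mem (natCast_mem S _) (pow_mem haS _))
        (ih i (by omega) (mem_range.1 hi))



/-- Suppose R is a normal Noetherian domain whose field of fractions K has prime characteristic p > 0, D
a derivation of K preserving R, and a ∈ K with D(a) ≠ 0. For a field L generated over K by an
element x with x^p = a, the integral closure of R in L is module-finite over R. -/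
theorem result (R : Type u) [CommRing R]
    [IsDomain R] [IsNoetherianRing R] [IsIntegrallyClosed R] (K : Type u) [Field K] [Algebra R K]
    [IsFractionRing R K] (p : ℕ) [Fact p.Prime] [CharP K p] (D : Derivation ℤ K K)
    (hD : ∀ r : R, ∃ s : R, D (algebraMap R K r) = algebraMap R K s) (a : K) (ha : D a ≠ 0)
    (L : Type u) [Field L] [Algebra K L] [Algebra R L] [IsScalarTower R K L] (x : L)
    (hx : x ^ p = algebraMap K L a) (hgen : IntermediateField.adjoin K {x} = ⊤) :
    Module.Finite R (integralClosure R L) := by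
  have hp : p.Prime := Fact.out
  have : CharP L p := charP_of_injective_algebraMap (algebraMap K L).injective p
  obtain ⟨⟨r, s⟩, hrs⟩ := IsLocalization.surj (nonZeroDivisors R) a
  let t : K := algebraMap R K s
  have ht : t ≠ 0 := IsFractionRing.to_map_ne_zero_of_mem_nonZeroDivisors s.2
  let a' : K := a * t ^ p
  let S : Subring K := (algebraMap R K).range
  have ha'S : a' ∈ S := ⟨r * (s : R) ^ (p - 1), by
    rw [map_mul, map_pow, ← hrs, mul_assoc, ← pow_succ', Nat.sub_add_cancel hp.one_le]⟩
  have hDa' : D a' ≠ 0 := by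
    have h0 : D (t ^ p) = 0 := by
      rw [Derivation.leibniz_pow, ← Nat.cast_smul_eq_nsmul K, CharP.cast_eq_zero, zero_smul]
    rw [Derivation.leibniz, h0, smul_zero, zero_add, smul_eq_mul]
    exact mul_ne_zero (pow_ne_zero _ ht) ha
  let x' : L := x * algebraMap K L t
  have hx' : x' ^ p = algebraMap K L a' := by rw [mul_pow, hx, map_mul, map_pow]
  let f : Polynomial K := Polynomial.X ^ p - Polynomial.C a'
  have hf : f.Monic := Polynomial.monic_X_pow_sub_C a' hp.ne_zero
  have hfx : Polynomial.aeval x' f = 0 := by simp [f, hx']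
  have hxint : IsIntegral K x := ⟨Polynomial.X ^ p - Polynomial.C a,
    Polynomial.monic_X_pow_sub_C a hp.ne_zero, by simp [hx]⟩
  have hmem : ∀ y : L, y ∈ Algebra.adjoin K {x'} := fun y => by
    have h : y ∈ (IntermediateField.adjoin K {x}).toSubalgebra := by rw [hgen]; trivial
    rw [IntermediateField.adjoin_simple_toSubalgebra_of_isAlgebraic hxint.isAlgebraic] at h
    refine Algebra.adjoin_le ?_ h
    rw [Set.singleton_subset_iff]
    have : x = x' * algebraMap K L t⁻¹ := by
      rw [mul_assoc, ← map_mul, mul_inv_cancel₀ ht, map_one, mul_one]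
    rw [SetLike.mem_coe, this]
    exact mul_mem (Algebra.subset_adjoin rfl) (Subalgebra.algebraMap_mem _ _)
  let M := 2 * p
  let N : Submodule R L :=
    Submodule.span R (Set.range fun j : Fin p => algebraMap K L ((D a' ^ M)⁻¹) * x' ^ (j : ℕ))
  have hle : Subalgebra.toSubmodule (integralClosure R L) ≤ N := by
    intro y hy
    have hy : IsIntegral R y := hy
    obtain ⟨q, rfl⟩ := (Algebra.adjoin_singleton_eq_range_aeval K x' ▸ hmem y :
      y ∈ (Polynomial.aeval x').range)
    have hdeg : (q %ₘ f).natDegree < p := by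
      have := Polynomial.natDegree_modByMonic_lt q hf (fun h => by
        have := congrArg Polynomial.natDegree h
        simp [f, Polynomial.natDegree_X_pow_sub_C, hp.ne_zero] at this)
      simpa [f, Polynomial.natDegree_X_pow_sub_C] using this
    change IsIntegral R (Polynomial.aeval x' q) at hy
    rw [show Polynomial.aeval x' q = Polynomial.aeval x' (q %ₘ f) from
      (Polynomial.aeval_modByMonic_eq_self_of_root hfx).symm] at hy
    have hq : Polynomial.aeval x' q = ∑ j ∈ Finset.range p, algebraMap K L ((q %ₘ f).coeff j) * x' ^ j := by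
      rw [← Polynomial.aeval_modByMonic_eq_self_of_root hfx, Polynomial.aeval_eq_sum_range' hdeg]
      simp [Algebra.smul_def]
    let c : ℕ → K := fun j => (q %ₘ f).coeff j
    have hu : (∑ j ∈ Finset.range p, c j ^ p * a' ^ j) ∈ S := by
      refine IsIntegrallyClosed.isIntegral_iff.1 ((isIntegral_algebraMap_iff (B := L)
        (algebraMap K L).injective).1 ?_)
      have := hy.pow p
      rw [Polynomial.aeval_modByMonic_eq_self_of_root hfx, hq, sum_pow_char] at this
      refine (congrArg (IsIntegral R) ?_).mp this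
      rw [map_sum]
      refine Finset.sum_congr rfl fun j _ => ?_
      rw [mul_pow, map_mul, map_pow, map_pow, ← pow_mul, mul_comm j p, pow_mul, hx']
    have hDS : ∀ z ∈ S, D z ∈ S := by
      rintro _ ⟨z, rfl⟩
      obtain ⟨w, hw⟩ := hD z
      exact ⟨w, hw.symm⟩
    show Polynomial.aeval x' q ∈ N
    rw [hq]
    refine Submodule.sum_mem _ fun j hj => ?_
    have hj := Finset.mem_range.1 hj
    obtain ⟨w, hw⟩ : D a' ^ M * c j ∈ S := by
      have h1 := core p D S hDS a' ha'S c hu j hj
      have h2 : (D a' ^ M * c j) ^ p ∈ S := by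
        rw [mul_pow, show (D a' ^ M) ^ p = (D a' ^ M) ^ (p - 1) * D a' ^ M by
          rw [← pow_succ, Nat.sub_add_cancel hp.one_le], mul_assoc]
        exact mul_mem (pow_mem (pow_mem (hDS _ ha'S) _) _) h1
      obtain ⟨z, hz⟩ := h2
      exact IsIntegrallyClosed.isIntegral_iff.1
        (IsIntegral.of_pow hp.pos (hz ▸ isIntegral_algebraMap))
    have : algebraMap K L ((q %ₘ f).coeff j) * x' ^ j =
        w • (algebraMap K L ((D a' ^ M)⁻¹) * x' ^ j) := by
      rw [Algebra.smul_def, IsScalarTower.algebraMap_apply R K L, hw, ← mul_assoc, ← map_mul]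
      congr 2
      field_simp
      rfl
    rw [this]
    exact Submodule.smul_mem _ _ (Submodule.subset_span ⟨⟨j, hj⟩, rfl⟩)
  haveI : IsNoetherian R N := isNoetherian_of_fg_of_noetherian N (Submodule.fg_span (Set.finite_range _))
  exact Module.Finite.of_injective (Submodule.inclusion hle) (Submodule.inclusion_injective hle)

end Groth.Agent.S9416
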