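import Groth.Statements.S9425
import Mathlib.RingTheory.Etale.Basic
import Mathlib.RingTheory.AdicCompletion.Basic
import Mathlib.RingTheory.Ideal.AssociatedPrime.Basic
import Mathlib.RingTheory.Ideal.Operations
import Mathlib.RingTheory.Support
import Mathlib.RingTheory.Spectrum.Prime.Basic
import Mathlib.RingTheory.Filtration
import Mathlib.RingTheory.Flat.Basic
import Mathlib.RingTheory.LocalRing.Module
import Mathlib.RingTheory.Localization.FractionRing
import Mathlib.LinearAlgebra.FiniteDimensional.Basic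
import Groth.Agent.Lib.H2Alg.ArtinFlat

set_option autoImplicit false
universe u
open CAlg

namespace Groth.Agent.S9425
open TensorProduct

/-- A directed colimit of formally étale R-algebras is formally étale over R. The colimit is encoded by
compatible R-algebra maps S_i → S which are jointly surjective and whose kernels die further along
the system. -/
theorem result {ι : Type u} [Preorder ι] [IsDirected ι (· ≤ ·)] [Nonempty ι]
    (R : Type u) [CommRing R] (G : ι → Type u) [∀ i, CommRing (G i)] [∀ i, Algebra R (G i)]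
    (f : ∀ i j, i ≤ j → (G i →ₐ[R] G j)) (S : Type u) [CommRing S] [Algebra R S]
    (g : ∀ i, G i →ₐ[R] S) (hg : ∀ i j (h : i ≤ j), (g j).comp (f i j h) = g i)
    (hsurj : ∀ s : S, ∃ i, ∃ x : G i, g i x = s)
    (hker : ∀ i (x : G i), g i x = 0 → ∃ j, ∃ h : i ≤ j, f i j h x = 0)
    (h : ∀ i, Algebra.FormallyEtale R (G i)) : Algebra.FormallyEtale R S := by
  rw [Algebra.FormallyEtale.iff_comp_bijective]
  intro B _ _ I hI
  refine ⟨fun a b hab => AlgHom.ext fun s => ?_, fun φ => ?_⟩
  · obtain ⟨i, x, rfl⟩ := hsurj s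
    have := (Algebra.FormallyEtale.comp_bijective R (G i) I hI).1 (a₁ := a.comp (g i)) (a₂ := b.comp (g i))
      (by simp only [← AlgHom.comp_assoc]; exact congrArg (fun t : S →ₐ[R] B ⧸ I => t.comp (g i)) hab)
    exact AlgHom.congr_fun this x
  · choose σ hσ using fun i => (Algebra.FormallyEtale.comp_bijective R (G i) I hI).2 (φ.comp (g i))
    have hc : ∀ i j (hij : i ≤ j), (σ j).comp (f i j hij) = σ i := fun i j hij =>
      (Algebra.FormallyEtale.comp_bijective R (G i) I hI).1 (by
        simp only [← AlgHom.comp_assoc]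
        rw [hσ j, hσ i, AlgHom.comp_assoc, hg i j hij])
    choose idx rep hrep using hsurj
    have key : ∀ i (x : G i) (s : S), g i x = s → σ i x = σ (idx s) (rep s) := by
      intro i x s hs
      obtain ⟨j, hij, hkj⟩ := exists_ge_ge i (idx s)
      have e1 : g j (f i j hij x - f (idx s) j hkj (rep s)) = 0 := by
        rw [map_sub, ← AlgHom.comp_apply, hg, ← AlgHom.comp_apply, hg, hs, hrep, sub_self]
      obtain ⟨l, hjl, hl⟩ := hker j _ e1
      rw [← hc i j hij, ← hc (idx s) j hkj, AlgHom.comp_apply, AlgHom.comp_apply, ← hc j l hjl, AlgHom.comp_apply, AlgHom.comp_apply, ← sub_eq_zero, ← map_sub, ← map_sub, hl, map_zero]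
    obtain ⟨i0⟩ := ‹Nonempty ι›
    refine ⟨{ toFun := fun s => σ (idx s) (rep s), map_one' := by rw [← key i0 1 1 (map_one _), map_one], map_zero' := by rw [← key i0 0 0 (map_zero _), map_zero], map_mul' := fun s t => ?_, map_add' := fun s t => ?_, commutes' := fun r => by rw [← key i0 (algebraMap R _ r) _ ((g i0).commutes r), AlgHom.commutes] }, AlgHom.ext fun s => ?_⟩
    · obtain ⟨j, hs, ht⟩ := exists_ge_ge (idx s) (idx t)
      rw [← key j (f _ j hs (rep s) * f _ j ht (rep t)) (s * t) (by rw [map_mul, ← AlgHom.comp_apply, hg, ← AlgHom.comp_apply, hg, hrep, hrep]), map_mul, ← AlgHom.comp_apply, hc, ← AlgHom.comp_apply, hc]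
    · obtain ⟨j, hs, ht⟩ := exists_ge_ge (idx s) (idx t)
      rw [← key j (f _ j hs (rep s) + f _ j ht (rep t)) (s + t) (by rw [map_add, ← AlgHom.comp_apply, hg, ← AlgHom.comp_apply, hg, hrep, hrep]), map_add, ← AlgHom.comp_apply, hc, ← AlgHom.comp_apply, hc]
    · have := AlgHom.congr_fun (hσ (idx s)) (rep s)
      rw [AlgHom.comp_apply, AlgHom.comp_apply, hrep] at this
      exact this

end Groth.Agent.S9425
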