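import Groth.Statements.S9430
import Groth.Agent.Lib.CI2.Local
import Groth.Prelude

set_option autoImplicit false
universe u
open Synt

namespace Groth.Agent.S9430

/-- For a field extension K/k, every finite subset of K lies in a k-subalgebra of K which is a global
complete intersection over k; so K is the directed union of its k-subalgebras that are global
complete intersections over k. -/
theorem result (k : Type u) [Field k] (K : Type u)
    [Field K] [Algebra k K] (E : Finset K) :
    ∃ A : Subalgebra k K, (↑E : Set K) ⊆ (A : Set K) ∧ Synt.IsGlobalCI k A := by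
  let A₀ : Subalgebra k K := Algebra.adjoin k (E : Set K)
  haveI : Algebra.FiniteType k A₀ := ⟨(Subalgebra.fg_top A₀).mpr ⟨E, rfl⟩⟩
  let L := Localization.AtPrime (⊥ : Ideal A₀)
  have hm : IsLocalRing.maximalIdeal L = ⊥ := by
    rw [← IsLocalization.AtPrime.map_eq_maximalIdeal (⊥ : Ideal A₀) L, Ideal.map_bot]
  haveI : IsDomain L :=
    IsLocalization.isDomain_localization (Ideal.primeCompl_le_nonZeroDivisors (⊥ : Ideal A₀))
  have hF : IsField L := IsLocalRing.isField_iff_maximalIdeal_eq.mpr hm
  letI := hF.toField
  have hci : Synt.IsCIOver k L := by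
    haveI : IsRegularLocalRing L := inferInstance
    haveI : Algebra.EssFiniteType A₀ L := Algebra.EssFiniteType.of_isLocalization _ (⊥ : Ideal A₀).primeCompl
    haveI : Algebra.EssFiniteType k L := Algebra.EssFiniteType.comp k A₀ L
    refine Groth.Agent.CI2.isCIOver_of_surjection (AlgHom.id k L) Function.surjective_id ⟨[], ?_, ?_⟩
    · exact RingTheory.Sequence.IsRegular.nil L L
    · rw [Ideal.ofList_nil]; exact (RingHom.ker_eq_bot_iff_eq_zero _ |>.mpr fun x h => h).symm
  obtain ⟨g, hg, hgci⟩ := Groth.Agent.CI2.exists_away_isGlobalCI (⊥ : Ideal A₀) hci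
  have hg0 : (g : K) ≠ 0 := fun h => hg (Ideal.mem_bot.mpr (Subtype.ext h))
  let φ : Localization.Away g →ₐ[A₀] K := IsLocalization.liftAlgHom (M := Submonoid.powers g) (f := Algebra.ofId A₀ K)
    fun y => by
      obtain ⟨i, hi⟩ := y.2
      rw [← hi, map_pow]
      exact (IsUnit.mk0 _ hg0).pow i
  have hinj : Function.Injective φ := by
    refine (IsLocalization.lift_injective_iff _).mpr fun x y => ?_
    refine ⟨fun h => congrArg _ (IsLocalization.injective (Localization.Away g)
      (powers_le_nonZeroDivisors_of_noZeroDivisors (fun h' => hg0 (congrArg Subtype.val h'))) h),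
      fun h => congrArg _ (Subtype.ext h)⟩
  refine ⟨(φ.restrictScalars k).range, fun x hx => ⟨algebraMap A₀ _ ⟨x, Algebra.subset_adjoin hx⟩, ?_⟩,
    Groth.Agent.CI2.isGlobalCI_congr (AlgEquiv.ofInjective (φ.restrictScalars k) hinj) hgci⟩
  exact IsLocalization.lift_eq _ _

end Groth.Agent.S9430
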