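import Groth.Statements.S9431
import Mathlib
import Groth.Statements.S9442
import Groth.Statements.S9649
import Groth.Statements.S19474
import Groth.Statements.S14436
import Groth.Agent.Lib.Sep.Basic
import Groth.Agent.Lib.RegSmooth17.Basic
import Groth.Agent.Lib.SmoothReg17.Basic
import Groth.Agent.Lib.Compl.Noetherian

set_option autoImplicit false
universe u
open CAlg

namespace Groth.Agent.S9431

/-- For a separable (geometrically reduced) field extension K/k, every finite subset of K lies in a
k-subalgebra of K which is smooth over k; in particular K is a filtered colimit of smooth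
k-algebras. -/
theorem result (k : Type u) [Field k]
    (K : Type u) [Field K] [Algebra k K] [Algebra.IsGeometricallyReduced k K] (E : Finset K) :
    ∃ A : Subalgebra k K, (↑E : Set K) ⊆ (A : Set K) ∧ Algebra.Smooth k A := by
  classical
  let L := IntermediateField.adjoin k (E : Set K)
  haveI : Algebra.IsGeometricallyReduced k L :=
    Algebra.IsGeometricallyReduced.of_injective L.val L.val.injective
  haveI : Algebra.FormallySmooth k L :=
    (Groth.Agent.Sep.formallySmooth_iff_isGeometricallyReduced k L).2 inferInstance
  let B := Algebra.adjoin k (E : Set K)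
  haveI : Algebra.FiniteType k B := (Subalgebra.fg_iff_finiteType B).1 ⟨E, rfl⟩
  haveI : Algebra.FinitePresentation k B := Algebra.FinitePresentation.of_finiteType.mp inferInstance
  letI : Algebra B L := (Subalgebra.inclusion (IntermediateField.algebra_adjoin_le_adjoin k _) : B →ₐ[k] L.toSubalgebra).toRingHom.toAlgebra
  haveI : IsFractionRing B L := IntermediateField.algebraAdjoinAdjoin.instIsFractionRingSubtypeMemSubalgebraAdjoinAdjoin k (E : Set K)
  let q : Ideal B := ⊥
  haveI : q.IsPrime := Ideal.isPrime_bot
  haveI hq : Algebra.IsSmoothAt k q := by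
    haveI : IsLocalization q.primeCompl L := by
      have : q.primeCompl = nonZeroDivisors B := by
        ext x; simp [q, Ideal.primeCompl]
      rw [this]; infer_instance
    haveI : IsScalarTower k B L := IsScalarTower.of_algebraMap_eq fun r => Subtype.ext rfl
    exact Algebra.FormallySmooth.of_equiv
      ((IsLocalization.algEquiv q.primeCompl L (Localization.AtPrime q)).restrictScalars k)
  obtain ⟨f, hf, hsm⟩ := Algebra.IsSmoothAt.exists_notMem_smooth (R := k) q
  have hf0 : (f : K) ≠ 0 := fun h => hf (show f = 0 from Subtype.ext h)
  let ψ : Localization.Away f →ₐ[k] K :=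
    { IsLocalization.Away.lift (S := Localization.Away f) f (g := B.val.toRingHom) (IsUnit.mk0 _ hf0) with
      commutes' := fun r => by
        rw [IsScalarTower.algebraMap_apply k B (Localization.Away f)]
        show IsLocalization.Away.lift f _ _ = _
        rw [IsLocalization.Away.lift_eq]
        rfl }
  have hψ : Function.Injective ψ := by
    rw [injective_iff_map_eq_zero]
    intro z hz
    obtain ⟨n, b, hb⟩ := IsLocalization.Away.surj f z
    have h1 := congrArg ψ hb
    rw [map_mul, hz, zero_mul] at h1
    have h2 : ψ (algebraMap B (Localization.Away f) b) = (b : K) := IsLocalization.Away.lift_eq (S := Localization.Away f) f (IsUnit.mk0 _ hf0) b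
    rw [h2] at h1
    have : b = 0 := Subtype.ext h1.symm
    rw [this, map_zero] at hb
    exact ((IsLocalization.Away.algebraMap_isUnit f).pow n).mul_left_eq_zero.1 hb
  refine ⟨ψ.range, fun x hx => ⟨algebraMap B _ ⟨x, Algebra.subset_adjoin hx⟩, ?_⟩, Algebra.Smooth.of_equiv (AlgEquiv.ofInjective ψ hψ)⟩
  show (IsLocalization.Away.lift f (IsUnit.mk0 _ hf0) : Localization.Away f →+* K) _ = _
  exact IsLocalization.Away.lift_eq (S := Localization.Away f) f (IsUnit.mk0 _ hf0) _

end Groth.Agent.S9431
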