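import Groth.Statements.S9433
import Mathlib

set_option autoImplicit false
universe u
open CAlg

namespace Groth.Agent.S9433
open Polynomial

theorem algebraMap_eval {R S : Type u} [CommRing R] [CommRing S] [Algebra R S] (F : R[X]) (a : R) :
    algebraMap R S (F.eval a) = aeval (algebraMap R S a) F := by
  rw [aeval_algebraMap_apply, Polynomial.coe_aeval_eq_eval]

/-- Let R → S be a local homomorphism of local rings with S the localization of an étale R-algebra at a
prime, inducing an isomorphism of residue fields. Then for some t in the maximal ideal of R the maps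
R/t^nR → S/t^nS are bijective for all n ≥ 1. -/
theorem result (R : Type u) [CommRing R] [IsLocalRing R] (T : Type u) [CommRing T] [Algebra R T]
    [Algebra.Etale R T] (q : Ideal T) [q.IsPrime] (S : Type u) [CommRing S] [IsLocalRing S]
    [Algebra T S] [IsLocalization.AtPrime S q] [Algebra R S] [IsScalarTower R T S]
    [IsLocalHom (algebraMap R S)]
    (hres : Function.Bijective (IsLocalRing.ResidueField.map (algebraMap R S))) :
    ∃ t ∈ IsLocalRing.maximalIdeal R, ∀ n : ℕ, 1 ≤ n →
      Function.Bijective (Ideal.quotientMap ((Ideal.span {t ^ n}).map (algebraMap R S))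
        (algebraMap R S) Ideal.le_comap_map) := by
  haveI : Algebra.IsEtaleAt R q := by
    haveI : Algebra.FormallyEtale T (Localization.AtPrime q) :=
      Algebra.FormallyEtale.of_isLocalization q.primeCompl
    exact Algebra.FormallyEtale.comp R T (Localization.AtPrime q)
  obtain ⟨f, hfq, hstd⟩ := Algebra.IsEtaleAt.exists_isStandardEtale (R := R) q
  obtain ⟨P⟩ := hstd.nonempty_standardEtalePresentation
  have hfu : IsUnit (Algebra.ofId T S f) := IsLocalization.map_units S (⟨f, hfq⟩ : q.primeCompl)
  let φ : Localization.Away f →ₐ[R] S :=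
    (IsLocalization.Away.liftAlgHom f (f := Algebra.ofId T S) hfu).restrictScalars R
  have hφT : ∀ s : T, φ (algebraMap T (Localization.Away f) s) = algebraMap T S s := fun s =>
    (IsLocalization.Away.liftAlgHom f (f := Algebra.ofId T S) hfu).commutes s
  set x := φ P.x with hx
  have hmap := P.hasMap.map φ
  rw [← hx] at hmap
  set resS := IsLocalRing.residue S
  obtain ⟨a₀, ha₀⟩ : ∃ a₀ : R, resS (algebraMap R S a₀) = resS x := by
    obtain ⟨z, hz⟩ := hres.2 (resS x)
    obtain ⟨a₀, rfl⟩ := IsLocalRing.residue_surjective z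
    exact ⟨a₀, hz⟩
  have hevres : ∀ (F : R[X]) (a : R), resS (algebraMap R S a) = resS x →
      resS (algebraMap R S (F.eval a)) = resS (aeval x F) := fun F a ha => by
    rw [algebraMap_eval, aeval_def, aeval_def, hom_eval₂, hom_eval₂, ha]
  have hmem : ∀ a : R, resS (algebraMap R S a) = 0 ↔ a ∈ IsLocalRing.maximalIdeal R := fun a => by
    rw [IsLocalRing.residue_eq_zero_iff, IsLocalRing.mem_maximalIdeal, IsLocalRing.mem_maximalIdeal,
      map_mem_nonunits_iff]
  have hunit : ∀ (F : R[X]) (a : R), resS (algebraMap R S a) = resS x → IsUnit (aeval x F) → IsUnit (F.eval a) := by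
    intro F a ha hu
    by_contra hne
    have := (hmem _).2 ((IsLocalRing.mem_maximalIdeal _).2 hne)
    rw [hevres F a ha] at this
    exact (hu.map resS).ne_zero this
  set t := P.f.eval a₀
  have ht : t ∈ IsLocalRing.maximalIdeal R := by
    rw [← hmem, hevres _ _ ha₀, hmap.1, map_zero]
  refine ⟨t, ht, fun n hn => ?_⟩
  -- Newton approximation
  have hnewton : ∀ m, 1 ≤ m → ∃ a : R, resS (algebraMap R S a) = resS x ∧ P.f.eval a ∈ Ideal.span {t ^ m} := by
    intro m hm
    induction m, hm using Nat.le_induction with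
    | base => exact ⟨a₀, ha₀, by rw [pow_one]; exact Ideal.mem_span_singleton_self _⟩
    | succ m hm ih =>
      obtain ⟨a, ha, hFa⟩ := ih
      obtain ⟨u, hu⟩ := hunit P.f.derivative a ha hmap.isUnit_derivative_f
      obtain ⟨c, hc⟩ := Ideal.mem_span_singleton.1 hFa
      obtain ⟨k, hk⟩ := Polynomial.binomExpansion P.f a (-(t ^ m * c * ↑u⁻¹))
      refine ⟨a + -(t ^ m * c * ↑u⁻¹), ?_, Ideal.mem_span_singleton.2 ?_⟩
      · rw [map_add, map_add, ha, (hmem _).2, add_zero]
        exact neg_mem (Ideal.mul_mem_right _ _ (Ideal.mul_mem_right _ _ (Ideal.pow_mem_of_mem _ ht m (by omega))))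
      · rw [hk, hc, ← hu]
        refine ⟨t ^ (m - 1) * (k * c ^ 2 * (↑u⁻¹) ^ 2), ?_⟩
        obtain ⟨m, rfl⟩ : ∃ j, m = j + 1 := ⟨m - 1, by omega⟩
        rw [Nat.add_sub_cancel]
        have e1 : (↑u : R) * ↑u⁻¹ = 1 := u.mul_inv
        linear_combination (-(t ^ (m + 1) * c)) * e1
  obtain ⟨a, ha, hFa⟩ := hnewton n hn
  set J : Ideal R := Ideal.span {t ^ n}
  have hJm : J ≤ IsLocalRing.maximalIdeal R :=
    (Ideal.span_singleton_le_iff_mem _).2 (Ideal.pow_mem_of_mem _ ht n hn)
  -- the retraction
  have hρ : P.P.HasMap (Ideal.Quotient.mk J a) := by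
    rw [← Ideal.Quotient.algebraMap_eq]
    exact ⟨by rw [← algebraMap_eval]; exact Ideal.Quotient.eq_zero_iff_mem.2 hFa,
      by rw [← algebraMap_eval]; exact (hunit _ _ ha hmap.2).map _⟩
  let ρ : Localization.Away f →ₐ[R] R ⧸ J := (P.P.lift _ hρ).comp P.equivRing.toAlgHom
  have hρx : ρ P.x = Ideal.Quotient.mk J a := by simp [ρ]
  let toRes : R ⧸ J →ₐ[R] IsLocalRing.ResidueField S :=
    Ideal.Quotient.liftₐ J (Algebra.ofId R _) fun y hy => (hmem y).2 (hJm hy)
  have hcomp : toRes.comp ρ = (IsScalarTower.toAlgHom R S (IsLocalRing.ResidueField S)).comp φ := by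
    apply P.hom_ext
    show toRes (ρ P.x) = _
    rw [hρx]
    exact ha
  let σT : T →+* R ⧸ J := (ρ.comp (IsScalarTower.toAlgHom R T (Localization.Away f))).toRingHom
  have hσ : ∀ s : q.primeCompl, IsUnit (σT s) := by
    intro s
    obtain ⟨r, hr⟩ := Ideal.Quotient.mk_surjective (σT s)
    rw [← hr]
    refine IsUnit.map _ (by_contra fun hne => ?_)
    have h1 : toRes (σT s) = resS (algebraMap T S s) := by
      have := AlgHom.congr_fun hcomp (algebraMap T (Localization.Away f) (s : T))
      exact this.trans (congrArg resS (hφT s))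
    rw [← hr] at h1
    exact ((IsLocalization.map_units S s).map resS).ne_zero
      (h1.symm.trans ((hmem r).2 ((IsLocalRing.mem_maximalIdeal _).2 hne)))
  let σ : S →+* R ⧸ J := IsLocalization.lift (M := q.primeCompl) hσ
  have hσR : σ.comp (algebraMap R S) = Ideal.Quotient.mk J := by
    ext r
    show σ (algebraMap R S r) = _
    rw [IsScalarTower.algebraMap_apply R T S r, IsLocalization.lift_eq]
    exact (ρ.comp (IsScalarTower.toAlgHom R T (Localization.Away f))).commutes r
  set JS := J.map (algebraMap R S)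
  constructor
  · rw [injective_iff_map_eq_zero]
    intro z hz
    obtain ⟨z, rfl⟩ := Ideal.Quotient.mk_surjective z
    rw [Ideal.quotientMap_mk, Ideal.Quotient.eq_zero_iff_mem] at hz
    have h1 : σ (algebraMap R S z) ∈ JS.map σ := Ideal.mem_map_of_mem σ hz
    rw [Ideal.map_map, hσR, Ideal.map_quotient_self, Ideal.mem_bot] at h1
    exact (RingHom.congr_fun hσR z).symm.trans h1
  · -- `x ≡ a` modulo `J S`
    have hxa : x - algebraMap R S a ∈ JS := by
      obtain ⟨k, hk⟩ := Polynomial.binomExpansion (P.f.map (algebraMap R S)) (algebraMap R S a) (x - algebraMap R S a)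
      rw [add_sub_cancel, eval_map, ← aeval_def, hmap.1, eval_map_algebraMap, derivative_map, eval_map_algebraMap,
        ← algebraMap_eval, ← algebraMap_eval] at hk
      have hu : IsUnit (algebraMap R S (P.f.derivative.eval a) + k * (x - algebraMap R S a)) := by
        by_contra hne
        have h0 : resS (algebraMap R S (P.f.derivative.eval a) + k * (x - algebraMap R S a)) = 0 :=
          (IsLocalRing.residue_eq_zero_iff _).2 ((IsLocalRing.mem_maximalIdeal _).2 hne)
        rw [map_add, map_mul, map_sub, ha, sub_self, mul_zero, add_zero] at h0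
        exact (((hunit _ _ ha hmap.isUnit_derivative_f).map (algebraMap R S)).map resS).ne_zero h0
      rw [← Ideal.unit_mul_mem_iff_mem JS hu]
      have : (algebraMap R S (P.f.derivative.eval a) + k * (x - algebraMap R S a)) * (x - algebraMap R S a) =
          -algebraMap R S (P.f.eval a) := by linear_combination -hk
      rw [this]
      exact neg_mem (Ideal.mem_map_of_mem _ hFa)
    let π : R ⧸ J →ₐ[R] S ⧸ JS := Ideal.Quotient.liftₐ J (Algebra.ofId R _) fun y hy =>
      (Ideal.Quotient.eq_zero_iff_mem.2 (Ideal.mem_map_of_mem _ hy) : Ideal.Quotient.mk JS (algebraMap R S y) = 0)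
    have hT' : π.comp ρ = (Ideal.Quotient.mkₐ R JS).comp φ := by
      apply P.hom_ext
      show π (ρ P.x) = _
      rw [hρx]
      exact (Ideal.Quotient.eq.2 hxa).symm
    have hS : π.toRingHom.comp σ = Ideal.Quotient.mk JS := by
      refine IsLocalization.ringHom_ext q.primeCompl (RingHom.ext fun s => ?_)
      show π (σ (algebraMap T S s)) = Ideal.Quotient.mk JS (algebraMap T S s)
      rw [IsLocalization.lift_eq, ← hφT]
      exact AlgHom.congr_fun hT' (algebraMap T (Localization.Away f) s)
    intro z
    obtain ⟨z, rfl⟩ := Ideal.Quotient.mk_surjective z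
    refine ⟨σ z, ?_⟩
    obtain ⟨r, hr⟩ := Ideal.Quotient.mk_surjective (σ z)
    rw [← hr, Ideal.quotientMap_mk]
    have := RingHom.congr_fun hS z
    rw [RingHom.comp_apply, ← hr] at this
    exact this

end Groth.Agent.S9433
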