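import Groth.Statements.S9434
import Groth.Agent.Lib.CI2.SplitCover

set_option autoImplicit false
universe u
open CAlg

namespace Groth.Agent.S9434
open Groth.Agent.CI2 Polynomial

theorem mem_map_iff {T : Type u} [CommRing T] {q : Ideal T} [q.IsPrime] {g : T} (hg : g ∉ q) (x : T) :
    algebraMap T (Localization.Away g) x ∈ q.map (algebraMap T (Localization.Away g)) ↔ x ∈ q :=
  SetLike.ext_iff.1 (IsLocalization.under_map_of_isPrime_disjoint (Submonoid.powers g) (Localization.Away g)
    inferInstance ((Ideal.disjoint_powers_iff_notMem_of_isPrime g).2 hg)) x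

theorem exists_hom {R T S : Type u} [CommRing R] [CommRing T] [Algebra R T] [CommRing S]
    [Algebra T S] [Algebra R S] [IsScalarTower R T S]
    (q : Ideal T) [q.IsPrime] [IsLocalization.AtPrime S q] (g : T) (hg : g ∉ q)
    {S' : Type u} [CommRing S'] [Algebra R S'] (m : Ideal S') [m.IsPrime] (g' : S') (hg' : g' ∉ m)
    (φ : Localization.Away g →ₐ[R] Localization.Away g')
    (hφ : (m.map (algebraMap S' (Localization.Away g'))).comap φ = q.map (algebraMap T (Localization.Away g))) :
    Nonempty (S →ₐ[R] Localization.AtPrime m) := by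
  have hu : IsUnit (algebraMap S' (Localization.AtPrime m) g') :=
    IsLocalization.map_units (Localization.AtPrime m) (⟨g', hg'⟩ : m.primeCompl)
  let ρ : Localization.Away g' →ₐ[R] Localization.AtPrime m :=
    IsLocalization.liftAlgHom (M := Submonoid.powers g')
      (f := IsScalarTower.toAlgHom R S' (Localization.AtPrime m)) (fun y => by
        obtain ⟨n, hn⟩ := y.2
        simp only [IsScalarTower.coe_toAlgHom']
        rw [← hn, map_pow]
        exact hu.pow n)
  let ψ : T →ₐ[R] Localization.AtPrime m := (ρ.comp φ).comp (IsScalarTower.toAlgHom R T (Localization.Away g))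
  have hψ : ∀ y : q.primeCompl, IsUnit (ψ y) := fun y => by
    have hdq : Disjoint (Submonoid.powers g : Set T) q := (Ideal.disjoint_powers_iff_notMem_of_isPrime g).2 hg
    have hdm : Disjoint (Submonoid.powers g' : Set S') m := (Ideal.disjoint_powers_iff_notMem_of_isPrime g').2 hg'
    have h1 : φ (algebraMap T (Localization.Away g) y) ∉ m.map (algebraMap S' (Localization.Away g')) := fun h => by
      have h2 : algebraMap T (Localization.Away g) y ∈ q.map (algebraMap T (Localization.Away g)) := by
        rw [← hφ]; exact h
      exact y.2 ((mem_map_iff hg _).1 h2)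
    show IsUnit (ρ (φ (algebraMap T (Localization.Away g) y)))
    generalize φ (algebraMap T (Localization.Away g) y) = w at h1
    obtain ⟨⟨a, s⟩, hw⟩ := IsLocalization.surj (Submonoid.powers g') w
    have ha : a ∉ m := fun ha => by
      apply h1
      have hsu : IsUnit (algebraMap S' (Localization.Away g') s) := IsLocalization.map_units _ s
      rw [← Ideal.unit_mul_mem_iff_mem _ hsu, mul_comm, hw]
      exact Ideal.mem_map_of_mem _ ha
    have h4 := congrArg ρ hw
    rw [map_mul] at h4
    have h5 : ∀ z : S', ρ (algebraMap S' (Localization.Away g') z) = algebraMap S' (Localization.AtPrime m) z := fun z =>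
      IsLocalization.lift_eq _ z
    rw [h5, h5] at h4
    have := IsLocalization.map_units (Localization.AtPrime m) (⟨a, ha⟩ : m.primeCompl)
    rw [← h4] at this
    exact isUnit_of_mul_isUnit_left this
  exact ⟨IsLocalization.liftAlgHom (M := q.primeCompl) (f := ψ) hψ⟩

/-- Let R → S be a local homomorphism of local rings with S the localization of an étale R-algebra at a
prime. Then there is a finite, finitely presented, faithfully flat R-algebra S' such that for every
maximal ideal m' of S' the structure map R → S'_{m'} factors through some R-algebra map S → S'_{m'}. -/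
theorem result (R : Type u) [CommRing R] [IsLocalRing R] (T : Type u) [CommRing T] [Algebra R T]
    [Algebra.Etale R T] (q : Ideal T) [q.IsPrime] (S : Type u) [CommRing S] [IsLocalRing S]
    [Algebra T S] [IsLocalization.AtPrime S q] [Algebra R S] [IsScalarTower R T S]
    [IsLocalHom (algebraMap R S)] :
    ∃ (S' : Type u) (_ : CommRing S') (_ : Algebra R S'),
      Module.Finite R S' ∧ Algebra.FinitePresentation R S' ∧ Module.FaithfullyFlat R S' ∧
        ∀ (m' : Ideal S') [m'.IsMaximal], Nonempty (S →ₐ[R] Localization.AtPrime m') := by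
  obtain ⟨g, hg, hgs⟩ := Algebra.IsEtaleAt.exists_isStandardEtale (R := R) q
  obtain ⟨P⟩ := hgs.nonempty_standardEtalePresentation
  obtain ⟨S', iS, aS, hfin, hfree, hi, s, hs⟩ := SplitCover.exists_split _ R P.f P.monic_f rfl
  refine ⟨S', iS, aS, hfin, SplitCover.fp_of_free,
    Module.FaithfullyFlat.of_comap_surjective (SplitCover.surjective_comap hi), fun m' _ => ?_⟩
  have hqR : q.under R = IsLocalRing.maximalIdeal R := by
    have h1 : (IsLocalRing.maximalIdeal S).comap (algebraMap T S) = q := IsLocalization.AtPrime.under_maximalIdeal S q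
    rw [Ideal.under, ← h1, Ideal.comap_comap, ← IsScalarTower.algebraMap_eq]
    exact ((IsLocalRing.local_hom_TFAE (algebraMap R S)).out 0 4).1 ‹IsLocalHom (algebraMap R S)›
  have hmR : m'.under R = IsLocalRing.maximalIdeal R :=
    IsLocalRing.eq_maximalIdeal (Ideal.IsMaximal.under R m')
  haveI : (q.map (algebraMap T (Localization.Away g))).IsPrime :=
    IsLocalization.isPrime_of_isPrime_disjoint (Submonoid.powers g) _ q inferInstance
      ((Ideal.disjoint_powers_iff_notMem_of_isPrime g).2 hg)
  let e := P.equivRing
  haveI : ((q.map (algebraMap T (Localization.Away g))).comap e.symm).IsPrime := Ideal.IsPrime.comap _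
  have h' : m'.under R = ((q.map (algebraMap T (Localization.Away g))).comap e.symm).under R := by
    rw [hmR, ← hqR]
    ext r
    simp only [Ideal.mem_comap]
    rw [e.symm.commutes, IsScalarTower.algebraMap_apply R T (Localization.Away g), mem_map_iff hg]
  obtain ⟨g', hg', φ, hφ⟩ := SplitCover.exists_map P.P s hs _ m' h'
  refine exists_hom q g hg m' g' hg' (φ.comp e.toAlgHom) ?_
  ext z
  rw [Ideal.mem_comap, AlgHom.comp_apply]
  have := SetLike.ext_iff.1 hφ (e z)
  rw [Ideal.mem_comap, Ideal.mem_comap, e.symm_apply_apply] at this
  exact this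

end Groth.Agent.S9434
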