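import Groth.Statements.S9435
import Mathlib
import Groth.Agent.Lib.Hens.EtaleLift

set_option autoImplicit false
universe u
open CAlg

namespace Groth.Agent.S9435
open TensorProduct Polynomial

/-- Given a prime p of a ring R and a finite separable extension L of κ(p), there is an étale R-algebra
R' with a prime p' over p whose residue field is κ(p)-isomorphic to L. Stated through an R-algebra
map ψ : R' → L whose image generates the field L: its kernel is such a prime p' and the induced
κ(p') → L is then an isomorphism over κ(p). -/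
theorem result (R : Type u) [CommRing R]
    (p : Ideal R) [p.IsPrime] (L : Type u) [Field L] [Algebra p.ResidueField L] [Algebra R L]
    [IsScalarTower R p.ResidueField L] [Module.Finite p.ResidueField L]
    [Algebra.IsSeparable p.ResidueField L] :
    ∃ (R' : Type u) (_ : CommRing R') (_ : Algebra R R') (_ : Algebra.Etale R R') (ψ : R' →ₐ[R] L),
      Subfield.closure (Set.range ψ) = ⊤ := by
  classical
  obtain ⟨α, hα⟩ := Field.exists_primitive_element p.ResidueField L
  set κ := p.ResidueField
  have hint : IsIntegral κ α := Algebra.IsIntegral.isIntegral α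
  set m := minpoly κ α with hm
  obtain ⟨b, hb⟩ := IsLocalization.exist_integer_multiples (nonZeroDivisors (R ⧸ p))
    (Finset.range m.natDegree) (fun i => m.coeff i)
  set β : κ := algebraMap (R ⧸ p) κ b
  have hβ : β ≠ 0 := IsFractionRing.to_map_ne_zero_of_mem_nonZeroDivisors b.2
  set mβ := m.scaleRoots β
  have hmon : mβ.Monic := (monic_scaleRoots_iff β).2 (minpoly.monic hint)
  have hlift : mβ ∈ Polynomial.lifts (algebraMap R κ) := by
    rw [lifts_iff_coeff_lifts]
    intro i
    have hsurj : Set.range (algebraMap (R ⧸ p) κ) ⊆ Set.range (algebraMap R κ) := by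
      rintro _ ⟨c, rfl⟩
      obtain ⟨r, rfl⟩ := Ideal.Quotient.mk_surjective c
      exact ⟨r, IsScalarTower.algebraMap_apply R (R ⧸ p) κ r⟩
    rw [coeff_scaleRoots]
    rcases lt_trichotomy i m.natDegree with hi | rfl | hi
    · obtain ⟨r, hr⟩ := hb i (Finset.mem_range.2 hi)
      refine hsurj ⟨r * (b : R ⧸ p) ^ (m.natDegree - i - 1), ?_⟩
      rw [map_mul, map_pow, hr, Algebra.smul_def]
      conv_rhs => rw [show m.natDegree - i = m.natDegree - i - 1 + 1 by omega, pow_succ]
      show β * m.coeff i * β ^ (m.natDegree - i - 1) = _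
      ring
    · exact ⟨1, by rw [(minpoly.monic hint).coeff_natDegree, Nat.sub_self, pow_zero, map_one, mul_one]⟩
    · exact ⟨0, by rw [coeff_eq_zero_of_natDegree_lt hi, map_zero, zero_mul]⟩
  obtain ⟨F, hF, -, hFmon⟩ := lifts_and_degree_eq_and_monic hlift hmon
  let P : StandardEtalePair R := ⟨F, hFmon, derivative F, ⟨1, 0, 1, by simp⟩⟩
  set α' := algebraMap κ L β * α
  have hα' : IntermediateField.adjoin κ {α'} = ⊤ := by
    refine eq_top_iff.2 (hα ▸ IntermediateField.adjoin_simple_le_iff.2 ?_)
    have h1 : α' ∈ IntermediateField.adjoin κ {α'} := IntermediateField.mem_adjoin_simple_self κ α'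
    have h2 := (IntermediateField.adjoin κ {α'}).mul_mem
      ((IntermediateField.adjoin κ {α'}).algebraMap_mem β⁻¹) h1
    rwa [← mul_assoc, ← map_mul, inv_mul_cancel₀ hβ, map_one, one_mul] at h2
  have hint' : IsIntegral κ α' := Algebra.IsIntegral.isIntegral α'
  have hroot : aeval α' mβ = 0 := scaleRoots_aeval_eq_zero (minpoly.aeval κ α)
  have hmin : minpoly κ α' = mβ := by
    refine (eq_of_monic_of_dvd_of_natDegree_le (minpoly.monic hint') hmon (minpoly.dvd κ α' hroot) (le_of_eq ?_)).symm
    rw [natDegree_scaleRoots, ← IntermediateField.adjoin.finrank hint, ← IntermediateField.adjoin.finrank hint',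
      hα, hα']
  have hev : ∀ G : R[X], aeval α' (G.map (algebraMap R κ)) = aeval α' G := fun G => aeval_map_algebraMap κ α' G
  have hmap : P.HasMap α' := by
    refine ⟨?_, isUnit_iff_ne_zero.2 ?_⟩
    · show aeval α' F = 0
      rw [← hev, hF, hroot]
    · show aeval α' (derivative F) ≠ 0
      rw [← hev, ← derivative_map, hF, ← hmin]
      exact (Algebra.IsSeparable.isSeparable κ α').aeval_derivative_ne_zero (minpoly.aeval κ α')
  refine ⟨P.Ring, inferInstance, inferInstance, inferInstance, P.lift α' hmap, ?_⟩
  set K := Subfield.closure (Set.range (P.lift α' hmap))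
  have hR : ∀ r : R, algebraMap R L r ∈ K := fun r => Subfield.subset_closure ⟨algebraMap R _ r, AlgHom.commutes _ r⟩
  have hκ : ∀ c : κ, algebraMap κ L c ∈ K := by
    intro c
    obtain ⟨x, y, -, rfl⟩ := IsFractionRing.div_surjective (A := R ⧸ p) c
    obtain ⟨x, rfl⟩ := Ideal.Quotient.mk_surjective x
    obtain ⟨y, rfl⟩ := Ideal.Quotient.mk_surjective y
    rw [map_div₀]
    refine K.div_mem ?_ ?_ <;>
      (rw [← Ideal.Quotient.algebraMap_eq, ← IsScalarTower.algebraMap_apply R (R ⧸ p) κ,
        ← IsScalarTower.algebraMap_apply R κ L]; exact hR _)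
  rw [eq_top_iff]
  intro z _
  have hz : z ∈ IntermediateField.adjoin κ {α'} := by rw [hα']; trivial
  have hle : IntermediateField.adjoin κ {α'} ≤ K.toIntermediateField hκ :=
    IntermediateField.adjoin_simple_le_iff.2 (Subfield.subset_closure ⟨P.X, P.lift_X α' hmap⟩)
  exact hle hz

end Groth.Agent.S9435
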