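import Groth.Statements.S9439
import Mathlib
import Groth.Agent.Lib.Compl.Noetherian

set_option autoImplicit false
universe u
open CAlg

namespace Groth.Agent.S9439
open IsLocalRing

theorem dvr_of_principal_regular {A : Type u} [CommRing A] [IsLocalRing A] [IsNoetherianRing A]
    (a : A) (ha : maximalIdeal A = Ideal.span {a}) (hreg : IsSMulRegular A a) :
    ∃ _ : IsDomain A, IsDiscreteValuationRing A := by
  have hfac : ∀ x : A, x ≠ 0 → ∃ (n : ℕ) (u : Aˣ), x = a ^ n * u := by
    intro x hx
    classical
    have : ∃ n, x ∉ maximalIdeal A ^ n := by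
      by_contra h
      push Not at h
      apply hx
      have h' : x ∈ ⨅ n, maximalIdeal A ^ n := Submodule.mem_iInf _ |>.mpr h
      rwa [Ideal.iInf_pow_eq_bot_of_isLocalRing _ (maximalIdeal.isMaximal A).ne_top, Ideal.mem_bot] at h'
    have hn := Nat.find_spec this
    obtain ⟨m, hm⟩ : ∃ m, Nat.find this = m + 1 := by
      cases h : Nat.find this with
      | zero => rw [h] at hn; simp at hn
      | succ m => exact ⟨m, rfl⟩
    have hx' : x ∈ maximalIdeal A ^ m := not_not.mp (Nat.find_min this (by omega))
    rw [ha, Ideal.span_singleton_pow, Ideal.mem_span_singleton] at hx'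
    obtain ⟨c, rfl⟩ := hx'
    refine ⟨m, IsUnit.unit (?_ : IsUnit c), rfl⟩
    by_contra hc
    apply hn
    rw [hm, pow_succ]
    exact Ideal.mul_mem_mul (Ideal.pow_mem_pow (by rw [ha]; exact Ideal.mem_span_singleton_self a) m)
      ((mem_maximalIdeal c).mpr hc)
  haveI : NoZeroDivisors A := ⟨fun {x y} h => by
    by_contra hc
    push Not at hc
    obtain ⟨n, u, rfl⟩ := hfac x hc.1
    obtain ⟨m, v, rfl⟩ := hfac y hc.2
    have h2 : a ^ (n + m) * (1 : A) = a ^ (n + m) * 0 := by
      have := congrArg (fun z => z * (↑(u⁻¹) * ↑(v⁻¹) : A)) h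
      simp only [zero_mul] at this
      rw [mul_zero, ← this, pow_add]
      calc a ^ n * a ^ m * 1 = a ^ n * a ^ m * ((u * ↑u⁻¹) * (v * ↑v⁻¹)) := by simp
        _ = _ := by ring
    exact one_ne_zero (hreg.pow _ h2)⟩
  haveI : IsDomain A := NoZeroDivisors.to_isDomain A
  haveI : IsPrincipalIdealRing A :=
    ((tfae_of_isNoetherianRing_of_isLocalRing_of_isDomain A).out (a := IsPrincipalIdealRing A) (b := (maximalIdeal A).IsPrincipal) 0 4).mpr ⟨⟨a, ha⟩⟩
  refine ⟨‹_›, { not_a_field' := ?_ }⟩
  rw [ha, Ne, Ideal.span_singleton_eq_bot]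
  rintro rfl
  exact zero_ne_one (hreg (by simp : (0 : A) • (0 : A) = (0 : A) • 1))

theorem general {R S : Type u} [CommRing R] [CommRing S] [Algebra R S] [IsNoetherianRing R]
    [IsNoetherianRing S] [Module.Flat R S] (p : Ideal R) [p.IsPrime]
    [IsDomain (Localization.AtPrime p)] [IsDiscreteValuationRing (Localization.AtPrime p)]
    (hp : IsReduced (S ⧸ p.map (algebraMap R S))) (q : Ideal S) [q.IsPrime]
    (hq : q ∈ associatedPrimes S (S ⧸ p.map (algebraMap R S))) :
    ∃ _ : IsDomain (Localization.AtPrime q), IsDiscreteValuationRing (Localization.AtPrime q) := by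
  obtain ⟨-, x, hx⟩ := hq
  obtain ⟨x, rfl⟩ := Ideal.Quotient.mk_surjective x
  have hqx : ∀ s, s ∈ q ↔ s * x ∈ p.map (algebraMap R S) := by
    intro s
    rw [hx, Ideal.mem_radical_iff]
    simp only [Submodule.mem_colon_singleton, Submodule.mem_bot]
    have e : ∀ t : S, t • (Ideal.Quotient.mk (p.map (algebraMap R S)) x) = Ideal.Quotient.mk _ (t * x) :=
      fun t => rfl
    simp only [e, Ideal.Quotient.eq_zero_iff_mem]
    refine ⟨fun ⟨n, hn⟩ => ?_, fun h => ⟨1, by simpa using h⟩⟩
    rw [← Ideal.Quotient.eq_zero_iff_mem]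
    refine IsReduced.eq_zero _ ⟨n + 1, ?_⟩
    rw [← map_pow, Ideal.Quotient.eq_zero_iff_mem, mul_pow, pow_succ x,
      show s ^ (n + 1) * (x ^ n * x) = s * x ^ n * (s ^ n * x) by ring]
    exact Ideal.mul_mem_left _ _ hn
  have hxq : x ∉ q := by
    intro h
    have : (Ideal.Quotient.mk (p.map (algebraMap R S)) x) = 0 := by
      refine IsReduced.eq_zero _ ⟨2, ?_⟩
      rw [← map_pow, Ideal.Quotient.eq_zero_iff_mem, sq]
      exact (hqx x).mp h
    apply (inferInstance : q.IsPrime).ne_top
    rw [Ideal.eq_top_iff_one, hqx, one_mul]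
    exact Ideal.Quotient.eq_zero_iff_mem.mp this
  have hle : p ≤ q.comap (algebraMap R S) := fun r hr =>
    (hqx _).mpr (Ideal.mul_mem_right _ _ (Ideal.mem_map_of_mem _ hr))
  haveI : q.LiesOver (q.comap (algebraMap R S)) := ⟨rfl⟩
  obtain ⟨Q, hQq, hQ, hQp⟩ := Ideal.exists_ideal_le_liesOver_of_le (p := p) (q := q.comap (algebraMap R S)) q hle
  have hpq : p = q.comap (algebraMap R S) := by
    refine le_antisymm hle fun r hr => ?_
    rw [hQp.over, Ideal.mem_comap]
    refine (hQ.mem_or_mem (?_ : algebraMap R S r * x ∈ Q)).resolve_right fun h => hxq (hQq h)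
    exact Ideal.map_le_iff_le_comap.mpr hQp.over.le ((hqx _).mp hr)
  have hfl : (Localization.localRingHom p q (algebraMap R S) hpq).Flat :=
    RingHom.Flat.localRingHom (RingHom.flat_algebraMap_iff.mpr inferInstance) q p hpq
  obtain ⟨π, hπ⟩ := IsDiscreteValuationRing.exists_irreducible (Localization.AtPrime p)
  set φ := Localization.localRingHom p q (algebraMap R S) hpq with hφ
  refine dvr_of_principal_regular (φ π) (le_antisymm ?_ ?_) ?_
  · rw [← Localization.AtPrime.map_eq_maximalIdeal, Ideal.map_le_iff_le_comap]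
    intro s hs
    rw [Ideal.mem_comap]
    have h1 : algebraMap S (Localization.AtPrime q) (s * x) ∈ Ideal.span {φ π} := by
      have h2 : p.map (algebraMap R S) ≤ (Ideal.span {φ π}).comap (algebraMap S (Localization.AtPrime q)) := by
        rw [Ideal.map_le_iff_le_comap]
        intro r hr
        show algebraMap S (Localization.AtPrime q) (algebraMap R S r) ∈ (Ideal.span {φ π} : Ideal (Localization.AtPrime q))
        rw [← Localization.localRingHom_to_map p q (algebraMap R S) hpq r, ← Set.image_singleton, ← Ideal.map_span]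
        refine Ideal.mem_map_of_mem _ ?_
        rw [← hπ.maximalIdeal_eq, ← Localization.AtPrime.map_eq_maximalIdeal]
        exact Ideal.mem_map_of_mem _ hr
      exact h2 ((hqx s).mp hs)
    rw [map_mul] at h1
    have hu : IsUnit (algebraMap S (Localization.AtPrime q) x) :=
      IsLocalization.map_units _ (⟨x, hxq⟩ : q.primeCompl)
    exact (Ideal.unit_mul_mem_iff_mem _ hu).mp (by rwa [mul_comm] at h1)
  · rw [Ideal.span_singleton_le_iff_mem, mem_maximalIdeal]
    haveI := Localization.isLocalHom_localRingHom p q (algebraMap R S) hpq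
    exact fun h => hπ.not_isUnit (isUnit_of_map_unit φ π h)
  · letI := φ.toAlgebra
    haveI : Module.Flat (Localization.AtPrime p) (Localization.AtPrime q) := hfl
    intro y z hyz
    have h1 : IsSMulRegular (Localization.AtPrime p) π := fun u v huv => mul_left_cancel₀ hπ.ne_zero huv
    exact (h1.of_flat (S := Localization.AtPrime q)) hyz

/-- Let R be a Noetherian local ring, R^ its completion and p a prime with R_p a discrete valuation ring
and with R^/pR^ reduced (p analytically unramified: the completion of R/p, which is R^/pR^, is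
reduced). Then the localization of R^ at any associated prime of R^/pR^ is a discrete valuation
ring. -/
theorem result
    (R : Type u) [CommRing R] [IsLocalRing R] [IsNoetherianRing R] (p : Ideal R) [p.IsPrime]
    [IsDomain (Localization.AtPrime p)] [IsDiscreteValuationRing (Localization.AtPrime p)]
    (hp : IsReduced (AdicCompletion (IsLocalRing.maximalIdeal R) R ⧸
      p.map (algebraMap R (AdicCompletion (IsLocalRing.maximalIdeal R) R))))
    (q : Ideal (AdicCompletion (IsLocalRing.maximalIdeal R) R)) [q.IsPrime]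
    (hq : q ∈ associatedPrimes (AdicCompletion (IsLocalRing.maximalIdeal R) R)
      (AdicCompletion (IsLocalRing.maximalIdeal R) R ⧸
        p.map (algebraMap R (AdicCompletion (IsLocalRing.maximalIdeal R) R)))) :
    ∃ _ : IsDomain (Localization.AtPrime q), IsDiscreteValuationRing (Localization.AtPrime q) := by
  haveI := Groth.Agent.Compl.isNoetherianRing_adicCompletion (maximalIdeal R) (IsNoetherian.noetherian _)
  exact general p hp q hq

end Groth.Agent.S9439
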