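import Groth.Statements.S9440
import Groth.Agent.S2072
import Groth.Agent.S0576
import Groth.Agent.S0566
import Mathlib.RingTheory.Algebraic.Integral
import Mathlib.RingTheory.Ideal.GoingUp

set_option autoImplicit false
universe u
open CAlg

namespace Groth.Agent.S9440

open IsLocalRing

/-- A finite local subring of a finite field extension with the whole field as fraction field. -/
theorem exists_local_order (A : Type u) [CommRing A] [IsDomain A] [IsLocalRing A] [IsNoetherianRing A]
    (hA : ¬ IsField A) (L : Type u) [Field L] [Algebra A L] [Algebra (FractionRing A) L]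
    [IsScalarTower A (FractionRing A) L] [FiniteDimensional (FractionRing A) L] :
    ∃ S : Subalgebra A L, Module.Finite A S ∧ IsLocalRing S ∧ IsFractionRing S L := by
  classical
  let b := Module.finBasis (FractionRing A) L
  haveI : Algebra.IsAlgebraic A (FractionRing A) := IsLocalization.isAlgebraic _ (nonZeroDivisors A)
  haveI : Algebra.IsAlgebraic A L := Algebra.IsAlgebraic.trans A (FractionRing A) L
  obtain ⟨y, hy, hint⟩ := Algebra.IsAlgebraic.exists_integral_multiples A (Finset.univ.image b)
  obtain ⟨a, ha, ha0⟩ := Submodule.exists_mem_ne_zero_of_ne_bot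
    (fun h => hA ((IsLocalRing.isField_iff_maximalIdeal_eq).2 h))
  let c : Fin (Module.finrank (FractionRing A) L) → L := fun i => a • y • b i
  have hc : ∀ i, IsIntegral A (y • b i) := fun i => hint _ (Finset.mem_image_of_mem _ (Finset.mem_univ i))
  let S := Algebra.adjoin A (Set.range c)
  haveI hfin : Module.Finite A S := Module.Finite.iff_fg.2
    (fg_adjoin_of_finite (Set.finite_range c) fun x hx => by obtain ⟨i, rfl⟩ := hx; exact (hc i).smul a)
  haveI : Algebra.IsIntegral A S := Algebra.IsIntegral.of_finite A S
  let g : Fin (Module.finrank (FractionRing A) L) → S := fun i => ⟨c i, Algebra.subset_adjoin ⟨i, rfl⟩⟩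
  have hmax : ∀ M : Ideal S, M.IsMaximal → M.comap (algebraMap A S) = maximalIdeal A ∧ ∀ i, g i ∈ M := by
    intro M hM
    have hMA : M.comap (algebraMap A S) = maximalIdeal A :=
      eq_maximalIdeal (Ideal.isMaximal_comap_of_isIntegral_of_isMaximal M)
    refine ⟨hMA, fun i => hM.isPrime.mem_of_pow_mem (minpoly A (y • b i)).natDegree ?_⟩
    let p := minpoly A (y • b i)
    have hp : p.Monic := minpoly.monic (hc i)
    have hev : Polynomial.aeval (c i) (p.scaleRoots a) = 0 := by
      show Polynomial.aeval (a • (y • b i)) (p.scaleRoots a) = 0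
      rw [Algebra.smul_def a]
      exact Polynomial.scaleRoots_aeval_eq_zero (minpoly.aeval A (y • b i))
    have hev' : Polynomial.aeval (g i) (p.scaleRoots a) = 0 :=
      Subtype.val_injective (by rw [Polynomial.aeval_subalgebra_coe]; exact hev)
    rw [Polynomial.aeval_eq_sum_range, Polynomial.natDegree_scaleRoots, Finset.sum_range_succ,
      Polynomial.coeff_scaleRoots_natDegree, hp.leadingCoeff, one_smul] at hev'
    rw [show g i ^ p.natDegree = -(∑ j ∈ Finset.range p.natDegree, (p.scaleRoots a).coeff j • g i ^ j) from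
      eq_neg_of_add_eq_zero_right hev']
    refine neg_mem (sum_mem fun j hj => ?_)
    rw [Algebra.smul_def]
    refine M.mul_mem_right _ ?_
    rw [← Ideal.mem_comap, hMA, Polynomial.coeff_scaleRoots]
    refine Ideal.mul_mem_left _ _ (Ideal.pow_mem_of_mem _ ha _ ?_)
    exact Nat.sub_pos_of_lt (Finset.mem_range.1 hj)
  have hdec : ∀ s : S, ∃ r : A, ∀ M : Ideal S, M.IsMaximal → s - algebraMap A S r ∈ M := by
    rintro ⟨s, hs⟩
    induction hs using Algebra.adjoin_induction with
    | mem x hx =>
      obtain ⟨i, rfl⟩ := hx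
      exact ⟨0, fun M hM => by rw [map_zero, sub_zero]; exact (hmax M hM).2 i⟩
    | algebraMap r =>
      exact ⟨r, fun M hM => by
        convert M.zero_mem using 1
        exact Subtype.ext (sub_self _)⟩
    | add x z hx hz h1 h2 =>
      obtain ⟨r, hr⟩ := h1
      obtain ⟨r', hr'⟩ := h2
      refine ⟨r + r', fun M hM => ?_⟩
      convert M.add_mem (hr M hM) (hr' M hM) using 1
      exact Subtype.ext (by simp; ring)
    | mul x z hx hz h1 h2 =>
      obtain ⟨r, hr⟩ := h1
      obtain ⟨r', hr'⟩ := h2
      refine ⟨r * r', fun M hM => ?_⟩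
      convert M.add_mem (M.mul_mem_right ⟨z, hz⟩ (hr M hM)) (M.mul_mem_left (algebraMap A S r) (hr' M hM)) using 1
      exact Subtype.ext (by simp; ring)
  have hle : ∀ M M' : Ideal S, M.IsMaximal → M'.IsMaximal → M ≤ M' := by
    intro M M' hM hM' s hs
    obtain ⟨r, hr⟩ := hdec s
    have h1 : r ∈ maximalIdeal A := by
      rw [← (hmax M hM).1, Ideal.mem_comap]
      have := M.sub_mem hs (hr M hM)
      rwa [sub_sub_cancel] at this
    rw [← (hmax M' hM').1, Ideal.mem_comap] at h1
    have := M'.add_mem (hr M' hM') h1
    rwa [sub_add_cancel] at this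
  refine ⟨S, hfin, ?_, ?_⟩
  · obtain ⟨M, hM⟩ := Ideal.exists_maximal S
    exact .of_unique_max_ideal ⟨M, hM, fun M' hM' => le_antisymm (hle M' M hM' hM) (hle M M' hM hM')⟩
  · have hinj : Function.Injective (algebraMap A L) := by
      rw [IsScalarTower.algebraMap_eq A (FractionRing A) L]
      exact (algebraMap (FractionRing A) L).injective.comp (IsFractionRing.injective A (FractionRing A))
    haveI : FaithfulSMul S L := (faithfulSMul_iff_algebraMap_injective S L).2 Subtype.val_injective
    refine IsFractionRing.of_field S L fun z => ?_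
    have key : ∀ w ∈ Submodule.span (FractionRing A) (Set.range b), ∃ (s : S) (t : A), t ≠ 0 ∧ algebraMap A L t * w = s := by
      intro w hw
      induction hw using Submodule.span_induction with
      | mem x hx =>
        obtain ⟨i, rfl⟩ := hx
        refine ⟨g i, a * y, mul_ne_zero ha0 hy, ?_⟩
        show _ = a • y • b i
        rw [Algebra.smul_def, Algebra.smul_def, map_mul, mul_assoc]
      | zero => exact ⟨0, 1, one_ne_zero, by simp⟩
      | add x z _ _ h1 h2 =>
        obtain ⟨s, t, ht, hs⟩ := h1
        obtain ⟨s', t', ht', hs'⟩ := h2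
        refine ⟨t' • s + t • s', t * t', mul_ne_zero ht ht', ?_⟩
        rw [Subalgebra.coe_add, Subalgebra.coe_smul, Subalgebra.coe_smul, ← hs, ← hs', Algebra.smul_def, Algebra.smul_def, map_mul]
        ring
      | smul k x _ h1 =>
        obtain ⟨s, t, ht, hs⟩ := h1
        obtain ⟨n, d, hd, rfl⟩ := IsFractionRing.div_surjective (A := A) k
        have hd0 : d ≠ 0 := nonZeroDivisors.ne_zero hd
        refine ⟨n • s, d * t, mul_ne_zero hd0 ht, ?_⟩
        rw [Subalgebra.coe_smul, ← hs, Algebra.smul_def, Algebra.smul_def, map_mul, map_div₀,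
          ← IsScalarTower.algebraMap_apply A (FractionRing A) L, ← IsScalarTower.algebraMap_apply A (FractionRing A) L]
        have : algebraMap A L d ≠ 0 := (map_ne_zero_iff _ hinj).2 hd0
        field_simp
    obtain ⟨s, t, ht, hs⟩ := key z (by rw [b.span_eq]; exact Submodule.mem_top)
    have ht' : algebraMap A L t ≠ 0 := (map_ne_zero_iff _ hinj).2 ht
    refine ⟨s, algebraMap A S t, ?_⟩
    show z = (s : L) / algebraMap A L t
    rw [← hs, mul_div_cancel_left₀ _ ht']



/-- (1) ⇔ (3): a Noetherian local ring R is a Nagata ring if and only if for every finite local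
homomorphism R → S of local rings with S a domain, the completion of S is reduced. -/
theorem result (R : Type u) [CommRing R]
    [IsLocalRing R] [IsNoetherianRing R] :
    CAlg.IsNagata R ↔ ∀ (S : Type u) [CommRing S] [IsDomain S] [IsLocalRing S] [Algebra R S]
      [IsLocalHom (algebraMap R S)] [Module.Finite R S],
      IsReduced (AdicCompletion (IsLocalRing.maximalIdeal S) S) := by
  open IsLocalRing in
  refine ⟨fun hR S _ _ _ _ _ _ => Groth.Agent.S0576.result S (Groth.Agent.S0566.result R hR S), fun h => ⟨inferInstance, fun p hp L _ _ _ _ hfd => ?_⟩⟩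
  haveI := hfd
  haveI : IsLocalRing (R ⧸ p) := IsLocalRing.of_surjective' (Ideal.Quotient.mk p) Ideal.Quotient.mk_surjective
  by_cases hF : IsField (R ⧸ p)
  · letI := hF.toField
    haveI : Module.Finite (R ⧸ p) (FractionRing (R ⧸ p)) :=
      Module.Finite.of_surjective (Algebra.linearMap (R ⧸ p) (FractionRing (R ⧸ p)))
        (fun z => by obtain ⟨n, d, -, rfl⟩ := IsFractionRing.div_surjective (A := R ⧸ p) z; exact ⟨n / d, map_div₀ (algebraMap (R ⧸ p) (FractionRing (R ⧸ p))) n d⟩)
    haveI : Module.Finite (R ⧸ p) L := Module.Finite.trans (FractionRing (R ⧸ p)) L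
    exact Module.Finite.of_injective (integralClosure (R ⧸ p) L).val.toLinearMap Subtype.val_injective
  obtain ⟨S, hfin, hloc, hfrac⟩ := exists_local_order (R ⧸ p) hF L
  haveI := hfin
  haveI := hloc
  haveI := hfrac
  haveI : Algebra.IsIntegral (R ⧸ p) S := Algebra.IsIntegral.of_finite _ _
  haveI : IsNoetherianRing S := IsNoetherianRing.of_finite (R ⧸ p) S
  haveI : Module.Finite R (R ⧸ p) := inferInstance
  letI : Algebra R S := ((algebraMap (R ⧸ p) S).comp (Ideal.Quotient.mk p)).toAlgebra
  haveI : IsScalarTower R (R ⧸ p) S := IsScalarTower.of_algebraMap_eq fun _ => rfl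
  haveI : Module.Finite R S := Module.Finite.trans (R ⧸ p) S
  haveI : IsLocalHom (algebraMap R S) := by
    refine ((local_hom_TFAE _).out 0 4).mpr ?_
    exact eq_maximalIdeal (Ideal.isMaximal_comap_of_isIntegral_of_isMaximal (maximalIdeal S))
  haveI := h S
  have hN1 : Module.Finite S (integralClosure S (FractionRing S)) := Groth.Agent.S2072.result
  let e : FractionRing S ≃ₐ[S] L := FractionRing.algEquiv S L
  haveI : Module.Finite S (integralClosure S L) := Module.Finite.equiv (e.mapIntegralClosure).toLinearEquiv
  haveI : Module.Finite (R ⧸ p) (integralClosure S L) := Module.Finite.trans S _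
  let f : integralClosure (R ⧸ p) L →ₗ[R ⧸ p] integralClosure S L :=
    { toFun := fun x => ⟨x.1, IsIntegral.tower_top x.2⟩
      map_add' := fun _ _ => rfl
      map_smul' := fun _ _ => rfl }
  exact Module.Finite.of_injective f fun x y hxy => Subtype.ext (congrArg (fun z : integralClosure S L => (z : L)) hxy)

end Groth.Agent.S9440
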