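import Groth.Statements.S9442
import Mathlib
import Groth.Statements.S9649
import Groth.Statements.S9431
import Groth.Statements.S19474
import Groth.Statements.S14436
import Groth.Agent.Lib.Sep.Basic
import Groth.Agent.Lib.RegSmooth17.Basic
import Groth.Agent.Lib.SmoothReg17.Basic
import Groth.Agent.Lib.Compl.Noetherian

set_option autoImplicit false
universe u
open CAlg

namespace Groth.Agent.S9442

/-- For a finite type algebra S over a field k and a prime q of S with κ(q) separable over k, S is
smooth over k at q if and only if S_q is a regular local ring. -/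
theorem result (k : Type u) [Field k]
    (S : Type u) [CommRing S] [Algebra k S] [Algebra.FiniteType k S] (q : Ideal S) [q.IsPrime]
    [Algebra.IsGeometricallyReduced k q.ResidueField] :
    Algebra.IsSmoothAt k q ↔ IsRegularLocalRing (Localization.AtPrime q) := by
  constructor
  · intro h
    haveI : Algebra.FinitePresentation k S := Algebra.FinitePresentation.of_finiteType.mp inferInstance
    obtain ⟨f, hf, hsm⟩ := Algebra.IsSmoothAt.exists_notMem_smooth (R := k) q
    let Sf := Localization.Away f
    have hd : Disjoint (Submonoid.powers f : Set S) (q : Set S) := by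
      rw [Set.disjoint_left]
      rintro _ ⟨n, rfl⟩ hn
      exact hf (Ideal.IsPrime.mem_of_pow_mem ‹q.IsPrime› n hn)
    haveI hP : (q.map (algebraMap S Sf)).IsPrime :=
      IsLocalization.isPrime_of_isPrime_disjoint (Submonoid.powers f) Sf q ‹_› hd
    have hc : (q.map (algebraMap S Sf)).comap (algebraMap S Sf) = q :=
      IsLocalization.comap_map_of_isPrime_disjoint (Submonoid.powers f) Sf ‹q.IsPrime› hd
    haveI := Groth.Agent.SmoothReg17.isRegularLocalRing_of_smooth (algebraMap k Sf)
      (RingHom.smooth_algebraMap.2 hsm) (q.map (algebraMap S Sf))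
    let e := IsLocalization.localizationLocalizationAtPrimeIsoLocalization (Submonoid.powers f) (q.map (algebraMap S Sf))
    have e2 : Localization.AtPrime ((q.map (algebraMap S Sf)).comap (algebraMap S Sf)) ≃+* Localization.AtPrime q :=
      IsLocalization.ringEquivOfRingEquiv (M := ((q.map (algebraMap S Sf)).comap (algebraMap S Sf)).primeCompl)
        (T := q.primeCompl) _ _ (RingEquiv.refl S) (by ext x; simp [Ideal.primeCompl, hc])
    exact IsRegularLocalRing.of_ringEquiv (e.symm.toRingEquiv.trans e2)
  · intro h
    haveI : Algebra.FormallySmooth k q.ResidueField :=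
      (Groth.Agent.Sep.formallySmooth_iff_isGeometricallyReduced k q.ResidueField).2 inferInstance
    exact Groth.Agent.RegSmooth17.isSmoothAt_of_isRegularLocalRing k S q

end Groth.Agent.S9442
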