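import Groth.Statements.S9443
import Groth.Agent.S11741
import Mathlib
import Groth.Agent.Lib.H2Alg.PSHom
import Groth.Agent.Lib.PSAutoH28.Basic
import Groth.Agent.Lib.Sep.Basic
import Groth.Agent.S2452

set_option autoImplicit false
universe u
open CAlg

namespace Groth.Agent.S9443
open Groth.Agent.H2Alg

open IsLocalRing in
theorem key (R : Type u)
    [CommRing R] [IsRegularLocalRing R] [IsAdicComplete (IsLocalRing.maximalIdeal R) R]
    (k : Type u) [Field k] [Algebra k R]
    (hk : Function.Surjective ((IsLocalRing.residue R).comp (algebraMap k R))) :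
    ∃ d : ℕ, Nonempty (R ≃ₐ[k] MvPowerSeries (Fin d) k) := by
  obtain ⟨f, hf⟩ := Submodule.FG.exists_span_set_encard_eq_spanFinrank (IsNoetherian.noetherian (maximalIdeal R))
  have hfin : f.Finite := Set.finite_of_encard_eq_coe hf.1
  haveI := hfin.fintype
  let d := Fintype.card f
  let e : Fin d ≃ f := (Fintype.equivFin f).symm
  let z : Fin d → R := fun i => (e i : R)
  have hz : Ideal.span (Set.range z) = maximalIdeal R := by
    rw [show Set.range z = f by rw [show z = Subtype.val ∘ e from rfl, Set.range_comp, e.range_eq_univ, Set.image_univ, Subtype.range_coe]]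
    exact hf.2
  obtain ⟨ψ, hψ⟩ := PSHom.exists_algHom (A := k) (maximalIdeal R) z (fun i => hz ▸ Ideal.subset_span ⟨i, rfl⟩)
  have hV : (PSHom.V d k).map ψ = maximalIdeal R := by
    rw [PSHom.V, Ideal.map_span, ← Set.range_comp, ← hz]
    congr 1
    exact congrArg Set.range (funext hψ)
  have hd : ringKrullDim R = d := by
    rw [← (isRegularLocalRing_iff R).1 inferInstance]
    congr 1
    have h : f.encard = (d : ℕ∞) := by rw [Set.encard_eq_coe_toFinset_card, Set.toFinset_card]
    rw [hf.1] at h
    exact_mod_cast h
  exact ⟨d, ⟨(AlgEquiv.ofBijective ψ (S11741.bijective_of_regular k R hk d ψ hV hd)).symm⟩⟩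

/-- A complete regular local ring R with a coefficient field k (a subfield mapping isomorphically onto
the residue field) is k-isomorphic to a power series ring over k in finitely many variables
(existence of an isomorphism only; the number of variables is then the dimension of R). -/
theorem result (R : Type u)
    [CommRing R] [IsRegularLocalRing R] [IsAdicComplete (IsLocalRing.maximalIdeal R) R]
    (k : Type u) [Field k] [Algebra k R]
    (hk : Function.Bijective (algebraMap k (IsLocalRing.ResidueField R))) :
    ∃ d : ℕ, Nonempty (R ≃ₐ[k] MvPowerSeries (Fin d) k) := by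
  exact key R k hk.2

end Groth.Agent.S9443
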