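import Groth.Statements.S9444
import Groth.Agent.S9443
import Mathlib
import Groth.Agent.Lib.H2Alg.PSHom
import Groth.Agent.Lib.PSAutoH28.Basic
import Groth.Agent.Lib.Sep.Basic
import Groth.Agent.S2452

set_option autoImplicit false
universe u
open CAlg

namespace Groth.Agent.S9444
open Groth.Agent.H2Alg

open IsLocalRing in

/-- A complete regular local ring containing a field (that is, containing the prime field F_p or ℚ) is
isomorphic to a power series ring in finitely many variables over its residue field (existence of an
isomorphism only). -/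
theorem result (R : Type u)
    [CommRing R] [IsRegularLocalRing R] [IsAdicComplete (IsLocalRing.maximalIdeal R) R]
    (k₀ : Type u) [Field k₀] [Algebra k₀ R] :
    ∃ d : ℕ, Nonempty (R ≃+* MvPowerSeries (Fin d) (IsLocalRing.ResidueField R)) := by
  let F := (⊥ : Subfield k₀)
  letI : Algebra F R := ((algebraMap k₀ R).comp F.subtype).toAlgebra
  haveI := Groth.Agent.PrimeField.perfectField_bot k₀
  haveI : Algebra.FormallySmooth F (ResidueField R) := Groth.Agent.FieldFS.formallySmooth_of_perfectField _ _
  haveI : Algebra.IsGeometricallyReduced F (ResidueField R) :=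
    (Groth.Agent.Sep.formallySmooth_iff_isGeometricallyReduced F (ResidueField R)).1 inferInstance
  obtain ⟨σ, hσ⟩ := Groth.Agent.S2452.result (k := F) (A := R)
  letI : Algebra (ResidueField R) R := σ.toRingHom.toAlgebra
  obtain ⟨d, ⟨e⟩⟩ := S9443.key R (ResidueField R) fun x => ⟨x, hσ x⟩
  exact ⟨d, ⟨e.toRingEquiv⟩⟩

end Groth.Agent.S9444
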