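import Groth.Statements.S9446
import Mathlib

set_option autoImplicit false
universe u
open CAlg

namespace Groth.Agent.S9446
open TensorProduct

theorem exists_kill {R : Type u} [CommRing R] {S : Type u} [CommRing S] [Algebra R S]
    {A₀ : Type u} [CommRing A₀] [Algebra R A₀] [Algebra.FinitePresentation R A₀] (φ : A₀ →ₐ[R] S)
    {M : Type u} [AddCommGroup M] [Module R M] (z : A₀ ⊗[R] M)
    (hz : φ.toLinearMap.rTensor M z = 0) :
    ∃ (A₁ : Type u) (_ : CommRing A₁) (_ : Algebra R A₁) (g : A₀ →ₐ[R] A₁) (h : A₁ →ₐ[R] S),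
      Algebra.FinitePresentation R A₁ ∧ h.comp g = φ ∧ g.toLinearMap.rTensor M z = 0 := by
  classical
  letI : Algebra A₀ S := φ.toRingHom.toAlgebra
  haveI : IsScalarTower R A₀ S := IsScalarTower.of_algebraMap_eq fun r => (φ.commutes r).symm
  let P := MvPolynomial S A₀
  let π : P →ₐ[R] S := (MvPolynomial.aeval (id : S → S) : P →ₐ[A₀] S).restrictScalars R
  have hπ : Function.Surjective π := fun s => ⟨MvPolynomial.X s, MvPolynomial.aeval_X (id : S → S) s⟩
  let ι : A₀ →ₐ[R] P := IsScalarTower.toAlgHom R A₀ P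
  have hπι : π.comp ι = φ := AlgHom.ext fun a => by simp [π, ι]; rfl
  let J : Submodule R P := LinearMap.ker π.toLinearMap
  have hex : Function.Exact J.subtype π.toLinearMap := LinearMap.exact_subtype_ker_map _
  have hz' : π.toLinearMap.rTensor M (ι.toLinearMap.rTensor M z) = 0 := by
    rw [← LinearMap.rTensor_comp_apply, ← AlgHom.comp_toLinearMap, hπι, hz]
  obtain ⟨w, hw⟩ := ((rTensor_exact M hex hπ) _).1 hz'
  have main : ∀ w : J ⊗[R] M, ∃ s : Finset P, (∀ p ∈ s, π p = 0) ∧
      ∀ (N : Type u) [AddCommGroup N] [Module R N] (ρ : P →ₗ[R] N), (∀ p ∈ s, ρ p = 0) →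
        ρ.rTensor M (J.subtype.rTensor M w) = 0 := by
    intro w
    induction w with
    | zero => exact ⟨∅, by simp, fun _ _ _ _ _ => by simp⟩
    | tmul j m =>
      refine ⟨{(j : P)}, fun p hp => by rw [Finset.mem_singleton.1 hp]; exact j.2, fun N _ _ ρ hρ => ?_⟩
      simp [hρ (j : P) (Finset.mem_singleton_self _)]
    | add x y hx hy =>
      obtain ⟨s, hs, hs'⟩ := hx
      obtain ⟨t, ht, ht'⟩ := hy
      refine ⟨s ∪ t, fun p hp => (Finset.mem_union.1 hp).elim (hs p) (ht p), fun N _ _ ρ hρ => ?_⟩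
      rw [map_add, map_add, hs' N ρ (fun p hp => hρ p (Finset.mem_union_left _ hp)),
        ht' N ρ (fun p hp => hρ p (Finset.mem_union_right _ hp)), add_zero]
  obtain ⟨s, hs, hkill⟩ := main w
  let V : Finset S := s.biUnion fun p => p.vars
  let P₁ := MvPolynomial V A₀
  let ρ₀ : P →ₐ[A₀] P₁ := MvPolynomial.killCompl (R := A₀) (f := ((↑) : V → S)) Subtype.val_injective
  let K : Ideal P₁ := Ideal.span (ρ₀ '' (s : Set P))
  have hKfg : K.FG := ⟨s.image ρ₀, by simp [K]⟩
  let ev : P₁ →ₐ[A₀] S := MvPolynomial.aeval (fun v : V => (v : S))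
  have hev : ∀ p ∈ s, ev (ρ₀ p) = 0 := by
    intro p hp
    obtain ⟨q, hq⟩ : ∃ q : P₁, MvPolynomial.rename ((↑) : V → S) q = p := by
      have hsub : (↑p.vars : Set S) ⊆ Set.range ((↑) : V → S) := by
        intro x hx
        exact ⟨⟨x, Finset.mem_biUnion.2 ⟨p, hp, hx⟩⟩, rfl⟩
      exact MvPolynomial.exists_rename_eq_of_vars_subset_range p _ Subtype.val_injective hsub
    rw [← hq]
    show ev (MvPolynomial.killCompl Subtype.val_injective (MvPolynomial.rename _ q)) = 0
    rw [MvPolynomial.killCompl_rename_app]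
    have := hs p hp
    rw [← hq] at this
    exact (MvPolynomial.aeval_rename _ (id : S → S) q).symm.trans this
  let A₁ := P₁ ⧸ K
  let h' : A₁ →ₐ[A₀] S := Ideal.Quotient.liftₐ K ev (fun a ha => by
    have hle : K ≤ RingHom.ker ev := by
      rw [Ideal.span_le]
      rintro _ ⟨p, hp, rfl⟩
      exact hev p hp
    exact hle ha)
  haveI : Algebra.FinitePresentation R P₁ := Algebra.FinitePresentation.mvPolynomial_of_finitePresentation V
  refine ⟨A₁, inferInstance, inferInstance, IsScalarTower.toAlgHom R A₀ A₁, h'.restrictScalars R,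
    Algebra.FinitePresentation.quotient hKfg, AlgHom.ext fun a => h'.commutes a, ?_⟩
  let ρ : P →ₐ[R] A₁ := (Ideal.Quotient.mkₐ R K).comp (ρ₀.restrictScalars R)
  have hρι : ρ.comp ι = IsScalarTower.toAlgHom R A₀ A₁ := AlgHom.ext fun a => by
    show Ideal.Quotient.mk K (ρ₀ (algebraMap A₀ P a)) = _
    rw [ρ₀.commutes]
    rfl
  rw [← hρι, AlgHom.comp_toLinearMap, LinearMap.rTensor_comp_apply, ← hw]
  exact hkill A₁ ρ.toLinearMap fun p hp => Ideal.Quotient.eq_zero_iff_mem.2 (Ideal.subset_span ⟨p, hp, rfl⟩)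

theorem exists_lift {R : Type u} [CommRing R] {S : Type u} [CommRing S] [Algebra R S]
    {M : Type u} [AddCommGroup M] [Module R M] (x : S ⊗[R] M) :
    ∃ T : Finset S, ∀ T' : Finset S, T ⊆ T' → ∃ x₀ : MvPolynomial T' R ⊗[R] M,
      (MvPolynomial.aeval (fun t : T' => (t : S))).toLinearMap.rTensor M x₀ = x := by
  classical
  induction x with
  | zero => exact ⟨∅, fun _ _ => ⟨0, map_zero _⟩⟩
  | tmul s m => exact ⟨{s}, fun T' h => ⟨MvPolynomial.X ⟨s, h (Finset.mem_singleton_self s)⟩ ⊗ₜ m, by simp⟩⟩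
  | add x y hx hy =>
    obtain ⟨T, hT⟩ := hx
    obtain ⟨T', hT'⟩ := hy
    refine ⟨T ∪ T', fun W hW => ?_⟩
    obtain ⟨a, rfl⟩ := hT W (fun z hz => hW (Finset.mem_union_left _ hz))
    obtain ⟨b, rfl⟩ := hT' W (fun z hz => hW (Finset.mem_union_right _ hz))
    exact ⟨a + b, map_add _ _ _⟩

/-- If S is ind-smooth over R (every R-algebra map into S from a finitely presented R-algebra factors
through a smooth R-algebra) then for every R-algebra B the canonical map S ⊗_R A → A', from the base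
change of the integral closure A of R in B to the integral closure A' of S in S ⊗_R B, is bijective. -/
theorem result (R : Type u) [CommRing R] (S : Type u)
    [CommRing S] [Algebra R S] (hS : Smoothing.IndSmooth R S) (B : Type u) [CommRing B]
    [Algebra R B] : Function.Bijective (TensorProduct.toIntegralClosure R S B) := by
  classical
  let C := integralClosure R B
  constructor
  · rw [injective_iff_map_eq_zero]
    intro x hx
    obtain ⟨T, hT⟩ := exists_lift x
    obtain ⟨x₀, hx₀⟩ := hT T subset_rfl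
    let φ : MvPolynomial T R →ₐ[R] S := MvPolynomial.aeval (fun t : T => (t : S))
    have hz : φ.toLinearMap.rTensor B (C.val.toLinearMap.lTensor _ x₀) = 0 := by
      have h1 : φ.toLinearMap.rTensor B (C.val.toLinearMap.lTensor _ x₀) =
          C.val.toLinearMap.lTensor S (φ.toLinearMap.rTensor C x₀) := by
        rw [← LinearMap.comp_apply, ← LinearMap.comp_apply, LinearMap.rTensor_comp_lTensor,
          LinearMap.lTensor_comp_rTensor]
      rw [h1, hx₀]
      exact congrArg Subtype.val hx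
    obtain ⟨A₁, _, _, g, h, hfp, hcomp, hg⟩ := exists_kill φ _ hz
    obtain ⟨B₁, _, _, hsm, g', h', hh⟩ := hS A₁ hfp h
    haveI := hsm
    let g₁ := g'.comp g
    have hx1 : g₁.toLinearMap.rTensor C x₀ = 0 := by
      apply (TensorProduct.toIntegralClosure_bijective_of_smooth (R := R) (S := B₁) (B := B)).1
      rw [map_zero]
      apply Subtype.ext
      show C.val.toLinearMap.lTensor B₁ (g₁.toLinearMap.rTensor C x₀) = 0
      rw [← LinearMap.comp_apply, LinearMap.lTensor_comp_rTensor, ← LinearMap.rTensor_comp_lTensor, LinearMap.comp_apply]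
      simp only [g₁, AlgHom.comp_toLinearMap, LinearMap.rTensor_comp_apply]
      rw [hg, map_zero]
    have : φ = h'.comp g₁ := by rw [← AlgHom.comp_assoc, hh, hcomp]
    rw [← hx₀]
    show φ.toLinearMap.rTensor C x₀ = 0
    rw [this, AlgHom.comp_toLinearMap, LinearMap.rTensor_comp_apply, hx1, map_zero]
  · rintro ⟨y, hy⟩
    obtain ⟨p, hpm, hpy⟩ := hy
    obtain ⟨T, hT⟩ := exists_lift y
    let T' := T ∪ p.coeffs
    obtain ⟨y₀, hy₀⟩ := hT T' Finset.subset_union_left
    let φ : MvPolynomial T' R →ₐ[R] S := MvPolynomial.aeval (fun t : T' => (t : S))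
    have hl : p ∈ Polynomial.lifts φ.toRingHom := by
      refine (Polynomial.lifts_iff_coeff_lifts _).2 fun n => ?_
      by_cases hn : p.coeff n = 0
      · exact ⟨0, by rw [hn, map_zero]⟩
      · exact ⟨MvPolynomial.X ⟨_, Finset.mem_union_right _ (Polynomial.coeff_mem_coeffs hn)⟩, MvPolynomial.aeval_X _ _⟩
    rcases subsingleton_or_nontrivial S with hsub | hsub
    · haveI : Subsingleton (S ⊗[R] B) := Module.subsingleton S _
      exact ⟨0, Subtype.ext (Subsingleton.elim _ _)⟩
    obtain ⟨q, hq, -, hqm⟩ := Polynomial.lifts_and_degree_eq_and_monic hl hpm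
    let Φ : MvPolynomial T' R ⊗[R] B →ₐ[R] S ⊗[R] B := Algebra.TensorProduct.map φ (AlgHom.id R B)
    have hΦ : ∀ v, Φ v = φ.toLinearMap.rTensor B v := fun v => rfl
    let z : MvPolynomial T' R ⊗[R] B := Polynomial.eval₂ Algebra.TensorProduct.includeLeftRingHom y₀ q
    have hz : φ.toLinearMap.rTensor B z = 0 := by
      rw [← hΦ]
      show Φ.toRingHom (Polynomial.eval₂ _ y₀ q) = 0
      rw [Polynomial.hom_eval₂]
      have hc : Φ.toRingHom.comp Algebra.TensorProduct.includeLeftRingHom =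
          (algebraMap S (S ⊗[R] B)).comp φ.toRingHom := by
        ext v <;> simp [Φ, φ]
      rw [hc, ← Polynomial.eval₂_map, hq]
      have : Φ.toRingHom y₀ = y := by show Φ y₀ = y; rw [hΦ, hy₀]
      rw [this]
      exact hpy
    obtain ⟨A₁, _, _, g, h, hfp, hcomp, hg⟩ := exists_kill φ _ hz
    obtain ⟨B₁, _, _, hsm, g', h', hh⟩ := hS A₁ hfp h
    haveI := hsm
    let g₁ := g'.comp g
    let Ψ : MvPolynomial T' R ⊗[R] B →ₐ[R] B₁ ⊗[R] B := Algebra.TensorProduct.map g₁ (AlgHom.id R B)
    have hint : IsIntegral B₁ (Ψ y₀) := by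
      refine ⟨q.map g₁.toRingHom, hqm.map _, ?_⟩
      have h0 : Ψ.toRingHom z = 0 := by
        show g₁.toLinearMap.rTensor B z = 0
        simp only [g₁, AlgHom.comp_toLinearMap, LinearMap.rTensor_comp_apply]
        rw [hg, map_zero]
      show Polynomial.eval₂ _ _ _ = 0
      rw [Polynomial.eval₂_map]
      rw [Polynomial.hom_eval₂] at h0
      have hc : Ψ.toRingHom.comp Algebra.TensorProduct.includeLeftRingHom =
          (algebraMap B₁ (B₁ ⊗[R] B)).comp g₁.toRingHom := by
        ext v <;> simp [Ψ]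
      rw [hc] at h0
      exact h0
    obtain ⟨x₁, hx₁⟩ := (TensorProduct.toIntegralClosure_bijective_of_smooth (R := R) (S := B₁) (B := B)).2 ⟨Ψ y₀, hint⟩
    have hx₁' : C.val.toLinearMap.lTensor B₁ x₁ = Ψ y₀ := congrArg Subtype.val hx₁
    refine ⟨h'.toLinearMap.rTensor C x₁, Subtype.ext ?_⟩
    show C.val.toLinearMap.lTensor S (h'.toLinearMap.rTensor C x₁) = y
    rw [← LinearMap.comp_apply, LinearMap.lTensor_comp_rTensor, ← LinearMap.rTensor_comp_lTensor,
      LinearMap.comp_apply, hx₁', ← hy₀]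
    show h'.toLinearMap.rTensor B (g₁.toLinearMap.rTensor B y₀) = φ.toLinearMap.rTensor B y₀
    rw [← LinearMap.rTensor_comp_apply, ← AlgHom.comp_toLinearMap]
    simp only [g₁]
    rw [← AlgHom.comp_assoc, hh, hcomp]

end Groth.Agent.S9446
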