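import Groth.Statements.S9448
import Groth.Agent.Lib.EtaleCoord5.Basic
import Mathlib.RingTheory.Jacobson.Ring
-- import your own Groth.Agent.* helpers here

set_option autoImplicit false
universe u
open Unram

namespace Groth.Agent.S9448

open TensorProduct KaehlerDifferential

theorem trdeg_eq_tdeg' (k K : Type u) [Field k] [CommRing K] [IsDomain K] [Algebra k K] [Algebra.FiniteType k K] :
    Algebra.trdeg k K = (VarDim.tdeg k K : Cardinal) := VarDim.trdeg_eq_tdeg k K

theorem span_map_of_formallyEtale (R A T : Type u) [CommRing R] [CommRing A] [CommRing T] [Algebra R A]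
    [Algebra R T] [Algebra A T] [IsScalarTower R A T] [Algebra.FormallyEtale A T]
    (s : Set Ω[A⁄R]) (hs : Submodule.span A s = ⊤) :
    Submodule.span T (map R R A T '' s) = ⊤ := by
  rw [eq_top_iff]
  rintro x -
  obtain ⟨y, rfl⟩ := (tensorKaehlerEquivOfFormallyEtale R A T).surjective x
  induction y with
  | zero => simp
  | add a b ha hb => rw [map_add]; exact Submodule.add_mem _ ha hb
  | tmul t w =>
    have hw : w ∈ Submodule.span A s := hs ▸ Submodule.mem_top
    have : map R R A T w ∈ Submodule.span T (map R R A T '' s) := by
      have := Submodule.mem_map_of_mem (f := map R R A T) hw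
      rw [Submodule.map_span] at this
      exact Submodule.span_subset_span A T _ this
    simpa using Submodule.smul_mem _ t this

/-- For a field k and a finite type algebra A over the polynomial ring k[x_1, …, x_n] (the variables
mapping to a_1, …, a_n), the structure map is étale if and only if (a) the local rings of A at all
maximal ideals have dimension n and (b) da_1, …, da_n generate the module of differentials of A over
k. -/
theorem result (k : Type u) [Field k] (n : ℕ)
    (A : Type u) [CommRing A] [Algebra k A] [Algebra (MvPolynomial (Fin n) k) A]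
    [IsScalarTower k (MvPolynomial (Fin n) k) A] [Algebra.FiniteType (MvPolynomial (Fin n) k) A] :
    Algebra.Etale (MvPolynomial (Fin n) k) A ↔
      (∀ (m : Ideal A) [m.IsMaximal], ringKrullDim (Localization.AtPrime m) = n) ∧
        Submodule.span A (Set.range fun i : Fin n =>
          KaehlerDifferential.D k A (algebraMap (MvPolynomial (Fin n) k) A (MvPolynomial.X i))) = ⊤ := by
  haveI : Algebra.FiniteType k A :=
    Algebra.FiniteType.trans (S := MvPolynomial (Fin n) k) inferInstance inferInstance
  haveI : Algebra.FinitePresentation (MvPolynomial (Fin n) k) A :=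
    Algebra.FinitePresentation.of_finiteType.1 inferInstance
  have hld : ∀ (m : Ideal A) [m.IsMaximal],
      FlatMor.localDim (PrimeSpectrum A) ⟨m, inferInstance⟩ = ringKrullDim (Localization.AtPrime m) := by
    intro m _
    letI := Ideal.Quotient.field m
    haveI : Module.Finite k (A ⧸ m) := finite_of_finite_type_of_isJacobsonRing k (A ⧸ m)
    have h0 : VarDim.tdeg k (A ⧸ m) = 0 := by
      rw [← @Nat.cast_inj Cardinal, ← trdeg_eq_tdeg' k (A ⧸ m), trdeg_eq_zero (R := k) (A := A ⧸ m), Nat.cast_zero]
    rw [DimF18.localDim_spec k A ⟨m, inferInstance⟩, h0, Nat.cast_zero, add_zero]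
  constructor
  · intro _
    refine ⟨fun m _ => ?_, ?_⟩
    · haveI : Algebra.IsEtaleAt (MvPolynomial (Fin n) k) m := by
        haveI : Algebra.FormallyEtale A (Localization.AtPrime m) := .of_isLocalization m.primeCompl
        exact Algebra.FormallyEtale.comp (MvPolynomial (Fin n) k) A (Localization.AtPrime m)
      haveI : Algebra.FormallySmooth k (Localization.AtPrime m) :=
        Algebra.FormallySmooth.comp k (MvPolynomial (Fin n) k) (Localization.AtPrime m)
      haveI : Algebra.IsSmoothAt k m := ‹Algebra.FormallySmooth k (Localization.AtPrime m)›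
      obtain ⟨d, hd, ⟨b⟩⟩ := EtaleCoord5.exists_basis k A m
      rw [← hld m, hd]
      obtain ⟨hli, hsp⟩ := (EtaleCoord5.mapBaseChange_bijective_iff k (Localization.AtPrime m)).1
        ((TowerSmooth5.formallyEtale_iff k (MvPolynomial (Fin n) k) (Localization.AtPrime m)).1 ‹_›)
      have := Module.finrank_eq_card_basis (Module.Basis.mk hli hsp.ge)
      rw [Module.finrank_eq_card_basis b, Fintype.card_fin, Fintype.card_fin] at this
      rw [this]
    · haveI : Algebra.FormallySmooth k A := Algebra.FormallySmooth.comp k (MvPolynomial (Fin n) k) A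
      exact ((EtaleCoord5.mapBaseChange_bijective_iff k A).1
        ((TowerSmooth5.formallyEtale_iff k (MvPolynomial (Fin n) k) A).1 inferInstance)).2
  · rintro ⟨hdim, hsp⟩
    rw [← Algebra.etaleLocus_eq_univ_iff_etale]
    refine Set.eq_univ_of_forall fun q => ?_
    obtain ⟨m, hm, hqm⟩ := Ideal.exists_le_maximal q.asIdeal q.2.ne_top
    have hmem : (⟨m, hm.isPrime⟩ : PrimeSpectrum A) ∈ Algebra.etaleLocus (MvPolynomial (Fin n) k) A := by
      haveI := hm
      refine (EtaleCoord5.isEtaleAt_iff_span k A n m ((hld m).trans (hdim m))).2 ?_
      haveI : Algebra.FormallyEtale A (Localization.AtPrime m) := .of_isLocalization m.primeCompl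
      have h := span_map_of_formallyEtale k A (Localization.AtPrime m) _ hsp
      rw [← Set.range_comp] at h
      have hc : (⇑(KaehlerDifferential.map k k A (Localization.AtPrime m)) ∘ fun i : Fin n =>
          KaehlerDifferential.D k A (algebraMap (MvPolynomial (Fin n) k) A (MvPolynomial.X i))) =
          fun i : Fin n => KaehlerDifferential.D k (Localization.AtPrime m) (algebraMap A (Localization.AtPrime m)
            (algebraMap (MvPolynomial (Fin n) k) A (MvPolynomial.X i))) :=
        funext fun i => KaehlerDifferential.map_D k k A (Localization.AtPrime m) _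
      rwa [hc] at h
    exact ((PrimeSpectrum.le_iff_specializes _ _).1 hqm).mem_open Algebra.isOpen_etaleLocus hmem

end Groth.Agent.S9448
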