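import Groth.Statements.S9449
import Groth.Agent.Lib.UnrSplit5.All
-- import your own Groth.Agent.* helpers here

set_option autoImplicit false
universe u
open Unram

namespace Groth.Agent.S9449

open TensorProduct in
/-- For an unramified ring map R → S and a prime p of R there exist an étale R-algebra R', a prime p' of
R' lying over p and a decomposition R' ⊗_R S ≅ A_1 × ⋯ × A_n × B of R'-algebras with every R' → A_i
surjective, p'A_i a prime ideal of A_i whose preimage in R' is p', and no prime of B lying over p'. -/
theorem result (R : Type u) [CommRing R]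
    (S : Type u) [CommRing S] [Algebra R S] [Algebra.Unramified R S] (p : Ideal R) [p.IsPrime] :
    ∃ (R' : Type u) (_ : CommRing R') (_ : Algebra R R') (_ : Algebra.Etale R R') (p' : Ideal R')
      (_ : p'.IsPrime) (_ : p'.LiesOver p) (n : ℕ) (A : Fin n → Type u) (_ : ∀ i, CommRing (A i))
      (_ : ∀ i, Algebra R' (A i)) (B : Type u) (_ : CommRing B) (_ : Algebra R' B),
      Nonempty ((R' ⊗[R] S) ≃ₐ[R'] ((∀ i, A i) × B)) ∧
        (∀ i, Function.Surjective (algebraMap R' (A i)) ∧
          (p'.map (algebraMap R' (A i))).IsPrime ∧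
          (p'.map (algebraMap R' (A i))).comap (algebraMap R' (A i)) = p') ∧
        ∀ (q : Ideal B) [q.IsPrime], q.comap (algebraMap R' B) ≠ p' := by
  let Ω := AlgebraicClosure p.ResidueField
  have hker : RingHom.ker (algebraMap R Ω) = p := by
    rw [IsScalarTower.algebraMap_eq R p.ResidueField Ω, ← RingHom.comap_ker,
      (RingHom.injective_iff_ker_eq_bot (algebraMap p.ResidueField Ω)).mp (RingHom.injective _),
      ← RingHom.ker_eq_comap_bot,
      Ideal.ker_algebraMap_residueField]
  obtain ⟨R', _, _, _, p', _, hp', n, J, B, _, _, e, hJ, hB⟩ :=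
    UnrSplit5.exists_split_all Ω (Nat.card (S →ₐ[R] Ω)) R S le_rfl
  rw [hker] at hp'
  refine ⟨R', inferInstance, inferInstance, inferInstance, p', inferInstance, hp', n,
    fun i => R' ⧸ J i, fun i => inferInstance, fun i => inferInstance, B, inferInstance,
    inferInstance, e, fun i => ?_, hB⟩
  have hmk : Function.Surjective (Ideal.Quotient.mk (J i)) := Ideal.Quotient.mk_surjective
  have hk : RingHom.ker (Ideal.Quotient.mk (J i)) ≤ p' := by rw [Ideal.mk_ker]; exact hJ i
  refine ⟨hmk, Ideal.map_isPrime_of_surjective hmk hk, ?_⟩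
  show Ideal.comap (Ideal.Quotient.mk (J i)) (p'.map (Ideal.Quotient.mk (J i))) = p'
  rw [Ideal.comap_map_of_surjective _ hmk, ← RingHom.ker_eq_comap_bot, sup_eq_left]
  exact hk

end Groth.Agent.S9449
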