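import Groth.Statements.S9450


set_option autoImplicit false
universe u
open CAlg

namespace Groth.Agent.S9450

open TensorProduct KaehlerDifferential in
theorem aux (A : Type u) [CommRing A]
    (B : Type u) [CommRing B] [Algebra A B] [Algebra.FormallySmooth A B] (C : Type u) [CommRing C]
    [Algebra B C] [Algebra A C] [IsScalarTower A B C] (hC : Function.Surjective (algebraMap A C))
    (h : RingHom.ker (algebraMap A C) ≤ (RingHom.ker (algebraMap B C)).comap (Algebra.ofId A B)) :
    let f := Ideal.mapCotangent (RingHom.ker (algebraMap A C))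
        (RingHom.ker (algebraMap B C)) (Algebra.ofId A B) h
    Function.Injective f ∧
      (∃ r : (RingHom.ker (algebraMap B C)).Cotangent →ₗ[A] (RingHom.ker (algebraMap A C)).Cotangent,
        r ∘ₗ f = LinearMap.id) ∧
      LinearMap.range f = LinearMap.ker ((kerCotangentToTensor A B C).restrictScalars A) ∧
      Function.Surjective (kerCotangentToTensor A B C) := by
  have hBC : Function.Surjective (algebraMap B C) := fun c => by
    obtain ⟨a, rfl⟩ := hC c
    exact ⟨algebraMap A B a, (IsScalarTower.algebraMap_apply A B C a).symm⟩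
  revert h
  set I := RingHom.ker (algebraMap A C) with hI
  set J := RingHom.ker (algebraMap B C) with hJ
  intro h f
  have hIJ : ∀ a ∈ I, algebraMap A B a ∈ J := fun a ha => by
    rw [hJ, RingHom.mem_ker, ← IsScalarTower.algebraMap_apply]; exact ha
  let p : (A ⧸ I ^ 2) →ₐ[A] C := Ideal.Quotient.liftₐ (I ^ 2) (Algebra.ofId A C)
    (fun a ha => by have := Ideal.pow_le_self two_ne_zero ha; exact this)
  have hp : Function.Surjective p := fun c => by
    obtain ⟨a, rfl⟩ := hC c
    exact ⟨Ideal.Quotient.mk _ a, rfl⟩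
  have hpk : IsNilpotent (RingHom.ker (p : (A ⧸ I ^ 2) →+* C)) := by
    refine ⟨2, ?_⟩
    have hle : RingHom.ker (p : (A ⧸ I ^ 2) →+* C) ≤ I.map (Ideal.Quotient.mk (I ^ 2)) := by
      intro x hx
      obtain ⟨a, rfl⟩ := Ideal.Quotient.mk_surjective x
      exact Ideal.mem_map_of_mem _ hx
    refine le_bot_iff.1 ((Ideal.pow_right_mono hle 2).trans ?_)
    rw [← Ideal.map_pow, Ideal.map_quotient_self]
  let g : B →ₐ[A] A ⧸ I ^ 2 :=
    Algebra.FormallySmooth.liftOfSurjective (IsScalarTower.toAlgHom A B C) p hp hpk
  have hg : ∀ b, p (g b) = algebraMap B C b := fun b =>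
    Algebra.FormallySmooth.liftOfSurjective_apply _ p hp hpk b
  -- the section of B and its defect
  have hex : ∀ b, ∃ a, Ideal.Quotient.mk (I ^ 2) a = g b := fun b => Ideal.Quotient.mk_surjective _
  choose s hs using hex
  have hsJ : ∀ b, b - algebraMap A B (s b) ∈ J := fun b => by
    rw [hJ, RingHom.mem_ker, map_sub, ← IsScalarTower.algebraMap_apply, sub_eq_zero, ← hg b, ← hs b]
    rfl
  let σ : B → J.Cotangent := fun b => J.toCotangent ⟨_, hsJ b⟩
  have hσ : ∀ b a (ha : b - algebraMap A B a ∈ J), Ideal.Quotient.mk (I ^ 2) a = g b →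
      σ b = J.toCotangent ⟨b - algebraMap A B a, ha⟩ := by
    intro b a ha hab
    apply (Ideal.toCotangent_eq J).2
    have h2 : a - s b ∈ I ^ 2 := by rw [← Ideal.Quotient.eq, hab, hs]
    have h3 : algebraMap A B (a - s b) ∈ J ^ 2 :=
      Ideal.pow_right_mono ((Ideal.map_le_iff_le_comap (f := algebraMap A B) (K := J)).2 fun x hx => hIJ x hx) 2
        (by rw [← Ideal.map_pow]; exact Ideal.mem_map_of_mem (algebraMap A B) h2)
    rw [map_sub] at h3
    show b - algebraMap A B (s b) - (b - algebraMap A B a) ∈ J ^ 2
    rw [sub_sub_sub_cancel_left]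
    exact h3
  have hJsmul : ∀ (x : B) (y : J.Cotangent), x ∈ J → x • y = 0 := by
    intro x y hx
    obtain ⟨y, rfl⟩ := Ideal.toCotangent_surjective _ y
    rw [← map_smul, Ideal.toCotangent_eq_zero, pow_two]
    exact Ideal.mul_mem_mul hx y.2
  have hadd : ∀ b c, σ (b + c) = σ b + σ c := by
    intro b c
    rw [hσ (b + c) (s b + s c) (by convert J.add_mem (hsJ b) (hsJ c) using 1; rw [map_add]; ring)
      (by rw [map_add, hs, hs, map_add])]
    simp only [σ, ← map_add]
    congr 1
    apply Subtype.ext
    show b + c - algebraMap A B (s b + s c) = b - algebraMap A B (s b) + (c - algebraMap A B (s c))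
    simp only [map_add]; ring
  have hmul : ∀ b c, σ (b * c) = b • σ c + c • σ b := by
    intro b c
    have hm : b * c - algebraMap A B (s b * s c) =
        b * (c - algebraMap A B (s c)) + algebraMap A B (s c) * (b - algebraMap A B (s b)) := by
      rw [map_mul]; ring
    rw [hσ (b * c) (s b * s c) (by
      rw [hm]; exact J.add_mem (J.mul_mem_left _ (hsJ c)) (J.mul_mem_left _ (hsJ b)))
      (by rw [map_mul, hs, hs, map_mul])]
    have he : c • σ b = algebraMap A B (s c) • σ b := by
      rw [← sub_eq_zero, ← sub_smul]; exact hJsmul _ _ (hsJ c)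
    rw [he]
    simp only [σ, ← map_smul, ← map_add]
    congr 1
    exact Subtype.ext hm
  have hsc : ∀ (a : A) b, σ (a • b) = a • σ b := by
    intro a b
    have hm : a • b - algebraMap A B (a * s b) = algebraMap A B a * (b - algebraMap A B (s b)) := by
      rw [Algebra.smul_def, map_mul]; ring
    rw [hσ (a • b) (a * s b) (by rw [hm]; exact J.mul_mem_left _ (hsJ b))
      (by rw [map_mul, hs, map_smul, Algebra.smul_def]; rfl)]
    rw [← IsScalarTower.algebraMap_smul B a (σ b)]
    simp only [σ, ← map_smul]
    congr 1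
    exact Subtype.ext hm
  let σl : B →ₗ[A] J.Cotangent := { toFun := σ, map_add' := hadd, map_smul' := hsc }
  let δ : Derivation A B J.Cotangent := Derivation.mk' σl hmul
  let l : Ω[B⁄A] →ₗ[B] J.Cotangent := δ.liftKaehlerDifferential
  -- retraction
  have hgJ : ∀ x : J, s x.1 ∈ I := fun x => by
    rw [hI, RingHom.mem_ker]
    have : p (Ideal.Quotient.mk (I ^ 2) (s x.1)) = 0 := by
      rw [hs, hg]; exact x.2
    exact this
  let rJ : J →ₗ[A] I.Cotangent :=
    { toFun := fun x => I.toCotangent ⟨s x.1, hgJ x⟩
      map_add' := fun x y => by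
        rw [← map_add, Ideal.toCotangent_eq]
        rw [← Ideal.Quotient.eq, hs]
        show g _ = Ideal.Quotient.mk (I ^ 2) (s x.1 + s y.1)
        rw [map_add, hs, hs]; exact map_add g _ _
      map_smul' := fun a x => by
        rw [RingHom.id_apply, ← map_smul, Ideal.toCotangent_eq]
        rw [← Ideal.Quotient.eq, hs]
        show g _ = Ideal.Quotient.mk (I ^ 2) (a * s x.1)
        rw [map_mul, hs]
        exact (map_smul g a x.1).trans (Algebra.smul_def _ _) }
  have hker : ∀ x : J, J.toCotangent x = 0 → rJ x = 0 := by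
    intro x hx
    rw [Ideal.toCotangent_eq_zero] at hx
    show I.toCotangent _ = 0
    rw [Ideal.toCotangent_eq_zero]
    show s x.1 ∈ I ^ 2
    rw [← Ideal.Quotient.eq_zero_iff_mem, hs]
    have hle : J.map g.toRingHom ≤ RingHom.ker (p : (A ⧸ I ^ 2) →+* C) :=
      Ideal.map_le_iff_le_comap.2 fun y hy => by
        show p (g y) = 0
        rw [hg]; exact hy
    have := Ideal.mem_map_of_mem g.toRingHom hx
    rw [Ideal.map_pow] at this
    obtain ⟨n, hn⟩ := hpk
    have h2 : RingHom.ker (p : (A ⧸ I ^ 2) →+* C) ^ 2 = ⊥ := by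
      have hle' : RingHom.ker (p : (A ⧸ I ^ 2) →+* C) ≤ I.map (Ideal.Quotient.mk (I ^ 2)) := by
        intro y hy
        obtain ⟨a, rfl⟩ := Ideal.Quotient.mk_surjective y
        exact Ideal.mem_map_of_mem _ hy
      refine le_bot_iff.1 ((Ideal.pow_right_mono hle' 2).trans ?_)
      rw [← Ideal.map_pow, Ideal.map_quotient_self]
    have := Ideal.pow_right_mono hle 2 this
    rw [h2, Ideal.mem_bot] at this
    exact this
  let π : J →ₗ[A] J.Cotangent := J.toCotangent.restrictScalars A
  have hπ : Function.Surjective π := Ideal.toCotangent_surjective _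
  let e : (J ⧸ LinearMap.ker π) ≃ₗ[A] J.Cotangent := LinearMap.quotKerEquivOfSurjective π hπ
  let r : J.Cotangent →ₗ[A] I.Cotangent :=
    ((LinearMap.ker π).liftQ rJ fun x hx => hker x hx) ∘ₗ e.symm.toLinearMap
  have hr : ∀ x : J, r (J.toCotangent x) = rJ x := by
    intro x
    have : e.symm (J.toCotangent x) = Submodule.Quotient.mk x := by
      rw [LinearEquiv.symm_apply_eq]; rfl
    show ((LinearMap.ker π).liftQ rJ fun x hx => hker x hx) (e.symm (J.toCotangent x)) = _
    rw [this, Submodule.liftQ_apply]
  have hrf : r ∘ₗ f = LinearMap.id := by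
    apply LinearMap.ext
    intro y
    obtain ⟨a, rfl⟩ := Ideal.toCotangent_surjective _ y
    show r (f (I.toCotangent a)) = I.toCotangent a
    rw [Ideal.mapCotangent_toCotangent, hr]
    show I.toCotangent _ = _
    rw [Ideal.toCotangent_eq, ← Ideal.Quotient.eq, hs]
    exact g.commutes a.1
  refine ⟨fun y z hyz => by
      have := congrArg r hyz
      rw [← LinearMap.comp_apply, ← LinearMap.comp_apply, hrf] at this
      exact this, ⟨r, hrf⟩, ?_, ?_⟩
  · apply le_antisymm
    · rintro _ ⟨y, rfl⟩
      obtain ⟨a, rfl⟩ := Ideal.toCotangent_surjective _ y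
      rw [LinearMap.mem_ker, LinearMap.restrictScalars_apply, Ideal.mapCotangent_toCotangent,
        kerCotangentToTensor_toCotangent]
      show (1 : C) ⊗ₜ[B] D A B (algebraMap A B a.1) = 0
      rw [Derivation.map_algebraMap, tmul_zero]
    · intro y hy
      obtain ⟨x, rfl⟩ := Ideal.toCotangent_surjective _ y
      rw [LinearMap.mem_ker, LinearMap.restrictScalars_apply, kerCotangentToTensor_toCotangent] at hy
      have hx : σ x.1 = J.toCotangent x - f (rJ x) := by
        show _ = _ - f (I.toCotangent _)
        rw [Ideal.mapCotangent_toCotangent, ← map_sub]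
        rfl
      let eC : (B ⧸ J) ≃ₐ[B] C := Ideal.quotientKerAlgEquivOfSurjective (f := Algebra.ofId B C) hBC
      have h1 : (1 : B ⧸ J) ⊗ₜ[B] D A B x.1 = 0 := by
        have := congrArg (LinearEquiv.rTensor Ω[B⁄A] eC.symm.toLinearEquiv) hy
        rw [map_zero, LinearEquiv.rTensor_tmul] at this
        simpa using this
      have h2 := congrArg (quotTensorEquivQuotSMul Ω[B⁄A] J) h1
      rw [map_zero, show (1 : B ⧸ J) = Ideal.Quotient.mk J 1 from rfl,
        quotTensorEquivQuotSMul_mk_tmul, one_smul] at h2
      have h3 := (Submodule.Quotient.mk_eq_zero _).1 h2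
      have h4 : l (D A B x.1) = 0 := by
        refine Submodule.smul_induction_on h3 (fun j hj m _ => ?_) (fun u v hu hv => ?_)
        · rw [map_smul]; exact hJsmul _ _ hj
        · rw [map_add, hu, hv, add_zero]
      rw [Derivation.liftKaehlerDifferential_comp_D] at h4
      have h5 : σ x.1 = 0 := h4
      rw [hx, sub_eq_zero] at h5
      exact ⟨rJ x, h5.symm⟩
  · intro z
    haveI : Subsingleton Ω[C⁄A] := KaehlerDifferential.subsingleton_of_surjective A C hC
    exact (exact_kerCotangentToTensor_mapBaseChange A B C hBC z).1 (Subsingleton.elim _ _)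



/-- For ring maps A → B → C with A → C surjective and A → B formally smooth, writing I = ker(A → C) and
J = ker(B → C), the sequence 0 → I/I² → J/J² → C ⊗_B Ω_{B/A} → 0 is split exact: the first map is
injective and admits an A-linear retraction, its range is the kernel of the second map (class of x ↦
1 ⊗ dx), and the second map is surjective. -/
theorem result (A : Type u) [CommRing A]
    (B : Type u) [CommRing B] [Algebra A B] [Algebra.FormallySmooth A B] (C : Type u) [CommRing C]
    [Algebra B C] [Algebra A C] [IsScalarTower A B C] (hC : Function.Surjective (algebraMap A C)) :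
    Function.Injective (Ideal.mapCotangent (RingHom.ker (algebraMap A C))
        (RingHom.ker (algebraMap B C)) (Algebra.ofId A B)
        (le_of_eq (congrArg RingHom.ker (IsScalarTower.algebraMap_eq A B C)))) ∧
      (∃ r : (RingHom.ker (algebraMap B C)).Cotangent →ₗ[A] (RingHom.ker (algebraMap A C)).Cotangent,
        r ∘ₗ (Ideal.mapCotangent (RingHom.ker (algebraMap A C)) (RingHom.ker (algebraMap B C))
          (Algebra.ofId A B)
          (le_of_eq (congrArg RingHom.ker (IsScalarTower.algebraMap_eq A B C)))) = LinearMap.id) ∧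
      LinearMap.range (Ideal.mapCotangent (RingHom.ker (algebraMap A C))
          (RingHom.ker (algebraMap B C)) (Algebra.ofId A B)
          (le_of_eq (congrArg RingHom.ker (IsScalarTower.algebraMap_eq A B C)))) =
        LinearMap.ker ((KaehlerDifferential.kerCotangentToTensor A B C).restrictScalars A) ∧
      Function.Surjective (KaehlerDifferential.kerCotangentToTensor A B C) := by
  exact aux A B C hC _

end Groth.Agent.S9450
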