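import Groth.Statements.S9451
import Mathlib

set_option autoImplicit false
universe u
open CategoryTheory CategoryTheory.Limits TensorProduct
open CAlg

namespace Groth.Agent.S9451
open CategoryTheory Limits TensorProduct

/-- Let (A_i) be a filtered system of rings with colimit A and B a smooth A-algebra. Then some stage A_i
carries a smooth A_i-algebra B_i with B isomorphic to A ⊗_{A_i} B_i as A-algebras (the base change
along the colimit map A_i → A; existence of an isomorphism). -/
theorem result {I : Type u} [SmallCategory I] [IsFiltered I]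
    (D : I ⥤ CommRingCat.{u}) (c : Cocone D) (hc : IsColimit c) (B : Type u) [CommRing B]
    [Algebra c.pt B] [Algebra.Smooth c.pt B] :
    ∃ (i : I) (Bi : Type u) (_ : CommRing Bi) (_ : Algebra (D.obj i) Bi),
      Algebra.Smooth (D.obj i) Bi ∧
      (letI : Algebra (D.obj i) c.pt := (c.ι.app i).hom.toAlgebra
       Nonempty (B ≃ₐ[c.pt] (c.pt ⊗[D.obj i] Bi))) := by
  obtain ⟨A₀, B₀, _, _, hfg, hsm, ⟨e⟩⟩ := Algebra.Smooth.exists_subalgebra_fg ℤ c.pt B
  haveI : Algebra.FiniteType ℤ A₀ := (Subalgebra.fg_iff_finiteType A₀).1 hfg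
  haveI : Algebra.FinitePresentation ℤ A₀ := Algebra.FinitePresentation.of_finiteType.mp inferInstance
  let R : CommRingCat.{u} := CommRingCat.of (ULift.{u} ℤ)
  let z : ∀ X : CommRingCat.{u}, R ⟶ X := fun X =>
    CommRingCat.ofHom ((Int.castRingHom X).comp (ULift.ringEquiv (R := ℤ)).toRingHom)
  have zu : ∀ {X : CommRingCat.{u}} (a b : R ⟶ X), a = b := fun {X} a b => CommRingCat.hom_ext (by
    have : a.hom.comp (ULift.ringEquiv (R := ℤ)).symm.toRingHom = b.hom.comp (ULift.ringEquiv (R := ℤ)).symm.toRingHom :=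
      RingHom.ext_int _ _
    ext x
    exact DFunLike.congr_fun this x.down)
  let α : (Functor.const I).obj R ⟶ D :=
    { app := fun i => z _
      naturality := fun _ _ _ => zu _ _ }
  let f : R ⟶ CommRingCat.of A₀ := z _
  have hf : f.hom.FinitePresentation := by
    have h : (algebraMap ℤ A₀).FinitePresentation := RingHom.finitePresentation_algebraMap.2 inferInstance
    have : f.hom = (algebraMap ℤ A₀).comp (ULift.ringEquiv (R := ℤ)).toRingHom := by
      ext x
      simp [f, z]
    rw [this]
    exact h.comp (RingHom.FinitePresentation.of_bijective (ULift.ringEquiv (R := ℤ)).bijective)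
  obtain ⟨i, g, -, hg⟩ := RingHom.EssFiniteType.exists_eq_comp_ι_app_of_isColimit R D α f c hc hf
    (CommRingCat.ofHom A₀.val.toRingHom) (fun _ => zu _ _)
  letI : Algebra (D.obj i) c.pt := (c.ι.app i).hom.toAlgebra
  letI : Algebra A₀ (D.obj i) := g.hom.toAlgebra
  haveI : IsScalarTower A₀ (D.obj i) c.pt := IsScalarTower.of_algebraMap_eq fun x => by
    have := congrArg (fun φ => φ.hom x) hg
    exact this
  refine ⟨i, (D.obj i) ⊗[A₀] B₀, inferInstance, inferInstance, inferInstance, ⟨e.trans ?_⟩⟩
  exact (Algebra.TensorProduct.cancelBaseChange A₀ (D.obj i) c.pt c.pt B₀).symm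

end Groth.Agent.S9451
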