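import Groth.Statements.S9452
import Groth.Agent.Lib.UnrSplit5.Basic
-- import your own Groth.Agent.* helpers here

set_option autoImplicit false
universe u
open Unram

namespace Groth.Agent.S9452

open TensorProduct in
/-- Let R → S be of finite type and unramified at a prime q lying over p. Then there are an étale
R-algebra R', a prime p' of R' over p and an R'-algebra isomorphism e : R' ⊗_R S ≅ A × B with R' → A
surjective and p'A a prime ideal of A lying over p' whose pull-back along S → R' ⊗_R S ≅ A × B → A
is q. -/
theorem result (R : Type u) [CommRing R]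
    (S : Type u) [CommRing S] [Algebra R S] [Algebra.FiniteType R S] (q : Ideal S) [q.IsPrime]
    [Algebra.IsUnramifiedAt R q] :
    ∃ (R' : Type u) (_ : CommRing R') (_ : Algebra R R') (_ : Algebra.Etale R R') (p' : Ideal R')
      (_ : p'.IsPrime) (_ : p'.LiesOver (q.under R)) (A : Type u) (_ : CommRing A) (_ : Algebra R' A)
      (B : Type u) (_ : CommRing B) (_ : Algebra R' B) (e : (R' ⊗[R] S) ≃ₐ[R'] (A × B)),
      Function.Surjective (algebraMap R' A) ∧ (p'.map (algebraMap R' A)).IsPrime ∧
        (p'.map (algebraMap R' A)).comap (algebraMap R' A) = p' ∧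
        (p'.map (algebraMap R' A)).comap (((RingHom.fst A B).comp e.toRingHom).comp
          (Algebra.TensorProduct.includeRight : S →ₐ[R] R' ⊗[R] S).toRingHom) = q := by
  obtain ⟨R', _, _, _, p', _, hp', J, hJ, B, _, _, e, he⟩ := UnrSplit5.exists_split_at R S q
  have hmk : Function.Surjective (Ideal.Quotient.mk J) := Ideal.Quotient.mk_surjective
  have hk : RingHom.ker (Ideal.Quotient.mk J) ≤ p' := by rwa [Ideal.mk_ker]
  refine ⟨R', inferInstance, inferInstance, inferInstance, p', inferInstance, hp', R' ⧸ J,
    inferInstance, inferInstance, B, inferInstance, inferInstance, e, hmk,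
    Ideal.map_isPrime_of_surjective hmk hk, ?_, ?_⟩
  · show Ideal.comap (Ideal.Quotient.mk J) (p'.map (Ideal.Quotient.mk J)) = p'
    rw [Ideal.comap_map_of_surjective _ hmk, ← RingHom.ker_eq_comap_bot, sup_eq_left]
    exact hk
  · ext s
    obtain ⟨a, ha⟩ := hmk (e (1 ⊗ₜ s)).1
    rw [Ideal.mem_comap, ← he s a ha, ← Ideal.mem_quotient_iff_mem hJ (x := a), ha]
    exact Iff.rfl

end Groth.Agent.S9452
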