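import Groth.Statements.S9453
import Groth.Agent.Lib.CI2.SplitCover

set_option autoImplicit false
universe u
open CAlg

namespace Groth.Agent.S9453
open Groth.Agent.CI2 Polynomial

/-- For a standard étale R-algebra S there is an R-algebra S' which is finite, finitely presented and
flat over R, with Spec S' → Spec R surjective, and such that for every prime q of S and every prime
q' of S' lying over the same prime of R there are g' ∉ q' and an R-algebra map φ : S → S'_{g'} under
which the extension of q' pulls back to q. -/
theorem result (R : Type u) [CommRing R] (S : Type u)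
    [CommRing S] [Algebra R S] [Algebra.IsStandardEtale R S] :
    ∃ (S' : Type u) (_ : CommRing S') (_ : Algebra R S'),
      Module.Finite R S' ∧ Algebra.FinitePresentation R S' ∧ Module.Flat R S' ∧
        Function.Surjective (PrimeSpectrum.comap (algebraMap R S')) ∧
        ∀ (q : Ideal S) [q.IsPrime] (q' : Ideal S') [q'.IsPrime], q'.under R = q.under R →
          ∃ (g' : S') (_ : g' ∉ q') (φ : S →ₐ[R] Localization.Away g'),
            (q'.map (algebraMap S' (Localization.Away g'))).comap φ = q := by
  obtain ⟨P⟩ := Algebra.IsStandardEtale.nonempty_standardEtalePresentation (R := R) (S := S)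
  obtain ⟨S', iS, aS, hfin, hfree, hi, s, hs⟩ := SplitCover.exists_split _ R P.f P.monic_f rfl
  refine ⟨S', iS, aS, hfin, SplitCover.fp_of_free, inferInstance, SplitCover.surjective_comap hi,
    fun q _ q' _ h => ?_⟩
  let e := P.equivRing
  haveI : (q.comap e.symm).IsPrime := Ideal.IsPrime.comap _
  have h' : q'.under R = (q.comap e.symm).under R := by
    rw [h]; ext r
    simp [Ideal.mem_comap, e.symm.commutes]
  obtain ⟨g', hg, φ, hφ⟩ := SplitCover.exists_map P.P s hs (q.comap e.symm) q' h'
  refine ⟨g', hg, φ.comp e.toAlgHom, ?_⟩
  ext z
  rw [Ideal.mem_comap, AlgHom.comp_apply]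
  have := SetLike.ext_iff.1 hφ (e z)
  rw [Ideal.mem_comap, Ideal.mem_comap, e.symm_apply_apply] at this
  exact this

end Groth.Agent.S9453
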