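import Groth.Statements.S9454
import Groth.Agent.Lib.CI2.SplitCover

set_option autoImplicit false
universe u
open CAlg

namespace Groth.Agent.S9454
open Groth.Agent.CI2 Polynomial

/-- For an étale ring map R → S which is surjective on spectra there is a finite, finitely presented,
flat R-algebra S' with Spec S' → Spec R surjective such that, Zariski locally on S', the structure
map factors through S: every prime q' of S' has some g' ∉ q' and an R-algebra map S → S'_{g'}. -/
theorem result (R : Type u) [CommRing R]
    (S : Type u) [CommRing S] [Algebra R S] [Algebra.Etale R S]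
    (hs : Function.Surjective (PrimeSpectrum.comap (algebraMap R S))) :
    ∃ (S' : Type u) (_ : CommRing S') (_ : Algebra R S'),
      Module.Finite R S' ∧ Algebra.FinitePresentation R S' ∧ Module.Flat R S' ∧
        Function.Surjective (PrimeSpectrum.comap (algebraMap R S')) ∧
        ∀ (q' : Ideal S') [q'.IsPrime], ∃ (g' : S') (_ : g' ∉ q'),
          Nonempty (S →ₐ[R] Localization.Away g') := by
  classical
  have hopen : IsOpenMap (PrimeSpectrum.comap (algebraMap R S)) :=
    PrimeSpectrum.isOpenMap_comap_of_hasGoingDown_of_finitePresentation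
  let G := {g : S // Algebra.IsStandardEtale R (Localization.Away g)}
  obtain ⟨t, ht⟩ := isCompact_univ.elim_finite_subcover
    (fun g : G => PrimeSpectrum.comap (algebraMap R S) '' (PrimeSpectrum.basicOpen g.1 : Set (PrimeSpectrum S)))
    (fun g => hopen _ PrimeSpectrum.isOpen_basicOpen)
    (fun p _ => by
      obtain ⟨q, rfl⟩ := hs p
      obtain ⟨g, hg, hgs⟩ := Algebra.IsEtaleAt.exists_isStandardEtale (R := R) q.asIdeal
      exact Set.mem_iUnion.2 ⟨⟨g, hgs⟩, q, hg, rfl⟩)
  let P : (g : G) → StandardEtalePresentation R (Localization.Away g.1) := fun g =>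
    g.2.nonempty_standardEtalePresentation.some
  obtain ⟨S', iS, aS, hfin, hfree, hi, hl⟩ := SplitCover.exists_split_list (t.toList.map fun g => (P g).f) (by
    intro f hf
    obtain ⟨g, _, rfl⟩ := List.mem_map.1 hf
    exact (P g).monic_f)
  refine ⟨S', iS, aS, hfin, SplitCover.fp_of_free, inferInstance, SplitCover.surjective_comap hi, fun q' _ => ?_⟩
  obtain ⟨g, hgt, q, hgq, hq⟩ := Set.mem_iUnion₂.1 (ht (Set.mem_univ ⟨q'.under R, inferInstance⟩))
  obtain ⟨s, hsp⟩ := hl _ (List.mem_map.2 ⟨g, Finset.mem_toList.2 hgt, rfl⟩)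
  have hd : Disjoint (Submonoid.powers g.1 : Set S) q.asIdeal :=
    (Ideal.disjoint_powers_iff_notMem_of_isPrime g.1).2 hgq
  haveI : (q.asIdeal.map (algebraMap S (Localization.Away g.1))).IsPrime :=
    IsLocalization.isPrime_of_isPrime_disjoint (Submonoid.powers g.1) _ q.asIdeal inferInstance hd
  let e := (P g).equivRing
  haveI : ((q.asIdeal.map (algebraMap S (Localization.Away g.1))).comap e.symm).IsPrime := Ideal.IsPrime.comap _
  have h' : q'.under R = ((q.asIdeal.map (algebraMap S (Localization.Away g.1))).comap e.symm).under R := by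
    have hq' : q.asIdeal.comap (algebraMap R S) = q'.under R := congrArg PrimeSpectrum.asIdeal hq
    rw [← hq']
    ext r
    simp only [Ideal.mem_comap]
    rw [e.symm.commutes, IsScalarTower.algebraMap_apply R S (Localization.Away g.1)]
    exact (SetLike.ext_iff.1
      (IsLocalization.under_map_of_isPrime_disjoint (Submonoid.powers g.1) (Localization.Away g.1) inferInstance hd) _).symm
  obtain ⟨g', hg', φ, -⟩ := SplitCover.exists_map (P g).P s hsp _ q' h'
  exact ⟨g', hg', ⟨(φ.comp e.toAlgHom).comp (IsScalarTower.toAlgHom R S (Localization.Away g.1))⟩⟩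

end Groth.Agent.S9454
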