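import Groth.Statements.S9455
import Groth.Agent.Lib.AdicSmooth.CohenFS

set_option autoImplicit false
universe u
open CAlg

namespace Groth.Agent.S9455

/-- If Λ is a Cohen ring (a complete discrete valuation ring with maximal ideal generated by a prime
number p) then Λ/p^nΛ is formally smooth over ℤ/p^nℤ for every n ≥ 1; the ℤ/p^nℤ-algebra structure
on Λ/p^nΛ is the unique one and is taken as a hypothesis. -/
theorem result (Λ : Type u) [CommRing Λ] [IsDomain Λ]
    [IsDiscreteValuationRing Λ] [IsAdicComplete (IsLocalRing.maximalIdeal Λ) Λ] (p : ℕ)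
    (hp : p.Prime) (hm : IsLocalRing.maximalIdeal Λ = Ideal.span {(p : Λ)}) (n : ℕ) (hn : 1 ≤ n)
    [Algebra (ZMod (p ^ n)) (Λ ⧸ Ideal.span {((p : Λ) ^ n)})] :
    Algebra.FormallySmooth (ZMod (p ^ n)) (Λ ⧸ Ideal.span {((p : Λ) ^ n)}) := by
  let B := Λ ⧸ Ideal.span {((p : Λ) ^ n)}
  refine Algebra.FormallySmooth.iff_comp_surjective.2 fun C _ _ J hJ ψ => ?_
  let q : Λ →+* B := Ideal.Quotient.mk _
  obtain ⟨v, hv⟩ := Groth.Agent.AdicSmooth.exists_lift_cohen
    (⟨inferInstance, inferInstance, inferInstance, p, hp, hm⟩ : CAlg.IsCohenRing Λ) hJ (ψ.toRingHom.comp q)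
    (k := n) fun x hx => by
      rw [hm, Ideal.span_singleton_pow] at hx
      show ψ (q x) = 0
      rw [show q x = 0 from Ideal.Quotient.eq_zero_iff_mem.2 hx, map_zero]
  have hzero : v ((p : Λ) ^ n) = 0 := by
    rw [map_pow, map_natCast, ← Nat.cast_pow, ← map_natCast (algebraMap (ZMod (p ^ n)) C),
      ZMod.natCast_self, map_zero]
  have hker : ∀ x ∈ Ideal.span {((p : Λ) ^ n)}, v x = 0 := fun x hx => by
    obtain ⟨c, rfl⟩ := Ideal.mem_span_singleton'.1 hx
    rw [map_mul, hzero, mul_zero]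
  let χ₀ : B →+* C := Ideal.Quotient.lift _ v hker
  refine ⟨{ χ₀ with commutes' := fun r => ?_ }, AlgHom.ext fun b => ?_⟩
  · exact RingHom.congr_fun (RingHom.ext_zmod (χ₀.comp (algebraMap (ZMod (p ^ n)) B)) (algebraMap _ C)) r
  · obtain ⟨x, rfl⟩ := Ideal.Quotient.mk_surjective b
    exact RingHom.congr_fun hv x

end Groth.Agent.S9455
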