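import Groth.Statements.S9456
import Mathlib
import Groth.Agent.Lib.FlatH4.FlatDescent
import Groth.Agent.Lib.FlatH4.NoethApprox

set_option autoImplicit false
universe u
open CAlg

namespace Groth.Agent.S9456
open TensorProduct

attribute [local instance] Algebra.TensorProduct.rightAlgebra

/-- the comparison map of a stage -/
noncomputable def stageHom (R B A S1 S' : Type u) [CommRing R] [CommRing B] [CommRing A] [CommRing S1] [CommRing S']
    [Algebra R B] [Algebra R A] [Algebra R S1] [Algebra R S'] [Algebra B S'] [Algebra S1 S']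
    [IsScalarTower R B S'] [IsScalarTower R S1 S'] : B ⊗[R] S1 →ₐ[R] S' :=
  Algebra.TensorProduct.lift (IsScalarTower.toAlgHom R B S') (IsScalarTower.toAlgHom R S1 S') fun _ _ => Commute.all _ _

/-- finitely many elements of a pushout come from a finitely generated stage -/
theorem exists_stage (R A S1 S' : Type u) [CommRing R] [CommRing A] [CommRing S1] [CommRing S']
    [Algebra R A] [Algebra R S1] [Algebra R S'] [Algebra A S'] [Algebra S1 S']
    [IsScalarTower R A S'] [IsScalarTower R S1 S'] [h : Algebra.IsPushout R A S1 S'] (s : Finset S') :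
    ∃ B : Subalgebra R A, B.FG ∧ ∀ x ∈ s, x ∈ (stageHom R B A S1 S').range := by
  classical
  have one : ∀ x : S', ∃ B : Subalgebra R A, B.FG ∧ ∀ C : Subalgebra R A, B ≤ C → x ∈ (stageHom R C A S1 S').range := by
    intro x
    obtain ⟨z, rfl⟩ := (Algebra.IsPushout.equiv R A S1 S').surjective x
    obtain ⟨B, hB, z₁, rfl⟩ := TensorProduct.Algebra.exists_of_fg z
    refine ⟨B, hB, fun C hC => ⟨(Subalgebra.inclusion hC).toLinearMap.rTensor S1 z₁, ?_⟩⟩
    induction z₁ using TensorProduct.induction_on with
    | zero => simp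
    | add a b ha hb => simp only [map_add, ha, hb]
    | tmul b t =>
      simp only [LinearMap.rTensor_tmul, stageHom, AlgHom.toLinearMap_apply, AlgHom.toRingHom_eq_coe,
        RingHom.coe_coe, Algebra.TensorProduct.lift_tmul, Algebra.IsPushout.equiv_tmul]
      rfl
  choose B hB hx using one
  exact ⟨s.sup B, Finset.sup_induction Subalgebra.fg_bot (fun a ha b hb => ha.sup hb) (fun i _ => hB i),
    fun x hxs => hx x _ (Finset.le_sup hxs)⟩

/-- base change to an intermediate stage, as an abstract algebra -/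
theorem exists_stage_algebra (R B A S1 S' : Type u) [CommRing R] [CommRing B] [CommRing A] [CommRing S1] [CommRing S']
    [Algebra R B] [Algebra R A] [Algebra B A] [IsScalarTower R B A] [Algebra R S1] [Algebra R S'] [Algebra A S']
    [Algebra B S'] [Algebra S1 S'] [IsScalarTower R A S'] [IsScalarTower B A S'] [IsScalarTower R B S']
    [IsScalarTower R S1 S'] [Algebra.IsPushout R A S1 S'] [Algebra.FiniteType R S1] :
    ∃ (S2 : Type u) (_ : CommRing S2) (_ : Algebra B S2) (_ : Algebra S1 S2) (_ : Algebra R S2) (_ : Algebra S2 S')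
      (_ : IsScalarTower R B S2) (_ : IsScalarTower R S1 S2) (_ : IsScalarTower B S2 S') (_ : IsScalarTower S1 S2 S'),
      Algebra.IsPushout R B S1 S2 ∧ Algebra.IsPushout B A S2 S' ∧ Algebra.FiniteType B S2 ∧
        ∀ x ∈ (stageHom R B A S1 S').range, x ∈ Set.range (algebraMap S2 S') := by
  letI : Algebra (B ⊗[R] S1) S' := (stageHom R B A S1 S').toRingHom.toAlgebra
  haveI : IsScalarTower B (B ⊗[R] S1) S' := IsScalarTower.of_algebraMap_eq fun b => by
    show _ = stageHom R B A S1 S' (b ⊗ₜ 1)
    simp [stageHom]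
  haveI : IsScalarTower S1 (B ⊗[R] S1) S' := IsScalarTower.of_algebraMap_eq fun b => by
    show _ = stageHom R B A S1 S' (1 ⊗ₜ b)
    simp [stageHom]
  haveI : IsScalarTower R (B ⊗[R] S1) S' := IsScalarTower.of_algebraMap_eq fun r =>
    ((stageHom R B A S1 S').commutes r).symm
  exact ⟨B ⊗[R] S1, inferInstance, inferInstance, inferInstance, inferInstance, inferInstance, inferInstance,
    inferInstance, inferInstance, inferInstance, inferInstance,
    (Algebra.IsPushout.comp_iff (R := R) (S := B) (R' := S1) (S' := B ⊗[R] S1)).1 inferInstance,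
    inferInstance, fun x hx => by obtain ⟨y, rfl⟩ := hx; exact ⟨y, rfl⟩⟩

set_option maxHeartbeats 800000 in
/-- a finitely presented module comes from a stage containing the relations -/
theorem exists_module_model {S2 S M : Type u} [CommRing S2] [CommRing S] [Algebra S2 S]
    [AddCommGroup M] [Module S M] [Module S2 M] [IsScalarTower S2 S M] {n : ℕ}
    (K : Submodule S (Fin n → S)) (eM : M ≃ₗ[S] (Fin n → S) ⧸ K) (t : Finset (Fin n → S))
    (ht : Submodule.span S (t : Set (Fin n → S)) = K) (w : t → Fin n → S2)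
    (hw : ∀ (v : t) (i), algebraMap S2 S (w v i) = v.1 i) :
    ∃ (M1 : Type u) (_ : AddCommGroup M1) (_ : Module S2 M1) (j : M1 →ₗ[S2] M),
      Module.Finite S2 M1 ∧ IsBaseChange S j := by
  classical
  let M1 := (Fin n → S2) ⧸ Submodule.span S2 (Set.range w)
  let q : (Fin n → S) →ₗ[S] M := eM.symm.toLinearMap ∘ₗ K.mkQ
  have hq : ∀ v : t, q v.1 = 0 := fun v => by
    simp only [q, LinearMap.comp_apply, Submodule.mkQ_apply, (Submodule.Quotient.mk_eq_zero K).2 (ht ▸ Submodule.subset_span v.2), map_zero]
  let j0 : (Fin n → S2) →ₗ[S2] M := (q.restrictScalars S2) ∘ₗ LinearMap.compLeft (Algebra.linearMap S2 S) (Fin n)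
  have hj0 : ∀ x, j0 x = q (fun i => algebraMap S2 S (x i)) := fun x => rfl
  let j : M1 →ₗ[S2] M := Submodule.liftQ _ j0 (by
    rw [Submodule.span_le]
    rintro _ ⟨v, rfl⟩
    rw [SetLike.mem_coe, LinearMap.mem_ker, hj0, funext (hw v)]
    exact hq v)
  have hj : IsBaseChange S j := by
    let g : (Fin n → S) →ₗ[S] S ⊗[S2] M1 :=
      Fintype.linearCombination S fun i => (1 : S) ⊗ₜ[S2] Submodule.Quotient.mk (Pi.single i 1)
    have hg : ∀ x : Fin n → S2, g (fun i => algebraMap S2 S (x i)) = (1 : S) ⊗ₜ[S2] Submodule.Quotient.mk x := by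
      intro x
      have hx : x = ∑ i, x i • Pi.single i (1 : S2) := by
        funext i; simp [Finset.sum_apply, Pi.single_apply]
      conv_rhs => rw [hx]
      rw [Fintype.linearCombination_apply, ← Submodule.mkQ_apply, map_sum, TensorProduct.tmul_sum]
      refine Finset.sum_congr rfl fun i _ => ?_
      rw [map_smul]
      exact (algebraMap_smul S (x i) _).trans (TensorProduct.tmul_smul (x i) (1 : S) _).symm
    have hgK : K ≤ LinearMap.ker g := by
      rw [← ht, Submodule.span_le]
      intro v hv
      have ev : g (fun i => algebraMap S2 S (w ⟨v, hv⟩ i)) = g v := congrArg g (funext (hw ⟨v, hv⟩))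
      rw [SetLike.mem_coe, LinearMap.mem_ker, ← ev, hg,
        (Submodule.Quotient.mk_eq_zero _).2 (Submodule.subset_span (Set.mem_range_self _)), TensorProduct.tmul_zero]
    let G : M →ₗ[S] S ⊗[S2] M1 := K.liftQ g hgK ∘ₗ eM.toLinearMap
    have hG : ∀ x, G (q x) = g x := fun x => by simp [G, q]
    let Φ : S ⊗[S2] M1 →ₗ[S] M := LinearMap.liftBaseChange S j
    have hΦ : ∀ x : Fin n → S2, Φ ((1 : S) ⊗ₜ[S2] Submodule.Quotient.mk x) = j0 x := fun x => by
      simp [Φ, j]; rfl
    refine IsBaseChange.of_equiv (LinearEquiv.ofLinearMap Φ G ?_ ?_) fun x => ?_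
    · ext m
      obtain ⟨x, rfl⟩ : ∃ x, q x = m := by
        obtain ⟨x, hx⟩ := K.mkQ_surjective (eM m)
        exact ⟨x, by simp only [q, LinearMap.comp_apply, hx]; simp⟩
      rw [LinearMap.comp_apply, hG, LinearMap.id_apply]
      have hx : x = ∑ i, x i • Pi.single i (1 : S) := by
        funext i; simp [Finset.sum_apply, Pi.single_apply]
      conv_rhs => rw [hx]
      rw [Fintype.linearCombination_apply, map_sum, map_sum]
      refine Finset.sum_congr rfl fun i _ => ?_
      rw [map_smul, map_smul, hΦ, hj0]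
      congr 1
      congr 1
      funext k
      simp [Pi.single_apply, apply_ite (algebraMap S2 S)]
    · refine LinearMap.ext fun m => ?_
      induction m using TensorProduct.induction_on with
      | zero => simp only [map_zero]
      | add a b ha hb => rw [map_add, map_add, ha, hb]
      | tmul s y =>
        obtain ⟨x, rfl⟩ := Submodule.Quotient.mk_surjective _ y
        rw [show s ⊗ₜ[S2] (Submodule.Quotient.mk x : M1) = s • ((1 : S) ⊗ₜ[S2] (Submodule.Quotient.mk x : M1)) by
          rw [TensorProduct.smul_tmul', smul_eq_mul, mul_one]]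
        rw [map_smul, map_smul, LinearMap.comp_apply, hΦ, hj0, hG, hg, LinearMap.id_apply]
    · show LinearMap.liftBaseChange S j ((1 : S) ⊗ₜ[S2] x) = j x
      simp
  exact ⟨M1, inferInstance, inferInstance, j, inferInstance, hj⟩

set_option maxHeartbeats 1000000 in

/-- Let R → S be of finite presentation and M a finitely presented S-module which is flat over R. Then
the triple descends to a finite type ℤ-algebra: there are R₀ of finite type over ℤ with R₀ → R, a
finite type R₀-algebra S₀ with a compatible map S₀ → S making S the base change R ⊗_{R₀} S₀, and a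
finite S₀-module M₀ flat over R₀ with an S₀-linear map M₀ → M making M the base change S ⊗_{S₀} M₀. -/
theorem result (R : Type u) [CommRing R]
    (S : Type u) [CommRing S] [Algebra R S] [Algebra.FinitePresentation R S] (M : Type u)
    [AddCommGroup M] [Module S M] [Module R M] [IsScalarTower R S M]
    [Module.FinitePresentation S M] [Module.Flat R M] :
    ∃ (R₀ : Type u) (_ : CommRing R₀) (_ : Algebra R₀ R) (S₀ : Type u) (_ : CommRing S₀)
      (_ : Algebra R₀ S₀) (_ : Algebra S₀ S) (_ : Algebra R₀ S) (_ : IsScalarTower R₀ R S)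
      (_ : IsScalarTower R₀ S₀ S) (M₀ : Type u) (_ : AddCommGroup M₀) (_ : Module S₀ M₀)
      (_ : Module R₀ M₀) (_ : IsScalarTower R₀ S₀ M₀) (_ : Module S₀ M) (_ : IsScalarTower S₀ S M)
      (f : M₀ →ₗ[S₀] M),
      Algebra.FiniteType ℤ R₀ ∧ Algebra.FiniteType R₀ S₀ ∧ Module.Finite S₀ M₀ ∧ Module.Flat R₀ M₀ ∧
        Algebra.IsPushout R₀ R S₀ S ∧ IsBaseChange S f := by
  classical
  obtain ⟨R1, S1, _, _, _, _, hR1, hS1, ⟨e⟩⟩ := Groth.Agent.FlatH4.exists_approx R S
  letI : Algebra S1 S := (e.toRingEquiv.toRingHom.comp Algebra.TensorProduct.includeRight.toRingHom).toAlgebra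
  letI : Algebra R1 S := ((algebraMap R S).comp (algebraMap R1 R)).toAlgebra
  haveI : IsScalarTower R1 R S := IsScalarTower.of_algebraMap_eq fun _ => rfl
  haveI : IsScalarTower R1 S1 S := IsScalarTower.of_algebraMap_eq fun r => by
    show algebraMap R S (algebraMap R1 R r) = e (Algebra.TensorProduct.includeRight (algebraMap R1 S1 r))
    rw [← e.commutes, AlgHom.commutes, Algebra.TensorProduct.algebraMap_apply, Algebra.algebraMap_self_apply]
    rfl
  haveI : Algebra.IsPushout R1 R S1 S := ⟨IsBaseChange.of_equiv e.toLinearEquiv fun x => rfl⟩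
  -- presentation of the module
  obtain ⟨n, K, eM, hK⟩ := Module.FinitePresentation.exists_fin S M
  obtain ⟨t, ht⟩ := hK
  obtain ⟨B, hBfg, hB⟩ := exists_stage R1 R S1 S (t.biUnion fun v => Finset.univ.image v)
  obtain ⟨S2, _, _, _, _, _, _, _, _, _, -, hpush, hft2, hrange⟩ := exists_stage_algebra R1 B R S1 S
  have hw : ∀ v : t, ∃ w : Fin n → S2, ∀ i, algebraMap S2 S (w i) = v.1 i := fun v => by
    choose w hw using fun i => hrange _ <| hB (v.1 i) (Finset.mem_biUnion.2 ⟨v.1, v.2, Finset.mem_image_of_mem _ (Finset.mem_univ i)⟩)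
    exact ⟨w, hw⟩
  choose w hw using hw
  letI : Module S2 M := Module.compHom M (algebraMap S2 S)
  haveI : IsScalarTower S2 S M := IsScalarTower.of_algebraMap_smul fun _ _ => rfl
  obtain ⟨M1, _, _, j, hM1, hj⟩ := exists_module_model (S2 := S2) K eM t ht w hw
  letI : Module B M1 := Module.compHom M1 (algebraMap B S2)
  haveI : IsScalarTower B S2 M1 := ⟨fun b s m => by
    show (b • s) • m = algebraMap B S2 b • (s • m)
    rw [smul_smul, Algebra.smul_def]⟩
  -- flatness over R, and descent
  haveI : IsNoetherianRing R1 := Algebra.FiniteType.isNoetherianRing ℤ R1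
  haveI : Algebra.FiniteType R1 B := (Subalgebra.fg_iff_finiteType B).1 hBfg
  haveI : IsNoetherianRing B := Algebra.FiniteType.isNoetherianRing R1 B
  haveI : Module.Flat R (R ⊗[B] M1) :=
    Module.Flat.of_linearEquiv (((Algebra.IsPushout.cancelBaseChange B R S2 S M1).symm ≪≫ₗ (hj.equiv.restrictScalars R)))
  obtain ⟨B₀, hB₀, hflat⟩ := Groth.Agent.FlatH4.exists_subalgebra_flat B R S2 M1
  obtain ⟨S0, _, _, _, _, _, _, _, _, _, hpush1, hpush0, hft0, -⟩ := exists_stage_algebra B B₀ R S2 S
  letI : Module S0 M := Module.compHom M (algebraMap S0 S)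
  haveI : IsScalarTower S0 S M := IsScalarTower.of_algebraMap_smul fun _ _ => rfl
  haveI : IsScalarTower S2 S0 M := IsScalarTower.of_algebraMap_smul fun a m => by
    rw [← algebraMap_smul S (algebraMap S2 S0 a) m, ← IsScalarTower.algebraMap_apply, algebraMap_smul]
  haveI hft : Algebra.FiniteType ℤ B₀ := by
    haveI : Algebra.FiniteType B B₀ := (Subalgebra.fg_iff_finiteType B₀).1 hB₀
    haveI : Algebra.FiniteType ℤ B := Algebra.FiniteType.trans hR1 ‹Algebra.FiniteType R1 B›
    exact Algebra.FiniteType.trans ‹Algebra.FiniteType ℤ B› ‹Algebra.FiniteType B B₀›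
  haveI : Module.Flat B₀ (S0 ⊗[S2] M1) := by
    haveI := hflat B₀ le_rfl hB₀
    exact Module.Flat.of_linearEquiv (Algebra.IsPushout.cancelBaseChange B B₀ S2 S0 M1)
  refine ⟨B₀, inferInstance, inferInstance, S0, inferInstance, inferInstance, inferInstance, inferInstance,
    inferInstance, inferInstance, S0 ⊗[S2] M1, inferInstance, inferInstance, inferInstance, inferInstance,
    inferInstance, inferInstance, LinearMap.liftBaseChange S0 j, hft, inferInstance, inferInstance,
    inferInstance, hpush0, ?_⟩
  refine IsBaseChange.of_comp (TensorProduct.isBaseChange S2 M1 S0) ?_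
  convert hj
  ext x
  simp

end Groth.Agent.S9456
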