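import Groth.Statements.S9457
import Mathlib

set_option autoImplicit false
universe u
open CAlg

namespace Groth.Agent.S9457
open CAlg

open TensorProduct

section Crit

variable {R : Type u} [CommRing R] {S : Type u} [CommRing S] [Algebra R S]

/-- A point of the fibre that is isolated in it. -/
def Iso' {X : Type*} [Preorder X] (x : X) : Prop := IsMax x ∧ IsMin x

lemma iso'_map {X Y : Type*} [Preorder X] [Preorder Y] (e : X ≃o Y) (x : X) :
    Iso' (e x) ↔ Iso' x := by
  simp only [Iso', e.isMax_apply, e.isMin_apply]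

lemma crit [Algebra.FiniteType R S] (p : Ideal R) [p.IsPrime] (q : p.primesOver S) :
    @Algebra.QuasiFiniteAt R S _ _ _ q.1 q.2.1 ↔ Iso' q := by
  obtain ⟨q, hq, hqp⟩ := q
  obtain rfl := hqp.over
  let x : PrimeSpectrum S := ⟨q, hq⟩
  let p' : PrimeSpectrum R := x.comap (algebraMap R S)
  refine (Algebra.quasiFiniteAt_iff_isOpen_singleton_fiber x).trans ?_
  let e := PrimeSpectrum.preimageHomeomorphFiber R S p'
  rw [← e.isOpen_image, Set.image_singleton]
  have : IsNoetherianRing (p'.asIdeal.Fiber S) :=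
    Algebra.FiniteType.isNoetherianRing p'.asIdeal.ResidueField _
  have : IsJacobsonRing (p'.asIdeal.Fiber S) :=
    isJacobsonRing_of_finiteType (A := p'.asIdeal.ResidueField)
  rw [(PrimeSpectrum.isOpen_singleton_tfae_of_isNoetherian_of_isJacobsonRing _).out 0 2 rfl rfl,
    PrimeSpectrum.isClosed_singleton_iff_isMaximal, ← PrimeSpectrum.isMax_iff,
    PrimeSpectrum.stableUnderGeneralization_singleton]
  show _ ↔ Iso' (_ : (q.under R).primesOver S)
  rw [← iso'_map (PrimeSpectrum.primesOverOrderIsoFiber R S (q.under R))]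
  unfold Iso'
  refine and_congr Iff.rfl ?_
  simp only [← PrimeSpectrum.isMin_iff]
  exact Iff.rfl

lemma finite_iso' [Algebra.FiniteType R S] (p : Ideal R) [p.IsPrime] :
    {q : p.primesOver S | Iso' q}.Finite := by
  let o := PrimeSpectrum.primesOverOrderIsoFiber R S p
  have : IsNoetherianRing (p.Fiber S) := Algebra.FiniteType.isNoetherianRing p.ResidueField _
  refine Set.Finite.subset ((PrimeSpectrum.finite_setOfPred_isMin (p.Fiber S)).preimage o.injective.injOn) ?_
  exact fun q hq => o.isMin_apply.2 hq.2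

/-- Points isolated in a clopen part of the fibre are isolated in the fibre. -/
lemma iso'_of_quotient (P : Ideal R) [P.IsPrime] (e : S) (he : IsIdempotentElem e)
    (r : P.primesOver (S ⧸ Ideal.span {e})) (s : P.primesOver S)
    (hs : s.1 = r.1.comap (Ideal.Quotient.mk _)) (hr : Iso' r) : Iso' s := by
  have hes : e ∈ s.1 := by
    rw [hs]
    simp [Ideal.Quotient.eq_zero_iff_mem.2 (Ideal.mem_span_singleton_self e)]
  have lift : ∀ t : P.primesOver S, e ∈ t.1 → ∃ r' : P.primesOver (S ⧸ Ideal.span {e}),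
      r'.1.comap (Ideal.Quotient.mk _) = t.1 := by
    intro t ht
    have hker : RingHom.ker (Ideal.Quotient.mk (Ideal.span {e})) ≤ t.1 := by
      simp [Ideal.span_le, ht]
    have := t.2.1
    have hc : (t.1.map (Ideal.Quotient.mk (Ideal.span {e}))).comap (Ideal.Quotient.mk _) = t.1 := by
      rw [Ideal.comap_map_of_surjective _ Ideal.Quotient.mk_surjective, ← RingHom.ker_eq_comap_bot,
        sup_eq_left]
      exact hker
    refine ⟨⟨t.1.map (Ideal.Quotient.mk _), Ideal.map_isPrime_of_surjective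
      Ideal.Quotient.mk_surjective hker, ⟨?_⟩⟩, hc⟩
    show P = Ideal.comap ((Ideal.Quotient.mk (Ideal.span {e})).comp (algebraMap R S)) _
    rw [← Ideal.comap_comap, hc]
    exact t.2.2.over
  constructor
  · intro t hst
    obtain ⟨r', hr'⟩ := lift t (hst hes)
    have : r ≤ r' := by
      show r.1 ≤ r'.1
      refine (Ideal.comap_le_comap_iff_of_surjective _ Ideal.Quotient.mk_surjective _ _).1 ?_
      rw [← hs, hr']
      exact hst
    have := hr.1 this
    show t.1 ≤ s.1
    rw [hs, ← hr']
    exact Ideal.comap_mono this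
  · intro t hts
    have het : e ∈ t.1 := by
      refine (t.2.1.mem_or_mem (show e * (1 - e) ∈ t.1 by simp [mul_sub, he.eq])).resolve_right ?_
      intro h
      exact s.2.1.ne_top ((Ideal.eq_top_iff_one _).2 (by simpa using add_mem hes (hts h)))
    obtain ⟨r', hr'⟩ := lift t het
    have : r' ≤ r := by
      show r'.1 ≤ r.1
      refine (Ideal.comap_le_comap_iff_of_surjective _ Ideal.Quotient.mk_surjective _ _).1 ?_
      rw [← hs, hr']
      exact hts
    have := hr.2 this
    show s.1 ≤ t.1
    rw [hs, ← hr']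
    exact Ideal.comap_mono this

lemma exu_congr {X Y : Type*} (e : X ≃ Y) (h : ∃! _y : Y, True) : ∃! _x : X, True := by
  obtain ⟨y, -, hy⟩ := h
  exact ⟨e.symm y, trivial, fun x _ => e.eq_symm_apply.2 (hy _ trivial)⟩

end Crit

section Decomp

lemma prod_iso {R T : Type u} [CommRing R] [CommRing T] [Algebra R T] (e : T)
    (he : IsIdempotentElem e) :
    Nonempty (T ≃ₐ[R] (T ⧸ Ideal.span {1 - e}) × (T ⧸ Ideal.span {e})) := by
  refine ⟨AlgEquiv.ofBijective
    (AlgHom.prod (Ideal.Quotient.mkₐ R _) (Ideal.Quotient.mkₐ R _)) ⟨?_, ?_⟩⟩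
  · rw [injective_iff_map_eq_zero]
    intro x hx
    simp only [AlgHom.prod_apply, Prod.mk_eq_zero, Ideal.Quotient.mkₐ_eq_mk,
      Ideal.Quotient.eq_zero_iff_mem, Ideal.mem_span_singleton] at hx
    obtain ⟨⟨a, ha⟩, b, hb⟩ := hx
    have h0 : e * (1 - e) = 0 := by simp [mul_sub, he.eq]
    have h1 : x * e = 0 := by rw [ha]; linear_combination a * h0
    have h2 : x * (1 - e) = 0 := by rw [hb]; linear_combination b * h0
    linear_combination h1 + h2
  · rintro ⟨a, b⟩
    obtain ⟨a, rfl⟩ := Ideal.Quotient.mk_surjective a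
    obtain ⟨b, rfl⟩ := Ideal.Quotient.mk_surjective b
    refine ⟨a * e + b * (1 - e), ?_⟩
    simp only [AlgHom.prod_apply, Ideal.Quotient.mkₐ_eq_mk, Prod.mk.injEq, Ideal.Quotient.eq,
      Ideal.mem_span_singleton]
    exact ⟨⟨b - a, by ring⟩, ⟨a - b, by ring⟩⟩

/-- A piece: finite with exactly one prime over `P`. -/
def Piece {R : Type u} [CommRing R] (P : Ideal R) (A : Type u) [CommRing A] [Algebra R A] : Prop :=
  Module.Finite R A ∧ ∃! _r : P.primesOver A, True

/-- The decomposition over a given étale neighbourhood. -/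
def Split {R : Type u} [CommRing R] (P : Ideal R) (T : Type u) [CommRing T] [Algebra R T] : Prop :=
  ∃ (n : ℕ) (A : Fin n → Type u) (_ : ∀ i, CommRing (A i)) (_ : ∀ i, Algebra R (A i))
    (B : Type u) (_ : CommRing B) (_ : Algebra R B),
    Nonempty (T ≃ₐ[R] ((∀ i, A i) × B)) ∧ (∀ i, Piece P (A i)) ∧
      ∀ (q : Ideal B) [q.IsPrime], q.comap (algebraMap R B) = P → ¬ Algebra.QuasiFiniteAt R q

/-- The family of types `A0, A 0, …, A (n-1)`. -/
abbrev ConsT {n : ℕ} (A0 : Type u) (A : Fin n → Type u) : Fin (n + 1) → Type u :=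
  fun i => Fin.cases (motive := fun _ => Type u) A0 A i

/-- Their ring structures. -/
@[reducible] def consR {n : ℕ} (A0 : Type u) (A : Fin n → Type u) [i0 : CommRing A0]
    [iA : ∀ i, CommRing (A i)] : ∀ i, CommRing (ConsT A0 A i) :=
  fun i => Fin.cases (motive := fun i => CommRing (ConsT A0 A i)) i0 iA i

/-- Their algebra structures. -/
@[reducible] def consA {R : Type u} [CommRing R] {n : ℕ} (A0 : Type u) (A : Fin n → Type u)
    [i0 : CommRing A0] [iA : ∀ i, CommRing (A i)] [j0 : Algebra R A0]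
    [jA : ∀ i, Algebra R (A i)] : ∀ i, @Algebra R (ConsT A0 A i) _ (consR A0 A i).toSemiring :=
  fun i => Fin.cases (motive := fun i => @Algebra R (ConsT A0 A i) _ (consR A0 A i).toSemiring)
    j0 jA i

lemma Split.cons {R : Type u} [CommRing R] {P : Ideal R} {T A0 T1 : Type u} [CommRing T]
    [Algebra R T] [CommRing A0] [Algebra R A0] [CommRing T1] [Algebra R T1]
    (e : T ≃ₐ[R] A0 × T1) (h0 : Piece P A0) (h : Split P T1) : Split P T := by
  obtain ⟨n, A, _, _, B, _, _, ⟨f⟩, hA, hB⟩ := h
  let r' := consR A0 A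
  let a' := consA (R := R) A0 A
  let g : (A0 × ((∀ i, A i) × B)) ≃ₐ[R] (∀ i, ConsT A0 A i) × B :=
    { toFun := fun x => (fun i => Fin.cases (motive := ConsT A0 A) x.1 x.2.1 i, x.2.2)
      invFun := fun y => (y.1 0, (fun i => y.1 i.succ, y.2))
      left_inv := fun x => rfl
      right_inv := fun y => Prod.ext (funext fun i => Fin.cases rfl (fun j => rfl) i) rfl
      map_mul' := fun x y => Prod.ext (funext fun i => Fin.cases rfl (fun j => rfl) i) rfl
      map_add' := fun x y => Prod.ext (funext fun i => Fin.cases rfl (fun j => rfl) i) rfl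
      commutes' := fun r => Prod.ext (funext fun i => Fin.cases rfl (fun j => rfl) i) rfl }
  exact ⟨n + 1, ConsT A0 A, r', a', B, _, _,
    ⟨e.trans ((AlgEquiv.prodCongr AlgEquiv.refl f).trans g)⟩, fun i => Fin.cases h0 hA i, hB⟩

lemma split_of_forall_not {R : Type u} [CommRing R] {P : Ideal R} {T : Type u} [CommRing T]
    [Algebra R T] (h : ∀ (q : Ideal T) [q.IsPrime], q.comap (algebraMap R T) = P →
      ¬ Algebra.QuasiFiniteAt R q) : Split P T := by
  let A : Fin 0 → Type u := fun _ => PUnit
  refine ⟨0, A, inferInstance, fun i => i.elim0, T, _, _, ⟨?_⟩, fun i => i.elim0, h⟩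
  exact
    { toFun := fun x => (fun i => i.elim0, x)
      invFun := Prod.snd
      left_inv := fun x => rfl
      right_inv := fun x => Prod.ext (funext fun i => i.elim0) rfl
      map_mul' := fun x y => Prod.ext (funext fun i => i.elim0) rfl
      map_add' := fun x y => Prod.ext (funext fun i => i.elim0) rfl
      commutes' := fun x => Prod.ext (funext fun i => i.elim0) rfl }

end Decomp

lemma main (N : ℕ) : ∀ (R S : Type u) [CommRing R] [CommRing S] [Algebra R S]
    [Algebra.FiniteType R S] (p : Ideal R) [p.IsPrime],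
    {q : p.primesOver S | Iso' q}.ncard = N →
    ∃ (R' : Type u) (_ : CommRing R') (_ : Algebra R R') (_ : Algebra.Etale R R') (P : Ideal R')
      (_ : P.IsPrime) (_ : P.LiesOver p),
      Function.Bijective (Ideal.ResidueField.mapₐ p P (Algebra.ofId _ _) (P.over_def p)) ∧
        Split P (R' ⊗[R] S) := by
  induction N using Nat.strong_induction_on with
  | _ N IH =>
  intro R S _ _ _ _ p _ hN
  rcases Set.eq_empty_or_nonempty {q : p.primesOver S | Iso' q} with hE | ⟨⟨q, hq, hqp⟩, hiso⟩
  · refine ⟨R, inferInstance, inferInstance, inferInstance, p, inferInstance, ⟨rfl⟩, ?_,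
      split_of_forall_not fun Q _ hQ hqf => ?_⟩
    · rw! [Algebra.ofId_self, Ideal.ResidueField.mapₐ_id]; exact Function.bijective_id
    · let f : S ≃ₐ[R] R ⊗[R] S := (Algebra.TensorProduct.lid R S).symm
      have hc : (Q.comap f.toRingHom).LiesOver p := by
        constructor
        show p = Ideal.comap (algebraMap R S) (Q.comap f.toRingHom)
        rw [Ideal.comap_comap, ← hQ]
        congr 1
        exact (AlgHom.comp_algebraMap f.toAlgHom).symm
      have hqf' : Algebra.QuasiFiniteAt R (Q.comap f.toRingHom) :=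
        Algebra.QuasiFiniteAt.comap_algEquiv Q f
      have := (crit p ⟨_, inferInstance, hc⟩).1 hqf'
      exact hE.le this
  have : Algebra.QuasiFiniteAt R q := (crit p ⟨q, hq, hqp⟩).2 hiso
  obtain ⟨R', _, _, _, P, _, _, e, he, P', hP'prime, hP'over, hP'q, heP', hpP, hfin, H⟩ :=
    Algebra.exists_etale_isIdempotentElem_forall_liesOver_eq p q
  have hlt : {r : P.primesOver ((R' ⊗[R] S) ⧸ Ideal.span {e}) | Iso' r}.ncard < N := by
    let F := Ideal.fiberIsoOfBijectiveResidueField hpP (S := S)
    let c : P.primesOver ((R' ⊗[R] S) ⧸ Ideal.span {e}) → P.primesOver (R' ⊗[R] S) := fun r =>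
      ⟨r.1.comap (Ideal.Quotient.mk _), r.2.1.comap _, ⟨by
        show P = Ideal.comap (algebraMap R' _) _
        rw [Ideal.comap_comap]
        exact r.2.2.over⟩⟩
    have hc : Function.Injective c := fun a b hab => Subtype.ext
      (Ideal.comap_injective_of_surjective _ Ideal.Quotient.mk_surjective congr($(hab).1))
    rw [← hN, ← Set.ncard_image_of_injective _ (F.injective.comp hc)]
    refine Set.ncard_lt_ncard ?_ (finite_iso' p)
    rw [Set.ssubset_iff_of_subset]
    · refine ⟨⟨q, hq, hqp⟩, hiso, ?_⟩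
      rintro ⟨r, -, hr⟩
      have h1 : c r = ⟨P', hP'prime, hP'over⟩ := F.injective (hr.trans (Subtype.ext (by
        rw [Ideal.comap_fiberIsoOfBijectiveResidueField_apply]; exact hP'q.symm)))
      apply heP'
      have h2 : P' = r.1.comap (Ideal.Quotient.mk _) := congr($(h1).1).symm
      rw [h2]
      simp [Ideal.Quotient.eq_zero_iff_mem.2 (Ideal.mem_span_singleton_self e)]
    · rintro _ ⟨r, hr, rfl⟩
      exact (iso'_map F _).2 (iso'_of_quotient P e he r (c r) rfl hr)
  obtain ⟨R'', _, _, _, Q, _, _, hPQ, hsplit⟩ := IH _ hlt R' ((R' ⊗[R] S) ⧸ Ideal.span {e}) P rfl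
  let : Algebra R R'' := .compHom _ (algebraMap R R')
  have : IsScalarTower R R' R'' := .of_algebraMap_eq' rfl
  have : Q.LiesOver p := .trans _ P _
  have hpQ :
      Function.Bijective (Ideal.ResidueField.mapₐ p Q (Algebra.ofId _ _) (Q.over_def p)) := by
    convert hPQ.comp hpP
    rw [← @AlgHom.coe_restrictScalars' R R', ← AlgHom.coe_comp]; congr 1; ext
  refine ⟨R'', inferInstance, _, Algebra.Etale.comp R R' R'', Q, ‹_›, ‹_›, hpQ, ?_⟩
  obtain ⟨d⟩ := prod_iso (R := R') e he
  refine Split.cons (A0 := R'' ⊗[R'] ((R' ⊗[R] S) ⧸ Ideal.span {1 - e}))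
    (T1 := R'' ⊗[R'] ((R' ⊗[R] S) ⧸ Ideal.span {e})) ?_ ?_ hsplit
  · exact (Algebra.TensorProduct.cancelBaseChange R R' R'' R'' S).symm.trans
      ((Algebra.TensorProduct.congr AlgEquiv.refl d).trans
        (Algebra.TensorProduct.prodRight R' R'' R'' _ _))
  · have h0 : Module.Finite R' ((R' ⊗[R] S) ⧸ Ideal.span {1 - e}) := by
      have : IsLocalization.Away e ((R' ⊗[R] S) ⧸ Ideal.span {1 - e}) :=
        IsLocalization.away_of_isIdempotentElem he (by simp) Ideal.Quotient.mk_surjective
      exact Module.Finite.equiv ((IsLocalization.algEquiv (.powers e) (Localization.Away e)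
        ((R' ⊗[R] S) ⧸ Ideal.span {1 - e})).restrictScalars R').toLinearEquiv
    refine ⟨inferInstance, exu_congr (Ideal.fiberIsoOfBijectiveResidueField hPQ).toEquiv ?_⟩
    have hker : RingHom.ker (Ideal.Quotient.mk (Ideal.span {1 - e})) ≤ P' := by
      rw [Ideal.mk_ker, Ideal.span_le, Set.singleton_subset_iff]
      exact (hP'prime.mem_or_mem (show e * (1 - e) ∈ P' by simp [mul_sub, he.eq])).resolve_left heP'
    have hcm : (P'.map (Ideal.Quotient.mk (Ideal.span {1 - e}))).comap (Ideal.Quotient.mk _) =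
        P' := by
      rw [Ideal.comap_map_of_surjective _ Ideal.Quotient.mk_surjective, ← RingHom.ker_eq_comap_bot,
        sup_eq_left]
      exact hker
    refine ⟨⟨P'.map (Ideal.Quotient.mk _),
      Ideal.map_isPrime_of_surjective Ideal.Quotient.mk_surjective hker, ⟨?_⟩⟩, trivial, ?_⟩
    · show P = Ideal.comap ((Ideal.Quotient.mk (Ideal.span {1 - e})).comp (algebraMap R' _)) _
      rw [← Ideal.comap_comap, hcm]
      exact hP'over.over
    · rintro ⟨r, hr, hro⟩ -
      apply Subtype.ext
      refine Ideal.comap_injective_of_surjective _ Ideal.Quotient.mk_surjective ?_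
      show r.comap _ = (P'.map _).comap _
      rw [hcm]
      refine H _ (hr.comap _) ⟨?_⟩ ?_
      · show P = Ideal.comap (algebraMap R' _) _
        rw [Ideal.comap_comap]
        exact hro.over
      · intro h
        refine hr.ne_top ((Ideal.eq_top_iff_one _).2 ?_)
        have h1 : Ideal.Quotient.mk (Ideal.span {1 - e}) (1 - e) = 0 :=
          Ideal.Quotient.eq_zero_iff_mem.2 (Ideal.mem_span_singleton_self _)
        have h2 : Ideal.Quotient.mk (Ideal.span {1 - e}) e = 1 := by
          rw [map_sub, map_one, sub_eq_zero] at h1; exact h1.symm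
        simpa [h2] using h

open TensorProduct in
/-- For a finite type ring map R → S and a prime p of R there are an étale R-algebra R', a prime p' of
R' over p with trivial residue field extension κ(p) = κ(p') (the image of R generates κ(p') as a
field), and a decomposition R' ⊗_R S ≅ A_1 × ⋯ × A_n × B of R'-algebras in which every A_i is finite
over R' with exactly one prime lying over p' and R' → B is quasi-finite at no prime of B lying over
p'. -/
theorem result (R : Type u) [CommRing R]
    (S : Type u) [CommRing S] [Algebra R S] [Algebra.FiniteType R S] (p : Ideal R) [p.IsPrime] :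
    ∃ (R' : Type u) (_ : CommRing R') (_ : Algebra R R') (_ : Algebra.Etale R R') (p' : Ideal R')
      (_ : p'.IsPrime) (_ : p'.LiesOver p) (n : ℕ) (A : Fin n → Type u) (_ : ∀ i, CommRing (A i))
      (_ : ∀ i, Algebra R' (A i)) (B : Type u) (_ : CommRing B) (_ : Algebra R' B),
      Subfield.closure (Set.range (algebraMap R p'.ResidueField)) = ⊤ ∧
      Nonempty ((R' ⊗[R] S) ≃ₐ[R'] ((∀ i, A i) × B)) ∧
        (∀ i, Module.Finite R' (A i) ∧
          ∃! r : Ideal (A i), r.IsPrime ∧ r.comap (algebraMap R' (A i)) = p') ∧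
        ∀ (q : Ideal B) [q.IsPrime], q.comap (algebraMap R' B) = p' →
          ¬ Algebra.QuasiFiniteAt R' q := by
  obtain ⟨R', _, _, hetale, P, hP, hPp, hbij, n, A, _, _, B, _, _, hiso, hA, hB⟩ :=
    main _ R S p rfl
  refine ⟨R', _, _, hetale, P, hP, hPp, n, A, inferInstance, inferInstance, B, _, _, ?_, hiso,
    fun i => ⟨(hA i).1, ?_⟩, hB⟩
  · rw [eq_top_iff]
    intro x _
    obtain ⟨y, rfl⟩ := hbij.2 x
    obtain ⟨a, b, -, rfl⟩ := IsFractionRing.div_surjective (R ⧸ p) y
    obtain ⟨a, rfl⟩ := Ideal.Quotient.mk_surjective a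
    obtain ⟨b, rfl⟩ := Ideal.Quotient.mk_surjective b
    rw [map_div₀]
    refine div_mem (Subfield.subset_closure ⟨a, ?_⟩) (Subfield.subset_closure ⟨b, ?_⟩)
    · rw [show algebraMap (R ⧸ p) p.ResidueField (Ideal.Quotient.mk p a) =
        algebraMap R p.ResidueField a from rfl, AlgHom.commutes]
    · rw [show algebraMap (R ⧸ p) p.ResidueField (Ideal.Quotient.mk p b) =
        algebraMap R p.ResidueField b from rfl, AlgHom.commutes]
  · obtain ⟨⟨r, hr, hro⟩, -, huniq⟩ := (hA i).2
    exact ⟨r, ⟨hr, hro.over.symm⟩, fun s ⟨hs, hsP⟩ =>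
      congr($(huniq ⟨s, hs, ⟨hsP.symm⟩⟩ trivial).1)⟩

end Groth.Agent.S9457
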