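import Groth.Statements.S9462
import Mathlib
import Groth.Agent.Lib.Hens.EtaleLift

set_option autoImplicit false
universe u
open CAlg

namespace Groth.Agent.S9462

open TensorProduct in

open TensorProduct in
/-- Consider surjections A' → A and B' → B with square-zero kernels I and J and a commutative square A'
→ B', A → B. If A → B is étale and J = I ⊗_A B — that is, J = IB' and the multiplication map B'
⊗_{A'} I → B' is injective — then A' → B' is étale. -/
theorem result (A' : Type u) [CommRing A'] (A : Type u) [CommRing A]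
    [Algebra A' A] (hA : Function.Surjective (algebraMap A' A))
    (hI : RingHom.ker (algebraMap A' A) ^ 2 = ⊥)
    (B' : Type u) [CommRing B'] [Algebra A' B'] (B : Type u) [CommRing B] [Algebra B' B]
    [Algebra A B] [Algebra A' B] [IsScalarTower A' A B] [IsScalarTower A' B' B]
    (hB : Function.Surjective (algebraMap B' B)) (hJ : RingHom.ker (algebraMap B' B) ^ 2 = ⊥)
    [Algebra.Etale A B]
    (hJI : RingHom.ker (algebraMap B' B) = (RingHom.ker (algebraMap A' A)).map (algebraMap A' B'))
    (hinj : Function.Injective ((RingHom.ker (algebraMap A' A)).subtype.baseChange B')) :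
    Algebra.Etale A' B' := by
  classical
  generalize hIdef : RingHom.ker (algebraMap A' A) = I at hI hJI hinj
  let e0 : (A' ⧸ I) ≃+* A :=
    (Ideal.quotEquivOfEq hIdef.symm).trans (RingHom.quotientKerEquivOfSurjective hA)
  have he0 : ∀ x : A', e0 (Ideal.Quotient.mk I x) = algebraMap A' A x := fun x => rfl
  letI : Algebra (A' ⧸ I) A := e0.toRingHom.toAlgebra
  haveI : IsScalarTower A' (A' ⧸ I) A := IsScalarTower.of_algebraMap_eq fun x => (he0 x).symm
  letI : Algebra (A' ⧸ I) B := ((algebraMap A B).comp e0.toRingHom).toAlgebra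
  haveI : IsScalarTower (A' ⧸ I) A B := IsScalarTower.of_algebraMap_eq' rfl
  haveI : IsScalarTower A' (A' ⧸ I) B := IsScalarTower.of_algebraMap_eq fun x => by
    show algebraMap A' B x = algebraMap A B (e0 (Ideal.Quotient.mk I x))
    rw [he0, ← IsScalarTower.algebraMap_apply]
  haveI : Algebra.Etale (A' ⧸ I) A :=
    Algebra.Etale.of_equiv (AlgEquiv.ofBijective (Algebra.ofId (A' ⧸ I) A) e0.bijective)
  haveI : Algebra.Etale (A' ⧸ I) B := Algebra.Etale.comp (A' ⧸ I) A B
  obtain ⟨E, _, _, _, φ, hφ, hker⟩ := Groth.Agent.Hens.exists_etale_lift A' I B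
  have hnil : IsNilpotent (RingHom.ker ((IsScalarTower.toAlgHom A' B' B) : B' →+* B)) := ⟨2, hJ⟩
  let f : E →ₐ[A'] B' := Algebra.FormallySmooth.liftOfSurjective φ (IsScalarTower.toAlgHom A' B' B) hB hnil
  have hf : ∀ e, algebraMap B' B (f e) = φ e :=
    fun e => Algebra.FormallySmooth.liftOfSurjective_apply φ (IsScalarTower.toAlgHom A' B' B) hB hnil e
  have hstep : ∀ b : B', b ∈ Set.range f ∨ True → ∃ e, b - f e ∈ I.map (algebraMap A' B') := by
    intro b _
    obtain ⟨e, he⟩ := hφ (algebraMap B' B b)
    exact ⟨e, by rw [← hJI, RingHom.mem_ker, map_sub, hf, he, sub_self]⟩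
  have hIB : ∀ x ∈ I.map (algebraMap A' B'), x ∈ f.range := by
    intro x hx
    refine Submodule.span_induction (p := fun x _ => x ∈ f.range) ?_ (zero_mem _)
      (fun _ _ _ _ => add_mem) ?_ hx
    · rintro _ ⟨i, _, rfl⟩; exact Subalgebra.algebraMap_mem _ i
    · intro b y hy hy'
      obtain ⟨e, he⟩ := hstep b (Or.inr trivial)
      rw [smul_eq_mul, show b * y = f e * y + (b - f e) * y by ring]
      have h0 : (b - f e) * y ∈ (⊥ : Ideal B') := by
        rw [← hJ, sq, hJI]; exact Ideal.mul_mem_mul he hy
      rw [Ideal.mem_bot.mp h0, add_zero]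
      exact mul_mem ⟨e, rfl⟩ hy'
  have hsurj : Function.Surjective f := by
    intro b
    obtain ⟨e, he⟩ := hstep b (Or.inr trivial)
    obtain ⟨e', he'⟩ := hIB _ he
    exact ⟨e + e', by rw [map_add, show f e' = b - f e from he']; ring⟩
  have hkerf : ∀ x, f x = 0 → x ∈ I.map (algebraMap A' E) := by
    intro x hx; rw [← hker, RingHom.mem_ker, ← hf, hx, map_zero]
  have hII : ∀ i : I, ∀ x ∈ I.map (algebraMap A' E), (i : A') • x = 0 := by
    intro i x hx
    have : algebraMap A' E i * x ∈ (⊥ : Ideal E) := by
      rw [← Ideal.map_bot (f := algebraMap A' E), ← hI, sq, Ideal.map_mul]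
      exact Ideal.mul_mem_mul (Ideal.mem_map_of_mem _ i.2) hx
    rw [Algebra.smul_def]; exact Ideal.mem_bot.mp this
  let q := f.toLinearMap.quotKerEquivOfSurjective hsurj
  let β : I →ₗ[A'] B' →ₗ[A'] E :=
    { toFun := fun i => (Submodule.liftQ _ ((LinearMap.lsmul A' E (i : A'))) (fun x hx => hII i x (hkerf x hx))) ∘ₗ q.symm.toLinearMap
      map_add' := fun i j => by
        ext b
        obtain ⟨z, rfl⟩ := q.surjective b
        obtain ⟨x, rfl⟩ := Submodule.mkQ_surjective _ z
        simp [add_smul] <;> rfl
      map_smul' := fun a i => by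
        ext b
        obtain ⟨z, rfl⟩ := q.surjective b
        obtain ⟨x, rfl⟩ := Submodule.mkQ_surjective _ z
        simp [mul_smul] <;> rfl }
  have hβ : ∀ (i : I) (x : E), β i (f x) = (i : A') • x := by
    intro i x
    have : q.symm (f x) = Submodule.Quotient.mk x := q.symm_apply_apply (Submodule.Quotient.mk x)
    simp [β, this] <;> rfl
  have hinj' : Function.Injective f := by
    rw [injective_iff_map_eq_zero]
    intro x hx
    have hxI : ∃ t : E ⊗[A'] I, TensorProduct.lift ((LinearMap.lsmul A' E).comp I.subtype).flip t = x := by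
      have h : x ∈ I • (⊤ : Submodule A' E) := by
        rw [Ideal.smul_top_eq_map]; exact hkerf x hx
      refine Submodule.smul_induction_on h (fun r hr n _ => ⟨n ⊗ₜ ⟨r, hr⟩, by simp⟩) ?_
      rintro _ _ ⟨s, rfl⟩ ⟨t, rfl⟩
      exact ⟨s + t, map_add _ _ _⟩
    obtain ⟨t, rfl⟩ := hxI
    have key : TensorProduct.map f.toLinearMap LinearMap.id t = 0 := by
      refine hinj ?_
      rw [map_zero]
      refine (TensorProduct.rid A' B').injective ?_
      rw [map_zero, ← hx]
      clear hx
      induction t using TensorProduct.induction_on with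
      | zero => simp
      | tmul e i => simp
      | add s t hs ht => simp only [map_add, hs, ht]
    have : ∀ t : E ⊗[A'] I, TensorProduct.lift β.flip (TensorProduct.map f.toLinearMap LinearMap.id t)
        = TensorProduct.lift ((LinearMap.lsmul A' E).comp I.subtype).flip t := by
      intro t
      induction t using TensorProduct.induction_on with
      | zero => simp
      | tmul e i => simp [hβ]
      | add s t hs ht => simp only [map_add, hs, ht]
    rw [← this t, key, map_zero]
  exact Algebra.Etale.of_equiv (AlgEquiv.ofBijective f ⟨hinj', hsurj⟩)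

end Groth.Agent.S9462
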