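import Groth.Statements.S9465
import Groth.Agent.Lib.Diff16.FormallyEtale

set_option autoImplicit false
universe u
open Diff16

namespace Groth.Agent.S9465

open TensorProduct in
/-- Let R → S → S' be ring maps with S → S' formally étale, M, N modules over S and D : M → N a
differential operator of order at most k relative to R → S. Then D has exactly one extension to a
differential operator D' : S' ⊗_S M → S' ⊗_S N of order at most k relative to R → S', i.e. with D'(1
⊗ m) = 1 ⊗ D(m). (The published statement forms the base change of M over R rather than over S; with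
that reading uniqueness already fails for R the rationals, S = S' a polynomial ring in one variable,
M = N = S, D the identity and k = 1, and the published proof computes with the base change over S,
which is what this row uses. The published statement first identifies the base change to S' of the
module of principal parts of order k of M with that of S' ⊗_S M over R; this row states the
consequence for differential operators.) -/
theorem result (R S S' : Type u) [CommRing R]
    [CommRing S] [CommRing S'] [Algebra R S] [Algebra R S'] [Algebra S S'] [IsScalarTower R S S']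
    [Algebra.FormallyEtale S S'] (M N : Type u) [AddCommGroup M] [Module S M] [Module R M]
    [IsScalarTower R S M] [AddCommGroup N] [Module S N] [Module R N] [IsScalarTower R S N]
    (k : ℕ) (D : M →ₗ[R] N) (hD : Diff16.IsDiffOpLE R S M N k D) :
    ∃! D' : S' ⊗[S] M →ₗ[R] S' ⊗[S] N,
      Diff16.IsDiffOpLE R S' (S' ⊗[S] M) (S' ⊗[S] N) k D' ∧
        D' ∘ₗ (TensorProduct.mk S S' M 1).restrictScalars R =
          (TensorProduct.mk S S' N 1).restrictScalars R ∘ₗ D := by
  have hb : IsBaseChange S' (TensorProduct.mk S S' M 1) := TensorProduct.isBaseChange S M S'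
  let D₀ : M →ₗ[R] S' ⊗[S] N := (TensorProduct.mk S S' N 1).restrictScalars R ∘ₗ D
  have hN : Diff16.IsDiffOpLE R S N (S' ⊗[S] N) 0 ((TensorProduct.mk S S' N 1).restrictScalars R) :=
    fun b m => (TensorProduct.mk S S' N 1).map_smul b m
  have hD₀ : Diff16.IsDiffOpLE R S M (S' ⊗[S] N) k D₀ := by
    simpa using Groth.Agent.DiffOps.comp hD hN
  obtain ⟨E, hE, hE'⟩ := Groth.Agent.DiffOps.exists_ext hb hD₀
  refine ⟨E, ⟨hE, LinearMap.ext fun m => hE' m⟩, fun E' ⟨hE₁, hE₂⟩ => ?_⟩
  have hneg : Diff16.IsDiffOpLE R S' (S' ⊗[S] M) (S' ⊗[S] N) k (E' + (-1 : S') • E) :=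
    Groth.Agent.DiffOps.add hE₁ (Groth.Agent.DiffOps.smulB (-1 : S') hE)
  have h0 := Groth.Agent.DiffOps.eq_zero_of_formallyUnramified hb hneg fun m => by
    have h₁ : E' (TensorProduct.mk S S' M 1 m) = D₀ m := LinearMap.congr_fun hE₂ m
    rw [LinearMap.add_apply, LinearMap.smul_apply, neg_one_smul, h₁, hE', add_neg_cancel]
  refine LinearMap.ext fun x => ?_
  have := LinearMap.congr_fun h0 x
  rwa [LinearMap.add_apply, LinearMap.smul_apply, neg_one_smul, LinearMap.zero_apply,
    ← sub_eq_add_neg, sub_eq_zero] at this

end Groth.Agent.S9465
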