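import Groth.Statements.S9474
import Groth.Agent.Lib.UnramModel1.Basic

set_option autoImplicit false
universe u
open CAlg

namespace Groth.Agent.S9474

open TensorProduct in
/-- If R → S is unramified (of finite type with vanishing module of differentials), then there are a
finite type ℤ-algebra R₀, an unramified R₀-algebra S₀, a ring map R₀ → R, and a surjective R-algebra
map from R ⊗_{R₀} S₀ onto S. -/
theorem result (R : Type u) [CommRing R] (S : Type u)
    [CommRing S] [Algebra R S] [Algebra.Unramified R S] :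
    ∃ (R₀ : Type u) (_ : CommRing R₀) (_ : Algebra.FiniteType ℤ R₀) (S₀ : Type u) (_ : CommRing S₀)
      (_ : Algebra R₀ S₀) (_ : Algebra.Unramified R₀ S₀) (_ : Algebra R₀ R)
      (ψ : R ⊗[R₀] S₀ →ₐ[R] S), Function.Surjective ψ := by
  obtain ⟨n, π, hπ⟩ := Algebra.FiniteType.iff_quotient_mvPolynomial''.1 (inferInstance : Algebra.FiniteType R S)
  obtain ⟨R₀, F₀, hfg, hfin, hu, ψ, hs, -⟩ := UnramModel1.exists_model R S π hπ ∅ (by simp)
  have hft : Algebra.FiniteType ℤ R₀ := by
    have := (Subalgebra.fg_iff_finiteType _).1 hfg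
    convert this
  haveI := hu
  have hU : Algebra.Unramified R₀ (MvPolynomial (Fin n) R₀ ⧸ Ideal.span F₀) := ⟨hu, inferInstance⟩
  exact ⟨R₀, inferInstance, hft, MvPolynomial (Fin n) R₀ ⧸ Ideal.span F₀, inferInstance, inferInstance, hU, inferInstance, ψ, hs⟩

end Groth.Agent.S9474
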