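import Groth.Statements.S9484
import Groth.Agent.Lib.FormalColim28.NearBij
import Groth.Agent.Lib.LocCoh.Change

set_option autoImplicit false
universe u
attribute [local instance] HasDerivedCategory.standard
open Pi1

set_option linter.style.haveILetI false

namespace Groth.Agent.S9484

open AlgebraicGeometry CategoryTheory CategoryTheory.Limits in
/-- Let A be a Noetherian local ring with maximal ideal m and a dualizing complex, f ∈ m with A complete
for the (f)-adic topology, U the punctured spectrum of A and U₀ that of A/fA (realised as U ×_{Spec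
A} Spec(A/fA)). Assume dim(A/p) ≥ 3 for every minimal prime p of A with f ∉ p. Then restriction to
U₀ from the system of open neighbourhoods of U₀ in U is fully faithful: for every open U' ⊆ U
through which U₀ ⟶ Spec A factors (as u') and finite etale covers V', W' of U': every morphism
between the restrictions of V' and W' along u' is, after shrinking U' to a smaller such open U''
(with U₀ ⟶ U'' ⟶ U' composing to u'), the restriction of a morphism over U'' (compared through the
canonical isomorphism between restricting along u' and restricting in two steps), and two morphisms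
V' ⟶ W' with the same restriction along u' agree over some such U''. -/
theorem result (A : Type u) [CommRing A] [IsNoetherianRing A] [IsLocalRing A] (f : A) (hf : f ∈ IsLocalRing.maximalIdeal A)
    (hd : ∃ ω : Dual.D A, Dual.IsDualizing A ω) [IsAdicComplete (Ideal.span {f}) A]
    (hc : ∀ p : Ideal A, p ∈ minimalPrimes A → f ∉ p → (3 : WithBot ℕ∞) ≤ ringKrullDim (A ⧸ p)) :
    ∀ (U' : (Spec (CommRingCat.of A)).Opens) (_ : U' ≤ (FEt.puncturedSpec A)) (u' : pullback (FEt.puncturedSpec A).ι (Spec.map (CommRingCat.ofHom (Ideal.Quotient.mk (Ideal.span {f})))) ⟶ (U' : Scheme.{u}))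
      (_ : u' ≫ U'.ι = (pullback.fst (FEt.puncturedSpec A).ι (Spec.map (CommRingCat.ofHom (Ideal.Quotient.mk (Ideal.span {f})))) ≫ (FEt.puncturedSpec A).ι)) (V' W' : FEt.Cat (U' : Scheme.{u})),
      (∀ φ₀ : (FEt.restrict u').obj V' ⟶ (FEt.restrict u').obj W',
        ∃ (U'' : (Spec (CommRingCat.of A)).Opens) (h : U'' ≤ U') (u'' : pullback (FEt.puncturedSpec A).ι (Spec.map (CommRingCat.ofHom (Ideal.Quotient.mk (Ideal.span {f})))) ⟶ (U'' : Scheme.{u}))
          (hu : u'' ≫ (Spec (CommRingCat.of A)).homOfLE h = u')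
          (φ : (FEt.restrict ((Spec (CommRingCat.of A)).homOfLE h)).obj V' ⟶ (FEt.restrict ((Spec (CommRingCat.of A)).homOfLE h)).obj W'),
          (FEt.restrict u'').map φ =
            (MorphismProperty.Over.pullbackComp u'' ((Spec (CommRingCat.of A)).homOfLE h) u' hu.symm).inv.app V' ≫ φ₀ ≫
              (MorphismProperty.Over.pullbackComp u'' ((Spec (CommRingCat.of A)).homOfLE h) u' hu.symm).hom.app W') ∧
      (∀ φ ψ : V' ⟶ W', (FEt.restrict u').map φ = (FEt.restrict u').map ψ →
        ∃ (U'' : (Spec (CommRingCat.of A)).Opens) (h : U'' ≤ U') (u'' : pullback (FEt.puncturedSpec A).ι (Spec.map (CommRingCat.ofHom (Ideal.Quotient.mk (Ideal.span {f})))) ⟶ (U'' : Scheme.{u})),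
          u'' ≫ (Spec (CommRingCat.of A)).homOfLE h = u' ∧
          (FEt.restrict ((Spec (CommRingCat.of A)).homOfLE h)).map φ = (FEt.restrict ((Spec (CommRingCat.of A)).homOfLE h)).map ψ) := by
  intro U' hU' u' hu' V' W'
  obtain ⟨n, x, hx⟩ := Groth.Agent.Pur25.exists_generators A
  have hU := Groth.Agent.Pur25.mem_puncturedSpec_iff hx
  have hI : Ideal.span {f} ≤ IsLocalRing.maximalIdeal A := (Ideal.span_singleton_le_iff_mem _).2 hf
  have hass : ∀ p ∈ associatedPrimes A (A ⧸ nilradical A), p ∈ minimalPrimes A := by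
    intro p hp
    obtain ⟨hpp, z, hz⟩ := isAssociatedPrime_iff.1 hp
    obtain ⟨z, rfl⟩ := Submodule.Quotient.mk_surjective _ z
    have hmem : ∀ c : A, c ∈ p ↔ c * z ∈ nilradical A := fun c => by
      rw [hz, Submodule.mem_colon_singleton, Submodule.mem_bot, ← Submodule.Quotient.mk_smul,
        Submodule.Quotient.mk_eq_zero, smul_eq_mul]
    have hzN : z ∉ nilradical A := fun h => hpp.ne_top ((Ideal.eq_top_iff_one p).2 ((hmem 1).2 (by rwa [one_mul])))
    obtain ⟨P, hP, hzP⟩ : ∃ P : Ideal A, P.IsPrime ∧ z ∉ P := by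
      rw [nilradical_eq_sInf, Submodule.mem_sInf] at hzN
      push Not at hzN
      exact hzN
    haveI := hP
    obtain ⟨Q, hQ, hQP⟩ := Ideal.exists_minimalPrimes_le (I := (⊥ : Ideal A)) (J := P) bot_le
    have hle : p ≤ Q := fun c hc => by
      haveI := hQ.1.1
      have hcz : c * z ∈ Q := nilradical_le_prime Q ((hmem c).1 hc)
      exact (hQ.1.1.mem_or_mem hcz).resolve_right fun h => hzP (hQP h)
    rw [le_antisymm hle (hQ.2 ⟨hpp, bot_le⟩ hle)]
    exact hQ
  have hbij : Groth.Agent.FormalColim28.Bij (Ideal.span {f}) (IsLocalRing.maximalIdeal A) (A ⧸ nilradical A) :=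
    Groth.Agent.FormalColim28.formalCohColimBijective hI hd 1
      (Groth.Agent.LocCohLib.cdLE_span_singleton f) _ fun p hp _ hfp _ q hq hpq hmq => by
        haveI := hq
        have hpP : p.IsPrime := IsAssociatedPrime.isPrime hp
        have h3 := hc p (hass p hp) fun h => hfp ((Ideal.span_singleton_le_iff_mem _).2 h)
        obtain rfl : q = IsLocalRing.maximalIdeal A := (IsLocalRing.le_maximalIdeal hq.ne_top).antisymm hmq
        rw [ringKrullDim_quotient] at h3
        let P : PrimeSpectrum A := ⟨p, hpP⟩
        let Q : PrimeSpectrum A := ⟨IsLocalRing.maximalIdeal A, hq⟩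
        let e : PrimeSpectrum.zeroLocus (p : Set A) ≃o Set.Icc P Q :=
          { toFun := fun r => ⟨r.1, r.2, IsLocalRing.le_maximalIdeal r.1.isPrime.ne_top⟩
            invFun := fun r => ⟨r.1, r.2.1⟩
            left_inv := fun _ => rfl
            right_inv := fun _ => rfl
            map_rel_iff' := Iff.rfl }
        rw [← Groth.Agent.Bootstrap27.krullDim_Icc_eq_dimBetween P Q, ← Order.krullDim_eq_of_orderIso e]
        exact lt_of_lt_of_le (by norm_num) h3
  have hs := (Groth.Agent.FormalCohH7.formalCohColimBijective_iff (Ideal.span {f}) (A ⧸ nilradical A) _).1 hbij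
  exact Groth.Agent.FormalColim28.fullFaithful_nhds_red hU le_rfl
    (fun q ht hq => Groth.Agent.FormalColim28.nearR_of_surj hx hs.2 q ht hq) hU' u' hu' V' W'

end Groth.Agent.S9484
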