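import Groth.Statements.S9485
import Groth.Agent.Lib.FEtEq25.Points

set_option autoImplicit false
universe u
open Pi1

namespace Groth.Agent.S9485

open AlgebraicGeometry CategoryTheory CategoryTheory.Limits in
/-- Let A be a Noetherian local ring with maximal ideal m and f ∈ m, U the punctured spectrum of A and
U₀ that of A/fA (realised as U ×_{Spec A} Spec(A/fA)). Let U' ⊆ U be an open through which U₀ ⟶ Spec
A factors (as u'). If dim(A/p) ≥ 2 for every minimal prime p of A which lies in U' and does not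
contain f, then restriction of finite etale covers along u' is faithful. (Such U' exist, e.g. the
complement in U of the one-dimensional irreducible components not meeting U₀, and the condition
passes to smaller such opens, so restriction from the system of these opens is faithful.) -/
theorem result (A : Type u) [CommRing A] [IsNoetherianRing A] [IsLocalRing A] (f : A) (hf : f ∈ IsLocalRing.maximalIdeal A)
    (U' : (Spec (CommRingCat.of A)).Opens) (hU' : U' ≤ FEt.puncturedSpec A)
    (u' : pullback (FEt.puncturedSpec A).ι (Spec.map (CommRingCat.ofHom (Ideal.Quotient.mk (Ideal.span {f})))) ⟶ (U' : Scheme.{u})) (hu' : u' ≫ U'.ι = (pullback.fst (FEt.puncturedSpec A).ι (Spec.map (CommRingCat.ofHom (Ideal.Quotient.mk (Ideal.span {f})))) ≫ (FEt.puncturedSpec A).ι))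
    (hdim : ∀ p : PrimeSpectrum A, p.asIdeal ∈ minimalPrimes A → p ∈ U' → f ∉ p.asIdeal →
      (2 : WithBot ℕ∞) ≤ ringKrullDim (A ⧸ p.asIdeal)) :
    (FEt.restrict u').Faithful := by
  refine FEtEq25.faithful_restrict u' fun S hS hne => ?_
  obtain ⟨x, hx⟩ := hne
  obtain ⟨P, hP, hPx⟩ := Ideal.exists_minimalPrimes_le (I := (⊥ : Ideal A)) (J := x.1.asIdeal) bot_le
  haveI := hP.1.1
  let p : PrimeSpectrum A := ⟨P, inferInstance⟩
  have hpx : p ⤳ x.1 := (PrimeSpectrum.le_iff_specializes p x.1).1 hPx
  have hpU : p ∈ U' := hpx.mem_open U'.isOpen x.2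
  let pU : ↥(U' : Scheme.{u}) := ⟨p, hpU⟩
  have hpS : pU ∈ S := (Topology.IsInducing.subtypeVal.specializes_iff.1 (hpx : pU.1 ⤳ x.1)).mem_open hS.2 hx
  have key : ∀ q : ↥(U' : Scheme.{u}), q ∈ S → f ∈ q.1.asIdeal → (S ∩ Set.range u').Nonempty := by
    intro q hq hfq
    have h1 : q.1 ∈ Set.range (FEt.puncturedSpec A).ι := by
      rw [Scheme.Opens.range_ι]; exact hU' q.2
    have h2 : q.1 ∈ Set.range (Spec.map (CommRingCat.ofHom (Ideal.Quotient.mk (Ideal.span {f})))) := by
      show q.1 ∈ Set.range (PrimeSpectrum.comap (Ideal.Quotient.mk (Ideal.span {f})))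
      rw [range_comap_of_surjective _ _ Ideal.Quotient.mk_surjective, Ideal.mk_ker,
        PrimeSpectrum.zeroLocus_span]
      exact Set.singleton_subset_iff.2 hfq
    obtain ⟨a, ha⟩ := h1
    obtain ⟨b, hb⟩ := h2
    obtain ⟨z, hz1, -⟩ := Scheme.Pullback.exists_preimage_pullback a b (ha.trans hb.symm)
    have hzq : u' z = q := by
      refine (U'.ι.isOpenEmbedding.injective ?_)
      refine ((congrArg (fun g : _ ⟶ Spec (CommRingCat.of A) => g z) hu').trans ?_)
      show (FEt.puncturedSpec A).ι (pullback.fst (FEt.puncturedSpec A).ι _ z) = q.1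
      rw [hz1, ha]
    exact ⟨q, hq, z, hzq⟩
  by_cases hfp : f ∈ P
  · exact key pU hpS hfp
  · have hd := hdim p hP hpU hfp
    haveI : Nontrivial (A ⧸ P) := Ideal.Quotient.nontrivial_iff.2 (Ideal.IsPrime.ne_top inferInstance)
    haveI : IsLocalHom (Ideal.Quotient.mk P) := IsLocalHom.of_surjective _ Ideal.Quotient.mk_surjective
    haveI : IsLocalRing (A ⧸ P) := IsLocalRing.of_surjective' (Ideal.Quotient.mk P) Ideal.Quotient.mk_surjective
    have hfm : Ideal.Quotient.mk P f ∈ IsLocalRing.maximalIdeal (A ⧸ P) :=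
      map_nonunit (Ideal.Quotient.mk P) f hf
    obtain ⟨Q, hQ, hQle⟩ := Ideal.exists_minimalPrimes_le (I := Ideal.span {Ideal.Quotient.mk P f})
      (J := IsLocalRing.maximalIdeal (A ⧸ P)) ((Ideal.span_singleton_le_iff_mem _).2 hfm)
    haveI := hQ.1.1
    have hQh : Q.height ≤ 1 := Ideal.height_le_one_of_isPrincipal_of_mem_minimalPrimes _ Q hQ
    have hne' : Q ≠ IsLocalRing.maximalIdeal (A ⧸ P) := by
      intro e
      rw [e, ← WithBot.coe_le_coe, IsLocalRing.maximalIdeal_height_eq_ringKrullDim] at hQh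
      exact absurd (hd.trans hQh) (by decide)
    let q : PrimeSpectrum A := ⟨Q.comap (Ideal.Quotient.mk P), inferInstance⟩
    have hfq : f ∈ q.asIdeal := hQ.1.2 (Ideal.mem_span_singleton_self _)
    have hqm : q ∈ FEt.puncturedSpec A := by
      intro e
      apply hne'
      refine Ideal.comap_injective_of_surjective _ Ideal.Quotient.mk_surjective ?_
      have e' : q.asIdeal = IsLocalRing.maximalIdeal A := congrArg PrimeSpectrum.asIdeal e
      refine e'.trans (IsLocalRing.maximalIdeal_comap _).symm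
    obtain ⟨a, ha⟩ : q ∈ Set.range (FEt.puncturedSpec A).ι := by rw [Scheme.Opens.range_ι]; exact hqm
    obtain ⟨b, hb⟩ : q ∈ Set.range (Spec.map (CommRingCat.ofHom (Ideal.Quotient.mk (Ideal.span {f})))) := by
      show q ∈ Set.range (PrimeSpectrum.comap (Ideal.Quotient.mk (Ideal.span {f})))
      rw [range_comap_of_surjective _ _ Ideal.Quotient.mk_surjective, Ideal.mk_ker,
        PrimeSpectrum.zeroLocus_span]
      exact Set.singleton_subset_iff.2 hfq
    obtain ⟨z, hz1, -⟩ := Scheme.Pullback.exists_preimage_pullback a b (ha.trans hb.symm)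
    have hzq : (u' z).1 = q := by
      refine ((congrArg (fun g : _ ⟶ Spec (CommRingCat.of A) => g z) hu').trans ?_)
      show (FEt.puncturedSpec A).ι (pullback.fst (FEt.puncturedSpec A).ι _ z) = q
      rw [hz1, ha]
    have hpq : pU.1 ⤳ (u' z).1 := by
      refine (show p ⤳ q from (PrimeSpectrum.le_iff_specializes p q).1 ?_).trans (specializes_of_eq hzq.symm)
      intro a ha
      show Ideal.Quotient.mk P a ∈ Q
      rw [Ideal.Quotient.eq_zero_iff_mem.2 ha]
      exact Q.zero_mem
    exact ⟨u' z, (Topology.IsInducing.subtypeVal.specializes_iff.1 hpq).mem_closed hS.1 hpS, z, rfl⟩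

end Groth.Agent.S9485
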