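import Groth.Statements.S9491
import Groth.Agent.Lib.UnrNorm25.Generic
-- import your own Groth.Agent.* helpers here

set_option autoImplicit false
universe u
open Pi1

namespace Groth.Agent.S9491

open AlgebraicGeometry CategoryTheory CategoryTheory.Limits in
/-- The essential image of restriction of finite etale covers from a normal integral scheme X to its
generic point Spec K consists of the finite etale K-schemes whose points are spectra of finite
extensions L of K in which X is unramified. Precisely: let L be a finite field extension of K and Y₀
the object Spec L → Spec K of the category of finite etale covers of Spec K; then Y₀ is isomorphic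
to the restriction of a finite etale cover of X if and only if the normalization of X in Spec L is
finite etale over X. (With full faithfulness of this restriction functor for normal X, this says
that the fundamental group of X is the Galois group of the union M of all finite subextensions of a
separable closure in which X is unramified.) -/
theorem result {X : Scheme.{u}} [IsIntegral X] (hX : Pi1.IsNormalScheme X)
    (L : Type u) [Field L] [Algebra X.functionField L] [FiniteDimensional X.functionField L]
    [QuasiCompact (Spec.map (CommRingCat.ofHom (algebraMap X.functionField L)) ≫ X.fromSpecStalk (genericPoint X))] [QuasiSeparated (Spec.map (CommRingCat.ofHom (algebraMap X.functionField L)) ≫ X.fromSpecStalk (genericPoint X))]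
    (Y₀ : FEt.Cat (Spec X.functionField)) (e : Y₀.left ≅ Spec (CommRingCat.of L))
    (he : e.hom ≫ Spec.map (CommRingCat.ofHom (algebraMap X.functionField L)) = Y₀.hom) :
    (FEt.restrict (X.fromSpecStalk (genericPoint X))).essImage Y₀ ↔
      (Etale (Spec.map (CommRingCat.ofHom (algebraMap X.functionField L)) ≫ X.fromSpecStalk (genericPoint X)).fromNormalization ∧ IsFinite (Spec.map (CommRingCat.ofHom (algebraMap X.functionField L)) ≫ X.fromSpecStalk (genericPoint X)).fromNormalization) := by
  let f := Groth.Agent.UnrNorm25.str (X := X) L
  let φ := Spec.map (CommRingCat.ofHom (algebraMap X.functionField L))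
  let i := X.fromSpecStalk (genericPoint X)
  constructor
  · rintro ⟨W, ⟨a⟩⟩
    let π : W.left ⟶ X := W.hom
    haveI : IsFinite π := W.prop.1
    haveI : Etale π := W.prop.2
    let al : pullback π i ≅ Y₀.left :=
      (MorphismProperty.Over.forget FEt.prop ⊤ _ ⋙ CategoryTheory.Over.forget _).mapIso a
    let c : pullback π i ≅ Spec (CommRingCat.of L) := al ≪≫ e
    have hc : c.hom ≫ φ = pullback.snd π i := by
      show (al.hom ≫ e.hom) ≫ φ = _
      rw [Category.assoc, he]
      exact CategoryTheory.Over.w ((MorphismProperty.Over.forget FEt.prop ⊤ _).map a.hom)
    let s : Spec (CommRingCat.of L) ⟶ W.left := c.inv ≫ pullback.fst π i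
    have hp : IsPullback s φ π i :=
      (IsPullback.of_hasPullback π i).of_iso c (Iso.refl _) (Iso.refl _) (Iso.refl _)
        (by simp [s]) (by simp [hc]) (by simp) (by simp)
    obtain ⟨hint, hgen⟩ := Groth.Agent.UnrNorm25.isIntegral_of_isPullback L hX π s hp
    haveI : IsIntegral W.left := hint
    haveI := Groth.Agent.UnrNorm25.isIso_normalizationDesc L
      (Groth.Agent.Disc25.isNormalScheme_of_finite_etale π hX) π s hp.w.symm hgen
      (Groth.Agent.UnrNorm25.stalkMap_surjective_of_isPullback L hp)
    show Etale f.fromNormalization ∧ IsFinite f.fromNormalization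
    rw [← Scheme.Hom.normalizationDesc_comp f s π hp.w.symm]
    exact ⟨inferInstance, inferInstance⟩
  · rintro ⟨hE, hF⟩
    haveI : Etale f.fromNormalization := hE
    haveI : IsFinite f.fromNormalization := hF
    have hp := Groth.Agent.UnrNorm25.isPullback_of_stalkMap_surjective L f.fromNormalization f.toNormalization
      (Scheme.Hom.toNormalization_fromNormalization f) (Groth.Agent.UnrNorm25.toNormalization_pt L)
      (Groth.Agent.UnrNorm25.stalkMap_toNormalization_surjective L)
    let W : FEt.Cat X := MorphismProperty.Over.mk ⊤ f.fromNormalization ⟨hF, hE⟩
    refine ⟨W, ⟨MorphismProperty.Over.isoMk (hp.isoPullback.symm ≪≫ e.symm) ?_⟩⟩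
    show (hp.isoPullback.inv ≫ e.inv) ≫ Y₀.hom = pullback.snd f.fromNormalization i
    rw [Category.assoc, show e.inv ≫ Y₀.hom = φ by rw [← he, Iso.inv_hom_id_assoc]]
    exact hp.isoPullback_inv_snd

end Groth.Agent.S9491
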