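import Groth.Statements.S9501
import Groth.Agent.Lib.EGA43Top.FibreStalk

set_option autoImplicit false
universe u
open SchMor

namespace Groth.Agent.S9501

open AlgebraicGeometry in
open CategoryTheory in
/-- Let f : X → S be a morphism of schemes, s a point of S and y a point of the fibre X_s = X ×_S Spec
κ(s), mapping to the point x of X (so that f(x) = s). Then the homomorphism of local rings O_{X,x} →
O_{X_s,y} induced by the projection X_s → X is surjective, with kernel the ideal generated by the
image of the maximal ideal of O_{S,f(x)}; in other words O_{X_s,y} is identified with O_{X,x}/m_s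
O_{X,x} = O_{X,x} ⊗_{O_{S,s}} κ(s). -/
theorem result
    {X S : Scheme.{u}} (f : X ⟶ S) (s : S) (y : ↥(f.fiber s)) :
    Function.Surjective ((f.fiberι s).stalkMap y).hom ∧
      RingHom.ker ((f.fiberι s).stalkMap y).hom =
        Ideal.map (f.stalkMap ((f.fiberι s).base y)).hom
          (IsLocalRing.maximalIdeal (S.presheaf.stalk (f.base ((f.fiberι s).base y)))) := by
  refine ⟨(f.fiberι s).stalkMap_surjective y, ?_⟩
  obtain ⟨e, he⟩ := Groth.Agent.EGA43Top.exists_ringEquiv_fiber_stalk f s y
  ext b
  rw [RingHom.mem_ker]
  refine (Iff.trans ?_ Ideal.Quotient.eq_zero_iff_mem)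
  exact (he b).symm ▸ (map_eq_zero_iff e e.injective)

end Groth.Agent.S9501
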