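import Groth.Statements.S9502
import Groth.Agent.Lib.CenterCoh13.Basic

set_option autoImplicit false
universe u
open SchMor

namespace Groth.Agent.S9502

set_option backward.isDefEq.respectTransparency false
set_option backward.isDefEq.respectTransparency.types false
open AlgebraicGeometry CategoryTheory TopologicalSpace Opposite in
theorem aux {X Y : Scheme.{u}} (f : X ⟶ Y) [AlgebraicGeometry.IsClosedImmersion f] :
    LRSImm.KerLocallyGenerated f.toLRSHom := by
  intro y
  obtain ⟨U, hU, hyU, -⟩ := exists_isAffineOpen_mem_and_subset (x := y) (U := ⊤) trivial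
  refine ⟨U, hyU, f.ker.ideal ⟨U, hU⟩, fun j => j.1, fun j => ?_, fun y' hy' => ?_⟩
  · exact RingHom.mem_ker.1 (by simpa [Scheme.Hom.ker_apply] using j.2)
  · refine le_antisymm (Ideal.span_le.2 ?_) fun r hr => ?_
    · rintro _ ⟨j, rfl⟩
      rw [SetLike.mem_coe, RingHom.mem_ker]
      erw [TopCat.Presheaf.stalkFunctor_map_germ_apply]
      exact (congrArg _ (RingHom.mem_ker.1 (by simpa [Scheme.Hom.ker_apply] using j.2))).trans (map_zero _)
    · by_cases hy'r : y' ∈ Set.range f
      · obtain ⟨z, rfl⟩ := hy'r
        refine CenterCoh13.ker_stalkMap_le f z _ (fun U' hxU' a ha => ?_) r ?_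
        · -- compare the ideal on two affine opens
          obtain ⟨c, d, hcd, hzc⟩ := exists_basicOpen_le_affine_inter hU U'.2 (f z) ⟨hy', hxU'⟩
          let V : Y.affineOpens := ⟨Y.basicOpen c, hU.basicOpen c⟩
          have h1 : Y.presheaf.map (homOfLE (show V.1 ≤ U'.1 from hcd.le.trans (Y.basicOpen_le d))).op a ∈
              f.ker.ideal V := f.ker.ideal_le_comap_ideal (show V ≤ U' from hcd.le.trans (Y.basicOpen_le d)) ha
          rw [← f.ker.map_ideal (show V ≤ ⟨U, hU⟩ from Y.basicOpen_le c)] at h1
          have h2 := Ideal.mem_map_of_mem (Y.presheaf.germ V.1 (f z) hzc).hom h1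
          erw [TopCat.Presheaf.germ_res_apply] at h2
          rw [Ideal.map_map] at h2
          refine (Ideal.map_le_iff_le_comap.2 ?_) h2
          intro b hb
          refine Ideal.subset_span ⟨⟨b, hb⟩, ?_⟩
          exact (Y.presheaf.germ_res_apply (homOfLE (Y.basicOpen_le c)) (f z) hzc b).symm
        · show TopCat.Presheaf.stalkPushforward CommRingCat.{u} f.base X.presheaf z
            (((TopCat.Presheaf.stalkFunctor CommRingCat.{u} (f z)).map f.toLRSHom.c) r) = 0
          rw [show ((TopCat.Presheaf.stalkFunctor CommRingCat.{u} (f z)).map f.toLRSHom.c) r = 0 from hr, map_zero]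
      · obtain ⟨b, hb, hyb⟩ : ∃ b ∈ f.ker.ideal ⟨U, hU⟩, y' ∈ Y.basicOpen b := by
          by_contra h
          push Not at h
          have hs : y' ∈ f.ker.support := by
            rw [Scheme.IdealSheafData.mem_support_iff_of_mem (U := ⟨U, hU⟩) hy', Scheme.mem_zeroLocus_iff]
            exact h
          rw [← SetLike.mem_coe, Scheme.Hom.support_ker] at hs
          exact hy'r (by simpa [f.isClosedEmbedding.isClosed_range.closure_eq] using hs)
        have hu := (Y.mem_basicOpen b y' hy').1 hyb
        have hmem : Y.presheaf.germ U y' hy' b ∈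
            Set.range (fun j : f.ker.ideal ⟨U, hU⟩ => Y.presheaf.germ U y' hy' j.1) := ⟨⟨b, hb⟩, rfl⟩
        erw [Ideal.eq_top_of_isUnit_mem _ (Ideal.subset_span hmem) hu]
        trivial


open AlgebraicGeometry in
open CategoryTheory in
/-- Let f : X → Y be a morphism of schemes such that (1) the underlying continuous map of f is a
homeomorphism onto a closed subset of Y and (2) the map of sheaves of rings O_Y → f_*O_X is
surjective (locally surjective on sections). Then f is a closed immersion in the sense of locally
ringed spaces: (1) and (2) hold and (3) the kernel of O_Y → f_*O_X is locally generated by sections,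
i.e. around every point of Y there are sections of O_Y killed in f_*O_X whose germs generate the
kernel of the stalk map O_{Y,y} → (f_*O_X)_y at every nearby point y. (For a morphism of schemes (1)
and (2) alone already give surjective stalk maps; the content of this row is condition (3).) -/
theorem result
    {X Y : Scheme.{u}} (f : X ⟶ Y) (h1 : Topology.IsClosedEmbedding f)
    (h2 : TopCat.Presheaf.IsLocallySurjective f.c) :
    LRSImm.IsClosedImmersion f.toLRSHom := by

  haveI : AlgebraicGeometry.IsClosedImmersion f := by
    haveI : SurjectiveOnStalks f := ⟨fun x => by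
      have hs := h2
      rw [TopCat.Presheaf.locally_surjective_iff_surjective_on_stalks] at hs
      have hp : Function.Bijective (TopCat.Presheaf.stalkPushforward CommRingCat.{u} f.base X.presheaf x) := by
        have := TopCat.Presheaf.stalkPushforward.stalkPushforward_iso_of_isInducing (C := CommRingCat.{u})
          (f := f.base) h1.isInducing X.presheaf x
        exact ConcreteCategory.bijective_of_isIso _
      exact hp.2.comp (hs (f x))⟩
    exact ⟨h1⟩
  exact ⟨h1, h2, aux f⟩

end Groth.Agent.S9502
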