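import Groth.Statements.S9504
import Groth.Prelude.Def_ExtPow2
import Groth.Agent.Lib.Wedge2.Props
import Mathlib.AlgebraicGeometry.Modules.Tilde

set_option autoImplicit false
set_option linter.style.haveILetI false
set_option backward.isDefEq.respectTransparency false
set_option backward.isDefEq.respectTransparency.types false
set_option synthInstance.maxHeartbeats 400000
set_option maxHeartbeats 800000
universe u
open AffSch

namespace Groth.Agent.S9504

open CategoryTheory AlgebraicGeometry TopologicalSpace exteriorPower Groth.Agent.Wedge2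

theorem loc (R : CommRingCat.{u}) (N : ModuleCat.{u} R) (f : R) :
    IsLocalizedModule (Submonoid.powers f) (tilde.toOpen N (PrimeSpectrum.basicOpen f)).hom :=
  (inferInstance : IsLocalizedModule.Away f (tilde.toOpen N (PrimeSpectrum.basicOpen f)).hom)

theorem aux (R : CommRingCat.{u}) (M : Type u) [AddCommGroup M] [Module R M] (n : ℕ) :
    ExtPow.IsExtPow n (tilde (ModuleCat.of R M)) (tilde (ModuleCat.of R ↥(⋀[R]^n M))) := by
  let P : (Spec R).affineOpens → Prop := fun U => ∃ f : R, U.1 = PrimeSpectrum.basicOpen f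
  have hP : Groth.Agent.KoszShH13.IsAffBasis P := fun O x hx => by
    obtain ⟨_, ⟨f, rfl⟩, hxf, hf⟩ :=
      (PrimeSpectrum.isTopologicalBasis_basic_opens (R := R)).exists_subset_of_mem_open hx O.2
    exact ⟨⟨PrimeSpectrum.basicOpen f, IsAffineOpen.Spec_basicOpen f⟩, ⟨f, rfl⟩, hxf, hf⟩
  let σ : ∀ (U : (Spec R).Opens), M →ₗ[R] Γ(tilde (ModuleCat.of R M), U) := fun U => (tilde.toOpen (ModuleCat.of R M) U).hom
  let ρ : ∀ (U : (Spec R).Opens), ↥(⋀[R]^n M) →ₗ[R] Γ(tilde (ModuleCat.of R ↥(⋀[R]^n M)), U) := fun U =>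
    (tilde.toOpen (ModuleCat.of R ↥(⋀[R]^n M)) U).hom
  have hσr : ∀ (U V : (Spec R).Opens) (h : V ≤ U) (m : M), Groth.Agent.M1.mres (tilde (ModuleCat.of R M)) h (σ U m) = σ V m := fun U V h m => rfl
  have hρr : ∀ (U V : (Spec R).Opens) (h : V ≤ U) (m : ↥(⋀[R]^n M)), Groth.Agent.M1.mres (tilde (ModuleCat.of R ↥(⋀[R]^n M))) h (ρ U m) = ρ V m := fun U V h m => rfl
  have hbc : ∀ U, P U → IsBaseChange Γ(Spec R, U.1) (σ U.1) ∧ IsBaseChange Γ(Spec R, U.1) (ρ U.1) := by
    rintro ⟨U, hU⟩ ⟨f, rfl : U = PrimeSpectrum.basicOpen f⟩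
    haveI : IsLocalization.Away f Γ(Spec R, PrimeSpectrum.basicOpen f) :=
      (inferInstance : IsLocalization.Away f Γ(Spec R, PrimeSpectrum.basicOpen f))
    haveI : IsLocalizedModule (Submonoid.powers f) (σ (PrimeSpectrum.basicOpen f)) :=
      loc R (ModuleCat.of R M) f
    haveI : IsLocalizedModule (Submonoid.powers f) (ρ (PrimeSpectrum.basicOpen f)) :=
      loc R (ModuleCat.of R ↥(⋀[R]^n M)) f
    exact ⟨(isLocalizedModule_iff_isBaseChange (Submonoid.powers f) _ _).1 inferInstance,
      (isLocalizedModule_iff_isBaseChange (Submonoid.powers f) _ _).1 inferInstance⟩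
  let φ : ∀ U, P U → (⋀[Γ(Spec R, U.1)]^n Γ(tilde (ModuleCat.of R M), U.1) →ₗ[Γ(Spec R, U.1)] Γ(tilde (ModuleCat.of R ↥(⋀[R]^n M)), U.1)) := fun U hU =>
    (isBaseChange_tau (hbc U hU).1 n).lift (ρ U.1)
  have hφ : ∀ U hU (x : ↥(⋀[R]^n M)), φ U hU (tau (B := Γ(Spec R, U.1)) (σ U.1) n x) = ρ U.1 x := fun U hU x =>
    (isBaseChange_tau (hbc U hU).1 n).lift_eq _ x
  refine isExtPow_of_basis hP (inferInstanceAs (tilde (ModuleCat.of R M)).IsQuasicoherent)
    (inferInstanceAs (tilde (ModuleCat.of R ↥(⋀[R]^n M))).IsQuasicoherent) φ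
    (fun U hU => bijective_of_baseChange (σ := σ U.1) (ρ := ρ U.1) LinearMap.id (φ U hU)
      (fun v => ((hφ U hU _).symm.trans (congrArg (φ U hU) (tau_ιMulti (σ U.1) v)))) (hbc U hU).1 (hbc U hU).2
      Function.bijective_id) fun U hU V hV h e => ?_
  letI := resAlg h
  letI := resModule (tilde (ModuleCat.of R M)) h
  letI := resModule (tilde (ModuleCat.of R ↥(⋀[R]^n M))) h
  haveI := resTower (tilde (ModuleCat.of R M)) h
  haveI := resTower (tilde (ModuleCat.of R ↥(⋀[R]^n M))) h
  have key : (resLin (tilde (ModuleCat.of R ↥(⋀[R]^n M))) h).comp (φ U hU) = ((φ V hV).restrictScalars Γ(Spec R, U.1)).comp (tau (B := Γ(Spec R, V.1)) (resLin (tilde (ModuleCat.of R M)) h) n) := by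
    refine (isBaseChange_tau (hbc U hU).1 n).algHom_ext _ _ fun x => ?_
    have hx : x ∈ Submodule.span R (Set.range (ιMulti R n (M := M))) := by
      rw [ιMulti_span]; trivial
    induction hx using Submodule.span_induction with
    | zero => simp only [map_zero]
    | add a b _ _ ha hb => simp only [map_add, ha, hb]
    | smul c a _ ha =>
      rw [map_smul, ← algebraMap_smul Γ(Spec R, U.1) c (tau (B := Γ(Spec R, U.1)) (σ U.1) n a), map_smul, map_smul, ha]
    | mem a ha =>
      obtain ⟨v, rfl⟩ := ha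
      rw [LinearMap.comp_apply, LinearMap.comp_apply, LinearMap.restrictScalars_apply, hφ U hU]
      refine (hρr U.1 V.1 h _).trans ?_
      rw [← hφ V hV, tau_ιMulti, tau_ιMulti, tau_ιMulti]
      exact congrArg (fun w => φ V hV (ιMulti _ n w)) (funext fun j => (hσr U.1 V.1 h (v j)).symm)
  have := LinearMap.congr_fun key (ιMulti _ n e)
  rw [LinearMap.comp_apply, LinearMap.comp_apply, LinearMap.restrictScalars_apply, tau_ιMulti] at this
  exact this

open AlgebraicGeometry in
open CategoryTheory in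
/-- Let A be a commutative ring, M an A-module and n a natural number. On X = Spec A the O_X-module
associated to the A-module ⋀^n M is an n-th exterior power of M~: on every affine open U its
sections are identified, linearly over Γ(U, O_X), with the n-th exterior power of the sections of M~
over U, compatibly with restrictions on decomposable elements. -/
theorem result
    (A : Type u) [CommRing A] (M : Type u) [AddCommGroup M] [Module A M] (n : ℕ) :
    ExtPow.IsExtPow n (tilde (R := CommRingCat.of A) (ModuleCat.of A M))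
      (tilde (R := CommRingCat.of A) (ModuleCat.of A ↥(⋀[A]^n M))) := by
  exact aux (CommRingCat.of A) M n

end Groth.Agent.S9504
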