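import Groth.Statements.S9505
import Groth.Agent.Lib.LRSImm8.Restrict

set_option autoImplicit false
universe u
open LRSImm

namespace Groth.Agent.S9505

open CategoryTheory AlgebraicGeometry TopologicalSpace Opposite Groth.Agent.LRSImm8

set_option backward.isDefEq.respectTransparency false in
theorem exists_affine_nhd (X : Scheme.{u}) (Z : LocallyRingedSpace.{u}) (i : Z ⟶ X.toLocallyRingedSpace)
    (hi : LRSImm.IsClosedImmersion i) (z : Z.toTopCat) :
    ∃ (W : OpenNhds z) (R : CommRingCat.{u}),
      Nonempty (Z.restrict W.isOpenEmbedding ≅ Spec.toLocallyRingedSpace.obj (op R)) := by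
  obtain ⟨_, ⟨U, hU, rfl⟩, hxU, -⟩ := X.isBasis_affineOpens.exists_subset_of_mem_open
    (Set.mem_univ (i.base z)) isOpen_univ
  let W : OpenNhds z := ⟨(Opens.map i.base).obj U, hxU⟩
  let j := hU.fromSpec.toLRSHom
  let h : Z.restrict W.isOpenEmbedding ⟶ Z := Z.ofRestrict W.isOpenEmbedding
  haveI : LocallyRingedSpace.IsOpenImmersion j := inferInstanceAs (IsOpenImmersion hU.fromSpec)
  have hjr : Set.range j.base = (U : Set X) := hU.range_fromSpec
  have H : Set.range (h ≫ i).base ⊆ Set.range j.base := by
    rw [hjr]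
    rintro _ ⟨⟨w, hw⟩, rfl⟩
    exact hw
  let i₀ := LocallyRingedSpace.IsOpenImmersion.lift j (h ≫ i) H
  have hsq : i₀ ≫ j = h ≫ i := LocallyRingedSpace.IsOpenImmersion.lift_fac _ _ _
  have hb : ∀ w, j.base (i₀.base w) = i.base (h.base w) := base_eq i₀ h j hsq
  have hjo : Topology.IsOpenEmbedding j.base := hU.fromSpec.isOpenEmbedding
  have hrange : Set.range i₀.base = j.base ⁻¹' Set.range i.base := by
    ext p
    constructor
    · rintro ⟨w, rfl⟩
      exact ⟨h.base w, (hb w).symm⟩
    · rintro ⟨w, hw⟩
      have hwU : i.base w ∈ (U : Set X) := by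
        rw [hw, ← hjr]
        exact ⟨p, rfl⟩
      exact ⟨⟨w, hwU⟩, hjo.injective ((hb ⟨w, hwU⟩).trans hw)⟩
  have he : Topology.IsClosedEmbedding i₀.base := by
    refine ⟨Topology.IsEmbedding.of_comp i₀.base.hom.continuous j.base.hom.continuous ?_, ?_⟩
    · have : (⇑j.base ∘ ⇑i₀.base) = ⇑i.base ∘ ⇑h.base := funext hb
      rw [this]
      exact hi.1.isEmbedding.comp W.isOpenEmbedding.isEmbedding
    · rw [hrange]
      exact hi.1.isClosed_range.preimage j.base.hom.continuous
  have hs := surjStalks_restrict i₀ h j hsq (surjStalks_of hi.1 hi.2.1)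
  have hg := lg_of' (lg'_restrict i₀ h j hsq (fun p hp hmem => hp (hrange ▸ hmem))
    (lg'_of hi.1 (lg_of hi.2.2)))
  obtain ⟨e, -⟩ := exists_iso_quotient i₀ he hs hg
  exact ⟨W, _, ⟨e⟩⟩


open AlgebraicGeometry in
open CategoryTheory in
/-- Let X be a scheme and i : Z → X a closed immersion of locally ringed spaces: a homeomorphism onto a
closed subset of X such that O_X → i_*O_Z is surjective as a map of sheaves and its kernel is
locally generated by sections. Then the locally ringed space Z is a scheme and i is a closed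
immersion of schemes (affine-locally of the form Spec(R/I) → Spec R): there are a scheme Z' and an
isomorphism of locally ringed spaces Z' ≅ Z whose composite with i is a closed immersion of schemes
Z' → X. -/
theorem result
    (X : Scheme.{u}) (Z : LocallyRingedSpace.{u}) (i : Z ⟶ X.toLocallyRingedSpace)
    (hi : LRSImm.IsClosedImmersion i) :
    ∃ (Z' : Scheme.{u}) (e : Z'.toLocallyRingedSpace ≅ Z),
      AlgebraicGeometry.IsClosedImmersion (Scheme.Hom.mk (e.hom ≫ i) : Z' ⟶ X) := by
  let Z' : Scheme.{u} := { toLocallyRingedSpace := Z, local_affine := exists_affine_nhd X Z i hi }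
  refine ⟨Z', Iso.refl Z, ?_⟩
  have hb : Topology.IsClosedEmbedding (Scheme.Hom.mk ((Iso.refl Z).hom ≫ i) : Z' ⟶ X).base := hi.1
  exact
    { stalkMap_surjective := fun x => by
        show Function.Surjective (((Iso.refl Z).hom ≫ i).stalkMap x).hom
        rw [Iso.refl_hom, Category.id_comp]
        exact surjStalks_of hi.1 hi.2.1 x
      isClosedEmbedding := hb }


end Groth.Agent.S9505
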