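import Groth.Statements.S9508
import Mathlib.AlgebraicGeometry.Morphisms.QuasiSeparated

set_option autoImplicit false
set_option backward.isDefEq.respectTransparency.types false
universe u
open SchMor

namespace Groth.Agent.S9508

open AlgebraicGeometry in
open CategoryTheory in
/-- (1) ⇔ (2): A morphism of schemes f : X → S is quasi-separated if and only if, whenever two affine
opens U and V of X both lie in the preimage f⁻¹(W) of one affine open W of S, their intersection U ∩
V is quasi-compact (equivalently, is covered by finitely many affine opens). -/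
theorem result
    {X S : Scheme.{u}} (f : X ⟶ S) :
    QuasiSeparated f ↔
      ∀ (U V : X.affineOpens) (W : S.affineOpens),
        (U : X.Opens) ≤ f ⁻¹ᵁ (W : S.Opens) → (V : X.Opens) ≤ f ⁻¹ᵁ (W : S.Opens) →
          IsCompact ((U : Set X) ∩ (V : Set X)) := by
  have key : ∀ W : S.affineOpens, QuasiSeparatedSpace (f ⁻¹ᵁ (W : S.Opens)).toScheme ↔
      ∀ U V : X.affineOpens, (U : X.Opens) ≤ f ⁻¹ᵁ (W : S.Opens) →
        (V : X.Opens) ≤ f ⁻¹ᵁ (W : S.Opens) → IsCompact ((U : Set X) ∩ (V : Set X)) := by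
    intro W
    rw [quasiSeparatedSpace_iff_forall_affineOpens]
    constructor
    · intro h U V hU hV
      have h1 : IsAffineOpen ((f ⁻¹ᵁ (W : S.Opens)).ι ⁻¹ᵁ (U : X.Opens)) :=
        U.2.preimage_of_isOpenImmersion _ (by simpa using hU)
      have h2 : IsAffineOpen ((f ⁻¹ᵁ (W : S.Opens)).ι ⁻¹ᵁ (V : X.Opens)) :=
        V.2.preimage_of_isOpenImmersion _ (by simpa using hV)
      have := (h ⟨_, h1⟩ ⟨_, h2⟩).image (f ⁻¹ᵁ (W : S.Opens)).ι.continuous
      convert this using 1
      ext a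
      refine ⟨fun ha ↦ ⟨⟨a, hU ha.1⟩, ha, rfl⟩, ?_⟩
      rintro ⟨b, hb, rfl⟩
      exact hb
    · intro h U V
      refine ((f ⁻¹ᵁ (W : S.Opens)).ι.isOpenEmbedding.isEmbedding.isCompact_iff).2 ?_
      rw [Set.image_inter (f ⁻¹ᵁ (W : S.Opens)).ι.isOpenEmbedding.injective]
      exact h ⟨_, U.2.image_of_isOpenImmersion (f ⁻¹ᵁ (W : S.Opens)).ι⟩
        ⟨_, V.2.image_of_isOpenImmersion (f ⁻¹ᵁ (W : S.Opens)).ι⟩
        (by rintro _ ⟨b, -, rfl⟩; exact b.2) (by rintro _ ⟨b, -, rfl⟩; exact b.2)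
  constructor
  · intro h U V W hU hV
    exact (key W).1 (HasAffineProperty.restrict (P := @QuasiSeparated) h W) U V hU hV
  · intro h
    exact (HasAffineProperty.iff_of_iSup_eq_top (P := @QuasiSeparated)
      (fun W : S.affineOpens ↦ W) (iSup_affineOpens_eq_top S)).2 fun W ↦
        (key W).2 fun U V ↦ h U V W

end Groth.Agent.S9508
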