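import Groth.Statements.S9509
import Mathlib.AlgebraicGeometry.Morphisms.QuasiSeparated

set_option autoImplicit false
set_option backward.isDefEq.respectTransparency.types false
universe u
open SchMor

namespace Groth.Agent.S9509

open AlgebraicGeometry in
open CategoryTheory in
/-- (3) ⇒ (1): Let f : X → S be a morphism of schemes. Suppose S is covered by affine opens W_i, each
preimage f⁻¹(W_i) is covered by affine opens V_{i,j}, and any two V_{i,j}, V_{i,j'} with the same
index i meet in a quasi-compact open (one covered by finitely many affine opens). Then f is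
quasi-separated. -/
theorem result
    {X S : Scheme.{u}} (f : X ⟶ S) {ι : Type u} (W : ι → S.affineOpens)
    (hW : ⨆ i, (W i : S.Opens) = ⊤) {κ : ι → Type u} (V : ∀ i, κ i → X.affineOpens)
    (hV : ∀ i, ⨆ j, (V i j : X.Opens) = f ⁻¹ᵁ (W i : S.Opens))
    (hVV : ∀ i (j j' : κ i), IsCompact ((V i j : Set X) ∩ (V i j' : Set X))) :
    QuasiSeparated f := by
  refine (HasAffineProperty.iff_of_iSup_eq_top (P := @QuasiSeparated) W hW).2 fun i ↦ ?_
  let O := f ⁻¹ᵁ (W i : S.Opens)
  have hVO : ∀ j, (V i j : X.Opens) ≤ O := fun j ↦ (le_iSup (fun j ↦ (V i j : X.Opens)) j).trans (hV i).le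
  refine Scheme.quasiSeparatedSpace_of_isOpenCover (X := O.toScheme)
    (U := fun j ↦ O.ι ⁻¹ᵁ (V i j : X.Opens)) ?_
    (fun j ↦ (V i j).2.preimage_of_isOpenImmersion _ (by simpa using hVO j)) fun j j' ↦ ?_
  · refine TopologicalSpace.IsOpenCover.mk (eq_top_iff.2 fun a _ ↦ ?_)
    obtain ⟨j, hj⟩ := TopologicalSpace.Opens.mem_iSup.1 ((hV i).symm.le a.2)
    exact TopologicalSpace.Opens.mem_iSup.2 ⟨j, hj⟩
  · refine (O.ι.isOpenEmbedding.isEmbedding.isCompact_iff).2 ?_
    convert hVV i j j' using 1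
    ext a
    refine ⟨?_, fun ha ↦ ⟨⟨a, hVO j ha.1⟩, ha, rfl⟩⟩
    rintro ⟨b, hb, rfl⟩
    exact hb

end Groth.Agent.S9509
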