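import Groth.Statements.S9511
import Mathlib.AlgebraicGeometry.Limits
import Mathlib.AlgebraicGeometry.Restrict

set_option autoImplicit false
universe u
open LRSImm

namespace Groth.Agent.S9511


open AlgebraicGeometry in
open CategoryTheory TopologicalSpace in
/-- Let X be a locally ringed space and U, V ⊆ X open with X = U ⊔ V (they cover X and are disjoint),
such that the open subspaces X|_U and X|_V are affine schemes. Then X is an affine scheme: the
canonical morphism X → Spec Γ(X, O_X) is an isomorphism of locally ringed spaces. -/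
theorem result
    (X : LocallyRingedSpace.{u}) (U V : Opens X.toTopCat) (hUV : IsCompl U V)
    (A B : CommRingCat.{u})
    (eU : X.restrict U.isOpenEmbedding ≅ (Spec A).toLocallyRingedSpace)
    (eV : X.restrict V.isOpenEmbedding ≅ (Spec B).toLocallyRingedSpace) :
    IsIso X.toΓSpec := by
  let S : Scheme.{u} :=
    { toLocallyRingedSpace := X
      local_affine := fun x => by
        have hx : x ∈ U ⊔ V := by
          rw [hUV.sup_eq_top]; trivial
        rcases Opens.mem_sup.1 hx with hx | hx
        · exact ⟨⟨U, hx⟩, A, ⟨eU⟩⟩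
        · exact ⟨⟨V, hx⟩, B, ⟨eV⟩⟩ }
  let U' : S.Opens := U
  let V' : S.Opens := V
  let fU : U'.toScheme ≅ Spec A := Scheme.fullyFaithfulForgetToLocallyRingedSpace.preimageIso eU
  let fV : V'.toScheme ≅ Spec B := Scheme.fullyFaithfulForgetToLocallyRingedSpace.preimageIso eV
  have hU : IsAffineOpen U' := IsAffine.of_isIso fU.hom
  have hV : IsAffineOpen V' := IsAffine.of_isIso fV.hom
  have h := hU.sup_of_disjoint hV hUV.disjoint
  rw [show U' ⊔ V' = (⊤ : S.Opens) from hUV.sup_eq_top] at h
  haveI : IsAffine (⊤ : S.Opens).toScheme := h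
  haveI : IsAffine S := IsAffine.of_isIso (S.topIso.inv)
  exact inferInstanceAs (IsIso (Scheme.forgetToLocallyRingedSpace.map S.toSpecΓ))


end Groth.Agent.S9511
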