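import Groth.Statements.S9512

set_option autoImplicit false
universe u
open LRSImm

namespace Groth.Agent.S9512

open CategoryTheory Opposite AlgebraicGeometry


open AlgebraicGeometry in
open CategoryTheory Opposite in
/-- Let X be a locally ringed space, Y = Spec R an affine scheme and f : X → Y a morphism of locally
ringed spaces. Given a point x of X, the image f(x) is the prime of R obtained as the inverse image
of the maximal ideal of O_{X,x} under the composite R = Γ(Y, O_Y) → Γ(X, O_X) → O_{X,x}. -/
theorem result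
    (X : LocallyRingedSpace.{u}) (R : CommRingCat.{u})
    (f : X ⟶ (Spec R).toLocallyRingedSpace) (x : X.toTopCat) :
    f.base x = PrimeSpectrum.comap
      ((Scheme.ΓSpecIso R).inv ≫ f.c.app (op ⊤) ≫ X.presheaf.germ ⊤ x trivial).hom
      (IsLocalRing.closedPoint (X.presheaf.stalk x)) := by
  apply PrimeSpectrum.ext
  ext a
  let S := (Spec R).toLocallyRingedSpace.presheaf.stalk (f.base x)
  let p : PrimeSpectrum R := f.base x
  let θ : (R : Type u) →+* S :=
    ((Scheme.ΓSpecIso R).inv ≫ (Spec R).toLocallyRingedSpace.presheaf.germ ⊤ (f.base x) trivial).hom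
  have key : ((Scheme.ΓSpecIso R).inv ≫ f.c.app (op ⊤) ≫ X.presheaf.germ ⊤ x trivial).hom a =
      (f.stalkMap x).hom (θ a) :=
    (LocallyRingedSpace.stalkMap_germ_apply f ⊤ x trivial _).symm
  show a ∈ p.asIdeal ↔ _
  rw [PrimeSpectrum.comap_asIdeal, Ideal.mem_comap]
  show _ ↔ ((Scheme.ΓSpecIso R).inv ≫ f.c.app (op ⊤) ≫ X.presheaf.germ ⊤ x trivial).hom a ∈ IsLocalRing.maximalIdeal _
  rw [IsLocalRing.mem_maximalIdeal, mem_nonunits_iff, key, isUnit_map_iff (f.stalkMap x).hom]
  letI : Algebra R S := θ.toAlgebra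
  have hθ : θ = algebraMap R ((Spec.structureSheaf R).presheaf.stalk p) := rfl
  rw [hθ]
  refine Iff.symm ((not_congr (IsLocalization.AtPrime.isUnit_to_map_iff
    ((Spec.structureSheaf R).presheaf.stalk p) p.asIdeal a)).trans ?_)
  exact not_not


end Groth.Agent.S9512
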