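import Groth.Statements.S9513
import Groth.Agent.Lib.AffBasis13.Basic
-- import your own Groth.Agent.* helpers here

set_option autoImplicit false
universe u
open SchMor

namespace Groth.Agent.S9513

set_option backward.isDefEq.respectTransparency false
set_option backward.isDefEq.respectTransparency.types false

open AlgebraicGeometry in
open CategoryTheory TopologicalSpace Opposite in
/-- (1) ⇔ (3): Let X be a scheme and B the set of affine opens of X, ordered by inclusion; let F be a
presheaf of sets on B (a functor on Bᵒᵖ) and E ∈ B the empty open. Then F is isomorphic to the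
restriction to B of a sheaf of sets on X if and only if (a) F(∅) is a singleton and (b) for all U ∈
B and sections f, g of O_X over U with U = D(f) ∪ D(g), writing V = D(f), W = D(g) and V ∩ W = D(fg)
(all in B), the map F(U) → F(V) × F(W) is injective with image exactly the pairs (s, t) whose
restrictions to D(fg) agree. (The order relations V, W ≤ U and D(fg) ≤ V, W are supplied as
hypotheses; they follow from the equations.) -/
theorem result (X : Scheme.{u})
    (F : (X.affineOpens)ᵒᵖ ⥤ Type u) (E : X.affineOpens) (hE : (E : X.Opens) = ⊥) :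
    (∃ G : TopCat.Sheaf (Type u) X.carrier,
        Nonempty ((Monotone.functor (f := fun U : X.affineOpens => (U : X.Opens)) (fun _ _ h => h)).op ⋙ G.1 ≅ F)) ↔
    ((Nonempty (F.obj (op E)) ∧ Subsingleton (F.obj (op E))) ∧
      ∀ (U V W VW : X.affineOpens) (f g : Γ(X, (U : X.Opens))),
        (V : X.Opens) = X.basicOpen f → (W : X.Opens) = X.basicOpen g →
        (VW : X.Opens) = X.basicOpen (f * g) → (U : X.Opens) = (V : X.Opens) ⊔ (W : X.Opens) →
        ∀ (hV : V ≤ U) (hW : W ≤ U) (h1 : VW ≤ V) (h2 : VW ≤ W),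
        Function.Injective (fun s : F.obj (op U) => (F.map (homOfLE hV).op s, F.map (homOfLE hW).op s)) ∧
        Set.range (fun s : F.obj (op U) => (F.map (homOfLE hV).op s, F.map (homOfLE hW).op s)) =
          {p | F.map (homOfLE h1).op p.1 = F.map (homOfLE h2).op p.2}) := by
  constructor
  · rintro ⟨G, ⟨e⟩⟩
    have nat : ∀ {A B : X.affineOpens} (h : B ≤ A) (s : G.1.obj (op A.1)),
        F.map (homOfLE h).op (e.hom.app (op A) s) = e.hom.app (op B) (G.1.map (homOfLE (show B.1 ≤ A.1 from h)).op s) :=
      fun h s => (ConcreteCategory.congr_hom (e.hom.naturality (homOfLE h).op) s).symm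
    have bij : ∀ A : X.affineOpens, Function.Bijective (e.hom.app (op A)) := fun A =>
      (ConcreteCategory.bijective_of_isIso (e.hom.app (op A)))
    refine ⟨?_, ?_⟩
    · obtain ⟨s, -, hs⟩ := G.existsUnique_gluing' (fun i : PEmpty.{u+1} => (⊥ : X.Opens)) E.1 (fun i => i.elim)
        (hE.le.trans bot_le) (fun i => i.elim) (fun i => i.elim)
      refine ⟨⟨e.hom.app (op E) s⟩, ⟨fun a b => ?_⟩⟩
      obtain ⟨a, rfl⟩ := (bij E).2 a
      obtain ⟨b, rfl⟩ := (bij E).2 b
      rw [hs a (fun i => i.elim), hs b (fun i => i.elim)]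
    · intro U V W VW f g hV' hW' hVW' hU' hV hW h1 h2
      let T : ULift.{u} Bool → X.Opens := fun i => if i.down then V.1 else W.1
      have hT : ∀ i, T i ≤ U.1 := by rintro ⟨_ | _⟩; exacts [hW, hV]
      have hcov : U.1 ≤ iSup T := hU'.le.trans (sup_le (le_iSup T ⟨true⟩) (le_iSup T ⟨false⟩))
      refine ⟨fun a b hab => ?_, Set.ext fun p => ⟨?_, fun hp => ?_⟩⟩
      · obtain ⟨a, rfl⟩ := (bij U).2 a
        obtain ⟨b, rfl⟩ := (bij U).2 b
        simp only [Prod.mk.injEq, nat] at hab
        refine congrArg _ (G.eq_of_locally_eq' T U.1 (fun i => homOfLE (hT i)) hcov a b ?_)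
        rintro ⟨_ | _⟩
        exacts [(bij W).1 hab.2, (bij V).1 hab.1]
      · rintro ⟨s, rfl⟩
        show F.map _ (F.map _ s) = F.map _ (F.map _ s)
        rw [← ConcreteCategory.comp_apply, ← ConcreteCategory.comp_apply, ← F.map_comp, ← F.map_comp]
        rfl
      · obtain ⟨p₁, p₂⟩ := p
        obtain ⟨a, rfl⟩ := (bij V).2 p₁
        obtain ⟨b, rfl⟩ := (bij W).2 p₂
        simp only [Set.mem_ofPred_eq, nat] at hp
        have hab : G.1.map (homOfLE (show VW.1 ≤ V.1 from h1)).op a = G.1.map (homOfLE (show VW.1 ≤ W.1 from h2)).op b :=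
          (bij VW).1 hp
        have hinf : V.1 ⊓ W.1 ≤ VW.1 := by rw [hV', hW', hVW', Scheme.basicOpen_mul]
        let sf : ∀ i, G.1.obj (op (T i)) := fun i => match i with | ⟨true⟩ => a | ⟨false⟩ => b
        obtain ⟨s, hs, -⟩ := G.existsUnique_gluing' T U.1 (fun i => homOfLE (hT i)) hcov sf (by
          have key : G.1.map (homOfLE (inf_le_left : V.1 ⊓ W.1 ≤ V.1)).op a =
              G.1.map (homOfLE (inf_le_right : V.1 ⊓ W.1 ≤ W.1)).op b := by
            have := congrArg (G.1.map (homOfLE hinf).op) hab
            rw [← ConcreteCategory.comp_apply, ← ConcreteCategory.comp_apply, ← G.1.map_comp, ← G.1.map_comp] at this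
            exact this
          rintro ⟨_ | _⟩ ⟨_ | _⟩
          · rfl
          · have h := congrArg (G.1.map (homOfLE (inf_comm W.1 V.1).le).op) key.symm
            rw [← ConcreteCategory.comp_apply, ← ConcreteCategory.comp_apply, ← G.1.map_comp, ← G.1.map_comp] at h
            exact h
          · exact key
          · rfl)
        refine ⟨e.hom.app (op U) s, Prod.ext ?_ ?_⟩
        · exact (nat hV s).trans (congrArg _ (hs ⟨true⟩))
        · exact (nat hW s).trans (congrArg _ (hs ⟨false⟩))
  · rintro ⟨hE', hp⟩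
    have h0 : AffBasis13.EmptyCond F := fun U hU => by
      obtain rfl : U = E := Subtype.ext (hU.trans hE.symm)
      exact hE'
    exact ⟨⟨AffBasis13.extPresheaf F, AffBasis13.ext_isSheaf F h0 hp⟩, ⟨AffBasis13.extIso F⟩⟩

end Groth.Agent.S9513
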