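import Groth.Statements.S9517
import Groth.Agent.Lib.IdealMul.Inf

set_option autoImplicit false
universe u
open CategoryTheory CategoryTheory.Limits AlgebraicGeometry
attribute [local instance] HasDerivedCategory.standard
open Coherent

namespace Groth.Agent.S9517

/-- Let X be a Noetherian scheme, F a coherent O_X-module, G ⊆ F a quasi-coherent submodule (given by a
monomorphism ι : G → F) and I a quasi-coherent sheaf of ideals. Then there is c ≥ 0 such that for
every n ≥ c the two subobjects I^(n-c)·(I^c F ∩ G) and I^n F ∩ G of F are equal. (Products J·M are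
the submodule sheaves Dual3.idealMul J M; intersections are taken in the lattice of subobjects of
F.) -/
theorem result (X : Scheme.{u}) [IsNoetherian X] (F G : X.Modules) (hF : Coh.IsCoh F)
    (hG : Coh.IsQCoh G) (ι : G ⟶ F) [Mono ι] (I : X.IdealSheafData) :
    ∃ c : ℕ, ∀ n : ℕ, c ≤ n →
      Subobject.mk (Dual3.idealMulι (I ^ (n - c))
          (Subobject.underlying.obj (Subobject.mk (Dual3.idealMulι (I ^ c) F) ⊓ Subobject.mk ι)) ≫
        (Subobject.mk (Dual3.idealMulι (I ^ c) F) ⊓ Subobject.mk ι).arrow) =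
      Subobject.mk (Dual3.idealMulι (I ^ n) F) ⊓ Subobject.mk ι := by
  classical
  have := hF.1
  let p : M1.Sub F := ⟨G, ι, inferInstance⟩
  obtain ⟨T, hT⟩ := IdealMulL.exists_finite_affine_cover (X := X)
  obtain ⟨c, hc⟩ := IdealMulL.exists_artinRees hF p I (fun k : T => k.1)
  refine ⟨c, fun n hn => ?_⟩
  let K := IdealMulL.interS (IdealMulL.idl F (I ^ c)) p
  have hK : Coh.IsQCoh K.P := IdealMulL.isQCoh_interS hF.1 _ _ (IdealMulL.isQCoh_idl F _ hF.1) hG
  have e : Subobject.mk (Dual3.idealMulι (I ^ c) F) ⊓ Subobject.mk ι = Subobject.mk K.i :=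
    IdealMulL.inf_eq_mk (IdealMulL.idl F (I ^ c)) p
  have e' : Subobject.mk (Dual3.idealMulι (I ^ n) F) ⊓ Subobject.mk ι =
      Subobject.mk (IdealMulL.interS (IdealMulL.idl F (I ^ n)) p).i :=
    IdealMulL.inf_eq_mk (IdealMulL.idl F (I ^ n)) p
  rw [e', e]
  let q : M1.Sub F := ⟨Subobject.underlying.obj (Subobject.mk K.i), (Subobject.mk K.i).arrow, inferInstance⟩
  have hq : Coh.IsQCoh q.P := IdealMulL.isQCoh_of_mk_iso K.i hK
  refine IdealMulL.mk_eq_mk_of_cover
    ⟨_, Dual3.idealMulι (I ^ (n - c)) q.P ≫ q.i, inferInstance⟩ _ (IdealMulL.isQCoh_idl _ _ hq)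
    (IdealMulL.isQCoh_interS hF.1 _ _ (IdealMulL.isQCoh_idl F _ hF.1) hG) (fun k : T => k.1) hT fun k => ?_
  rw [IdealMulL.secSub_idl_comp _ q hq, IdealMulL.secSub_interS, IdealMulL.secSub_idl, IdealMulL.secSub_arrow,
    IdealMulL.secSub_interS, IdealMulL.secSub_idl, Scheme.IdealSheafData.ideal_pow, Scheme.IdealSheafData.ideal_pow,
    Scheme.IdealSheafData.ideal_pow]
  exact (hc n hn k).symm

end Groth.Agent.S9517
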