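import Groth.Statements.S9519
import Groth.Agent.Lib.RelCech8.Cx
import Groth.Agent.Lib.RelCech8.Gen

set_option autoImplicit false
universe u
open CategoryTheory CategoryTheory.Limits AlgebraicGeometry
attribute [local instance] HasDerivedCategory.standard
open CechOX

namespace Groth.Agent.S9519


/-- Let f : X → S be a morphism of schemes with X quasi-compact and X and S with affine diagonal, F a
quasi-coherent O_X-module, 𝒰 a finite covering of X by affine opens and g : S' → S a morphism; write
X' = X ×_S S' with projections g' : X' → X and f' : X' → S', F' = g'^* F and 𝒰' for the covering of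
X' by the preimages (g')⁻¹(𝒰 i). Then g^* Č(𝒰, f, F) (termwise pullback) is isomorphic as a complex
of O_S'-modules to the relative Čech complex Č(𝒰', f', F'), and its image in the derived category of
O_S'-modules is isomorphic to Rf'_* F'. (The published statement calls the first identification an
equality and states it for g affine, in which case the opens of 𝒰' are affine; this row asserts the
existence of the isomorphisms for any g, with Rf'_* the unbounded derived functor under its
existence binder.) -/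
theorem result {X S S' : Scheme.{u}} (f : X ⟶ S) [CompactSpace X]
    [IsAffineHom (pullback.diagonal (terminal.from X))] [IsAffineHom (pullback.diagonal (terminal.from S))]
    (F : X.Modules) (hF : Coh.IsQCoh F) {ι : Type u} [Finite ι] (𝒰 : ι → X.Opens)
    (h𝒰 : ∀ i, IsAffineOpen (𝒰 i)) (hcov : ⨆ i, 𝒰 i = ⊤) (g : S' ⟶ S)
    [(Scheme.Modules.pullback g).Additive] [DCoh.HasRpush (pullback.snd f g)] :
    Nonempty (((Scheme.Modules.pullback g).mapHomologicalComplex (ComplexShape.up ℕ)).obj
        ((CechOX.relCech 𝒰 f).obj F) ≅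
      (CechOX.relCech (fun i => (pullback.fst f g) ⁻¹ᵁ (𝒰 i)) (pullback.snd f g)).obj
        ((Scheme.Modules.pullback (pullback.fst f g)).obj F)) ∧
    Nonempty (DCoh.toD S' ((((Scheme.Modules.pullback g).mapHomologicalComplex (ComplexShape.up ℕ)).obj
        ((CechOX.relCech 𝒰 f).obj F)).extend ComplexShape.embeddingUpNat) ≅
      (DCoh.Rpush (pullback.snd f g)).obj
        (DCoh.inD _ ((Scheme.Modules.pullback (pullback.fst f g)).obj F))) := by
---
  haveI : QuasiSeparated (terminal.from X) := ⟨inferInstance⟩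
  haveI : QuasiSeparated (terminal.from S) := ⟨inferInstance⟩
  haveI : QuasiSeparated (f ≫ terminal.from S) := by rw [terminal.comp_from]; infer_instance
  haveI : QuasiSeparated f := QuasiSeparated.of_comp f (terminal.from S)
  haveI : QuasiCompact (f ≫ terminal.from S) := (quasiCompact_iff_compactSpace _).2 inferInstance
  haveI : QuasiCompact f := QuasiCompact.of_comp f (terminal.from S)
  haveI : ∀ (n : ℕ) (J : Fin (n + 1) → ι), IsAffine (∏ᶜ (𝒰 ∘ J) : X.Opens).toScheme := fun n J =>
    Groth.Agent.RelCech8.isAffineOpen_tm 𝒰 h𝒰 J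
  have haW : ∀ (n : ℕ) (J : Fin (n + 1) → ι), IsAffineHom (∏ᶜ (𝒰 ∘ J) : X.Opens).ι := fun n J =>
    Groth.Agent.RelCech8.isAffineHom_of_affine (S := X) _
  have haF : ∀ (n : ℕ) (J : Fin (n + 1) → ι), IsAffineHom ((∏ᶜ (𝒰 ∘ J) : X.Opens).ι ≫ f) := fun n J =>
    Groth.Agent.RelCech8.isAffineHom_of_affine (S := S) _
  obtain ⟨e⟩ := Groth.Agent.RelCech8.nonempty_iso (IsPullback.of_hasPullback f g) 𝒰 F hF haF
  refine ⟨⟨e⟩, ?_⟩
  have htm : ∀ (n : ℕ) (J : Fin (n + 1) → ι),
      (∏ᶜ (Groth.Agent.RelCech8.pre (pullback.fst f g) 𝒰 ∘ J) : (pullback f g).Opens) =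
        pullback.fst f g ⁻¹ᵁ (∏ᶜ (𝒰 ∘ J) : X.Opens) := fun n J =>
    le_antisymm (Groth.Agent.RelCech8.tm_le _ 𝒰 J) (Groth.Agent.RelCech8.le_tm _ 𝒰 J)
  obtain ⟨e'⟩ := Groth.Agent.RelCech8.nonempty_iso_Rpush' (Groth.Agent.RelCech8.pre (pullback.fst f g) 𝒰)
    ((Scheme.Modules.pullback (pullback.fst f g)).obj F) (M1.isQCoh_pullback _ hF) (pullback.snd f g)
    (fun n J => by
      rw [htm n J]
      haveI := haW n J
      exact MorphismProperty.of_isPullback (isPullback_morphismRestrict (pullback.fst f g) _) inferInstance)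
    (fun n J => by
      rw [htm n J]
      haveI := haF n J
      exact Groth.Agent.RelCech8.isAffineHom_pre (IsPullback.of_hasPullback f g) _)
    (by
      rw [eq_top_iff]
      intro x _
      have hx : pullback.fst f g x ∈ ⨆ i, 𝒰 i := hcov ▸ trivial
      obtain ⟨i, hi⟩ := TopologicalSpace.Opens.mem_iSup.1 hx
      exact TopologicalSpace.Opens.mem_iSup.2 ⟨i, hi⟩)
  exact ⟨DerivedCategory.Q.mapIso ((ComplexShape.embeddingUpNat.extendFunctor _).mapIso e) ≪≫ e'⟩


end Groth.Agent.S9519
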