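import Groth.Statements.S9523
import Groth.Agent.Lib.IdealMul.Inf

set_option autoImplicit false
universe u
open CategoryTheory CategoryTheory.Limits AlgebraicGeometry
attribute [local instance] HasDerivedCategory.standard
open Coherent

namespace Groth.Agent.S9523

theorem mem_smul_top_map {R S M : Type*} [CommRing R] [CommRing S] [AddCommGroup M] [Module R M] [Module S M]
    (φ : R →+* S) (h : ∀ (r : R) (m : M), r • m = φ r • m) (J : Ideal R) (s : M) :
    s ∈ J • (⊤ : Submodule R M) ↔ s ∈ J.map φ • (⊤ : Submodule S M) := by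
  constructor
  · intro hs
    refine Submodule.smul_induction_on hs (fun r hr m _ => ?_) fun a b ha hb => Submodule.add_mem _ ha hb
    rw [h]
    exact Submodule.smul_mem_smul (Ideal.mem_map_of_mem φ hr) Submodule.mem_top
  · intro hs
    refine Submodule.smul_induction_on hs (fun a ha m _ => ?_) fun a b ha hb => Submodule.add_mem _ ha hb
    induction ha using Submodule.span_induction generalizing m with
    | mem a ha =>
      obtain ⟨r, hr, rfl⟩ := ha
      rw [← h]
      exact Submodule.smul_mem_smul hr Submodule.mem_top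
    | zero => rw [zero_smul]; exact Submodule.zero_mem _
    | add a b _ _ ha hb => rw [add_smul]; exact Submodule.add_mem _ (ha m trivial) (hb m trivial)
    | smul c a _ ha => rw [smul_eq_mul, mul_comm, mul_smul]; exact ha _ trivial

open AlgebraicGeometry CategoryTheory

/-- Let f : Y → X be an affine morphism of schemes, F a quasi-coherent O_Y-module and I a quasi-coherent
sheaf of ideals on X. Then I·f_*F = f_*((f⁻¹I O_Y)·F) as submodules of f_*F: there is an isomorphism
I·f_*F ≅ f_*((f⁻¹I O_Y)·F) whose composite with f_* of the inclusion (f⁻¹I O_Y)·F → F is the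
inclusion I·f_*F → f_*F. (J·M denotes the submodule sheaf Dual3.idealMul J M; f⁻¹I O_Y is the
pulled-back ideal sheaf I.comap f.) -/
theorem result {Y X : Scheme.{u}} (f : Y ⟶ X) [IsAffineHom f]
    (F : Y.Modules) (hF : Coh.IsQCoh F) (I : X.IdealSheafData) :
    ∃ e : (Dual3.idealMul I).obj ((Scheme.Modules.pushforward f).obj F) ≅
        (Scheme.Modules.pushforward f).obj ((Dual3.idealMul (I.comap f)).obj F),
      e.hom ≫ (Scheme.Modules.pushforward f).map (Dual3.idealMulι (I.comap f) F) =
        Dual3.idealMulι I ((Scheme.Modules.pushforward f).obj F) := by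
  haveI := hF
  haveI hP : Coh.IsQCoh ((Scheme.Modules.pushforward f).obj F) := M1.isQCoh_push f hF
  haveI : Coh.IsQCoh ((Dual3.idealMul I).obj ((Scheme.Modules.pushforward f).obj F)) := IdealMulL.isQCoh_idl ((Scheme.Modules.pushforward f).obj F) I hP
  haveI hQ : Coh.IsQCoh ((Scheme.Modules.pushforward f).obj ((Dual3.idealMul (I.comap f)).obj F)) :=
    M1.isQCoh_push f (IdealMulL.isQCoh_idl F _ hF)
  let q : M1.Sub ((Scheme.Modules.pushforward f).obj F) := ⟨_, (Scheme.Modules.pushforward f).map (Dual3.idealMulι (I.comap f) F), inferInstance⟩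
  have key : ∀ (U : X.affineOpens) (s : Γ(((Scheme.Modules.pushforward f).obj F), U.1)), (IdealMulL.idl ((Scheme.Modules.pushforward f).obj F) I).mem U.1 s ↔ q.mem U.1 s := by
    intro U s
    rw [IdealMulL.mem_idl]
    show _ ↔ (IdealMulL.idl F (I.comap f)).mem (f ⁻¹ᵁ U.1) s
    rw [IdealMulL.mem_idl F (I.comap f) ⟨f ⁻¹ᵁ U.1, U.2.preimage f⟩,
      EffCartier.comap_ideal I f U ⟨f ⁻¹ᵁ U.1, U.2.preimage f⟩ le_rfl]
    letI : Module Γ(Y, f ⁻¹ᵁ U.1) Γ(((Scheme.Modules.pushforward f).obj F), U.1) := inferInstanceAs (Module Γ(Y, f ⁻¹ᵁ U.1) Γ(F, f ⁻¹ᵁ U.1))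
    rw [← Scheme.Hom.app_eq_appLE]
    exact mem_smul_top_map (M := Γ(((Scheme.Modules.pushforward f).obj F), U.1)) (f.app U.1).hom (fun r m => rfl) (I.ideal U) s
  let W : X.affineOpens → X.affineOpens := id
  have hW : ∀ x : X, ∃ k, x ∈ (W k).1 := fun x => by
    obtain ⟨U, hU, hxU, -⟩ := exists_isAffineOpen_mem_and_subset (show x ∈ (⊤ : X.Opens) from trivial)
    exact ⟨⟨U, hU⟩, hxU⟩
  obtain ⟨c, hc⟩ := IdealMulL.exists_lift_affine (Dual3.idealMulι I ((Scheme.Modules.pushforward f).obj F)) q W hW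
    fun U m => (key U _).1 ⟨m, rfl⟩
  obtain ⟨d, hd⟩ := IdealMulL.exists_lift_affine q.i (IdealMulL.idl ((Scheme.Modules.pushforward f).obj F) I) W hW
    fun U m => (key U _).2 ⟨m, rfl⟩
  exact ⟨⟨c, d, by rw [← cancel_mono (Dual3.idealMulι I ((Scheme.Modules.pushforward f).obj F)), Category.assoc]; erw [hd]; rw [hc, Category.id_comp],
    by rw [← cancel_mono q.i, Category.assoc, hc]; erw [hd]; rw [Category.id_comp]⟩, hc⟩

end Groth.Agent.S9523
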