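import Groth.Statements.S9521
import Groth.Agent.Lib.IdealMul.Generic
import Groth.Agent.S9523
import Groth.Agent.Lib.CohFound.Devissage

set_option autoImplicit false
universe u
open Coherent

namespace Groth.Agent.S9521

open CategoryTheory CategoryTheory.Limits AlgebraicGeometry in
/-- Let X be a Noetherian scheme, i : Z → X a closed immersion with Z an integral scheme, ξ ∈ X the
image of the generic point of Z, and F a coherent O_X-module whose stalk F_ξ is annihilated by the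
maximal ideal of O_{X,ξ}. Then one can find r ≥ 0 together with a coherent ideal sheaf I ⊆ O_Z and a
monomorphism of O_X-modules i_*(I^⊕r) → F that becomes an isomorphism when restricted to some open
neighbourhood of ξ. -/
theorem result (X Z : Scheme.{u}) [IsNoetherian X]
    (i : Z ⟶ X) [IsClosedImmersion i] [IsIntegral Z] (F : X.Modules) (hF : Coh.IsCoh F)
    (hann : ∀ a ∈ IsLocalRing.maximalIdeal (X.presheaf.stalk (i (genericPoint Z))),
      ∀ m : ↑(F.presheaf.stalk (i (genericPoint Z))), a • m = 0) :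
    ∃ (r : ℕ) (I : Z.Modules) (ι : I ⟶ Coh.structureModule Z) (φ : (Coh.push i).obj (∐ fun _ : Fin r => I) ⟶ F),
      Mono ι ∧ Coh.IsCoh I ∧ Mono φ ∧
      ∃ U : X.Opens, i (genericPoint Z) ∈ U ∧ IsIso ((Scheme.Modules.restrictFunctor U.ι).map φ) := by
  classical
  have := hF.1
  haveI : IsLocallyNoetherian Z := LocallyOfFiniteType.isLocallyNoetherian i
  haveI : HasFiniteBiproducts Z.Modules := Abelian.hasFiniteBiproducts
  haveI : HasFiniteBiproducts X.Modules := Abelian.hasFiniteBiproducts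
  let ξ := i (genericPoint Z)
  -- a basis of the stalk over the residue field
  obtain ⟨r, e, hspan, hindep⟩ : ∃ (r : ℕ) (e : Fin r → F.presheaf.stalk ξ),
      (∀ a, ∃ c : Fin r → X.presheaf.stalk ξ, ∑ j, c j • e j = a) ∧
      ∀ c : Fin r → X.presheaf.stalk ξ, ∑ j, c j • e j = 0 →
        ∀ j, c j ∈ IsLocalRing.maximalIdeal (X.presheaf.stalk ξ) := by
    haveI : Module.Finite (X.presheaf.stalk ξ) (F.presheaf.stalk ξ) := M1.finite_stalk hF.1 hF.2 ξ
    by_cases h0 : ∀ a : F.presheaf.stalk ξ, a = 0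
    · exact ⟨0, Fin.elim0, fun a => ⟨Fin.elim0, by simp [h0 a]⟩, fun _ _ j => j.elim0⟩
    · push Not at h0
      obtain ⟨a₀, ha₀⟩ := h0
      obtain ⟨r, e, -, h1, h2⟩ := CohFound.exists_residue_basis hann a₀ ha₀
      exact ⟨r, e, h1, h2⟩
  obtain ⟨g, hg, hggen, hgkill⟩ := CohFound.exists_cyclic_push_structureModule i
  let O := Coh.structureModule Z
  let f : Fin r → Z.Modules := fun _ => O
  let P := Scheme.Modules.pushforward i
  let G := P.obj (⨁ f)
  let ιG (j : Fin r) : P.obj O ⟶ G := P.map (biproduct.ι f j)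
  let πG (j : Fin r) : G ⟶ P.obj O := P.map (biproduct.π f j)
  have htot : ∑ j, πG j ≫ ιG j = 𝟙 G := by
    simp only [πG, ιG, ← P.map_comp, ← P.map_sum]
    rw [biproduct.total, P.map_id]
  have hπι : ∀ j k, ιG j ≫ πG k = if j = k then 𝟙 _ else 0 := fun j k => by
    simp only [πG, ιG, ← P.map_comp]
    split_ifs with h
    · subst h
      rw [biproduct.ι_π_self, P.map_id]
    · rw [biproduct.ι_π_ne f h, P.map_zero]
  have hsumG : ∀ (x : X) (b : G.presheaf.stalk x),
      ∑ j, CohFound.stL (ιG j) x (CohFound.stL (πG j) x b) = b := fun x b => by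
    have h := congrArg (fun χ => CohFound.stL χ x b) htot
    simp only [CohFound.stL_sum, CohFound.stL_comp, CohFound.stL_id] at h
    exact h
  let e' (j : Fin r) : G.presheaf.stalk ξ := CohFound.stL (ιG j) ξ g
  have hπe' : ∀ j k, CohFound.stL (πG k) ξ (e' j) = if j = k then g else 0 := fun j k => by
    rw [← CohFound.stL_comp, hπι]
    split_ifs
    · exact CohFound.stL_id _ _ _
    · exact CohFound.stL_zero _ _
  have hspan' : ∀ a : G.presheaf.stalk ξ, ∃ c : Fin r → X.presheaf.stalk ξ, ∑ j, c j • e' j = a := fun a => by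
    choose c hc using fun j => hggen (CohFound.stL (πG j) ξ a)
    exact ⟨c, by simp only [e', ← map_smul, hc]; exact hsumG ξ a⟩
  have hindep' : ∀ c : Fin r → X.presheaf.stalk ξ, ∑ j, c j • e' j = 0 →
      ∀ j, c j ∈ IsLocalRing.maximalIdeal (X.presheaf.stalk ξ) := fun c hc j => by
    by_contra hu
    refine hg ((IsLocalRing.notMem_maximalIdeal.1 hu).smul_eq_zero.1 ?_)
    have h := congrArg (CohFound.stL (πG j) ξ) hc
    simpa only [map_sum, map_smul, hπe', smul_ite, smul_zero, Finset.sum_ite_eq', Finset.mem_univ, if_true, map_zero] using h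
  have hG : Coh.IsCoh G := by
    refine CohFound.isCoh_push_closedImm i ?_
    have hfree := M1.isFP_of_isFinLocFree (M2.isFinLocFree_of_ofRank (M2.isFinLocFreeOfRank_freeMod Z r))
    let eB : FlatMod.freeMod Z r ≅ ⨁ f := (biproduct.isoCoproduct f).symm
    exact ⟨M1.isQCoh_of_isIso eB (M1.isFP_isQCoh hfree), M1.isFT_of_isIso eB (M1.isFP_isFT hfree)⟩
  have hGm : ∀ c ∈ IsLocalRing.maximalIdeal (X.presheaf.stalk ξ), ∀ a : G.presheaf.stalk ξ, c • a = 0 := by
    intro c hc a
    rw [← hsumG ξ a, Finset.smul_sum]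
    exact Finset.sum_eq_zero fun j _ => by rw [← map_smul, hgkill c hc, map_zero]
  let E := G ⊞ F
  let inG : G ⟶ E := biprod.inl
  let inF : F ⟶ E := biprod.inr
  let prG : E ⟶ G := biprod.fst
  let prF : E ⟶ F := biprod.snd
  have hE : Coh.IsCoh E := M1.isCoh_biprod hG hF
  have hGG : ∀ b, CohFound.stL prG ξ (CohFound.stL inG ξ b) = b := fun b => by
    rw [← CohFound.stL_comp, show inG ≫ prG = 𝟙 G from biprod.inl_fst, CohFound.stL_id]
  have hFF : ∀ b, CohFound.stL prF ξ (CohFound.stL inF ξ b) = b := fun b => by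
    rw [← CohFound.stL_comp, show inF ≫ prF = 𝟙 F from biprod.inr_snd, CohFound.stL_id]
  have hFG : ∀ b, CohFound.stL prG ξ (CohFound.stL inF ξ b) = 0 := fun b => by
    rw [← CohFound.stL_comp, show inF ≫ prG = 0 from biprod.inr_fst, CohFound.stL_zero]
  have hGF : ∀ b, CohFound.stL prF ξ (CohFound.stL inG ξ b) = 0 := fun b => by
    rw [← CohFound.stL_comp, show inG ≫ prF = 0 from biprod.inl_snd, CohFound.stL_zero]
  let w (c : Fin r → X.presheaf.stalk ξ) : E.presheaf.stalk ξ :=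
    CohFound.stL inG ξ (∑ j, c j • e' j) + CohFound.stL inF ξ (∑ j, c j • e j)
  let N : Submodule (X.presheaf.stalk ξ) (E.presheaf.stalk ξ) :=
    { carrier := Set.range w
      zero_mem' := ⟨0, by simp [w]⟩
      add_mem' := by
        rintro _ _ ⟨c, rfl⟩ ⟨d, rfl⟩
        exact ⟨c + d, by simp only [w, Pi.add_apply, add_smul, Finset.sum_add_distrib, map_add]; abel⟩
      smul_mem' := by
        rintro a _ ⟨c, rfl⟩
        exact ⟨a • c, by
          simp only [w, Pi.smul_apply, smul_eq_mul, mul_smul, map_smul, ← Finset.smul_sum, smul_add]⟩ }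
  have hw0 : ∀ c, (∀ j, c j ∈ IsLocalRing.maximalIdeal (X.presheaf.stalk ξ)) → w c = 0 := fun c hc => by
    simp only [w, hGm _ (hc _), hann _ (hc _), map_zero, Finset.sum_const_zero, add_zero]
  have hsumE : ∀ b : E.presheaf.stalk ξ,
      CohFound.stL inG ξ (CohFound.stL prG ξ b) + CohFound.stL inF ξ (CohFound.stL prF ξ b) = b := fun b => by
    rw [← CohFound.stL_comp, ← CohFound.stL_comp, ← CohFound.stL_add,
      show prG ≫ inG + prF ≫ inF = 𝟙 E from biprod.total, CohFound.stL_id]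
  have hnil : ∀ c ∈ IsLocalRing.maximalIdeal (X.presheaf.stalk ξ), ∃ L : ℕ,
      ∀ a : E.presheaf.stalk ξ, c ^ L • a = 0 := fun c hc => ⟨1, fun a => by
    rw [pow_one, ← hsumE a, smul_add, ← (CohFound.stL inG ξ).map_smul, ← (CohFound.stL inF ξ).map_smul,
      hGm c hc, hann c hc, map_zero, map_zero, add_zero]⟩
  let K := CohFound.cutAt E ξ N
  let κ := CohFound.cutι E ξ N
  have hK : Coh.IsCoh K := CohFound.isCoh_cutAt E ξ N hE hnil
  have hrange : ∀ b, ∃ c, CohFound.stL κ ξ b = w c := fun b => by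
    obtain ⟨c, hc⟩ : CohFound.stL κ ξ b ∈ N :=
      (CohFound.range_stL_cutι E ξ N).le (LinearMap.mem_range_self _ b)
    exact ⟨c, hc.symm⟩
  have hlift : ∀ c, ∃ b, CohFound.stL κ ξ b = w c := fun c =>
    (CohFound.range_stL_cutι E ξ N).ge (⟨c, rfl⟩ : w c ∈ N)
  let p₁ : K ⟶ G := κ ≫ prG
  let p₂ : K ⟶ F := κ ≫ prF
  have hp₁ : ∀ b c, CohFound.stL κ ξ b = w c → CohFound.stL p₁ ξ b = ∑ j, c j • e' j := fun b c h => by
    rw [CohFound.stL_comp, h, map_add, hGG, hFG, add_zero]
  have hp₂ : ∀ b c, CohFound.stL κ ξ b = w c → CohFound.stL p₂ ξ b = ∑ j, c j • e j := fun b c h => by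
    rw [CohFound.stL_comp, h, map_add, hGF, hFF, zero_add]
  have hb₁ : Function.Bijective (CohFound.stL p₁ ξ) := by
    refine ⟨(injective_iff_map_eq_zero _).2 fun b hb => ?_, fun a => ?_⟩
    · obtain ⟨c, hc⟩ := hrange b
      refine CohFound.stL_injective_of_mono κ ξ ?_
      rw [hc, map_zero, hw0 c (hindep' c ((hp₁ b c hc).symm.trans hb))]
    · obtain ⟨c, rfl⟩ := hspan' a
      obtain ⟨b, hb⟩ := hlift c
      exact ⟨b, hp₁ b c hb⟩
  have hb₂ : Function.Bijective (CohFound.stL p₂ ξ) := by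
    refine ⟨(injective_iff_map_eq_zero _).2 fun b hb => ?_, fun a => ?_⟩
    · obtain ⟨c, hc⟩ := hrange b
      refine CohFound.stL_injective_of_mono κ ξ ?_
      rw [hc, map_zero, hw0 c (hindep c ((hp₂ b c hc).symm.trans hb))]
    · obtain ⟨c, rfl⟩ := hspan a
      obtain ⟨b, hb⟩ := hlift c
      exact ⟨b, hp₂ b c hb⟩
  obtain ⟨U₁, hξ₁, hU₁⟩ := IdealMulL.exists_open_bijective p₁ hK hG hb₁
  obtain ⟨U₂, hξ₂, hU₂⟩ := IdealMulL.exists_open_bijective p₂ hK hF hb₂
  let U : X.Opens := U₁ ⊓ U₂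
  let R := Scheme.Modules.restrictFunctor U.ι
  haveI : IsIso (R.map p₁) := IdealMulL.isIso_restrict_map p₁ U fun x hx => hU₁ x hx.1
  haveI : IsIso (R.map p₂) := IdealMulL.isIso_restrict_map p₂ U fun x hx => hU₂ x hx.2
  let J : X.IdealSheafData := Scheme.IdealSheafData.vanishingIdeal ⟨(U : Set X)ᶜ, U.isOpen.isClosed_compl⟩
  have hJ : (U : Set X) = (J.support : Set X)ᶜ := by
    rw [Scheme.IdealSheafData.coe_support_vanishingIdeal]
    exact (compl_compl _).symm
  obtain ⟨n, ψ, hψ⟩ := IdealMulL.exists_extend hF.1 hG J hJ (inv (R.map p₁) ≫ R.map p₂)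
  haveI : IsIso (R.map (Dual3.idealMulι (J ^ n) G)) := IdealMulL.isIso_restrict_map _ U fun x hx => by
    haveI := hG.1
    refine IdealMulL.bijective_stL_idl _ fun hs => ?_
    have hx' : x ∉ (J.support : Set X) := by
      have : x ∈ (U : Set X) := hx
      rwa [hJ] at this
    rcases n with _ | n
    · simp [pow_zero] at hs
    · rw [Scheme.IdealSheafData.support_pow_succ] at hs
      exact hx' hs
  haveI : IsIso (R.map ψ) := by rw [hψ]; infer_instance
  haveI : Mono ψ := by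
    refine Preadditive.mono_of_kernel_zero ?_
    rw [← cancel_mono (Dual3.idealMulι (J ^ n) G), zero_comp]
    let χ := kernel.ι ψ ≫ Dual3.idealMulι (J ^ n) G
    show χ = 0
    rw [← Category.comp_id χ, ← htot, Preadditive.comp_sum]
    refine Finset.sum_eq_zero fun j _ => ?_
    rw [← Category.assoc]
    suffices h : χ ≫ πG j = 0 by rw [h, zero_comp]
    ext V t
    show (χ ≫ πG j).app V t = 0
    refine IdealMulL.app_eq_zero_of_germ i _ fun hV => ?_
    rw [← CohFound.stL_germ]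
    have hz : CohFound.stL (kernel.ι ψ) ξ ((kernel ψ).presheaf.germ V ξ hV t) = 0 := by
      have hinj : Function.Injective (CohFound.stL ψ ξ) := by
        intro a b hab
        have hi : IsIso ((Scheme.Modules.toPresheaf X ⋙ TopCat.Presheaf.stalkFunctor _ (U.ι ⟨ξ, hξ₁, hξ₂⟩)).map ψ) :=
          (NatIso.isIso_map_iff (Scheme.Modules.restrictStalkNatIso U.ι ⟨ξ, hξ₁, hξ₂⟩) ψ).1
            (Functor.map_isIso (Scheme.Modules.toPresheaf (U : Scheme.{u}) ⋙ TopCat.Presheaf.stalkFunctor _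
              (⟨ξ, hξ₁, hξ₂⟩ : U)) (R.map ψ))
        exact (ConcreteCategory.bijective_of_isIso
          ((Scheme.Modules.toPresheaf X ⋙ TopCat.Presheaf.stalkFunctor _ (U.ι ⟨ξ, hξ₁, hξ₂⟩)).map ψ)).1 hab
      refine hinj ?_
      rw [← CohFound.stL_comp, kernel.condition, CohFound.stL_zero, map_zero]
    rw [CohFound.stL_comp, CohFound.stL_comp, hz, map_zero, map_zero]
  -- the source is the push forward of a sum of copies of an ideal
  have hO : Coh.IsCoh O := M1.isCoh_structureModule Z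
  have hb : Coh.IsQCoh (⨁ f) := by
    have hfree := M1.isFP_of_isFinLocFree (M2.isFinLocFree_of_ofRank (M2.isFinLocFreeOfRank_freeMod Z r))
    let eB : FlatMod.freeMod Z r ≅ ⨁ f := (biproduct.isoCoproduct f).symm
    exact M1.isQCoh_of_isIso eB (M1.isFP_isQCoh hfree)
  obtain ⟨e₁, -⟩ := Groth.Agent.S9523.result i (⨁ f) hb (J ^ n)
  let J' := Dual3.idealMul ((J ^ n).comap i)
  let e₂ : (∐ fun _ : Fin r => J'.obj O) ≅ J'.obj (⨁ f) :=
    (biproduct.isoCoproduct _).symm ≪≫ (J'.mapBiproduct f).symm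
  let φ : (Coh.push i).obj (∐ fun _ : Fin r => J'.obj O) ⟶ F := (P.mapIso e₂ ≪≫ e₁.symm).hom ≫ ψ
  refine ⟨r, J'.obj O, Dual3.idealMulι _ O, φ, inferInstance,
    M1.isCoh_of_mono (Dual3.idealMulι _ O) hO (IdealMulL.isQCoh_idl O _ hO.1), ?_, U, ⟨hξ₁, hξ₂⟩, ?_⟩
  · show Mono ((P.mapIso e₂ ≪≫ e₁.symm).hom ≫ ψ)
    infer_instance
  · show IsIso (R.map ((P.mapIso e₂ ≪≫ e₁.symm).hom ≫ ψ))
    rw [R.map_comp]
    infer_instance

end Groth.Agent.S9521
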