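import Groth.Statements.S9522
import Groth.Agent.Lib.IdealMul.DevissageExt

set_option autoImplicit false
universe u
open CategoryTheory CategoryTheory.Limits AlgebraicGeometry
attribute [local instance] HasDerivedCategory.standard
open Coherent

namespace Groth.Agent.S9522

/-- Let X be a Noetherian scheme, Z₀ ⊆ X an irreducible closed subset with generic point ξ, and P an
isomorphism-invariant property of O_X-modules that holds for every zero module and such that (1) for
every short exact sequence 0 → F₁ → F → F₂ → 0 of coherent modules, P(F₁) and P(F₂) imply P(F); (2)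
for coherent F, P(F^⊕r) for some r ≥ 1 implies P(F); (3) P holds for i_*I for every closed immersion
i : Z → X with Z integral, i(Z) a proper subset of Z₀, and every quasi-coherent ideal sheaf I ⊆ O_Z;
(4) there is a coherent module G with support equal to Z₀, whose stalk at ξ is annihilated by the
maximal ideal of O_{X,ξ}, and such that for every quasi-coherent sheaf of ideals J on X with ξ ∉
V(J) there is a quasi-coherent submodule G' ⊆ J·G whose inclusion into G induces an isomorphism on
stalks at ξ and for which P holds. Then P holds for every coherent O_X-module whose support is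
contained in Z₀. (The published statement does not ask that P hold for the zero module, although its
proof uses this for a filtration with no steps; without it the conclusion fails for the zero module
when Z₀ is a closed point: on the spectrum of a field, with P(F) meaning that F is nonzero, every
other hypothesis holds. This row assumes that P holds for every zero module.) -/
theorem result (X : Scheme.{u}) [IsNoetherian X]
    (Z₀ : Set X) (hZ₀ : IsClosed Z₀) (hirr : IsIrreducible Z₀) (ξ : X) (hξ : ξ ∈ Z₀ ∧ closure {ξ} = Z₀)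
    (P : X.Modules → Prop) (hP : ∀ M N : X.Modules, Nonempty (M ≅ N) → P M → P N)
    (h₀ : ∀ M : X.Modules, IsZero M → P M)
    (h₁ : ∀ S : ShortComplex X.Modules, S.ShortExact → Coh.IsCoh S.X₁ → Coh.IsCoh S.X₂ → Coh.IsCoh S.X₃ →
      P S.X₁ → P S.X₃ → P S.X₂)
    (h₂ : ∀ (F : X.Modules) (r : ℕ), Coh.IsCoh F → 1 ≤ r → P (∐ fun _ : Fin r => F) → P F)
    (h₃ : ∀ (Z : Scheme.{u}) (i : Z ⟶ X), IsClosedImmersion i → IsIntegral Z →
      Set.range ⇑i ⊆ Z₀ → Set.range ⇑i ≠ Z₀ →
      ∀ (I : Z.Modules) (ι : I ⟶ Coh.structureModule Z), Mono ι → Coh.IsQCoh I → P ((Coh.push i).obj I))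
    (h₄ : ∃ G : X.Modules, Coh.IsCoh G ∧ CohB1.support G = Z₀ ∧
      (∀ a ∈ IsLocalRing.maximalIdeal (X.presheaf.stalk ξ), ∀ m : ↑(G.presheaf.stalk ξ), a • m = 0) ∧
      ∀ J : X.IdealSheafData, ξ ∉ (J.support : Set X) →
        ∃ (G' : X.Modules) (ι' : G' ⟶ (Dual3.idealMul J).obj G), Mono ι' ∧ Coh.IsQCoh G' ∧
          IsIso ((TopCat.Presheaf.stalkFunctor _ ξ).map (ι' ≫ Dual3.idealMulι J G).mapPresheaf) ∧ P G')
    (F : X.Modules) (hF : Coh.IsCoh F) (hsupp : CohB1.support F ⊆ Z₀) : P F := by
  classical
  obtain ⟨G, hG, hsG, hGm, hJ⟩ := h₄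
  obtain ⟨hξ₀, hξcl⟩ := hξ
  refine CohFound.holds_of_cyclic (Z₀ := Z₀) (fun M _ hM => h₀ M hM) (fun S hS a b c _ => h₁ S hS a b c)
    (fun W η hη hW hsmall Q hQ hQW q hq hqm hgen => ?_) hF hsupp
  by_cases hηξ : η = ξ
  · subst hηξ
    haveI : HasFiniteBiproducts X.Modules := Abelian.hasFiniteBiproducts
    haveI : Module.Finite (X.presheaf.stalk η) (G.presheaf.stalk η) := M1.finite_stalk hG.1 hG.2 η
    have hmem : η ∈ CohB1.support G := by rw [hsG]; exact hξ₀
    obtain ⟨a₀, ha₀⟩ : ∃ a : G.presheaf.stalk η, a ≠ 0 := by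
      by_contra h
      push Not at h
      exact (M1.notMem_support_iff G η).2 h hmem
    obtain ⟨r, e', hr, hspan', hindep'⟩ := CohFound.exists_residue_basis hGm a₀ ha₀
    let f : Fin r → X.Modules := fun _ => Q
    let T : X.Modules := ⨁ f
    let e (j : Fin r) : T.presheaf.stalk η := CohFound.stL (biproduct.ι f j) η q
    have hsum : ∀ (x : X) (b : T.presheaf.stalk x),
        ∑ j, CohFound.stL (biproduct.ι f j) x (CohFound.stL (biproduct.π f j) x b) = b := fun x b => by
      have h := congrArg (fun χ => CohFound.stL χ x b) (biproduct.total (f := f))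
      simp only [CohFound.stL_sum, CohFound.stL_comp] at h
      exact h.trans (CohFound.stL_id _ x b)
    have hπe : ∀ i j, CohFound.stL (biproduct.π f j) η (e i) = if i = j then q else 0 := fun i j => by
      rw [← CohFound.stL_comp]
      split_ifs with h
      · subst h
        rw [biproduct.ι_π_self, CohFound.stL_id]
      · rw [biproduct.ι_π_ne f h, CohFound.stL_zero]
    have hspan : ∀ b : T.presheaf.stalk η, ∃ c : Fin r → X.presheaf.stalk η, ∑ j, c j • e j = b := fun b => by
      choose c hc using fun j => hgen (CohFound.stL (biproduct.π f j) η b)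
      exact ⟨c, by simp only [e, ← map_smul, hc]; exact hsum η b⟩
    have hindep : ∀ c : Fin r → X.presheaf.stalk η, ∑ j, c j • e j = 0 →
        ∀ j, c j ∈ IsLocalRing.maximalIdeal (X.presheaf.stalk η) := fun c hc j => by
      by_contra hu
      refine hq ((IsLocalRing.notMem_maximalIdeal.1 hu).smul_eq_zero.1 ?_)
      have h := congrArg (CohFound.stL (biproduct.π f j) η) hc
      simpa only [map_sum, map_smul, hπe, smul_ite, smul_zero, Finset.sum_ite_eq', Finset.mem_univ, if_true, map_zero] using h
    have hTm : ∀ c ∈ IsLocalRing.maximalIdeal (X.presheaf.stalk η), ∀ a : T.presheaf.stalk η, c • a = 0 := by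
      intro c hc a
      rw [← hsum η a, Finset.smul_sum]
      refine Finset.sum_eq_zero fun j _ => ?_
      obtain ⟨d, hd⟩ := hgen (CohFound.stL (biproduct.π f j) η a)
      rw [← map_smul, ← hd, smul_comm, hqm c hc, smul_zero, map_zero]
    have hT : Coh.IsCoh T := by
      have h := M1.isFP_of_isFinLocFree (M2.isFinLocFree_of_ofRank (M2.isFinLocFreeOfRank_freeMod X r))
      let eT : CohB1.tensorMod (FlatMod.freeMod X r) Q ≅ T :=
        M2.freeModTensorIso X r Q ≪≫ (biproduct.isoCoproduct f).symm
      exact ⟨M1.isQCoh_of_isIso eT (M2.isQCoh_tensor (M1.isFP_isQCoh h) hQ.1),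
        M1.isFT_of_isIso eT (M2.isFT_tensor (M1.isFP_isQCoh h) hQ.1 (M1.isFP_isFT h) hQ.2)⟩
    have hTW : CohB1.support T ⊆ (W : Set X) := fun x hx => by
      by_contra h
      refine (M1.notMem_support_iff T x).2 (fun b => ?_) hx
      rw [← hsum x b]
      exact Finset.sum_eq_zero fun j _ => by
        rw [(M1.notMem_support_iff Q x).1 (fun h' => h (hQW h')) (CohFound.stL (biproduct.π f j) x b), map_zero]
    obtain ⟨U, hU, ⟨φ⟩⟩ := IdealMulL.exists_restrict_iso hG hT e' e hGm hTm hspan' hspan hindep' hindep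
    refine h₂ Q r hQ hr (hP _ _ ⟨biproduct.isoCoproduct f⟩ ?_)
    exact IdealMulL.prop_sigma_of_generic P h₁ hsmall hG hT hTW U hU φ hJ
  · refine IdealMulL.prop_of_cyclic_ext P hP h₁ W η hη hsmall (fun Z i hi hZ hr I ι hι hI => ?_) Q hQ hQW q hq hqm hgen
    have hsub : Set.range i ⊆ Z₀ := by
      rw [hr]
      exact hZ₀.closure_subset_iff.2 (Set.singleton_subset_iff.2 (hW hη))
    refine h₃ Z i hi hZ hsub (fun h => hηξ ?_) I ι hι hI
    exact IsGenericPoint.eq (S := Z₀) (hr.symm.trans h) hξcl

end Groth.Agent.S9522
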