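import Groth.Statements.S9525
import Groth.Agent.Lib.CohMop.ExtSupport
import Groth.Agent.Lib.KFlat.Scheme
import Groth.Agent.Lib.ModM1.Coh
-- import your own Groth.Agent.* helpers here

set_option autoImplicit false
set_option linter.style.haveILetI false
set_option backward.isDefEq.respectTransparency false
set_option backward.isDefEq.respectTransparency.types false
universe u
open Coherent

namespace Groth.Agent.S9525

open CategoryTheory CategoryTheory.Limits AlgebraicGeometry in
/-- Let X be a locally Noetherian scheme, F and G coherent O_X-modules, φ : G → F a morphism and x ∈ X.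
(1) If F_x = 0 there is an open neighbourhood U of x with F|_U = 0. (2) If the stalk map φ_x : G_x →
F_x is injective there is an open neighbourhood U of x with φ|_U injective. (4) If φ_x is bijective
there is an open neighbourhood U of x with φ|_U an isomorphism. (Part (3), surjectivity, is the
finite-type statement valid on any ringed space and is not restated.) -/
theorem result (X : Scheme.{u}) [IsLocallyNoetherian X]
    (F G : X.Modules) (hF : Coh.IsCoh F) (hG : Coh.IsCoh G) (φ : G ⟶ F) (x : X) :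
    (Subsingleton ↑(F.presheaf.stalk x) →
      ∃ U : X.Opens, x ∈ U ∧ IsZero ((Scheme.Modules.restrictFunctor U.ι).obj F)) ∧
    (Function.Injective ((TopCat.Presheaf.stalkFunctor _ x).map φ.mapPresheaf).hom →
      ∃ U : X.Opens, x ∈ U ∧ Mono ((Scheme.Modules.restrictFunctor U.ι).map φ)) ∧
    (Function.Bijective ((TopCat.Presheaf.stalkFunctor _ x).map φ.mapPresheaf).hom →
      ∃ U : X.Opens, x ∈ U ∧ IsIso ((Scheme.Modules.restrictFunctor U.ι).map φ)) := by
  have hopen : ∀ M : X.Modules, Coh.IsCoh M → x ∉ CohB1.support M →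
      ∃ U : X.Opens, x ∈ U ∧ IsZero ((Scheme.Modules.restrictFunctor U.ι).obj M) := fun M hM hx =>
    ⟨⟨(CohB1.support M)ᶜ, (M1.isClosed_support hM.2).isOpen_compl⟩, hx,
      CohMop.isZero_restrict_of_support _ fun y hy => hy⟩
  have hker : Function.Injective ((M1.stalkAb x).map φ) → x ∉ CohB1.support (kernel φ) := fun h =>
    (M1.notMem_support_iff _ x).2 fun a => by
      apply (KFlat.Sch.mono_iff_stalk (kernel.ι φ)).1 inferInstance x
      rw [map_zero]
      apply h
      rw [map_zero, ← CategoryTheory.comp_apply, ← (M1.stalkAb x).map_comp, kernel.condition, Functor.map_zero]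
      rfl
  have hmono : Function.Injective ((M1.stalkAb x).map φ) →
      ∃ U : X.Opens, x ∈ U ∧ Mono ((Scheme.Modules.restrictFunctor U.ι).map φ) := fun h => by
    obtain ⟨U, hxU, hU⟩ := hopen _ (M1.isCoh_kernel hG hF.1 φ) (hker h)
    refine ⟨U, hxU, Abelian.mono_of_kernel_ι_eq_zero _ ?_⟩
    exact (hU.of_iso (PreservesKernel.iso (Scheme.Modules.restrictFunctor U.ι) φ).symm).eq_of_src _ _
  refine ⟨fun h => hopen F hF ((M1.notMem_support_iff _ x).2 fun a => @Subsingleton.elim _ h _ _), hmono, fun h => ?_⟩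
  obtain ⟨U₁, hx₁, h₁⟩ := hmono h.1
  obtain ⟨U₂, hx₂, h₂⟩ := hopen _ (M1.isCoh_cokernel hG.1 hF φ) ((M1.notMem_support_iff _ x).2 fun c => by
    obtain ⟨b, rfl⟩ := (M1.epi_iff_stalk (cokernel.π φ)).1 inferInstance x c
    obtain ⟨a, rfl⟩ := h.2 b
    show (M1.stalkAb x).map (cokernel.π φ) ((M1.stalkAb x).map φ a) = 0
    rw [← CategoryTheory.comp_apply, ← (M1.stalkAb x).map_comp, cokernel.condition, Functor.map_zero]
    rfl)
  refine ⟨U₁ ⊓ U₂, ⟨hx₁, hx₂⟩, ?_⟩
  have hm : ∀ (V W : X.Opens) (hVW : V ≤ W) (M : X.Modules),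
      IsZero ((Scheme.Modules.restrictFunctor W.ι).obj M) → IsZero ((Scheme.Modules.restrictFunctor V.ι).obj M) :=
    fun V W hVW M hz => ((Scheme.Modules.restrictFunctor (X.homOfLE hVW)).map_isZero hz).of_iso
      (M1.restrictRestrictIso M W.ι (X.homOfLE hVW) V.ι (X.homOfLE_ι hVW)).symm
  haveI : Mono ((Scheme.Modules.restrictFunctor (U₁ ⊓ U₂).ι).map φ) :=
    Abelian.mono_of_kernel_ι_eq_zero _ (((hm _ U₁ inf_le_left _ (by
      haveI := h₁
      exact (isZero_kernel_of_mono _).of_iso (PreservesKernel.iso (Scheme.Modules.restrictFunctor U₁.ι) φ))).of_iso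
      (PreservesKernel.iso (Scheme.Modules.restrictFunctor (U₁ ⊓ U₂).ι) φ).symm).eq_of_src _ _)
  haveI : Epi ((Scheme.Modules.restrictFunctor (U₁ ⊓ U₂).ι).map φ) :=
    Abelian.epi_of_cokernel_π_eq_zero _ (((hm _ U₂ inf_le_right _ h₂).of_iso
      (PreservesCokernel.iso (Scheme.Modules.restrictFunctor (U₁ ⊓ U₂).ι) φ).symm).eq_of_tgt _ _)
  exact isIso_of_mono_of_epi _

end Groth.Agent.S9525
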