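import Groth.Statements.S9526
import Groth.Agent.Lib.CohMop.StalkHomSpread
-- import your own Groth.Agent.* helpers here

set_option autoImplicit false
set_option linter.style.haveILetI false
set_option backward.isDefEq.respectTransparency.types false
universe u
open Coherent

namespace Groth.Agent.S9526

open CategoryTheory CategoryTheory.Limits AlgebraicGeometry in
/-- Let X be a locally Noetherian scheme, F and G coherent O_X-modules, x ∈ X and ψ : G_x → F_x an
O_{X,x}-linear map. Then there are an open neighbourhood U of x and a morphism φ : G|_U → F|_U with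
φ_x = ψ (the stalk map of φ at x, composed with the canonical identifications of the stalks of G|_U
and F|_U at x with G_x and F_x, is ψ). -/
theorem result (X : Scheme.{u}) [IsLocallyNoetherian X]
    (F G : X.Modules) (hF : Coh.IsCoh F) (hG : Coh.IsCoh G) (x : X)
    (ψ : ↑(G.presheaf.stalk x) →ₗ[X.presheaf.stalk x] ↑(F.presheaf.stalk x)) :
    ∃ (U : X.Opens) (hx : x ∈ U)
      (φ : (Scheme.Modules.restrictFunctor U.ι).obj G ⟶ (Scheme.Modules.restrictFunctor U.ι).obj F),
      (Scheme.Modules.restrictStalkNatIso U.ι (⟨x, hx⟩ : U)).inv.app G ≫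
          (TopCat.Presheaf.stalkFunctor _ (⟨x, hx⟩ : U)).map φ.mapPresheaf ≫
            (Scheme.Modules.restrictStalkNatIso U.ι (⟨x, hx⟩ : U)).hom.app F =
        AddCommGrpCat.ofHom ψ.toAddMonoidHom := by
  haveI := hG.1
  obtain ⟨W, hx, g, hg⟩ := Groth.Agent.RH26.exists_homSh_of_stalk (Groth.Agent.M1.isFP_of_isCoh hG) x ψ
  obtain ⟨φ, hφ⟩ := Groth.Agent.RH26.exists_restrictHom G F W g
  refine ⟨W, hx, φ, AddCommGrpCat.hom_ext (AddMonoidHom.ext fun v => ?_)⟩
  refine (hφ ⟨x, hx⟩ (((Scheme.Modules.restrictStalkNatIso W.ι (⟨x, hx⟩ : W)).inv.app G).hom v)).trans ?_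
  rw [hg]
  exact congrArg ψ (ConcreteCategory.congr_hom ((Scheme.Modules.restrictStalkNatIso W.ι (⟨x, hx⟩ : W)).inv_hom_id_app G) v)

end Groth.Agent.S9526
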