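import Groth.Statements.S9531
import Groth.Agent.Lib.Algz27.Extends27
-- import your own Groth.Agent.* helpers here

set_option autoImplicit false
universe u
open CategoryTheory CategoryTheory.Limits AlgebraicGeometry Opposite
open Algz

namespace Groth.Agent.S9531

/-- Let A be a Noetherian ring, I ⊆ 𝔞 ideals, U = Spec A ∖ V(𝔞), and take (F_n) in Coh(U, I O_U).
Suppose (F_n) extends canonically to Spec A; then (F_n) extends to Spec A: there is an object of
Coh(Spec A, I O) whose restriction to U is isomorphic to (F_n). (Spec A is regarded over itself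
through the identity.) -/
theorem result (A : Type u) [CommRing A] [IsNoetherianRing A] (I 𝔞 : Ideal A) (hI𝔞 : I ≤ 𝔞)
    (G : ℕᵒᵖ ⥤ (↑(LocCoh.puncturedOpen A 𝔞) : Scheme.{u}).Modules) (hG : Formal.IsCohFormal I G)
    (h : Algz.CanonicallyExtends A I (LocCoh.puncturedOpen A 𝔞) G) :
    @Algz.Extends A _ (Spec (CommRingCat.of A)) ⟨𝟙 (Spec (CommRingCat.of A))⟩ I (LocCoh.puncturedOpen A 𝔞) G := by
  letI : (Spec (CommRingCat.of A)).Over (Spec (CommRingCat.of A)) := ⟨𝟙 (Spec (CommRingCat.of A))⟩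
  obtain ⟨G', hG', hpro⟩ := h
  haveI := PunctFree27.quasiCompact_puncturedOpen 𝔞 (IsNoetherian.noetherian 𝔞)
  refine ⟨G', hG', ?_⟩
  obtain ⟨e₀⟩ := Algz27C.nonempty_sectSys_restrict (LocCoh.puncturedOpen A 𝔞) G (fun k => (hG.1 k.unop).1)
  obtain ⟨e⟩ := AlgzLib.nonempty_iso_of_isProIsomorphic hG
    (Algz27C.isCohFormal_restrict (LocCoh.puncturedOpen A 𝔞).ι rfl hG')
    (Algz27C.isProIsomorphic_of_iso e₀ (Algz27C.isProIsomorphic_map (Scheme.Modules.restrictFunctor (LocCoh.puncturedOpen A 𝔞).ι) hpro))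
  exact ⟨e.symm⟩

end Groth.Agent.S9531
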