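import Groth.Statements.S9538
import Groth.Agent.Lib.Algz27.Extends27
import Groth.Agent.Lib.ParaFDesc27.QcqsBC
import Groth.Agent.Lib.FormalH7.ModLim
-- import your own Groth.Agent.* helpers here

set_option autoImplicit false
universe u
open CategoryTheory CategoryTheory.Limits AlgebraicGeometry Opposite
open Algz

open CategoryTheory CategoryTheory.Limits AlgebraicGeometry Opposite

noncomputable section

namespace Groth.Agent.Algz27Flat

open Groth.Agent.FormalH7

variable {A : Type u} [CommRing A]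

theorem smulMod_algebraMap {A' : Type u} [CommRing A'] [Algebra A A'] (M : (Spec (CommRingCat.of A')).Modules) (a : A) :
    @Formal.smulMod A _ _ ⟨Spec.map (CommRingCat.ofHom (algebraMap A A'))⟩ M a =
      @Formal.smulMod A' _ _ ⟨𝟙 _⟩ M (algebraMap A A' a) := by
  refine congrArg (Formal.smulModΓ M) ?_
  show (Spec.map (CommRingCat.ofHom (algebraMap A A'))).appTop ((Scheme.ΓSpecIso (CommRingCat.of A)).inv a) =
    (𝟙 (Spec (CommRingCat.of A')) : _).appTop ((Scheme.ΓSpecIso (CommRingCat.of A')).inv (algebraMap A A' a))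
  exact (ConcreteCategory.congr_hom (Scheme.ΓSpecIso_inv_naturality (CommRingCat.ofHom (algebraMap A A'))) a).symm

theorem bc0_natural {X S X' S' : Scheme.{u}} (f : X ⟶ S) (g : S' ⟶ S) (f' : X' ⟶ S') (g' : X' ⟶ X)
    (w : g' ≫ f = f' ≫ g) {M N : X.Modules} (φ : M ⟶ N) :
    (Scheme.Modules.pullback g).map ((Scheme.Modules.pushforward f).map φ) ≫ CohBC.bc0 f g f' g' w N =
      CohBC.bc0 f g f' g' w M ≫ (Scheme.Modules.pushforward f').map ((Scheme.Modules.pullback g').map φ) := by
  apply ((Scheme.Modules.pullbackPushforwardAdjunction g).homEquiv _ _).injective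
  rw [Adjunction.homEquiv_naturality_left, Adjunction.homEquiv_naturality_right]
  simp only [CohBC.bc0, Equiv.apply_symm_apply, CohBC.bc0Adj, Category.assoc]
  have hu := congrArg (Scheme.Modules.pushforward f).map
    ((Scheme.Modules.pullbackPushforwardAdjunction g').unit.naturality φ)
  simp only [Functor.id_map, Functor.comp_map, Functor.map_comp] at hu
  rw [reassoc_of% hu]
  let t := (Scheme.Modules.pullback g').map φ
  erw [(Scheme.Modules.pushforwardComp g' f).hom.naturality_assoc t, (Scheme.Modules.pushforwardCongr w).hom.naturality_assoc t,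
    (Scheme.Modules.pushforwardComp f' g).inv.naturality t]

theorem main (A : Type u) [CommRing A] [IsNoetherianRing A] (I : Ideal A) (A' : Type u) [CommRing A'] [Algebra A A']
    [Module.Flat A A'] (U : (Spec (CommRingCat.of A)).Opens) (G : ℕᵒᵖ ⥤ (U : Scheme.{u}).Modules)
    (hq : ∀ k, Coh.IsQCoh (G.obj k))
    (G' : ℕᵒᵖ ⥤ (Spec (CommRingCat.of A)).Modules)
    (hG' : @Formal.IsCohFormal A _ (Spec (CommRingCat.of A)) ⟨𝟙 _⟩ I G')
    (hP : Algz.IsProIsomorphic (Algz.sectSys A U G) G') :
    @Formal.IsCohFormal A' _ (Spec (CommRingCat.of A')) ⟨𝟙 _⟩ (I.map (algebraMap A A'))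
      (G' ⋙ Scheme.Modules.pullback (Spec.map (CommRingCat.ofHom (algebraMap A A')))) ∧
    Algz.IsProIsomorphic (Algz.sectSys A' (Spec.map (CommRingCat.ofHom (algebraMap A A')) ⁻¹ᵁ U)
        (G ⋙ Scheme.Modules.pullback (morphismRestrict (Spec.map (CommRingCat.ofHom (algebraMap A A'))) U)))
      (G' ⋙ Scheme.Modules.pullback (Spec.map (CommRingCat.ofHom (algebraMap A A')))) := by
  let g := Spec.map (CommRingCat.ofHom (algebraMap A A'))
  letI : (Spec (CommRingCat.of A)).Over (Spec (CommRingCat.of A)) := ⟨𝟙 _⟩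
  have hkey : ∀ (M : (Spec (CommRingCat.of A')).Modules) {N : (Spec (CommRingCat.of A')).Modules} (p : M ⟶ N) (J : Ideal A),
      (∀ a ∈ J, @Formal.smulMod A _ _ ⟨g⟩ M a ≫ p = 0) →
      ∀ b ∈ J.map (algebraMap A A'), @Formal.smulMod A' _ _ ⟨𝟙 _⟩ M b ≫ p = 0 := by
    intro M N p J hJ b hb
    letI : (Spec (CommRingCat.of A')).Over (Spec (CommRingCat.of A')) := ⟨𝟙 _⟩
    induction hb using Submodule.span_induction with
    | mem x hx =>
      obtain ⟨a, ha, rfl⟩ := hx
      rw [← smulMod_algebraMap]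
      exact hJ a ha
    | zero =>
      refine Scheme.Modules.hom_ext _ _ fun V => ?_
      ext s
      rw [Scheme.Modules.Hom.comp_app, CategoryTheory.comp_apply, FormalH7.smulMod_app, ← multHom_apply, map_zero, zero_smul,
        map_zero]
      rfl
    | add x y _ _ hx hy =>
      refine Scheme.Modules.hom_ext _ _ fun V => ?_
      ext s
      have hx' := congrArg (fun t => t.app V s) hx
      have hy' := congrArg (fun t => t.app V s) hy
      simp only [Scheme.Modules.Hom.comp_app, CategoryTheory.comp_apply, FormalH7.smulMod_app, ← multHom_apply] at hx' hy' ⊢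
      rw [map_add, add_smul, map_add, hx', hy']
      exact add_zero _
    | smul c x _ hx =>
      rw [smul_eq_mul, mul_comm, FormalH7.smulMod_mul, Category.assoc, hx, comp_zero]
  refine ⟨⟨fun n => M1.isCoh_pullback g (hG'.1 n), fun n b hb => ?_, fun n => ?_⟩, ?_⟩
  · letI : (Spec (CommRingCat.of A')).Over (Spec (CommRingCat.of A)) := ⟨g⟩
    have hk := killedBy_pullback g (Category.comp_id _) (hG'.2.1 n)
    rw [← Ideal.map_pow] at hb
    simpa using hkey _ (𝟙 _) _ (fun a ha => by rw [Category.comp_id]; exact hk a ha) b hb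
  · let M := ((G' ⋙ Scheme.Modules.pullback g).obj (op (n + 1)))
    letI : (Spec (CommRingCat.of A')).Over (Spec (CommRingCat.of A)) := ⟨g⟩
    obtain ⟨h0, hi⟩ := hG'.2.2 n
    obtain ⟨h', hi'⟩ := isQuot_pullback g (Category.comp_id _) _ h0 hi
    let p := (G' ⋙ Scheme.Modules.pullback g).map (homOfLE (Nat.le_succ n)).op
    letI iA' : (Spec (CommRingCat.of A')).Over (Spec (CommRingCat.of A')) := ⟨𝟙 _⟩
    have h1 : @Formal.smulFamily A' _ _ iA' (I.map (algebraMap A A') ^ (n + 1)) M ≫ p = 0 :=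
      (smulFamily_comp_eq_zero_iff _).2 fun b hb =>
        hkey M p _ ((smulFamily_comp_eq_zero_iff _).1 h') b (by rwa [Ideal.map_pow])
    refine ⟨h1, ?_⟩
    have h2 : @Formal.smulFamily A _ _ ⟨g⟩ (I ^ (n + 1)) M ≫
        cokernel.π (@Formal.smulFamily A' _ _ iA' (I.map (algebraMap A A') ^ (n + 1)) M) = 0 :=
      (smulFamily_comp_eq_zero_iff _).2 fun a ha => by
        rw [smulMod_algebraMap]
        refine (smulFamily_comp_eq_zero_iff _).1 (cokernel.condition _) _ ?_
        rw [← Ideal.map_pow]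
        exact Ideal.mem_map_of_mem _ ha
    haveI := hi'
    have e1 : cokernel.π (@Formal.smulFamily A _ _ ⟨g⟩ (I ^ (n + 1)) M) ≫ cokernel.desc _ _ h' = p := cokernel.π_desc _ _ _
    let ε := @asIso _ _ _ _ _ hi'
    refine ⟨ε.inv ≫ cokernel.desc _ _ h2, ?_, ?_⟩
    · rw [← cancel_epi (cokernel.π _), cokernel.π_desc_assoc]
      refine Eq.trans ?_ (Category.comp_id _).symm
      exact ((Category.assoc _ _ _).symm.trans (congrArg (· ≫ _) ((Iso.comp_inv_eq ε).2 e1.symm))).trans
        (cokernel.π_desc _ _ _)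
    · rw [Category.assoc]
      refine (Iso.inv_comp_eq ε).2 ?_
      refine Eq.trans ?_ (Category.comp_id _).symm
      rw [← cancel_epi (cokernel.π _)]
      exact ((cokernel.π_desc_assoc _ _ _ _).trans (cokernel.π_desc _ _ _)).trans e1.symm
  · haveI : AlgebraicGeometry.Flat g :=
      (HasRingHomProperty.Spec_iff (P := @AlgebraicGeometry.Flat)).2 (RingHom.flat_algebraMap_iff.2 inferInstance)
    have hsq := isPullback_morphismRestrict g U
    haveI : QuasiCompact (g ⁻¹ᵁ U).ι := MorphismProperty.of_isPullback hsq (inferInstanceAs (QuasiCompact U.ι))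
    let β : (G ⋙ Scheme.Modules.pushforward U.ι) ⋙ Scheme.Modules.pullback g ⟶
        (G ⋙ Scheme.Modules.pullback (g ∣_ U)) ⋙ Scheme.Modules.pushforward (g ⁻¹ᵁ U).ι :=
      { app := fun k => CohBC.bc0 U.ι g (g ⁻¹ᵁ U).ι (g ∣_ U) hsq.w (G.obj k)
        naturality := fun k l φ => bc0_natural _ _ _ _ hsq.w (G.map φ) }
    haveI : ∀ k, IsIso (β.app k) := fun k => by
      haveI := hq k
      exact ParaFDesc27.isIso_bc0_of_flat hsq (G.obj k)
    haveI := NatIso.isIso_of_isIso_app β
    let α : Algz.sectSys A U G ⟶ G ⋙ Scheme.Modules.pushforward U.ι :=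
      Functor.whiskerLeft (G ⋙ Scheme.Modules.pushforward U.ι)
        (Scheme.Modules.fromTildeΓNatTrans (R := CommRingCat.of A))
    haveI : ∀ k, IsIso (α.app k) := fun k =>
      @Scheme.Modules.isIso_fromTildeΓ_of_isQuasicoherent (CommRingCat.of A) _ (M1.isQCoh_push U.ι (hq k))
    haveI := NatIso.isIso_of_isIso_app α
    let G2 := G ⋙ Scheme.Modules.pullback (g ∣_ U)
    let α' : Algz.sectSys A' (g ⁻¹ᵁ U) G2 ⟶ G2 ⋙ Scheme.Modules.pushforward (g ⁻¹ᵁ U).ι :=
      Functor.whiskerLeft (G2 ⋙ Scheme.Modules.pushforward (g ⁻¹ᵁ U).ι)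
        (Scheme.Modules.fromTildeΓNatTrans (R := CommRingCat.of A'))
    haveI : ∀ k, IsIso (α'.app k) := fun k =>
      @Scheme.Modules.isIso_fromTildeΓ_of_isQuasicoherent (CommRingCat.of A') _
        (M1.isQCoh_push (g ⁻¹ᵁ U).ι (M1.isQCoh_pullback (g ∣_ U) (hq k)))
    haveI := NatIso.isIso_of_isIso_app α'
    exact Algz27C.isProIsomorphic_of_iso
      (Functor.isoWhiskerRight (asIso α) (Scheme.Modules.pullback g) ≪≫ asIso β ≪≫ (asIso α').symm)
      (Algz27C.isProIsomorphic_map (Scheme.Modules.pullback g) hP)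

end Groth.Agent.Algz27Flat

end

namespace Groth.Agent.S9538

/-- Let A be a Noetherian ring, I ⊆ 𝔞 ideals, U = Spec A ∖ V(𝔞), (F_n) an object of Coh(U, I O_U), A →
A' a flat ring map with f : Spec A' → Spec A, U' the inverse image of U, and (F'_n) the pullback of
(F_n) along the restriction of f over U. If (F_n) canonically extends to Spec A, then (F'_n)
canonically extends to Spec A' for the ideal I A'. (The second assertion, that the canonical
extension pulls back to the canonical extension, is not stated.) -/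
theorem result (A : Type u) [CommRing A] [IsNoetherianRing A] (I 𝔞 : Ideal A) (hI𝔞 : I ≤ 𝔞)
    (G : ℕᵒᵖ ⥤ (↑(LocCoh.puncturedOpen A 𝔞) : Scheme.{u}).Modules) (hG : Formal.IsCohFormal I G)
    (A' : Type u) [CommRing A'] [Algebra A A'] [Module.Flat A A']
    (h : Algz.CanonicallyExtends A I (LocCoh.puncturedOpen A 𝔞) G) :
    Algz.CanonicallyExtends A' (I.map (algebraMap A A')) (Spec.map (CommRingCat.ofHom (algebraMap A A')) ⁻¹ᵁ (LocCoh.puncturedOpen A 𝔞))
      (G ⋙ Scheme.Modules.pullback (morphismRestrict (Spec.map (CommRingCat.ofHom (algebraMap A A'))) (LocCoh.puncturedOpen A 𝔞))) := by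
  classical
  obtain ⟨G', hG', hP⟩ := h
  obtain ⟨hI, hI2⟩ := Groth.Agent.Algz27Flat.main A I A' (LocCoh.puncturedOpen A 𝔞) G (fun k => (hG.1 k.unop).1) G' hG' hP
  exact ⟨_, hI, hI2⟩


end Groth.Agent.S9538
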