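import Groth.Statements.S9543
import Groth.Agent.Lib.QAffFormalH7.Torsion

set_option autoImplicit false
universe u
open CategoryTheory
open Formal2

namespace Groth.Agent.S9543

open AlgebraicGeometry Opposite in
/-- Let A be a Noetherian ring, f an element of an ideal 𝔞 with A complete for the f-adic topology, U =
Spec A ∖ V(𝔞), and assume that H^1_𝔞(A) and H^2_𝔞(A) are each annihilated by a power of f. Then the
completion functor for the ideal (f) is fully faithful on finite locally free O_U-modules. (The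
published statement writes the target category with an unnamed ideal I; the proof is for the ideal
(f), which is what is stated.) -/
theorem result (A : Type u) [CommRing A]
    [IsNoetherianRing A] (𝔞 : Ideal A) (f : A) (hf : f ∈ 𝔞) [IsAdicComplete (Ideal.span {f}) A]
    (h₁ : ∃ n : ℕ, ∀ x : LocCoh.H 𝔞 1 A, f ^ n • x = 0) (h₂ : ∃ n : ℕ, ∀ x : LocCoh.H 𝔞 2 A, f ^ n • x = 0) :
    ∀ (E E' : (↑(LocCoh.puncturedOpen A 𝔞) : Scheme.{u}).Modules), FlatMod.IsFinLocFree E → FlatMod.IsFinLocFree E' →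
      ∀ ψ : Formal.completion (Ideal.span {f}) E ⟶ Formal.completion (Ideal.span {f}) E',
        ∃! φ : E ⟶ E', ∀ n : ℕ, Formal.modPowπ (Ideal.span {f}) (n + 1) E ≫ ψ.app (op n) = φ ≫ Formal.modPowπ (Ideal.span {f}) (n + 1) E' := by
  intro E E' hE hE' ψ
  haveI := Groth.Agent.PunctFree27.quasiCompact_puncturedOpen 𝔞 (IsNoetherian.noetherian 𝔞)
  haveI : IsLocallyNoetherian (↑(LocCoh.puncturedOpen A 𝔞) : Scheme.{u}) :=
    LocallyOfFiniteType.isLocallyNoetherian (LocCoh.puncturedOpen A 𝔞).ι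
  haveI : CompactSpace (↑(LocCoh.puncturedOpen A 𝔞) : Scheme.{u}) :=
    QuasiCompact.compactSpace_of_compactSpace (LocCoh.puncturedOpen A 𝔞).ι
  haveI : AlgebraicGeometry.IsNoetherian (↑(LocCoh.puncturedOpen A 𝔞) : Scheme.{u}) := ⟨⟩
  exact HomShH7.existsUnique_hom_of_bijective ((M1.isCoh_iff_isFP E).2 (M1.isFP_of_isFinLocFree hE))
    ((M1.isCoh_iff_isFP E').2 (M1.isFP_of_isFinLocFree hE'))
    (QAffFormalH7.bijective_toHHlim_of_torsion 𝔞 f h₁ h₂ _ (HomShH7.isFinLocFree_homMod hE hE')) ψ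

end Groth.Agent.S9543
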