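import Groth.Statements.S9553
import Groth.Agent.Lib.Algz27.Sect27
import Groth.Agent.Lib.ModM1.Coh
import Groth.Agent.Lib.PunctFree27.Scheme

set_option autoImplicit false
set_option linter.style.haveILetI false
universe u
open CategoryTheory CategoryTheory.Limits AlgebraicGeometry Opposite
open Algz

namespace Groth.Agent.S9553

open Groth.Agent.Algz27C

noncomputable section

theorem exists_range_fac {R : Type u} [CommRing R] {Q T P : ModuleCat.{u} R} (φ : Q ⟶ T) (p : Q ⟶ P)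
    (h : LinearMap.ker φ.hom ≤ LinearMap.ker p.hom) :
    ∃ g : ModuleCat.of R (LinearMap.range φ.hom) ⟶ P, ModuleCat.ofHom φ.hom.rangeRestrict ≫ g = p := by
  refine ⟨ModuleCat.ofHom ((LinearMap.ker φ.hom).liftQ p.hom h ∘ₗ φ.hom.quotKerEquivRange.symm.toLinearMap), ?_⟩
  ext q
  change ((LinearMap.ker φ.hom).liftQ p.hom h) (φ.hom.quotKerEquivRange.symm ⟨φ.hom q, _⟩) = p.hom q
  rw [LinearMap.quotKerEquivRange_symm_apply_image]
  rfl

variable {R : CommRingCat.{u}} (U : (Spec R).Opens)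

theorem exists_mono_fac {Q T P : ModuleCat.{u} R} (φ : Q ⟶ T) (p : Q ⟶ P)
    (h : LinearMap.ker φ.hom ≤ LinearMap.ker p.hom) :
    ∃ (S : ModuleCat.{u} R) (r : Q ⟶ S) (ι : S ⟶ T) (g : S ⟶ P), Mono ι ∧ r ≫ ι = φ ∧ r ≫ g = p := by
  obtain ⟨g, hg⟩ := exists_range_fac φ p h
  exact ⟨_, ModuleCat.ofHom φ.hom.rangeRestrict, ModuleCat.ofHom (LinearMap.range φ.hom).subtype, g,
    (ModuleCat.mono_iff_injective _).2 Subtype.val_injective, rfl, hg⟩

theorem isCoh_tildeRes_quot [IsLocallyNoetherian (U : Scheme.{u})] [(tildeRes U).PreservesMonomorphisms] {F : (U : Scheme.{u}).Modules}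
    (hF : Coh.IsCoh F) {Q T P : ModuleCat.{u} R} (φ : Q ⟶ T) (a : (tildeRes U).obj T ⟶ F) (ha : Mono a) (p : Q ⟶ P) [Epi p]
    (h : LinearMap.ker φ.hom ≤ LinearMap.ker p.hom) : Coh.IsCoh ((tildeRes U).obj P) := by
  obtain ⟨S, r, ι, g, hι, -, rfl⟩ := exists_mono_fac φ p h
  haveI := hι
  haveI := ha
  haveI := preservesEpimorphisms_tildeRes U
  haveI : Epi g := epi_of_epi r g
  haveI : Mono ((tildeRes U).map ι) := Functor.map_mono _ _
  haveI : Mono ((tildeRes U).map ι ≫ a) := mono_comp _ _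
  have hq : ∀ M : ModuleCat.{u} R, Coh.IsQCoh ((tildeRes U).obj M) := fun M =>
    M1.isQCoh_restrict (show Coh.IsQCoh ((tilde.functor R).obj M) from inferInstanceAs (Coh.IsQCoh (tilde M))) U.ι
  exact ⟨hq _, M1.isFT_of_epi ((tildeRes U).map g) (M1.isCoh_of_mono ((tildeRes U).map ι ≫ a) hF (hq _)).2⟩

theorem tilde_app_eq_zero [(tilde.functor R).PreservesMonomorphisms] {C : (Spec R).Modules}
    {Q T P : ModuleCat.{u} R} (φ : Q ⟶ T) (a : (tilde.functor R).obj T ⟶ C) [Mono a] (p : Q ⟶ P)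
    (h : LinearMap.ker φ.hom ≤ LinearMap.ker p.hom) (D : (Spec R).Opens) (x : Γ((tilde.functor R).obj Q, D))
    (hx : Scheme.Modules.Hom.app ((tilde.functor R).map φ ≫ a) D x = 0) :
    Scheme.Modules.Hom.app ((tilde.functor R).map p) D x = 0 := by
  obtain ⟨S, r, ι, g, hι, rfl, rfl⟩ := exists_mono_fac φ p h
  haveI := hι
  haveI : Mono ((tilde.functor R).map ι) := Functor.map_mono _ _
  haveI : Mono ((tilde.functor R).map ι ≫ a) := mono_comp _ _
  rw [Functor.map_comp, Category.assoc, Scheme.Modules.Hom.comp_app] at hx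
  have h0 : Scheme.Modules.Hom.app ((tilde.functor R).map r) D x = 0 :=
    M1.app_injective ((tilde.functor R).map ι ≫ a) D (hx.trans (map_zero _).symm)
  rw [Functor.map_comp, Scheme.Modules.Hom.comp_app]
  change Scheme.Modules.Hom.app ((tilde.functor R).map g) D (Scheme.Modules.Hom.app ((tilde.functor R).map r) D x) = 0
  rw [h0]
  exact map_zero _

theorem app_comp_apply {X : Scheme.{u}} {M N P : X.Modules} (f : M ⟶ N) (g : N ⟶ P) (D : X.Opens) (s : Γ(M, D)) :
    Scheme.Modules.Hom.app (f ≫ g) D s = Scheme.Modules.Hom.app g D (Scheme.Modules.Hom.app f D s) := rfl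

theorem exists_iterate {L : ModuleCat.{u} R} (Q : ℕ → ModuleCat.{u} R) (τ : ∀ n, Q (n + 1) ⟶ Q n)
    (π : ∀ n, L ⟶ Q n) (hπ : ∀ n, π (n + 1) ≫ τ n = π n)
    (D : (Spec R).Opens) (x : ∀ n : ℕ, Γ((tilde.functor R).obj (Q n), D))
    (hcomp : ∀ n : ℕ, Scheme.Modules.Hom.app ((tilde.functor R).map (τ n)) D (x (n + 1)) = x n)
    (n : ℕ) : ∀ k : ℕ, ∃ t : Q (n + k) ⟶ Q n,
      π (n + k) ≫ t = π n ∧ Scheme.Modules.Hom.app ((tilde.functor R).map t) D (x (n + k)) = x n := by
  intro k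
  induction k with
  | zero =>
    refine ⟨𝟙 (Q n), Category.comp_id _, ?_⟩
    exact (congrArg (fun e => Scheme.Modules.Hom.app e D (x n)) ((tilde.functor R).map_id (Q n))).trans rfl
  | succ k ih =>
    obtain ⟨t, ht, htx⟩ := ih
    refine ⟨τ (n + k) ≫ t, (Category.assoc _ _ _).symm.trans ((congrArg (· ≫ t) (hπ (n + k))).trans ht), ?_⟩
    exact (congrArg (fun e => Scheme.Modules.Hom.app e D (x (n + k + 1))) ((tilde.functor R).map_comp (τ (n + k)) t)).trans
      ((app_comp_apply _ _ D _).trans ((congrArg _ (hcomp (n + k))).trans htx))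

theorem eq_zero_of_iterate {L : ModuleCat.{u} R} (Q : ℕ → ModuleCat.{u} R) (τ : ∀ n, Q (n + 1) ⟶ Q n)
    (π : ∀ n, L ⟶ Q n) (hπ : ∀ n, π (n + 1) ≫ τ n = π n) (hs : ∀ n, Function.Surjective (π n))
    (D : (Spec R).Opens) (x : ∀ n : ℕ, Γ((tilde.functor R).obj (Q n), D))
    (hcomp : ∀ n : ℕ, Scheme.Modules.Hom.app ((tilde.functor R).map (τ n)) D (x (n + 1)) = x n)
    [(tilde.functor R).PreservesMonomorphisms] (n j : ℕ) {C : (Spec R).Modules}
    [IsIso ((tilde.adjunction (R := R)).counit.app C)] (l : Q (n + j) ⟶ (moduleSpecΓFunctor (R := R)).obj C)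
    (hl : ∀ y : L, (π (n + j) ≫ l) y = 0 → π n y = 0)
    (hx : Scheme.Modules.Hom.app (((tilde.adjunction (R := R)).homEquiv _ C).symm l) D (x (n + j)) = 0) :
    x n = 0 := by
  obtain ⟨t, ht, htx⟩ := exists_iterate Q τ π hπ D x hcomp n j
  rw [← htx]
  rw [Adjunction.homEquiv_counit] at hx
  refine tilde_app_eq_zero l _ t ?_ D _ hx
  intro y hy
  obtain ⟨y, rfl⟩ := hs (n + j) y
  exact (congr($ht y)).trans (hl y hy)

end

end Groth.Agent.S9553

namespace Groth.Agent.S9553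

/-- Let A be a Noetherian ring, I ⊆ 𝔞 ideals, U = Spec A ∖ V(𝔞) with inclusion j, (F_n) an object of
Coh(U, I O_U), M = lim_n H^0(U, F_n) and G_n = (M/I^(n+1)M)~ (positions shifted by one). Assume the
limit topology of M agrees with the I-adic one: for every k some kernel of M → H^0(U, F_n) lies in
I^k M. Let ℓ_n : M/I^(n+1)M → H^0(U, F_n) = Γ(Spec A, j_*F_n) be the factorisations of the
projections (they exist since F_n is killed by I^(n+1); they are pinned here by that property) and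
G_n → j_*F_n the adjoint maps. Then (i) each G_n|_U is coherent, and (ii) the resulting morphism
(G_n|_U) → (F_n) of inverse systems is a monomorphism in Coh(U, I O_U) (an abelian category), in the
form the printed proof establishes: for every f ∈ 𝔞, a family of sections of the G_n over D(f),
compatible under the transition maps, whose images in the Γ(D(f), j_*F_n) = Γ(D(f) ∩ U, F_n) all
vanish, is zero. -/
theorem result (A : Type u) [CommRing A] [IsNoetherianRing A] (I 𝔞 : Ideal A) (hI𝔞 : I ≤ 𝔞)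
    (G : ℕᵒᵖ ⥤ (↑(LocCoh.puncturedOpen A 𝔞) : Scheme.{u}).Modules) (hG : Formal.IsCohFormal I G)
    (hb : ∀ k : ℕ, ∃ n : ℕ, LinearMap.ker (limit.π (Algz.sectMod A (LocCoh.puncturedOpen A 𝔞) G) (op n)).hom ≤
      I ^ k • (⊤ : Submodule A ↑(limit (Algz.sectMod A (LocCoh.puncturedOpen A 𝔞) G))))
    (ℓ : ∀ n : ℕ, ModuleCat.of A (Formal2.quotPow A I ↑(limit (Algz.sectMod A (LocCoh.puncturedOpen A 𝔞) G)) n) ⟶ (Algz.sectMod A (LocCoh.puncturedOpen A 𝔞) G).obj (op n))
    (hℓ : ∀ n : ℕ, ModuleCat.ofHom (Formal2.quotPowπ A I ↑(limit (Algz.sectMod A (LocCoh.puncturedOpen A 𝔞) G)) n) ≫ ℓ n = limit.π (Algz.sectMod A (LocCoh.puncturedOpen A 𝔞) G) (op n)) :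
    (∀ n : ℕ, Coh.IsCoh ((Scheme.Modules.restrictFunctor (LocCoh.puncturedOpen A 𝔞).ι).obj (Formal2.tmod A (Formal2.quotPow A I ↑(limit (Algz.sectMod A (LocCoh.puncturedOpen A 𝔞) G)) n)))) ∧
    ∀ (f : A), f ∈ 𝔞 →
      ∀ x : (∀ n : ℕ, (Scheme.Modules.presheaf (Formal2.tmod A (Formal2.quotPow A I ↑(limit (Algz.sectMod A (LocCoh.puncturedOpen A 𝔞) G)) n))).obj (op (PrimeSpectrum.basicOpen f : (Spec (CommRingCat.of A)).Opens))),
        (∀ n : ℕ, Scheme.Modules.Hom.app (Formal2.tmodMap A (Formal2.quotPowTrans A I ↑(limit (Algz.sectMod A (LocCoh.puncturedOpen A 𝔞) G)) n)) (PrimeSpectrum.basicOpen f : (Spec (CommRingCat.of A)).Opens) (x (n + 1)) = x n) →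
        (∀ n : ℕ, Scheme.Modules.Hom.app
            (((tilde.adjunction (R := CommRingCat.of A)).homEquiv (ModuleCat.of A (Formal2.quotPow A I ↑(limit (Algz.sectMod A (LocCoh.puncturedOpen A 𝔞) G)) n))
              ((Scheme.Modules.pushforward (LocCoh.puncturedOpen A 𝔞).ι).obj (G.obj (op n)))).symm (ℓ n))
            (PrimeSpectrum.basicOpen f : (Spec (CommRingCat.of A)).Opens) (x n) = 0) →
        ∀ n : ℕ, x n = 0 := by
  haveI : QuasiCompact (LocCoh.puncturedOpen A 𝔞).ι :=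
    PunctFree27.quasiCompact_puncturedOpen (I := 𝔞) (IsNoetherian.noetherian 𝔞)
  have hker : ∀ {n m : ℕ}, LinearMap.ker (limit.π (Algz.sectMod A (LocCoh.puncturedOpen A 𝔞) G) (op m)).hom ≤
      I ^ (n + 1) • (⊤ : Submodule A ↑(limit (Algz.sectMod A (LocCoh.puncturedOpen A 𝔞) G))) →
      LinearMap.ker (limit.π (Algz.sectMod A (LocCoh.puncturedOpen A 𝔞) G) (op m)).hom ≤
        LinearMap.ker (Formal2.quotPowπ A I ↑(limit (Algz.sectMod A (LocCoh.puncturedOpen A 𝔞) G)) n) := by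
    intro n m h
    rw [Submodule.ker_mkQ]
    exact h
  refine ⟨fun n => ?_, fun f _ x hcomp hzero n => ?_⟩
  · obtain ⟨m, hm⟩ := hb (n + 1)
    haveI : IsLocallyNoetherian (LocCoh.puncturedOpen A 𝔞 : Scheme.{u}) :=
      isLocallyNoetherian_of_isOpenImmersion (LocCoh.puncturedOpen A 𝔞).ι
    haveI : Limits.PreservesFiniteLimits (tilde.functor (CommRingCat.of A)) := M1.tilde_preservesFiniteLimits
    haveI : Limits.PreservesFiniteLimits (Scheme.Modules.restrictFunctor (LocCoh.puncturedOpen A 𝔞).ι) := inferInstance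
    haveI : Limits.PreservesFiniteLimits (Algz27C.tildeRes (R := CommRingCat.of A) (LocCoh.puncturedOpen A 𝔞)) :=
      Limits.comp_preservesFiniteLimits _ _
    haveI : (Algz27C.tildeRes (R := CommRingCat.of A) (LocCoh.puncturedOpen A 𝔞)).PreservesMonomorphisms := inferInstance
    haveI hev : IsIso ((Algz27C.evU (R := CommRingCat.of A) (LocCoh.puncturedOpen A 𝔞)).app (G.obj (op m))) := Algz27C.isIso_evU (R := CommRingCat.of A) (LocCoh.puncturedOpen A 𝔞) (hG.1 m).1
    haveI : Epi (ModuleCat.ofHom (Formal2.quotPowπ A I ↑(limit (Algz.sectMod A (LocCoh.puncturedOpen A 𝔞) G)) n)) :=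
      (ModuleCat.epi_iff_surjective _).2 (Submodule.mkQ_surjective _)
    haveI : Mono ((Algz27C.evU (R := CommRingCat.of A) (LocCoh.puncturedOpen A 𝔞)).app (G.obj (op m))) := @IsIso.mono_of_iso _ _ _ _ _ hev
    exact isCoh_tildeRes_quot (R := CommRingCat.of A) (LocCoh.puncturedOpen A 𝔞) (hG.1 m)
      (limit.π (Algz.sectMod A (LocCoh.puncturedOpen A 𝔞) G) (op m)) ((Algz27C.evU (R := CommRingCat.of A) (LocCoh.puncturedOpen A 𝔞)).app (G.obj (op m)))
      (@IsIso.mono_of_iso _ _ _ _ _ hev)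
      (ModuleCat.ofHom (Formal2.quotPowπ A I ↑(limit (Algz.sectMod A (LocCoh.puncturedOpen A 𝔞) G)) n))
      (hker hm)
  · obtain ⟨j, hj⟩ := hb (n + 1)
    haveI : IsIso ((tilde.adjunction (R := CommRingCat.of A)).counit.app ((Scheme.Modules.pushforward (LocCoh.puncturedOpen A 𝔞).ι).obj (G.obj (op (n + j))))) :=
      @Scheme.Modules.isIso_fromTildeΓ_of_isQuasicoherent (CommRingCat.of A) _ (M1.isQCoh_push _ (hG.1 (n + j)).1)
    haveI : Limits.PreservesFiniteLimits (tilde.functor (CommRingCat.of A)) := M1.tilde_preservesFiniteLimits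
    haveI : (tilde.functor (CommRingCat.of A)).PreservesMonomorphisms := inferInstance
    refine eq_zero_of_iterate (R := CommRingCat.of A) (L := limit (Algz.sectMod A (LocCoh.puncturedOpen A 𝔞) G))
      (fun i => ModuleCat.of A (Formal2.quotPow A I ↑(limit (Algz.sectMod A (LocCoh.puncturedOpen A 𝔞) G)) i))
      (fun i => ModuleCat.ofHom (Formal2.quotPowTrans A I _ i)) (fun i => ModuleCat.ofHom (Formal2.quotPowπ A I _ i))
      (fun i => rfl) (fun i => Submodule.mkQ_surjective _) _ x hcomp n j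
      (C := (Scheme.Modules.pushforward (LocCoh.puncturedOpen A 𝔞).ι).obj (G.obj (op (n + j)))) (ℓ (n + j)) (fun y hy => ?_) (hzero (n + j))
    have hy' : limit.π (Algz.sectMod A (LocCoh.puncturedOpen A 𝔞) G) (op (n + j)) y = 0 := by
      rw [← hℓ (n + j)]; exact hy
    have hj' : limit.π (Algz.sectMod A (LocCoh.puncturedOpen A 𝔞) G) (op j) y = 0 := by
      rw [← limit.w (Algz.sectMod A (LocCoh.puncturedOpen A 𝔞) G) (homOfLE (Nat.le_add_left j n)).op]
      rw [CategoryTheory.comp_apply, hy', map_zero]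
    exact hker hj hj'

end Groth.Agent.S9553
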