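import Groth.Statements.S9554
import Groth.Agent.Lib.TateZero11.Sections
import Groth.Agent.Lib.RelAmple18.UnivClosed
import Groth.Agent.Lib.EnriquesSeveri11.Proper

set_option autoImplicit false
set_option backward.isDefEq.respectTransparency false
set_option maxHeartbeats 1600000
universe u
open CategoryTheory CategoryTheory.Limits AlgebraicGeometry
open Lef

namespace Groth.Agent.S9554

/-- Let k be a field, X a proper k-scheme, L an ample invertible O_X-module, s a global section of L
(not necessarily regular) with zero scheme Y and ideal 𝓘, Y_n the closed subscheme defined by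
𝓘^(n+1) with closed immersion ι_n, and F a coherent O_X-module with depth(F_x) + dim cl(x) > 1 at
every point x of X outside Y. Then for every open V ⊆ X containing Y the canonical map Γ(V, F) →
lim_n Γ(Y_n, F|_{Y_n}) is bijective. Here Γ(Y_n, F|_{Y_n}) is written as the sections over V of
ι_n,* ι_n^* F (all of its sections, as Y_n ⊆ V), the map from Γ(V, F) is induced by the unit F →
ι_n,* ι_n^* F, and the transition maps come from the units of the inclusions Y_n → Y_(n+1) together
with the identifications of the formal-completion system. -/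
theorem result (k : Type u) [Field k] (X : Scheme.{u})
    (f : X ⟶ Spec (CommRingCat.of k)) [IsProper f] (L : X.Modules) (hL : CohB1.IsAmple L)
    (s : Coh.structureModule X ⟶ L) (F : X.Modules) (hF : Coh.IsCoh F)
    (hd : ∀ x : X, x ∉ ((PicF2.zeroScheme L s).support : Set X) →
      (1 : WithBot ℕ∞) < (LocCoh.depth (X.presheaf.stalk x) (F.presheaf.stalk x) : WithBot ℕ∞) +
        topologicalKrullDim ↥(closure ({x} : Set X)))
    (V : X.Opens) (hV : ((PicF2.zeroScheme L s).support : Set X) ⊆ (V : Set X)) :
    (∀ σ : (Scheme.Modules.presheaf F).obj (Opposite.op V),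
      (∀ n : ℕ, Scheme.Modules.Hom.app ((Scheme.Modules.pullbackPushforwardAdjunction (FSch.completionToX X (PicF2.zeroScheme L s) n)).unit.app F) V σ = 0) → σ = 0) ∧
    (∀ y : (∀ n : ℕ, (Scheme.Modules.presheaf ((Scheme.Modules.pushforward (FSch.completionToX X (PicF2.zeroScheme L s) n)).obj ((FSch.completionMod (PicF2.zeroScheme L s) F).F n))).obj (Opposite.op V)),
      (∀ n : ℕ, Scheme.Modules.Hom.app
          ((Scheme.Modules.pushforward (FSch.completionToX X (PicF2.zeroScheme L s) (n + 1))).map
            ((Scheme.Modules.pullbackPushforwardAdjunction ((FSch.completionAlong X (PicF2.zeroScheme L s)).ι n)).unit.app ((FSch.completionMod (PicF2.zeroScheme L s) F).F (n + 1))) ≫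
          (Scheme.Modules.pushforwardComp ((FSch.completionAlong X (PicF2.zeroScheme L s)).ι n) (FSch.completionToX X (PicF2.zeroScheme L s) (n + 1))).hom.app _ ≫
          (Scheme.Modules.pushforwardCongr (Scheme.IdealSheafData.inclusion_subschemeι (FSch.pow_succ_le X (PicF2.zeroScheme L s) n))).hom.app _ ≫
          (Scheme.Modules.pushforward (FSch.completionToX X (PicF2.zeroScheme L s) n)).map ((FSch.completionMod (PicF2.zeroScheme L s) F).e n).hom) V (y (n + 1)) = y n) →
        ∃ σ : (Scheme.Modules.presheaf F).obj (Opposite.op V),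
          ∀ n : ℕ, Scheme.Modules.Hom.app ((Scheme.Modules.pullbackPushforwardAdjunction (FSch.completionToX X (PicF2.zeroScheme L s) n)).unit.app F) V σ = y n) := by
  letI : X.Over (Spec (CommRingCat.of k)) := ⟨f⟩
  haveI : AlgebraicGeometry.IsNoetherian X := CohFound.isNoetherian_of_isProper f
  haveI := hF.1
  haveI : IsProper (X ↘ Spec (CommRingCat.of k)) := ‹IsProper f›
  have hLi : PicF.IsInvertible L := (Amp.isAmple_iff.1 hL).1
  have hsupp := TZ11.support_zeroScheme hLi s
  have hv : ∀ j, j ≤ 1 → TZ11.Van (PicF2.zeroScheme L s) F j := fun j hj =>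
    TZ11.van_zeroScheme f hL s hF 1 (fun x hx => by simpa using hd x hx) hj
  have hS : ∀ m, (ShortComplex.mk (TZ11.pmι (PicF2.zeroScheme L s) (m + 1) F) (TZ11.complPi (PicF2.zeroScheme L s) F m) (kernel.condition _)).ShortExact :=
    fun m => { exact := ShortComplex.exact_of_f_is_kernel _ (kernelIsKernel _)
               mono_f := inferInstanceAs (Mono (kernel.ι _))
               epi_g := TZ11.epi_unit ((PicF2.zeroScheme L s) ^ (m + 1)) F }
  have hG : IsAffineOpen (CohB1.genLocus L s) :=
    RA.isAffineOpen_genLocus_of_universallyClosed f hL s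
  have hclosed : ∀ z : X, z ∉ V → IsClosed ({z} : Set X) := fun z hz =>
    ES11.isClosed_singleton_of_subset_affine (k := k) hG V.isOpen.isClosed_compl (by
      intro w hw
      have : w ∉ ((PicF2.zeroScheme L s).support : Set X) := fun h => hw (hV h)
      rw [hsupp] at this
      exact not_not.1 this) hz
  have hext : RH26.ExtU V F := by
    refine DepthAlong11.extU_of_hasSlicePair _ (DepthAlong11.hasSlicePair_of_depth _ hF V fun z hz => ?_)
    have h := hd z fun hzI => hz (hV hzI)
    haveI : Subsingleton ↥(closure ({z} : Set X)) := by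
      rw [(hclosed z hz).closure_eq]
      infer_instance
    haveI : Nonempty ↥(closure ({z} : Set X)) := ⟨⟨z, subset_closure rfl⟩⟩
    have h0 : topologicalKrullDim ↥(closure ({z} : Set X)) = 0 := by
      refine le_antisymm (topologicalKrullDim_zero_of_discreteTopology _) ?_
      haveI : Nonempty (TopologicalSpace.IrreducibleCloseds ↥(closure ({z} : Set X))) :=
        ⟨⟨closure {⟨z, subset_closure rfl⟩}, isIrreducible_singleton.closure, isClosed_closure⟩⟩
      exact Order.krullDim_nonneg
    rw [h0, add_zero] at h
    have h1 : (1 : ℕ∞) < LocCoh.depth (X.presheaf.stalk z) (F.presheaf.stalk z) := by exact_mod_cast h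
    exact Order.add_one_le_of_lt h1
  have hFb : Function.Bijective (M1.mres F (le_top : V ≤ ⊤)) := by
    have h1 := hext ⊤
    have hle : V ≤ (⊤ : X.Opens) ⊓ V := le_inf le_top le_rfl
    have hb : Function.Bijective (M1.mres F hle) := by
      refine ⟨fun a b h => ?_, fun t => ⟨M1.mres F inf_le_right t, ?_⟩⟩
      · have := congrArg (M1.mres F (inf_le_right : (⊤ : X.Opens) ⊓ V ≤ V)) h
        rw [M1.mres_mres, M1.mres_mres, M1.mres_id, M1.mres_id] at this
        exact this
      · rw [M1.mres_mres, M1.mres_id]
    have h2 : M1.mres F (le_top : V ≤ ⊤) = M1.mres F hle ∘ M1.mres F (inf_le_left : (⊤ : X.Opens) ⊓ V ≤ ⊤) := by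
      funext t; exact (M1.mres_mres _ _ _ _).symm
    rw [h2]
    exact hb.comp h1
  have key := TZ11.sections_bijective k (fun m => (Scheme.Modules.pushforward (FSch.completionToX X (PicF2.zeroScheme L s) m)).obj
      ((FSch.completionMod (PicF2.zeroScheme L s) F).F m)) (TZ11.complPi (PicF2.zeroScheme L s) F) (TZ11.complTau (PicF2.zeroScheme L s) F) (TZ11.complPi_comp_complTau (PicF2.zeroScheme L s) F)
    (fun m => TZ11.pmι (PicF2.zeroScheme L s) (m + 1) F) (fun m => kernel.condition _) hS
    (TZ11.kerVan_pm (PicF2.zeroScheme L s) (hv 0 zero_le_one)) (TZ11.kerVan_pm (PicF2.zeroScheme L s) (hv 1 le_rfl)) V hFb fun m =>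
      TZ11.bijective_map_pushforward _ _ (TopologicalSpace.Opens.ext (Set.eq_univ_of_forall fun z => hV (by
        have hz : ((PicF2.zeroScheme L s) ^ (m + 1)).subschemeι z ∈ Set.range ((PicF2.zeroScheme L s) ^ (m + 1)).subschemeι := ⟨z, rfl⟩
        rwa [Scheme.IdealSheafData.range_subschemeι, Scheme.IdealSheafData.support_pow_succ] at hz)))
  refine ⟨?_, ?_⟩
  · exact key.1
  · intro y hy
    exact key.2 y (fun m => (TZ11.complTau_app (PicF2.zeroScheme L s) F m V (y (m + 1))).symm.trans (hy m))

end Groth.Agent.S9554
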