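import Groth.Statements.S9555
import Groth.Agent.Lib.EtSplitH7.Main

set_option autoImplicit false
universe u
open EtLocal

namespace Groth.Agent.S9555

open AlgebraicGeometry CategoryTheory Limits in
/-- Let f : X ⟶ S be any morphism of schemes, s a point of S and x_1, …, x_n pairwise distinct points of
X over s such that f is unramified at each x_i (some open neighbourhood of x_i is locally of finite
type and formally unramified over S). Then there are an étale morphism g : U ⟶ S, a point u of U
over s and finitely many opens V_k of X_U = X ×_S U, each labelled by one of the x_i, such that (1)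
each V_k ⟶ U is a closed immersion whose image contains u, (2) no point of X_U over u lies in two
different V_k, and (3) every point of X_U over u mapping to x_i lies in some V_k labelled by x_i. -/
theorem result {X S : Scheme.{u}} (f : X ⟶ S) (s : S)
    {ι : Type} [Finite ι] (x : ι → ↑X) (hinj : Function.Injective x) (hs : ∀ i, f (x i) = s)
    (hx : ∀ i, ∃ W : X.Opens, x i ∈ W ∧ LocallyOfFiniteType (W.ι ≫ f) ∧ FormallyUnramified (W.ι ≫ f)) :
    ∃ (U : Scheme.{u}) (g : U ⟶ S) (u : U), Etale g ∧ g u = s ∧
      ∃ (K : Type) (_ : Finite K) (lab : K → ι) (V : K → (pullback f g).Opens),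
        (∀ k, IsClosedImmersion ((V k).ι ≫ pullback.snd f g) ∧
          ∃ w : ↑(pullback f g), w ∈ V k ∧ pullback.snd f g w = u) ∧
        (∀ (k k' : K) (w : ↑(pullback f g)), w ∈ V k → w ∈ V k' → pullback.snd f g w = u → k = k') ∧
        (∀ (w : ↑(pullback f g)) (i : ι), pullback.snd f g w = u → pullback.fst f g w = x i →
          ∃ k, lab k = i ∧ w ∈ V k) := by
  classical
  choose W hxW hft hu using hx
  haveI : LocallyOfFiniteType ((⨆ i, W i).ι ≫ f) :=
    Groth.Agent.EtSplitH7.of_cover @LocallyOfFiniteType (fun e _ => inferInstance) f W hft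
  haveI : FormallyUnramified ((⨆ i, W i).ι ≫ f) :=
    Groth.Agent.EtSplitH7.of_cover @FormallyUnramified (fun e _ => inferInstance) f W hu
  exact Groth.Agent.EtSplitH7.exists_nbhd @IsClosedImmersion f s x hinj hs (⨆ i, W i)
    (fun i => TopologicalSpace.Opens.mem_iSup.2 ⟨i, hxW i⟩) fun U g W' hfin v huniq hpi => by
      haveI := hfin
      haveI : FormallyUnramified (pullback.snd ((⨆ i, W i).ι ≫ f) g) := MorphismProperty.pullback_snd _ _ inferInstance
      haveI : FormallyUnramified (W'.ι ≫ pullback.snd ((⨆ i, W i).ι ≫ f) g) :=
        MorphismProperty.comp_mem @FormallyUnramified _ _ inferInstance inferInstance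
      exact Groth.Agent.EtSplitH7.exists_isClosedImmersion_restrict _ v huniq hpi

end Groth.Agent.S9555
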