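import Groth.Statements.S9558
import Groth.Agent.Lib.EtSplitH7.Main

set_option autoImplicit false
universe u
open EtLocal

namespace Groth.Agent.S9558

open AlgebraicGeometry CategoryTheory Limits in
/-- Let f : X ⟶ S be a separated morphism of schemes, s a point of S and x_1, …, x_n pairwise distinct
points of X over s such that f is étale at each x_i (the restriction of f to some open neighbourhood
of x_i is étale). Then there are an étale morphism g : U ⟶ S, a point u of U over s, and a
decomposition of X_U = X ×_S U into pairwise disjoint open subschemes W and finitely many V_k which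
together cover X_U, such that each V_k ⟶ U is an isomorphism and no point of W over u maps to any of
the x_i. -/
theorem result {X S : Scheme.{u}} (f : X ⟶ S)
    [IsSeparated f] (s : S)
    {ι : Type} [Finite ι] (x : ι → ↑X) (hinj : Function.Injective x) (hs : ∀ i, f (x i) = s)
    (hx : ∀ i, ∃ W : X.Opens, x i ∈ W ∧ Etale (W.ι ≫ f)) :
    ∃ (U : Scheme.{u}) (g : U ⟶ S) (u : U), Etale g ∧ g u = s ∧
      ∃ (K : Type) (_ : Finite K) (W : (pullback f g).Opens) (V : K → (pullback f g).Opens),
        W ⊔ (⨆ k, V k) = ⊤ ∧ (∀ k, Disjoint W (V k)) ∧ (∀ k k', k ≠ k' → Disjoint (V k) (V k')) ∧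
        (∀ k, IsIso ((V k).ι ≫ pullback.snd f g)) ∧
        (∀ (w : ↑(pullback f g)) (i : ι), w ∈ W → pullback.snd f g w = u → pullback.fst f g w ≠ x i) := by
  classical
  choose W' hxW het using hx
  haveI : Etale ((⨆ i, W' i).ι ≫ f) :=
    Groth.Agent.EtSplitH7.of_cover @Etale (fun e _ => inferInstance) f W' het
  obtain ⟨U, g, u, hg, hgu, K, hK, W, V, h1, h2, h3, h4, h5⟩ :=
    Groth.Agent.EtSplitH7.exists_decomp (MorphismProperty.isomorphisms Scheme.{u})
      (fun e (he : IsIso e) => inferInstance) f s x
      (Groth.Agent.EtSplitH7.exists_nbhd (MorphismProperty.isomorphisms Scheme.{u}) f s x hinj hs (⨆ i, W' i)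
        (fun i => TopologicalSpace.Opens.mem_iSup.2 ⟨i, hxW i⟩) fun U g W'' hfin v huniq hpi => by
          haveI := hfin
          haveI : Etale (pullback.snd ((⨆ i, W' i).ι ≫ f) g) := MorphismProperty.pullback_snd _ _ inferInstance
          exact Groth.Agent.EtSplitH7.exists_isIso_restrict _ v huniq hpi)
  exact ⟨U, g, u, hg, hgu, K, hK, W, V, h1, h2, h3, fun k => (h4 k).1, h5⟩

end Groth.Agent.S9558
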