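import Groth.Statements.S9562
import Groth.Agent.Lib.CplLocH7.Basic
import Mathlib.RingTheory.RingHom.Etale
import Mathlib.RingTheory.LocalRing.Module
import Mathlib.LinearAlgebra.Dimension.Finite
import Mathlib.RingTheory.Smooth.Flat
import Mathlib.RingTheory.Smooth.Fiber

set_option autoImplicit false
universe u
open EtLocal

namespace Groth.Agent.S9562

/-- Let A → B be a local homomorphism of Noetherian local rings with B essentially of finite type over
A, and let ψ be the induced map between the completions of A and B at their maximal ideals (a ring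
map of the completions whose composite with A → A^ is A → B → B^; such a map is unique). Then A → B
is an étale homomorphism of local rings, i.e. B is flat over A, m_A B = m_B and the residue field of
B is a finite separable extension of that of A, if and only if ψ is an étale ring map; moreover in
that case the completion of B is, through ψ, a free module of finite positive rank over the
completion of A. (The published statement lists a third equivalent condition, that ψ is itself an
étale homomorphism of local rings; this row keeps the two outer ones.) -/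
theorem result (A B : Type u) [CommRing A] [CommRing B]
    [IsLocalRing A] [IsLocalRing B] [IsNoetherianRing A] [IsNoetherianRing B] [Algebra A B]
    [IsLocalHom (algebraMap A B)] [Algebra.EssFiniteType A B]
    (ψ : AdicCompletion (IsLocalRing.maximalIdeal A) A →+* AdicCompletion (IsLocalRing.maximalIdeal B) B)
    (hψ : ψ.comp (algebraMap A (AdicCompletion (IsLocalRing.maximalIdeal A) A)) =
      (algebraMap B (AdicCompletion (IsLocalRing.maximalIdeal B) B)).comp (algebraMap A B)) :
    ((Module.Flat A B ∧ (IsLocalRing.maximalIdeal A).map (algebraMap A B) = IsLocalRing.maximalIdeal B ∧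
        Module.Finite (IsLocalRing.ResidueField A) (IsLocalRing.ResidueField B) ∧
        Algebra.IsSeparable (IsLocalRing.ResidueField A) (IsLocalRing.ResidueField B)) ↔ ψ.Etale) ∧
      (ψ.Etale →
        letI := ψ.toAlgebra
        ∃ n : ℕ, 0 < n ∧
          Nonempty ((Fin n → AdicCompletion (IsLocalRing.maximalIdeal A) A) ≃ₗ[AdicCompletion (IsLocalRing.maximalIdeal A) A]
            AdicCompletion (IsLocalRing.maximalIdeal B) B)) := by
  letI := ψ.toAlgebra
  haveI : IsScalarTower A (Groth.Agent.CplLocH7.Cpl A) (Groth.Agent.CplLocH7.Cpl B) := IsScalarTower.of_algebraMap_eq fun x => by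
    rw [IsScalarTower.algebraMap_apply A B (Groth.Agent.CplLocH7.Cpl B)]
    exact (RingHom.congr_fun hψ x).symm
  have hE : ψ.Etale ↔ Algebra.Etale (Groth.Agent.CplLocH7.Cpl A) (Groth.Agent.CplLocH7.Cpl B) := RingHom.etale_algebraMap
  have hback : ψ.Etale → Module.Flat A B ∧ (IsLocalRing.maximalIdeal A).map (algebraMap A B) = IsLocalRing.maximalIdeal B ∧
        Module.Finite (IsLocalRing.ResidueField A) (IsLocalRing.ResidueField B) ∧
        Algebra.IsSeparable (IsLocalRing.ResidueField A) (IsLocalRing.ResidueField B) := by
    intro h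
    haveI := hE.1 h
    obtain ⟨hm, hsep⟩ := Groth.Agent.CplLocH7.formallyUnramified_iff.1
      (inferInstance : Algebra.FormallyUnramified (Groth.Agent.CplLocH7.Cpl A) (Groth.Agent.CplLocH7.Cpl B))
    exact ⟨Groth.Agent.CplLocH7.flat_iff.1 inferInstance, hm,
      Groth.Agent.CplLocH7.residue_finite_iff.1 inferInstance, hsep⟩
  refine ⟨⟨fun ⟨hfl, hm, hfin, hsep⟩ => hE.2 ?_, hback⟩, fun h => ?_⟩
  · haveI := Groth.Agent.CplLocH7.finite (A := A) hm
    haveI := (Groth.Agent.CplLocH7.flat_iff (A := A) (B := B)).2 hfl
    haveI : Algebra.FormallyUnramified (Groth.Agent.CplLocH7.Cpl A) (Groth.Agent.CplLocH7.Cpl B) :=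
      Groth.Agent.CplLocH7.formallyUnramified_iff.2 ⟨hm, hsep⟩
    haveI : Algebra.FinitePresentation (Groth.Agent.CplLocH7.Cpl A) (Groth.Agent.CplLocH7.Cpl B) :=
      Algebra.FinitePresentation.of_finiteType.1 inferInstance
    exact Algebra.Etale.of_formallyUnramified_of_flat
  · obtain ⟨hfl, hm, hfin, -⟩ := hback h
    haveI := Groth.Agent.CplLocH7.finite (A := A) hm
    haveI := (Groth.Agent.CplLocH7.flat_iff (A := A) (B := B)).2 hfl
    haveI : Module.Free (Groth.Agent.CplLocH7.Cpl A) (Groth.Agent.CplLocH7.Cpl B) := Module.free_of_flat_of_isLocalRing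
    exact ⟨Module.finrank (Groth.Agent.CplLocH7.Cpl A) (Groth.Agent.CplLocH7.Cpl B), Nat.pos_of_ne_zero fun h0 => by
      haveI : Subsingleton (Fin (Module.finrank (Groth.Agent.CplLocH7.Cpl A) (Groth.Agent.CplLocH7.Cpl B)) → Groth.Agent.CplLocH7.Cpl A) := by rw [h0]; infer_instance
      exact not_subsingleton (Groth.Agent.CplLocH7.Cpl B) (Module.finBasis (Groth.Agent.CplLocH7.Cpl A) (Groth.Agent.CplLocH7.Cpl B)).equivFun.toEquiv.subsingleton,
      ⟨(Module.finBasis (Groth.Agent.CplLocH7.Cpl A) (Groth.Agent.CplLocH7.Cpl B)).equivFun.symm⟩⟩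

end Groth.Agent.S9562
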