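import Groth.Statements.S9563
import Groth.Agent.Lib.StdEtaleLocH7.Basic
import Groth.Agent.S9560

set_option autoImplicit false
universe u
open EtLocal

namespace Groth.Agent.S9563

/-- Let A → B be an étale homomorphism of Noetherian local rings, i.e. a local homomorphism with B
essentially of finite type and flat over A, m_A B = m_B, and residue field of B finite separable
over that of A. Then there are a standard étale A-algebra B' = A[t]_g/(f) (f monic and f' invertible
in B') and a prime 𝔮 of B' such that B is isomorphic as an A-algebra to the localization of B' at 𝔮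
(existence of an isomorphism). -/
theorem result (A B : Type u) [CommRing A] [CommRing B]
    [IsLocalRing A] [IsLocalRing B] [IsNoetherianRing A] [IsNoetherianRing B] [Algebra A B]
    [IsLocalHom (algebraMap A B)] [Algebra.EssFiniteType A B] [Module.Flat A B]
    (hm : (IsLocalRing.maximalIdeal A).map (algebraMap A B) = IsLocalRing.maximalIdeal B)
    [Module.Finite (IsLocalRing.ResidueField A) (IsLocalRing.ResidueField B)]
    [Algebra.IsSeparable (IsLocalRing.ResidueField A) (IsLocalRing.ResidueField B)] :
    ∃ (P : StandardEtalePair A) (𝔮 : Ideal P.Ring) (_ : 𝔮.IsPrime),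
      Nonempty (B ≃ₐ[A] Localization.AtPrime 𝔮) := by
  haveI : Algebra.FormallyUnramified A B := Algebra.FormallyUnramified.of_map_maximalIdeal hm
  obtain ⟨C, _, _, _, _, hft, hloc⟩ := Groth.Agent.StdEtaleLocH7.exists_chart (A := A) (B := B)
  haveI := hft
  haveI := hloc
  set q := (IsLocalRing.maximalIdeal B).comap (algebraMap C B)
  let e : B ≃ₐ[C] Localization.AtPrime q := IsLocalization.algEquiv q.primeCompl B _
  haveI : Algebra.IsUnramifiedAt A q := Algebra.FormallyUnramified.of_equiv (e.restrictScalars A)
  haveI : Algebra.FinitePresentation A C := Algebra.FinitePresentation.of_finiteType.mp inferInstance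
  set p := q.comap (algebraMap A C) with hp
  haveI : q.LiesOver p := ⟨rfl⟩
  letI := Localization.AtPrime.algebraOfLiesOver p q
  haveI : Module.Flat A (Localization.AtPrime q) := Module.Flat.of_linearEquiv (e.restrictScalars A).symm.toLinearEquiv
  have key := (Algebra.isUnramifiedAt_iff_map_eq A p q).1 inferInstance
  haveI : Algebra.IsEtaleAt A q := (Groth.Agent.S9560.result A C p q).2
    ⟨(Module.flat_iff_of_isLocalization (Localization.AtPrime p) p.primeCompl _).2 inferInstance, key.2,
      inferInstance, key.1⟩
  obtain ⟨f, hf, hfs⟩ := Algebra.IsEtaleAt.exists_isStandardEtale (R := A) q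
  obtain ⟨S⟩ := hfs.nonempty_standardEtalePresentation
  obtain ⟨𝔮, h𝔮, ψ, hψ, hinj⟩ := Groth.Agent.StdEtaleLocH7.exists_localization_surjective (B := B)
    (IsLocalization.map_units B (⟨f, hf⟩ : q.primeCompl)) S.P S.equivRing.symm.toAlgHom S.equivRing.symm.surjective
  exact ⟨S.P, 𝔮, h𝔮, ⟨(AlgEquiv.ofBijective ψ ⟨hinj S.equivRing.symm.injective, hψ⟩).symm⟩⟩

end Groth.Agent.S9563
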