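import Groth.Statements.S9567
import Mathlib.RingTheory.Unramified.LocalStructure
import Mathlib.AlgebraicGeometry.Morphisms.Etale

set_option autoImplicit false
universe u
open EtLocal

namespace Groth.Agent.S9567

open AlgebraicGeometry CategoryTheory in
/-- Let φ : X ⟶ Y be any morphism of schemes, x a point of X and V an affine open neighbourhood of φ(x),
with ring R = Γ(Y, V). If φ is étale on some open neighbourhood of x, then there are an affine open
neighbourhood U of x with φ(U) ⊆ V, a monic polynomial p over R and an open immersion j of U into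
Spec of (R[t]/(p))[1/p′] (the localization of R[t]/(p) away from the image of the derivative of p)
such that j followed by the projection to Spec R is the morphism U → Spec R induced by φ. -/
theorem result {X Y : Scheme.{u}} (φ : X ⟶ Y) (x : X)
    (V : Y.Opens) (hV : IsAffineOpen V) (hxV : φ.base x ∈ V)
    (hφ : ∃ W : X.Opens, x ∈ W ∧ Etale (W.ι ≫ φ)) :
    ∃ (U : X.Opens) (hU : IsAffineOpen U) (_ : x ∈ U) (e : U ≤ φ ⁻¹ᵁ V)
      (p : Polynomial Γ(Y, V)) (_ : p.Monic)
      (j : U.toScheme ⟶ Spec (CommRingCat.of (Localization.Away (AdjoinRoot.mk p (Polynomial.derivative p))))),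
      IsOpenImmersion j ∧
        j ≫ Spec.map (CommRingCat.ofHom
            (algebraMap Γ(Y, V) (Localization.Away (AdjoinRoot.mk p (Polynomial.derivative p))))) =
          hU.isoSpec.hom ≫ Spec.map (φ.appLE V U e) := by
  obtain ⟨W, hxW, hW⟩ := hφ
  haveI := hW
  obtain ⟨U₀, hU₀, hxU, hU₀W⟩ := exists_isAffineOpen_mem_and_subset (X := X) (x := x) (U := W ⊓ φ ⁻¹ᵁ V) ⟨hxW, hxV⟩
  have e₀ : U₀ ≤ φ ⁻¹ᵁ V := hU₀W.trans inf_le_right
  have het : (φ.appLE V U₀ e₀).hom.Etale := by
    haveI : IsAffine V := hV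
    haveI : IsAffine U₀ := hU₀
    haveI : Etale (φ.resLE V U₀ e₀ ≫ V.ι) := by
      rw [Scheme.Hom.resLE_comp_ι, ← Scheme.homOfLE_ι _ (hU₀W.trans inf_le_left), Category.assoc]
      infer_instance
    haveI : Etale (φ.resLE V U₀ e₀) := MorphismProperty.of_postcomp (W := @Etale) (W' := @Etale) _ V.ι inferInstance ‹_›
    exact (RingHom.Etale.respectsIso.arrow_mk_iso_iff (arrowResLEAppIso φ V U₀ e₀)).1
      (HasRingHomProperty.iff_of_isAffine.1 ‹Etale (φ.resLE V U₀ e₀)›)
  algebraize [(φ.appLE V U₀ e₀).hom]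
  let q := (hU₀.primeIdealOf ⟨x, hxU⟩).asIdeal
  obtain ⟨r, hr, hS⟩ := Algebra.IsEtaleAt.exists_isStandardEtale (R := Γ(Y, V)) q
  have hU : IsAffineOpen (X.basicOpen r) := hU₀.basicOpen r
  have hxr : x ∈ X.basicOpen r := by
    have h1 : hU₀.fromSpec (hU₀.primeIdealOf ⟨x, hxU⟩) = x := hU₀.fromSpec_primeIdealOf ⟨x, hxU⟩
    have h2 : hU₀.primeIdealOf ⟨x, hxU⟩ ∈ hU₀.fromSpec ⁻¹ᵁ X.basicOpen r := by
      rw [hU₀.fromSpec_preimage_basicOpen]; exact hr
    exact h1 ▸ h2
  have e : X.basicOpen r ≤ φ ⁻¹ᵁ V := (X.basicOpen_le r).trans e₀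
  haveI := hU₀.isLocalization_basicOpen r
  obtain ⟨P⟩ := hS.nonempty_standardEtalePresentation
  let f' := AdjoinRoot.mk P.f (Polynomial.derivative P.f)
  let g := AdjoinRoot.mk P.f P.g
  let L := Localization.Away g
  let R2 := Localization.Away f'
  have hu : IsUnit (algebraMap (AdjoinRoot P.f) L f') := by
    obtain ⟨p₁, p₂, n, hpn⟩ := P.cond
    refine isUnit_of_dvd_unit ⟨algebraMap _ L (AdjoinRoot.mk P.f p₁), ?_⟩ ((IsLocalization.Away.algebraMap_isUnit (S := L) g).pow n)
    rw [← map_mul, ← map_pow]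
    refine congrArg _ ?_
    rw [← map_pow]
    rw [← hpn, map_add, map_mul, map_mul, AdjoinRoot.mk_self, zero_mul, add_zero]
  letI : Algebra R2 L := (IsLocalization.Away.lift f' hu).toAlgebra
  haveI : IsScalarTower (AdjoinRoot P.f) R2 L := IsScalarTower.of_algebraMap_eq fun a => (IsLocalization.Away.lift_eq f' hu a).symm
  haveI : IsScalarTower Γ(Y, V) R2 L := .to₁₃₄ Γ(Y, V) (AdjoinRoot P.f) _ _
  haveI : IsLocalization.Away (algebraMap (AdjoinRoot P.f) L f') L :=
    IsLocalization.away_of_isUnit_of_bijective L hu Function.bijective_id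
  haveI : IsLocalization.Away (algebraMap (AdjoinRoot P.f) R2 g) L := IsLocalization.Away.commutes R2 L L f' g
  letI : Algebra Γ(Y, V) Γ(X, X.basicOpen r) :=
    ((algebraMap Γ(X, U₀) Γ(X, X.basicOpen r)).comp (algebraMap Γ(Y, V) Γ(X, U₀))).toAlgebra
  haveI : IsScalarTower Γ(Y, V) Γ(X, U₀) Γ(X, X.basicOpen r) := IsScalarTower.of_algebraMap_eq fun _ => rfl
  let c : Localization.Away r ≃ₐ[Γ(Y, V)] Γ(X, X.basicOpen r) :=
    (IsLocalization.algEquiv (Submonoid.powers r) (Localization.Away r) Γ(X, X.basicOpen r)).restrictScalars Γ(Y, V)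
  let ε : L ≃+* Γ(X, X.basicOpen r) :=
    (P.P.equivAwayAdjoinRoot.symm.trans P.equivRing.symm).toRingEquiv.trans c.toRingEquiv
  have hcomp : φ.appLE V (X.basicOpen r) e =
      CommRingCat.ofHom (algebraMap Γ(Y, V) R2) ≫ CommRingCat.ofHom (algebraMap R2 L) ≫ ε.toCommRingCatIso.hom := by
    ext a
    show _ = c (P.equivRing.symm (P.P.equivAwayAdjoinRoot.symm (algebraMap R2 L (algebraMap Γ(Y, V) R2 a))))
    rw [← IsScalarTower.algebraMap_apply, AlgEquiv.commutes, AlgEquiv.commutes]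
    show _ = IsLocalization.algEquiv (Submonoid.powers r) _ _ (algebraMap Γ(Y, V) (Localization.Away r) a)
    rw [IsScalarTower.algebraMap_apply Γ(Y, V) Γ(X, U₀) (Localization.Away r), AlgEquiv.commutes]
    exact (ConcreteCategory.congr_hom (φ.appLE_map e₀ (homOfLE (X.basicOpen_le r)).op) a).symm
  haveI : IsOpenImmersion (Spec.map (CommRingCat.ofHom (algebraMap R2 L))) :=
    IsOpenImmersion.of_isLocalization (algebraMap (AdjoinRoot P.f) R2 g)
  refine ⟨X.basicOpen r, hU, hxr, e, P.f, P.monic_f,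
    hU.isoSpec.hom ≫ Spec.map ε.toCommRingCatIso.hom ≫ Spec.map (CommRingCat.ofHom (algebraMap R2 L)), inferInstance, ?_⟩
  rw [hcomp, Spec.map_comp, Spec.map_comp]
  simp only [Category.assoc]

end Groth.Agent.S9567
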