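import Groth.Statements.S9568
import Mathlib.RingTheory.Kaehler.Basic
import Mathlib.Algebra.Module.Torsion.Basic
import Mathlib.RingTheory.Localization.AtPrime.Basic

set_option autoImplicit false
universe u
open EtLocal

namespace Groth.Agent.S9568

/-- Let A be a ring, φ a surjection from the polynomial ring P = A[x_1, …, x_n] onto an A-algebra B with
kernel I, q a prime of B and 𝔮 its preimage in P. Then the localization at q of the module of
differentials Ω_{B/A} vanishes if and only if the images of the differentials dg, g ∈ I, span the
localization of Ω_{P/A} at 𝔮 over P_𝔮. (Geometrically: for f locally of finite type, the stalk of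
Ω_{X/Y} at x vanishes iff near x the scheme X is a closed subscheme of an affine space over the base
cut out by an ideal whose germs at the point have differentials generating the stalk of Ω of the
affine space; the published statement also lists the equivalence with f being unramified at x and
with the diagonal being a local isomorphism at x, which this row does not restate. The published
statement asks for one such presentation near the point; this row states the equivalence for every
presentation, which is what the published proof shows and which implies the existential form.) -/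
theorem result {A B : Type u} [CommRing A] [CommRing B]
    [Algebra A B] (n : ℕ) (φ : MvPolynomial (Fin n) A →ₐ[A] B) (hφ : Function.Surjective φ)
    (q : Ideal B) [q.IsPrime] :
    Subsingleton (LocalizedModule q.primeCompl (KaehlerDifferential A B)) ↔
      Submodule.span (Localization.AtPrime (q.comap φ.toRingHom))
        ((LocalizedModule.mkLinearMap (q.comap φ.toRingHom).primeCompl
            (KaehlerDifferential A (MvPolynomial (Fin n) A))) ''
          ((KaehlerDifferential.D A (MvPolynomial (Fin n) A)) '' (RingHom.ker φ.toRingHom : Set (MvPolynomial (Fin n) A)))) = ⊤ := by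
  classical
  set P := MvPolynomial (Fin n) A
  letI : Algebra P B := φ.toRingHom.toAlgebra
  haveI : IsScalarTower A P B := IsScalarTower.of_algebraMap_eq fun a => (φ.commutes a).symm
  set N := Submodule.span P ((KaehlerDifferential.D A P) '' (RingHom.ker φ.toRingHom : Set P)) with hN
  have hI : ∀ a ∈ RingHom.ker φ.toRingHom, ∀ w : Ω[P⁄A] ⧸ N, a • w = 0 := by
    intro a ha w
    obtain ⟨w, rfl⟩ := Submodule.mkQ_surjective _ w
    rw [← map_smul, Submodule.mkQ_apply, Submodule.Quotient.mk_eq_zero]
    have hw : w ∈ Submodule.span P (Set.range (KaehlerDifferential.D A P)) := by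
      rw [KaehlerDifferential.span_range_derivation]; trivial
    induction hw using Submodule.span_induction with
    | mem z hz =>
      obtain ⟨b, rfl⟩ := hz
      have h1 : KaehlerDifferential.D A P (a * b) ∈ N := Submodule.subset_span (Set.mem_image_of_mem (KaehlerDifferential.D A P) (Ideal.mul_mem_right b _ ha))
      rw [Derivation.leibniz] at h1
      exact (Submodule.add_mem_iff_left _ (Submodule.smul_mem _ b (Submodule.subset_span (Set.mem_image_of_mem (KaehlerDifferential.D A P) ha) : KaehlerDifferential.D A P a ∈ N))).1 h1
    | zero => rw [smul_zero]; exact zero_mem _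
    | add z w _ _ hz hw => rw [smul_add]; exact add_mem hz hw
    | smul c z _ hz => rw [smul_comm]; exact Submodule.smul_mem _ _ hz
  set f := KaehlerDifferential.map A A P B
  have hker : ∀ w : Ω[P⁄A], f w = 0 ↔ w ∈ N := by
    refine fun w => ⟨fun hw => ?_, fun hw => ?_⟩
    · let e : (P ⧸ RingHom.ker φ.toRingHom) ≃ₐ[A] B := Ideal.quotientKerAlgEquivOfSurjective hφ
      letI M₁ : Module (P ⧸ RingHom.ker φ.toRingHom) (Ω[P⁄A] ⧸ N) := Module.IsTorsionBySet.module (fun w a => hI a.1 a.2 w)
      letI M₂ : Module B (Ω[P⁄A] ⧸ N) := Module.compHom _ e.symm.toAlgHom.toRingHom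
      haveI : IsScalarTower P B (Ω[P⁄A] ⧸ N) := IsScalarTower.of_algebraMap_smul fun a w => by
        show e.symm (φ a) • w = a • w
        rw [show e.symm (φ a) = Ideal.Quotient.mk _ a from (e.symm_apply_eq).2 rfl]
        rfl
      haveI : IsScalarTower A B (Ω[P⁄A] ⧸ N) := IsScalarTower.of_algebraMap_smul fun a w => by
        rw [IsScalarTower.algebraMap_apply A P B, algebraMap_smul, algebraMap_smul]
      let dl : B →ₗ[A] Ω[P⁄A] ⧸ N :=
        (((RingHom.ker φ.toRingHom).restrictScalars A).liftQ
          ((N.mkQ.compDer (KaehlerDifferential.D A P)) : P →ₗ[A] Ω[P⁄A] ⧸ N) (fun a ha =>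
            (Submodule.Quotient.mk_eq_zero _).2 (Submodule.subset_span ⟨a, ha, rfl⟩))).comp e.symm.toLinearMap
      have hdl : ∀ a, dl (φ a) = N.mkQ (KaehlerDifferential.D A P a) := fun a => by
        simp only [dl, LinearMap.comp_apply]
        erw [show e.symm (φ a) = Ideal.Quotient.mk _ a from (e.symm_apply_eq).2 rfl]
        rfl
      let d : Derivation A B (Ω[P⁄A] ⧸ N) := Derivation.mk' dl fun x y => by
        obtain ⟨x, rfl⟩ := hφ x
        obtain ⟨y, rfl⟩ := hφ y
        rw [← map_mul, hdl, hdl, hdl, Derivation.leibniz, map_add, map_smul, map_smul]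
        exact congrArg₂ _ (algebraMap_smul B x _).symm (algebraMap_smul B y _).symm
      have hcomp : ((d.liftKaehlerDifferential.restrictScalars P).comp f) = N.mkQ := by
        apply LinearMap.ext_on (KaehlerDifferential.span_range_derivation A P)
        rintro _ ⟨a, rfl⟩
        rw [LinearMap.comp_apply, KaehlerDifferential.map_D]
        exact (d.liftKaehlerDifferential_comp_D _).trans (hdl a)
      rw [← Submodule.Quotient.mk_eq_zero, ← Submodule.mkQ_apply, ← hcomp, LinearMap.comp_apply, hw, map_zero]
    · induction hw using Submodule.span_induction with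
      | mem z hz =>
        obtain ⟨a, ha, rfl⟩ := hz
        rw [KaehlerDifferential.map_D]
        rw [show algebraMap P B a = 0 from ha, map_zero]
      | zero => exact map_zero _
      | add z w _ _ hz hw => rw [map_add, hz, hw, add_zero]
      | smul c z _ hz => rw [map_smul, hz, smul_zero]
  set q' := q.comap φ.toRingHom
  set L := LocalizedModule.mkLinearMap q'.primeCompl Ω[P⁄A]
  have hsurj : Function.Surjective f := KaehlerDifferential.map_surjective_of_surjective A A P B hφ
  constructor
  · intro H
    rw [eq_top_iff]
    intro x _
    induction x using LocalizedModule.induction_on with | h w s => ?_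
    obtain ⟨t, ht, htw⟩ := (LocalizedModule.subsingleton_iff.1 H) (f w)
    obtain ⟨t, rfl⟩ := hφ t
    have htw' : t • w ∈ N := by
      rw [← hker, map_smul, ← algebraMap_smul B t (f w)]; exact htw
    have hs' : LocalizedModule.mk w s = IsLocalization.mk' (Localization.AtPrime q') (1 : P) (s * ⟨t, ht⟩) • L (t • w) := by
      rw [LocalizedModule.mkLinearMap_apply, ← Localization.mk_eq_mk', LocalizedModule.mk_smul_mk]
      exact LocalizedModule.mk_eq.2 ⟨1, by simp only [one_smul, one_mul, mul_one, Submonoid.smul_def, smul_smul, Submonoid.coe_mul]⟩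
    rw [hs']
    refine Submodule.smul_mem _ _ ?_
    generalize t • w = tw at htw'
    induction htw' using Submodule.span_induction with
    | mem z hz => exact Submodule.subset_span ⟨z, hz, rfl⟩
    | zero => rw [map_zero]; exact zero_mem _
    | add a b _ _ ha hb => rw [map_add]; exact add_mem ha hb
    | smul c z _ hz => rw [map_smul, ← algebraMap_smul (Localization.AtPrime q') c]; exact Submodule.smul_mem _ _ hz
  · intro H
    rw [LocalizedModule.subsingleton_iff]
    intro v
    obtain ⟨w, rfl⟩ := hsurj v
    have hall : ∀ x ∈ Submodule.span (Localization.AtPrime q') (L '' ((KaehlerDifferential.D A P) '' (RingHom.ker φ.toRingHom : Set P))),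
        ∃ z ∈ N, ∃ s : q'.primeCompl, x = LocalizedModule.mk z s := by
      intro x hx
      induction hx using Submodule.span_induction with
      | mem z hz => obtain ⟨y, hy, rfl⟩ := hz; exact ⟨y, Submodule.subset_span hy, 1, rfl⟩
      | zero => exact ⟨0, zero_mem _, 1, (LocalizedModule.zero_mk 1).symm⟩
      | add a b _ _ ha hb =>
        obtain ⟨z, hz, s, rfl⟩ := ha
        obtain ⟨z', hz', s', rfl⟩ := hb
        exact ⟨_, add_mem (Submodule.smul_of_tower_mem _ s' hz) (Submodule.smul_of_tower_mem _ s hz'), _, LocalizedModule.mk_add_mk⟩
      | smul c z _ hz =>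
        obtain ⟨z, hz', s, rfl⟩ := hz
        obtain ⟨a, t, rfl⟩ := IsLocalization.exists_mk'_eq q'.primeCompl c
        rw [← Localization.mk_eq_mk', LocalizedModule.mk_smul_mk]
        exact ⟨_, Submodule.smul_mem _ a hz', _, rfl⟩
    obtain ⟨z, hz, s, hzs⟩ := hall (L w) (H ▸ Submodule.mem_top)
    obtain ⟨u, hu⟩ := LocalizedModule.mk_eq.1 hzs
    refine ⟨φ ((u : P) * s), (u * s).2, ?_⟩
    have h1 : ((u : P) * s) • w = (u : P) • z := by
      rw [mul_smul]; simpa [Submonoid.smul_def] using hu
    show φ ((u : P) * s) • f w = 0
    rw [show φ ((u : P) * s) • f w = ((u : P) * s) • f w from algebraMap_smul B _ _, ← map_smul, h1, (hker _).2 (Submodule.smul_mem _ _ hz)]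

end Groth.Agent.S9568
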