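import Groth.Statements.S9569
import Groth.Agent.Lib.RelAmple18.Generation
import Groth.Agent.Lib.RefHull26.Dual
import Groth.Agent.Lib.CurveAmple18.Hom
import Groth.Agent.Lib.InjMod.StalkInj
import Groth.Agent.Lib.Vol26.K0Twist
import Groth.Agent.Lib.CurveCoh17.PairDeg
import Groth.Agent.Lib.Cyc26.ZigzagStalk
-- import your own Groth.Agent.* helpers here

set_option autoImplicit false
universe u
open CategoryTheory CategoryTheory.Limits AlgebraicGeometry TopologicalSpace Opposite
open Constr

namespace Groth.Agent.S9569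

open Groth.Agent Groth.Agent.M1 Groth.Agent.M2 Groth.Agent.CurveCoh17 in
/-- Elementary tensors of sections of an invertible module commute. -/
theorem tsec_comm {X : Scheme.{u}} {L : X.Modules} (hL : PicF.IsInvertible L) (a b : Γ(L, (⊤ : X.Opens))) :
    tsec L L a b = tsec L L b a := by
  refine TopCat.Presheaf.section_ext ⟨(CohB1.tensorMod L L).presheaf, (CohB1.tensorMod L L).isSheaf⟩ ⊤ _ _
    fun x hx => (stalkEquiv L L x).injective ?_
  erw [stalkEquiv_tsec L L x hx a b, stalkEquiv_tsec L L x hx b a]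
  obtain ⟨g, hg⟩ := Cyc26.exists_gen hL x
  obtain ⟨r, hr⟩ := hg.2 (L.presheaf.germ ⊤ x hx a)
  obtain ⟨s, hs⟩ := hg.2 (L.presheaf.germ ⊤ x hx b)
  dsimp only at hr hs
  rw [← hr, ← hs]
  simp only [TensorProduct.smul_tmul', TensorProduct.tmul_smul, smul_smul, mul_comm]

open Groth.Agent Groth.Agent.M1 Groth.Agent.M2 Groth.Agent.CurveCoh17 in
theorem generated {X : Scheme.{u}} {L : X.Modules} (hL : PicF.IsInvertible L) {J : Type} [Fintype J]
    [DecidableEq J] (s : J → (Coh.structureModule X ⟶ L))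
    (hs : Epi (Sigma.desc s : (∐ fun _ : J => Coh.structureModule X) ⟶ L)) :
    Curv2.IsGloballyGenerated
      (CohB1.tensorMod (kernel (Sigma.desc s : (∐ fun _ : J => Coh.structureModule X) ⟶ L)) L) := by
  classical
  let Y : X.Modules := ∐ fun _ : J => Coh.structureModule X
  let φ : Y ⟶ L := Sigma.desc s
  have hS : (ShortComplex.mk (kernel.ι φ) φ (kernel.condition φ)).ShortExact :=
    { exact := ShortComplex.exact_kernel φ }
  have hT := shortExact_tensorR hS L (Snapper.flat_stalk hL)
  let e : J → Γ(Y, (⊤ : X.Opens)) := fun i => Amp.gval (Sigma.ι (fun _ : J => Coh.structureModule X) i)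
  let σ : J → Γ(L, (⊤ : X.Opens)) := fun i => Amp.gval (s i)
  have he : ∀ i, φ.app ⊤ (e i) = σ i := fun i => by
    rw [← Amp.gval_comp, Sigma.ι_desc]
  let ω : J → J → Γ(CohB1.tensorMod Y L, (⊤ : X.Opens)) := fun i k => tsec Y L (e i) (σ k) - tsec Y L (e k) (σ i)
  have hω : ∀ i k, secHom (ω i k) ≫ (tensorR L).map φ = 0 := fun i k => by
    rw [M1.secHom_comp]
    have h0 : ((tensorR L).map φ).app ⊤ (ω i k) = 0 := by
      show (tensorMap φ (𝟙 L)).app ⊤ (ω i k) = 0
      rw [map_sub, tensorMap_tsec, tensorMap_tsec, he, he]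
      show tsec L L (σ i) (σ k) - tsec L L (σ k) (σ i) = 0
      rw [sub_eq_zero, tsec_comm hL]
    refine (congrArg M1.secHom h0).trans ?_
    exact (Twist.eq_secHom (0 : Coh.structureModule X ⟶ CohB1.tensorMod L L)).symm
  haveI := hT.mono_f
  let t : J → J → (Coh.structureModule X ⟶ CohB1.tensorMod (kernel φ) L) := fun i k =>
    hT.exact.lift (secHom (ω i k)) (hω i k)
  have ht : ∀ i k, t i k ≫ (tensorR L).map (kernel.ι φ) = secHom (ω i k) := fun i k => hT.exact.lift_f _ _
  refine RA.isGloballyGenerated_of_span _ fun x => top_le_iff.1 fun a _ => ?_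
  let R := X.presheaf.stalk x
  let eh : J → Y.presheaf.stalk x := fun i => Y.presheaf.germ ⊤ x trivial (e i)
  let sh : J → L.presheaf.stalk x := fun i => L.presheaf.germ ⊤ x trivial (σ i)
  have heh : ∀ i, stalkLin φ x (eh i) = sh i := fun i => by
    rw [stalkLin_apply, germ_naturality, he]
  have hY : ∀ y : Y.presheaf.stalk x, ∃ c : J → R, y = ∑ i, c i • eh i := fun y => by
    let pr : J → (Y ⟶ Coh.structureModule X) := fun i => Sigma.desc fun j => if j = i then 𝟙 _ else 0
    have hid : (∑ i, pr i ≫ Sigma.ι (fun _ : J => Coh.structureModule X) i) = 𝟙 Y := Sigma.hom_ext _ _ fun j => by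
      rw [Preadditive.comp_sum, Finset.sum_eq_single j (fun i _ hij => by
        rw [Sigma.ι_desc_assoc, if_neg (Ne.symm hij), zero_comp])
        (fun h => absurd (Finset.mem_univ j) h), Category.comp_id, Sigma.ι_desc_assoc, if_pos rfl]
      exact Category.id_comp _
    choose c hc using fun i => (RH26.str x).surjective
      (stalkLin (pr i) x y)
    refine ⟨c, ?_⟩
    conv_lhs => rw [← InjMod.stalkLin_id_apply Y x y, ← hid]
    rw [InjMod.stalkLin_sum_apply]
    refine Finset.sum_congr rfl fun i _ => ?_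
    rw [InjMod.stalkLin_comp_apply, ← hc i, RH26.str_apply, map_smul]
    congr 1
    show stalkLin (Sigma.ι (fun _ : J => Coh.structureModule X) i) x (Cyc26.oneStalk x) = _
    rw [Cyc26.oneStalk, stalkLin_apply, germ_naturality]
    rfl
  obtain ⟨g, hg⟩ := Cyc26.exists_gen hL x
  choose α hα using fun i => hg.2 (sh i)
  dsimp only at hα
  obtain ⟨k, hk⟩ : ∃ k, IsUnit (α k) := by
    obtain ⟨y, hy⟩ := (M1.epi_iff_stalk φ).1 hs x g
    obtain ⟨c, rfl⟩ := hY y
    have h1 : (∑ i, c i * α i) • g = (1 : R) • g := by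
      rw [one_smul, Finset.sum_smul]
      refine Eq.trans ?_ hy
      show _ = stalkLin φ x (∑ i, c i • eh i)
      rw [map_sum]
      exact Finset.sum_congr rfl fun i _ => by rw [map_smul, heh, mul_smul, hα]
    by_contra hno
    push Not at hno
    have : (∑ i, c i * α i) ∈ IsLocalRing.maximalIdeal R := Ideal.sum_mem _ fun i _ =>
      Ideal.mul_mem_left _ _ ((IsLocalRing.mem_maximalIdeal _).2 (hno i))
    rw [hg.1 h1] at this
    exact (IsLocalRing.maximalIdeal.isMaximal R).ne_top ((Ideal.eq_top_iff_one _).2 this)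
  have hgk : Amp.Gen (sh k) := by rw [← hα k]; exact (Amp.Gen.ne_zero_smul hg _).2 hk
  choose β hβ using fun i => hgk.2 (sh i)
  dsimp only at hβ
  let ιL := stalkLin ((tensorR L).map (kernel.ι φ)) x
  have hinj : Function.Injective ιL := (M1.mono_iff_stalk _).1 hT.mono_f x
  obtain ⟨y, hy⟩ := (Cyc26.bijective_tstalk_gen (G := Y) hgk).2 (ιL a)
  dsimp only at hy
  obtain ⟨c, rfl⟩ := hY y
  have hy0 : stalkLin φ x (∑ i, c i • eh i) = 0 := by
    refine (Cyc26.bijective_tstalk_gen (G := L) hgk).1 ?_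
    show Cyc26.tstalk L L x _ (sh k) = Cyc26.tstalk L L x 0 (sh k)
    rw [← Vol26.stalkLin_tensorR_tstalk, hy, ← InjMod.stalkLin_comp_apply, ← Functor.map_comp, kernel.condition,
      Functor.map_zero]
    rw [show Cyc26.tstalk L L x (0 : L.presheaf.stalk x) (sh k) = 0 by
      simp only [Cyc26.tstalk, TensorProduct.zero_tmul, map_zero]]
    exact CurveAmple18.stalkLin_zero x a
  have hcβ : ∑ i, c i * β i = 0 := hgk.1 (by
    dsimp only
    rw [zero_smul, Finset.sum_smul, ← hy0, map_sum]
    exact Finset.sum_congr rfl fun i _ => by rw [map_smul, heh, mul_smul, hβ])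
  have himg : ∀ i, ιL ((CohB1.tensorMod (kernel φ) L).presheaf.germ ⊤ x trivial (Amp.gval (t i k))) =
      Cyc26.tstalk Y L x (eh i) (sh k) - β i • Cyc26.tstalk Y L x (eh k) (sh k) := fun i => by
    refine (M1.germ_naturality ((tensorR L).map (kernel.ι φ)) ⊤ x trivial (Amp.gval (t i k))).trans ?_
    erw [← Amp.gval_comp, ht, Amp.gval_secHom]
    erw [map_sub,
      (LinearEquiv.eq_symm_apply _).2 (stalkEquiv_tsec Y L x (U := ⊤) trivial (e i) (σ k)),
      (LinearEquiv.eq_symm_apply _).2 (stalkEquiv_tsec Y L x (U := ⊤) trivial (e k) (σ i))]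
    show Cyc26.tstalk Y L x (eh i) (sh k) - Cyc26.tstalk Y L x (eh k) (sh i) = _
    rw [← hβ i]
    simp only [Cyc26.tstalk, TensorProduct.tmul_smul, map_smul]
  have hcomb : Cyc26.tstalk Y L x (∑ i, c i • eh i) (sh k) =
      ∑ i, c i • (Cyc26.tstalk Y L x (eh i) (sh k) - β i • Cyc26.tstalk Y L x (eh k) (sh k)) := by
    rw [Finset.sum_congr rfl fun i _ => smul_sub (c i) _ _, Finset.sum_sub_distrib,
      Finset.sum_congr (f := fun i => c i • β i • Cyc26.tstalk Y L x (eh k) (sh k)) rfl fun i _ => smul_smul (c i) (β i) _,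
      ← Finset.sum_smul, hcβ, zero_smul, sub_zero]
    simp only [Cyc26.tstalk, TensorProduct.sum_tmul, map_sum]
    exact Finset.sum_congr rfl fun i _ => by rw [← TensorProduct.smul_tmul', map_smul]
  have hfin : a = ∑ i, c i • (CohB1.tensorMod (kernel φ) L).presheaf.germ ⊤ x trivial (Amp.gval (t i k)) := by
    refine hinj ?_
    refine Eq.trans ?_ (map_sum ιL _ _).symm
    rw [← hy]
    refine Eq.trans ?_ (Finset.sum_congr rfl fun i _ => ((map_smul ιL (c i) _).trans (congrArg (c i • ·) (himg i))).symm)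
    exact hcomb
  rw [hfin]
  exact Submodule.sum_mem _ fun i _ => Submodule.smul_mem _ _ (Submodule.subset_span ⟨Amp.gval (t i k), rfl⟩)

/-- Let X be a scheme, L an invertible O_X-module and s_0, …, s_n global sections of L, given as module
maps O_X → L, which generate L: the map O_X^{n+1} → L they induce is an epimorphism. Let F be the
kernel of that map. Then F ⊗ L is globally generated, i.e. it is a quotient of a free O_X-module. -/
theorem result (X : Scheme.{u}) (L : X.Modules) (hL : PicF.IsInvertible L)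
    (n : ℕ) (s : Fin (n + 1) → (Coh.structureModule X ⟶ L))
    (hs : Epi (Sigma.desc s : FlatMod.freeMod X (n + 1) ⟶ L)) :
    Curv2.IsGloballyGenerated (CohB1.tensorMod (kernel (Sigma.desc s : FlatMod.freeMod X (n + 1) ⟶ L)) L) := by
  classical
  exact generated hL s hs

end Groth.Agent.S9569
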