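import Groth.Statements.S9570
import Groth.Agent.Lib.ProjClosed.Basic
import Groth.Agent.Lib.Twist.Universal
import Groth.Agent.Lib.ProjSpace.Basic

set_option autoImplicit false
universe u
open CategoryTheory CategoryTheory.Limits AlgebraicGeometry TopologicalSpace Opposite
open Constr

namespace Groth.Agent.S9570

open Groth.Agent.M1 Groth.Agent.Twist in
theorem pullSec_eq_zero_iff {R A : Type u} [CommRing R] [CommRing A] [Algebra R A] {𝒜 : ℕ → Submodule R A}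
    [GradedAlgebra 𝒜] {Z : Scheme.{u}} (r : Z ⟶ Proj 𝒜) (s : Finset A) (hs1 : ∀ f ∈ s, f ∈ 𝒜 1)
    (hs : (HomogeneousIdeal.irrelevant 𝒜).toIdeal ≤ Ideal.span (s : Set A)) {d : ℕ} {F : A} (hF : F ∈ 𝒜 d) :
    _root_.ProjUP.pullSec r (_root_.Twist.twist 𝒜 (d : ℤ)) (_root_.Twist.globalOf 𝒜 ⟨F, hF⟩) = 0 ↔
      Groth.Agent.ProjClosed.VanishesOn r s hs1 d F hF := by
  let M := (Scheme.Modules.pullback r).obj (_root_.Twist.twist 𝒜 (d : ℤ))
  let t : Γ(M, ⊤) := _root_.ProjUP.pullSec r (_root_.Twist.twist 𝒜 (d : ℤ)) (_root_.Twist.globalOf 𝒜 ⟨F, hF⟩)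
  have key : ∀ (f : A) (hf : f ∈ 𝒜 1), mres M (le_top : r ⁻¹ᵁ Proj.basicOpen 𝒜 f ≤ ⊤) t = 0 ↔
      Groth.Agent.ProjClosed.secVal r hf F hF = 0 := by
    intro f hf
    let D := Proj.basicOpen 𝒜 f
    have hfd : f ^ d ∈ 𝒜 d := by simpa using SetLike.pow_mem_graded d hf
    have hbij : ∀ V : (Proj 𝒜).Opens, V ≤ D → Function.Bijective fun q : Γ(Proj 𝒜, V) =>
        q • mres (_root_.Twist.twist 𝒜 (d : ℤ)) (le_top : V ≤ ⊤) (gsec 𝒜 ⟨f ^ d, hfd⟩) := fun V hV =>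
      bijective_smul_gsec 𝒜 ⟨f ^ d, hfd⟩ V fun x hx => pow_notMem 𝒜 (hV hx) d
    have hgen : IsGen M (r ⁻¹ᵁ D) (M2.pullSec r (_root_.Twist.twist 𝒜 (d : ℤ)) (U := D)
        (mres (_root_.Twist.twist 𝒜 (d : ℤ)) (le_top : D ≤ ⊤) (gsec 𝒜 ⟨f ^ d, hfd⟩))) := by
      refine IsGen.pullback r fun V hV => ?_
      simp only [mres_mres]
      exact hbij V hV
    have hs : mres (_root_.Twist.twist 𝒜 (d : ℤ)) (le_top : D ≤ ⊤) (gsec 𝒜 ⟨F, hF⟩) =
        Proj.awayToSection 𝒜 f (HomogeneousLocalization.Away.mk 𝒜 hf d F (ProjClosed.mem_smul_one hF)) •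
          mres (_root_.Twist.twist 𝒜 (d : ℤ)) (le_top : D ≤ ⊤) (gsec 𝒜 ⟨f ^ d, hfd⟩) := by
      refine sec_ext fun x hx => ?_
      refine Eq.trans ?_ (val_smul _ _ x hx).symm
      rw [valO_awayToSection 𝒜 hf _ x hx (pow_notMem 𝒜 hx d)]
      have h1 := one_notMem_prime 𝒜 x
      show Localization.mk F (⟨1, h1⟩ : x.asHomogeneousIdeal.toIdeal.primeCompl) =
        Localization.mk F _ * Localization.mk (f ^ d) ⟨1, h1⟩
      rw [Localization.mk_mul]
      refine (mk_eq_iff 𝒜 _ _).2 ⟨1, h1, ?_⟩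
      show 1 * (f ^ d * 1 * F) = 1 * (1 * (F * f ^ d))
      ring
    have e : mres M (le_top : r ⁻¹ᵁ D ≤ ⊤) t = ProjClosed.secVal r hf F hF •
        M2.pullSec r (_root_.Twist.twist 𝒜 (d : ℤ)) (U := D)
          (mres (_root_.Twist.twist 𝒜 (d : ℤ)) (le_top : D ≤ ⊤) (gsec 𝒜 ⟨f ^ d, hfd⟩)) := by
      have h0 : mres M (le_top : r ⁻¹ᵁ D ≤ ⊤) t = M2.pullSec r (_root_.Twist.twist 𝒜 (d : ℤ)) (U := D)
          (mres (_root_.Twist.twist 𝒜 (d : ℤ)) (le_top : D ≤ ⊤) (gsec 𝒜 ⟨F, hF⟩)) :=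
        (app_mres ((Scheme.Modules.pullbackPushforwardAdjunction r).unit.app (_root_.Twist.twist 𝒜 (d : ℤ)))
          (le_top : D ≤ ⊤) (gsec 𝒜 ⟨F, hF⟩)).symm
      rw [h0, hs, M2.pullSec_smul]
      rfl
    constructor
    · intro h
      refine (hgen (r ⁻¹ᵁ D) le_rfl).1 ?_
      show _ • mres M le_rfl _ = _ • mres M le_rfl _
      rw [mres_id, zero_smul, ← e, h]
    · intro h
      rw [e, h, zero_smul]
  refine ⟨fun h g hg => (key g (hs1 g hg)).1 (by rw [show t = 0 from h]; exact map_zero _), fun h => ?_⟩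
  refine TopCat.Sheaf.eq_of_locally_eq' ⟨M.presheaf, M.isSheaf⟩ (fun g : s => r ⁻¹ᵁ Proj.basicOpen 𝒜 g.1) ⊤
    (fun g => homOfLE le_top) ?_ t 0 fun g => ?_
  · intro x _
    have : r x ∈ ⨆ g : s, Proj.basicOpen 𝒜 g.1 := by
      rw [Proj.iSup_basicOpen_eq_top 𝒜 (fun g : s => (g.1 : A))
        (hs.trans (Ideal.span_mono fun y hy => ⟨⟨y, hy⟩, rfl⟩))]
      trivial
    obtain ⟨g, hg⟩ := TopologicalSpace.Opens.mem_iSup.1 this
    exact TopologicalSpace.Opens.mem_iSup.2 ⟨g, hg⟩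
  · exact ((key g.1 (hs1 g.1 g.2)).2 (h g.1 g.2)).trans (map_zero _).symm

/-- Let R be a ring and i : Z → P^n_R a closed immersion. For d ≥ 0 let I_d be the kernel of the map
from the degree-d forms of R[T_0, …, T_n] to the global sections of i^*O(d), sending a form F to the
inverse image of the global section F of O(d). Then I = ⊕ I_d is a graded ideal and Z is the closed
subscheme Proj(R[T_0, …, T_n]/I) of P^n_R: for every surjective homomorphism of graded rings φ from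
R[T_0, …, T_n] onto a graded ring B whose kernel in each degree d is exactly I_d, there is an
isomorphism Z ≅ Proj B whose composite with the morphism Proj B → P^n_R induced by φ is i. -/
theorem result {R : Type u} [CommRing R] (n : ℕ)
    {Z : Scheme.{u}} (i : Z ⟶ CohB1.ProjSpace n R) [IsClosedImmersion i]
    {B : Type u} [CommRing B] [Algebra R B] (ℬ : ℕ → Submodule R B) [GradedAlgebra ℬ]
    (φ : CohB1.polyGrading n R →+*ᵍ ℬ) (hφs : Function.Surjective φ)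
    (hker : ∀ (d : ℕ) (F : MvPolynomial (Fin (n + 1)) R) (hF : F ∈ CohB1.polyGrading n R d),
      φ F = 0 ↔ ProjUP.pullSec i (Twist.twistProjSpace n R d) (Twist.globalOf (CohB1.polyGrading n R) ⟨F, hF⟩) = 0)
    (hφ : HomogeneousIdeal.irrelevant ℬ ≤ (HomogeneousIdeal.irrelevant (CohB1.polyGrading n R)).map φ) :
    ∃ e : Z ≅ Proj ℬ, e.hom ≫ Proj.map φ hφ = i := by
  classical
  let 𝒜 := CohB1.polyGrading n R
  let s : Finset (MvPolynomial (Fin (n + 1)) R) := Finset.univ.image MvPolynomial.X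
  have hs1 : ∀ f ∈ s, f ∈ 𝒜 1 := by
    intro f hf
    obtain ⟨j, -, rfl⟩ := Finset.mem_image.mp hf
    exact MvPolynomial.isHomogeneous_X R j
  have hs : (HomogeneousIdeal.irrelevant 𝒜).toIdeal ≤ Ideal.span (s : Set _) := by
    simp only [s, Finset.coe_image, Finset.coe_univ, Set.image_univ]
    exact Groth.Agent.ProjSpace.irrelevant_le_span n R
  exact @Groth.Agent.ProjClosed.exists_iso _ _ _ _ _ 𝒜 _ Z i s hs1 ‹IsClosedImmersion i› hs B _ _ ℬ _ φ hφs
    (fun d F hF => (hker d F hF).trans (pullSec_eq_zero_iff i s hs1 hs hF)) hφ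


end Groth.Agent.S9570
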