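import Groth.Statements.S9572
import Groth.Agent.Lib.EGA2.PConeMap

set_option autoImplicit false
universe u
open CategoryTheory CategoryTheory.Limits AlgebraicGeometry TopologicalSpace Opposite
open Constr

namespace Groth.Agent.S9572

/-- Let ψ : A → B be a homomorphism of graded rings such that A_d → B_d is bijective for all d ≥ d₀. Let
U(ψ) ⊆ Proj B be the union of the opens D_+(ψ f) over homogeneous f of positive degree, and r_ψ :
U(ψ) → Proj A the morphism whose restriction to each chart Spec B_(ψ f) is Spec of the induced map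
A_(f) → B_(ψ f) followed by the chart of Proj A. Then U(ψ) = Proj B and r_ψ is an isomorphism. (Here
r_ψ is any morphism with that chart description; it is unique.) -/
theorem result {R A : Type u} [CommRing R] [CommRing A] [Algebra R A] (𝒜 : ℕ → Submodule R A) [GradedAlgebra 𝒜]
    {B : Type u} [CommRing B] [Algebra R B] (ℬ : ℕ → Submodule R B) [GradedAlgebra ℬ] (ψ : 𝒜 →+*ᵍ ℬ)
    (d₀ : ℕ) (hbij : ∀ d : ℕ, d₀ ≤ d → Set.BijOn ψ (𝒜 d) (ℬ d))
    (r : (PCone.dom ψ : Scheme.{u}) ⟶ Proj 𝒜)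
    (hr : ∀ (d : ℕ) (f : A) (hd : 0 < d) (hf : f ∈ 𝒜 d),
      PCone.chart ψ hf hd ≫ r =
        Spec.map (CommRingCat.ofHom (HomogeneousLocalization.Away.map ψ f)) ≫ Proj.awayι 𝒜 f hf hd) :
    PCone.dom ψ = ⊤ ∧ IsIso r := by
  refine ⟨top_le_iff.1 fun x _ => ?_, ?_⟩
  · obtain ⟨⟨g, e, he, hg⟩, hxg⟩ := TopologicalSpace.Opens.mem_iSup.1
      ((Groth.Agent.EGA2.iSup_basicOpen_pos ℬ).ge (Set.mem_univ x))
    obtain ⟨a, ha, hag⟩ := (hbij ((d₀ + 1) * e)
      (le_trans (Nat.le_succ _) (Nat.le_mul_of_pos_right _ he))).surjOn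
      (SetLike.pow_mem_graded (d₀ + 1) hg)
    refine TopologicalSpace.Opens.mem_iSup.2 ⟨⟨a, _, Nat.mul_pos (Nat.succ_pos _) he, ha⟩, ?_⟩
    show x ∈ Proj.basicOpen ℬ (ψ a)
    rw [hag, Proj.basicOpen_pow ℬ g (d₀ + 1) (Nat.succ_pos _)]
    exact hxg
  refine Groth.Agent.EGA2.pcone_of_forall_away ψ hr (CategoryTheory.MorphismProperty.isomorphisms _)
    fun e he f hf => ?_
  have key : ∀ n, d₀ ≤ (d₀ + n) • e := fun n =>
    le_trans (Nat.le_add_right _ n) (Nat.le_mul_of_pos_right _ he)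
  have : CategoryTheory.IsIso (CommRingCat.ofHom (HomogeneousLocalization.Away.map ψ f)) := by
    rw [CategoryTheory.ConcreteCategory.isIso_iff_bijective]
    constructor
    · change Function.Injective (HomogeneousLocalization.Away.map ψ f)
      rw [injective_iff_map_eq_zero]
      intro x hx
      obtain ⟨n, a, ha, rfl⟩ := HomogeneousLocalization.Away.mk_surjective 𝒜 hf x
      rw [HomogeneousLocalization.Away.map_mk, Groth.Agent.EGA2.away_mk_eq_zero_iff] at hx
      obtain ⟨k, hk⟩ := hx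
      rw [Groth.Agent.EGA2.away_mk_eq_zero_iff]
      refine ⟨d₀ + k, (hbij ((d₀ + k) • e + n • e) (le_trans (key k) (Nat.le_add_right _ _))).injOn
        (SetLike.mul_mem_graded (SetLike.pow_mem_graded _ hf) ha) (zero_mem _) ?_⟩
      rw [map_zero, map_mul, map_pow, pow_add, mul_assoc, hk, mul_zero]
    · intro x
      obtain ⟨n, b, hb, rfl⟩ := HomogeneousLocalization.Away.mk_surjective ℬ (ψ.2 hf) x
      have hb' : ψ f ^ d₀ * b ∈ ℬ ((d₀ + n) • e) := by
        rw [add_smul]; exact SetLike.mul_mem_graded (SetLike.pow_mem_graded _ (ψ.2 hf)) hb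
      obtain ⟨a, ha, hab⟩ := (hbij _ (key n)).surjOn hb'
      refine ⟨HomogeneousLocalization.Away.mk 𝒜 hf (d₀ + n) a ha, ?_⟩
      change HomogeneousLocalization.Away.map ψ f _ = _
      rw [HomogeneousLocalization.Away.map_mk, Groth.Agent.EGA2.away_mk_eq_iff]
      exact ⟨0, by rw [hab]; ring⟩
  exact inferInstanceAs (CategoryTheory.IsIso _)

end Groth.Agent.S9572
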