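import Groth.Statements.S9574
import Groth.Agent.Lib.PullBC11.Crit
import Groth.Agent.Lib.GrMod11.Comap
import Groth.Agent.Lib.GrTw11.QCoh

set_option autoImplicit false
universe u
open CategoryTheory CategoryTheory.Limits AlgebraicGeometry TopologicalSpace Opposite
open scoped HomogeneousIdeal
open Constr

namespace Groth.Agent.S9574

/-- Let ψ : A → B be a homomorphism of graded rings such that A_d → B_d is bijective for all d ≥ d₀, so
that the induced morphism r_ψ : Proj B → Proj A is everywhere defined and an isomorphism. Then for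
every integer n the canonical map θ : r_ψ^* O_{Proj A}(n) → O_{Proj B}(n), adjoint to the map
O_{Proj A}(n) → (r_ψ)_* O_{Proj B}(n) sending a/f to ψ(a)/ψ(f), is an isomorphism. (This row assumes
in addition that B_+ lies in the ideal generated by ψ(A_+), under which the induced morphism is
defined by the graded homomorphism on all of Proj B; the published statement assumes only the
eventual bijectivity, so it also covers maps such as the inclusion of k ⊕ x²k[x] in k[x], which this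
row excludes.) -/
theorem result {R A : Type u} [CommRing R] [CommRing A] [Algebra R A] (𝒜 : ℕ → Submodule R A) [GradedAlgebra 𝒜]
    {B : Type u} [CommRing B] [Algebra R B] (ℬ : ℕ → Submodule R B) [GradedAlgebra ℬ] (ψ : 𝒜 →+*ᵍ ℬ)
    (d₀ : ℕ) (hbij : ∀ d : ℕ, d₀ ≤ d → Set.BijOn ψ (𝒜 d) (ℬ d))
    (hψ : HomogeneousIdeal.irrelevant ℬ ≤ (HomogeneousIdeal.irrelevant 𝒜).map ψ) (n : ℤ) :
    IsIso (((Scheme.Modules.pullbackPushforwardAdjunction (Proj.map ψ hψ)).homEquiv _ _).symm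
      (GrTwist.comap ψ hψ n)) := by
  classical
  have hbi : ∀ (d : ℕ), d₀ ≤ d → Set.BijOn ψ (𝒜 d) (ℬ d) := hbij
  refine PullBC11.isIso_of_isBC _ (GrTw11.isQCoh_twist' 𝒜 n) (GrTw11.isQCoh_twist' ℬ n) fun y => ?_
  obtain ⟨f₀, ⟨d₁, hd₁, hf₀⟩, hxf, -⟩ := GrMod11.exists_basicOpen_pos_nhd 𝒜 (V := ⊤)
    (x := Proj.map ψ hψ y) trivial
  let f := f₀ ^ (d₀ + 1)
  let d := (d₀ + 1) * d₁
  have hf : f ∈ 𝒜 d := GrTw11.pow_mem_smul 𝒜 hf₀ _
  have hd : 0 < d := by positivity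
  have hdd : d₀ ≤ d := (Nat.le_succ _).trans (Nat.le_mul_of_pos_right _ hd₁)
  have hψf : ψ f ∈ ℬ d := ψ.map_mem hf
  have hpre : Proj.map ψ hψ ⁻¹ᵁ Proj.basicOpen 𝒜 f = Proj.basicOpen ℬ (ψ f) :=
    Proj.map_preimage_basicOpen ψ hψ f
  refine ⟨Proj.basicOpen 𝒜 f, Proj.isAffineOpen_basicOpen 𝒜 f hf hd, Proj.map ψ hψ ⁻¹ᵁ Proj.basicOpen 𝒜 f,
    hpre ▸ Proj.isAffineOpen_basicOpen ℬ (ψ f) hψf hd, le_rfl, GrTw11.pow_notMem 𝒜 hxf _, ?_⟩
  have hdeg : ∀ i : ℕ, d₀ ≤ d₀ * d + i := fun i => Nat.le_add_right_of_le (Nat.le_mul_of_pos_right d₀ hd)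
  have hb : Function.Bijective ((GrTwist.comap ψ hψ n).app (Proj.basicOpen 𝒜 f)) := by
    refine ⟨(injective_iff_map_eq_zero _).2 fun s hs => ?_, fun t => ?_⟩
    · obtain ⟨i, k, a, ha, hi, hsm⟩ := GrTw11.exists_eq_frac_of_pos 𝒜 hd hf (s : GrTw11.Sec (𝒜 := 𝒜) n _)
      obtain ⟨N, hN⟩ := GrTw11.exists_pow_mul_eq_zero_of_mk ℬ hd hψf (show ψ a ∈ ℬ i from ψ.map_mem ha) fun w hw => by
        refine ⟨ψ (f ^ k), by rw [map_pow]; exact GrTw11.pow_notMem ℬ hw k, ?_⟩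
        have h2 : GrTw11.val (n := n) ((GrTwist.comap ψ hψ n).app (Proj.basicOpen 𝒜 f) s) w hw = 0 := by rw [hs]; rfl
        refine Eq.trans ?_ h2
        refine Eq.trans ?_ (congrArg (GrTwist.locMap ψ hψ w) (hsm (ProjectiveSpectrum.comap ψ hψ w) hw)).symm
        exact (GrTwist.locMap_mk ψ hψ w a ⟨f ^ k, GrTw11.pow_notMem 𝒜 hw k⟩).symm
      have h0 : f ^ d₀ * (f ^ N * a) = 0 := by
        refine (hbi _ (hdeg _)).injOn (SetLike.mul_mem_graded (GrTw11.pow_mem_smul 𝒜 hf d₀)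
          (SetLike.mul_mem_graded (GrTw11.pow_mem_smul 𝒜 hf N) ha)) (zero_mem _) ?_
        rw [map_mul, map_mul, map_zero, map_pow ψ f N, hN, mul_zero]
      refine GrTw11.sec_ext (n := n) fun x hx => ?_
      rw [hsm x hx]
      show _ = (0 : GrTwist.Loc 𝒜 x)
      rw [← Localization.mk_zero (⟨f ^ k, GrTw11.pow_notMem 𝒜 hx k⟩ : x.asHomogeneousIdeal.toIdeal.primeCompl),
        GrTw11.mk_eq_iff]
      refine ⟨f ^ d₀ * f ^ N, fun h => (x.isPrime.mem_or_mem h).elim (GrTw11.pow_notMem 𝒜 hx d₀)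
        (GrTw11.pow_notMem 𝒜 hx N), ?_⟩
      linear_combination (f ^ k) * h0
    · let t' : GrTw11.Sec (𝒜 := ℬ) n (Proj.basicOpen ℬ (ψ f)) := GrTwist.resN n (eqToHom hpre.symm).op t
      obtain ⟨i, k, b, hb, hi, hsm⟩ := GrTw11.exists_eq_frac_of_pos ℬ hd hψf t'
      obtain ⟨a, ha, e⟩ := (hbi _ (hdeg i)).surjOn
        (SetLike.mul_mem_graded (GrTw11.pow_mem_smul ℬ hψf d₀) hb)
      refine ⟨GrTw11.frac 𝒜 (n := n) (Proj.basicOpen 𝒜 f) ha (GrTw11.pow_mem_smul 𝒜 hf (d₀ + k))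
        (by push_cast; rw [hi]; ring) (fun x hx => GrTw11.pow_notMem 𝒜 hx _), ?_⟩
      refine GrTw11.sec_ext (n := n) fun w hw => ?_
      have hw' : w ∈ Proj.basicOpen ℬ (ψ f) := hpre ▸ hw
      show GrTwist.locMap ψ hψ w (Localization.mk a ⟨f ^ (d₀ + k), _⟩) = _
      refine (GrTwist.locMap_mk ψ hψ w _ _).trans ?_
      refine Eq.trans ?_ (show GrTw11.val t' w hw' = GrTw11.val (n := n) t w hw from rfl)
      rw [hsm w hw', GrTw11.mk_eq_iff]
      exact ⟨1, GrTw11.one_notMem_prime ℬ w, by simp only [e, map_mul, map_pow, pow_add]; ring⟩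
  have hr : Function.Surjective ((Proj.map ψ hψ).app (Proj.basicOpen 𝒜 f)) := fun c => by
    obtain ⟨z, hz⟩ := ((ConcreteCategory.isIso_iff_bijective (Proj.basicOpenIsoAway ℬ (ψ f) hψf hd).hom).1
      inferInstance).2 ((Proj ℬ).presheaf.map (eqToHom hpre.symm).op c)
    obtain ⟨j, b, hb, rfl⟩ := HomogeneousLocalization.Away.mk_surjective ℬ hψf z
    have hb' : ψ f ^ d₀ * b ∈ ℬ ((d₀ + j) • d) := by
      have := SetLike.mul_mem_graded (GrTw11.pow_mem_smul ℬ hψf d₀) hb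
      simpa [smul_eq_mul, add_mul] using this
    obtain ⟨a, ha, e⟩ := (hbi _ ((Nat.le_mul_of_pos_right d₀ hd).trans
      (by rw [smul_eq_mul, add_mul]; exact Nat.le_add_right _ _))).surjOn hb'
    refine ⟨Proj.awayToSection 𝒜 f (HomogeneousLocalization.Away.mk 𝒜 hf (d₀ + j) a ha), ?_⟩
    refine GrTw11.sectionO_ext fun w hw => ?_
    have hw' : w ∈ Proj.basicOpen ℬ (ψ f) := hpre ▸ hw
    have hc : GrTw11.valO c w hw = GrTw11.valO
        ((Proj ℬ).presheaf.map (eqToHom hpre.symm).op c) w hw' := rfl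
    rw [hc, ← hz, Proj.basicOpenIsoAway_hom]
    refine (HomogeneousLocalization.val_localRingHom _).trans ?_
    refine ((congrArg (GrTwist.locMap ψ hψ w) (GrTw11.valO_awayToSection 𝒜 hf ha (ProjectiveSpectrum.comap ψ hψ w)
      hw (GrTw11.pow_notMem 𝒜 hw (d₀ + j)))).trans (GrTwist.locMap_mk ψ hψ w _ _)).trans ?_
    rw [GrTw11.valO_awayToSection ℬ hψf hb w hw' (GrTw11.pow_notMem ℬ hw' j), GrTw11.mk_eq_iff]
    exact ⟨1, GrTw11.one_notMem_prime ℬ w, by simp only [e, map_mul, map_pow, pow_add]; ring⟩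
  have hres : ∀ s : Γ(GrTwist.twist 𝒜 n, Proj.basicOpen 𝒜 f),
      M1.mres (GrTwist.twist ℬ n) (le_refl (Proj.map ψ hψ ⁻¹ᵁ Proj.basicOpen 𝒜 f))
        ((GrTwist.comap ψ hψ n).app _ s) = (GrTwist.comap ψ hψ n).app _ s := fun s => rfl
  refine PullBC11.isBC_of _ _ (fun t => ?_) ?_
  · obtain ⟨s, rfl⟩ := hb.2 t
    exact Submodule.subset_span ⟨s, hres s⟩
  · letI := ((Proj.map ψ hψ).appLE (Proj.basicOpen 𝒜 f) (Proj.map ψ hψ ⁻¹ᵁ Proj.basicOpen 𝒜 f) le_rfl).hom.toAlgebra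
    letI := PullBC11.baseModule (g := Proj.map ψ hψ) (GrTwist.twist ℬ n)
      (le_refl (Proj.map ψ hψ ⁻¹ᵁ Proj.basicOpen 𝒜 f))
    haveI : IsScalarTower Γ(Proj 𝒜, Proj.basicOpen 𝒜 f) Γ(Proj ℬ, Proj.map ψ hψ ⁻¹ᵁ Proj.basicOpen 𝒜 f)
        Γ(GrTwist.twist ℬ n, Proj.map ψ hψ ⁻¹ᵁ Proj.basicOpen 𝒜 f) :=
      IsScalarTower.of_algebraMap_smul fun _ _ => rfl
    intro z hz
    obtain ⟨s, rfl⟩ : ∃ s, z = 1 ⊗ₜ s := by
      clear hz
      induction z using TensorProduct.induction_on with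
      | zero => exact ⟨0, (TensorProduct.tmul_zero _ _).symm⟩
      | tmul c s =>
        obtain ⟨r, hr'⟩ := hr c
        refine ⟨r • s, ?_⟩
        rw [← TensorProduct.smul_tmul, ← Algebra.algebraMap_eq_smul_one]
        congr 1
        rw [← hr']
        exact congrArg (fun φ => φ r) (Scheme.Hom.app_eq_appLE (Proj.map ψ hψ))
      | add a b ha hb' =>
        obtain ⟨⟨s, rfl⟩, ⟨t, rfl⟩⟩ := And.intro ha hb'
        exact ⟨s + t, (TensorProduct.tmul_add _ _ _).symm⟩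
    rw [LinearMap.liftBaseChange_one_tmul] at hz
    rw [(injective_iff_map_eq_zero _).1 hb.1 s ((hres s).symm.trans hz), TensorProduct.tmul_zero]

end Groth.Agent.S9574
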