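import Groth.Statements.S9580
import Groth.Agent.Lib.Twist.Invertible
import Groth.Agent.Lib.EGA2.ProjMap

set_option autoImplicit false
universe u
open CategoryTheory CategoryTheory.Limits AlgebraicGeometry TopologicalSpace Opposite
open Constr

namespace Groth.Agent.S9580

/-- Let S be a graded ring, X = Proj S and Y ⊆ X a quasi-compact open subscheme. Then there is an
integer d ≥ 1 such that Y is contained in the open W_d, the union of the standard opens D_+(ab) over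
homogeneous a, b with deg a = deg b + d, and such that the restriction O_Y(nd) of O_X(nd) to Y is
invertible for every integer n. (The remaining assertions — the multiplication maps among the
O_Y(nd) and M~(nd) are isomorphisms, D_+(f) ∩ Y = Y_s, and the loci Y_s form a basis — are not
stated here.) -/
theorem result {R A : Type u} [CommRing R] [CommRing A] [Algebra R A] (𝒜 : ℕ → Submodule R A) [GradedAlgebra 𝒜]
    (Y : (Proj 𝒜).Opens) (hY : IsCompact (Y : Set (Proj 𝒜))) :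
    ∃ d : ℕ, 0 < d ∧
      (∀ y : Proj 𝒜, y ∈ Y → ∃ (i j : ℕ) (a b : A), a ∈ 𝒜 i ∧ b ∈ 𝒜 j ∧ i = j + d ∧ y ∈ Proj.basicOpen 𝒜 (a * b)) ∧
      ∀ n : ℤ, PicF.IsInvertible ((Twist.twist 𝒜 (n * d)).restrict Y.ι) := by
  classical
  have hex : ∀ y : Y, ∃ fd : {fd : A × ℕ // 0 < fd.2 ∧ fd.1 ∈ 𝒜 fd.2},
      (y : Proj 𝒜) ∈ Proj.basicOpen 𝒜 fd.1.1 := fun y => by
    have hy : (y : Proj 𝒜) ∈ (⨆ f : {f : A // ∃ k : ℕ, 0 < k ∧ f ∈ 𝒜 k}, Proj.basicOpen 𝒜 f.1) := by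
      rw [Groth.Agent.EGA2.iSup_basicOpen_pos 𝒜]; trivial
    obtain ⟨⟨f, k, hk, hf⟩, hy⟩ := TopologicalSpace.Opens.mem_iSup.1 hy
    exact ⟨⟨(f, k), hk, hf⟩, hy⟩
  choose fd hfd using hex
  obtain ⟨T, hT⟩ := hY.elim_finite_subcover
    (fun y : Y => ((Proj.basicOpen 𝒜 (fd y).1.1 : (Proj 𝒜).Opens) : Set (Proj 𝒜)))
    (fun y => (Proj.basicOpen 𝒜 (fd y).1.1).2) (fun x hx => Set.mem_iUnion.2 ⟨⟨x, hx⟩, hfd ⟨x, hx⟩⟩)
  let d := ∏ y ∈ T, (fd y).1.2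
  have hd : 0 < d := Finset.prod_pos fun y _ => (fd y).2.1
  have key : ∀ x : Proj 𝒜, x ∈ Y → ∃ (i j : ℕ) (a b : A), a ∈ 𝒜 i ∧ b ∈ 𝒜 j ∧ i = j + d ∧
      x ∈ Proj.basicOpen 𝒜 (a * b) := by
    intro x hx
    obtain ⟨y, hy, hxy⟩ := Set.mem_iUnion₂.1 (hT hx)
    obtain ⟨k, hk⟩ : (fd y).1.2 ∣ d := Finset.dvd_prod_of_mem _ hy
    refine ⟨(k + 1) * (fd y).1.2, (fd y).1.2, (fd y).1.1 ^ (k + 1), (fd y).1.1,
      SetLike.pow_mem_graded (k + 1) (fd y).2.2, (fd y).2.2, by rw [hk]; ring, ?_⟩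
    intro h
    exact hxy ((x.isPrime.mem_or_mem h).elim (x.isPrime.mem_of_pow_mem _) id)
  refine ⟨d, hd, key, fun n => Groth.Agent.Twist.isInvertible_restrict _ Y.ι fun y => ?_⟩
  obtain ⟨i, j, a, b, ha, hb, hij, hmem⟩ := key y.1 y.2
  exact ⟨_, hmem, Groth.Agent.Twist.nonempty_iso_basicOpen_mul 𝒜 ha hb hij n⟩

end Groth.Agent.S9580
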