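import Groth.Statements.S9581
import Groth.Prelude.Def_FlatCA
import Groth.Agent.Lib.H2Alg.WeakAss

set_option autoImplicit false
universe u
open CAlg

namespace Groth.Agent.S9581
open Groth.Agent.H2Alg

/-- (1) ⇔ (3): for a ring R, an R-module M and a prime p of R, the prime p is weakly associated to M
(minimal among the primes containing the annihilator of some element of M) if and only if the
localization M_p contains an element whose annihilator in R_p has radical equal to the maximal ideal
p R_p. -/
theorem result {R : Type u} [CommRing R] (M : Type u) [AddCommGroup M] [Module R M] (p : Ideal R) [p.IsPrime] :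
    p ∈ FlatCA.weakAss R M ↔ IsAssociatedPrime (IsLocalRing.maximalIdeal (Localization.AtPrime p)) (LocalizedModule p.primeCompl M) := by
  constructor
  · rintro ⟨m, hm⟩
    obtain ⟨hle, hp⟩ := mem_minimalPrimes_iff_exists_mul_pow_mem.1 hm
    refine ⟨inferInstance, LocalizedModule.mkLinearMap p.primeCompl M m, le_antisymm ?_ ?_⟩
    · intro x hx
      obtain ⟨a, t, rfl⟩ := IsLocalization.exists_mk'_eq p.primeCompl x
      rw [IsLocalization.AtPrime.mk'_mem_maximal_iff _ p] at hx
      obtain ⟨n, u, hu, h⟩ := hp a hx
      refine ⟨n, ?_⟩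
      rw [Submodule.mem_colon_singleton, Submodule.mem_bot, ← IsLocalization.mk'_pow, LocalizedModule.mkLinearMap_apply, ← mem_annEl, annEl_mk, IsLocalization.mk'_mem_map_algebraMap_iff]
      exact ⟨u, hu, h⟩
    · refine (IsLocalRing.maximalIdeal.isMaximal _).isPrime.radical_le_iff.2 (IsLocalRing.le_maximalIdeal fun h => ?_)
      have h1 : (1 : Localization.AtPrime p) ∈ annEl (Localization p.primeCompl) (LocalizedModule.mkLinearMap p.primeCompl M m) := by
        rw [mem_annEl]; simpa using (Submodule.mem_colon_singleton.1 ((Ideal.eq_top_iff_one _).1 h))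
      rw [LocalizedModule.mkLinearMap_apply, annEl_mk, ← map_one (algebraMap R _), IsLocalization.algebraMap_mem_map_algebraMap_iff p.primeCompl] at h1
      obtain ⟨u, hu, h⟩ := h1
      exact hu (hle (by simpa using h))
  · rintro ⟨-, x, hx⟩
    induction x using LocalizedModule.induction_on with
    | _ m s =>
    have hJ : ∀ y, y ∈ (⊥ : Submodule (Localization p.primeCompl) (LocalizedModule p.primeCompl M)).colon {LocalizedModule.mk m s} ↔ y ∈ (annEl R m).map (algebraMap R _) := fun y => by
      rw [Submodule.mem_colon_singleton, Submodule.mem_bot, ← mem_annEl, annEl_mk]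
    refine ⟨m, mem_minimalPrimes_iff_exists_mul_pow_mem.2 ⟨fun a ha => ?_, fun a ha => ?_⟩⟩
    · rw [← IsLocalization.AtPrime.to_map_mem_maximal_iff (Localization.AtPrime p) p a, hx]
      exact Ideal.le_radical ((hJ _).2 (Ideal.mem_map_of_mem _ ha))
    · rw [← IsLocalization.AtPrime.to_map_mem_maximal_iff (Localization.AtPrime p) p a, hx] at ha
      obtain ⟨n, hn⟩ := ha
      rw [hJ, ← map_pow, IsLocalization.algebraMap_mem_map_algebraMap_iff p.primeCompl] at hn
      obtain ⟨u, hu, h⟩ := hn
      exact ⟨n, u, hu, h⟩

end Groth.Agent.S9581
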