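import Groth.Statements.S9583
import Groth.Prelude.Def_FlatCA
import Groth.Agent.Lib.H2Alg.WeakAss

set_option autoImplicit false
universe u
open CAlg

namespace Groth.Agent.S9583
open Groth.Agent.H2Alg

/-- For a ring R and a short exact sequence 0 → M' → M → M'' → 0 of R-modules, every prime weakly
associated to M' is weakly associated to M, and every prime weakly associated to M is weakly
associated to M' or to M''. -/
theorem result {R : Type u} [CommRing R] {M' M M'' : Type u} [AddCommGroup M'] [Module R M'] [AddCommGroup M] [Module R M] [AddCommGroup M''] [Module R M''] (f : M' →ₗ[R] M) (g : M →ₗ[R] M'') (hf : Function.Injective f) (hg : Function.Surjective g) (hfg : Function.Exact f g) :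
    FlatCA.weakAss R M' ⊆ FlatCA.weakAss R M ∧ FlatCA.weakAss R M ⊆ FlatCA.weakAss R M' ∪ FlatCA.weakAss R M'' := by
  have hann : ∀ m, annEl R (f m) = annEl R m := fun m => by
    ext r; rw [mem_annEl, mem_annEl, ← map_smul, map_eq_zero_iff f hf]
  refine ⟨fun p ⟨m, hm⟩ => ⟨f m, show p ∈ (annEl R (f m)).minimalPrimes by rw [hann m]; exact hm⟩, ?_⟩
  rintro p ⟨m, hm⟩
  have hp := hm.isPrime
  by_cases h : annEl R (g m) ≤ p
  · refine Or.inr ⟨g m, ⟨hp, h⟩, fun q hq hqp => hm.2 ⟨hq.1, le_trans ?_ hq.2⟩ hqp⟩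
    intro r hr
    rw [mem_annEl] at hr ⊢
    rw [← map_smul, hr, map_zero]
  · obtain ⟨c, hc, hcp⟩ := SetLike.not_le_iff_exists.1 h
    rw [mem_annEl, ← map_smul] at hc
    obtain ⟨m', hm'⟩ := (hfg _).1 hc
    refine Or.inl ⟨m', ⟨hp, fun r hr => ?_⟩, fun q hq hqp => hm.2 ⟨hq.1, le_trans ?_ hq.2⟩ hqp⟩
    · change r ∈ annEl R m' at hr
      rw [← hann, mem_annEl, hm', smul_smul] at hr
      exact (hp.mem_or_mem (hm.le (mem_annEl.2 hr))).resolve_right hcp
    · intro r hr
      rw [mem_annEl] at hr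
      show r ∈ annEl R m'
      rw [← hann, mem_annEl, hm', smul_comm, hr, smul_zero]

end Groth.Agent.S9583
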