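import Groth.Statements.S9584
import Groth.Prelude.Def_FlatCA
import Groth.Agent.Lib.H2Alg.WeakAss

set_option autoImplicit false
universe u
open CAlg

namespace Groth.Agent.S9584
open Groth.Agent.H2Alg

/-- For a ring R and an R-module M, M has no weakly associated prime (no prime minimal over the
annihilator of an element) if and only if M = 0. -/
theorem result {R : Type u} [CommRing R] (M : Type u) [AddCommGroup M] [Module R M] :
    FlatCA.weakAss R M = ∅ ↔ Subsingleton M := by
  refine ⟨fun h => subsingleton_iff_forall_eq (0 : M) |>.2 fun m => ?_, fun h => Set.eq_empty_iff_forall_notMem.2 fun p ⟨m, hm⟩ => ?_⟩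
  · by_contra hm
    obtain ⟨p, hp, -⟩ := exists_mem_weakAss (R := R) hm
    rw [h] at hp; exact hp
  · exact hm.isPrime.ne_top ((Ideal.eq_top_iff_one _).2 (hm.le (mem_annEl.2 (Subsingleton.elim _ _))))

end Groth.Agent.S9584
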