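import Groth.Statements.S9585
import Groth.Prelude.Def_FlatCA
import Groth.Agent.Lib.H2Alg.WeakAss

set_option autoImplicit false
universe u
open CAlg

namespace Groth.Agent.S9585
open Groth.Agent.H2Alg

/-- For a ring R and an R-module M, an element of R lies in some weakly associated prime of M exactly
when multiplication by it on M is not injective; in other words the union of the weakly associated
primes of M equals the set of zerodivisors on M. -/
theorem result {R : Type u} [CommRing R] (M : Type u) [AddCommGroup M] [Module R M] :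
    ⋃ q ∈ FlatCA.weakAss R M, (q : Set R) = {f : R | ¬ IsSMulRegular M f} := by
  ext a
  simp only [Set.mem_iUnion, SetLike.mem_coe, Set.mem_ofPred_eq, exists_prop]
  constructor
  · rintro ⟨q, ⟨m, hm⟩, ha⟩ hreg
    have := hm.isPrime
    obtain ⟨hle, h⟩ := mem_minimalPrimes_iff_exists_mul_pow_mem.1 hm
    obtain ⟨n, u, hu, h'⟩ := h a ha
    rw [mem_annEl, mul_comm, mul_smul] at h'
    exact hu (hle (mem_annEl.2 ((hreg.pow n) (h'.trans (smul_zero _).symm))))
  · intro h
    obtain ⟨m, hm, hm0⟩ : ∃ m : M, a • m = 0 ∧ m ≠ 0 := by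
      by_contra! hc
      exact h fun x y hxy => sub_eq_zero.1 (hc _ (by rw [smul_sub]; exact sub_eq_zero.2 hxy))
    obtain ⟨p, hp, hle⟩ := exists_mem_weakAss (R := R) hm0
    exact ⟨p, hp, hle (mem_annEl.2 hm)⟩

end Groth.Agent.S9585
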