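import Groth.Statements.S9586
import Groth.Prelude.Def_FlatCA
import Groth.Agent.Lib.H2Alg.WeakAss

set_option autoImplicit false
universe u
open CAlg

namespace Groth.Agent.S9586
open Groth.Agent.H2Alg

/-- For a ring R, an R-module M and a finitely generated prime ideal p of R, p is associated to M (equal
to the annihilator of an element) if and only if p is weakly associated to M (minimal over the
annihilator of an element). -/
theorem result {R : Type u} [CommRing R] (M : Type u) [AddCommGroup M] [Module R M] (p : Ideal R) [p.IsPrime] (hp : p.FG) :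
    p ∈ FlatCA.ass R M ↔ p ∈ FlatCA.weakAss R M := by
  classical
  constructor
  · rintro ⟨hpp, m, hm⟩
    exact ⟨m, hm ▸ Ideal.minimalPrimes_eq_subsingleton_self (I := p) ▸ rfl⟩
  · rintro ⟨m, hm⟩
    obtain ⟨hle, h⟩ := mem_minimalPrimes_iff_exists_mul_pow_mem.1 hm
    let J : Ideal R :=
      { carrier := {b | ∃ u, u ∉ p ∧ u * b ∈ annEl R m}
        add_mem' := fun {a b} ⟨u, hu, ha⟩ ⟨v, hv, hb⟩ => ⟨u * v, fun h => (Ideal.IsPrime.mem_or_mem ‹_› h).elim hu hv, by
          rw [show u * v * (a + b) = v * (u * a) + u * (v * b) by ring]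
          exact add_mem (Ideal.mul_mem_left _ _ ha) (Ideal.mul_mem_left _ _ hb)⟩
        zero_mem' := ⟨1, fun h => ‹p.IsPrime›.ne_top ((Ideal.eq_top_iff_one _).2 h), by simp⟩
        smul_mem' := fun c b ⟨u, hu, hb⟩ => ⟨u, hu, by
          rw [smul_eq_mul, mul_left_comm]; exact Ideal.mul_mem_left _ _ hb⟩ }
    have hrad : p ≤ J.radical := fun a ha => by
      obtain ⟨n, u, hu, h'⟩ := h a ha; exact ⟨n, u, hu, h'⟩
    have hex : ∃ N, p ^ N ≤ J := Ideal.exists_pow_le_of_le_radical_of_fg hrad hp
    have hN : Nat.find hex ≠ 0 := fun h0 => by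
      have := Nat.find_spec hex
      rw [h0, pow_zero, Ideal.one_eq_top] at this
      obtain ⟨u, hu, h'⟩ := this (Submodule.mem_top (x := (1 : R)))
      exact hu (hle (by simpa using h'))
    obtain ⟨b, hb, hbJ⟩ := SetLike.not_le_iff_exists.1 (Nat.find_min hex (Nat.pred_lt hN))
    obtain ⟨G, hG⟩ := hp
    have hJ : ∀ g : R, g ∈ p → ∃ u, u ∉ p ∧ u * (b * g) ∈ annEl R m := fun g hg =>
      Nat.find_spec hex (by
        rw [← Nat.succ_pred_eq_of_ne_zero hN, pow_succ]
        exact Ideal.mul_mem_mul hb hg)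
    choose! U hU hU' using hJ
    refine ⟨inferInstance, ((∏ g ∈ G, U g) * b) • m, le_antisymm ?_ fun r hr => ?_⟩
    · rw [← hG, Submodule.span_le]
      intro g hg
      show g ∈ annEl R _
      rw [mem_annEl, smul_smul, ← Finset.mul_prod_erase _ _ hg, show g * (U g * (∏ x ∈ G.erase g, U x) * b) = (∏ x ∈ G.erase g, U x) * (U g * (b * g)) by ring, mul_smul, mem_annEl.1 (hU' g (hG ▸ Submodule.subset_span hg)), smul_zero]
    · change r ∈ annEl R _ at hr
      rw [mem_annEl, smul_smul, ← mem_annEl] at hr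
      by_contra hrp
      refine hbJ ⟨r * ∏ g ∈ G, U g, fun h => ?_, by rwa [mul_assoc]⟩
      obtain h | h := Ideal.IsPrime.mem_or_mem ‹_› h
      · exact hrp h
      · obtain ⟨g, hg, hgU⟩ := (Ideal.IsPrime.prod_mem_iff).1 h
        exact hU g (hG ▸ Submodule.subset_span hg) hgU

end Groth.Agent.S9586
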