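import Groth.Statements.S9587
import Groth.Prelude.Def_FlatCA
import Groth.Agent.Lib.H2Alg.WeakAss

set_option autoImplicit false
universe u
open CAlg

namespace Groth.Agent.S9587
open Groth.Agent.H2Alg

/-- For a ring R, an ideal I of R and an R/I-module M, regarded as an R-module through R → R/I, the
primes of R weakly associated to M are exactly the inverse images of the primes of R/I weakly
associated to M. -/
theorem result {R : Type u} [CommRing R] (I : Ideal R) (M : Type u) [AddCommGroup M] [Module (R ⧸ I) M] [Module R M] [IsScalarTower R (R ⧸ I) M] :
    FlatCA.weakAss R M = Ideal.comap (Ideal.Quotient.mk I) '' FlatCA.weakAss (R ⧸ I) M := by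
  ext p
  simp only [Set.mem_image, mem_weakAss, annEl_eq_comap (A := R ⧸ I) (R := R) (M := M), Ideal.Quotient.algebraMap_eq,
    Ideal.comap_minimalPrimes_eq_of_surjective (Ideal.Quotient.mk_surjective (I := I))]
  aesop

end Groth.Agent.S9587
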