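import Groth.Statements.S9588
import Groth.Prelude.Def_FlatCA
import Groth.Agent.Lib.H2Alg.WeakAss

set_option autoImplicit false
universe u
open CAlg

namespace Groth.Agent.S9588
open Groth.Agent.H2Alg

/-- For a ring R, an R-module M and a multiplicative subset S of R, the primes of R weakly associated to
S⁻¹M regarded as an R-module are exactly the inverse images under R → S⁻¹R of the primes of S⁻¹R
weakly associated to S⁻¹M. -/
theorem result {R : Type u} [CommRing R] (S : Submonoid R) (M : Type u) [AddCommGroup M] [Module R M] :
    FlatCA.weakAss R (LocalizedModule S M) = Ideal.comap (algebraMap R (Localization S)) '' FlatCA.weakAss (Localization S) (LocalizedModule S M) := by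
  ext p
  simp only [Set.mem_image, mem_weakAss, annEl_eq_comap (A := Localization S) (R := R) (M := LocalizedModule S M),
    IsLocalization.minimalPrimes_comap S (Localization S)]
  aesop

end Groth.Agent.S9588
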