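import Groth.Statements.S9591
import Groth.Prelude.Def_FlatCA
import Groth.Agent.Lib.H2Alg.WeakAss

set_option autoImplicit false
universe u
open CAlg

namespace Groth.Agent.S9591
open Groth.Agent.H2Alg

/-- For a ring R and an R-module M, the map from M to the product of the localizations M_p over all
primes p weakly associated to M is injective: an element vanishing in every such M_p is zero. -/
theorem result {R : Type u} [CommRing R] {M : Type u} [AddCommGroup M] [Module R M] (x : M) (hx : ∀ (p : Ideal R) [p.IsPrime], p ∈ FlatCA.weakAss R M → LocalizedModule.mkLinearMap p.primeCompl M x = 0) :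
    x = 0 := by
  by_contra h
  obtain ⟨p, hp, hle⟩ := exists_mem_weakAss (R := R) h
  obtain ⟨m, hm⟩ := hp
  have := hm.isPrime
  have h0 := hx p ⟨m, hm⟩
  rw [LocalizedModule.mkLinearMap_apply] at h0
  obtain ⟨u, hu, hu0⟩ := (smul_mk_eq_zero p.primeCompl (r := (1 : R)) (m := x) (s := 1)).1 (by rwa [one_smul])
  exact hu (hle (mem_annEl.2 (by simpa using hu0)))

end Groth.Agent.S9591
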