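import Groth.Statements.S9594
import Groth.Prelude.Def_FlatCA
import Groth.Agent.Lib.H2Alg.WeakAss

set_option autoImplicit false
universe u
open CAlg

namespace Groth.Agent.S9594
open Groth.Agent.H2Alg

/-- For a ring R, an R-module M and a multiplicative subset S of R, (1) the primes of R associated to
the R-module S⁻¹M are the inverse images of the primes of S⁻¹R associated to S⁻¹M, and (2) a prime
of R associated to M which does not meet S is associated to the R-module S⁻¹M. Here a prime is
associated to a module when it equals the annihilator of some element. -/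
theorem result {R : Type u} [CommRing R] (S : Submonoid R) (M : Type u) [AddCommGroup M] [Module R M] :
    FlatCA.ass R (LocalizedModule S M) = Ideal.comap (algebraMap R (Localization S)) '' FlatCA.ass (Localization S) (LocalizedModule S M) ∧
      ∀ p ∈ FlatCA.ass R M, Disjoint (S : Set R) (p : Set R) → p ∈ FlatCA.ass R (LocalizedModule S M) := by
  refine ⟨Set.Subset.antisymm ?_ ?_, ?_⟩
  · rintro p ⟨hp, x, rfl⟩
    refine ⟨annEl (Localization S) x, ⟨?_, x, rfl⟩, (annEl_eq_comap x).symm⟩
    rw [IsLocalization.isPrime_iff_isPrime_disjoint S, IsLocalization.disjoint_under_iff S]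
    refine ⟨?_, fun h => hp.ne_top ?_⟩
    · rwa [Ideal.under, ← annEl_eq_comap]
    · change annEl R x = ⊤
      rw [annEl_eq_comap (A := Localization S), h, Ideal.comap_top]
  · rintro _ ⟨q, ⟨hq, x, rfl⟩, rfl⟩
    exact ⟨hq.comap _, x, (annEl_eq_comap x).symm⟩
  · rintro p ⟨hp, m, rfl⟩ hd
    refine ⟨hp, LocalizedModule.mk m 1, ?_⟩
    refine le_antisymm (fun r hr => ?_) (fun r hr => ?_)
    · show r ∈ annEl R _
      rw [mem_annEl, smul_mk_eq_zero]
      exact ⟨1, one_mem S, by rw [one_mul]; exact mem_annEl.1 hr⟩
    · change r ∈ annEl R _ at hr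
      rw [mem_annEl, smul_mk_eq_zero] at hr
      obtain ⟨u, hu, h⟩ := hr
      exact (hp.mem_or_mem (mem_annEl.2 h)).resolve_left (Set.disjoint_left.1 hd hu)

end Groth.Agent.S9594
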