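import Groth.Statements.S9595
import Groth.Prelude.Def_FlatCA
import Groth.Agent.Lib.H2Alg.WeakAss

set_option autoImplicit false
universe u
open CAlg

namespace Groth.Agent.S9595
open Groth.Agent.H2Alg

/-- For a ring R, an R-module M and a multiplicative subset S of R whose elements are all
nonzerodivisors on M, a prime of R is the annihilator of an element of M if and only if it is the
annihilator in R of an element of S⁻¹M. -/
theorem result {R : Type u} [CommRing R] (S : Submonoid R) (M : Type u) [AddCommGroup M] [Module R M] (hS : ∀ s ∈ S, IsSMulRegular M s) :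
    FlatCA.ass R M = FlatCA.ass R (LocalizedModule S M) := by
  ext p
  simp only [mem_ass]
  constructor
  · rintro ⟨hp, m, hm⟩
    exact ⟨hp, LocalizedModule.mk m 1, by rwa [annEl_mk_of_isSMulRegular S hS]⟩
  · rintro ⟨hp, x, hx⟩
    induction x using LocalizedModule.induction_on with
    | _ m s =>
    rw [annEl_mk_of_isSMulRegular S hS] at hx
    exact ⟨hp, m, hx⟩

end Groth.Agent.S9595
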