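import Groth.Statements.S9597
import Mathlib.RingTheory.Etale.Basic
import Mathlib.RingTheory.AdicCompletion.Basic
import Mathlib.RingTheory.Ideal.AssociatedPrime.Basic
import Mathlib.RingTheory.Ideal.Operations
import Mathlib.RingTheory.Support
import Mathlib.RingTheory.Spectrum.Prime.Basic
import Mathlib.RingTheory.Filtration
import Mathlib.RingTheory.Flat.Basic
import Mathlib.RingTheory.LocalRing.Module
import Mathlib.RingTheory.Localization.FractionRing
import Mathlib.LinearAlgebra.FiniteDimensional.Basic
import Groth.Agent.Lib.H2Alg.ArtinFlat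

set_option autoImplicit false
universe u
open CAlg

namespace Groth.Agent.S9597
open TensorProduct

/-- Let R be a Noetherian ring, M a finite R-module whose associated primes are pairwise incomparable
under inclusion (M has no embedded associated primes), and I the annihilator of M. Then the
associated primes of R/I, viewed as a module over itself, are again pairwise incomparable: R/I has
no embedded primes either. -/
theorem result {R : Type u} [CommRing R] [IsNoetherianRing R] (M : Type u) [AddCommGroup M] [Module R M] [Module.Finite R M] (hM : ∀ p ∈ associatedPrimes R M, ∀ q ∈ associatedPrimes R M, p ≤ q → p = q) :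
    ∀ p ∈ associatedPrimes (R ⧸ Module.annihilator R M) (R ⧸ Module.annihilator R M), ∀ q ∈ associatedPrimes (R ⧸ Module.annihilator R M) (R ⧸ Module.annihilator R M), p ≤ q → p = q := by
  classical
  set J := Module.annihilator R M
  obtain ⟨G, hG⟩ := (Module.Finite.fg_top : (⊤ : Submodule R M).FG)
  have key : ∀ p ∈ associatedPrimes (R ⧸ J) (R ⧸ J), p.comap (Ideal.Quotient.mk J) ∈ associatedPrimes R M := by
    intro p hp
    obtain ⟨hpp, x, hx⟩ := isAssociatedPrime_iff.1 hp
    obtain ⟨x, rfl⟩ := Ideal.Quotient.mk_surjective x
    have hmem : ∀ r, r ∈ p.comap (Ideal.Quotient.mk J) ↔ ∀ m ∈ G, r • x • m = 0 := by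
      intro r
      rw [Ideal.mem_comap, hx, Submodule.mem_colon_singleton, Submodule.mem_bot, smul_eq_mul, ← map_mul, Ideal.Quotient.eq_zero_iff_mem, Module.mem_annihilator]
      refine ⟨fun h m _ => by rw [smul_smul]; exact h m, fun h m => ?_⟩
      have hm : m ∈ Submodule.span R (G : Set M) := hG ▸ Submodule.mem_top
      induction hm using Submodule.span_induction with
      | mem y hy => rw [← smul_smul]; exact h y hy
      | zero => simp
      | add a b _ _ ha hb => rw [smul_add, ha, hb, add_zero]
      | smul c y _ hy => rw [smul_comm, hy, smul_zero]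
    have hle : G.inf (fun m => (⊥ : Submodule R M).colon {x • m}) ≤ p.comap (Ideal.Quotient.mk J) := fun r hr =>
      (hmem r).2 fun m hm => by simpa [Submodule.mem_colon_singleton] using Submodule.mem_finsetInf.1 hr m hm
    obtain ⟨m, hm, hmle⟩ := (Ideal.IsPrime.inf_le' (hpp.comap _)).1 hle
    refine isAssociatedPrime_iff.2 ⟨hpp.comap _, x • m, le_antisymm (fun r hr => ?_) hmle⟩
    rw [Submodule.mem_colon_singleton, Submodule.mem_bot]
    exact (hmem r).1 hr m hm
  exact fun p hp q hq hpq => Ideal.comap_injective_of_surjective _ Ideal.Quotient.mk_surjective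
    (hM _ (key p hp) _ (key q hq) (Ideal.comap_mono hpq))

end Groth.Agent.S9597
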