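import Groth.Statements.S9598
import Mathlib.RingTheory.Jacobson.Ring
import Mathlib.RingTheory.Ideal.AssociatedPrime.Finiteness
import Mathlib.RingTheory.KrullDimension.Basic
import Mathlib.RingTheory.KrullDimension.Zero
import Mathlib.LinearAlgebra.Dimension.Basic
import Mathlib.RingTheory.Localization.Integral
import Mathlib.RingTheory.Valuation.LocalSubring
import Mathlib.LinearAlgebra.Lagrange
import Mathlib.RingTheory.DiscreteValuationRing.Basic
import Mathlib.RingTheory.FiniteType
import Mathlib.RingTheory.Localization.Away.Basic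
import Mathlib.RingTheory.Localization.AtPrime.Basic
import Mathlib.RingTheory.Support
import Mathlib.RingTheory.Polynomial.RationalRoot
import Mathlib.RingTheory.Ideal.AssociatedPrime.Localization

set_option autoImplicit false
universe u
open CAlg

namespace Groth.Agent.S9598

/-- For a field k and a finite type k-algebra S with dim S > 0, some element of S is a nonzerodivisor
and a nonunit. -/
theorem result {k S : Type u} [Field k] [CommRing S] [Algebra k S] [Algebra.FiniteType k S] (hdim : 0 < ringKrullDim S) :
    ∃ f : S, f ∈ nonZeroDivisors S ∧ ¬ IsUnit f := by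
  classical
  by_contra! hno
  have hN : IsNoetherianRing S := Algebra.FiniteType.isNoetherianRing k S
  have : IsJacobsonRing S := isJacobsonRing_of_finiteType (A := k)
  have hmax : ∀ m : Ideal S, m.IsMaximal → m ∈ associatedPrimes S S := fun m hm => by
    have hsub : (m : Set S) ⊆ ⋃ p ∈ associatedPrimes S S, (p : Set S) := fun x hx => by
      rw [biUnion_associatedPrimes_eq_compl_nonZeroDivisors]
      exact fun h => hm.ne_top (Ideal.eq_top_of_isUnit_mem _ hx (hno x h))
    obtain ⟨q, hq, hle⟩ := (Ideal.subset_union_prime_finite (associatedPrimes.finite S S) (f := id) 0 0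
      (fun p hp _ _ => hp.1)).1 hsub
    exact (hm.eq_of_le hq.isPrime.ne_top hle) ▸ hq
  have : Ring.KrullDimLE 0 S := Ring.krullDimLE_zero_iff.2 fun P hP => by
    have hfin : {m : Ideal S | P ≤ m ∧ m.IsMaximal}.Finite :=
      (associatedPrimes.finite S S).subset fun m hm => hmax m hm.2
    have hle : hfin.toFinset.inf id ≤ P := fun x hx => by
      rw [← show P.jacobson = P from IsJacobsonRing.out ‹IsJacobsonRing S› hP.isRadical]
      exact Submodule.mem_sInf.2 fun m hm => Submodule.mem_finsetInf.1 hx m (hfin.mem_toFinset.2 hm)
    obtain ⟨q, hq, hqp⟩ := hP.inf_le'.1 hle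
    exact (le_antisymm hqp (hfin.mem_toFinset.1 hq).1) ▸ (hfin.mem_toFinset.1 hq).2
  exact absurd (Ring.krullDimLE_iff.1 this) (not_le.2 hdim)

end Groth.Agent.S9598
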