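import Groth.Statements.S9600
import Mathlib
import Groth.Agent.Lib.H2Alg.ComplExact

set_option autoImplicit false
universe u
open CAlg

namespace Groth.Agent.S9600
open H2Alg

/-- Let R be a ring, I an ideal of R and 0 → M → N → Q → 0 a short exact sequence of R-modules in which
Q is killed by some power I^c of I. Then on I-adic completions the map M^ → N^ is injective, N^ → Q^
is surjective with kernel equal to the image of M^, and the canonical map Q → Q^ is bijective; so 0
→ M^ → N^ → Q → 0 is again short exact. -/
theorem result {R : Type u} [CommRing R] (I : Ideal R) {M N Q : Type u} [AddCommGroup M] [Module R M] [AddCommGroup N] [Module R N] [AddCommGroup Q] [Module R Q] (i : M →ₗ[R] N) (g : N →ₗ[R] Q) (hi : Function.Injective i) (hg : Function.Surjective g) (hig : Function.Exact i g) (c : ℕ) (hc : ∀ x ∈ I ^ c, ∀ q : Q, x • q = 0) :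
    Function.Injective (AdicCompletion.map I i) ∧ Function.Exact (AdicCompletion.map I i) (AdicCompletion.map I g) ∧ Function.Surjective (AdicCompletion.map I g) ∧ Function.Bijective (AdicCompletion.of I Q) := by
  have h : ∀ n, (I ^ (n + c) • ⊤ : Submodule R N).comap i ≤ I ^ n • ⊤ := by
    intro n
    have h1 : (I ^ c • ⊤ : Submodule R N) ≤ LinearMap.range i := by
      rw [Submodule.smul_le]
      intro r hr x _
      exact (hig (r • x)).1 (by rw [map_smul, hc r hr])
    have h2 : (I ^ (n + c) • ⊤ : Submodule R N) ≤ Submodule.map i (I ^ n • ⊤) := by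
      rw [pow_add, Submodule.mul_smul, Submodule.map_smul'', Submodule.map_top]
      exact smul_mono_right _ h1
    intro x hx
    obtain ⟨y, hy, hxy⟩ := h2 hx
    exact hi hxy ▸ hy
  exact ⟨ComplExact.injective_map_of_comap_le c h, ComplExact.exact_map_of_comap_le c h hg hig,
    AdicCompletion.map_surjective I hg, ComplExact.bijective_of_of_pow_smul c hc⟩

end Groth.Agent.S9600
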