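import Groth.Statements.S9601
import Mathlib.RingTheory.AdicCompletion.Algebra
import Mathlib.RingTheory.AdicCompletion.Completeness
import Mathlib.RingTheory.Ideal.Operations
import Mathlib.RingTheory.Finiteness.Ideal
import Mathlib.RingTheory.Jacobson.Ideal
import Mathlib.LinearAlgebra.Quotient.Basic

set_option autoImplicit false
universe u
open CAlg

namespace Groth.Agent.S9601

/-- For a ring R, an ideal I of R and an R-module M, let M^ be the I-adic completion and K_n the kernel
of the projection M^ → M/IⁿM. The completion M^ is I-adically complete exactly when K_n = Iⁿ M^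
holds for every n ≥ 1. -/
theorem result {R : Type u} [CommRing R] (I : Ideal R) (M : Type u) [AddCommGroup M] [Module R M] :
    IsAdicComplete I (AdicCompletion I M) ↔ ∀ n : ℕ, 1 ≤ n → LinearMap.ker (AdicCompletion.eval I M n) = I ^ n • (⊤ : Submodule R (AdicCompletion I M)) := by
  constructor
  · intro h n _
    refine le_antisymm (fun x hx => ?_) (AdicCompletion.pow_smul_top_le_ker_eval I n)
    have step : ∀ k, n ≤ k → ∀ y ∈ LinearMap.ker (AdicCompletion.eval I M k),
        ∃ z ∈ LinearMap.ker (AdicCompletion.eval I M (k + 1)), z - y ∈ (I ^ k • ⊤ : Submodule R (AdicCompletion I M)) := by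
      intro k _ y hy
      obtain ⟨m, hm⟩ := Submodule.mkQ_surjective _ (y.val (k + 1))
      have hm0 : m ∈ (I ^ k • ⊤ : Submodule R M) := by
        have := AdicCompletion.transitionMap_comp_eval_apply I M (Nat.le_succ k) y
        rw [LinearMap.mem_ker, AdicCompletion.eval_apply] at hy
        rw [hy, ← hm] at this
        exact (Submodule.Quotient.mk_eq_zero _).1 this
      refine ⟨y - AdicCompletion.of I M m, ?_, ?_⟩
      · simp [← hm]
      · rw [sub_sub_cancel_left]
        refine neg_mem ?_
        have := Submodule.mem_map_of_mem (f := AdicCompletion.of I M) hm0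
        rw [Submodule.map_smul''] at this
        exact Submodule.smul_mono le_rfl le_top this
    let y : ∀ j : ℕ, {z // z ∈ LinearMap.ker (AdicCompletion.eval I M (n + j))} := fun j =>
      Nat.rec ⟨x, hx⟩ (fun j z => ⟨(step (n + j) (Nat.le_add_right n j) z.1 z.2).choose, (step (n + j) (Nat.le_add_right n j) z.1 z.2).choose_spec.1⟩) j
    have hy : ∀ j, (y (j + 1)).1 - (y j).1 ∈ (I ^ (n + j) • ⊤ : Submodule R (AdicCompletion I M)) := fun j =>
      (step (n + j) (Nat.le_add_right n j) (y j).1 (y j).2).choose_spec.2
    have hy' : ∀ a b, a ≤ b → (y b).1 - (y a).1 ∈ (I ^ (n + a) • ⊤ : Submodule R (AdicCompletion I M)) := by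
      intro a b hab
      induction b, hab using Nat.le_induction with
      | base => simp
      | succ b hab ih =>
        have := add_mem (Submodule.smul_mono_left (Ideal.pow_le_pow_right (show n + a ≤ n + b by omega)) (hy b)) ih
        simpa using this
    obtain ⟨L, hL⟩ := IsPrecomplete.prec' (I := I) (fun j => (y j).1) fun {a b} hab =>
      SModEq.sub_mem.2 (by
        rw [← neg_sub]
        exact neg_mem (Submodule.smul_mono_left (Ideal.pow_le_pow_right (by omega)) (hy' a b hab)))
    have hL0 : L = 0 := by
      apply AdicCompletion.ext; intro k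
      have h1 := AdicCompletion.pow_smul_top_le_ker_eval I k (SModEq.sub_mem.1 (hL k))
      have h2 := (y k).2
      rw [LinearMap.mem_ker, map_sub, sub_eq_zero] at h1
      rw [LinearMap.mem_ker, AdicCompletion.eval_apply] at h2
      have := AdicCompletion.transitionMap_comp_eval_apply I M (show k ≤ n + k by omega) (y k).1
      rw [h2, map_zero] at this
      rw [AdicCompletion.eval_apply] at h1
      rw [AdicCompletion.val_zero_apply, ← AdicCompletion.eval_apply, ← h1]
      exact this.symm
    have h3 : (y n).1 ∈ (I ^ n • ⊤ : Submodule R (AdicCompletion I M)) := by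
      have := SModEq.sub_mem.1 (hL n)
      simpa [hL0] using this
    have h4 := Submodule.smul_mono_left (Ideal.pow_le_pow_right (show n ≤ n + 0 by omega)) (hy' 0 n (Nat.zero_le n))
    have := sub_mem h3 h4
    rw [sub_sub_cancel] at this
    exact this
  · intro h
    refine { haus' := IsHausdorff.haus', prec' := fun x hx => ?_ }
    let L : AdicCompletion I M :=
      ⟨fun i => (x i).val i, fun {m n} h' => by
        have h1 := AdicCompletion.pow_smul_top_le_ker_eval I m (SModEq.sub_mem.1 (hx h'))
        rw [LinearMap.mem_ker, map_sub, sub_eq_zero, AdicCompletion.eval_apply, AdicCompletion.eval_apply] at h1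
        exact (AdicCompletion.transitionMap_comp_eval_apply I M h' (x n)).trans h1.symm⟩
    refine ⟨L, fun i => SModEq.sub_mem.2 ?_⟩
    rcases Nat.eq_zero_or_pos i with rfl | hi
    · simp
    · rw [← h i hi, LinearMap.mem_ker, map_sub, sub_eq_zero]; rfl

end Groth.Agent.S9601
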