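import Groth.Statements.S9602
import Mathlib.RingTheory.AdicCompletion.Algebra
import Mathlib.RingTheory.AdicCompletion.Completeness
import Mathlib.RingTheory.Ideal.Operations
import Mathlib.RingTheory.Finiteness.Ideal
import Mathlib.RingTheory.Jacobson.Ideal
import Mathlib.LinearAlgebra.Quotient.Basic

set_option autoImplicit false
universe u
open CAlg

namespace Groth.Agent.S9602

/-- Let R be a ring, I an ideal of R and R^ = lim R/Iⁿ the I-adic completion. An element of R^ whose
image in R/I is invertible is itself invertible in R^; and the kernel of R^ → R/I as well as the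
extended ideal I R^ both lie inside the Jacobson radical of R^. -/
theorem result {R : Type u} [CommRing R] (I : Ideal R) :
    (∀ x : AdicCompletion I R, IsUnit (AdicCompletion.evalOneₐ I x) → IsUnit x) ∧
      RingHom.ker (AdicCompletion.evalOneₐ I).toRingHom ≤ (⊥ : Ideal (AdicCompletion I R)).jacobson ∧
      I.map (algebraMap R (AdicCompletion I R)) ≤ (⊥ : Ideal (AdicCompletion I R)).jacobson := by
  have hu : ∀ x : AdicCompletion I R, IsUnit (AdicCompletion.evalOneₐ I x) → IsUnit x := by
    intro x hx
    have hn : ∀ n, IsUnit (x.val n) := by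
      intro n
      obtain ⟨r, hr⟩ := Ideal.Quotient.mk_surjective (x.val n)
      rcases Nat.eq_zero_or_pos n with rfl | hn
      · have : Subsingleton (R ⧸ (I ^ 0 • ⊤ : Ideal R)) := Ideal.Quotient.subsingleton_iff.2 (by simp)
        exact isUnit_of_subsingleton _
      have h1 : AdicCompletion.evalOneₐ I x = Ideal.Quotient.mk I r := by
        have h2 := AdicCompletion.transitionMap_comp_eval_apply I R hn x
        rw [← hr] at h2
        obtain ⟨s, hs⟩ := Submodule.mkQ_surjective _ (x.val 1)
        have e : AdicCompletion.evalOneₐ I x = Ideal.Quotient.mk I s := by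
          rw [← AdicCompletion.factorₐ_evalₐ_one, ← AdicCompletion.factor_eval_eq_evalₐ I x (by simp), AdicCompletion.eval_apply, ← hs]
          rfl
        rw [e, Ideal.Quotient.eq]
        have h3 : r - s ∈ (I ^ 1 • ⊤ : Ideal R) := (Submodule.Quotient.eq _).1 (h2.trans hs.symm)
        rw [← neg_sub]; exact neg_mem (by simpa using h3)
      rw [h1] at hx
      obtain ⟨u, hu⟩ := hx.exists_left_inv
      obtain ⟨v, rfl⟩ := Ideal.Quotient.mk_surjective u
      rw [← map_mul, ← map_one (Ideal.Quotient.mk I), Ideal.Quotient.eq] at hu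
      rw [← hr]
      have hnil : IsNilpotent (Ideal.Quotient.mk (I ^ n • ⊤ : Ideal R) (v * r - 1)) :=
        ⟨n, by rw [← map_pow, Ideal.Quotient.eq_zero_iff_mem]; simpa using Ideal.pow_mem_pow hu n⟩
      have h4 := hnil.isUnit_one_add
      rw [← map_one (Ideal.Quotient.mk (I ^ n • ⊤ : Ideal R)), ← map_add, add_sub_cancel, map_mul] at h4
      exact isUnit_of_mul_isUnit_right h4
    choose u hu using fun n => (hn n).exists_left_inv
    let y : AdicCompletion I R := ⟨u, fun {m n} hmn => by
      refine left_inv_eq_right_inv (a := x.val m) ?_ ((mul_comm _ _).trans (hu m))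
      rw [← AdicCompletion.transitionMap_comp_eval_apply I R hmn x]
      obtain ⟨a, ha⟩ := Ideal.Quotient.mk_surjective (u n)
      obtain ⟨b, hb⟩ := Ideal.Quotient.mk_surjective (x.val n)
      have := hu n
      rw [← ha, ← hb, ← map_mul, ← map_one (Ideal.Quotient.mk (I ^ n • ⊤ : Ideal R)), Ideal.Quotient.eq] at this
      rw [← ha, ← hb]
      change Ideal.Quotient.mk _ a * Ideal.Quotient.mk _ b = 1
      rw [← map_mul, ← map_one (Ideal.Quotient.mk (I ^ m • ⊤ : Ideal R)), Ideal.Quotient.eq]
      exact Submodule.smul_mono_left (Ideal.pow_le_pow_right hmn) this⟩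
    exact IsUnit.of_mul_eq_one y (AdicCompletion.ext fun n => by
      rw [AdicCompletion.val_mul, AdicCompletion.val_one, mul_comm]; exact hu n)
  have hk : RingHom.ker (AdicCompletion.evalOneₐ I).toRingHom ≤ (⊥ : Ideal (AdicCompletion I R)).jacobson := by
    intro x hx
    rw [Ideal.mem_jacobson_bot]
    intro y
    refine hu _ ?_
    have : AdicCompletion.evalOneₐ I x = 0 := hx
    rw [map_add, map_mul, this, zero_mul, zero_add, map_one]
    exact isUnit_one
  refine ⟨hu, hk, le_trans ?_ hk⟩
  rw [Ideal.map_le_iff_le_comap]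
  intro a ha
  rw [Ideal.mem_comap, RingHom.mem_ker, ← RingHom.comp_apply, AdicCompletion.evalOneₐ_comp_algebraMap_eq_mk]
  exact Ideal.Quotient.eq_zero_iff_mem.2 ha

end Groth.Agent.S9602
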