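import Groth.Statements.S9603
import Mathlib.RingTheory.AdicCompletion.Algebra
import Mathlib.RingTheory.AdicCompletion.Completeness
import Mathlib.RingTheory.Ideal.Operations
import Mathlib.RingTheory.Finiteness.Ideal
import Mathlib.RingTheory.Jacobson.Ideal
import Mathlib.LinearAlgebra.Quotient.Basic

set_option autoImplicit false
universe u
open CAlg

namespace Groth.Agent.S9603

/-- For a ring A, elements f_1, …, f_r generating an ideal I and an A-module M, if the canonical map
from M to its (f_i)-adic completion is surjective for every i, then the canonical map from M to its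
I-adic completion is surjective. -/
theorem result {A : Type u} [CommRing A] {r : ℕ} (f : Fin r → A) (M : Type u) [AddCommGroup M] [Module A M] (h : ∀ i, Function.Surjective (AdicCompletion.of (Ideal.span {f i}) M)) :
    Function.Surjective (AdicCompletion.of (Ideal.span (Set.range f)) M) := by
  classical
  set I := Ideal.span (Set.range f)
  rw [AdicCompletion.of_surjective_iff]
  refine ⟨fun g hg => ?_⟩
  have hN : ∀ n : ℕ, ∃ N, I ^ N ≤ Ideal.span (Set.range fun i => f i ^ n) := fun n => by
    refine Ideal.exists_pow_le_of_le_radical_of_fg ?_ (Submodule.fg_span (Set.finite_range f))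
    rw [Ideal.span_le]
    rintro _ ⟨i, rfl⟩
    exact ⟨n, Ideal.subset_span ⟨i, rfl⟩⟩
  choose N hN using hN
  let P : ℕ → ℕ := fun n => n + ∑ k ∈ Finset.range (n + 1), N k
  have hPm : ∀ n, P n ≤ P (n + 1) := fun n => by simp only [P, Finset.sum_range_succ _ (n + 1)]; omega
  have hPN : ∀ n, N n ≤ P n := fun n => by simp only [P, Finset.sum_range_succ]; omega
  have hd : ∀ n, ∃ y : Fin r → M, g (P (n + 1)) - g (P n) = ∑ i, f i ^ n • y i := by
    intro n
    have h0 : g (P (n + 1)) - g (P n) ∈ (I ^ P n • ⊤ : Submodule A M) := SModEq.sub_mem.1 (hg (hPm n)).symm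
    have hle : I ^ P n ≤ Ideal.span (Set.range fun i => f i ^ n) := (Ideal.pow_le_pow_right (hPN n)).trans (hN n)
    refine Submodule.smul_induction_on h0 (fun a ha m _ => ?_) (fun u v hu hv => ?_)
    · obtain ⟨c, hc⟩ := Ideal.mem_span_range_iff_exists_fun.1 (hle ha)
      refine ⟨fun i => c i • m, ?_⟩
      simp [← hc, Finset.sum_smul, smul_smul, mul_comm]
    · obtain ⟨y, rfl⟩ := hu; obtain ⟨z, rfl⟩ := hv
      exact ⟨y + z, by simp [smul_add, Finset.sum_add_distrib]⟩
  choose y hy using hd
  have hz : ∀ i, ∃ z : M, ∀ n, (∑ k ∈ Finset.range n, f i ^ k • y k i) - z ∈ (Ideal.span {f i} ^ n • ⊤ : Submodule A M) := by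
    intro i
    obtain ⟨z, hz⟩ := (AdicCompletion.of_surjective_iff.1 (h i)).prec'
      (fun n => ∑ k ∈ Finset.range n, f i ^ k • y k i) fun {m n} hmn => SModEq.sub_mem.2 (by
        rw [← neg_sub, ← Finset.sum_Ico_eq_sub _ hmn]
        refine neg_mem (Submodule.sum_mem _ fun k hk => ?_)
        exact Submodule.smul_mem_smul (Ideal.pow_le_pow_right (Finset.mem_Ico.1 hk).1 (Ideal.pow_mem_pow (Ideal.mem_span_singleton_self _) k)) Submodule.mem_top)
    exact ⟨z, fun n => SModEq.sub_mem.1 (hz n)⟩
  choose z hz using hz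
  refine ⟨g (P 0) + ∑ i, z i, fun n => SModEq.sub_mem.2 ?_⟩
  have htel : g (P n) = g (P 0) + ∑ i, ∑ k ∈ Finset.range n, f i ^ k • y k i := by
    rw [Finset.sum_comm, ← Finset.sum_congr rfl (fun k _ => hy k), Finset.sum_range_sub (fun k => g (P k))]; abel
  have h1 : g n - g (P n) ∈ (I ^ n • ⊤ : Submodule A M) := SModEq.sub_mem.1 (hg (Nat.le_add_right n _))
  have h2 : g (P n) - (g (P 0) + ∑ i, z i) ∈ (I ^ n • ⊤ : Submodule A M) := by
    rw [htel, add_sub_add_left_eq_sub, ← Finset.sum_sub_distrib]
    exact Submodule.sum_mem _ fun i _ => Submodule.smul_mono_left (Ideal.pow_right_mono (Ideal.span_mono (Set.singleton_subset_iff.2 (Set.mem_range_self i))) n) (hz i n)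
  simpa using add_mem h1 h2

end Groth.Agent.S9603
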