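import Groth.Statements.S9604
import Mathlib.RingTheory.AdicCompletion.Algebra
import Mathlib.RingTheory.AdicCompletion.Completeness
import Mathlib.RingTheory.Ideal.Operations
import Mathlib.RingTheory.Finiteness.Ideal
import Mathlib.RingTheory.Jacobson.Ideal
import Mathlib.LinearAlgebra.Quotient.Basic

set_option autoImplicit false
universe u
open CAlg

namespace Groth.Agent.S9604

theorem half {R : Type u} [CommRing R] (I J : Ideal R) (c : ℕ) (hc : 0 < c) (d : ℕ) (hd : 0 < d) (hI : I ^ c ≤ J) (hJ : J ^ d ≤ I) (M : Type u) [AddCommGroup M] [Module R M] [IsAdicComplete I M] : IsAdicComplete J M := by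
  have hIJ : ∀ n, (I ^ (c * n) • ⊤ : Submodule R M) ≤ J ^ n • ⊤ := fun n =>
    Submodule.smul_mono_left (by rw [pow_mul]; exact Ideal.pow_right_mono hI n)
  have hJI : ∀ n, (J ^ (d * n) • ⊤ : Submodule R M) ≤ I ^ n • ⊤ := fun n =>
    Submodule.smul_mono_left (by rw [pow_mul]; exact Ideal.pow_right_mono hJ n)
  refine { haus' := fun x hx => ?_, prec' := fun f hf => ?_ }
  · exact IsHausdorff.haus' (I := I) x fun n => SModEq.zero.2 (hJI n (SModEq.zero.1 (hx _)))
  · obtain ⟨L, hL⟩ := IsPrecomplete.prec' (I := I) (fun n => f (d * n)) fun {m n} h =>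
      SModEq.sub_mem.2 (hJI m (SModEq.sub_mem.1 (hf (Nat.mul_le_mul_left d h))))
    refine ⟨L, fun n => SModEq.sub_mem.2 ?_⟩
    have h1 := hIJ n (SModEq.sub_mem.1 (hL (c * n)))
    have h2 := SModEq.sub_mem.1 (hf (show n ≤ d * (c * n) from le_trans (Nat.le_mul_of_pos_left n hc) (Nat.le_mul_of_pos_left _ hd)))
    simpa using add_mem h2 h1

/-- Let R be a ring and I, J ideals of R with I^c ⊆ J and J^d ⊆ I for some integers c, d > 0. Then for
an R-module, being complete in the I-adic topology is equivalent to being complete in the J-adic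
topology. -/
theorem result {R : Type u} [CommRing R] (I J : Ideal R) (c d : ℕ) (hc : 0 < c) (hd : 0 < d) (hI : I ^ c ≤ J) (hJ : J ^ d ≤ I) (M : Type u) [AddCommGroup M] [Module R M] :
    IsAdicComplete I M ↔ IsAdicComplete J M := by
  exact ⟨fun _ => half I J c hc d hd hI hJ M, fun _ => half J I d hd c hc hJ hI M⟩

end Groth.Agent.S9604
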