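import Groth.Statements.S9605
import Mathlib.RingTheory.AdicCompletion.Algebra
import Mathlib.RingTheory.AdicCompletion.Completeness
import Mathlib.RingTheory.Ideal.Operations
import Mathlib.RingTheory.Finiteness.Ideal
import Mathlib.RingTheory.Jacobson.Ideal
import Mathlib.LinearAlgebra.Quotient.Basic

set_option autoImplicit false
universe u
open CAlg

namespace Groth.Agent.S9605

/-- For a ring R, an ideal I of R, an I-adically complete R-module M and a submodule K of M, the
quotient M/K is I-adically complete if and only if K = ⋂ₙ (K + IⁿM). -/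
theorem result {R : Type u} [CommRing R] (I : Ideal R) (M : Type u) [AddCommGroup M] [Module R M] [IsAdicComplete I M] (K : Submodule R M) :
    IsAdicComplete I (M ⧸ K) ↔ K = ⨅ n : ℕ, K ⊔ I ^ n • (⊤ : Submodule R M) := by
  have hmem : ∀ n (x : M), K.mkQ x ∈ (I ^ n • ⊤ : Submodule R (M ⧸ K)) ↔ x ∈ K ⊔ I ^ n • (⊤ : Submodule R M) := by
    intro n x
    rw [show (I ^ n • ⊤ : Submodule R (M ⧸ K)) = (I ^ n • ⊤ : Submodule R M).map K.mkQ by
      rw [Submodule.map_smul'', Submodule.map_top, Submodule.range_mkQ], ← Submodule.mem_comap, Submodule.comap_map_mkQ]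
  constructor
  · intro h
    refine le_antisymm (le_iInf fun n => le_sup_left) fun x hx => ?_
    rw [← Submodule.Quotient.mk_eq_zero]
    exact IsHausdorff.haus' (I := I) _ fun n => SModEq.zero.2 ((hmem n x).2 (Submodule.mem_iInf _ |>.1 hx n))
  · intro h
    refine { haus' := fun y hy => ?_, prec' := fun f hf => ?_ }
    · obtain ⟨x, rfl⟩ := K.mkQ_surjective y
      rw [Submodule.mkQ_apply, Submodule.Quotient.mk_eq_zero, h, Submodule.mem_iInf]
      exact fun n => (hmem n x).1 (SModEq.zero.1 (hy n))
    · have hs : ∀ n, ∃ d ∈ (I ^ n • ⊤ : Submodule R M), K.mkQ d = f (n + 1) - f n := fun n => by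
        have h1 := SModEq.sub_mem.1 (hf (Nat.le_succ n)).symm
        rwa [show (I ^ n • ⊤ : Submodule R (M ⧸ K)) = (I ^ n • ⊤ : Submodule R M).map K.mkQ by
          rw [Submodule.map_smul'', Submodule.map_top, Submodule.range_mkQ]] at h1
      choose d hd hdf using hs
      obtain ⟨x0, hx0⟩ := K.mkQ_surjective (f 0)
      let g : ℕ → M := fun n => x0 + ∑ i ∈ Finset.range n, d i
      have hg : ∀ n, K.mkQ (g n) = f n := fun n => by
        induction n with
        | zero => simp [g, hx0]
        | succ n ih =>
          have : g (n + 1) = g n + d n := by simp [g, Finset.sum_range_succ]; abel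
          rw [this, map_add, ih, hdf]; abel
      obtain ⟨L, hL⟩ := IsPrecomplete.prec' (I := I) g fun {m n} hmn => by
        induction n, hmn using Nat.le_induction with
        | base => rfl
        | succ n hmn ih =>
          refine ih.trans (SModEq.sub_mem.2 ?_)
          have : g n - g (n + 1) = - d n := by simp [g, Finset.sum_range_succ]
          rw [this]
          exact neg_mem (Submodule.smul_mono_left (Ideal.pow_le_pow_right hmn) (hd n))
      refine ⟨K.mkQ L, fun n => SModEq.sub_mem.2 ?_⟩
      rw [← hg n, ← map_sub, hmem]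
      exact Submodule.mem_sup_right (SModEq.sub_mem.1 (hL n))

end Groth.Agent.S9605
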