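import Groth.Statements.S9606
import Mathlib
import Groth.Agent.S15706

set_option autoImplicit false
universe u
open CAlg

namespace Groth.Agent.S9606
open Polynomial TensorProduct

/-- Let R → S be a ring map with locally nilpotent kernel such that S is generated over R by elements x
with x² and x³ in the image of R. Then the induced map on spectra is a homeomorphism and every
residue field map κ(p) → κ(q), for q a prime of S with inverse image p, is bijective. -/
theorem result {R S : Type u} [CommRing R] [CommRing S] [Algebra R S]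
    (hgen : Algebra.adjoin R {x : S | x ^ 2 ∈ Set.range (algebraMap R S) ∧ x ^ 3 ∈ Set.range (algebraMap R S)} = ⊤)
    (hker : ∀ r : R, algebraMap R S r = 0 → IsNilpotent r) :
    IsHomeomorph (PrimeSpectrum.comap (algebraMap R S)) ∧
      ∀ (q : Ideal S) [q.IsPrime], Function.Bijective (Ideal.ResidueField.map (q.comap (algebraMap R S)) q (algebraMap R S) rfl) := by
  have hres : ∀ (q : Ideal S) [q.IsPrime], Function.Bijective (Ideal.ResidueField.map (q.comap (algebraMap R S)) q (algebraMap R S) rfl) := by
    intro q hq
    set φ := Ideal.ResidueField.map (q.comap (algebraMap R S)) q (algebraMap R S) rfl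
    refine ⟨φ.injective, ?_⟩
    have hr : ∀ r : R, algebraMap S q.ResidueField (algebraMap R S r) ∈ φ.fieldRange := fun r =>
      ⟨algebraMap R _ r, by simp [φ]⟩
    have hs : ∀ s : S, algebraMap S q.ResidueField s ∈ φ.fieldRange := by
      intro s
      have hsmem : s ∈ Algebra.adjoin R {x : S | x ^ 2 ∈ Set.range (algebraMap R S) ∧ x ^ 3 ∈ Set.range (algebraMap R S)} := by
        rw [hgen]; trivial
      induction hsmem using Algebra.adjoin_induction with
      | mem x hx =>
        obtain ⟨⟨r2, h2⟩, ⟨r3, h3⟩⟩ := hx
        by_cases hx0 : algebraMap S q.ResidueField x = 0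
        · rw [hx0]; exact zero_mem _
        · have : algebraMap S q.ResidueField x = algebraMap S q.ResidueField (x ^ 3) / algebraMap S q.ResidueField (x ^ 2) := by
            rw [map_pow, map_pow, eq_div_iff (pow_ne_zero _ hx0)]; ring
          rw [this, ← h2, ← h3]
          exact div_mem (hr _) (hr _)
      | algebraMap r => exact hr r
      | add a b _ _ ha hb => rw [map_add]; exact add_mem ha hb
      | mul a b _ _ ha hb => rw [map_mul]; exact mul_mem ha hb
    intro z
    obtain ⟨a, b, hb, rfl⟩ := IsFractionRing.div_surjective (S ⧸ q) z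
    obtain ⟨a, rfl⟩ := Ideal.Quotient.mk_surjective a
    obtain ⟨b, rfl⟩ := Ideal.Quotient.mk_surjective b
    exact div_mem (hs a) (hs b)
  refine ⟨?_, hres⟩
  have hint : (algebraMap R S).IsIntegral := by
    intro s
    show IsIntegral R s
    have hsmem : s ∈ Algebra.adjoin R {x : S | x ^ 2 ∈ Set.range (algebraMap R S) ∧ x ^ 3 ∈ Set.range (algebraMap R S)} := by
        rw [hgen]; trivial
    refine (Algebra.adjoin_le ?_ : _ ≤ integralClosure R S) hsmem
    intro x hx
    obtain ⟨⟨r2, h2⟩, -⟩ := hx
    exact IsIntegral.of_pow two_pos (h2 ▸ isIntegral_algebraMap)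
  rw [isHomeomorph_iff_continuous_isClosedMap_bijective]
  refine ⟨PrimeSpectrum.continuous_comap _, PrimeSpectrum.isClosedMap_comap_of_isIntegral _ hint, ?_, ?_⟩
  · intro x y hxy
    have hp : x.asIdeal.comap (algebraMap R S) = y.asIdeal.comap (algebraMap R S) := congrArg PrimeSpectrum.asIdeal hxy
    have one : ∀ (x y : PrimeSpectrum S), x.asIdeal.comap (algebraMap R S) = y.asIdeal.comap (algebraMap R S) → x.asIdeal ≤ y.asIdeal := by
      intro x y hp
      let ex := RingEquiv.ofBijective _ (hres x.asIdeal)
      let fx : S →+* (x.asIdeal.comap (algebraMap R S)).ResidueField := ex.symm.toRingHom.comp (algebraMap S _)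
      let φy := Ideal.ResidueField.map (x.asIdeal.comap (algebraMap R S)) y.asIdeal (algebraMap R S) hp
      have heq : φy.comp fx = algebraMap S y.asIdeal.ResidueField := by
        have hR : ∀ r, fx (algebraMap R S r) = algebraMap R _ r := fun r => by
          simp only [fx, RingHom.comp_apply]
          apply ex.injective
          simp [ex]
        refine RingHom.ext fun s => ?_
        have hsmem : s ∈ Algebra.adjoin R {x : S | x ^ 2 ∈ Set.range (algebraMap R S) ∧ x ^ 3 ∈ Set.range (algebraMap R S)} := by
          rw [hgen]; trivial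
        induction hsmem using Algebra.adjoin_induction with
        | mem z hz =>
          obtain ⟨⟨r2, h2⟩, ⟨r3, h3⟩⟩ := hz
          have e2 : (φy.comp fx) z ^ 2 = algebraMap S y.asIdeal.ResidueField z ^ 2 := by
            rw [← map_pow, ← map_pow, ← h2, RingHom.comp_apply, hR]; simp [φy]
          have e3 : (φy.comp fx) z ^ 3 = algebraMap S y.asIdeal.ResidueField z ^ 3 := by
            rw [← map_pow, ← map_pow, ← h3, RingHom.comp_apply, hR]; simp [φy]
          by_cases h0 : algebraMap S y.asIdeal.ResidueField z = 0
          · rw [h0] at e2 ⊢; simpa using e2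
          · rw [pow_succ, e2, pow_succ (algebraMap S y.asIdeal.ResidueField z) 2] at e3
            exact mul_left_cancel₀ (pow_ne_zero 2 h0) e3
        | algebraMap r => rw [RingHom.comp_apply, hR]; simp [φy]
        | add a b _ _ ha hb => rw [map_add, map_add, ha, hb]
        | mul a b _ _ ha hb => rw [map_mul, map_mul, ha, hb]
      intro s hs
      have h0 : fx s = 0 := by simp [fx, Ideal.algebraMap_residueField_eq_zero.2 hs]
      rw [← Ideal.algebraMap_residueField_eq_zero (I := y.asIdeal), ← heq, RingHom.comp_apply, h0, map_zero]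
    exact PrimeSpectrum.ext (le_antisymm (one x y hp) (one y x hp.symm))
  · intro p
    have hle : RingHom.ker (algebraMap R S) ≤ p.asIdeal := fun r hr => by
      obtain ⟨n, hn⟩ := hker r hr
      exact p.isPrime.mem_of_pow_mem n (hn ▸ zero_mem _)
    have : Algebra.IsIntegral R S := ⟨hint⟩
    obtain ⟨Q, -, hQ, hQp⟩ := Ideal.exists_ideal_over_prime_of_isIntegral p.asIdeal (⊥ : Ideal S) hle
    exact ⟨⟨Q, hQ⟩, PrimeSpectrum.ext hQp⟩

end Groth.Agent.S9606
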