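import Groth.Statements.S9607
import Groth.Statements.S15368
import Groth.Statements.S14337
import Groth.Statements.S15526
import Groth.Statements.S10891
import Groth.Statements.S11831
import Mathlib.RingTheory.Nakayama
import Mathlib.RingTheory.LocalRing.Module
import Mathlib.RingTheory.Flat.EquationalCriterion
import Mathlib.RingTheory.TensorProduct.Free
import Mathlib.Data.Nat.Choose.Basic
import Mathlib.Data.Nat.Factorization.Basic
import Mathlib.LinearAlgebra.FreeModule.PID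

set_option autoImplicit false
universe u
open CAlg

namespace Groth.Agent.S9607
open CAlg

open MvPolynomial

theorem pow_dvd_of_mul {p a n x y : ℕ} (hp : p.Prime) (h : p ^ a ∣ x * y) (hx : ¬ p ^ n ∣ x) :
    p ^ (a - n) ∣ y := by
  have hx0 : x ≠ 0 := by rintro rfl; exact hx (dvd_zero _)
  obtain ⟨v, x', hx', rfl⟩ := Nat.exists_eq_pow_mul_and_not_dvd hx0 p hp.ne_one
  have hv : v < n := by
    by_contra hle
    exact hx (dvd_mul_of_dvd_left (pow_dvd_pow p (not_lt.1 hle)) _)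
  have h1 : p ^ (a - v) ∣ x' * y := by
    rcases le_total v a with hva | hva
    · rw [← Nat.add_sub_cancel' hva, pow_add, mul_assoc] at h
      exact Nat.dvd_of_mul_dvd_mul_left (pow_pos hp.pos _) h
    · simp [Nat.sub_eq_zero_of_le hva]
  exact (pow_dvd_pow p (by omega)).trans
    ((Nat.Coprime.pow_left _ (hp.coprime_iff_not_dvd.2 hx')).dvd_of_dvd_mul_left h1)

theorem mem_of {R : Type*} [CommRing R] {T : Subalgebra ℤ R} {p : ℕ} {n : ℕ} {x : R} (hp : 0 < p)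
    (h1 : x ^ (p ^ n) ∈ T) (h2 : (p : R) ^ n * x ∈ T) (j : ℕ) :
    (p : R) ^ (n * p ^ n) * x ^ j ∈ T ∧ (p ^ n ∣ j → x ^ j ∈ T) := by
  refine ⟨?_, fun ⟨q, hq⟩ => by rw [hq, pow_mul]; exact pow_mem h1 q⟩
  obtain ⟨q, r, hr, rfl⟩ : ∃ q r, r < p ^ n ∧ j = p ^ n * q + r :=
    ⟨j / p ^ n, j % p ^ n, Nat.mod_lt _ (pow_pos hp _), (Nat.div_add_mod _ _).symm⟩
  have e : n * p ^ n = n * (p ^ n - r) + n * r := by rw [← mul_add, Nat.sub_add_cancel hr.le]
  rw [e, show (p : R) ^ (n * (p ^ n - r) + n * r) * x ^ (p ^ n * q + r) =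
    (p : R) ^ (n * (p ^ n - r)) * (x ^ p ^ n) ^ q * ((p : R) ^ n * x) ^ r by
      simp only [pow_add, pow_mul, mul_pow]; ring]
  exact mul_mem (mul_mem (pow_mem (natCast_mem T p) _) (pow_mem h1 _)) (pow_mem h2 _)

/-- For a prime number p and integers n, m > 0 there exists an integer a such that (x + y)^(p^a) and p^a
(x + y) both belong to the subring ℤ[x^(p^n), p^n x, y^(p^m), p^m y] of the polynomial ring ℤ[x, y]. -/
theorem result (p : ℕ) (hp : p.Prime) (n m : ℕ) (hn : 0 < n) (hm : 0 < m) :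
    ∃ a : ℕ, ((MvPolynomial.X 0 + MvPolynomial.X 1 : MvPolynomial (Fin 2) ℤ) ^ (p ^ a) ∈ Algebra.adjoin ℤ ({MvPolynomial.X 0 ^ (p ^ n), (p : MvPolynomial (Fin 2) ℤ) ^ n * MvPolynomial.X 0, MvPolynomial.X 1 ^ (p ^ m), (p : MvPolynomial (Fin 2) ℤ) ^ m * MvPolynomial.X 1} : Set (MvPolynomial (Fin 2) ℤ)) ∧
      (p : MvPolynomial (Fin 2) ℤ) ^ a * (MvPolynomial.X 0 + MvPolynomial.X 1) ∈ Algebra.adjoin ℤ ({MvPolynomial.X 0 ^ (p ^ n), (p : MvPolynomial (Fin 2) ℤ) ^ n * MvPolynomial.X 0, MvPolynomial.X 1 ^ (p ^ m), (p : MvPolynomial (Fin 2) ℤ) ^ m * MvPolynomial.X 1} : Set (MvPolynomial (Fin 2) ℤ))) := by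
  set T := Algebra.adjoin ℤ ({MvPolynomial.X 0 ^ (p ^ n), (p : MvPolynomial (Fin 2) ℤ) ^ n * MvPolynomial.X 0, MvPolynomial.X 1 ^ (p ^ m), (p : MvPolynomial (Fin 2) ℤ) ^ m * MvPolynomial.X 1} : Set (MvPolynomial (Fin 2) ℤ))
  have hX1 : (X 0 : MvPolynomial (Fin 2) ℤ) ^ (p ^ n) ∈ T := Algebra.subset_adjoin (by simp)
  have hX2 : (p : MvPolynomial (Fin 2) ℤ) ^ n * X 0 ∈ T := Algebra.subset_adjoin (by simp)
  have hY1 : (X 1 : MvPolynomial (Fin 2) ℤ) ^ (p ^ m) ∈ T := Algebra.subset_adjoin (by simp)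
  have hY2 : (p : MvPolynomial (Fin 2) ℤ) ^ m * X 1 ∈ T := Algebra.subset_adjoin (by simp)
  set N := n * p ^ n + m * p ^ m
  refine ⟨N + n + m, ?_, ?_⟩
  · rw [add_pow]
    refine sum_mem fun j hj => ?_
    rw [Finset.mem_range, Nat.lt_succ_iff] at hj
    by_cases h : p ^ n ∣ j ∧ p ^ m ∣ p ^ (N + n + m) - j
    · exact mul_mem (mul_mem ((mem_of hp.pos hX1 hX2 j).2 h.1) ((mem_of hp.pos hY1 hY2 _).2 h.2)) (natCast_mem T _)
    · have hd : p ^ N ∣ (p ^ (N + n + m)).choose j := by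
        obtain ⟨t, ht⟩ : ∃ t, p ^ (N + n + m) = t + 1 := ⟨_, (Nat.succ_pred (pow_pos hp.pos _).ne').symm⟩
        by_cases h1 : p ^ n ∣ j
        · have h2 : ¬ p ^ m ∣ p ^ (N + n + m) - j := fun h2 => h ⟨h1, h2⟩
          rw [← Nat.choose_symm hj]
          generalize hj' : p ^ (N + n + m) - j = j' at h2 ⊢
          rcases j' with _ | j'
          · exact absurd (dvd_zero _) h2
          refine (pow_dvd_pow p (show N ≤ N + n + m - m by omega)).trans (pow_dvd_of_mul hp ?_ h2)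
          exact ⟨t.choose j', by rw [ht, mul_comm, ← Nat.add_one_mul_choose_eq]⟩
        · rcases j with _ | j'
          · exact absurd (dvd_zero _) h1
          refine (pow_dvd_pow p (show N ≤ N + n + m - n by omega)).trans (pow_dvd_of_mul hp ?_ h1)
          exact ⟨t.choose j', by rw [ht, mul_comm, ← Nat.add_one_mul_choose_eq]⟩
      obtain ⟨c, hc⟩ := hd
      have e : (p : MvPolynomial (Fin 2) ℤ) ^ N = (p : MvPolynomial (Fin 2) ℤ) ^ (n * p ^ n) * (p : MvPolynomial (Fin 2) ℤ) ^ (m * p ^ m) := pow_add _ _ _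
      rw [hc, Nat.cast_mul, Nat.cast_pow, e, show ∀ a b q₁ q₂ r : MvPolynomial (Fin 2) ℤ,
        a * b * (q₁ * q₂ * r) = q₁ * a * (q₂ * b) * r from fun a b q₁ q₂ r => by ring]
      exact mul_mem (mul_mem (mem_of hp.pos hX1 hX2 _).1 (mem_of hp.pos hY1 hY2 _).1) (natCast_mem T c)
  · rw [mul_add, show (p : MvPolynomial (Fin 2) ℤ) ^ (N + n + m) * X 0 = (p : MvPolynomial (Fin 2) ℤ) ^ (N + m) * ((p : MvPolynomial (Fin 2) ℤ) ^ n * X 0) by ring,
      show (p : MvPolynomial (Fin 2) ℤ) ^ (N + n + m) * X 1 = (p : MvPolynomial (Fin 2) ℤ) ^ (N + n) * ((p : MvPolynomial (Fin 2) ℤ) ^ m * X 1) by ring]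
    exact add_mem (mul_mem (pow_mem (natCast_mem T p) _) hX2) (mul_mem (pow_mem (natCast_mem T p) _) hY2)

end Groth.Agent.S9607
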