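import Groth.Statements.S9608
import Mathlib
import Groth.Prelude.Def_FlatCA

set_option autoImplicit false
universe u
open CAlg

namespace Groth.Agent.S9608
open scoped TensorProduct

/-- Let k'/k be a field extension and p a prime number. Then k' is generated over k by elements x for
which some n > 0 has x^(p^n) ∈ k and p^n x ∈ k, if and only if either k' = k, or k has
characteristic p and k'/k is purely inseparable. -/
theorem result {k k' : Type u} [Field k] [Field k'] [Algebra k k'] (p : ℕ) (hp : p.Prime) :
    IntermediateField.adjoin k {x : k' | ∃ n : ℕ, 0 < n ∧ x ^ (p ^ n) ∈ Set.range (algebraMap k k') ∧ (p : k') ^ n * x ∈ Set.range (algebraMap k k')} = ⊤ ↔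
      (Function.Surjective (algebraMap k k') ∨ (CharP k p ∧ IsPurelyInseparable k k')) := by
  haveI := Fact.mk hp
  set T := {x : k' | ∃ n : ℕ, 0 < n ∧ x ^ (p ^ n) ∈ Set.range (algebraMap k k') ∧ (p : k') ^ n * x ∈ Set.range (algebraMap k k')}
  by_cases hc : (p : k) = 0
  · haveI : CharP k p := (CharP.charP_iff_prime_eq_zero hp).2 hc
    haveI : ExpChar k p := ExpChar.prime hp
    have hc' : (p : k') = 0 := by rw [← map_natCast (algebraMap k k'), hc, map_zero]
    have hT : ∀ x : k', x ∈ T ↔ ∃ n, x ^ p ^ n ∈ (algebraMap k k').range := fun x =>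
      ⟨fun ⟨n, _, h, _⟩ => ⟨n, h⟩, fun ⟨n, y, hy⟩ => ⟨n + 1, n.succ_pos, ⟨y ^ p, by
        rw [map_pow, hy, ← pow_mul, pow_succ]⟩, by
        rw [hc', zero_pow (Nat.succ_ne_zero n), zero_mul]; exact ⟨0, map_zero _⟩⟩⟩
    constructor
    · intro h
      refine Or.inr ⟨inferInstance, (isPurelyInseparable_iff_pow_mem k p).2 fun x => ?_⟩
      have hle : IntermediateField.adjoin k T ≤ perfectClosure k k' :=
        IntermediateField.adjoin_le_iff.2 fun z hz => mem_perfectClosure_iff.2 (by
          rw [ringExpChar.eq k p]; exact (hT z).1 hz)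
      have hx : x ∈ perfectClosure k k' := hle (h ▸ IntermediateField.mem_top)
      rw [mem_perfectClosure_iff, ringExpChar.eq k p] at hx
      exact hx
    · rintro (h | ⟨_, h⟩)
      · rw [eq_top_iff]; intro x _
        obtain ⟨y, rfl⟩ := h x
        exact IntermediateField.algebraMap_mem _ y
      · rw [eq_top_iff]; intro x _
        exact IntermediateField.subset_adjoin k T ((hT x).2 ((isPurelyInseparable_iff_pow_mem k p).1 h x))
  · have hT : IntermediateField.adjoin k T = ⊥ := by
      rw [IntermediateField.adjoin_eq_bot_iff]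
      rintro x ⟨n, -, -, y, hy⟩
      rw [SetLike.mem_coe, IntermediateField.mem_bot]
      exact ⟨y / (p : k) ^ n, by
        have hc' : (p : k') ≠ 0 := by rw [← map_natCast (algebraMap k k')]; exact (map_ne_zero _).2 hc
        rw [map_div₀, map_pow, map_natCast, hy, mul_div_cancel_left₀ x (pow_ne_zero n hc')]⟩
    rw [hT]
    constructor
    · intro h
      refine Or.inl fun x => ?_
      have : x ∈ (⊥ : IntermediateField k k') := h ▸ IntermediateField.mem_top
      exact IntermediateField.mem_bot.1 this
    · rintro (h | ⟨hch, -⟩)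
      · rw [eq_top_iff]; intro x _
        exact IntermediateField.mem_bot.2 (h x)
      · exact absurd (CharP.cast_eq_zero k p) hc

end Groth.Agent.S9608
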