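import Groth.Statements.S9609
import Mathlib

set_option autoImplicit false
universe u
open CAlg

namespace Groth.Agent.S9609
open TensorProduct

lemma crit_of {R S : Type u} [CommRing R] [CommRing S] (φ : R →+* S)
    (hinj : Function.Injective (PrimeSpectrum.comap φ))
    (hpi : ∀ (q : Ideal S) [q.IsPrime] (x : q.ResidueField), ∃ n : ℕ, x ^ (ringExpChar (q.comap φ).ResidueField) ^ n ∈ Set.range (Ideal.ResidueField.map (q.comap φ) q φ rfl))
    (K : Type u) [Field K] (g g' : S →+* K) (h : g.comp φ = g'.comp φ) : g = g' := by
  haveI := RingHom.ker_isPrime g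
  haveI := RingHom.ker_isPrime g'
  set q := RingHom.ker g with hqdef
  have hq : q = RingHom.ker g' := congrArg PrimeSpectrum.asIdeal
    (@hinj ⟨RingHom.ker g, inferInstance⟩ ⟨RingHom.ker g', inferInstance⟩ (by
      ext a
      exact Eq.congr_left (RingHom.congr_fun h a)))
  letI : Algebra (q.comap φ).ResidueField q.ResidueField := (Ideal.ResidueField.map (q.comap φ) q φ rfl).toAlgebra
  haveI : IsPurelyInseparable (q.comap φ).ResidueField q.ResidueField :=
    (isPurelyInseparable_iff_pow_mem _ (ringExpChar (q.comap φ).ResidueField)).mpr fun x => hpi q x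
  let G : q.ResidueField →+* K := Ideal.ResidueField.lift q g le_rfl (by
    intro s hs; exact isUnit_iff_ne_zero.mpr fun h0 => hs h0)
  let G' : q.ResidueField →+* K := Ideal.ResidueField.lift q g' hq.le (by
    intro s hs; exact isUnit_iff_ne_zero.mpr fun h0 => hs (hq ▸ h0 : s ∈ q))
  have eG : ∀ s, G (algebraMap S q.ResidueField s) = g s := fun s => Ideal.ResidueField.lift_algebraMap (I := q) g le_rfl _ s
  have eG' : ∀ s, G' (algebraMap S q.ResidueField s) = g' s := fun s => Ideal.ResidueField.lift_algebraMap (I := q) g' hq.le _ s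
  have hGG : G = G' := by
    refine IsPurelyInseparable.injective_comp_algebraMap (q.comap φ).ResidueField q.ResidueField K ?_
    refine Ideal.ResidueField.ringHom_ext (RingHom.ext fun a => ?_)
    show G (Ideal.ResidueField.map (q.comap φ) q φ rfl (algebraMap R _ a)) = G' (Ideal.ResidueField.map (q.comap φ) q φ rfl (algebraMap R _ a))
    rw [Ideal.ResidueField.map_algebraMap]
    rw [eG, eG']
    exact RingHom.congr_fun h a
  ext s
  rw [← eG, ← eG', hGG]

open TensorProduct in
/-- Let R → S be a ring map which is injective on spectra and whose residue field extensions κ(p) → κ(q)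
(q a prime of S with inverse image p) are purely inseparable: every element of κ(q) has a power with
exponent a power of the characteristic exponent lying in the image of κ(p). Then, given an arbitrary
R-algebra R', the induced map R' → R' ⊗_R S is likewise injective on spectra and has purely
inseparable residue field extensions. -/
theorem result {R S R' : Type u} [CommRing R] [CommRing S] [CommRing R'] [Algebra R S] [Algebra R R']
    (hinj : Function.Injective (PrimeSpectrum.comap (algebraMap R S)))
    (hpi : ∀ (q : Ideal S) [q.IsPrime] (x : q.ResidueField), ∃ n : ℕ, x ^ (ringExpChar (q.comap (algebraMap R S)).ResidueField) ^ n ∈ Set.range (Ideal.ResidueField.map (q.comap (algebraMap R S)) q (algebraMap R S) rfl)) :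
    Function.Injective (PrimeSpectrum.comap (algebraMap R' (R' ⊗[R] S))) ∧
      ∀ (q' : Ideal (R' ⊗[R] S)) [q'.IsPrime] (x : q'.ResidueField), ∃ n : ℕ, x ^ (ringExpChar (q'.comap (algebraMap R' (R' ⊗[R] S))).ResidueField) ^ n ∈ Set.range (Ideal.ResidueField.map (q'.comap (algebraMap R' (R' ⊗[R] S))) q' (algebraMap R' (R' ⊗[R] S)) rfl) := by
  let φ := algebraMap R' (R' ⊗[R] S)
  have crit : ∀ (K : Type u) [Field K] (g g' : R' ⊗[R] S →+* K), g.comp φ = g'.comp φ → g = g' := by
    intro K _ g g' h
    have hR : ∀ a : R', g (a ⊗ₜ 1) = g' (a ⊗ₜ 1) := fun a => RingHom.congr_fun h a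
    have hS := crit_of (algebraMap R S) hinj hpi K
      (g.comp (Algebra.TensorProduct.includeRight : S →ₐ[R] R' ⊗[R] S).toRingHom)
      (g'.comp (Algebra.TensorProduct.includeRight : S →ₐ[R] R' ⊗[R] S).toRingHom) (by
      ext r
      simp only [RingHom.comp_apply, AlgHom.toRingHom_eq_coe, RingHom.coe_coe, AlgHom.commutes,
        Algebra.TensorProduct.algebraMap_apply]
      exact hR _)
    refine RingHom.ext fun z => ?_
    induction z using TensorProduct.induction_on with
    | zero => simp
    | tmul a s =>
      have hs : g (1 ⊗ₜ s) = g' (1 ⊗ₜ s) := RingHom.congr_fun hS s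
      rw [show a ⊗ₜ[R] s = (a ⊗ₜ 1) * (1 ⊗ₜ s) by simp, map_mul, map_mul, hR, hs]
    | add x y hx hy => simp [hx, hy]
  constructor
  · intro q₁ q₂ hq
    by_contra hne
    have hui : AlgebraicGeometry.UniversallyInjective (AlgebraicGeometry.Spec.map (CommRingCat.ofHom φ)) := by
      rw [(AlgebraicGeometry.tfae_universallyInjective _).out 0 1 (a := AlgebraicGeometry.UniversallyInjective _)]
      intro K hK a b hab
      letI := hK
      obtain ⟨g, rfl⟩ := AlgebraicGeometry.Spec.map_surjective a
      obtain ⟨g', rfl⟩ := AlgebraicGeometry.Spec.map_surjective b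
      simp only [← AlgebraicGeometry.Spec.map_comp] at hab
      exact congrArg AlgebraicGeometry.Spec.map (CommRingCat.hom_ext (crit K g.hom g'.hom
        congr($(AlgebraicGeometry.Spec.map_injective hab).hom)))
    exact hne (AlgebraicGeometry.Scheme.Hom.injective (AlgebraicGeometry.Spec.map (CommRingCat.ofHom φ)) hq)
  · intro q _ x
    letI : Algebra (q.comap φ).ResidueField q.ResidueField := (Ideal.ResidueField.map (q.comap φ) q φ rfl).toAlgebra
    haveI : IsPurelyInseparable (q.comap φ).ResidueField q.ResidueField := by
      refine (isPurelyInseparable_iff_subsingleton_emb _ _).mpr ⟨fun σ τ => AlgHom.coe_ringHom_injective ?_⟩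
      refine Ideal.ResidueField.ringHom_ext (crit _ _ _ (RingHom.ext fun a => ?_))
      have e : Ideal.ResidueField.map (q.comap φ) q φ rfl (algebraMap R' _ a) = algebraMap _ q.ResidueField (φ a) :=
        Ideal.ResidueField.map_algebraMap ..
      simp only [RingHom.comp_apply, RingHom.coe_coe]
      erw [← e]
      exact (σ.commutes _).trans (τ.commutes _).symm
    exact IsPurelyInseparable.pow_mem (q.comap φ).ResidueField (ringExpChar (q.comap φ).ResidueField) x

end Groth.Agent.S9609
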