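import Groth.Statements.S9610
import Mathlib.RingTheory.Jacobson.Ring
import Mathlib.RingTheory.Ideal.AssociatedPrime.Finiteness
import Mathlib.RingTheory.KrullDimension.Basic
import Mathlib.RingTheory.KrullDimension.Zero
import Mathlib.LinearAlgebra.Dimension.Basic
import Mathlib.RingTheory.Localization.Integral
import Mathlib.RingTheory.Valuation.LocalSubring
import Mathlib.LinearAlgebra.Lagrange
import Mathlib.RingTheory.DiscreteValuationRing.Basic
import Mathlib.RingTheory.FiniteType
import Mathlib.RingTheory.Localization.Away.Basic
import Mathlib.RingTheory.Localization.AtPrime.Basic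
import Mathlib.RingTheory.Support
import Mathlib.RingTheory.Polynomial.RationalRoot
import Mathlib.RingTheory.Ideal.AssociatedPrime.Localization

set_option autoImplicit false
universe u
open CAlg

namespace Groth.Agent.S9610

/-- Let k be a field and V a nonzero k-vector space with dim_k V < #k as cardinals. Then every k-linear
endomorphism T of V admits a monic polynomial P over k for which P(T) is not invertible. -/
theorem result {k V : Type u} [Field k] [AddCommGroup V] [Module k V] [Nontrivial V] (hV : Module.rank k V < Cardinal.mk k) (T : Module.End k V) :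
    ∃ P : Polynomial k, P.Monic ∧ ¬ IsUnit (Polynomial.aeval T P) := by
  classical
  by_contra! hno
  obtain ⟨v, hv⟩ := exists_ne (0 : V)
  have hu : ∀ Q : Polynomial k, Q ≠ 0 → IsUnit (Polynomial.aeval T Q) := fun Q hQ => by
    have h1 := hno _ (Polynomial.monic_mul_leadingCoeff_inv hQ)
    rw [map_mul, Polynomial.aeval_C] at h1
    have hc : IsUnit (algebraMap k (Module.End k V) Q.leadingCoeff⁻¹) :=
      ((Ne.isUnit (inv_ne_zero (Polynomial.leadingCoeff_ne_zero.2 hQ))).map _)
    obtain ⟨u, hu⟩ := hc
    rw [← hu] at h1
    have := h1.mul u⁻¹.isUnit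
    rwa [mul_assoc, Units.mul_inv, mul_one] at this
  choose g hg using fun a : k => (hu _ (Polynomial.X_sub_C_ne_zero a)).exists_right_inv
  have hli : LinearIndependent k (fun a : k => g a v) := by
    rw [linearIndependent_iff']
    intro s c hsum a ha
    set N : k → Polynomial k := fun b => ∏ x ∈ s.erase b, (Polynomial.X - Polynomial.C x)
    have key : ∀ b ∈ s, Polynomial.aeval T (∏ x ∈ s, (Polynomial.X - Polynomial.C x)) (g b v) = Polynomial.aeval T (N b) v := fun b hb => by
      rw [← Finset.prod_erase_mul s _ hb, map_mul, ← Module.End.mul_apply, mul_assoc, hg, mul_one]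
    have h0 : Polynomial.aeval T (∑ b ∈ s, Polynomial.C (c b) * N b) v = 0 := by
      have := congrArg (Polynomial.aeval T (∏ x ∈ s, (Polynomial.X - Polynomial.C x))) hsum
      rw [map_zero, map_sum] at this
      rw [map_sum, LinearMap.sum_apply, ← this]
      refine Finset.sum_congr rfl fun b hb => ?_
      rw [map_smul, key b hb, map_mul, Polynomial.aeval_C, Module.End.mul_apply, Module.algebraMap_end_apply]
    have hQ : ∑ b ∈ s, Polynomial.C (c b) * N b = 0 := by
      by_contra hne
      obtain ⟨w, hw⟩ := (hu _ hne).exists_left_inv
      apply hv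
      rw [← Module.End.one_apply (R := k) v, ← hw, Module.End.mul_apply, h0, map_zero]
    have := congrArg (Polynomial.eval a) hQ
    rw [Polynomial.eval_finsetSum, Polynomial.eval_zero, Finset.sum_eq_single a] at this
    · rw [Polynomial.eval_mul, Polynomial.eval_C, mul_eq_zero] at this
      refine this.resolve_right ?_
      simp only [N, Polynomial.eval_prod, Polynomial.eval_sub, Polynomial.eval_X, Polynomial.eval_C]
      exact Finset.prod_ne_zero_iff.2 fun x hx => sub_ne_zero.2 (Finset.ne_of_mem_erase hx).symm
    · intro b _ hba
      simp only [N, Polynomial.eval_mul, Polynomial.eval_prod, Polynomial.eval_sub, Polynomial.eval_X, Polynomial.eval_C]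
      rw [Finset.prod_eq_zero (i := a) (Finset.mem_erase.2 ⟨hba.symm, ha⟩) (sub_self a), mul_zero]
    · exact fun h => absurd ha h
  exact absurd hli.cardinal_le_rank (not_le.2 hV)

end Groth.Agent.S9610
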