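import Groth.Statements.S9611
import Mathlib.RingTheory.Jacobson.Ring
import Mathlib.RingTheory.Ideal.AssociatedPrime.Finiteness
import Mathlib.RingTheory.KrullDimension.Basic
import Mathlib.RingTheory.KrullDimension.Zero
import Mathlib.LinearAlgebra.Dimension.Basic
import Mathlib.RingTheory.Localization.Integral
import Mathlib.RingTheory.Valuation.LocalSubring
import Mathlib.LinearAlgebra.Lagrange
import Mathlib.RingTheory.DiscreteValuationRing.Basic
import Mathlib.RingTheory.FiniteType
import Mathlib.RingTheory.Localization.Away.Basic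
import Mathlib.RingTheory.Localization.AtPrime.Basic
import Mathlib.RingTheory.Support
import Mathlib.RingTheory.Polynomial.RationalRoot
import Mathlib.RingTheory.Ideal.AssociatedPrime.Localization

set_option autoImplicit false
universe u
open CAlg

namespace Groth.Agent.S9611

/-- Let R be a Jacobson ring, p a prime ideal of R which is not maximal, and f an element of R not in p.
Then the set of primes of R containing p and not containing f is infinite. -/
theorem result {R : Type u} [CommRing R] [IsJacobsonRing R] (p : Ideal R) [p.IsPrime] (hp : ¬ p.IsMaximal) (f : R) (hf : f ∉ p) :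
    {q : PrimeSpectrum R | p ≤ q.asIdeal ∧ f ∉ q.asIdeal}.Infinite := by
  classical
  intro hfin
  set T := hfin.toFinset.filter (fun q : PrimeSpectrum R => q.asIdeal.IsMaximal)
  have hle : T.inf (fun q => q.asIdeal) ≤ p := by
    intro x hx
    have hxf : x * f ∈ p := by
      rw [← show p.jacobson = p from IsJacobsonRing.out ‹IsJacobsonRing R› (Ideal.IsPrime.isRadical ‹p.IsPrime›)]
      refine Submodule.mem_sInf.2 fun m ⟨hpm, hm⟩ => ?_
      by_cases hfm : f ∈ m
      · exact Ideal.mul_mem_left _ _ hfm
      · exact Ideal.mul_mem_right _ _ (Submodule.mem_finsetInf.1 hx ⟨m, hm.isPrime⟩ (Finset.mem_filter.2 ⟨hfin.mem_toFinset.2 ⟨hpm, hfm⟩, hm⟩))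
    exact ((Ideal.IsPrime.mem_or_mem ‹_› hxf).resolve_right hf)
  obtain ⟨q, hq, hqp⟩ := (Ideal.IsPrime.inf_le' ‹_›).1 hle
  obtain ⟨hq1, hq2⟩ := Finset.mem_filter.1 hq
  exact hp ((le_antisymm hqp (hfin.mem_toFinset.1 hq1).1) ▸ hq2)

end Groth.Agent.S9611
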