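import Groth.Statements.S9613
import Mathlib.RingTheory.Jacobson.Ring
import Mathlib.RingTheory.Ideal.AssociatedPrime.Finiteness
import Mathlib.RingTheory.KrullDimension.Basic
import Mathlib.RingTheory.KrullDimension.Zero
import Mathlib.LinearAlgebra.Dimension.Basic
import Mathlib.RingTheory.Localization.Integral
import Mathlib.RingTheory.Valuation.LocalSubring
import Mathlib.LinearAlgebra.Lagrange
import Mathlib.RingTheory.DiscreteValuationRing.Basic
import Mathlib.RingTheory.FiniteType
import Mathlib.RingTheory.Localization.Away.Basic
import Mathlib.RingTheory.Localization.AtPrime.Basic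
import Mathlib.RingTheory.Support
import Mathlib.RingTheory.Polynomial.RationalRoot
import Mathlib.RingTheory.Ideal.AssociatedPrime.Localization

set_option autoImplicit false
universe u
open CAlg

namespace Groth.Agent.S9613

theorem finish {R K : Type u} [CommRing R] [Field K] [Algebra R K] (A : Subalgebra R K) (s : Finset K)
    (hs : Algebra.adjoin R (s : Set K) = ⊤) (hint : ∀ x ∈ s, IsIntegral A x) : IsField A ∧ Module.Finite A K := by
  have htop : Algebra.adjoin A (s : Set K) = ⊤ := by
    rw [eq_top_iff]; intro x hxtop
    clear hxtop
    have hx : x ∈ Algebra.adjoin R (s : Set K) := hs ▸ Algebra.mem_top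
    induction hx using Algebra.adjoin_induction with
    | mem y hy => exact Algebra.subset_adjoin hy
    | algebraMap r => rw [IsScalarTower.algebraMap_apply R A K]; exact Subalgebra.algebraMap_mem _ _
    | add a b _ _ ha hb => exact add_mem ha hb
    | mul a b _ _ ha hb => exact mul_mem ha hb
  have : Algebra.IsIntegral A K := ⟨fun x => by
    have hx : x ∈ Algebra.adjoin A (s : Set K) := by rw [htop]; exact Algebra.mem_top
    induction hx using Algebra.adjoin_induction with
    | mem y hy => exact hint y hy
    | algebraMap r => exact isIntegral_algebraMap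
    | add a b _ _ ha hb => exact ha.add hb
    | mul a b _ _ ha hb => exact ha.mul hb⟩
  have : Algebra.FiniteType A K := ⟨⟨s, htop⟩⟩
  exact ⟨isField_of_isIntegral_of_isField (R := A) (S := K) Subtype.val_injective (Field.toIsField K), Algebra.IsIntegral.finite⟩

/-- Let R → K be an injective ring map into a field K which makes K an R-algebra of finite type. Then
for some nonzero f ∈ R the localization R_f is a field over which K is finite; here R_f is realised
as the R-subalgebra of K that is a localization of R away from f. -/
theorem result {R K : Type u} [CommRing R] [Field K] [Algebra R K] (hinj : Function.Injective (algebraMap R K)) [Algebra.FiniteType R K] :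
    ∃ f : R, f ≠ 0 ∧ ∃ Rf : Subalgebra R K, IsLocalization.Away f Rf ∧ IsField Rf ∧ Module.Finite Rf K := by
  classical
  have : IsDomain R := hinj.isDomain
  let F := FractionRing R
  letI : Algebra F K := (IsFractionRing.lift hinj : F →+* K).toAlgebra
  haveI : IsScalarTower R F K := IsScalarTower.of_algebraMap_eq fun r => (IsFractionRing.lift_algebraMap hinj r).symm
  haveI : Algebra.FiniteType F K := Algebra.FiniteType.of_restrictScalars_finiteType R F K
  have : Module.Finite F K := finite_of_finite_type_of_isJacobsonRing F K
  obtain ⟨s, hs⟩ := (Algebra.FiniteType.out : (⊤ : Subalgebra R K).FG)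
  choose m hm using fun x : K => IsIntegral.exists_multiple_integral_of_isLocalization (nonZeroDivisors R) x
    (Algebra.IsIntegral.isIntegral (R := F) x)
  set f : R := ∏ x ∈ s, (m x : R)
  have hf : f ≠ 0 := Finset.prod_ne_zero_iff.2 fun x _ => nonZeroDivisors.ne_zero (m x).2
  have hu : ∀ y : Submonoid.powers f, IsUnit (Algebra.ofId R K (y : R)) := fun y => by
    obtain ⟨_, n, rfl⟩ := y
    exact isUnit_iff_ne_zero.2 ((map_ne_zero_iff _ hinj).2 (pow_ne_zero n hf))
  let l : Localization.Away f →ₐ[R] K := IsLocalization.liftAlgHom hu
  have hl : Function.Injective l := (IsLocalization.lift_injective_iff _).2 fun a b =>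
    ⟨fun h => congrArg _ (IsLocalization.injective (Localization.Away f) (powers_le_nonZeroDivisors_of_noZeroDivisors hf) h),
      fun h => congrArg _ (hinj h)⟩
  refine ⟨f, hf, l.range, IsLocalization.isLocalization_of_algEquiv _ (AlgEquiv.ofInjective l hl), ?_⟩
  have hint : ∀ x ∈ s, IsIntegral l.range x := by
    intro x hx
    obtain ⟨c, hc⟩ := Finset.dvd_prod_of_mem (fun x => (m x : R)) hx
    obtain ⟨v, hv⟩ := (IsLocalization.Away.algebraMap_isUnit (S := Localization.Away f) f).exists_left_inv
    have h1 : IsIntegral l.range ((m x : R) • x) := (hm x).tower_top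
    have h2 : x = (algebraMap l.range K ⟨l (v * algebraMap R _ c), _, rfl⟩) * ((m x : R) • x) := by
      have e := congrArg l hv
      rw [map_mul, AlgHom.commutes, map_one, show algebraMap R K f = algebraMap R K (m x) * algebraMap R K c by rw [← map_mul]; exact congrArg _ hc] at e
      simp only [Subalgebra.algebraMap_def, map_mul, AlgHom.commutes, Algebra.smul_def]
      linear_combination (-x) * e
    rw [h2]; exact isIntegral_algebraMap.mul h1
  exact finish l.range s hs hint

end Groth.Agent.S9613
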