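import Groth.Statements.S9614
import Mathlib.RingTheory.GradedAlgebra.Homogeneous.Ideal
import Mathlib.RingTheory.FiniteType
import Mathlib.RingTheory.Finiteness.Ideal
import Mathlib.RingTheory.Ideal.Operations
import Mathlib.RingTheory.Ideal.AssociatedPrime.Basic
import Mathlib.RingTheory.Support
import Groth.Agent.Lib.H2Alg.GradedMod

set_option autoImplicit false
universe u
open CAlg

namespace Groth.Agent.S9614

/-- Let S be an ℕ-graded ring and M a finitely generated graded S-module, graded in nonnegative degrees
(the source allows all integer degrees). If x_1, …, x_n are homogeneous elements of M which generate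
M modulo S₊ M (S₊ the irrelevant ideal), then x_1, …, x_n generate M. -/
theorem result {R S : Type u} [CommRing R] [CommRing S] [Algebra R S] (𝒜 : ℕ → Submodule R S) [GradedAlgebra 𝒜]
    (M : Type u) [AddCommGroup M] [Module R M] [Module S M] [IsScalarTower R S M] [Module.Finite S M] (ℳ : ℕ → Submodule R M) [DirectSum.Decomposition ℳ] [SetLike.GradedSMul 𝒜 ℳ]
    {n : ℕ} (x : Fin n → M) (hx : ∀ i, SetLike.IsHomogeneousElem ℳ (x i))
    (h : Submodule.span S (Set.range x) ⊔ (HomogeneousIdeal.irrelevant 𝒜).toIdeal • (⊤ : Submodule S M) = ⊤) :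
    Submodule.span S (Set.range x) = ⊤ := by
  classical
  set N := Submodule.span S (Set.range x)
  have comp : ∀ (c : S) (m : M) (k : ℕ), (∀ i ≤ k, ((DirectSum.decompose 𝒜 c i : 𝒜 i) : S) • ((DirectSum.decompose ℳ m (k - i) : ℳ (k - i)) : M) ∈ N) →
      ((DirectSum.decompose ℳ (c • m) k : ℳ k) : M) ∈ N := by
    intro c m k hk
    rw [← DirectSum.sum_support_decompose 𝒜 c, Finset.sum_smul, DirectSum.decompose_sum, DFinsupp.finsetSum_apply, Submodule.coe_sum]
    refine Submodule.sum_mem _ fun i _ => ?_
    rw [Groth.Agent.H2Alg.decompose_smul_of_mem 𝒜 ℳ (DirectSum.decompose 𝒜 c i).2 m k]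
    split_ifs with hik
    · exact hk i hik
    · exact zero_mem _
  have hN : ∀ y ∈ N, ∀ k, ((DirectSum.decompose ℳ y k : ℳ k) : M) ∈ N := by
    intro y hy
    induction hy using Submodule.span_induction with
    | mem z hz =>
      obtain ⟨i, rfl⟩ := hz
      obtain ⟨d, hd⟩ := hx i
      intro k
      rcases eq_or_ne d k with rfl | hne
      · rw [DirectSum.decompose_of_mem_same ℳ hd]; exact Submodule.subset_span ⟨i, rfl⟩
      · rw [DirectSum.decompose_of_mem_ne ℳ hd hne]; exact zero_mem _
    | zero => intro k; simp
    | add a b _ _ ha hb => intro k; rw [DirectSum.decompose_add, DirectSum.add_apply, Submodule.coe_add]; exact add_mem (ha k) (hb k)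
    | smul c z _ hz => intro k; exact comp c z k fun i _ => N.smul_mem _ (hz (k - i))
  have key : ∀ k, ∀ m ∈ ℳ k, m ∈ N := by
    intro k
    induction k using Nat.strong_induction_on with
    | _ k ih =>
      intro m hm
      obtain ⟨y, hy, z, hz, hyz⟩ := Submodule.mem_sup.1 (h ▸ Submodule.mem_top : m ∈ N ⊔ _)
      rw [← DirectSum.decompose_of_mem_same ℳ hm, ← hyz, DirectSum.decompose_add, DirectSum.add_apply, Submodule.coe_add]
      refine add_mem (hN y hy k) ?_
      clear hyz
      induction hz using Submodule.smul_induction_on' with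
      | smul c hc m' _ =>
        refine comp c m' k fun i hi => ?_
        rcases Nat.eq_zero_or_pos i with rfl | hi0
        · have h0 : ((DirectSum.decompose 𝒜 c 0 : 𝒜 0) : S) = 0 := by
            simpa [HomogeneousIdeal.mem_irrelevant_iff, GradedRing.proj_apply] using hc
          rw [h0, zero_smul]; exact zero_mem _
        · exact N.smul_mem _ (ih _ (by omega) _ (DirectSum.decompose ℳ m' (k - i)).2)
      | add a _ b _ ha hb => rw [DirectSum.decompose_add, DirectSum.add_apply, Submodule.coe_add]; exact add_mem ha hb
  rw [eq_top_iff]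
  intro m _
  rw [← DirectSum.sum_support_decompose ℳ m]
  exact Submodule.sum_mem _ fun i _ => key i _ (DirectSum.decompose ℳ m i).2

end Groth.Agent.S9614
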