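import Groth.Statements.S9615
import Mathlib
import Groth.Agent.Lib.RegLoc.UFD

set_option autoImplicit false
universe u
open CAlg

namespace Groth.Agent.S9615
open TensorProduct

/-- Let R → S be a homomorphism of ℕ-graded rings, i.e. the structure map carries each graded piece R_i
into S_i. If an element s of S is integral over R, then each homogeneous component of s is integral
over R; so the integral closure of R in S is a graded subring of S. -/
theorem result {R S : Type u} [CommRing R] [CommRing S] [Algebra R S] (ℛ : ℕ → AddSubgroup R) [GradedRing ℛ] (𝒮 : ℕ → AddSubgroup S) [GradedRing 𝒮]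
    (hmap : ∀ i : ℕ, ∀ r ∈ ℛ i, algebraMap R S r ∈ 𝒮 i) (s : S) (hs : IsIntegral R s) (i : ℕ) :
    IsIntegral R ((DirectSum.decompose 𝒮 s i : 𝒮 i) : S) := by
  classical
  let φR : R →+* Polynomial R := (DirectSum.toSemiring (A := fun i => ℛ i)
    (fun i => (Polynomial.monomial i).toAddMonoidHom.comp (ℛ i).subtype)
    (by show Polynomial.monomial 0 (1 : R) = 1; simp)
    (fun {i j} a b => by show Polynomial.monomial (i + j) ((a : R) * b) = _; simp [Polynomial.monomial_mul_monomial])).comp
    (DirectSum.decomposeRingEquiv ℛ).toRingHom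
  let φS : S →+* Polynomial S := (DirectSum.toSemiring (A := fun i => 𝒮 i)
    (fun i => (Polynomial.monomial i).toAddMonoidHom.comp (𝒮 i).subtype)
    (by show Polynomial.monomial 0 (1 : S) = 1; simp)
    (fun {i j} a b => by show Polynomial.monomial (i + j) ((a : S) * b) = _; simp [Polynomial.monomial_mul_monomial])).comp
    (DirectSum.decomposeRingEquiv 𝒮).toRingHom
  have hR : ∀ (j : ℕ) (a : ℛ j), φR (a : R) = Polynomial.monomial j (a : R) := fun j a => by
    simp [φR, DirectSum.decomposeRingEquiv, DirectSum.decompose_coe]
  have hS : ∀ (j : ℕ) (a : 𝒮 j), φS (a : S) = Polynomial.monomial j (a : S) := fun j a => by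
    simp [φS, DirectSum.decomposeRingEquiv, DirectSum.decompose_coe]
  have hcoeff : ∀ (t : S) (i : ℕ), (φS t).coeff i = ((DirectSum.decompose 𝒮 t i : 𝒮 i) : S) := by
    intro t i
    induction t using DirectSum.Decomposition.inductionOn 𝒮 with
    | zero => simp
    | @homogeneous j a =>
      rw [hS, Polynomial.coeff_monomial, DirectSum.decompose_coe]
      rcases eq_or_ne j i with rfl | h
      · simp
      · rw [if_neg h, DirectSum.of_eq_of_ne _ _ _ h.symm]; rfl
    | add a b ha hb => rw [map_add, Polynomial.coeff_add, ha, hb, DirectSum.decompose_add, DirectSum.add_apply]; rfl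
  have hsq : ∀ r, φS (algebraMap R S r) = (φR r).map (algebraMap R S) := by
    intro r
    induction r using DirectSum.Decomposition.inductionOn ℛ with
    | zero => simp
    | @homogeneous j a => rw [hR, Polynomial.map_monomial]; exact hS j ⟨_, hmap j a a.2⟩
    | add a b ha hb => rw [map_add, map_add, ha, hb, map_add, Polynomial.map_add]
  letI := Polynomial.algebra R S
  have hint : IsIntegral (Polynomial R) (φS s) := by
    obtain ⟨P, hP, hP0⟩ := hs
    refine ⟨P.map φR, hP.map _, ?_⟩
    rw [Polynomial.eval₂_map]
    have : (algebraMap (Polynomial R) (Polynomial S)).comp φR = φS.comp (algebraMap R S) :=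
      RingHom.ext fun r => (hsq r).symm
    rw [this, ← Polynomial.hom_eval₂, hP0, map_zero]
  rw [← hcoeff]
  exact Polynomial.isIntegral_iff_isIntegral_coeff.1 hint i

end Groth.Agent.S9615
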