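import Groth.Statements.S9616
import Mathlib.RingTheory.GradedAlgebra.Homogeneous.Ideal
import Mathlib.RingTheory.Artinian.Ring
import Mathlib.RingTheory.FiniteType
import Mathlib.RingTheory.IntegralClosure.IsIntegralClosure.Basic
import Mathlib.RingTheory.Localization.FractionRing
import Mathlib.RingTheory.Localization.Integral
import Mathlib.Algebra.Module.FinitePresentation
import Mathlib.RingTheory.Flat.Basic
import Mathlib.LinearAlgebra.Contraction
import Mathlib.RingTheory.LocalRing.Module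
import Mathlib.RingTheory.Support
import Mathlib.RingTheory.FiniteLength
import Mathlib.LinearAlgebra.Dimension.Finrank
import Mathlib.LinearAlgebra.FiniteDimensional.Basic
import Mathlib.Algebra.Ring.Action.Basic
import Mathlib.Algebra.GroupWithZero.Action.End
import Mathlib.RingTheory.HopkinsLevitzki
import Mathlib.Algebra.CharP.Invertible

set_option autoImplicit false
universe u
open CAlg

namespace Groth.Agent.S9616
open TensorProduct

/-- Let S be an ℕ-graded ring, p_1, …, p_r homogeneous prime ideals of S and I ⊆ S₊ a homogeneous ideal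
not contained in any p_i. Then there is a homogeneous element x ∈ I of positive degree with x ∉ p_i
for all i. -/
theorem result {R S : Type u} [CommRing R] [CommRing S] [Algebra R S] (𝒜 : ℕ → Submodule R S) [GradedAlgebra 𝒜]
    {r : ℕ} (p : Fin r → HomogeneousIdeal 𝒜) (hp : ∀ i, (p i).toIdeal.IsPrime) (I : HomogeneousIdeal 𝒜) (hI : I ≤ HomogeneousIdeal.irrelevant 𝒜) (h : ∀ i, ¬ I ≤ p i) :
    ∃ x : S, ∃ d : ℕ, 0 < d ∧ x ∈ 𝒜 d ∧ x ∈ I ∧ ∀ i, x ∉ p i := by
  classical
  suffices hs : ∀ s : Finset (Fin r), s.Nonempty → ∃ x : S, ∃ d : ℕ, 0 < d ∧ x ∈ 𝒜 d ∧ x ∈ I ∧ ∀ i ∈ s, x ∉ p i by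
    rcases Nat.eq_zero_or_pos r with rfl | hr
    · exact ⟨0, 1, one_pos, zero_mem _, (I.toIdeal).zero_mem, fun i => i.elim0⟩
    · have : Nonempty (Fin r) := ⟨⟨0, hr⟩⟩
      obtain ⟨x, d, h1, h2, h3, h4⟩ := hs Finset.univ Finset.univ_nonempty
      exact ⟨x, d, h1, h2, h3, fun i => h4 i (Finset.mem_univ i)⟩
  intro s
  induction s using Finset.strongInductionOn with
  | _ s ih =>
    rintro ⟨a, ha⟩
    by_cases hsing : s = {a}
    · subst hsing
      obtain ⟨x, hxI, hxp⟩ := SetLike.not_le_iff_exists.1 (h a)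
      obtain ⟨i, hi⟩ : ∃ i, ((DirectSum.decompose 𝒜 x i : 𝒜 i) : S) ∉ p a := by
        by_contra! hall
        refine hxp ?_
        rw [← DirectSum.sum_support_decompose 𝒜 x]
        exact Ideal.sum_mem _ fun i _ => hall i
      have hmI := I.isHomogeneous i hxI
      refine ⟨_, i, Nat.pos_of_ne_zero fun hi0 => ?_, (DirectSum.decompose 𝒜 x i).2, hmI, fun j hj => Finset.mem_singleton.1 hj ▸ hi⟩
      subst hi0
      apply hi
      have h2 := hI hxI
      rw [HomogeneousIdeal.mem_irrelevant_iff, GradedRing.proj_apply] at h2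
      rw [h2]; exact (p a).toIdeal.zero_mem
    · have hne : (s.erase a).Nonempty := by
        rw [Finset.nonempty_iff_ne_empty]; intro he
        exact hsing ((Finset.erase_eq_empty_iff s a).1 he |>.resolve_left (Finset.ne_empty_of_mem ha))
      have hx : ∀ j : s, ∃ x : S, ∃ d : ℕ, 0 < d ∧ x ∈ 𝒜 d ∧ x ∈ I ∧ ∀ i ∈ s.erase j.1, x ∉ p i := fun j =>
        ih _ (Finset.erase_ssubset j.2) (by
          rcases eq_or_ne j.1 a with e | e
          · rwa [e]
          · exact ⟨a, Finset.mem_erase.2 ⟨e.symm, ha⟩⟩)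
      choose x d hd hxA hxI hxp using hx
      by_cases hgood : ∃ j : s, x j ∉ p j.1
      · obtain ⟨j, hj⟩ := hgood
        refine ⟨x j, d j, hd j, hxA j, hxI j, fun i hi => ?_⟩
        rcases eq_or_ne i j.1 with rfl | e
        · exact hj
        · exact hxp j i (Finset.mem_erase.2 ⟨e, hi⟩)
      push Not at hgood
      set a' : s := ⟨a, ha⟩
      set T : Finset s := Finset.univ.erase a'
      obtain ⟨b, hb⟩ := hne
      have hbT : (⟨b, Finset.mem_of_mem_erase hb⟩ : s) ∈ T := Finset.mem_erase.2 ⟨fun e => (Finset.mem_erase.1 hb).1 (congrArg Subtype.val e), Finset.mem_univ _⟩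
      have hD : 0 < ∑ j ∈ T, d j := Finset.sum_pos (fun j _ => hd j) ⟨_, hbT⟩
      refine ⟨x a' ^ (∑ j ∈ T, d j) + (∏ j ∈ T, x j) ^ d a', d a' * ∑ j ∈ T, d j, Nat.mul_pos (hd _) hD, add_mem ?_ ?_, ?_, ?_⟩
      · have := SetLike.pow_mem_graded (∑ j ∈ T, d j) (hxA a')
        rwa [smul_eq_mul, mul_comm] at this
      · have := SetLike.pow_mem_graded (d a') (SetLike.prod_mem_graded (A := 𝒜) d x (F := T) fun j _ => hxA j)
        rwa [smul_eq_mul] at this
      · refine add_mem (Ideal.pow_mem_of_mem _ (hxI _) _ hD) (Ideal.pow_mem_of_mem _ ?_ _ (hd _))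
        exact Ideal.mem_of_dvd _ (Finset.dvd_prod_of_mem _ hbT) (hxI _)
      · intro i hi hmem
        rcases eq_or_ne i a with rfl | e
        · have h1 : (∏ j ∈ T, x j) ^ d a' ∈ (p i).toIdeal :=
            (add_mem_cancel_left (Ideal.pow_mem_of_mem _ (hgood a') _ hD)).1 hmem
          obtain ⟨j, hj, hjp⟩ := (hp i).prod_mem_iff.1 ((hp i).mem_of_pow_mem _ h1)
          exact hxp j i (Finset.mem_erase.2 ⟨fun e => (Finset.mem_erase.1 hj).1 (Subtype.ext e.symm), hi⟩) hjp
        · have hiT : (⟨i, hi⟩ : s) ∈ T := Finset.mem_erase.2 ⟨fun e' => e (congrArg Subtype.val e'), Finset.mem_univ _⟩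
          have h1 : x a' ^ (∑ j ∈ T, d j) ∈ (p i).toIdeal :=
            (add_mem_cancel_right (Ideal.pow_mem_of_mem _ (Ideal.mem_of_dvd _ (Finset.dvd_prod_of_mem _ hiT) (hgood ⟨i, hi⟩)) _ (hd a'))).1 hmem
          exact hxp a' i (Finset.mem_erase.2 ⟨e, hi⟩) ((hp i).mem_of_pow_mem _ h1)

end Groth.Agent.S9616
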