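import Groth.Statements.S9617
import Mathlib.RingTheory.GradedAlgebra.Homogeneous.Ideal
import Mathlib.RingTheory.FiniteType
import Mathlib.RingTheory.Finiteness.Ideal
import Mathlib.RingTheory.Ideal.Operations
import Mathlib.RingTheory.Ideal.AssociatedPrime.Basic
import Mathlib.RingTheory.Support
import Groth.Agent.Lib.H2Alg.GradedMod

set_option autoImplicit false
universe u
open CAlg

namespace Groth.Agent.S9617

/-- Let S be an ℕ-graded ring, presented as a graded algebra over a ring A mapping onto S₀, such that S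
is of finite type over A, i.e. over S₀. If M is a finitely generated graded S-module, graded in
nonnegative degrees (the source allows all integer degrees), then each graded piece M_n is a finite
module over A, i.e. over S₀. -/
theorem result {A S : Type u} [CommRing A] [CommRing S] [Algebra A S] (𝒜 : ℕ → Submodule A S) [GradedAlgebra 𝒜]
    (h0 : ∀ s ∈ 𝒜 0, s ∈ Set.range (algebraMap A S)) [Algebra.FiniteType A S]
    (M : Type u) [AddCommGroup M] [Module A M] [Module S M] [IsScalarTower A S M] [Module.Finite S M] (ℳ : ℕ → Submodule A M) [DirectSum.Decomposition ℳ] [SetLike.GradedSMul 𝒜 ℳ] (n : ℕ) :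
    Module.Finite A (ℳ n) := by
  classical
  obtain ⟨G, hG⟩ := (Algebra.FiniteType.out : (⊤ : Subalgebra A S).FG)
  let P : Finset (ℕ × S) := G.biUnion fun g => ((DirectSum.decompose 𝒜 g).support.filter (0 < ·)).image fun i => (i, ((DirectSum.decompose 𝒜 g i : 𝒜 i) : S))
  have hP : ∀ p ∈ P, 0 < p.1 ∧ p.2 ∈ 𝒜 p.1 := by
    intro p hp
    simp only [P, Finset.mem_biUnion, Finset.mem_image, Finset.mem_filter] at hp
    obtain ⟨g, -, i, ⟨-, hi⟩, rfl⟩ := hp
    exact ⟨hi, (DirectSum.decompose 𝒜 g i).2⟩
  let J := Ideal.span (Prod.snd '' (P : Set (ℕ × S)))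
  let T := LinearMap.range (Algebra.linearMap A S) ⊔ J.restrictScalars A
  have hJ : ∀ s : S, ∃ a : A, s - algebraMap A S a ∈ J := by
    intro s
    have hs : s ∈ Algebra.adjoin A (G : Set S) := hG ▸ Algebra.mem_top
    induction hs using Algebra.adjoin_induction with
    | mem g hg =>
      have hgT : g ∈ T := by
        rw [← DirectSum.sum_support_decompose 𝒜 g]
        refine Submodule.sum_mem _ fun i hi => ?_
        rcases Nat.eq_zero_or_pos i with rfl | hpos
        · obtain ⟨a, ha⟩ := h0 _ (DirectSum.decompose 𝒜 g 0).2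
          exact Submodule.mem_sup_left ⟨a, ha⟩
        · refine Submodule.mem_sup_right (Ideal.subset_span ⟨(i, _), ?_, rfl⟩)
          simp only [P, Finset.mem_coe, Finset.mem_biUnion, Finset.mem_image, Finset.mem_filter]
          exact ⟨g, hg, i, ⟨hi, hpos⟩, rfl⟩
      obtain ⟨_, ⟨a, rfl⟩, j, hj, e⟩ := Submodule.mem_sup.1 hgT
      exact ⟨a, by rw [← e]; simpa using hj⟩
    | algebraMap a => exact ⟨a, by simp⟩
    | add x y _ _ hx hy =>
      obtain ⟨a, ha⟩ := hx; obtain ⟨b, hb⟩ := hy
      exact ⟨a + b, by rw [map_add, add_sub_add_comm]; exact add_mem ha hb⟩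
    | mul x y _ _ hx hy =>
      obtain ⟨a, ha⟩ := hx; obtain ⟨b, hb⟩ := hy
      refine ⟨a * b, ?_⟩
      rw [map_mul, show x * y - algebraMap A S a * algebraMap A S b = (x - algebraMap A S a) * y + algebraMap A S a * (y - algebraMap A S b) by ring]
      exact add_mem (J.mul_mem_right _ ha) (J.mul_mem_left _ hb)
  obtain ⟨H, hH⟩ := (Module.Finite.fg_top : (⊤ : Submodule S M).FG)
  let Q : Finset (ℕ × M) := H.biUnion fun m => (DirectSum.decompose ℳ m).support.image fun i => (i, ((DirectSum.decompose ℳ m i : ℳ i) : M))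
  have hQ : ∀ q ∈ Q, q.2 ∈ ℳ q.1 := by
    intro q hq
    simp only [Q, Finset.mem_biUnion, Finset.mem_image] at hq
    obtain ⟨m, -, i, -, rfl⟩ := hq
    exact (DirectSum.decompose ℳ m i).2
  suffices hfg : ∀ k, (ℳ k).FG from Module.Finite.iff_fg.2 (hfg n)
  intro k
  induction k using Nat.strong_induction_on with
  | _ k ih =>
    let U : Submodule A M := Submodule.span A ((Prod.snd '' ((Q.filter (fun q => q.1 = k) : Finset (ℕ × M)) : Set (ℕ × M)))) ⊔
      ((P.filter (fun p => p.1 ≤ k)).attach.sup fun p => (ℳ (k - p.1.1)).map (Algebra.lsmul A A M p.1.2))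
    have hU : U.FG := (Submodule.fg_span ((Finset.finite_toSet _).image _)).sup (Submodule.fg_finset_sup _ _ fun p _ => (ih _ (by
      have h1 := hP _ (Finset.mem_filter.1 p.2).1
      have h2 := (Finset.mem_filter.1 p.2).2
      omega)).map _)
    suffices hle : ∀ y : M, ((DirectSum.decompose ℳ y k : ℳ k) : M) ∈ U by
      have e : ℳ k = U := by
        refine le_antisymm (fun m hm => DirectSum.decompose_of_mem_same ℳ hm ▸ hle m) (sup_le ?_ (Finset.sup_le fun p _ => ?_))
        · rw [Submodule.span_le]
          rintro _ ⟨q, hq, rfl⟩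
          obtain ⟨h1, h2⟩ := Finset.mem_filter.1 hq
          exact h2 ▸ hQ q h1
        · rintro _ ⟨m, hm, rfl⟩
          have := SetLike.GradedSMul.smul_mem (hP _ (Finset.mem_filter.1 p.2).1).2 hm
          rwa [vadd_eq_add, Nat.add_sub_cancel' (Finset.mem_filter.1 p.2).2] at this
      rw [e]; exact hU
    have hJM : ∀ c ∈ J, ∀ m : M, ((DirectSum.decompose ℳ (c • m) k : ℳ k) : M) ∈ U := by
      intro c hc
      induction hc using Submodule.span_induction with
      | mem z hz =>
        obtain ⟨p, hp, rfl⟩ := hz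
        intro m
        rw [Groth.Agent.H2Alg.decompose_smul_of_mem 𝒜 ℳ (hP p hp).2 m k]
        split_ifs with hpk
        · refine Submodule.mem_sup_right (Finset.le_sup (f := fun p : {x // x ∈ P.filter (fun p => p.1 ≤ k)} => (ℳ (k - p.1.1)).map (Algebra.lsmul A A M p.1.2))
            (Finset.mem_attach _ ⟨p, Finset.mem_filter.2 ⟨hp, hpk⟩⟩) ?_)
          exact ⟨_, (DirectSum.decompose ℳ m (k - p.1)).2, rfl⟩
        · exact zero_mem _
      | zero => intro m; simp
      | add a b _ _ ha hb => intro m; rw [add_smul, DirectSum.decompose_add, DirectSum.add_apply, Submodule.coe_add]; exact add_mem (ha m) (hb m)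
      | smul r z _ hz => intro m; rw [smul_eq_mul, mul_comm, mul_smul]; exact hz (r • m)
    have hsc : ∀ (a : A) (m : M), ((DirectSum.decompose ℳ (a • m) k : ℳ k) : M) = a • ((DirectSum.decompose ℳ m k : ℳ k) : M) := fun a m => by
      rw [← algebraMap_smul S a m, Groth.Agent.H2Alg.decompose_smul_of_mem 𝒜 ℳ (show algebraMap A S a ∈ 𝒜 0 from by rw [Algebra.algebraMap_eq_smul_one]; exact Submodule.smul_mem _ a SetLike.GradedOne.one_mem) m k]
      simp
    intro y
    have hy : y ∈ Submodule.span S (H : Set M) := hH ▸ Submodule.mem_top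
    induction hy using Submodule.span_induction with
    | mem m hm =>
      by_cases hne : DirectSum.decompose ℳ m k = 0
      · rw [hne]; exact zero_mem _
      · refine Submodule.mem_sup_left (Submodule.subset_span ⟨(k, _), ?_, rfl⟩)
        simp only [Q, Finset.mem_coe, Finset.mem_filter, Finset.mem_biUnion, Finset.mem_image, DFinsupp.mem_support_toFun]
        exact ⟨⟨m, hm, k, hne, rfl⟩, trivial⟩
    | zero => simp
    | add a b _ _ ha hb => rw [DirectSum.decompose_add, DirectSum.add_apply, Submodule.coe_add]; exact add_mem ha hb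
    | smul c m _ hm =>
      obtain ⟨a, ha⟩ := hJ c
      rw [← sub_add_cancel c (algebraMap A S a), add_smul, algebraMap_smul, DirectSum.decompose_add, DirectSum.add_apply, Submodule.coe_add, hsc]
      exact add_mem (hJM _ ha m) (U.smul_mem _ hm)

end Groth.Agent.S9617
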