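import Groth.Statements.S9618
import Mathlib.RingTheory.Spectrum.Prime.Topology
import Mathlib.RingTheory.Spectrum.Prime.RingHom
import Mathlib.RingTheory.Ideal.MinimalPrime.Localization
import Mathlib.Topology.Connected.Clopen
import Mathlib.Topology.Connected.Separation
import Mathlib.Topology.Connected.TotallyDisconnected
import Mathlib.Topology.Separation.Regular
import Mathlib.Tactic.TFAE
import Mathlib.RingTheory.Ideal.Quotient.Operations
import Mathlib.RingTheory.Finiteness.Ideal
import Groth.Agent.Lib.H2Alg.Spec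

set_option autoImplicit false
universe u
open CAlg

namespace Groth.Agent.S9618
open TensorProduct

/-- For a ring R and a subset T of Spec R the following are equivalent: (1) T is closed and contains the
connected component of each of its points; (2) T can be written as an intersection of subsets of
Spec R that are both open and closed; (3) T is the common zero locus of some set of idempotent
elements of R (equivalently, of the ideal they generate). -/
theorem result {R : Type u} [CommRing R] (T : Set (PrimeSpectrum R)) :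
    [IsClosed T ∧ ∀ x ∈ T, connectedComponent x ⊆ T,
      ∃ U : Set (Set (PrimeSpectrum R)), (∀ u ∈ U, IsClopen u) ∧ T = ⋂₀ U,
      ∃ E : Set R, (∀ e ∈ E, IsIdempotentElem e) ∧ T = PrimeSpectrum.zeroLocus E].TFAE := by
  tfae_have 1 → 3 := by
    rintro ⟨hc, hcomp⟩
    refine ⟨{e | IsIdempotentElem e ∧ T ⊆ PrimeSpectrum.zeroLocus {e}}, fun e he => he.1,
      subset_antisymm (fun q hq e he => by simpa using he.2 hq) fun x hx => ?_⟩
    by_contra hxT
    obtain ⟨I, rfl⟩ := (PrimeSpectrum.isClosed_iff_zeroLocus_ideal T).1 hc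
    set J := Ideal.span {e : R | IsIdempotentElem e ∧ e ∈ x.asIdeal}
    have htop : I ⊔ J = ⊤ := by
      by_contra hne
      obtain ⟨m, hm, hle⟩ := Ideal.exists_le_maximal _ hne
      have hyT : (⟨m, hm.isPrime⟩ : PrimeSpectrum R) ∈ PrimeSpectrum.zeroLocus (I : Set R) :=
        le_sup_left.trans hle
      have hyJ : (⟨m, hm.isPrime⟩ : PrimeSpectrum R) ∈ connectedComponent x := by
        rw [Groth.Agent.H2Alg.connectedComponent_eq x]; exact fun e he => hle (Ideal.mem_sup_right (Ideal.subset_span he))
      exact hxT (hcomp _ hyT (connectedComponent_eq hyJ ▸ mem_connectedComponent))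
    obtain ⟨a, ha, b, hb, hab⟩ := Submodule.mem_sup.1 ((Ideal.eq_top_iff_one _).1 htop)
    obtain ⟨f, hf, hfx, hbf⟩ := Groth.Agent.H2Alg.mem_span_idempotents x b hb
    have hmem : 1 - f ∈ x.asIdeal := by
      refine hx ⟨hf.one_sub, fun q hq => ?_⟩
      rw [PrimeSpectrum.mem_zeroLocus, Set.singleton_subset_iff]
      rcases q.2.mem_or_mem (show (1 - f) * f ∈ q.asIdeal by rw [sub_mul, one_mul, hf.eq, sub_self]; exact zero_mem _) with h | h
      · exact h
      · exfalso; apply q.2.ne_top
        rw [Ideal.eq_top_iff_one, ← hab, hbf]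
        exact add_mem (hq ha) (Ideal.mul_mem_right _ _ h)
    apply x.2.ne_top
    rw [Ideal.eq_top_iff_one, ← sub_add_cancel 1 f]
    exact add_mem hmem hfx
  tfae_have 3 → 2 := by
    rintro ⟨E, hE, rfl⟩
    refine ⟨(fun e => PrimeSpectrum.zeroLocus {e}) '' E, ?_, ?_⟩
    · rintro _ ⟨e, he, rfl⟩; exact PrimeSpectrum.isClopen_iff_zeroLocus.2 ⟨e, hE e he, rfl⟩
    · ext q; simp [PrimeSpectrum.mem_zeroLocus, Set.subset_def]
  tfae_have 2 → 1 := by
    rintro ⟨U, hU, rfl⟩
    exact ⟨isClosed_sInter fun u hu => (hU u hu).1, fun x hx => Set.subset_sInter fun u hu => (hU u hu).connectedComponent_subset (hx u hu)⟩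
  tfae_finish

end Groth.Agent.S9618
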