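import Groth.Statements.S9619
import Mathlib.RingTheory.Spectrum.Prime.Topology
import Mathlib.RingTheory.Spectrum.Prime.RingHom
import Mathlib.RingTheory.Ideal.MinimalPrime.Localization
import Mathlib.Topology.Connected.Clopen
import Mathlib.Topology.Connected.Separation
import Mathlib.Topology.Connected.TotallyDisconnected
import Mathlib.Topology.Separation.Regular
import Mathlib.Tactic.TFAE
import Mathlib.RingTheory.Ideal.Quotient.Operations
import Mathlib.RingTheory.Finiteness.Ideal
import Groth.Agent.Lib.H2Alg.Spec

set_option autoImplicit false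
universe u
open CAlg

namespace Groth.Agent.S9619
open TensorProduct

/-- For a ring R and two sets E, E' of idempotent elements of R with the same zero locus in Spec R, the
ideals generated by E and by E' are equal. -/
theorem result {R : Type u} [CommRing R] (E E' : Set R) (hE : ∀ e ∈ E, IsIdempotentElem e) (hE' : ∀ e ∈ E', IsIdempotentElem e) (h : PrimeSpectrum.zeroLocus E = PrimeSpectrum.zeroLocus E') :
    Ideal.span E = Ideal.span E' := by
  have key : ∀ A B : Set R, (∀ e ∈ A, IsIdempotentElem e) → PrimeSpectrum.zeroLocus B ⊆ PrimeSpectrum.zeroLocus A →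
      Ideal.span A ≤ Ideal.span B := by
    intro A B hA hAB
    rw [Ideal.span_le]
    intro e he
    have : e ∈ (Ideal.span B).radical := by
      rw [Ideal.radical_eq_sInf]
      refine Ideal.mem_sInf.2 fun {J} hJ => ?_
      exact (hAB (show (⟨J, hJ.2⟩ : PrimeSpectrum R) ∈ PrimeSpectrum.zeroLocus B from fun b hb => hJ.1 (Ideal.subset_span hb))) he
    obtain ⟨n, hn⟩ := this
    cases n with
    | zero => rw [pow_zero] at hn; simp [(Ideal.eq_top_iff_one _).2 hn]
    | succ n => rwa [IsIdempotentElem.pow_succ_eq n (hA e he)] at hn
  exact le_antisymm (key E E' hE h.symm.subset) (key E' E hE' h.subset)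

end Groth.Agent.S9619
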