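import Groth.Statements.S9620
import Mathlib.RingTheory.Spectrum.Prime.Topology
import Mathlib.RingTheory.Spectrum.Prime.RingHom
import Mathlib.RingTheory.Ideal.MinimalPrime.Localization
import Mathlib.Topology.Connected.Clopen
import Mathlib.Topology.Connected.Separation
import Mathlib.Topology.Connected.TotallyDisconnected
import Mathlib.Topology.Separation.Regular
import Mathlib.Tactic.TFAE
import Mathlib.RingTheory.Ideal.Quotient.Operations
import Mathlib.RingTheory.Finiteness.Ideal
import Groth.Agent.Lib.H2Alg.Spec

set_option autoImplicit false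
universe u
open CAlg

namespace Groth.Agent.S9620
open TensorProduct

/-- For a ring R and a point p of Spec R, the connected component of p is the zero locus of the ideal I
generated by the idempotents of R contained in p, and every idempotent e of R satisfies e ∈ I or 1 -
e ∈ I (e maps to 0 or 1 in R/I). -/
theorem result {R : Type u} [CommRing R] (p : PrimeSpectrum R) :
    connectedComponent p = PrimeSpectrum.zeroLocus {e : R | IsIdempotentElem e ∧ e ∈ p.asIdeal} ∧
      ∀ e : R, IsIdempotentElem e → (e ∈ Ideal.span {e : R | IsIdempotentElem e ∧ e ∈ p.asIdeal} ∨ 1 - e ∈ Ideal.span {e : R | IsIdempotentElem e ∧ e ∈ p.asIdeal}) := by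
  refine ⟨Groth.Agent.H2Alg.connectedComponent_eq p, fun e he => ?_⟩
  rcases p.2.mem_or_mem (show e * (1 - e) ∈ p.asIdeal by rw [mul_sub, mul_one, he.eq, sub_self]; exact zero_mem _) with h | h
  · exact Or.inl (Ideal.subset_span ⟨he, h⟩)
  · exact Or.inr (Ideal.subset_span ⟨he.one_sub, h⟩)

end Groth.Agent.S9620
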