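import Groth.Statements.S9621
import Mathlib.RingTheory.Spectrum.Prime.Topology
import Mathlib.RingTheory.Spectrum.Prime.RingHom
import Mathlib.RingTheory.Ideal.MinimalPrime.Localization
import Mathlib.Topology.Connected.Clopen
import Mathlib.Topology.Connected.Separation
import Mathlib.Topology.Connected.TotallyDisconnected
import Mathlib.Topology.Separation.Regular
import Mathlib.Tactic.TFAE
import Mathlib.RingTheory.Ideal.Quotient.Operations
import Mathlib.RingTheory.Finiteness.Ideal
import Groth.Agent.Lib.H2Alg.Spec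

set_option autoImplicit false
universe u
open CAlg

namespace Groth.Agent.S9621
open TensorProduct

/-- Let R be a ring, p a minimal prime of R and W a quasi-compact open subset of Spec R not containing
p. Then there is an f ∈ R, f ∉ p, whose basic open D(f) is disjoint from W. -/
theorem result {R : Type u} [CommRing R] (p : PrimeSpectrum R) (hp : p.asIdeal ∈ minimalPrimes R) (W : Set (PrimeSpectrum R)) (hWo : IsOpen W) (hWc : IsCompact W) (hpW : p ∉ W) :
    ∃ f : R, f ∉ p.asIdeal ∧ Disjoint (PrimeSpectrum.basicOpen f : Set (PrimeSpectrum R)) W := by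
  obtain ⟨t, rfl⟩ := PrimeSpectrum.isCompact_isOpen_iff.1 ⟨hWc, hWo⟩
  rw [Set.mem_compl_iff, not_not] at hpW
  have k : ∀ g : (t : Set R), ∃ f ∉ p.asIdeal, ∃ n : ℕ, f * (g : R) ^ n = 0 := fun g => Groth.Agent.H2Alg.exists_mul_pow_eq_zero_of_mem_minimalPrimes _ hp _ (hpW g.2)
  choose f hf n hn using k
  classical
  refine ⟨∏ g, f g, ?_, ?_⟩
  · intro h
    obtain ⟨g, -, hg⟩ := (p.2.prod_mem_iff).1 h
    exact hf g hg
  · rw [Set.disjoint_left]
    intro q hq hqW
    simp only [Set.mem_compl_iff, PrimeSpectrum.mem_zeroLocus, Set.subset_def, not_forall] at hqW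
    obtain ⟨g, hg, hgq⟩ := hqW
    have h0 : f ⟨g, hg⟩ ∈ q.asIdeal := by
      rcases q.2.mem_or_mem (show f ⟨g, hg⟩ * g ^ n ⟨g, hg⟩ ∈ q.asIdeal by rw [hn ⟨g, hg⟩]; exact zero_mem _) with h | h
      · exact h
      · exact absurd (q.2.mem_of_pow_mem _ h) hgq
    exact hq (Ideal.mem_of_dvd _ (Finset.dvd_prod_of_mem _ (Finset.mem_univ _)) h0)

end Groth.Agent.S9621
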