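import Groth.Statements.S9622
import Mathlib.RingTheory.GradedAlgebra.Homogeneous.Ideal
import Mathlib.RingTheory.Artinian.Ring
import Mathlib.RingTheory.FiniteType
import Mathlib.RingTheory.IntegralClosure.IsIntegralClosure.Basic
import Mathlib.RingTheory.Localization.FractionRing
import Mathlib.RingTheory.Localization.Integral
import Mathlib.Algebra.Module.FinitePresentation
import Mathlib.RingTheory.Flat.Basic
import Mathlib.LinearAlgebra.Contraction
import Mathlib.RingTheory.LocalRing.Module
import Mathlib.RingTheory.Support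
import Mathlib.RingTheory.FiniteLength
import Mathlib.LinearAlgebra.Dimension.Finrank
import Mathlib.LinearAlgebra.FiniteDimensional.Basic
import Mathlib.Algebra.Ring.Action.Basic
import Mathlib.Algebra.GroupWithZero.Action.End
import Mathlib.RingTheory.HopkinsLevitzki
import Mathlib.Algebra.CharP.Invertible

set_option autoImplicit false
universe u
open CAlg

namespace Groth.Agent.S9622
open TensorProduct

/-- Let R → S be a ring map whose target S is a local Artinian ring, and write m for the maximal ideal
of S. Then S is a finite R-module exactly when S/m is, and S is an R-algebra of finite type exactly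
when S/m is. -/
theorem result {R S : Type u} [CommRing R] [CommRing S] [Algebra R S] [IsArtinianRing S] [IsLocalRing S] :
    (Module.Finite R S ↔ Module.Finite R (S ⧸ IsLocalRing.maximalIdeal S)) ∧
      (Algebra.FiniteType R S ↔ Algebra.FiniteType R (S ⧸ IsLocalRing.maximalIdeal S)) := by
  classical
  set m := IsLocalRing.maximalIdeal S
  obtain ⟨n, hn⟩ : IsNilpotent m := by
    rw [show m = (⊥ : Ideal S).jacobson from (IsLocalRing.jacobson_eq_maximalIdeal ⊥ bot_ne_top).symm]
    exact IsArtinianRing.isNilpotent_jacobson_bot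
  have key : Algebra.FiniteType R (S ⧸ m) → Algebra.FiniteType R S := by
    intro h
    obtain ⟨s, hs⟩ := h.out
    obtain ⟨g, hg⟩ := IsNoetherian.noetherian (R := S) m
    choose f hf using Ideal.Quotient.mk_surjective (I := m)
    let A := Algebra.adjoin R ((f '' s) ∪ (g : Set S))
    have hA1 : ∀ x : S, ∃ a ∈ A, x - a ∈ m := by
      intro x
      have hx : Ideal.Quotient.mk m x ∈ (Algebra.adjoin R ((f '' s) ∪ (g : Set S))).map (Ideal.Quotient.mkₐ R m) := by
        rw [AlgHom.map_adjoin]
        refine Algebra.adjoin_mono ?_ (hs.symm ▸ Algebra.mem_top)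
        intro y hy
        exact ⟨f y, Or.inl ⟨y, hy, rfl⟩, hf y⟩
      obtain ⟨a, ha, hax⟩ := hx
      exact ⟨a, ha, Ideal.Quotient.eq.1 hax.symm⟩
    have hA : ∀ k : ℕ, 1 ≤ k → ∀ x : S, ∃ a ∈ A, x - a ∈ m ^ k := by
      intro k hk
      induction k, hk using Nat.le_induction with
      | base => simpa using hA1
      | succ k hk ih =>
        have hm : ∀ y ∈ m, ∃ a ∈ A, y - a ∈ m ^ (k + 1) := by
          intro y hy
          rw [← hg] at hy
          induction hy using Submodule.span_induction with
          | mem z hz => exact ⟨z, Algebra.subset_adjoin (Or.inr hz), by simp⟩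
          | zero => exact ⟨0, zero_mem _, by simp⟩
          | add z w _ _ hz hw =>
            obtain ⟨a, ha, ha'⟩ := hz; obtain ⟨b, hb, hb'⟩ := hw
            exact ⟨a + b, add_mem ha hb, by rw [add_sub_add_comm]; exact add_mem ha' hb'⟩
          | smul c z hz hz' =>
            obtain ⟨a, ha, ha'⟩ := hz'
            obtain ⟨b, hb, hb'⟩ := ih c
            refine ⟨b * a, mul_mem hb ha, ?_⟩
            have ha1 : a ∈ m := by
              have hzm : z ∈ m := hg ▸ hz
              have := sub_mem hzm (Ideal.pow_le_self (Nat.succ_ne_zero k) ha')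
              simpa using this
            rw [smul_eq_mul, show c * z - b * a = c * (z - a) + (c - b) * a by ring, pow_succ]
            exact add_mem (Ideal.mul_mem_left _ _ (by rw [← pow_succ]; exact ha')) (Ideal.mul_mem_mul hb' ha1)
        intro x
        obtain ⟨a, ha, hax⟩ := hA1 x
        obtain ⟨b, hb, hb'⟩ := hm _ hax
        exact ⟨a + b, add_mem ha hb, by rw [← sub_sub]; exact hb'⟩
    refine ⟨⟨(s.image f) ∪ g, ?_⟩⟩
    rw [eq_top_iff]
    intro x _
    obtain ⟨a, ha, hax⟩ := hA (n + 1) le_add_self x
    rw [pow_succ, hn, zero_mul, Submodule.zero_eq_bot, Ideal.mem_bot, sub_eq_zero] at hax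
    rw [hax, Finset.coe_union, Finset.coe_image]
    exact ha
  refine ⟨⟨fun _ => inferInstance, fun h => ?_⟩, ⟨fun h => ?_, key⟩⟩
  · have := key inferInstance
    have : Algebra.IsIntegral R S := ⟨fun x => by
      obtain ⟨P, hP, hP0⟩ := Algebra.IsIntegral.isIntegral (R := R) (Ideal.Quotient.mk m x)
      have hx : P.eval₂ (algebraMap R S) x ∈ m := by
        rw [← Ideal.Quotient.eq_zero_iff_mem, Polynomial.hom_eval₂]; exact hP0
      refine ⟨P ^ (n + 1), hP.pow _, ?_⟩
      rw [Polynomial.eval₂_pow]
      have := Ideal.pow_mem_pow hx (n + 1)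
      rwa [pow_succ m, hn, zero_mul, Submodule.zero_eq_bot, Ideal.mem_bot] at this⟩
    exact Algebra.IsIntegral.finite
  · exact h.of_surjective (Ideal.Quotient.mkₐ R m) Ideal.Quotient.mk_surjective

end Groth.Agent.S9622
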