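import Groth.Statements.S9624
import Groth.Agent.Lib.GeomIrr18.Bridge

set_option autoImplicit false
universe u
open CAlg

namespace Groth.Agent.S9624

open TensorProduct in
/-- Let k be a field, S a geometrically connected k-algebra (the spectrum of k' ⊗_k S is connected for
every field extension k'/k) and R any k-algebra. Then the map R → R ⊗_k S induces a bijection on
idempotents: each idempotent of R ⊗_k S comes from exactly one idempotent of R. Here the test fields
range over field extensions in the universe of k; this is equivalent to the unrestricted notion,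
since an algebraic closure of k suffices as a test. -/
theorem result {k R S : Type u} [Field k] [CommRing R] [CommRing S] [Algebra k R] [Algebra k S]
    (hS : ∀ (k' : Type u) [Field k'] [Algebra k k'], ConnectedSpace (PrimeSpectrum (k' ⊗[k] S)))
    (x : R ⊗[k] S) (hx : IsIdempotentElem x) :
    ∃! e : R, IsIdempotentElem e ∧ algebraMap R (R ⊗[k] S) e = x := by
  haveI := (Groth.Agent.GeomIrr.geometricallyConnected_iff_tensor k S).mpr hS
  haveI := Groth.Agent.GeomIrr.geometricallyConnected_includeLeft k R S
  let φ := algebraMap R (R ⊗[k] S)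
  let π := AlgebraicGeometry.Spec.map (CommRingCat.ofHom φ)
  have hπ : IsOpenMap π := Groth.Agent.GeomIrr.isOpenMap_includeLeft k R S
  let U : Set (PrimeSpectrum (R ⊗[k] S)) := PrimeSpectrum.basicOpen x
  have hU : IsClopen U := PrimeSpectrum.isClopen_iff.mpr ⟨x, hx, rfl⟩
  have hsat : π ⁻¹' (π '' U) = U := by
    refine Set.Subset.antisymm ?_ (Set.subset_preimage_image _ _)
    rintro z ⟨w, hw, hwz⟩
    exact (π.isConnected_preimage_singleton (π z)).isPreconnected.subset_isClopen hU ⟨w, hwz, hw⟩ rfl
  have himg : IsClopen (π '' U) := by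
    refine ⟨?_, hπ _ hU.isOpen⟩
    have : (π '' U)ᶜ = π '' Uᶜ := by
      ext y
      constructor
      · intro hy
        obtain ⟨z, rfl⟩ := π.surjective y
        exact ⟨z, fun hz => hy ⟨z, hz, rfl⟩, rfl⟩
      · rintro ⟨z, hz, rfl⟩ hzU
        exact hz (hsat.le hzU)
    rw [← isOpen_compl_iff, this]
    exact hπ _ hU.compl.isOpen
  obtain ⟨e, he, hee⟩ := PrimeSpectrum.isClopen_iff.mp himg
  have hpre : ∀ a : R, (PrimeSpectrum.basicOpen (φ a) : Set (PrimeSpectrum (R ⊗[k] S))) =
      π ⁻¹' (PrimeSpectrum.basicOpen a : Set (PrimeSpectrum R)) := fun a => rfl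
  refine ⟨e, ⟨he, PrimeSpectrum.basicOpen_injOn_isIdempotentElem (he.map φ) hx (SetLike.ext' ?_)⟩, fun e' he' => ?_⟩
  · rw [hpre, ← hee, hsat]
  · refine PrimeSpectrum.basicOpen_injOn_isIdempotentElem he'.1 he (SetLike.ext' ?_)
    have h1 : π '' (π ⁻¹' (PrimeSpectrum.basicOpen e' : Set (PrimeSpectrum R))) = (PrimeSpectrum.basicOpen e' : Set (PrimeSpectrum R)) :=
      Set.image_preimage_eq _ π.surjective
    refine (h1.symm.trans ?_).trans hee
    exact congrArg (fun y => π '' (PrimeSpectrum.basicOpen y : Set (PrimeSpectrum (R ⊗[k] S)))) he'.2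

end Groth.Agent.S9624
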