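import Groth.Statements.S9627
import Groth.Agent.Lib.GeomIrr18.Bridge

set_option autoImplicit false
universe u
open CAlg

namespace Groth.Agent.S9627

open TensorProduct in
/-- Let K/k be a field extension such that Spec(k' ⊗_k K) is irreducible for every field extension k'/k,
and let S be a K-algebra such that Spec(K' ⊗_K S) is irreducible for every field extension K'/K.
Then Spec(k' ⊗_k S) is irreducible for every field extension k'/k: S is geometrically irreducible
over k. Here the test fields k'/k and K'/K range over field extensions in the common universe of k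
and K; this is equivalent to the unrestricted notions, since an algebraic closure of the base field
suffices as a test. -/
theorem result {k K S : Type u} [Field k] [Field K] [Algebra k K] [CommRing S] [Algebra K S] [Algebra k S] [IsScalarTower k K S]
    (hK : ∀ (k' : Type u) [Field k'] [Algebra k k'], IrreducibleSpace (PrimeSpectrum (k' ⊗[k] K)))
    (hS : ∀ (K' : Type u) [Field K'] [Algebra K K'], IrreducibleSpace (PrimeSpectrum (K' ⊗[K] S))) :
    ∀ (k' : Type u) [Field k'] [Algebra k k'], IrreducibleSpace (PrimeSpectrum (k' ⊗[k] S)) := by
  rw [← Groth.Agent.GeomIrr.geometricallyIrreducible_iff_tensor] at hK hS ⊢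
  haveI := hK
  haveI := hS
  haveI : Subsingleton ↥(AlgebraicGeometry.Spec (CommRingCat.of k)) := inferInstanceAs (Subsingleton (PrimeSpectrum k))
  haveI : Subsingleton ↥(AlgebraicGeometry.Spec (CommRingCat.of K)) := inferInstanceAs (Subsingleton (PrimeSpectrum K))
  have h := AlgebraicGeometry.GeometricallyIrreducible.comp (AlgebraicGeometry.Spec.map (CommRingCat.ofHom (algebraMap K S)))
    (AlgebraicGeometry.Spec.map (CommRingCat.ofHom (algebraMap k K)))
  rwa [← AlgebraicGeometry.Spec.map_comp, ← CommRingCat.ofHom_comp, ← IsScalarTower.algebraMap_eq] at h

end Groth.Agent.S9627
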