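import Groth.Statements.S9632
import Mathlib
import Groth.Agent.S15706

set_option autoImplicit false
universe u
open CAlg

namespace Groth.Agent.S9632
open Polynomial TensorProduct

open TensorProduct in

open TensorProduct in
/-- Let R → A be a ring map making A a finite free R-module of rank n, let f ∈ A and let P(T) = Tⁿ +
r_{n-1}Tⁿ⁻¹ + ⋯ + r_0 be the characteristic polynomial of multiplication by f on A. Then for a prime
p of R, f acts nilpotently on κ(p) ⊗_R A if and only if p contains r_0, …, r_{n-1}. -/
theorem result {R A : Type u} [CommRing R] [CommRing A] [Algebra R A] [Module.Free R A] [Module.Finite R A] (f : A) (p : Ideal R) [p.IsPrime] :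
    IsNilpotent ((1 : p.ResidueField) ⊗ₜ[R] f : p.ResidueField ⊗[R] A) ↔
      ∀ i : ℕ, i < Module.finrank R A → (LinearMap.mulLeft R f).charpoly.coeff i ∈ p := by
  have : Nontrivial R := ⟨⟨0, 1, fun h => p.ne_top_iff_one.1 ‹p.IsPrime›.ne_top (h ▸ zero_mem _)⟩⟩
  rw [← LinearMap.isNilpotent_mulLeft_iff p.ResidueField,
    show LinearMap.mulLeft p.ResidueField ((1 : p.ResidueField) ⊗ₜ[R] f) = (LinearMap.mulLeft R f).baseChange p.ResidueField by ext; simp]
  set φ := LinearMap.mulLeft R f
  have hn : Module.finrank p.ResidueField (p.ResidueField ⊗[R] A) = Module.finrank R A := Module.finrank_baseChange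
  have key : IsNilpotent (φ.baseChange p.ResidueField) ↔ (φ.baseChange p.ResidueField).charpoly = X ^ Module.finrank p.ResidueField (p.ResidueField ⊗[R] A) := by
    exact (LinearMap.charpoly_nilpotent_tfae (φ.baseChange p.ResidueField)).out 0 1
  rw [key, hn, LinearMap.charpoly_baseChange]
  have hd : φ.charpoly.natDegree = Module.finrank R A := φ.charpoly_natDegree
  constructor
  · intro h i hi
    rw [← Ideal.algebraMap_residueField_eq_zero, ← Polynomial.coeff_map, h, Polynomial.coeff_X_pow, if_neg hi.ne]
  · intro h
    ext i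
    rw [Polynomial.coeff_map, Polynomial.coeff_X_pow]
    rcases lt_trichotomy i (Module.finrank R A) with hi | hi | hi
    · rw [if_neg hi.ne, Ideal.algebraMap_residueField_eq_zero]; exact h i hi
    · rw [if_pos hi, hi, ← hd, ← Polynomial.leadingCoeff, φ.charpoly_monic.leadingCoeff, map_one]
    · rw [if_neg hi.ne', Polynomial.coeff_eq_zero_of_natDegree_lt (by omega), map_zero]

end Groth.Agent.S9632
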