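import Groth.Statements.S9633
import Mathlib.RingTheory.Spectrum.Prime.Topology
import Mathlib.RingTheory.Spectrum.Prime.RingHom
import Mathlib.RingTheory.Ideal.MinimalPrime.Localization
import Mathlib.Topology.Connected.Clopen
import Mathlib.Topology.Connected.Separation
import Mathlib.Topology.Connected.TotallyDisconnected
import Mathlib.Topology.Separation.Regular
import Mathlib.Tactic.TFAE
import Mathlib.RingTheory.Ideal.Quotient.Operations
import Mathlib.RingTheory.Finiteness.Ideal
import Groth.Agent.Lib.H2Alg.Spec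

set_option autoImplicit false
universe u
open CAlg

namespace Groth.Agent.S9633
open TensorProduct

/-- For a ring R with spectrum X the following are equivalent: (1) X is profinite, i.e. compact,
Hausdorff and totally disconnected; (2) X is Hausdorff; (3) X is totally disconnected; (4) every
quasi-compact open subset of X is closed; (5) there are no nontrivial inclusions among prime ideals
of R; (6) every prime ideal of R is maximal; (7) every prime ideal of R is a minimal prime; (8)
every standard open D(f) is closed. -/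
theorem result {R : Type u} [CommRing R] :
    [CompactSpace (PrimeSpectrum R) ∧ T2Space (PrimeSpectrum R) ∧ TotallyDisconnectedSpace (PrimeSpectrum R),
      T2Space (PrimeSpectrum R),
      TotallyDisconnectedSpace (PrimeSpectrum R),
      ∀ W : Set (PrimeSpectrum R), IsOpen W → IsCompact W → IsClosed W,
      ∀ p q : PrimeSpectrum R, p ≤ q → p = q,
      ∀ p : Ideal R, p.IsPrime → p.IsMaximal,
      ∀ p : Ideal R, p.IsPrime → p ∈ minimalPrimes R,
      ∀ f : R, IsClosed (PrimeSpectrum.basicOpen f : Set (PrimeSpectrum R))].TFAE := by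
  tfae_have 1 → 2 := fun h => h.2.1
  tfae_have 1 → 3 := fun h => h.2.2
  tfae_have 2 → 6 := fun h p hp => (PrimeSpectrum.isClosed_singleton_iff_isMaximal ⟨p, hp⟩).1 isClosed_singleton
  tfae_have 3 → 6 := fun h p hp => (PrimeSpectrum.isClosed_singleton_iff_isMaximal ⟨p, hp⟩).1 (by
    rw [← connectedComponent_eq_singleton]; exact isClosed_connectedComponent)
  tfae_have 6 → 5 := fun h p q hpq => PrimeSpectrum.ext ((h p.asIdeal p.2).eq_of_le q.2.ne_top hpq)
  tfae_have 5 → 7 := by
    intro h p hp
    refine ⟨⟨hp, bot_le⟩, fun q hq hqp => ?_⟩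
    exact (congrArg PrimeSpectrum.asIdeal (h ⟨q, hq.1⟩ ⟨p, hp⟩ hqp)).ge
  tfae_have 7 → 8 := by
    intro h f
    refine ⟨isOpen_iff_forall_mem_open.2 fun p hp => ?_⟩
    have hp' : f ∈ p.asIdeal := by simpa using hp
    obtain ⟨s, hs, n, hn⟩ := Groth.Agent.H2Alg.exists_mul_pow_eq_zero_of_mem_minimalPrimes _ (h _ p.2) f hp'
    refine ⟨PrimeSpectrum.basicOpen s, fun q hq hqf => ?_, PrimeSpectrum.isOpen_basicOpen, hs⟩
    rcases q.2.mem_or_mem (show s * f ^ n ∈ q.asIdeal by rw [hn]; exact zero_mem _) with h' | h'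
    · exact hq h'
    · exact hqf (q.2.mem_of_pow_mem _ h')
  tfae_have 8 → 4 := by
    intro h W hWo hWc
    obtain ⟨t, rfl⟩ := PrimeSpectrum.isCompact_isOpen_iff.1 ⟨hWc, hWo⟩
    have : (PrimeSpectrum.zeroLocus (t : Set R))ᶜ = ⋃ f ∈ t, (PrimeSpectrum.basicOpen f : Set (PrimeSpectrum R)) := by
      ext q; simp [PrimeSpectrum.mem_zeroLocus, Set.subset_def]
    rw [this]
    exact t.finite_toSet.isClosed_biUnion fun f _ => h f
  tfae_have 4 → 8 := fun h f => h _ PrimeSpectrum.isOpen_basicOpen (PrimeSpectrum.isCompact_basicOpen f)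
  tfae_have 8 → 1 := by
    intro h
    have hts : TotallySeparatedSpace (PrimeSpectrum R) := by
      rw [totallySeparatedSpace_iff_exists_isClopen]
      intro p q hne
      have hne' : ¬ (p.asIdeal ≤ q.asIdeal ∧ q.asIdeal ≤ p.asIdeal) := fun h' => hne (PrimeSpectrum.ext (le_antisymm h'.1 h'.2))
      rcases not_and_or.1 hne' with hn | hn <;> obtain ⟨f, h1, h2⟩ := SetLike.not_le_iff_exists.1 hn
      · exact ⟨(PrimeSpectrum.basicOpen f : Set (PrimeSpectrum R))ᶜ, IsClopen.compl ⟨h f, PrimeSpectrum.isOpen_basicOpen⟩, by simpa using h1, by simpa using h2⟩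
      · exact ⟨(PrimeSpectrum.basicOpen f : Set (PrimeSpectrum R)), ⟨h f, PrimeSpectrum.isOpen_basicOpen⟩, by simpa using h2, by simpa using h1⟩
    exact ⟨inferInstance, TotallySeparatedSpace.t2Space, inferInstance⟩
  tfae_finish

end Groth.Agent.S9633
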