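import Groth.Statements.S9636
import Mathlib
import Groth.Agent.Lib.CI2.ValSubDedekind

set_option autoImplicit false
universe u
open CAlg

namespace Groth.Agent.S9636
open scoped TensorProduct
open Polynomial

open TensorProduct in
/-- Let k'/k be a separable algebraic field extension. Then for some multiplicative subset S of k' ⊗_k
k' the multiplication map k' ⊗_k k' → k' is a localization at S: there is a ring isomorphism S⁻¹(k'
⊗_k k') ≅ k' carrying the localization map to the multiplication map. -/
theorem result {k k' : Type u} [Field k] [Field k'] [Algebra k k'] [Algebra.IsSeparable k k'] :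
    ∃ (S : Submonoid (k' ⊗[k] k')) (e : Localization S ≃+* k'), ∀ x : k' ⊗[k] k', e (algebraMap (k' ⊗[k] k') (Localization S) x) = Algebra.TensorProduct.lmul' (S := k') k x := by
  let T := k' ⊗[k] k'
  let μ : T →+* k' := (Algebra.TensorProduct.lmul' (S := k') k).toRingHom
  haveI : (RingHom.ker μ).IsPrime := RingHom.ker_isPrime μ
  let S := (RingHom.ker μ).primeCompl
  let N : Ideal T := RingHom.ker (algebraMap T (Localization S))
  have hgen : ∀ a : k', (1 : k') ⊗ₜ[k] a - a ⊗ₜ[k] (1 : k') ∈ N := fun a => by
    let i₁ : k' →ₐ[k] T := Algebra.TensorProduct.includeLeft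
    let i₂ : k' →ₐ[k] T := Algebra.TensorProduct.includeRight
    let f := (minpoly k a).map (algebraMap k k')
    have hfa : f.IsRoot a := by
      rw [IsRoot.def, eval_map, ← aeval_def, minpoly.aeval]
    obtain ⟨g, hg⟩ := dvd_iff_isRoot.2 hfa
    have hga : g.eval a ≠ 0 := fun h0 => by
      have h1 : (derivative f).eval a = 0 := by
        rw [hg, derivative_mul, eval_add, eval_mul, eval_mul, h0]
        simp
      rw [derivative_map, eval_map, ← aeval_def] at h1
      exact (Algebra.IsSeparable.isSeparable k a).aeval_derivative_ne_zero (minpoly.aeval k a) h1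
    let t : T := g.eval₂ i₁.toRingHom (i₂ a)
    have ht : t ∈ S := fun h => hga (by
      have h' : μ t = 0 := h
      rw [show μ t = g.eval₂ (μ.comp i₁.toRingHom) (μ (i₂ a)) from hom_eval₂ g i₁.toRingHom μ (i₂ a)] at h'
      have e1 : μ.comp i₁.toRingHom = RingHom.id k' := RingHom.ext fun z => by
        show (Algebra.TensorProduct.lmul' (S := k') k) (z ⊗ₜ[k] 1) = z
        rw [Algebra.TensorProduct.lmul'_apply_tmul, mul_one]
      have e2 : μ (i₂ a) = a := by
        show (Algebra.TensorProduct.lmul' (S := k') k) (1 ⊗ₜ[k] a) = a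
        rw [Algebra.TensorProduct.lmul'_apply_tmul, one_mul]
      rw [e1, e2] at h'
      exact h')
    have h0 : (i₂ a - i₁ a) * t = 0 := by
      have := congrArg (eval₂ i₁.toRingHom (i₂ a)) hg
      rw [eval₂_map, eval₂_mul, eval₂_sub, eval₂_X, eval₂_C] at this
      rw [show (i₁.toRingHom.comp (algebraMap k k')) = algebraMap k T from RingHom.ext i₁.commutes,
        ← aeval_def, aeval_algHom_apply, minpoly.aeval, map_zero] at this
      exact this.symm
    rw [RingHom.mem_ker]
    have h3 := congrArg (algebraMap T (Localization S)) h0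
    rw [map_mul, map_zero] at h3
    exact (IsLocalization.map_units (Localization S) (⟨t, ht⟩ : S)).mul_left_eq_zero.1 h3
  have hker : ∀ z : T, z - μ z ⊗ₜ[k] (1 : k') ∈ N := fun z => by
    induction z using TensorProduct.induction_on with
    | zero => simp [μ]
    | tmul a b =>
      have h := N.mul_mem_left (a ⊗ₜ[k] (1 : k')) (hgen b)
      rw [mul_sub, Algebra.TensorProduct.tmul_mul_tmul, Algebra.TensorProduct.tmul_mul_tmul, one_mul, mul_one] at h
      rw [show μ (a ⊗ₜ[k] b) = a * b from Algebra.TensorProduct.lmul'_apply_tmul a b]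
      rw [mul_one] at h
      exact h
    | add x y hx hy =>
      rw [map_add, TensorProduct.add_tmul, add_sub_add_comm]
      exact add_mem hx hy
  let L : Localization S →+* k' := IsLocalization.lift (M := S) (g := μ) fun y => isUnit_iff_ne_zero.2 y.2
  have hL : ∀ x : T, L (algebraMap T (Localization S) x) = μ x := fun x => IsLocalization.lift_eq _ x
  refine ⟨S, RingEquiv.ofBijective L ⟨(injective_iff_map_eq_zero L).2 fun z hz => ?_,
    fun a => ⟨algebraMap T _ (a ⊗ₜ[k] 1), by rw [hL]; exact (Algebra.TensorProduct.lmul'_apply_tmul a 1).trans (mul_one a)⟩⟩, hL⟩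
  obtain ⟨x, y, rfl⟩ := IsLocalization.exists_mk'_eq S z
  have hx : μ x = 0 := by
    have h := congrArg L (IsLocalization.mk'_spec (Localization S) x y)
    rw [map_mul, hz, zero_mul, hL] at h
    exact h.symm
  have h4 := hker x
  rw [hx, TensorProduct.zero_tmul, sub_zero] at h4
  rw [IsLocalization.mk'_eq_zero_iff]
  exact (IsLocalization.map_eq_zero_iff S (Localization S) x).1 h4

end Groth.Agent.S9636
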