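import Groth.Statements.S9638
import Mathlib
import Groth.Prelude.Def_FlatCA
import Groth.Agent.Lib.CI2.FibAss

set_option autoImplicit false
universe u
open CAlg

namespace Groth.Agent.S9638
open scoped TensorProduct
open Groth.Agent.CI2

theorem smul_unit {S : Type u} [CommRing S] (T : Submonoid S) (L : Type u) [AddCommGroup L] [Module S L]
    [Module (Localization T) L] [IsScalarTower S (Localization T) L] {t : S} (ht : t ∈ T) {x : L}
    (hx : t • x = 0) : x = 0 := by
  rw [← algebraMap_smul (Localization T) t x] at hx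
  exact (IsLocalization.map_units (Localization T) ⟨t, ht⟩).smul_eq_zero.mp hx

/-- Let R → S be a ring map with R a domain with fraction field K, and N an S-module flat over R.
Writing T for the image in S of the nonzero elements of R, so that T⁻¹S = S ⊗_R K and T⁻¹N = N ⊗_R
K, the associated primes of N over S (primes equal to the annihilator of an element) coincide with
those of T⁻¹N over S, and these are exactly the inverse images in S of the associated primes of T⁻¹N
over T⁻¹S. -/
theorem result {R S : Type u} [CommRing R] [IsDomain R] [CommRing S] [Algebra R S] (N : Type u) [AddCommGroup N] [Module S N] [Module R N] [IsScalarTower R S N] [Module.Flat R N] :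
    FlatCA.ass S N = FlatCA.ass S (LocalizedModule (Algebra.algebraMapSubmonoid S (nonZeroDivisors R)) N) ∧
      FlatCA.ass S N = Ideal.comap (algebraMap S (Localization (Algebra.algebraMapSubmonoid S (nonZeroDivisors R)))) '' FlatCA.ass (Localization (Algebra.algebraMapSubmonoid S (nonZeroDivisors R))) (LocalizedModule (Algebra.algebraMapSubmonoid S (nonZeroDivisors R)) N) := by
  set T := Algebra.algebraMapSubmonoid S (nonZeroDivisors R)
  let ι := LocalizedModule.mkLinearMap T N
  have hreg : ∀ t ∈ T, ∀ n : N, t • n = 0 → n = 0 := by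
    rintro _ ⟨r, hr, rfl⟩ n hn
    rw [algebraMap_smul] at hn
    have hinj : Function.Injective (LinearMap.lsmul R R r) := fun a b h =>
      mul_left_cancel₀ (nonZeroDivisors.ne_zero hr) h
    have h2 := Module.Flat.rTensor_preserves_injective_linearMap (M := N) _ hinj
    have h3 : (LinearMap.lsmul R R r).rTensor N ((1 : R) ⊗ₜ[R] n) = 0 := by
      rw [LinearMap.rTensor_tmul, LinearMap.lsmul_apply, TensorProduct.smul_tmul, hn, TensorProduct.tmul_zero]
    rw [map_eq_zero_iff _ h2] at h3
    have := congrArg (TensorProduct.lid R N) h3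
    rwa [TensorProduct.lid_tmul, one_smul, map_zero] at this
  have hinj : Function.Injective ι := by
    rw [← LinearMap.ker_eq_bot, eq_bot_iff]
    intro n hn
    obtain ⟨⟨t, ht⟩, htn⟩ := (IsLocalizedModule.eq_zero_iff T ι).mp hn
    exact (Submodule.mem_bot S).mpr (hreg t ht n htn)
  have hiff : ∀ z : LocalizedModule T N, ∃ (t : T) (n : N), (t : S) • z = ι n := fun z => by
    obtain ⟨⟨n, t⟩, h⟩ := IsLocalizedModule.surj T ι z
    exact ⟨t, n, h⟩
  have h1 : ∀ q, q ∈ FlatCA.ass S N ↔ q ∈ FlatCA.ass S (LocalizedModule T N) := by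
    intro q
    refine ⟨FibAss.ass_of_injective ι hinj, fun h => ?_⟩
    obtain ⟨hq, z, hz⟩ := FibAss.mem_ass_iff.mp h
    obtain ⟨t, n, htn⟩ := hiff z
    refine FibAss.mem_ass_iff.mpr ⟨hq, n, fun a => ?_⟩
    rw [hz, ← map_eq_zero_iff ι hinj, map_smul, ← htn, smul_comm]
    exact ⟨fun h => by rw [h, smul_zero], fun h => smul_unit T _ t.2 h⟩
  refine ⟨Set.ext h1, Set.ext fun q => ?_⟩
  rw [h1, Set.mem_image]
  constructor
  · intro h
    obtain ⟨hq, z, hz⟩ := FibAss.mem_ass_iff.mp h
    let Q := (Submodule.span (Localization T) {z}).annihilator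
    have hmem : ∀ f, f ∈ Q ↔ f • z = 0 := fun f => Submodule.mem_annihilator_span_singleton _ _
    have hcomap : ∀ a, algebraMap S (Localization T) a ∈ Q ↔ a ∈ q := fun a => by
      rw [hmem, algebraMap_smul, hz]
    have hQ : Q.comap (algebraMap S (Localization T)) = q := Ideal.ext hcomap
    refine ⟨Q, FibAss.mem_ass_iff.mpr ⟨⟨?_, fun {f g} hfg => ?_⟩, z, hmem⟩, hQ⟩
    · intro h; exact hq.ne_top (by rw [← hQ, h, Ideal.comap_top])
    · obtain ⟨⟨a, s⟩, ha⟩ := IsLocalization.surj T f
      obtain ⟨⟨b, t⟩, hb⟩ := IsLocalization.surj T g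
      dsimp at ha hb
      have hab : a * b ∈ q := (hcomap _).mp (by
        rw [map_mul, ← ha, ← hb, show f * algebraMap S _ (s : S) * (g * algebraMap S _ (t : S)) =
          (algebraMap S _ (s : S) * algebraMap S _ (t : S)) * (f * g) by ring]
        exact Q.mul_mem_left _ hfg)
      refine (hq.mem_or_mem hab).imp (fun h => ?_) (fun h => ?_)
      · exact (Ideal.mul_unit_mem_iff_mem Q (IsLocalization.map_units _ s)).mp (ha.symm ▸ (hcomap a).mpr h)
      · exact (Ideal.mul_unit_mem_iff_mem Q (IsLocalization.map_units _ t)).mp (hb.symm ▸ (hcomap b).mpr h)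
  · rintro ⟨Q, hQ, rfl⟩
    obtain ⟨hQp, z, hz⟩ := FibAss.mem_ass_iff.mp hQ
    refine FibAss.mem_ass_iff.mpr ⟨Ideal.IsPrime.comap _, z, fun a => ?_⟩
    rw [Ideal.mem_comap, hz, algebraMap_smul]

end Groth.Agent.S9638
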