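import Groth.Statements.S9640
import Groth.Agent.Lib.WeakAssBC4
import Mathlib.RingTheory.Flat.TorsionFree

set_option autoImplicit false
universe u
open CAlg

namespace Groth.Agent.S9640

/-- Let R → S be a ring map with R a domain with fraction field K and N an S-module flat over R. Writing
T for the image in S of the nonzero elements of R, so that T⁻¹S = S ⊗_R K and T⁻¹N = N ⊗_R K, the
primes of S weakly associated to N are exactly the inverse images in S of the primes of T⁻¹S weakly
associated to T⁻¹N. -/
theorem result {R S : Type u} [CommRing R] [IsDomain R] [CommRing S] [Algebra R S] (N : Type u) [AddCommGroup N] [Module S N] [Module R N] [IsScalarTower R S N] [Module.Flat R N] :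
    FlatCA.weakAss S N = Ideal.comap (algebraMap S (Localization (Algebra.algebraMapSubmonoid S (nonZeroDivisors R)))) '' FlatCA.weakAss (Localization (Algebra.algebraMapSubmonoid S (nonZeroDivisors R))) (LocalizedModule (Algebra.algebraMapSubmonoid S (nonZeroDivisors R)) N) := by
  set T := Algebra.algebraMapSubmonoid S (nonZeroDivisors R) with hT
  have key := fun (q' : Ideal (Localization T)) [q'.IsPrime] =>
    Groth.Agent.WeakAssBC4.weakAss_localizedModule_iff T (LocalizedModule.mkLinearMap T N) q'
  apply Set.ext
  intro q
  constructor
  · intro hq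
    have : q.IsPrime := Exists.elim hq fun _ h => h.1.1
    obtain ⟨n, hn, hpow⟩ := Groth.Agent.WeakAssBC4.mem_weakAss_iff.1 hq
    have hdisj : Disjoint (T : Set S) (q : Set S) := by
      rw [Set.disjoint_left]
      rintro _ ⟨r, hr, rfl⟩ hrq
      obtain ⟨k, s, hs, h0⟩ := hpow _ hrq
      refine hn s hs ((Module.Flat.isSMulRegular_of_nonZeroDivisors (pow_mem hr k)).eq_iff.1 ?_)
      change (r ^ k) • s • n = (r ^ k) • (0 : N)
      rw [smul_zero, ← algebraMap_smul S (r ^ k), ← mul_smul, map_pow, mul_comm]
      exact h0
    let q' : Ideal (Localization T) := q.map (algebraMap S (Localization T))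
    have : q'.IsPrime := IsLocalization.isPrime_of_isPrime_disjoint T _ q inferInstance hdisj
    have hq' : q'.comap (algebraMap S (Localization T)) = q :=
      IsLocalization.comap_map_of_isPrime_disjoint T _ inferInstance hdisj
    exact ⟨q', (key q').2 (hq'.symm ▸ hq), hq'⟩
  · rintro ⟨q', hq', rfl⟩
    have : q'.IsPrime := Exists.elim hq' fun _ h => h.1.1
    exact (key q').1 hq'

end Groth.Agent.S9640
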