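import Groth.Statements.S9641
import Mathlib
import Groth.Agent.Lib.H2Alg.WeakAss

set_option autoImplicit false
universe u
open CAlg

namespace Groth.Agent.S9641
open TensorProduct

open TensorProduct in
/-- Let k be a field and R, S two k-algebras. If R ⊗_k S is not reduced then there are finitely
generated k-subalgebras R' ⊆ R and S' ⊆ S such that R' ⊗_k S' is not reduced. -/
theorem result {k R S : Type u} [Field k] [CommRing R] [CommRing S] [Algebra k R] [Algebra k S] (h : ¬ IsReduced (R ⊗[k] S)) :
    ∃ (R' : Subalgebra k R) (S' : Subalgebra k S), R'.FG ∧ S'.FG ∧ ¬ IsReduced (R' ⊗[k] S') := by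
  classical
  obtain ⟨x, hx, hx0⟩ : ∃ x : R ⊗[k] S, IsNilpotent x ∧ x ≠ 0 := by
    by_contra! hc
    exact h ⟨fun x hx => hc x hx⟩
  obtain ⟨T, hT⟩ := TensorProduct.exists_finset x
  let R' := Algebra.adjoin k ((T.image Prod.fst : Finset R) : Set R)
  let S' := Algebra.adjoin k ((T.image Prod.snd : Finset S) : Set S)
  refine ⟨R', S', ⟨_, rfl⟩, ⟨_, rfl⟩, fun hred => hx0 ?_⟩
  let φ := Algebra.TensorProduct.map R'.val S'.val
  have hinj : Function.Injective φ := by
    show Function.Injective (TensorProduct.map R'.val.toLinearMap S'.val.toLinearMap)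
    rw [← LinearMap.lTensor_comp_rTensor]
    exact (Module.Flat.lTensor_preserves_injective_linearMap (M := R) _ Subtype.val_injective).comp
      (Module.Flat.rTensor_preserves_injective_linearMap (M := S') _ Subtype.val_injective)
  obtain ⟨y, rfl⟩ : ∃ y, φ y = x := by
    have : x ∈ φ.range := by
      rw [hT]
      exact sum_mem fun i hi => ⟨(⟨i.1, Algebra.subset_adjoin (Finset.mem_image_of_mem Prod.fst hi)⟩ : R') ⊗ₜ (⟨i.2, Algebra.subset_adjoin (Finset.mem_image_of_mem Prod.snd hi)⟩ : S'), rfl⟩
    exact this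
  rw [((IsNilpotent.map_iff hinj).1 hx).eq_zero, map_zero]

end Groth.Agent.S9641
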