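import Groth.Statements.S9642
import Mathlib
import Groth.Agent.Lib.CI2.ValSubDedekind

set_option autoImplicit false
universe u
open CAlg

namespace Groth.Agent.S9642
open scoped TensorProduct
open Polynomial

/-- In the general form stated there: let R → S be a ring map inducing an open map Spec(S) → Spec(R),
with Spec(R) irreducible, such that for a dense set of primes p of R the fibre ring κ(p) ⊗_R S has
irreducible spectrum. Then Spec(S) is irreducible. The flat and finitely presented case is the
special case in which the map on spectra is open by fppf-openness. -/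
theorem result {R S : Type u} [CommRing R] [CommRing S] [Algebra R S]
    (hopen : IsOpenMap (PrimeSpectrum.comap (algebraMap R S))) [IrreducibleSpace (PrimeSpectrum R)]
    (D : Set (PrimeSpectrum R)) (hD : Dense D) (hfib : ∀ p ∈ D, IrreducibleSpace (PrimeSpectrum (p.asIdeal.Fiber S))) :
    IrreducibleSpace (PrimeSpectrum S) := by
  obtain ⟨p, hp⟩ := hD.nonempty
  haveI := hfib p hp
  haveI : Nonempty (PrimeSpectrum S) :=
    ⟨((PrimeSpectrum.preimageEquivFiber R S p).symm (Classical.arbitrary _)).1⟩
  haveI : PreirreducibleSpace (PrimeSpectrum S) := by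
    refine ⟨fun U V hU hV hU' hV' => ?_⟩
    simp only [Set.univ_inter] at hU' hV' ⊢
    obtain ⟨q, ⟨⟨a, haU, rfl⟩, b, hbV, hb⟩, hqD⟩ := hD.inter_open_nonempty _
      ((hopen U hU).inter (hopen V hV))
      (nonempty_preirreducible_inter (hopen U hU) (hopen V hV) (hU'.image _) (hV'.image _))
    haveI := hfib _ hqD
    let e := PrimeSpectrum.preimageHomeomorphFiber R S (PrimeSpectrum.comap (algebraMap R S) a)
    let g := fun z => ((e.symm z : _) : PrimeSpectrum S)
    have hg : Continuous g := continuous_subtype_val.comp e.symm.continuous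
    obtain ⟨z, hzU, hzV⟩ := nonempty_preirreducible_inter (hU.preimage hg) (hV.preimage hg)
      ⟨e ⟨a, rfl⟩, show _ ∈ U by simpa only [g, Homeomorph.symm_apply_apply] using haU⟩ ⟨e ⟨b, hb⟩, show _ ∈ V by simpa only [g, Homeomorph.symm_apply_apply] using hbV⟩
    exact ⟨g z, hzU, hzV⟩
  exact ⟨inferInstance⟩

end Groth.Agent.S9642
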