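import Groth.Statements.S9643
import Mathlib.RingTheory.Etale.Basic
import Mathlib.RingTheory.AdicCompletion.Basic
import Mathlib.RingTheory.Ideal.AssociatedPrime.Basic
import Mathlib.RingTheory.Ideal.Operations
import Mathlib.RingTheory.Support
import Mathlib.RingTheory.Spectrum.Prime.Basic
import Mathlib.RingTheory.Filtration
import Mathlib.RingTheory.Flat.Basic
import Mathlib.RingTheory.LocalRing.Module
import Mathlib.RingTheory.Localization.FractionRing
import Mathlib.LinearAlgebra.FiniteDimensional.Basic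
import Groth.Agent.Lib.H2Alg.ArtinFlat

set_option autoImplicit false
universe u
open CAlg

namespace Groth.Agent.S9643
open TensorProduct

/-- Let R be a Noetherian ring, M a finite R-module and 0 = M_0 ⊆ M_1 ⊆ ⋯ ⊆ M_n = M a chain of
submodules whose successive quotients M_i/M_{i-1} are isomorphic to R/p_i for prime ideals p_i. Then
the primes minimal among p_1, …, p_n are exactly the primes minimal in the support of M. -/
theorem result {R : Type u} [CommRing R] [IsNoetherianRing R] (M : Type u) [AddCommGroup M] [Module R M] [Module.Finite R M]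
    {n : ℕ} (N : Fin (n + 1) → Submodule R M) (hN : Monotone N) (h0 : N 0 = ⊥) (hlast : N (Fin.last n) = ⊤)
    (p : Fin n → PrimeSpectrum R)
    (hquot : ∀ i : Fin n, Nonempty ((↥(N i.succ) ⧸ Submodule.comap (N i.succ).subtype (N i.castSucc)) ≃ₗ[R] (R ⧸ (p i).asIdeal))) :
    {q : PrimeSpectrum R | Minimal (fun x => x ∈ Set.range p) q} = {q : PrimeSpectrum R | Minimal (fun x => x ∈ Module.support R M) q} := by
  have hs : ∀ k : Fin (n + 1), ∀ q, q ∈ Module.support R (N k) ↔ ∃ i : Fin n, i.castSucc < k ∧ p i ≤ q := by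
    intro k
    induction k using Fin.induction with
    | zero =>
      intro q
      have : Subsingleton (N 0) := by rw [h0]; infer_instance
      simp [Module.support_eq_empty]
    | succ i ih =>
      intro q
      obtain ⟨e⟩ := hquot i
      rw [Module.support_of_exact (f := Submodule.inclusion (hN i.castSucc_le_succ)) (g := (Submodule.comap (N i.succ).subtype (N i.castSucc)).mkQ)
          (by intro x; simp only [Submodule.mkQ_apply, Submodule.Quotient.mk_eq_zero, Submodule.mem_comap, Set.mem_range]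
              exact ⟨fun h => ⟨⟨_, h⟩, rfl⟩, fun ⟨y, hy⟩ => hy ▸ y.2⟩)
          (Submodule.inclusion_injective _) (Submodule.mkQ_surjective _),
        Set.mem_union, ih, e.support_eq, Module.support_eq_zeroLocus, Ideal.annihilator_quotient, PrimeSpectrum.mem_zeroLocus]
      constructor
      · rintro (⟨j, hj, h⟩ | h)
        · exact ⟨j, hj.trans i.castSucc_lt_succ, h⟩
        · exact ⟨i, i.castSucc_lt_succ, h⟩
      · rintro ⟨j, hj, h⟩
        rcases (Fin.castSucc_lt_succ_iff.1 hj).lt_or_eq with h' | rfl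
        · exact Or.inl ⟨j, Fin.castSucc_lt_castSucc_iff.2 h', h⟩
        · exact Or.inr h
  have hM : ∀ q, q ∈ Module.support R M ↔ ∃ i, p i ≤ q := fun q => by
    rw [← (Submodule.topEquiv : (⊤ : Submodule R M) ≃ₗ[R] M).support_eq, ← hlast, hs]
    simp [Fin.castSucc_lt_last]
  ext q
  simp only [Set.mem_ofPred_eq]
  constructor
  · intro h
    obtain ⟨i, rfl⟩ := h.prop
    exact ⟨(hM _).2 ⟨i, le_rfl⟩, fun y hy hyq => by obtain ⟨j, hj⟩ := (hM y).1 hy; exact (h.2 ⟨j, rfl⟩ (hj.trans hyq)).trans hj⟩
  · intro h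
    obtain ⟨i, hi⟩ := (hM q).1 h.prop
    exact ⟨⟨i, le_antisymm hi (h.2 ((hM _).2 ⟨i, le_rfl⟩) hi)⟩, fun y ⟨j, hj⟩ hyq => hj ▸ h.2 ((hM _).2 ⟨j, le_rfl⟩) (hj ▸ hyq)⟩

end Groth.Agent.S9643
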