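import Groth.Statements.S9644
import Mathlib

set_option autoImplicit false
universe u
open CAlg

namespace Groth.Agent.S9644

open PrimeSpectrum

/-- Let R be a Noetherian ring and M a finite R-module. Among the submodules K' of M whose support is
nowhere dense inside Supp(M) there is a largest one, K. The quotient M' = M/K then satisfies
Supp(M') = Supp(M), its associated primes are pairwise incomparable (no embedded ones), and whenever
f ∈ R belongs to every embedded associated prime of M the localized map M_f → M'_f is bijective. -/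
theorem result {R : Type u} [CommRing R] [IsNoetherianRing R] (M : Type u) [AddCommGroup M] [Module R M] [Module.Finite R M] :
    ∃ K : Submodule R M,
      IsGreatest {K' : Submodule R M | ∀ U : Set (PrimeSpectrum R), IsOpen U → U ∩ Module.support R M ⊆ closure (Module.support R ↥K') → U ∩ Module.support R M = ∅} K ∧
      Module.support R (M ⧸ K) = Module.support R M ∧
      (∀ p ∈ associatedPrimes R (M ⧸ K), ∀ q ∈ associatedPrimes R (M ⧸ K), p ≤ q → p = q) ∧
      ∀ f : R, (∀ p ∈ associatedPrimes R M, ¬ Minimal (fun x => x ∈ associatedPrimes R M) p → f ∈ p) →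
        Function.Bijective (LocalizedModule.map (Submonoid.powers f) K.mkQ) := by
  classical
  let ann := Module.annihilator R M
  have hfin : ann.minimalPrimes.Finite := Ideal.finite_minimalPrimes_of_isNoetherianRing R ann
  let K : Submodule R M := ⨅ (p : Ideal R) (hp : p ∈ ann.minimalPrimes),
    haveI := hp.1.1
    LinearMap.ker (LocalizedModule.mkLinearMap p.primeCompl M)
  have hK : ∀ x, x ∈ K ↔ ∀ p ∈ ann.minimalPrimes, ∃ r ∉ p, r • x = 0 := fun x => by
    simp only [K, Submodule.mem_iInf, LinearMap.mem_ker]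
    refine forall_congr' fun p => forall_congr' fun hp => ?_
    haveI := hp.1.1
    rw [IsLocalizedModule.eq_zero_iff p.primeCompl]
    exact ⟨fun ⟨⟨r, hr⟩, h⟩ => ⟨r, hr, h⟩, fun ⟨r, hr, h⟩ => ⟨⟨r, hr⟩, h⟩⟩
  have havoid : ∀ (K' : Submodule R M), (∀ p, ∀ hp : p ∈ ann.minimalPrimes, ⟨p, hp.1.1⟩ ∉ Module.support R K') ↔ K' ≤ K := fun K' => by
    constructor
    · intro h x hx
      rw [hK]
      intro p hp
      obtain ⟨r, hr, hr0⟩ := Module.notMem_support_iff'.mp (h p hp) ⟨x, hx⟩
      exact ⟨r, hr, congrArg Subtype.val hr0⟩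
    · intro h p hp
      refine Module.notMem_support_iff'.mpr fun x => ?_
      obtain ⟨r, hr, hr0⟩ := (hK x.1).mp (h x.2) p hp
      exact ⟨r, hr, Subtype.ext hr0⟩
  have hclosed : ∀ K' : Submodule R M, closure (Module.support R K') = Module.support R K' := fun K' => by
    rw [Module.support_eq_zeroLocus]; exact (isClosed_zeroLocus _).closure_eq
  have hset : ∀ K' : Submodule R M, (∀ U : Set (PrimeSpectrum R), IsOpen U →
      U ∩ Module.support R M ⊆ closure (Module.support R ↥K') → U ∩ Module.support R M = ∅) ↔ K' ≤ K := fun K' => by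
    rw [← havoid, hclosed]
    constructor
    · intro h p hp hpK
      let Z := ⋃ q ∈ ann.minimalPrimes \ {p}, zeroLocus (q : Set R)
      have hZ : IsClosed Z := (hfin.subset Set.sdiff_subset).isClosed_biUnion fun q _ => isClosed_zeroLocus _
      have hsub : Zᶜ ∩ Module.support R M ⊆ Module.support R K' := by
        rintro x ⟨hxZ, hx⟩
        obtain ⟨q, hq, hqx⟩ := Ideal.exists_minimalPrimes_le (Module.mem_support_iff_of_finite.mp hx)
        by_cases hqp : q = p
        · exact Module.mem_support_mono (p := ⟨p, hp.1.1⟩) (hqp ▸ hqx) hpK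
        · exact absurd (Set.mem_biUnion (s := ann.minimalPrimes \ {p}) ⟨hq, hqp⟩ hqx) hxZ
      have hmem : (⟨p, hp.1.1⟩ : PrimeSpectrum R) ∈ Zᶜ ∩ Module.support R M := by
        refine ⟨fun hmem => ?_, Module.mem_support_iff_of_finite.mpr hp.1.2⟩
        simp only [Z, Set.mem_iUnion] at hmem
        obtain ⟨q, hq, hqp⟩ := hmem
        exact hq.2 (Minimal.eq_of_le (P := fun J : Ideal R => J.IsPrime ∧ ann ≤ J) hp hq.1.1 hqp)
      rw [h _ hZ.isOpen_compl hsub] at hmem
      exact hmem
    · intro h U hU hsub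
      refine Set.eq_empty_of_forall_notMem fun x hx => ?_
      obtain ⟨q, hq, hqx⟩ := Ideal.exists_minimalPrimes_le (Module.mem_support_iff_of_finite.mp hx.2)
      refine h q hq (hsub ⟨?_, Module.mem_support_iff_of_finite.mpr hq.1.2⟩)
      exact hU.stableUnderGeneralization ((PrimeSpectrum.le_iff_specializes ⟨q, hq.1.1⟩ x).mp hqx) hx.1
  have hsupp : Module.support R (M ⧸ K) = Module.support R M := by
    refine (Module.support_subset_of_surjective _ (Submodule.mkQ_surjective K)).antisymm fun x hx => ?_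
    obtain ⟨q, hq, hqx⟩ := Ideal.exists_minimalPrimes_le (Module.mem_support_iff_of_finite.mp hx)
    refine Module.mem_support_mono (p := ⟨q, hq.1.1⟩) hqx ?_
    have := (Module.support_of_exact (LinearMap.exact_subtype_mkQ K) Subtype.val_injective (Submodule.mkQ_surjective K)).le
      (Module.mem_support_iff_of_finite.mpr hq.1.2 : (⟨q, hq.1.1⟩ : PrimeSpectrum R) ∈ Module.support R M)
    exact this.resolve_left ((havoid K).mpr le_rfl q hq)
  have hass : ∀ q ∈ associatedPrimes R (M ⧸ K), q ∈ ann.minimalPrimes := by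
    intro q hq
    obtain ⟨hqp, x, hx⟩ := isAssociatedPrime_iff.mp hq
    obtain ⟨x, rfl⟩ := Submodule.mkQ_surjective K x
    have hmem : ∀ r, r ∈ q ↔ r • x ∈ K := fun r => by
      rw [hx, Submodule.mem_colon_singleton, Submodule.mem_bot, ← map_smul, Submodule.mkQ_apply, Submodule.Quotient.mk_eq_zero]
    have hxK : x ∉ K := fun h => hqp.ne_top ((Ideal.eq_top_iff_one q).mpr ((hmem 1).mpr (by rwa [one_smul])))
    rw [hK] at hxK
    push Not at hxK
    obtain ⟨p, hp, hpx⟩ := hxK
    have hle : q ≤ p := fun s hs => by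
      by_contra hsp
      obtain ⟨r, hr, hr0⟩ := (hK _).mp ((hmem s).mp hs) p hp
      exact hpx (r * s) (fun h => (hp.1.1.mem_or_mem h).elim hr hsp) (by rwa [mul_smul])
    have hann : ann ≤ q := fun r hr => (hmem r).mpr (by rw [Module.mem_annihilator.mp hr x]; exact K.zero_mem)
    exact Minimal.eq_of_le (P := fun J : Ideal R => J.IsPrime ∧ ann ≤ J) hp ⟨hqp, hann⟩ hle ▸ hp
  refine ⟨K, ⟨(hset K).mpr le_rfl, fun K' hK' => (hset K').mp hK'⟩, hsupp,
    fun p hp q hq hpq => (Minimal.eq_of_le (P := fun J : Ideal R => J.IsPrime ∧ ann ≤ J) (hass q hq) (hass p hp).1 hpq), fun f hf => ?_⟩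
  have hf0 : ∀ x ∈ K, ∃ n : ℕ, f ^ n • x = 0 := by
    intro x hx
    suffices f ∈ (Submodule.span R {x}).annihilator.radical by
      obtain ⟨n, hn⟩ := this
      exact ⟨n, (Submodule.mem_annihilator_span_singleton x _).mp hn⟩
    rw [← Ideal.sInf_minimalPrimes]
    refine Submodule.mem_sInf.mpr fun q hq => ?_
    have hq' : q ∈ associatedPrimes R M := associatedPrimes.subset_of_injective (Submodule.injective_subtype (Submodule.span R {x}))
      (Module.associatedPrimes.minimalPrimes_annihilator_subset_associatedPrimes R ↥(Submodule.span R {x}) hq)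
    refine hf q hq' fun hmin => ?_
    have hann : ann ≤ q := fun r hr => hq.1.2 (Submodule.mem_annihilator.mpr fun y _ => Module.mem_annihilator.mp hr y)
    haveI := hq.1.1
    obtain ⟨p, hp, hpq⟩ := Ideal.exists_minimalPrimes_le (J := q) (I := ann) hann
    obtain rfl : p = q := hmin.eq_of_le (Module.associatedPrimes.minimalPrimes_annihilator_subset_associatedPrimes R M hp) hpq
    obtain ⟨r, hr, hr0⟩ := (hK x).mp hx p hp
    exact hr (hq.1.2 ((Submodule.mem_annihilator_span_singleton x r).mpr hr0))
  show Function.Bijective (IsLocalizedModule.map (Submonoid.powers f) (LocalizedModule.mkLinearMap (Submonoid.powers f) M) (LocalizedModule.mkLinearMap (Submonoid.powers f) (M ⧸ K)) K.mkQ)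
  refine ⟨(injective_iff_map_eq_zero _).mpr fun z hz => ?_, IsLocalizedModule.map_surjective _ _ _ _ (Submodule.mkQ_surjective K)⟩
  obtain ⟨⟨x, s⟩, rfl⟩ := IsLocalizedModule.mk'_surjective (Submonoid.powers f) (LocalizedModule.mkLinearMap (Submonoid.powers f) M) z
  rw [Function.uncurry_apply_pair, IsLocalizedModule.map_mk', IsLocalizedModule.mk'_eq_zero'] at hz
  obtain ⟨⟨_, n, rfl⟩, hn⟩ := hz
  rw [Submonoid.smul_def, ← map_smul, Submodule.mkQ_apply, Submodule.Quotient.mk_eq_zero] at hn
  obtain ⟨m, hm⟩ := hf0 _ hn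
  rw [Function.uncurry_apply_pair, IsLocalizedModule.mk'_eq_zero']
  exact ⟨⟨f ^ m * f ^ n, ⟨m + n, pow_add f m n⟩⟩, by rw [Submonoid.smul_def, mul_smul]; exact hm⟩

end Groth.Agent.S9644
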