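import Groth.Statements.S9645
import Mathlib.RingTheory.Jacobson.Ring
import Mathlib.RingTheory.Ideal.AssociatedPrime.Finiteness
import Mathlib.RingTheory.KrullDimension.Basic
import Mathlib.RingTheory.KrullDimension.Zero
import Mathlib.LinearAlgebra.Dimension.Basic
import Mathlib.RingTheory.Localization.Integral
import Mathlib.RingTheory.Valuation.LocalSubring
import Mathlib.LinearAlgebra.Lagrange
import Mathlib.RingTheory.DiscreteValuationRing.Basic
import Mathlib.RingTheory.FiniteType
import Mathlib.RingTheory.Localization.Away.Basic
import Mathlib.RingTheory.Localization.AtPrime.Basic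
import Mathlib.RingTheory.Support
import Mathlib.RingTheory.Polynomial.RationalRoot
import Mathlib.RingTheory.Ideal.AssociatedPrime.Localization

set_option autoImplicit false
universe u
open CAlg

namespace Groth.Agent.S9645

/-- Integral closure commutes with localization. Let A → B be a ring map, S a multiplicative subset of
A, and A_S, B_S the localizations of A at S and of B at the image of S. Then an element x of B_S is
integral over A_S if and only if x·s = b for some s ∈ S and some b ∈ B integral over A (images taken
in B_S); that is, the integral closure of A_S in B_S is S⁻¹B' for B' the integral closure of A in B. -/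
theorem result {A B As Bs : Type u} [CommRing A] [CommRing B] [CommRing As] [CommRing Bs] [Algebra A B] [Algebra A As] [Algebra B Bs] [Algebra As Bs] [Algebra A Bs] [IsScalarTower A B Bs] [IsScalarTower A As Bs]
    (S : Submonoid A) [IsLocalization S As] [IsLocalization (Algebra.algebraMapSubmonoid B S) Bs] (x : Bs) :
    IsIntegral As x ↔ ∃ b : B, IsIntegral A b ∧ ∃ s ∈ S, x * algebraMap A Bs s = algebraMap B Bs b := by
  constructor
  · intro hx
    obtain ⟨⟨m, hm⟩, hmx⟩ := IsIntegral.exists_multiple_integral_of_isLocalization S x hx
    obtain ⟨⟨b, ⟨_, t, ht, rfl⟩⟩, hb⟩ := IsLocalization.surj (Algebra.algebraMapSubmonoid B S) x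
    simp only [← IsScalarTower.algebraMap_apply] at hb
    have hi : IsIntegral A (algebraMap B Bs (m • b)) := by
      rw [Algebra.smul_def, map_mul, ← hb, ← IsScalarTower.algebraMap_apply,
        show algebraMap A Bs m * (x * algebraMap A Bs t) = (algebraMap A Bs m * x) * algebraMap A Bs t by ring]
      exact (by simpa [Submonoid.smul_def, Algebra.smul_def] using hmx : IsIntegral A (algebraMap A Bs m * x)).mul isIntegral_algebraMap
    obtain ⟨u, hu, hub⟩ := IsLocalization.exists_isIntegral_smul_of_isIntegral_map S hi
    refine ⟨_, hub, u * (m * t), mul_mem hu (mul_mem hm ht), ?_⟩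
    simp only [Algebra.smul_def, map_mul, ← IsScalarTower.algebraMap_apply, ← hb]
    ring
  · rintro ⟨b, hb, s, hs, e⟩
    obtain ⟨v, hv⟩ := (IsLocalization.map_units As (⟨s, hs⟩ : S)).exists_right_inv
    have h1 : x = algebraMap B Bs b * algebraMap As Bs v := by
      rw [← e, IsScalarTower.algebraMap_apply A As Bs, mul_assoc, ← map_mul, hv, map_one, mul_one]
    rw [h1]
    exact ((hb.map (IsScalarTower.toAlgHom A B Bs)).tower_top).mul isIntegral_algebraMap

end Groth.Agent.S9645
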