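import Groth.Statements.S9646
import Mathlib.RingTheory.Jacobson.Ring
import Mathlib.RingTheory.Ideal.AssociatedPrime.Finiteness
import Mathlib.RingTheory.KrullDimension.Basic
import Mathlib.RingTheory.KrullDimension.Zero
import Mathlib.LinearAlgebra.Dimension.Basic
import Mathlib.RingTheory.Localization.Integral
import Mathlib.RingTheory.Valuation.LocalSubring
import Mathlib.LinearAlgebra.Lagrange
import Mathlib.RingTheory.DiscreteValuationRing.Basic
import Mathlib.RingTheory.FiniteType
import Mathlib.RingTheory.Localization.Away.Basic
import Mathlib.RingTheory.Localization.AtPrime.Basic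
import Mathlib.RingTheory.Support
import Mathlib.RingTheory.Polynomial.RationalRoot
import Mathlib.RingTheory.Ideal.AssociatedPrime.Localization

set_option autoImplicit false
universe u
open CAlg

namespace Groth.Agent.S9646

/-- (2) ⇒ (1): let R → S be a ring map and x ∈ S. If for every prime ideal p of R the image of x in S_p
(the localization of S at the image of R ∖ p) is integral over R_p, then x is integral over R. Here
R_p and S_p are any rings satisfying the localization universal properties. -/
theorem result {R S : Type u} [CommRing R] [CommRing S] [Algebra R S] (x : S)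
    (h : ∀ (p : Ideal R) [p.IsPrime] (Rp Sp : Type u) [CommRing Rp] [CommRing Sp] [Algebra R Rp] [Algebra S Sp] [Algebra Rp Sp] [Algebra R Sp] [IsScalarTower R S Sp] [IsScalarTower R Rp Sp] [IsLocalization.AtPrime Rp p] [IsLocalization (Algebra.algebraMapSubmonoid S p.primeCompl) Sp], IsIntegral Rp (algebraMap S Sp x)) :
    IsIntegral R x := by
  set I := Submodule.comap (LinearMap.toSpanSingleton R S x) (integralClosure R S).toSubmodule
  have hI : ∀ r, r ∈ I ↔ IsIntegral R (r • x) := fun r => Iff.rfl
  suffices htop : I = ⊤ by simpa using (hI 1).1 (htop ▸ Submodule.mem_top)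
  by_contra hne
  obtain ⟨p, hp, hle⟩ := Ideal.exists_le_maximal I hne
  let Sp := Localization (Algebra.algebraMapSubmonoid S p.primeCompl)
  letI : Algebra (Localization.AtPrime p) Sp := localizationAlgebra p.primeCompl S
  haveI : IsScalarTower R (Localization.AtPrime p) Sp :=
    IsScalarTower.of_algebraMap_eq fun r => (IsScalarTower.algebraMap_apply R S Sp r).trans (IsLocalization.map_eq _ r).symm
  have := h p (Localization.AtPrime p) Sp
  obtain ⟨⟨m, hm⟩, hmx⟩ := IsIntegral.exists_multiple_integral_of_isLocalization p.primeCompl _ this
  have hi : IsIntegral R (algebraMap S Sp (m • x)) := by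
    rw [Algebra.smul_def, map_mul, ← IsScalarTower.algebraMap_apply, ← Algebra.smul_def]
    exact hmx
  obtain ⟨u, hu, hux⟩ := IsLocalization.exists_isIntegral_smul_of_isIntegral_map p.primeCompl hi
  exact (Submonoid.mul_mem _ hu hm) (hle ((hI _).2 (by rwa [mul_smul])))

end Groth.Agent.S9646
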