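import Groth.Statements.S9647
import Mathlib.FieldTheory.Normal.Basic
import Mathlib.FieldTheory.IsAlgClosed.AlgebraicClosure
import Mathlib.RingTheory.TensorProduct.Maps
import Mathlib.RingTheory.LocalRing.ResidueField.Ideal
import Mathlib.RingTheory.IntegralClosure.IntegralRestrict

set_option autoImplicit false
set_option backward.isDefEq.respectTransparency false
universe u
open CAlg

namespace Groth.Agent.S9647

set_option backward.isDefEq.respectTransparency false in
theorem galois_primes {k ks K B : Type u} [Field k] [Field ks] [Field K] [Algebra k ks] [Normal k ks] [CommRing B] [Algebra k B]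
    [Algebra k K] [Algebra K B] [IsScalarTower k K B] [Algebra.IsIntegral K B] (ι : ks →ₐ[k] B)
    (hext : ∀ (L : Type u) [CommRing L] [Algebra k L] (f g : B →ₐ[k] L), (∀ t, f (ι t) = g (ι t)) →
      (∀ a : K, f (algebraMap K B a) = g (algebraMap K B a)) → f = g)
    (P Q : Ideal B) [P.IsPrime] [Q.IsPrime] :
    ∃ σ : ks ≃ₐ[k] ks, ∀ τ : B →ₐ[k] B, (∀ t, τ (ι t) = ι (σ t)) → (∀ a : K, τ (algebraMap K B a) = algebraMap K B a) →
      Q = P.comap τ := by
  let L := AlgebraicClosure P.ResidueField
  let α : B →ₐ[k] L := IsScalarTower.toAlgHom k B L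
  letI : Algebra K L := (α.comp (IsScalarTower.toAlgHom k K B)).toRingHom.toAlgebra
  haveI : IsDomain (B ⧸ Q) := Ideal.Quotient.isDomain Q
  haveI : Algebra.IsAlgebraic K (B ⧸ Q) := Algebra.IsIntegral.isAlgebraic
  let β' : B ⧸ Q →ₐ[K] L := IsAlgClosed.lift
  have hβinj : Function.Injective β' := by
    letI := (isField_of_isIntegral_of_isField' (R := K) (S := B ⧸ Q) (Field.toIsField K)).toField
    exact β'.toRingHom.injective
  have hK : ∀ a : K, β' (Ideal.Quotient.mk Q (algebraMap K B a)) = α (algebraMap K B a) := fun a => β'.commutes a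
  let β : B →ₐ[k] L :=
    { β'.toRingHom.comp (Ideal.Quotient.mk Q) with
      commutes' := fun c => by
        change β' (Ideal.Quotient.mk Q (algebraMap k B c)) = algebraMap k L c
        rw [IsScalarTower.algebraMap_apply k K B, hK, ← IsScalarTower.algebraMap_apply k K B, α.commutes] }
  let e1 : ks →ₐ[k] L := α.comp ι
  let e2 : ks →ₐ[k] L := β.comp ι
  letI : Algebra ks L := e1.toRingHom.toAlgebra
  haveI : IsScalarTower k ks L := IsScalarTower.of_algebraMap_eq fun c => (e1.commutes c).symm
  let σ : ks ≃ₐ[k] ks := e2.restrictNormal' ks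
  have hσ : ∀ t, e1 (σ t) = e2 t := fun t => AlgHom.restrictNormal_commutes e2 ks t
  refine ⟨σ, fun τ hτ hτK => ?_⟩
  have key : β = α.comp τ := hext L _ _ (fun t => ((congrArg α (hτ t)).trans (hσ t)).symm)
    (fun a => (hK a).trans (congrArg α (hτK a)).symm)
  ext z
  rw [Ideal.mem_comap, ← Ideal.Quotient.eq_zero_iff_mem, ← map_eq_zero_iff β' hβinj]
  refine (iff_of_eq (congrArg (· = 0) (DFunLike.congr_fun key z))).trans ?_
  rw [← Ideal.algebraMap_residueField_eq_zero, ← map_eq_zero_iff (algebraMap P.ResidueField L) (RingHom.injective _),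
    ← IsScalarTower.algebraMap_apply]
  rfl

open TensorProduct in
/-- Let K/k be a field extension and k^sep a separable algebraic closure of k. Then the automorphism
group of k^sep over k acts transitively on the primes of k^sep ⊗_k K: for any two primes P, Q there
is a k-automorphism σ of k^sep with Q the inverse image of P under σ ⊗ id_K. -/
theorem result {k K : Type u} [Field k] [Field K] [Algebra k K]
    (P Q : Ideal (SeparableClosure k ⊗[k] K)) [P.IsPrime] [Q.IsPrime] :
    ∃ σ : SeparableClosure k ≃ₐ[k] SeparableClosure k, Q = P.comap (Algebra.TensorProduct.map (σ : SeparableClosure k →ₐ[k] SeparableClosure k) (AlgHom.id k K)) := by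
  letI : Algebra K (SeparableClosure k ⊗[k] K) := Algebra.TensorProduct.rightAlgebra
  haveI : IsScalarTower k K (SeparableClosure k ⊗[k] K) := IsScalarTower.of_algebraMap_eq fun c =>
    ((Algebra.TensorProduct.includeRight : K →ₐ[k] SeparableClosure k ⊗[k] K).commutes c).symm
  haveI : Algebra.IsIntegral K (SeparableClosure k ⊗[k] K) := ⟨fun z => by
    induction z using TensorProduct.induction_on with
    | zero => exact isIntegral_zero
    | add a b ha hb => exact IsIntegral.add (R := K) (A := SeparableClosure k ⊗[k] K) ha hb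
    | tmul t a =>
      have ht : IsIntegral k (t ⊗ₜ[k] (1 : K)) :=
        (Algebra.IsIntegral.isIntegral t).map (Algebra.TensorProduct.includeLeft : SeparableClosure k →ₐ[k] SeparableClosure k ⊗[k] K)
      have h : t ⊗ₜ[k] a = (t ⊗ₜ[k] (1 : K)) * ((1 : SeparableClosure k) ⊗ₜ[k] a) := by
        rw [Algebra.TensorProduct.tmul_mul_tmul, mul_one, one_mul]
      rw [h]
      exact IsIntegral.mul (R := K) (A := SeparableClosure k ⊗[k] K) ht.tower_top (isIntegral_algebraMap (R := K) (A := SeparableClosure k ⊗[k] K) (x := a))⟩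
  obtain ⟨σ, h⟩ := galois_primes (K := K) (B := SeparableClosure k ⊗[k] K)
    (Algebra.TensorProduct.includeLeft : SeparableClosure k →ₐ[k] SeparableClosure k ⊗[k] K) (fun L _ _ f g h1 h2 => by
      apply Algebra.TensorProduct.ext'
      intro t a
      rw [show t ⊗ₜ[k] a = (t ⊗ₜ[k] (1 : K)) * ((1 : SeparableClosure k) ⊗ₜ[k] a) by simp, map_mul, map_mul]
      exact congrArg₂ (· * ·) (h1 t) (h2 a)) P Q
  exact ⟨σ, h (Algebra.TensorProduct.map (σ : SeparableClosure k →ₐ[k] SeparableClosure k) (AlgHom.id k K))
    (fun t => by simp) (fun a => by simp [Algebra.TensorProduct.right_algebraMap_apply])⟩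

end Groth.Agent.S9647
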