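import Groth.Statements.S9648
import Mathlib
import Groth.Prelude.Def_FlatCA
import Groth.Agent.Lib.CI2.FibAss

set_option autoImplicit false
universe u
open CAlg

namespace Groth.Agent.S9648
open scoped TensorProduct
open Groth.Agent.CI2

open TensorProduct in
/-- The inclusion, valid for any ring R: let R → S be a ring map, M an R-module and N an S-module which
is flat over R. For an associated prime p of M (a prime equal to the annihilator of an element) and
an associated prime Q of the fibre module N ⊗_R κ(p) over the fibre ring S ⊗_R κ(p), the inverse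
image of Q in S is an associated prime of N ⊗_R M. -/
theorem result {R S : Type u} [CommRing R] [CommRing S] [Algebra R S] (M : Type u) [AddCommGroup M] [Module R M] (N : Type u) [AddCommGroup N] [Module S N] [Module R N] [IsScalarTower R S N] [Module.Flat R N]
    (p : Ideal R) [p.IsPrime] (hp : p ∈ FlatCA.ass R M) (Q : Ideal (p.Fiber S)) (hQ : Q ∈ FlatCA.ass (p.Fiber S) (FlatCA.fiberMod p S N)) :
    Q.comap (Algebra.TensorProduct.includeRight (R := R) (A := p.ResidueField) (B := S)).toRingHom ∈ FlatCA.ass S (N ⊗[R] M) := by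
  set q := Q.comap (Algebra.TensorProduct.includeRight (R := R) (A := p.ResidueField) (B := S)).toRingHom
  haveI : Q.IsPrime := hQ.1
  haveI : q.IsPrime := Ideal.IsPrime.comap _
  have hq : q ∈ FlatCA.ass S (FlatCA.fiberMod p S N) := by
    obtain ⟨-, z, hz⟩ := FibAss.mem_ass_iff.mp hQ
    refine FibAss.mem_ass_iff.mpr ⟨inferInstance, z, fun a => ?_⟩
    rw [FibAss.smul_eq_inc, ← hz]
    rfl
  rw [← (FibAss.ass_quot_eq p N).1, ← FibAss.tensorQuot] at hq
  obtain ⟨-, m, hm⟩ := FibAss.mem_ass_iff.mp hp
  let j : (R ⧸ p) →ₗ[R] M := p.liftQ (LinearMap.toSpanSingleton R M m) (fun a ha => by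
    rw [LinearMap.mem_ker, LinearMap.toSpanSingleton_apply]; exact (hm a).mp ha)
  have hj : Function.Injective j := by
    rw [← LinearMap.ker_eq_bot, eq_bot_iff]
    intro x hx
    obtain ⟨x, rfl⟩ := Ideal.Quotient.mk_surjective x
    exact (Submodule.mem_bot R).mpr (Ideal.Quotient.eq_zero_iff_mem.mpr ((hm x).mpr hx))
  refine FibAss.ass_of_injective (TensorProduct.AlgebraTensorModule.lTensor S N j) ?_ hq
  exact Module.Flat.lTensor_preserves_injective_linearMap j hj

end Groth.Agent.S9648
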