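import Groth.Statements.S9649
import Mathlib
import Groth.Statements.S9442
import Groth.Statements.S9431
import Groth.Statements.S19474
import Groth.Statements.S14436
import Groth.Agent.Lib.Sep.Basic
import Groth.Agent.Lib.RegSmooth17.Basic
import Groth.Agent.Lib.SmoothReg17.Basic
import Groth.Agent.Lib.Compl.Noetherian

set_option autoImplicit false
universe u
open CAlg

namespace Groth.Agent.S9649

/-- A separably generated field extension is separable. Precisely: let K/k be a field extension
admitting a transcendence basis x over whose generated subfield k(x) the field K is separable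
algebraic; then every finitely generated subextension K' of K/k also admits such a transcendence
basis. -/
theorem result {k K : Type u} [Field k] [Field K] [Algebra k K]
    (h : ∃ (ι : Type u) (x : ι → K), IsTranscendenceBasis k x ∧ Algebra.IsSeparable (IntermediateField.adjoin k (Set.range x)) K)
    (K' : IntermediateField k K) (hK' : ∃ s : Finset K, IntermediateField.adjoin k (s : Set K) = K') :
    ∃ (ι : Type u) (x : ι → K'), IsTranscendenceBasis k x ∧ Algebra.IsSeparable (IntermediateField.adjoin k (Set.range x)) K' := by
  obtain ⟨ι, x, hx, hsep⟩ := h
  haveI := hsep
  haveI : Algebra.FormallySmooth k K := Algebra.FormallySmooth.of_algebraicIndependent_of_isSeparable hx.1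
  haveI hgr : Algebra.IsGeometricallyReduced k K :=
    (Groth.Agent.Sep.formallySmooth_iff_isGeometricallyReduced k K).1 inferInstance
  haveI : Algebra.IsGeometricallyReduced k K' :=
    Algebra.IsGeometricallyReduced.of_injective K'.val K'.val.injective
  haveI : Algebra.EssFiniteType k K' := IntermediateField.essFiniteType_iff.2 hK'
  obtain ⟨q, hq⟩ := CharP.exists k
  obtain ⟨s, hs, hss⟩ : ∃ s : Finset K', IsTranscendenceBasis k ((↑) : s → K') ∧
      Algebra.IsSeparable (IntermediateField.adjoin k (s : Set K')) K' := by
    rcases CharP.char_is_prime_or_zero k q with hp | hp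
    · haveI : Fact q.Prime := ⟨hp⟩
      haveI : CharP K' q := charP_of_injective_algebraMap (algebraMap k K').injective q
      exact exists_isTranscendenceBasis_and_isSeparable_of_linearIndepOn_pow_of_essFiniteType
        (k := k) (K := K') q hp (Groth.Agent.Sep.powLI_of_isGeometricallyReduced k K' q)
    · subst hp
      haveI := CharP.charP_to_charZero k
      exact exists_isTranscendenceBasis_and_isSeparable_of_perfectField k K'
  refine ⟨s, ((↑) : s → K'), hs, ?_⟩
  convert hss <;> simp

end Groth.Agent.S9649
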