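import Groth.Statements.S9652
import Mathlib
import Groth.Agent.Lib.CI2.ConstrJac

set_option autoImplicit false
universe u
open CAlg

namespace Groth.Agent.S9652
open Groth.Agent.CI2

/-- Let R and S be Jacobson rings, R → S a ring map of finite type with induced map f : Spec(S) →
Spec(R), and E ⊆ Spec(S) a constructible subset. Writing T₀ for the set of points of a subspace T
which are closed in T, one has f(E)₀ = f(E₀) = (Spec R)₀ ∩ f(E). -/
theorem result {R S : Type u} [CommRing R] [CommRing S] [Algebra R S] [IsJacobsonRing R] [IsJacobsonRing S] [Algebra.FiniteType R S]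
    (E : Set (PrimeSpectrum S)) (hE : Topology.IsConstructible E) :
    {x | x ∈ PrimeSpectrum.comap (algebraMap R S) '' E ∧ closure {x} ∩ PrimeSpectrum.comap (algebraMap R S) '' E = {x}} =
        PrimeSpectrum.comap (algebraMap R S) '' {y | y ∈ E ∧ closure {y} ∩ E = {y}} ∧
      PrimeSpectrum.comap (algebraMap R S) '' {y | y ∈ E ∧ closure {y} ∩ E = {y}} =
        {x | IsClosed ({x} : Set (PrimeSpectrum R))} ∩ PrimeSpectrum.comap (algebraMap R S) '' E := by
  have h2 : PrimeSpectrum.comap (algebraMap R S) '' {y | y ∈ E ∧ closure {y} ∩ E = {y}} =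
        {x | IsClosed ({x} : Set (PrimeSpectrum R))} ∩ PrimeSpectrum.comap (algebraMap R S) '' E := by
    ext x
    constructor
    · rintro ⟨y, ⟨hy, hy'⟩, rfl⟩
      exact ⟨ConstrJac.comap_closed (ConstrJac.closed_of_closedIn hE hy hy'), y, hy, rfl⟩
    · rintro ⟨hx, hx'⟩; exact ConstrJac.closed_mem_image hE hx' hx
  refine ⟨?_, h2⟩
  rw [h2]
  ext x
  constructor
  · rintro ⟨hx, hx'⟩; exact ⟨ConstrJac.image_closedIn_closed hE hx hx', hx⟩
  · rintro ⟨hx, hx'⟩
    exact ⟨hx', by rw [(show IsClosed {x} from hx).closure_eq]; exact Set.inter_eq_left.mpr (Set.singleton_subset_iff.mpr hx')⟩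

end Groth.Agent.S9652
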