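import Groth.Statements.S9653
import Mathlib
import Groth.Agent.Lib.CI2.ConstrJac

set_option autoImplicit false
universe u
open CAlg

namespace Groth.Agent.S9653
open Groth.Agent.CI2

/-- Let R and S be Jacobson rings, R → S a ring map of finite type with induced map f : Spec(S) →
Spec(R), E ⊆ Spec(S) constructible and E₀ the set of points of E closed in E. Then a point ξ of
Spec(R) lies in f(E) if and only if cl{ξ} ∩ f(E₀) is dense in the closure cl{ξ}. -/
theorem result {R S : Type u} [CommRing R] [CommRing S] [Algebra R S] [IsJacobsonRing R] [IsJacobsonRing S] [Algebra.FiniteType R S]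
    (E : Set (PrimeSpectrum S)) (hE : Topology.IsConstructible E) (ξ : PrimeSpectrum R) :
    ξ ∈ PrimeSpectrum.comap (algebraMap R S) '' E ↔
      closure ({ξ} : Set (PrimeSpectrum R)) ⊆ closure (closure {ξ} ∩ PrimeSpectrum.comap (algebraMap R S) '' {y | y ∈ E ∧ closure {y} ∩ E = {y}}) := by
  haveI := PrimeSpectrum.isJacobsonRing_iff_jacobsonSpace.mp ‹IsJacobsonRing R›
  constructor
  · intro hξ
    obtain ⟨U, hU, hdense, hsub⟩ := Groth.Agent.S9651.result E hE ξ hξ
    refine hdense.trans ?_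
    rw [← JacobsonSpace.closure_inter_closedPoints_eq_closure
      (hU.isLocallyClosed.inter isClosed_closure.isLocallyClosed)]
    refine closure_mono ?_
    rintro x ⟨⟨hxU, hx⟩, hxc⟩
    exact ⟨hx, ConstrJac.closed_mem_image hE (hsub ⟨hxU, hx⟩) hxc⟩
  · intro h
    obtain ⟨cs, rfl⟩ := PrimeSpectrum.exists_constructibleSetData_iff.mpr hE
    set c := PrimeSpectrum.comap (algebraMap R S)
    let Z : Set (PrimeSpectrum R) := closure {ξ}
    have h1 : ξ ∈ ⋃ C ∈ (cs : Set (PrimeSpectrum.BasicConstructibleSetData S)), closure (c '' (c ⁻¹' Z ∩ C.toSet)) := by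
      have hfin : (cs : Set (PrimeSpectrum.BasicConstructibleSetData S)).Finite := cs.finite_toSet
      rw [← hfin.closure_biUnion]
      refine closure_mono ?_ (h (subset_closure rfl))
      rintro x ⟨hx, y, ⟨hy, -⟩, rfl⟩
      simp only [PrimeSpectrum.ConstructibleSetData.toSet, Set.mem_iUnion] at hy ⊢
      obtain ⟨C, hC, hyC⟩ := hy
      exact ⟨C, hC, y, ⟨hx, hyC⟩, rfl⟩
    simp only [Set.mem_iUnion] at h1
    obtain ⟨C, hC, hξC⟩ := h1
    let I : Ideal S := ξ.asIdeal.map (algebraMap R S) ⊔ Ideal.span (Set.range C.g)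
    let π := Ideal.Quotient.mk I
    let T := Localization.Away (π C.f)
    let ψ : S →+* T := (algebraMap (S ⧸ I) T).comp π
    have hmemI : ∀ z : PrimeSpectrum S, I ≤ z.asIdeal ↔ (c z ∈ Z ∧ Set.range C.g ⊆ (z.asIdeal : Set S)) := by
      intro z
      rw [sup_le_iff, Ideal.map_le_iff_le_comap, Ideal.span_le]
      refine and_congr ?_ Iff.rfl
      show ξ.asIdeal ≤ (c z).asIdeal ↔ c z ∈ closure {ξ}
      rw [← specializes_iff_mem_closure, ← PrimeSpectrum.le_iff_specializes]
      exact Iff.rfl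
    have hrange : Set.range (PrimeSpectrum.comap ψ) = c ⁻¹' Z ∩ C.toSet := by
      rw [show PrimeSpectrum.comap ψ = PrimeSpectrum.comap π ∘ PrimeSpectrum.comap (algebraMap (S ⧸ I) T) from rfl,
        Set.range_comp, PrimeSpectrum.localization_away_comap_range T (π C.f)]
      ext z
      constructor
      · rintro ⟨w, hw, rfl⟩
        have hI : I ≤ (PrimeSpectrum.comap π w).asIdeal := fun y hy => by
          show π y ∈ w.asIdeal
          rw [show π y = 0 from Ideal.Quotient.eq_zero_iff_mem.mpr hy]; exact zero_mem _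
        obtain ⟨h1, h2⟩ := (hmemI _).mp hI
        refine ⟨h1, h2, ?_⟩
        rw [PrimeSpectrum.mem_zeroLocus, Set.singleton_subset_iff]
        exact hw
      · rintro ⟨h1, h2, h3⟩
        rw [PrimeSpectrum.mem_zeroLocus, Set.singleton_subset_iff] at h3
        have hI := (hmemI z).mpr ⟨h1, h2⟩
        refine ⟨⟨z.asIdeal.map π, Ideal.map_isPrime_of_surjective Ideal.Quotient.mk_surjective (by rwa [Ideal.mk_ker])⟩, ?_, ?_⟩
        · show π C.f ∉ z.asIdeal.map π
          rw [Ideal.mem_quotient_iff_mem_sup, sup_of_le_left hI]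
          exact h3
        · refine PrimeSpectrum.ext ?_
          show (z.asIdeal.map π).comap π = z.asIdeal
          rw [Ideal.comap_map_of_surjective _ Ideal.Quotient.mk_surjective, ← RingHom.ker_eq_comap_bot, Ideal.mk_ker, sup_of_le_left hI]
    let φ : R →+* T := ψ.comp (algebraMap R S)
    have hrφ : Set.range (PrimeSpectrum.comap φ) = c '' (c ⁻¹' Z ∩ C.toSet) := by
      rw [← hrange, ← Set.range_comp]; rfl
    rw [← hrφ, PrimeSpectrum.closure_range_comap, PrimeSpectrum.mem_zeroLocus] at hξC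
    have hker : ∀ q : Ideal R, q.IsPrime → RingHom.ker φ ≤ q → ξ.asIdeal ≤ q := by
      intro q hq hle
      have h1 : (⟨q, hq⟩ : PrimeSpectrum R) ∈ closure (Set.range (PrimeSpectrum.comap φ)) := by
        rw [PrimeSpectrum.closure_range_comap, PrimeSpectrum.mem_zeroLocus]; exact hle
      have h2 : closure (Set.range (PrimeSpectrum.comap φ)) ⊆ Z := by
        refine closure_minimal ?_ isClosed_closure
        rw [hrφ]; rintro _ ⟨y, hy, rfl⟩; exact hy.1
      have h3 := h2 h1
      change (⟨q, hq⟩ : PrimeSpectrum R) ∈ closure {ξ} at h3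
      rw [← specializes_iff_mem_closure, ← PrimeSpectrum.le_iff_specializes] at h3
      exact h3
    have hmin : ξ.asIdeal ∈ ((⊥ : Ideal T).comap φ).minimalPrimes := by
      rw [← RingHom.ker_eq_comap_bot]
      exact ⟨⟨ξ.isPrime, hξC⟩, fun q hq _ => hker q hq.1 hq.2⟩
    obtain ⟨Q, hQ, -, hQξ⟩ := Ideal.exists_comap_eq_of_mem_minimalPrimes φ _ hmin
    have hmem : ξ ∈ Set.range (PrimeSpectrum.comap φ) := ⟨⟨Q, hQ⟩, PrimeSpectrum.ext hQξ⟩
    rw [hrφ] at hmem
    obtain ⟨y, hy, hyξ⟩ := hmem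
    exact ⟨y, Set.mem_biUnion hC hy.2, hyξ⟩

end Groth.Agent.S9653
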