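import Groth.Statements.S9654
import Mathlib

set_option autoImplicit false
universe u
open CAlg

namespace Groth.Agent.S9654

open Polynomial in
lemma isIntegral_of_mem_two {R L : Type u} [CommRing R] [CommRing L] [Algebra R L] (X Y U V : L)
    (hU : U * Y = X) (hV : V * X = Y) (hX : IsUnit X) (p q : R[X]) (h : aeval U p = aeval V q) :
    IsIntegral R (aeval U p) := by
  let n := p.natDegree
  let m := q.natDegree
  let d := n + m
  let N : Submodule R L := Submodule.span R (Set.range fun i : Fin (d + 1) => X ^ (i : ℕ) * Y ^ (d - i))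
  have hmem : ∀ i, i ≤ d → X ^ i * Y ^ (d - i) ∈ N := fun i hi =>
    Submodule.subset_span ⟨⟨i, by omega⟩, rfl⟩
  set z := aeval U p
  have hz : ∀ a ∈ N, z * a ∈ N := by
    intro a ha
    induction ha using Submodule.span_induction with
    | mem a ha =>
      obtain ⟨⟨i, hi⟩, rfl⟩ := ha
      show z * (X ^ i * Y ^ (d - i)) ∈ N
      by_cases him : i ≤ m
      · show aeval U p * _ ∈ N
        rw [aeval_eq_sum_range, Finset.sum_mul]
        refine Submodule.sum_mem _ fun j hj => ?_
        have hj' : j ≤ n := Finset.mem_range_succ_iff.1 hj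
        rw [smul_mul_assoc]
        refine Submodule.smul_mem _ _ ?_
        have : U ^ j * (X ^ i * Y ^ (d - i)) = X ^ (i + j) * Y ^ (d - (i + j)) := by
          rw [show d - i = j + (d - (i + j)) by omega, pow_add Y, pow_add X, ← hU, mul_pow U Y j]
          ring
        rw [this]; exact hmem _ (by omega)
      · rw [h, aeval_eq_sum_range, Finset.sum_mul]
        refine Submodule.sum_mem _ fun j hj => ?_
        have hj' : j ≤ m := Finset.mem_range_succ_iff.1 hj
        rw [smul_mul_assoc]
        refine Submodule.smul_mem _ _ ?_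
        have : V ^ j * (X ^ i * Y ^ (d - i)) = X ^ (i - j) * Y ^ (d - (i - j)) := by
          rw [show d - (i - j) = j + (d - i) by omega, pow_add Y, ← hV, mul_pow V X j]
          nth_rewrite 1 [show i = (i - j) + j by omega]
          rw [pow_add X]
          ring
        rw [this]; exact hmem _ (by omega)
    | zero => simp
    | add a b _ _ ha hb => rw [mul_add]; exact add_mem ha hb
    | smul r a _ ha => rw [mul_smul_comm]; exact Submodule.smul_mem _ _ ha
  haveI : Module.Finite R N := Module.Finite.iff_fg.2 (Submodule.fg_span (Set.finite_range _))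
  let T : Module.End R N := ((LinearMap.mulLeft R z).domRestrict N).codRestrict N fun a => hz a a.2
  haveI : Algebra.IsIntegral R (Module.End R N) := Module.End.isIntegral
  obtain ⟨P, hP, hPT⟩ := (Algebra.IsIntegral.isIntegral T : IsIntegral R T)
  refine ⟨P, hP, ?_⟩
  have hT : ∀ (Q : R[X]) (a : N), (aeval T Q a : L) = aeval z Q * a := by
    intro Q
    induction Q using Polynomial.induction_on' with
    | add Q Q' hQ hQ' => intro a; simp [hQ, hQ', add_mul]
    | monomial k r =>
      intro a
      rw [aeval_monomial, aeval_monomial]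
      induction k with
      | zero => simp [Algebra.smul_def]
      | succ k ih =>
        rw [pow_succ', pow_succ']
        have := ih
        simp only [Module.End.mul_apply, Module.algebraMap_end_apply, Submodule.coe_smul] at this ⊢
        simp only [T, LinearMap.codRestrict_apply, LinearMap.domRestrict_apply, LinearMap.mulLeft_apply]
        rw [← mul_smul_comm, this]
        ring
  have h1 := hT P ⟨_, hmem d le_rfl⟩
  rw [show aeval T P = 0 by rw [aeval_def]; exact hPT] at h1
  simp only [Nat.sub_self, pow_zero, mul_one, LinearMap.zero_apply, ZeroMemClass.coe_zero] at h1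
  rw [← aeval_def]
  exact (hX.pow d).mul_left_eq_zero.1 h1.symm
open Polynomial in
lemma aeval_mul_pow_mem_range {R L : Type u} [CommRing R] [CommRing L] [Algebra R L] (x y : R) (V : L)
    (hV : V * algebraMap R L x = algebraMap R L y) (q : R[X]) :
    aeval V q * algebraMap R L x ^ q.natDegree ∈ (algebraMap R L).range := by
  rw [aeval_eq_sum_range, Finset.sum_mul]
  refine Subring.sum_mem _ fun j hj => ?_
  have hj' : j ≤ q.natDegree := Finset.mem_range_succ_iff.1 hj
  refine ⟨q.coeff j * (y ^ j * x ^ (q.natDegree - j)), ?_⟩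
  rw [map_mul, map_mul, map_pow, map_pow, ← hV, Algebra.smul_def, mul_assoc, mul_pow, mul_assoc]
  congr 2
  rw [← pow_add, show j + (q.natDegree - j) = q.natDegree by omega]

lemma mem_range_of_closedIn {R L : Type u} [CommRing R] [CommRing L] [Algebra R L] (x : R)
    [IsIntegrallyClosedIn R (Localization.Away x)] (hX : IsUnit (algebraMap R L x))
    (hinj : Function.Injective (algebraMap R L)) (z : L) (hz : IsIntegral R z) (k : ℕ)
    (hk : z * algebraMap R L x ^ k ∈ (algebraMap R L).range) : z ∈ (algebraMap R L).range := by
  obtain ⟨r, hr⟩ := hk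
  let W := Localization.Away x
  let φ : W →ₐ[R] L :=
    { toRingHom := IsLocalization.Away.lift x (S := W) hX
      commutes' := fun a => IsLocalization.Away.lift_eq x hX a }
  have hφinj : Function.Injective φ := by
    rw [injective_iff_map_eq_zero]
    intro w hw
    obtain ⟨n, a, rfl⟩ : ∃ n a, IsLocalization.mk' W a (⟨x ^ n, n, rfl⟩ : Submonoid.powers x) = w := by
      obtain ⟨a, ⟨_, n, rfl⟩, rfl⟩ := IsLocalization.exists_mk'_eq (Submonoid.powers x) w
      exact ⟨n, a, rfl⟩
    have h := IsLocalization.mk'_spec W a (⟨x ^ n, n, rfl⟩ : Submonoid.powers x)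
    have h' := congrArg φ h
    rw [map_mul, hw, zero_mul, AlgHom.commutes] at h'
    rw [hinj (h'.symm.trans (map_zero _).symm)]
    exact IsLocalization.mk'_zero _
  let w : W := IsLocalization.mk' W r (⟨x ^ k, k, rfl⟩ : Submonoid.powers x)
  have hw : φ w = z := by
    have h := congrArg φ (IsLocalization.mk'_spec W r (⟨x ^ k, k, rfl⟩ : Submonoid.powers x))
    rw [map_mul, AlgHom.commutes, AlgHom.commutes, hr, map_pow] at h
    exact (hX.pow k).mul_left_inj.1 h
  obtain ⟨a, ha⟩ := IsIntegrallyClosedIn.algebraMap_eq_of_integral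
    ((isIntegral_algHom_iff φ hφinj).1 (hw ▸ hz) : IsIntegral R w)
  exact ⟨a, by rw [← hw, ← φ.commutes, ha]⟩

lemma adjoin_sup_adjoin {R L : Type u} [CommRing R] [CommRing L] [Algebra R L] (U V : L) (h : U * V = 1) :
    (Algebra.adjoin R {U}).toSubmodule ⊔ (Algebra.adjoin R {V}).toSubmodule =
      (Algebra.adjoin R {U, V}).toSubmodule := by
  refine le_antisymm (sup_le ?_ ?_) ?_
  · exact Algebra.adjoin_mono (by simp)
  · exact Algebra.adjoin_mono (by simp)
  · rw [Algebra.adjoin_eq_span, Submodule.span_le]
    have key : ∀ a ∈ Submonoid.closure ({U, V} : Set L), (∃ n, a = U ^ n) ∨ ∃ n, a = V ^ n := by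
      intro a ha
      induction ha using Submonoid.closure_induction with
      | mem a ha => rcases ha with rfl | rfl; exacts [Or.inl ⟨1, by simp⟩, Or.inr ⟨1, by simp⟩]
      | one => exact Or.inl ⟨0, by simp⟩
      | mul a b _ _ ha hb =>
        have mix : ∀ i j : ℕ, (∃ n, U ^ i * V ^ j = U ^ n) ∨ ∃ n, U ^ i * V ^ j = V ^ n := fun i j => by
          rcases le_total j i with hij | hij
          · refine Or.inl ⟨i - j, ?_⟩
            nth_rewrite 1 [show i = (i - j) + j by omega]
            rw [pow_add, mul_assoc, ← mul_pow, h, one_pow, mul_one]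
          · refine Or.inr ⟨j - i, ?_⟩
            nth_rewrite 1 [show j = i + (j - i) by omega]
            rw [pow_add, ← mul_assoc, ← mul_pow, h, one_pow, one_mul]
        rcases ha with ⟨i, rfl⟩ | ⟨i, rfl⟩ <;> rcases hb with ⟨j, rfl⟩ | ⟨j, rfl⟩
        · exact Or.inl ⟨i + j, (pow_add _ _ _).symm⟩
        · exact mix i j
        · rw [mul_comm]; exact mix j i
        · exact Or.inr ⟨i + j, (pow_add _ _ _).symm⟩
    intro a ha
    rcases key a ha with ⟨n, rfl⟩ | ⟨n, rfl⟩
    · exact Submodule.mem_sup_left (pow_mem (Algebra.self_mem_adjoin_singleton R U) n)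
    · exact Submodule.mem_sup_right (pow_mem (Algebra.self_mem_adjoin_singleton R V) n)


/-- Let R be a ring and x, y ∈ R nonzerodivisors. In the localization R_{xy} let a = x/y and b = y/x,
and let R[a], R[b], R[a, b] be the R-subalgebras they generate. If R is integrally closed in R_x or
in R_y, then the sequence 0 → R → R[a] ⊕ R[b] → R[a, b] → 0 (difference map, then sum map) is short
exact; equivalently R[a] ∩ R[b] is the image of R and R[a] + R[b] = R[a, b] inside R_{xy}. -/
theorem result {R : Type u} [CommRing R] (x y : R) (hx : x ∈ nonZeroDivisors R) (hy : y ∈ nonZeroDivisors R)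
    (hint : IsIntegrallyClosedIn R (Localization.Away x) ∨ IsIntegrallyClosedIn R (Localization.Away y)) :
    (Algebra.adjoin R {algebraMap R (Localization.Away (x * y)) (x * x) * IsLocalization.Away.invSelf (x * y)}).toSubmodule ⊓
        (Algebra.adjoin R {algebraMap R (Localization.Away (x * y)) (y * y) * IsLocalization.Away.invSelf (x * y)}).toSubmodule =
        (⊥ : Subalgebra R (Localization.Away (x * y))).toSubmodule ∧
      (Algebra.adjoin R {algebraMap R (Localization.Away (x * y)) (x * x) * IsLocalization.Away.invSelf (x * y)}).toSubmodule ⊔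
        (Algebra.adjoin R {algebraMap R (Localization.Away (x * y)) (y * y) * IsLocalization.Away.invSelf (x * y)}).toSubmodule =
        (Algebra.adjoin R {algebraMap R (Localization.Away (x * y)) (x * x) * IsLocalization.Away.invSelf (x * y), algebraMap R (Localization.Away (x * y)) (y * y) * IsLocalization.Away.invSelf (x * y)}).toSubmodule := by
  set L := Localization.Away (x * y)
  set X := algebraMap R L x
  set Y := algebraMap R L y
  set s := IsLocalization.Away.invSelf (S := L) (x * y)
  have hs : X * Y * s = 1 := by
    rw [← map_mul]; exact IsLocalization.Away.mul_invSelf (x * y)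
  have hXu : IsUnit X := IsUnit.of_mul_eq_one (Y * s) (by rw [← mul_assoc, hs])
  have hYu : IsUnit Y := IsUnit.of_mul_eq_one (X * s) (by rw [← hs]; ring)
  rw [map_mul, map_mul]
  set U := X * X * s
  set V := Y * Y * s
  have hU : U * Y = X := by simp only [U]; linear_combination X * hs
  have hV : V * X = Y := by simp only [V]; linear_combination Y * hs
  have hUV : U * V = 1 := by simp only [U, V]; linear_combination (X * Y * s + 1) * hs
  have hinj : Function.Injective (algebraMap R L) := by
    refine IsLocalization.injective (M := Submonoid.powers (x * y)) L ?_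
    exact Submonoid.powers_le.2 (mul_mem hx hy)
  refine ⟨le_antisymm ?_ ?_, adjoin_sup_adjoin U V hUV⟩
  · rintro z ⟨h1, h2⟩
    rw [SetLike.mem_coe, Subalgebra.mem_toSubmodule, Algebra.adjoin_singleton_eq_range_aeval] at h1 h2
    obtain ⟨p, hp⟩ := h1
    obtain ⟨q, hq⟩ := h2
    replace hp : Polynomial.aeval U p = z := hp
    replace hq : Polynomial.aeval V q = z := hq
    subst hp
    rw [Subalgebra.mem_toSubmodule, Algebra.mem_bot]
    have hint' := isIntegral_of_mem_two X Y U V hU hV hXu p q hq.symm
    rcases hint with hh | hh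
    · exact mem_range_of_closedIn x hXu hinj _ hint' q.natDegree
        (hq ▸ aeval_mul_pow_mem_range x y V hV q)
    · exact mem_range_of_closedIn y hYu hinj _ hint' p.natDegree (aeval_mul_pow_mem_range y x U hU p)
  · exact le_inf (Subalgebra.toSubmodule.monotone bot_le) (Subalgebra.toSubmodule.monotone bot_le)

end Groth.Agent.S9654
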