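import Mathlib
-- Template for statement S9655 (row 9654; see the milestone table for weights).
-- Copy to Groth/Agent/S9655.lean and replace the sorry. The statement below is byte-identical to the frozen
-- statement CAlg.GrothFrozen.S9655 (Groth/Statements/S9655.lean; the theorem CAlg.exists_maximal_over_isLocalization_of_essFiniteType_local);
-- the grader kernel-checks Groth.Agent.S9655.result against that frozen type. Keep the theorem IN THIS FILE
-- (a `result` declared elsewhere and merely imported here is not credited); helpers may live anywhere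
-- under Groth/Agent/.
import Groth.Statements.S9655


set_option autoImplicit false
universe u
open CAlg

namespace Groth.Agent.S9655

open MvPolynomial in
theorem aux {R S : Type u} [CommRing R] [CommRing S] [Algebra R S] [IsLocalRing R] [IsLocalRing S] [Algebra.EssFiniteType R S] :
    ∃ (n : ℕ) (m : Ideal (MvPolynomial (Fin n) R)) (_ : m.IsMaximal), m.under R = IsLocalRing.maximalIdeal R ∧
      ∃ (φ : Localization.AtPrime m →ₐ[R] S) (T : Submonoid φ.range), IsLocalization T S := by
  classical
  let κ := IsLocalRing.ResidueField S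
  let f : R →+* κ := (IsLocalRing.residue S).comp (algebraMap R S)
  obtain ⟨V, hV, hloc⟩ := IsLocalRing.exists_factor_valuationRing f
  let σ := Algebra.EssFiniteType.finset R S
  have hchoice : ∀ x : σ, ∃ y : S, IsLocalRing.residue S y ∈ V ∧
      (y = (x : S) ∨ (y * (x : S) = 1)) := by
    intro x
    by_cases hx : IsLocalRing.residue S (x : S) ∈ V
    · exact ⟨x, hx, Or.inl rfl⟩
    · have hu : IsUnit (x : S) := by
        by_contra h
        exact hx (((IsLocalRing.residue_eq_zero_iff _).2 h).symm ▸ V.zero_mem)
      refine ⟨(hu.unit⁻¹ : Sˣ), ?_, Or.inr hu.val_inv_mul⟩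
      have := (V.mem_or_inv_mem (IsLocalRing.residue S (x : S))).resolve_left hx
      rwa [map_units_inv]
  choose y hyV hy using hchoice
  let n := Fintype.card σ
  let e := (Fintype.equivFin σ).symm
  let P := MvPolynomial (Fin n) R
  let ψ : P →ₐ[R] S := aeval fun i => y (e i)
  have hψV : ∀ p, IsLocalRing.residue S (ψ p) ∈ V := by
    intro p
    induction p using MvPolynomial.induction_on with
    | C a => rw [AlgHom.commutes ψ a |> fun h => show ψ (C a) = algebraMap R S a from h]; exact hV a
    | add p q hp hq => rw [map_add, map_add]; exact V.add_mem _ _ hp hq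
    | mul_X p i hp => rw [map_mul, map_mul, aeval_X]; exact V.mul_mem _ _ hp (hyV (e i))
  let θ : P →+* V := ((IsLocalRing.residue S).comp ψ.toRingHom).codRestrict V.toSubring hψV
  let 𝔭 : Ideal P := (IsLocalRing.maximalIdeal V).comap θ
  obtain ⟨m, hm, hle⟩ := Ideal.exists_le_maximal 𝔭 (Ideal.IsPrime.comap θ).ne_top
  have hmR : m.under R = IsLocalRing.maximalIdeal R := by
    refine (IsLocalRing.le_maximalIdeal (Ideal.comap_ne_top _ hm.ne_top)).antisymm fun a ha => hle ?_
    show θ (algebraMap R P a) ∈ IsLocalRing.maximalIdeal V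
    have h : θ (algebraMap R P a) = f.codRestrict V.toSubring hV a :=
      Subtype.ext (show IsLocalRing.residue S (ψ (algebraMap R P a)) = f a by rw [AlgHom.commutes]; rfl)
    rw [h, IsLocalRing.mem_maximalIdeal]
    haveI := hloc
    exact fun hu => (IsLocalRing.mem_maximalIdeal a).1 ha (isUnit_of_map_unit _ a hu)
  have hunit : ∀ p : m.primeCompl, IsUnit (ψ p) := by
    intro p
    by_contra h
    refine p.2 (hle ?_)
    show θ p.1 ∈ IsLocalRing.maximalIdeal V
    rw [show θ p.1 = 0 from Subtype.ext ((IsLocalRing.residue_eq_zero_iff _).2 h)]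
    exact zero_mem _
  haveI := hm
  let φ : Localization.AtPrime m →ₐ[R] S := IsLocalization.liftAlgHom (f := ψ) hunit
  let F : Subalgebra R S :=
    { carrier := {s | ∃ t ∈ φ.range, IsUnit t ∧ s * t ∈ φ.range}
      mul_mem' := by
        rintro a b ⟨t, ht, hu, hat⟩ ⟨t', ht', hu', hbt⟩
        exact ⟨t * t', mul_mem ht ht', hu.mul hu', by rw [mul_mul_mul_comm]; exact mul_mem hat hbt⟩
      add_mem' := by
        rintro a b ⟨t, ht, hu, hat⟩ ⟨t', ht', hu', hbt⟩
        refine ⟨t * t', mul_mem ht ht', hu.mul hu', ?_⟩
        rw [show (a + b) * (t * t') = a * t * t' + b * t' * t by ring]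
        exact add_mem (mul_mem hat ht') (mul_mem hbt ht)
      algebraMap_mem' := fun r => ⟨1, one_mem _, isUnit_one, by rw [mul_one]; exact φ.range.algebraMap_mem r⟩ }
  have hyφ : ∀ x : σ, y x ∈ φ.range := fun x => by
    refine ⟨algebraMap P _ (X (e.symm x)), ?_⟩
    show φ (algebraMap P (Localization.AtPrime m) (X (e.symm x))) = y x
    rw [show φ (algebraMap P (Localization.AtPrime m) (X (e.symm x))) = ψ (X (e.symm x)) from
      IsLocalization.lift_eq hunit _, aeval_X, Equiv.apply_symm_apply]
  have hF : Algebra.adjoin R (σ : Set S) ≤ F := by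
    refine Algebra.adjoin_le fun x hx => ?_
    rcases hy ⟨x, hx⟩ with h | h
    · exact ⟨1, one_mem _, isUnit_one, by
        rw [mul_one, show x = y ⟨x, hx⟩ from h.symm]; exact hyφ ⟨x, hx⟩⟩
    · exact ⟨y ⟨x, hx⟩, hyφ _, IsUnit.of_mul_eq_one _ h, by rw [mul_comm, h]; exact one_mem _⟩
  have hFtop : ∀ s : S, s ∈ F := by
    intro s
    obtain ⟨t, ht, hu, hst⟩ := (Algebra.essFiniteType_cond_iff R S σ).1
      (Algebra.EssFiniteType.isLocalization (R := R) (S := S)) s
    obtain ⟨a, ha, hua, hta⟩ := hF ht
    obtain ⟨b, hb, hub, hstb⟩ := hF hst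
    refine ⟨t * a * b, mul_mem hta hb, (hu.mul hua).mul hub, ?_⟩
    rw [show s * (t * a * b) = s * t * b * a by ring]
    exact mul_mem hstb ha
  refine ⟨n, m, hm, hmR, φ, (IsUnit.submonoid S).comap (algebraMap φ.range S), ?_⟩
  rw [isLocalization_iff]
  refine ⟨fun u => u.2, fun s => ?_, fun {a b} h => ⟨1, by rw [Subtype.ext h]⟩⟩
  obtain ⟨t, ht, hu, hst⟩ := hFtop s
  exact ⟨⟨⟨s * t, hst⟩, ⟨⟨t, ht⟩, hu⟩⟩, rfl⟩



/-- Let R and S be local rings and R → S a ring map, not necessarily local, that is essentially of
finite type. Then for some n there is a maximal ideal m of the polynomial ring R[x_1, …, x_n] lying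
over the maximal ideal of R, together with an R-algebra map φ : R[x_1, …, x_n]_m → S making S a
localization of the image of φ; thus S arises from R[x_1, …, x_n]_m by passing to a quotient and
then localizing. -/
theorem result {R S : Type u} [CommRing R] [CommRing S] [Algebra R S] [IsLocalRing R] [IsLocalRing S] [Algebra.EssFiniteType R S] :
    ∃ (n : ℕ) (m : Ideal (MvPolynomial (Fin n) R)) (_ : m.IsMaximal), m.under R = IsLocalRing.maximalIdeal R ∧
      ∃ (φ : Localization.AtPrime m →ₐ[R] S) (T : Submonoid φ.range), IsLocalization T S := by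
  exact aux

end Groth.Agent.S9655
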