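import Groth.Statements.S9656
import Mathlib.RingTheory.Ideal.AssociatedPrime.Finiteness
import Mathlib.RingTheory.Jacobson.Ring
import Mathlib.RingTheory.Artinian.Module
import Mathlib.RingTheory.Artinian.Ring
import Mathlib.RingTheory.Regular.IsSMulRegular
import Mathlib.RingTheory.AdicCompletion.Basic
import Mathlib.RingTheory.IntegralDomain
import Mathlib.RingTheory.FinitePresentation
import Mathlib.RingTheory.Flat.FaithfullyFlat.Basic
import Mathlib.RingTheory.Flat.FaithfullyFlat.Algebra
import Mathlib.RingTheory.IntegralClosure.IntegrallyClosed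
import Mathlib.LinearAlgebra.Matrix.MvPolynomial
import Mathlib.RingTheory.Polynomial.Basic
import Mathlib.RingTheory.Localization.FractionRing
import Mathlib.RingTheory.IntegralClosure.IsIntegral.Basic
import Mathlib.LinearAlgebra.TensorProduct.Tower
import Mathlib.RingTheory.Ideal.Quotient.Operations
import Mathlib.RingTheory.Ideal.Colon
import Mathlib.RingTheory.Support
import Mathlib.RingTheory.Noetherian.OfPrime
import Mathlib.RingTheory.HopkinsLevitzki
import Mathlib.RingTheory.Ideal.AssociatedPrime.Localization
import Mathlib.RingTheory.Flat.FaithfullyFlat.Descent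
import Mathlib.LinearAlgebra.TensorProduct.Quotient
import Mathlib.LinearAlgebra.TensorProduct.RightExactness
import Mathlib.RingTheory.PrincipalIdealDomain
import Mathlib.LinearAlgebra.Matrix.Charpoly.Basic
import Mathlib.RingTheory.Flat.Stability
import Mathlib.RingTheory.Nilpotent.Lemmas
import Mathlib.Algebra.Module.Projective
import Mathlib.RingTheory.LocalRing.ResidueField.Basic
import Mathlib.GroupTheory.OrderOfElement
import Mathlib.Algebra.EuclideanDomain.Int
import Mathlib.RingTheory.Spectrum.Maximal.Basic

set_option autoImplicit false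
universe u
open CAlg

namespace Groth.Agent.S9656
open TensorProduct

/-- Let R_i → S_i be ring maps indexed by a finite type ι, with product map R = Π R_i → S = Π S_i. Then
an element (s_i) of S is integral over R exactly when s_i is integral over R_i for every i; so
integral closure in a finite product is computed factor by factor. -/
theorem result {ι : Type u} [Fintype ι] {R S : ι → Type u} [∀ i, CommRing (R i)] [∀ i, CommRing (S i)] (f : ∀ i, R i →+* S i) (s : ∀ i, S i) :
    (RingHom.pi fun i => (f i).comp (Pi.evalRingHom R i)).IsIntegralElem s ↔ ∀ i, (f i).IsIntegralElem (s i) := by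
  classical
  constructor
  · rintro ⟨p, hp, h⟩ i
    refine ⟨p.map (Pi.evalRingHom R i), hp.map _, ?_⟩
    rw [Polynomial.eval₂_map]
    have := congrArg (Pi.evalRingHom S i) h
    rw [map_zero, Polynomial.hom_eval₂] at this
    exact this
  · intro h
    choose p hp he using h
    have hl : ∀ i, ∃ Q : Polynomial (∀ i, R i), Q.map (Pi.evalRingHom R i) = p i ∧ Q.Monic := fun i => by
      rcases subsingleton_or_nontrivial (R i) with hsub | hnt
      · exact ⟨1, Subsingleton.elim _ _, Polynomial.monic_one⟩
      obtain ⟨Q, h1, -, h3⟩ := Polynomial.lifts_and_degree_eq_and_monic (f := Pi.evalRingHom R i)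
        ((Polynomial.mem_lifts _).2 (Polynomial.map_surjective _ (Function.surjective_eval i) (p i))) (hp i)
      exact ⟨Q, h1, h3⟩
    choose Q hQ hQm using hl
    refine ⟨∏ i, Q i, Polynomial.monic_prod_of_monic _ _ (fun i _ => hQm i), ?_⟩
    funext i
    rw [Pi.zero_apply, show ∀ q : Polynomial (∀ i, R i), Polynomial.eval₂ (RingHom.pi fun i => (f i).comp (Pi.evalRingHom R i)) s q i = (q.map (Pi.evalRingHom R i)).eval₂ (f i) (s i) from fun q => by
      rw [Polynomial.eval₂_map]; exact Polynomial.hom_eval₂ q _ (Pi.evalRingHom S i) s]
    rw [Polynomial.map_prod, Polynomial.eval₂_finsetProd]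
    exact Finset.prod_eq_zero (Finset.mem_univ i) (by rw [hQ, he])

end Groth.Agent.S9656
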