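import Groth.Statements.S9657
import Mathlib
import Groth.Agent.S2150

set_option autoImplicit false
universe u
open CAlg

namespace Groth.Agent.S9657
open scoped TensorProduct

open Polynomial

theorem mem_range_of_pow {F : Type u} {E : Type u} [Field F] [Field E] [Algebra F E] (q : ℕ) [ExpChar F q]
    {x : E} (n : ℕ) (hn : x ^ q ^ n ∈ (algebraMap F E).range) (hx : IsSeparable F x) :
    x ∈ Set.range (algebraMap F E) := by
  have hdeg := (minpoly.natSepDegree_eq_one_iff_pow_mem q).mpr ⟨n, hn⟩
  rw [hx.natSepDegree_eq_natDegree, minpoly.natDegree_eq_one_iff] at hdeg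
  exact hdeg

theorem coeff_pow_mem {k K : Type u} [Field k] [Field K] [Algebra k K] (q : ℕ) [ExpChar k q]
    (hK : ∀ α : K, IsSeparable k α → α ∈ Set.range (algebraMap k K)) {c : K} (hc : IsIntegral k c) :
    ∃ n : ℕ, c ^ q ^ n ∈ (algebraMap k K).range := by
  let F := algebraicClosure k K
  haveI : Algebra.IsAlgebraic k F := algebraicClosure.isAlgebraic k K
  have hbot : separableClosure k F = ⊥ := by
    rw [eq_bot_iff]
    intro x hx
    rw [mem_separableClosure_iff] at hx
    obtain ⟨y, hy⟩ := hK (x : K) (by
      show (minpoly k ((algebraMap F K) x)).Separable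
      rw [minpoly.algebraMap_eq (algebraMap F K).injective]
      exact hx)
    exact IntermediateField.mem_bot.mpr ⟨y, Subtype.ext hy⟩
  haveI := separableClosure.eq_bot_iff.mp hbot
  obtain ⟨n, y, hy⟩ := IsPurelyInseparable.pow_mem k q (x := (⟨c, by rw [mem_algebraicClosure_iff]; exact hc.isAlgebraic⟩ : F))
  exact ⟨n, y, congrArg Subtype.val hy⟩

theorem forward {k K : Type u} [Field k] [Field K] [Algebra k K]
    (kt Kt : Type u) [Field kt] [Field Kt] [Algebra (Polynomial k) kt] [IsFractionRing (Polynomial k) kt] [Algebra (Polynomial K) Kt] [IsFractionRing (Polynomial K) Kt]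
    [Algebra kt Kt] (hcompat : ∀ p : Polynomial k, algebraMap kt Kt (algebraMap (Polynomial k) kt p) = algebraMap (Polynomial K) Kt (Polynomial.map (algebraMap k K) p))
    (hK : ∀ α : K, IsSeparable k α → α ∈ Set.range (algebraMap k K)) :
    ∀ α : Kt, IsSeparable kt α → α ∈ Set.range (algebraMap kt Kt) := by
  classical
  intro α hα
  letI : Algebra k[X] Kt := ((algebraMap kt Kt).comp (algebraMap k[X] kt)).toAlgebra
  haveI : IsScalarTower k[X] kt Kt := IsScalarTower.of_algebraMap_eq fun _ => rfl
  have hcompat' : ∀ p : k[X], algebraMap k[X] Kt p = algebraMap K[X] Kt (p.map (algebraMap k K)) := hcompat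
  have halg : IsAlgebraic k[X] α :=
    (IsFractionRing.isAlgebraic_iff k[X] kt Kt).mpr hα.isIntegral.isAlgebraic
  obtain ⟨d, hd, hint⟩ := halg.exists_integral_multiple
  -- `d • α` is a polynomial
  have hintK : IsIntegral K[X] (d • α) := by
    obtain ⟨P, hP, hP0⟩ := hint
    refine ⟨P.map (Polynomial.mapRingHom (algebraMap k K)), hP.map _, ?_⟩
    rw [Polynomial.eval₂_map, show (algebraMap K[X] Kt).comp (Polynomial.mapRingHom (algebraMap k K)) = algebraMap k[X] Kt from
      RingHom.ext fun p => (hcompat' p).symm]
    exact hP0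
  obtain ⟨h, hh⟩ := IsIntegrallyClosed.isIntegral_iff.mp hintK
  -- coefficients of `h` are algebraic
  have hcoef : ∀ i, IsIntegral k (h.coeff i) := by
    obtain ⟨P, hP, hP0⟩ := hint
    have hPh : P.eval₂ (Polynomial.mapRingHom (algebraMap k K)) h = 0 := by
      apply IsFractionRing.injective K[X] Kt
      rw [Polynomial.hom_eval₂, map_zero, hh, show (algebraMap K[X] Kt).comp (Polynomial.mapRingHom (algebraMap k K)) = algebraMap k[X] Kt from
        RingHom.ext fun p => (hcompat' p).symm]
      exact hP0
    let Ω := AlgebraicClosure K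
    let k' := algebraicClosure k Ω
    haveI : IsAlgClosed k' := (algebraicClosure.isAlgClosure k Ω).isAlgClosed
    have hev : ∀ a : k', IsIntegral k ((h.map (algebraMap K Ω)).eval (a : Ω)) := by
      intro a
      have hint' : IsIntegral k' ((h.map (algebraMap K Ω)).eval (a : Ω)) := by
        refine ⟨P.map (Polynomial.aeval a).toRingHom, hP.map _, ?_⟩
        rw [Polynomial.eval₂_map]
        have hE := congrArg ((Polynomial.evalRingHom (a : Ω)).comp (Polynomial.mapRingHom (algebraMap K Ω))) hPh
        rw [Polynomial.hom_eval₂, map_zero] at hE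
        rw [← hE]
        refine congrArg₂ (fun f z => P.eval₂ f z) (RingHom.ext fun p => ?_) rfl
        show algebraMap k' Ω (Polynomial.aeval a p) = ((p.map (algebraMap k K)).map (algebraMap K Ω)).eval (a : Ω)
        rw [← Polynomial.aeval_algebraMap_apply, Polynomial.map_map, ← IsScalarTower.algebraMap_eq, Polynomial.eval_map_algebraMap]
        rfl
      exact isIntegral_trans (R := k) (A := k') _ hint'
    obtain ⟨s, hs⟩ := Infinite.exists_subset_card_eq k' (h.natDegree + 1)
    let g : Polynomial k' := Lagrange.interpolate s id fun a =>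
      ⟨(h.map (algebraMap K Ω)).eval (a : Ω), by rw [mem_algebraicClosure_iff]; exact (hev a).isAlgebraic⟩
    have hg : g.map (algebraMap k' Ω) = h.map (algebraMap K Ω) := by
      refine Polynomial.eq_of_degrees_lt_of_eval_finset_eq (s.map (⟨fun a : k' => (a : Ω), Subtype.val_injective⟩ : k' ↪ Ω)) ?_ ?_ ?_
      · rw [Finset.card_map]
        exact lt_of_le_of_lt Polynomial.degree_map_le (Lagrange.degree_interpolate_lt _ Function.injective_id.injOn)
      · rw [Finset.card_map, hs]
        exact lt_of_le_of_lt Polynomial.degree_map_le (lt_of_le_of_lt h.degree_le_natDegree (by exact_mod_cast Nat.lt_succ_self _))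
      · intro x hx
        obtain ⟨a, ha, rfl⟩ := Finset.mem_map.mp hx
        show (g.map (algebraMap k' Ω)).eval (algebraMap k' Ω a) = _
        rw [Polynomial.eval_map_apply]
        have := Lagrange.eval_interpolate_at_node (v := id) (fun a : k' =>
          (⟨(h.map (algebraMap K Ω)).eval (a : Ω), by rw [mem_algebraicClosure_iff]; exact (hev a).isAlgebraic⟩ : k')) Function.injective_id.injOn ha
        simp only [id] at this
        rw [this]
        rfl
    intro i
    have hi := congrArg (fun f => Polynomial.coeff f i) hg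
    simp only [Polynomial.coeff_map] at hi
    refine (isIntegral_algHom_iff (IsScalarTower.toAlgHom k K Ω) (algebraMap K Ω).injective).mp ?_
    show IsIntegral k (algebraMap K Ω (h.coeff i))
    rw [← hi]
    exact IsAlgebraic.isIntegral ((mem_algebraicClosure_iff).mp (g.coeff i).2)
  let q := ringExpChar k
  haveI : ExpChar k q := inferInstance
  choose n hn using fun i => coeff_pow_mem q hK (hcoef i)
  let N := (Finset.range (h.natDegree + 1)).sup n
  haveI : ExpChar K q := expChar_of_injective_algebraMap (algebraMap k K).injective q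
  haveI : ExpChar K[X] q := expChar_of_injective_ringHom Polynomial.C_injective q
  have hpow : h ^ q ^ N ∈ Set.range (Polynomial.mapRingHom (algebraMap k K)) := by
    rw [h.as_sum_range, sum_pow_char_pow]
    rw [← RingHom.coe_range]
    refine sum_mem fun i hi => ?_
    rw [Polynomial.monomial_pow]
    have : n i ≤ N := Finset.le_sup hi
    obtain ⟨y, hy⟩ := hn i
    obtain ⟨e, he⟩ := Nat.exists_eq_add_of_le this
    refine ⟨Polynomial.monomial (i * q ^ N) (y ^ q ^ e), ?_⟩
    simp only [Polynomial.coe_mapRingHom, Polynomial.map_monomial, map_pow, hy, ← pow_mul, ← pow_add, he]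
  obtain ⟨g, hg⟩ := hpow
  haveI : ExpChar kt q := expChar_of_injective_ringHom (f := (algebraMap k[X] kt).comp Polynomial.C) ((IsFractionRing.injective k[X] kt).comp Polynomial.C_injective) q
  have hd' : algebraMap k[X] kt d ≠ 0 := fun h => hd ((IsFractionRing.injective k[X] kt) (h.trans (map_zero _).symm))
  refine mem_range_of_pow q N ⟨algebraMap k[X] kt g / (algebraMap k[X] kt d) ^ q ^ N, ?_⟩ hα
  have h1 : algebraMap kt Kt (algebraMap k[X] kt g) = (algebraMap kt Kt (algebraMap k[X] kt d) * α) ^ q ^ N := by
    rw [hcompat, ← Polynomial.coe_mapRingHom, hg, map_pow, hh]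
    rfl
  have hd2 : algebraMap kt Kt (algebraMap k[X] kt d) ≠ 0 := (_root_.map_ne_zero _).mpr hd'
  rw [map_div₀, map_pow, h1, mul_pow, mul_div_cancel_left₀ _ (pow_ne_zero _ hd2)]

open TensorProduct in
/-- Let K/k be a field extension and let k(t) ⊆ K(t) be the purely transcendental extensions in one
variable, realised as fraction fields of k[t] and K[t] compatibly with k[t] → K[t]. Then K is
geometrically irreducible over k (Spec(k' ⊗_k K) irreducible for every field extension k'/k) if and
only if K(t) is geometrically irreducible over k(t). Here the test fields range over field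
extensions of k, respectively of k(t), in the universe of k; this is equivalent to the unrestricted
notions, since an algebraic closure of the base field suffices as a test. -/
theorem result {k K : Type u} [Field k] [Field K] [Algebra k K]
    (kt Kt : Type u) [Field kt] [Field Kt] [Algebra (Polynomial k) kt] [IsFractionRing (Polynomial k) kt] [Algebra (Polynomial K) Kt] [IsFractionRing (Polynomial K) Kt]
    [Algebra kt Kt] (hcompat : ∀ p : Polynomial k, algebraMap kt Kt (algebraMap (Polynomial k) kt p) = algebraMap (Polynomial K) Kt (Polynomial.map (algebraMap k K) p)) :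
    (∀ (k' : Type u) [Field k'] [Algebra k k'], IrreducibleSpace (PrimeSpectrum (k' ⊗[k] K))) ↔
      ∀ (L : Type u) [Field L] [Algebra kt L], IrreducibleSpace (PrimeSpectrum (L ⊗[kt] Kt)) := by
  rw [Groth.Agent.S2150.result (k := k) (K := K), Groth.Agent.S2150.result (k := kt) (K := Kt)]
  refine ⟨forward kt Kt hcompat, fun h α hα => ?_⟩
  let ι : k →+* kt := (algebraMap (Polynomial k) kt).comp Polynomial.C
  let j : K →+* Kt := (algebraMap (Polynomial K) Kt).comp Polynomial.C
  have hij : (algebraMap kt Kt).comp ι = j.comp (algebraMap k K) := RingHom.ext fun c => by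
    simp only [RingHom.comp_apply, ι, j, hcompat, Polynomial.map_C]
  have hsep : IsSeparable kt (j α) := by
    refine Polynomial.Separable.of_dvd ((Polynomial.separable_map ι).mpr hα) (minpoly.dvd kt (j α) ?_)
    rw [Polynomial.aeval_def, Polynomial.eval₂_map, hij, ← Polynomial.hom_eval₂, ← Polynomial.aeval_def, minpoly.aeval, map_zero]
  obtain ⟨z, hz⟩ := h (j α) hsep
  obtain ⟨a, b, hb, rfl⟩ := IsFractionRing.div_surjective (A := Polynomial k) z
  have hb0 : b ≠ 0 := nonZeroDivisors.ne_zero hb
  rw [map_div₀, hcompat, hcompat, div_eq_iff ?_] at hz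
  · have h2 : a.map (algebraMap k K) = Polynomial.C α * b.map (algebraMap k K) := by
      refine IsFractionRing.injective (Polynomial K) Kt ?_
      rw [hz, map_mul]; rfl
    have h3 := congrArg (fun f => f.coeff b.natDegree) h2
    simp only [Polynomial.coeff_map, Polynomial.coeff_C_mul] at h3
    refine ⟨a.coeff b.natDegree / b.coeff b.natDegree, ?_⟩
    have hne : algebraMap k K (b.coeff b.natDegree) ≠ 0 := by
      rw [_root_.map_ne_zero]; exact Polynomial.leadingCoeff_ne_zero.mpr hb0
    rw [map_div₀, h3, mul_div_cancel_right₀ _ hne]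
  · intro h0
    exact hb0 (Polynomial.map_eq_zero_iff (algebraMap k K).injective |>.mp (IsFractionRing.injective (Polynomial K) Kt (h0.trans (map_zero _).symm)))

end Groth.Agent.S9657
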