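import Groth.Statements.S9658
import Groth.Statements.S14864
import Groth.Statements.S14051
import Groth.Statements.S15329
import Groth.Statements.S14418
import Mathlib.RingTheory.WittVector.Identities
import Mathlib.RingTheory.WittVector.Domain
import Mathlib.RingTheory.WittVector.Truncated
import Mathlib.RingTheory.Nakayama
import Mathlib.Algebra.Homology.ShortComplex.ModuleCat
import Mathlib.Algebra.Homology.ShortComplex.ShortExact
import Mathlib.Algebra.Category.ModuleCat.EpiMono
import Mathlib.RingTheory.Ideal.AssociatedPrime.Finiteness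

set_option autoImplicit false
universe u
open CAlg

namespace Groth.Agent.S9658
open CAlg

/-- Let R be a ring, f_1, …, f_n ∈ R generating the unit ideal and M an R-module. With M_i = M_{f_i},
M_ij = M_{f_i f_j} (any localizations, with the canonical compatible maps M → M_i → M_ij), the
sequence 0 → M → ⊕ M_i → ⊕ M_ij is exact: an element of M whose image vanishes in every M_i is zero,
and every family (m_i ∈ M_i) such that m_i and m_j have the same image in M_ij for all i, j is the
image of an element of M. -/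
theorem result {R : Type u} [CommRing R] {ι : Type u} [Fintype ι] (f : ι → R) (hf : Ideal.span (Set.range f) = ⊤)
    (M : Type u) [AddCommGroup M] [Module R M]
    (Mi : ι → Type u) [∀ i, AddCommGroup (Mi i)] [∀ i, Module R (Mi i)] (g : ∀ i, M →ₗ[R] Mi i) [∀ i, IsLocalizedModule (Submonoid.powers (f i)) (g i)]
    (Mij : ι → ι → Type u) [∀ i j, AddCommGroup (Mij i j)] [∀ i j, Module R (Mij i j)] (gij : ∀ i j, M →ₗ[R] Mij i j) [∀ i j, IsLocalizedModule (Submonoid.powers (f i * f j)) (gij i j)]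
    (ρ₁ : ∀ i j, Mi i →ₗ[R] Mij i j) (hρ₁ : ∀ i j, ρ₁ i j ∘ₗ g i = gij i j) (ρ₂ : ∀ i j, Mi j →ₗ[R] Mij i j) (hρ₂ : ∀ i j, ρ₂ i j ∘ₗ g j = gij i j) :
    (∀ m : M, (∀ i, g i m = 0) → m = 0) ∧
      ∀ s : ∀ i, Mi i, (∀ i j, ρ₁ i j (s i) = ρ₂ i j (s j)) → ∃ m : M, ∀ i, g i m = s i := by
  classical
  have hcov : ∀ N : ℕ, ∃ c : ι → R, ∑ i, c i * f i ^ N = 1 := by
    intro N
    have h : Ideal.span (Set.range fun i => f i ^ N) = ⊤ := by
      have := Ideal.span_pow_eq_top (Set.range f) hf N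
      rwa [← Set.range_comp] at this
    obtain ⟨c, hc⟩ := Ideal.mem_span_range_iff_exists_fun.1 (h ▸ Submodule.mem_top : (1 : R) ∈ _)
    exact ⟨c, hc⟩
  have hker : ∀ i (m : M), g i m = 0 → ∃ n : ℕ, f i ^ n • m = 0 := by
    intro i m h
    obtain ⟨⟨_, n, rfl⟩, hn⟩ := (IsLocalizedModule.eq_zero_iff (Submonoid.powers (f i)) (g i)).1 h
    exact ⟨n, hn⟩
  have hsep : ∀ m : M, (∀ i, g i m = 0) → m = 0 := by
    intro m hm
    choose n hn using fun i => hker i m (hm i)
    obtain ⟨c, hc⟩ := hcov (∑ i, n i)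
    rw [← one_smul R m, ← hc, Finset.sum_smul]
    refine Finset.sum_eq_zero fun i hi => ?_
    obtain ⟨t, ht⟩ := le_iff_exists_add.1 (Finset.single_le_sum (f := n) (fun j _ => Nat.zero_le _) hi)
    rw [ht, pow_add, ← mul_assoc, mul_right_comm, mul_smul, hn, smul_zero]
  refine ⟨hsep, fun s hs => ?_⟩
  have hfrac : ∀ i, ∃ (n : ℕ) (m : M), g i m = f i ^ n • s i := by
    intro i
    obtain ⟨⟨m, ⟨_, n, rfl⟩⟩, h⟩ := IsLocalizedModule.surj (Submonoid.powers (f i)) (g i) (s i)
    exact ⟨n, m, h.symm⟩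
  choose n m hm using hfrac
  set N := ∑ i, n i
  let m' : ι → M := fun i => f i ^ (N - n i) • m i
  have hm' : ∀ i, g i (m' i) = f i ^ N • s i := by
    intro i
    rw [LinearMap.map_smul, hm, smul_smul, ← pow_add,
      Nat.sub_add_cancel (Finset.single_le_sum (f := n) (fun j _ => Nat.zero_le _) (Finset.mem_univ i))]
  have hK : ∀ i j, ∃ K : ℕ, (f i * f j) ^ K • (f j ^ N • m' i) = (f i * f j) ^ K • (f i ^ N • m' j) := by
    intro i j
    have h1 : gij i j (m' i) = f i ^ N • ρ₁ i j (s i) := by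
      rw [← LinearMap.map_smul, ← hm', ← hρ₁ i j, LinearMap.comp_apply]
    have h2 : gij i j (m' j) = f j ^ N • ρ₂ i j (s j) := by
      rw [← LinearMap.map_smul, ← hm', ← hρ₂ i j, LinearMap.comp_apply]
    have h : gij i j (f j ^ N • m' i) = gij i j (f i ^ N • m' j) := by
      rw [(gij i j).map_smul (f j ^ N) (m' i), (gij i j).map_smul (f i ^ N) (m' j), h1, h2, hs, smul_comm]
    obtain ⟨⟨_, K, rfl⟩, hK⟩ := (IsLocalizedModule.eq_iff_exists (Submonoid.powers (f i * f j)) (gij i j)).1 h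
    exact ⟨K, hK⟩
  choose K hK using hK
  set L := ∑ i, ∑ j, K i j
  have hKL : ∀ i j, (f i * f j) ^ L • (f j ^ N • m' i) = (f i * f j) ^ L • (f i ^ N • m' j) := by
    intro i j
    obtain ⟨t, ht⟩ : ∃ t, L = t + K i j := ⟨L - K i j, (Nat.sub_add_cancel
      ((Finset.single_le_sum (f := fun j => K i j) (fun _ _ => Nat.zero_le _) (Finset.mem_univ j)).trans
        (Finset.single_le_sum (f := fun i => ∑ j, K i j) (fun _ _ => Nat.zero_le _) (Finset.mem_univ i)))).symm⟩
    rw [ht, pow_add, mul_smul, mul_smul, hK]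
  obtain ⟨c, hc⟩ := hcov (N + L)
  refine ⟨∑ i, c i • f i ^ L • m' i, fun j => ?_⟩
  have hinv : Function.Injective fun x : Mi j => f j ^ (L + N) • x := by
    have := IsLocalizedModule.map_units (g j) (⟨f j ^ (L + N), L + N, rfl⟩ : Submonoid.powers (f j))
    exact ((Module.End.isUnit_iff _).1 this).1
  refine hinv ?_
  show f j ^ (L + N) • g j (∑ i, c i • f i ^ L • m' i) = f j ^ (L + N) • s j
  have h1 : f j ^ (L + N) • (∑ i, c i • f i ^ L • m' i) = f j ^ L • m' j := by
    rw [Finset.smul_sum]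
    calc _ = ∑ i, c i • ((f i * f j) ^ L • (f j ^ N • m' i)) := Finset.sum_congr rfl fun i _ => by
          simp only [smul_smul, mul_pow, pow_add]; ring_nf
      _ = ∑ i, (c i * f i ^ (N + L)) • (f j ^ L • m' j) := Finset.sum_congr rfl fun i _ => by
          rw [hKL]; simp only [smul_smul, mul_pow, pow_add]; ring_nf
      _ = _ := by rw [← Finset.sum_smul, hc, one_smul]
  rw [← LinearMap.map_smul, h1, LinearMap.map_smul, hm', smul_smul, ← pow_add]

end Groth.Agent.S9658
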