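import Groth.Statements.S9659
import Mathlib.RingTheory.GradedAlgebra.Radical
import Mathlib.RingTheory.GradedAlgebra.Homogeneous.Ideal
import Mathlib.RingTheory.Spectrum.Prime.Topology

set_option autoImplicit false
universe u
open CAlg

namespace Groth.Agent.S9659
open CAlg

open DirectSum SetLike

variable {R S : Type u} [CommRing R] [CommRing S] [Algebra R S] {𝒜 : ℤ → Submodule R S} [GradedAlgebra 𝒜]

theorem inv_mem {f : Sˣ} {d : ℤ} (hf : (f : S) ∈ 𝒜 d) : ((f⁻¹ : Sˣ) : S) ∈ 𝒜 (-d) := by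
  classical
  have h : (decompose 𝒜 ((f : S) * (f⁻¹ : Sˣ)) (d + -d) : S) = (f : S) * (decompose 𝒜 ((f⁻¹ : Sˣ) : S) (-d) : S) :=
    coe_decompose_mul_add_of_left_mem 𝒜 hf
  rw [Units.mul_inv, add_neg_cancel, decompose_of_mem_same 𝒜 (SetLike.one_mem_graded 𝒜)] at h
  have h2 : ((f⁻¹ : Sˣ) : S) = (decompose 𝒜 ((f⁻¹ : Sˣ) : S) (-d) : S) := by
    rw [← f.inv_mul_cancel_left (decompose 𝒜 ((f⁻¹ : Sˣ) : S) (-d) : S), ← h, mul_one]
  rw [h2]
  exact (decompose 𝒜 ((f⁻¹ : Sˣ) : S) (-d)).2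

theorem zpow_mem {f : Sˣ} {d : ℤ} (hf : (f : S) ∈ 𝒜 d) : ∀ n : ℤ, ((f ^ n : Sˣ) : S) ∈ 𝒜 (n * d)
  | Int.ofNat n => by
    simp only [Int.ofNat_eq_natCast, zpow_natCast, Units.val_pow_eq_pow_val, ← nsmul_eq_mul]
    exact SetLike.pow_mem_graded n hf
  | Int.negSucc n => by
    rw [zpow_negSucc, Int.negSucc_eq, neg_mul, ← inv_pow, Units.val_pow_eq_pow_val,
      show -((↑n + 1) * d) = (n + 1) • (-d) by rw [nsmul_eq_mul]; push_cast; ring]
    exact SetLike.pow_mem_graded (n + 1) (inv_mem hf)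

/-- The degree zero element attached to a homogeneous element. -/
def low (f : Sˣ) (n : ℕ) (j : ℤ) (x : S) : S := x ^ n * (f ^ (-j) : Sˣ)

theorem low_mem {f : Sˣ} {n : ℕ} (hf : (f : S) ∈ 𝒜 n) {j : ℤ} {x : S} (hx : x ∈ 𝒜 j) :
    low f n j x ∈ GradeZero.subring 𝒜 := by
  show low f n j x ∈ 𝒜 0
  have := SetLike.mul_mem_graded (SetLike.pow_mem_graded n hx) (zpow_mem hf (-j))
  rwa [nsmul_eq_mul, show (n : ℤ) * j + -j * (n : ℤ) = 0 by ring] at this

theorem mem_iff_low {f : Sˣ} {n : ℕ} (hn : n ≠ 0) (P : Ideal S) [P.IsPrime] (j : ℤ) (x : S) :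
    x ∈ P ↔ low f n j x ∈ P := by
  constructor
  · exact fun h => P.mul_mem_right _ (Ideal.pow_mem_of_mem P h n (Nat.pos_of_ne_zero hn))
  · intro h
    exact Ideal.IsPrime.mem_of_pow_mem ‹_› n ((P.mul_unit_mem_iff_mem (Units.isUnit _)).1 h)

variable (𝒜) in
theorem mem_of_mem_map (q : Ideal (GradeZero.subring 𝒜)) {x : S}
    (hx : x ∈ q.map (GradeZero.subring 𝒜).subtype) :
    ∀ hx0 : x ∈ GradeZero.subring 𝒜, (⟨x, hx0⟩ : GradeZero.subring 𝒜) ∈ q := by
  classical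
  suffices h : ∀ t : S, (⟨decompose 𝒜 (t * x) 0, (decompose 𝒜 (t * x) 0).2⟩ : GradeZero.subring 𝒜) ∈ q by
    intro hx0
    convert h 1 using 1
    exact Subtype.ext ((decompose_of_mem_same 𝒜 hx0).symm.trans (by rw [one_mul]))
  rw [Ideal.map] at hx
  induction hx using Submodule.span_induction with
  | mem x hx =>
    obtain ⟨a, ha, rfl⟩ := hx
    intro t
    convert q.mul_mem_left ⟨decompose 𝒜 t 0, (decompose 𝒜 t 0).2⟩ ha using 1
    exact Subtype.ext (coe_decompose_mul_of_right_mem_zero 𝒜 a.2)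
  | zero => intro t; convert q.zero_mem using 1; exact Subtype.ext (by simp)
  | add x y _ _ hx hy => intro t; convert q.add_mem (hx t) (hy t) using 1; refine Subtype.ext ?_; rw [mul_add, decompose_add]; rfl
  | smul s x _ hx => intro t; convert hx (t * s) using 3; simp [mul_assoc]

theorem low_mul (f : Sˣ) (n : ℕ) (i j : ℤ) (x y : S) :
    low f n (i + j) (x * y) = low f n i x * low f n j y := by
  rw [low, low, low, mul_pow, neg_add, zpow_add, Units.val_mul]; ring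

theorem comap_injective {f : Sˣ} {n : ℕ} (hn : n ≠ 0) (hf : (f : S) ∈ 𝒜 n)
    {P Q : Ideal S} [P.IsPrime] [Q.IsPrime] (hP : P.IsHomogeneous 𝒜)
    (h : P.comap (GradeZero.subring 𝒜).subtype ≤ Q.comap (GradeZero.subring 𝒜).subtype) : P ≤ Q := by
  classical
  intro x hx
  rw [← sum_support_decompose 𝒜 x]
  refine Q.sum_mem fun j _ => ?_
  have hm := (decompose 𝒜 x j).2
  rw [mem_iff_low hn Q j]
  exact h (x := ⟨_, low_mem hf hm⟩) ((mem_iff_low hn P j _).1 (hP.mem_iff.1 hx j))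

variable (𝒜) in
theorem exists_prime {f : Sˣ} {n : ℕ} (hn : n ≠ 0) (hf : (f : S) ∈ 𝒜 n)
    (q : Ideal (GradeZero.subring 𝒜)) [q.IsPrime] :
    ∃ P : Ideal S, P.IsPrime ∧ P.IsHomogeneous 𝒜 ∧ P.comap (GradeZero.subring 𝒜).subtype = q := by
  classical
  set P := (q.map (GradeZero.subring 𝒜).subtype).radical
  have hc : ∀ a : GradeZero.subring 𝒜, (a : S) ∈ P ↔ a ∈ q := by
    intro a
    refine ⟨fun ⟨k, hk⟩ => ?_, fun ha => Ideal.le_radical (Ideal.mem_map_of_mem _ ha)⟩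
    exact Ideal.IsPrime.mem_of_pow_mem ‹_› k (mem_of_mem_map 𝒜 q hk (a ^ k).2)
  have hhom : P.IsHomogeneous 𝒜 :=
    (Ideal.homogeneous_span 𝒜 _ fun x hx => by obtain ⟨a, -, rfl⟩ := hx; exact ⟨0, a.2⟩).radical
  refine ⟨P, hhom.isPrime_of_homogeneous_mem_or_mem ?_ ?_, hhom, Ideal.ext hc⟩
  · intro h
    exact Ideal.IsPrime.ne_top ‹_› ((Ideal.eq_top_iff_one q).2
      ((hc 1).1 (by rw [h]; exact Submodule.mem_top)))
  · rintro x y ⟨i, hx⟩ ⟨j, hy⟩ hxy
    have key : ∀ {z : S} {k : ℤ} (hz : z ∈ 𝒜 k), (⟨low f n k z, low_mem hf hz⟩ : GradeZero.subring 𝒜) ∈ q → z ∈ P := by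
      intro z k hz h
      have h1 : low f n k z ∈ P := (hc ⟨_, low_mem hf hz⟩).2 h
      have h2 : z ^ n ∈ P := (P.mul_unit_mem_iff_mem (Units.isUnit _)).1 h1
      exact (Ideal.radical_idem _).le ⟨n, h2⟩
    have h : low f n i x * low f n j y ∈ P := by
      rw [← low_mul]
      exact P.mul_mem_right _ (Ideal.pow_mem_of_mem P hxy n (Nat.pos_of_ne_zero hn))
    exact ((Ideal.IsPrime.mem_or_mem ‹q.IsPrime› ((hc (⟨_, low_mem hf hx⟩ * ⟨_, low_mem hf hy⟩)).1 h))).imp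
      (key hx) (key hy)

/-- Let S be a ℤ-graded ring which contains an invertible homogeneous element of positive degree. Then
the set of homogeneous prime ideals of S, with the topology induced from Spec(S), maps
homeomorphically onto Spec(S₀) by p ↦ p ∩ S₀. -/
theorem result {R S : Type u} [CommRing R] [CommRing S] [Algebra R S] (𝒜 : ℤ → Submodule R S) [GradedAlgebra 𝒜]
    (f : S) (d : ℤ) (hd : 0 < d) (hf : f ∈ 𝒜 d) (hu : IsUnit f) :
    IsHomeomorph (fun p : {p : PrimeSpectrum S // p.asIdeal.IsHomogeneous 𝒜} => PrimeSpectrum.comap (SetLike.GradeZero.subring 𝒜).subtype p.1) := by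
  classical
  obtain ⟨g, rfl⟩ := hu
  obtain ⟨n, rfl⟩ := Int.eq_ofNat_of_zero_le hd.le
  have hn : n ≠ 0 := by omega
  set φ := fun p : {p : PrimeSpectrum S // p.asIdeal.IsHomogeneous 𝒜} =>
    PrimeSpectrum.comap (SetLike.GradeZero.subring 𝒜).subtype p.1
  have hcont : Continuous φ := (PrimeSpectrum.continuous_comap _).comp continuous_subtype_val
  have hbij : Function.Bijective φ := by
    refine ⟨fun p q h => ?_, fun q => ?_⟩
    · have h' := congrArg PrimeSpectrum.asIdeal h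
      exact Subtype.ext (PrimeSpectrum.ext (le_antisymm
        (comap_injective hn hf p.2 h'.le) (comap_injective hn hf q.2 h'.ge)))
    · obtain ⟨P, hP, hhom, hc⟩ := exists_prime 𝒜 hn hf q.asIdeal
      exact ⟨⟨⟨P, hP⟩, hhom⟩, PrimeSpectrum.ext hc⟩
  refine ⟨hcont, ?_, hbij⟩
  refine ((PrimeSpectrum.isTopologicalBasis_basic_opens).isInducing Topology.IsInducing.subtypeVal).isOpenMap_iff.2 ?_
  rintro _ ⟨_, ⟨x, rfl⟩, rfl⟩
  have : φ '' (Subtype.val ⁻¹' (PrimeSpectrum.basicOpen x : Set (PrimeSpectrum S))) =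
      ⋃ j : ℤ, (PrimeSpectrum.basicOpen (⟨low g n j (decompose 𝒜 x j), low_mem hf (decompose 𝒜 x j).2⟩ :
        GradeZero.subring 𝒜) : Set _) := by
    ext q
    obtain ⟨p, rfl⟩ := hbij.2 q
    rw [hbij.1.mem_set_image, Set.mem_preimage, SetLike.mem_coe, PrimeSpectrum.mem_basicOpen,
      Set.mem_iUnion, p.2.mem_iff, not_forall]
    exact exists_congr fun j => not_congr (mem_iff_low hn p.1.asIdeal j _)
  show IsOpen (φ '' (Subtype.val ⁻¹' (PrimeSpectrum.basicOpen x : Set (PrimeSpectrum S))))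
  rw [this]
  exact isOpen_iUnion fun j => PrimeSpectrum.isOpen_basicOpen

end Groth.Agent.S9659
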