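import Groth.Statements.S9660
import Mathlib
import Groth.Agent.S15706

set_option autoImplicit false
universe u
open CAlg

namespace Groth.Agent.S9660
open Polynomial TensorProduct

/-- Let S be an ℕ-graded ring and I a homogeneous ideal of S. Then V₊(I) ⊆ Proj(S) is empty if and only
if S₊ ⊆ √I. -/
theorem result {R S : Type u} [CommRing R] [CommRing S] [Algebra R S] (𝒜 : ℕ → Submodule R S) [GradedAlgebra 𝒜] (I : HomogeneousIdeal 𝒜) :
    ProjectiveSpectrum.zeroLocus 𝒜 (I : Set S) = ∅ ↔ (HomogeneousIdeal.irrelevant 𝒜).toIdeal ≤ I.toIdeal.radical := by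
  constructor
  · intro h
    rw [Ideal.radical_eq_sInf]
    refine le_sInf ?_
    rintro P ⟨hIP, hP⟩
    by_contra hn
    have hI' : I ≤ P.homogeneousCore 𝒜 := (Ideal.homogeneousCore.gc 𝒜).le_u hIP
    have hn' : ¬ HomogeneousIdeal.irrelevant 𝒜 ≤ P.homogeneousCore 𝒜 := fun hh =>
      hn (fun x hx => Ideal.toIdeal_homogeneousCore_le 𝒜 P (hh hx))
    exact Set.notMem_empty (⟨P.homogeneousCore 𝒜, hP.homogeneousCore, hn'⟩ : ProjectiveSpectrum 𝒜) (h ▸ hI')
  · intro h
    ext x
    simp only [Set.mem_empty_iff_false, iff_false]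
    intro hx
    exact x.not_irrelevant_le (h.trans (x.isPrime.radical_le_iff.2 hx))

end Groth.Agent.S9660
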