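import Groth.Statements.S9661
import Groth.Agent.Lib.CI2.GrHilb
import Mathlib

set_option autoImplicit false
universe u
attribute [local instance] MvPolynomial.gradedAlgebra
open CAlg

namespace Groth.Agent.S9661

theorem exists_rankHom (k : Type u) [Field k] : ∃ φ : KZero.K0sub (Groth.Agent.K0Cat.finMods k) →+ ℤ,
    ∀ (N : Type u) [AddCommGroup N] [Module k N] [Module.Finite k N],
      φ (KZero.clSub (Groth.Agent.K0Cat.finMods k) (ModuleCat.of k N)) = (Module.finrank k N : ℤ) := by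
  classical
  refine ⟨QuotientAddGroup.lift _ (FreeAbelianGroup.lift fun X : Subtype (Groth.Agent.K0Cat.finMods k) =>
    (Module.finrank k X.1 : ℤ)) ?_, fun N _ _ _ => ?_⟩
  · refine (AddSubgroup.closure_le _).2 ?_
    rintro _ ⟨S, h₁, h₂, h₃, hS, rfl⟩
    rw [SetLike.mem_coe, AddMonoidHom.mem_ker, map_sub, map_sub, FreeAbelianGroup.lift_apply_of,
      FreeAbelianGroup.lift_apply_of, FreeAbelianGroup.lift_apply_of]
    haveI : Module.Finite k S.X₂ := h₂
    have h := S.g.hom.finrank_range_add_finrank_ker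
    rw [LinearMap.range_eq_top.2 ((ModuleCat.epi_iff_surjective S.g).1 hS.epi_g), finrank_top,
      LinearMap.exact_iff.1 ((CategoryTheory.ShortComplex.ShortExact.moduleCat_exact_iff_function_exact _).1 hS.exact),
      LinearMap.finrank_range_of_inj ((ModuleCat.mono_iff_injective S.f).1 hS.mono_f)] at h
    simp only
    omega
  · rw [KZero.clSub, dif_pos (inferInstanceAs (Module.Finite k N))]
    exact FreeAbelianGroup.lift_apply_of _ _

theorem polyDeg_map {H H' : Type*} [AddCommGroup H] [AddCommGroup H'] (φ : H →+ H') :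
    ∀ (r : ℕ) {f : ℕ → H}, Groth.Agent.CI2.GrHilb.PolyDeg r f → Groth.Agent.CI2.GrHilb.PolyDeg r (fun n => φ (f n))
  | 0, f, ⟨N, hf⟩ => ⟨N, fun n hn => by show φ (f n) = 0; rw [hf n hn, map_zero]⟩
  | r + 1, f, hf => by
    show Groth.Agent.CI2.GrHilb.PolyDeg r fun n => φ (f (n + 1)) - φ (f n)
    simp only [← map_sub]
    exact polyDeg_map φ r hf

theorem polyDeg_congr {H : Type*} [AddCommGroup H] : ∀ (r : ℕ) {f g : ℕ → H}, (∀ n, f n = g n) →
    Groth.Agent.CI2.GrHilb.PolyDeg r f → Groth.Agent.CI2.GrHilb.PolyDeg r g :=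
  fun r f g h => by rw [show f = g from funext h]; exact id

/-- A differences of shifts gains one degree. -/
theorem polyDeg_shift_sub {H : Type*} [AddCommGroup H] (r : ℕ) {f : ℕ → H}
    (hf : Groth.Agent.CI2.GrHilb.PolyDeg (r + 1) f) :
    ∀ e : ℕ, Groth.Agent.CI2.GrHilb.PolyDeg r (fun n => f (n + e) - f n) := by
  have h0 : Groth.Agent.CI2.GrHilb.PolyDeg r (fun _ => (0 : H)) := by
    clear hf
    induction r with
    | zero => exact ⟨0, fun _ _ => rfl⟩
    | succ r ih => exact polyDeg_congr r (fun _ => (sub_self _).symm) ih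
  have hneg : ∀ g : ℕ → H, Groth.Agent.CI2.GrHilb.PolyDeg r g → Groth.Agent.CI2.GrHilb.PolyDeg r (fun n => - g n) :=
    fun g hg => polyDeg_congr r (fun n => zero_sub (g n)) (Groth.Agent.CI2.GrHilb.polyDeg_sub r h0 hg)
  intro e
  induction e with
  | zero => exact polyDeg_congr r (fun n => (sub_self (f n)).symm) h0
  | succ e ih =>
    refine polyDeg_congr r (fun n => ?_) (Groth.Agent.CI2.GrHilb.polyDeg_sub r
      (Groth.Agent.CI2.GrHilb.polyDeg_shift r ih) (hneg (fun n => f (n + 1) - f n) hf))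
    show f (n + 1 + e) - f (n + 1) - -(f (n + 1) - f n) = f (n + (e + 1)) - f n
    rw [show n + 1 + e = n + (e + 1) by omega]
    abel

/-- A nonnegative integral numerical polynomial bounded by one of lower degree has lower degree. -/
theorem bound {r : ℕ} (a : Fin (r + 1) → ℤ) (b : Fin r → ℤ) (f : ℕ → ℤ) (N : ℕ)
    (hf : ∀ n, N ≤ n → f n = ∑ i : Fin (r + 1), ((n.choose (i : ℕ) : ℕ) : ℤ) • a i) (h0 : ∀ n, 0 ≤ f n)
    (hle : ∀ n, N ≤ n → f n ≤ ∑ i : Fin r, ((n.choose (i : ℕ) : ℕ) : ℤ) • b i) : a (Fin.last r) = 0 := by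
  rcases Nat.eq_zero_or_pos r with rfl | hr
  · have h1 := hle N le_rfl
    have h2 := hf N le_rfl
    have h3 := h0 N
    simp at h1 h2
    show a 0 = 0
    omega
  by_contra ha
  let K : ℤ := ∑ i : Fin r, |a i.castSucc| + ∑ i : Fin r, |b i|
  have hK : 0 ≤ K := by positivity
  let n := N + 2 * r + (K.toNat + 1) * r
  have hn : N ≤ n := by omega
  have hmono : ∀ i : Fin r, ((n.choose (i : ℕ) : ℕ) : ℤ) ≤ (n.choose (r - 1) : ℕ) := fun i => by
    have : n.choose i ≤ n.choose (r - 1) := by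
      have key : ∀ j, (i : ℕ) ≤ j → j ≤ r - 1 → n.choose i ≤ n.choose j := by
        intro j hij
        induction j, hij using Nat.le_induction with
        | base => exact fun _ => le_rfl
        | succ j hij ih => exact fun hj => (ih (by omega)).trans (Nat.choose_le_succ_of_lt_half_left (by omega))
      exact key _ (by have := i.2; omega) le_rfl
    exact_mod_cast this
  have hb : ∀ c : Fin r → ℤ, |∑ i : Fin r, ((n.choose (i : ℕ) : ℕ) : ℤ) • c i| ≤ (n.choose (r - 1) : ℕ) * ∑ i, |c i| := by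
    intro c
    refine (Finset.abs_sum_le_sum_abs _ _).trans ?_
    rw [Finset.mul_sum]
    refine Finset.sum_le_sum fun i _ => ?_
    rw [smul_eq_mul, abs_mul, Nat.abs_cast]
    exact mul_le_mul_of_nonneg_right (hmono i) (abs_nonneg _)
  have h1 := hf n hn
  rw [Fin.sum_univ_castSucc] at h1
  simp only [Fin.val_castSucc, Fin.val_last] at h1
  have h2 := (hle n hn).trans (le_abs_self _)
  have h3 : |((n.choose r : ℕ) : ℤ) • a (Fin.last r)| ≤ (n.choose (r - 1) : ℕ) * K := by
    have e : ((n.choose r : ℕ) : ℤ) • a (Fin.last r) = f n - ∑ i : Fin r, ((n.choose (i : ℕ) : ℕ) : ℤ) • a i.castSucc := by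
      rw [h1]; ring
    rw [e]
    refine (abs_sub _ _).trans ?_
    rw [abs_of_nonneg (h0 n), mul_add, add_comm]
    exact add_le_add (hb _) (h2.trans (hb _))
  rw [smul_eq_mul, abs_mul, Nat.abs_cast] at h3
  have h4 : ((n.choose r : ℕ) : ℤ) ≤ (n.choose (r - 1) : ℕ) * K :=
    le_trans (le_mul_of_one_le_right (by positivity) (Int.one_le_abs ha)) h3
  have h5 : n.choose r * r = n.choose (r - 1) * (n - (r - 1)) := by
    have := Nat.choose_succ_right_eq n (r - 1)
    rwa [Nat.sub_add_cancel hr] at this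
  have h6 : n.choose r * r ≤ n.choose (r - 1) * (K.toNat * r) := by
    have : n.choose r ≤ n.choose (r - 1) * K.toNat := by
      rw [← Int.toNat_of_nonneg hK] at h4
      exact_mod_cast h4
    calc n.choose r * r ≤ n.choose (r - 1) * K.toNat * r := Nat.mul_le_mul_right r this
      _ = _ := by ring
  rw [h5] at h6
  have h7 := Nat.le_of_mul_le_mul_left h6 (Nat.choose_pos (by omega))
  have : n = N + 2 * r + (K.toNat * r + r) := by simp only [n]; ring
  omega

/-- Let k be a field, d ≥ 1, and I a nonzero homogeneous ideal of the standard-graded polynomial ring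
k[X_1, …, X_d]; put M = k[X_1, …, X_d]/I. Then the function n ↦ dim_k M_n (equal to dim_k of the
degree-n part of the polynomial ring minus dim_k of the degree-n part of I) coincides for all large
n with a polynomial of degree < d - 1, the zero polynomial if d = 1. -/
theorem result {k : Type u} [Field k] (d : ℕ) (hd : 0 < d)
    (I : HomogeneousIdeal (MvPolynomial.homogeneousSubmodule (Fin d) k)) (hI : I ≠ ⊥) :
    ∃ P : Polynomial ℚ, P.degree < ((d - 1 : ℕ) : WithBot ℕ) ∧ ∃ N : ℕ, ∀ n : ℕ, N ≤ n →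
      ((Module.finrank k ↥(MvPolynomial.homogeneousSubmodule (Fin d) k n) : ℚ) -
        (Module.finrank k ↥(I.toIdeal.restrictScalars k ⊓ MvPolynomial.homogeneousSubmodule (Fin d) k n) : ℚ)) = P.eval (n : ℚ) := by
  classical
  set S := MvPolynomial (Fin d) k
  set ℳ := MvPolynomial.homogeneousSubmodule (Fin d) k with hℳ
  letI : GradedAlgebra ℳ := MvPolynomial.gradedAlgebra
  have h0 : ∀ s ∈ ℳ 0, s ∈ Set.range (algebraMap k S) := fun s hs => by
    rw [hℳ, MvPolynomial.homogeneousSubmodule_zero, Submodule.mem_one] at hs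
    exact hs
  obtain ⟨φ, hφ⟩ := exists_rankHom k
  let c := fun (P : Submodule S S) (n : ℕ) => φ (Groth.Agent.CI2.GrHilb.c ℳ P n)
  haveI hfin : ∀ (P : Submodule S S) n, Module.Finite k (Groth.Agent.CI2.GrHilb.piece ℳ P n) :=
    fun P n => Groth.Agent.CI2.GrHilb.finite_piece ℳ ℳ h0 P n
  have hc : ∀ P n, c P n = (Module.finrank k (Groth.Agent.CI2.GrHilb.piece ℳ P n) : ℤ) := fun P n => hφ _
  let G := (List.ofFn fun i : Fin d => (MvPolynomial.X i : S))
  have hG : ∀ y ∈ G, y ∈ ℳ 1 := by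
    intro y hy
    obtain ⟨i, rfl⟩ := List.mem_ofFn.1 hy
    exact MvPolynomial.isHomogeneous_X k i
  have hgen : ∀ i, 0 < i → ∀ a ∈ ℳ i, a ∈ Ideal.span {y | y ∈ G} := by
    intro i hi a ha
    have : a ∈ Ideal.span (MvPolynomial.X '' (Set.univ : Set (Fin d))) := by
      rw [MvPolynomial.mem_ideal_span_X_image]
      intro m hm
      have hdeg := ha (MvPolynomial.mem_support_iff.1 hm)
      by_contra hall
      push Not at hall
      have : m = 0 := Finsupp.ext fun j => by simpa using hall j (Set.mem_univ j)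
      rw [this] at hdeg
      simp at hdeg
      omega
    refine Ideal.span_mono ?_ this
    rintro _ ⟨j, -, rfl⟩
    exact List.mem_ofFn.2 ⟨j, rfl⟩
  have hlen : G.length = d := List.length_ofFn
  have htopH : Groth.Agent.CI2.GrHilb.Homog ℳ (⊤ : Submodule S S) := fun _ _ _ => Submodule.mem_top
  have hIH : Groth.Agent.CI2.GrHilb.Homog ℳ (I.toIdeal : Submodule S S) := fun m hm n => I.isHomogeneous n hm
  have hbotH : Groth.Agent.CI2.GrHilb.Homog ℳ (⊥ : Submodule S S) := fun m hm n => by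
    rw [(Submodule.mem_bot S).1 hm, map_zero]; exact zero_mem _
  -- the two functions
  let f := fun n => c ⊤ n - c I.toIdeal n
  let D := fun n => c ⊤ n - c ⊥ n
  have hf : Groth.Agent.CI2.GrHilb.PolyDeg d f := hlen ▸ polyDeg_congr _ (fun n => map_sub φ _ _)
    (polyDeg_map φ _ (Groth.Agent.CI2.GrHilb.polyDeg_aux ℳ ℳ h0 G hG hgen G (fun _ h => h) ⊤ I.toIdeal htopH hIH le_top
      (fun y hy hy' => absurd hy hy')))
  have hD : Groth.Agent.CI2.GrHilb.PolyDeg d D := hlen ▸ polyDeg_congr _ (fun n => map_sub φ _ _)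
    (polyDeg_map φ _ (Groth.Agent.CI2.GrHilb.polyDeg_aux ℳ ℳ h0 G hG hgen G (fun _ h => h) ⊤ ⊥ htopH hbotH le_top
      (fun y hy hy' => absurd hy hy')))
  have hbot : ∀ n, c ⊥ n = 0 := fun n => by
    rw [hc]
    have : Groth.Agent.CI2.GrHilb.piece ℳ (⊥ : Submodule S S) n = ⊥ :=
      eq_bot_iff.2 fun z hz => (Submodule.mem_bot S).1 hz.1
    rw [this, finrank_bot, Nat.cast_zero]
  -- a homogeneous element
  obtain ⟨z, hzI, hz0⟩ : ∃ z ∈ I.toIdeal, z ≠ 0 := by
    refine Submodule.exists_mem_ne_zero_of_ne_bot fun h => hI ?_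
    exact HomogeneousIdeal.toIdeal_injective (h.trans HomogeneousIdeal.toIdeal_bot.symm)
  obtain ⟨e, g, hgI, hge, hg0⟩ : ∃ e g, g ∈ I.toIdeal ∧ g ∈ ℳ e ∧ g ≠ 0 := by
    by_contra hcon
    push Not at hcon
    apply hz0
    rw [← DirectSum.sum_support_decompose ℳ z]
    exact Finset.sum_eq_zero fun i _ => hcon i _ (I.isHomogeneous i hzI) (SetLike.coe_mem _)
  have hshift : ∀ n, c ⊤ n ≤ c I.toIdeal (n + e) := by
    intro n
    rw [hc, hc]
    let μ : Groth.Agent.CI2.GrHilb.piece ℳ (⊤ : Submodule S S) n →ₗ[k] Groth.Agent.CI2.GrHilb.piece ℳ (I.toIdeal : Submodule S S) (n + e) :=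
      { toFun := fun p => ⟨g * p.1, I.toIdeal.mul_mem_right _ hgI,
          by rw [Nat.add_comm]; exact SetLike.GradedMul.mul_mem hge p.2.2⟩
        map_add' := fun a b => Subtype.ext (mul_add _ _ _)
        map_smul' := fun r a => Subtype.ext (mul_smul_comm r g (a : S)) }
    exact_mod_cast LinearMap.finrank_le_finrank_of_injective (f := μ)
      (fun a b h => Subtype.ext (mul_left_cancel₀ hg0 (congrArg Subtype.val h)))
  obtain ⟨r, rfl⟩ : ∃ r, d = r + 1 := ⟨d - 1, by omega⟩
  obtain ⟨a, N1, ha⟩ := Groth.Agent.CI2.GrHilb.exists_choose _ hf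
  obtain ⟨b, N2, hb⟩ := Groth.Agent.CI2.GrHilb.exists_choose _ (polyDeg_shift_sub r hD e)
  have hle : ∀ n, f (n + e) ≤ D (n + e) - D n := fun n => by
    show c ⊤ (n + e) - c I.toIdeal (n + e) ≤ (c ⊤ (n + e) - c ⊥ (n + e)) - (c ⊤ n - c ⊥ n)
    rw [hbot, hbot]
    linarith [hshift n]
  have hnn : ∀ n, 0 ≤ f n := fun n => by
    show 0 ≤ c ⊤ n - c I.toIdeal n
    rw [hc, hc, sub_nonneg]
    exact_mod_cast Submodule.finrank_mono (s := Groth.Agent.CI2.GrHilb.piece ℳ (I.toIdeal : Submodule S S) n)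
      (t := Groth.Agent.CI2.GrHilb.piece ℳ (⊤ : Submodule S S) n) (inf_le_inf_right _ fun _ _ => trivial)
  -- shift
  obtain ⟨a', N3, ha'⟩ := Groth.Agent.CI2.GrHilb.exists_choose _ (f := fun n => f (n + e))
    (show Groth.Agent.CI2.GrHilb.PolyDeg (r + 1) _ from by
      have : ∀ e, Groth.Agent.CI2.GrHilb.PolyDeg (r + 1) fun n => f (n + e) := by
        intro e
        induction e with
        | zero => exact hf
        | succ e ih => exact polyDeg_congr _ (fun n => congrArg f (by omega)) (Groth.Agent.CI2.GrHilb.polyDeg_shift (r + 1) (f := fun n => f (n + e)) ih)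
      exact this e)
  have hzero := bound a' b (fun n => f (n + e)) (max N2 N3) (fun n hn => ha' n (le_trans (le_max_right _ _) hn))
    (fun n => hnn _) (fun n hn => (hle n).trans (hb n (le_trans (le_max_left _ _) hn)).le)
  let P0 : Polynomial ℚ := ∑ i : Fin r, Polynomial.C ((a' i.castSucc : ℚ) / (i : ℕ).factorial) * descPochhammer ℚ (i : ℕ)
  refine ⟨P0.comp (Polynomial.X - Polynomial.C (e : ℚ)), ?_, N3 + e, fun n hn => ?_⟩
  · have hdeg : P0.degree < (r : WithBot ℕ) := by
      refine (Polynomial.degree_sum_le _ _).trans_lt ((Finset.sup_lt_iff (by exact WithBot.bot_lt_coe r)).2 fun i _ => ?_)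
      refine lt_of_le_of_lt Polynomial.degree_le_natDegree ?_
      refine lt_of_le_of_lt (b := ((i : ℕ) : WithBot ℕ)) ?_ (by exact_mod_cast i.2)
      exact_mod_cast (Polynomial.natDegree_C_mul_le _ _).trans (descPochhammer_natDegree ℚ (i : ℕ)).le
    rw [Nat.add_sub_cancel]
    by_cases h : P0 = 0
    · rw [h, Polynomial.zero_comp, Polynomial.degree_zero]; exact WithBot.bot_lt_coe r
    · refine lt_of_le_of_lt Polynomial.degree_le_natDegree ?_
      rw [Polynomial.natDegree_comp, Polynomial.natDegree_X_sub_C, mul_one]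
      exact_mod_cast (Polynomial.natDegree_lt_iff_degree_lt h).2 hdeg
  · obtain ⟨m, rfl⟩ := Nat.exists_eq_add_of_le' (show e ≤ n by omega)
    have h1 := ha' m (by omega)
    rw [Fin.sum_univ_castSucc, hzero, smul_zero, add_zero] at h1
    have h2 : (f (m + e) : ℚ) = (Module.finrank k ↥(ℳ (m + e)) : ℚ) - (Module.finrank k ↥(I.toIdeal.restrictScalars k ⊓ ℳ (m + e)) : ℚ) := by
      have e1 : Groth.Agent.CI2.GrHilb.piece ℳ (⊤ : Submodule S S) (m + e) = ℳ (m + e) := by
        simp [Groth.Agent.CI2.GrHilb.piece]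
      show ((c ⊤ (m + e) - c I.toIdeal (m + e) : ℤ) : ℚ) = _
      rw [hc, hc, e1]
      push_cast
      rfl
    rw [← h2, h1]
    simp only [Polynomial.eval_comp, Polynomial.eval_sub, Polynomial.eval_X, Polynomial.eval_C, Nat.cast_add,
      add_sub_cancel_right, P0, Polynomial.eval_finsetSum, Polynomial.eval_mul]
    push_cast
    refine Finset.sum_congr rfl fun i _ => ?_
    rw [smul_eq_mul]
    push_cast
    rw [Nat.cast_choose_eq_descPochhammer_div ℚ]
    simp only [Fin.val_castSucc]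
    ring

end Groth.Agent.S9661
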