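import Groth.Statements.S9662
import Groth.Prelude.Def_KZero
import Groth.Agent.Lib.CI2.GrHilb
import Mathlib

set_option autoImplicit false
universe u
open CategoryTheory
open CAlg

namespace Groth.Agent.S9662

/-- Let S be a Noetherian ℕ-graded ring, presented as a graded algebra over a ring A mapping onto S₀,
whose irrelevant ideal S₊ is generated as an ideal by the degree-1 part S₁, and let M be a finitely
generated graded S-module, graded in nonnegative degrees. (The published statement allows modules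
graded in all integer degrees; this row takes modules graded in degrees ≥ 0, which loses nothing for
large n.) Write K'₀(A) for the Grothendieck group of finite A-modules (the free abelian group on the
finite A-modules modulo the relations given by short exact sequences) and [M_n] for the class of the
finite A-module M_n. Then n ↦ [M_n] is a numerical polynomial: there are a_0, …, a_{r-1} in K'₀(A)
with [M_n] = Σ_i C(n, i) · a_i for all large n. (When A → S₀ is bijective K'₀(A) is K'₀(S₀), the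
group of the published statement; in general the classes are taken after restricting scalars along A
→ S₀.) -/
theorem result {A S : Type u} [CommRing A] [CommRing S] [Algebra A S] [IsNoetherianRing S] (𝒜 : ℕ → Submodule A S) [GradedAlgebra 𝒜]
    (h0 : ∀ s ∈ 𝒜 0, s ∈ Set.range (algebraMap A S))
    (h1 : (HomogeneousIdeal.irrelevant 𝒜).toIdeal = Ideal.span (𝒜 1 : Set S))
    (M : Type u) [AddCommGroup M] [Module A M] [Module S M] [IsScalarTower A S M] [Module.Finite S M] (ℳ : ℕ → Submodule A M) [DirectSum.Decomposition ℳ] [SetLike.GradedSMul 𝒜 ℳ] :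
    ∃ (r : ℕ) (a : Fin r → KZero.K0sub (fun X : ModuleCat.{u} A => Module.Finite A X)) (N : ℕ), ∀ n : ℕ, N ≤ n →
      KZero.clSub (fun X : ModuleCat.{u} A => Module.Finite A X) (ModuleCat.of A ↥(ℳ n)) = ∑ i : Fin r, ((n.choose (i : ℕ) : ℕ) : ℤ) • a i := by
  classical
  obtain ⟨t, ht, hspan⟩ : ∃ t : Finset S, (t : Set S) ⊆ 𝒜 1 ∧ Ideal.span (𝒜 1 : Set S) = Ideal.span (t : Set S) := by
    obtain ⟨t, ht, ht'⟩ := (Submodule.fg_span_iff_fg_span_finset_subset _).1
      (IsNoetherian.noetherian (Ideal.span (𝒜 1 : Set S)))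
    exact ⟨t, ht, ht'⟩
  have hgen : ∀ i, 0 < i → ∀ a ∈ 𝒜 i, a ∈ Ideal.span {y | y ∈ t.toList} := by
    intro i hi a ha
    have hI : a ∈ (HomogeneousIdeal.irrelevant 𝒜).toIdeal := by
      rw [HomogeneousIdeal.toIdeal, ← HomogeneousIdeal.toIdeal]
      show a ∈ HomogeneousIdeal.irrelevant 𝒜
      rw [HomogeneousIdeal.mem_irrelevant_iff, GradedRing.proj_apply, DirectSum.decompose_of_mem_ne 𝒜 ha hi.ne']
    rw [h1, hspan] at hI
    simpa [Finset.mem_toList] using hI
  have hh := Groth.Agent.CI2.GrHilb.polyDeg_aux (M := M) 𝒜 ℳ h0 t.toList (fun y hy => ht (Finset.mem_toList.1 hy)) hgen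
    t.toList (fun _ h => h) ⊤ ⊥ (fun _ _ _ => Submodule.mem_top) (fun m hm n => by
      rw [(Submodule.mem_bot S).1 hm, map_zero]; exact zero_mem _) bot_le (fun y hy hy' => absurd hy hy')
  obtain ⟨a, N, ha⟩ := Groth.Agent.CI2.GrHilb.exists_choose _ hh
  refine ⟨_, a, N, fun n hn => ?_⟩
  rw [← ha n hn]
  haveI : Module.Finite A (Groth.Agent.CI2.GrHilb.piece ℳ (⊤ : Submodule S M) n) :=
    Groth.Agent.CI2.GrHilb.finite_piece 𝒜 ℳ h0 _ n
  haveI : Module.Finite A (Groth.Agent.CI2.GrHilb.piece ℳ (⊥ : Submodule S M) n) :=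
    Groth.Agent.CI2.GrHilb.finite_piece 𝒜 ℳ h0 _ n
  haveI : Subsingleton (Groth.Agent.CI2.GrHilb.piece ℳ (⊥ : Submodule S M) n) :=
    subsingleton_of_forall_eq 0 fun z => Subtype.ext ((Submodule.mem_bot S).1 z.2.1)
  have e0 : Groth.Agent.CI2.GrHilb.c ℳ (⊥ : Submodule S M) n = 0 :=
    Groth.Agent.K0Cat.clSub_subsingleton (Groth.Agent.CI2.GrHilb.piece ℳ (⊥ : Submodule S M) n)
  rw [e0, sub_zero]
  haveI := Groth.Agent.CI2.GrHilb.isNoetherian_piece (M := M) 𝒜 ℳ h0 n
  exact Groth.Agent.K0Cat.clSub_equiv (LinearEquiv.ofEq (ℳ n) (Groth.Agent.CI2.GrHilb.piece ℳ (⊤ : Submodule S M) n)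
    (by ext z; simp [Groth.Agent.CI2.GrHilb.piece]))

end Groth.Agent.S9662
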