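import Groth.Statements.S9663
import Mathlib

set_option autoImplicit false
universe u
open CAlg

namespace Groth.Agent.S9663

lemma exists_uniform {ι : Type u} [Finite ι] {P : ι → ℕ → Prop} (hmono : ∀ j n k, P j n → P j (k + n)) (h : ∀ j, ∃ n, P j n) : ∃ N, ∀ j, P j N := by
  classical
  cases nonempty_fintype ι
  choose n hn using h
  refine ⟨∑ j, n j, fun j => ?_⟩
  rw [← Finset.sum_erase_add _ _ (Finset.mem_univ j)]
  exact hmono _ _ _ (hn j)

/-- Let R be a ring and f_i, i in a finite index set, elements of R (no condition on the ideal they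
generate). Suppose given for each i an R-module M_i on which f_i acts invertibly, for each pair (i,
j) an R-linear isomorphism ψ_ij : (M_i)_{f_j} → (M_j)_{f_i}, and suppose the cocycle condition ψ_jk
∘ ψ_ij = ψ_ik holds as maps (M_i)_{f_j f_k} → (M_k)_{f_i f_j} for all triples (i, j, k). All
localizations are given through their universal properties: (M_i)_{f_j} with its map g from M_i;
(M_i)_{f_j f_k} with its map t from M_i and the compatible maps u from (M_i)_{f_j} and v from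
(M_i)_{f_k}; and the three localized isomorphisms Ψ₁ (ψ_ij on (M_i)_{f_j f_k}), Ψ₂ (ψ_jk on
(M_j)_{f_i f_k}) and Ψ₃ (ψ_ik on (M_i)_{f_j f_k}) are given as maps compatible with the ψ's. Let M ⊆
Π_i M_i be the submodule of families (m_i) with m_i/1 = ψ_ji(m_j/1) in (M_i)_{f_j} for all i, j.
Then for each i the projection M → M_i exhibits M_i as the localization of M at f_i. -/
theorem result {R : Type u} [CommRing R] {ι : Type u} [Finite ι] (f : ι → R)
    (Mi : ι → Type u) [∀ i, AddCommGroup (Mi i)] [∀ i, Module R (Mi i)]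
    (hMi : ∀ i, IsUnit (algebraMap R (Module.End R (Mi i)) (f i)))
    (Mij : ι → ι → Type u) [∀ i j, AddCommGroup (Mij i j)] [∀ i j, Module R (Mij i j)]
    (g : ∀ i j, Mi i →ₗ[R] Mij i j) [∀ i j, IsLocalizedModule (Submonoid.powers (f j)) (g i j)]
    (ψ : ∀ i j, Mij i j ≃ₗ[R] Mij j i)
    (T : ι → ι → ι → Type u) [∀ i j k, AddCommGroup (T i j k)] [∀ i j k, Module R (T i j k)]
    (t : ∀ i j k, Mi i →ₗ[R] T i j k) [∀ i j k, IsLocalizedModule (Submonoid.powers (f j * f k)) (t i j k)]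
    (u : ∀ i j k, Mij i j →ₗ[R] T i j k) (hu : ∀ i j k, u i j k ∘ₗ g i j = t i j k)
    (v : ∀ i j k, Mij i k →ₗ[R] T i j k) (hv : ∀ i j k, v i j k ∘ₗ g i k = t i j k)
    (Ψ₁ : ∀ i j k, T i j k →ₗ[R] T j i k) (hΨ₁ : ∀ i j k, Ψ₁ i j k ∘ₗ u i j k = u j i k ∘ₗ (ψ i j).toLinearMap)
    (Ψ₂ : ∀ i j k, T j i k →ₗ[R] T k i j) (hΨ₂ : ∀ i j k, Ψ₂ i j k ∘ₗ v j i k = v k i j ∘ₗ (ψ j k).toLinearMap)
    (Ψ₃ : ∀ i j k, T i j k →ₗ[R] T k i j) (hΨ₃ : ∀ i j k, Ψ₃ i j k ∘ₗ v i j k = u k i j ∘ₗ (ψ i k).toLinearMap)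
    (hcoc : ∀ i j k, Ψ₂ i j k ∘ₗ Ψ₁ i j k = Ψ₃ i j k)
    (M : Submodule R (∀ i, Mi i)) (hM : ∀ m : ∀ i, Mi i, m ∈ M ↔ ∀ i j, g i j (m i) = ψ j i (g j i (m j))) (i : ι) :
    IsLocalizedModule (Submonoid.powers (f i)) ((LinearMap.proj i).comp M.subtype : ↥M →ₗ[R] Mi i) := by
  classical
  have eu : ∀ a b c x, u a b c (g a b x) = t a b c x := fun a b c => LinearMap.congr_fun (hu a b c)
  have ev : ∀ a b c x, v a b c (g a c x) = t a b c x := fun a b c => LinearMap.congr_fun (hv a b c)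
  have e1 : ∀ a b c x, Ψ₁ a b c (u a b c x) = u b a c (ψ a b x) := fun a b c => LinearMap.congr_fun (hΨ₁ a b c)
  have e2 : ∀ a b c x, Ψ₂ a b c (v b a c x) = v c a b (ψ b c x) := fun a b c => LinearMap.congr_fun (hΨ₂ a b c)
  have e3 : ∀ a b c x, Ψ₃ a b c (v a b c x) = u c a b (ψ a c x) := fun a b c => LinearMap.congr_fun (hΨ₃ a b c)
  have ec : ∀ a b c x, Ψ₂ a b c (Ψ₁ a b c x) = Ψ₃ a b c x := fun a b c => LinearMap.congr_fun (hcoc a b c)
  have hunit : ∀ (a : ι) (n : ℕ), Function.Injective fun x : Mi a => f a ^ n • x := fun a n => by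
    exact ((Module.End.isUnit_iff _).mp
      (show IsUnit (algebraMap R (Module.End R (Mi a)) (f a ^ n)) by rw [map_pow]; exact (hMi a).pow n)).injective
  have hunit' : ∀ (a b : ι) (n : ℕ), Function.Injective fun x : Mij a b => f b ^ n • x := fun a b n =>
    IsLocalizedModule.smul_injective (g a b) (⟨f b ^ n, n, rfl⟩ : Submonoid.powers (f b))
  have hkerv : ∀ a b c (z : Mij a c), v a b c z = 0 → ∃ r : ℕ, f b ^ r • z = 0 := by
    intro a b c z hz
    obtain ⟨⟨x, s⟩, hs⟩ := IsLocalizedModule.surj (Submonoid.powers (f c)) (g a c) z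
    obtain ⟨_, p, rfl⟩ := s
    change f c ^ p • z = g a c x at hs
    have : t a b c x = 0 := by rw [← ev, ← hs, map_smul, hz, smul_zero]
    obtain ⟨⟨_, r, rfl⟩, hr⟩ := (IsLocalizedModule.eq_zero_iff (Submonoid.powers (f b * f c)) (t a b c)).mp this
    refine ⟨r, hunit' a c (r + p) ?_⟩
    simp only [smul_zero]
    rw [smul_smul, show f c ^ (r + p) * f b ^ r = (f b * f c) ^ r * f c ^ p by rw [mul_pow, pow_add]; ring,
      mul_smul, hs, ← map_smul]
    exact (congrArg (g a c) hr).trans (map_zero _)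
  have hψ : ∀ x, ψ i i (g i i x) = g i i x := by
    intro x
    have hinj : Function.Injective (fun z => v i i i z) := fun z z' h => by
      obtain ⟨r, hr⟩ := hkerv i i i (z - z') (by rw [map_sub]; exact sub_eq_zero.mpr h)
      exact sub_eq_zero.mp (hunit' i i r (by simpa using hr))
    have huv : ∀ z, u i i i z = v i i i z := fun z => by
      obtain ⟨⟨x, s⟩, hs⟩ := IsLocalizedModule.surj (Submonoid.powers (f i)) (g i i) z
      refine IsLocalizedModule.smul_injective (t i i i) (⟨(s : R) * s, mul_mem_powers s.2⟩ : Submonoid.powers (f i * f i)) ?_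
      show ((s : R) * s) • u i i i z = ((s : R) * s) • v i i i z
      rw [← map_smul, ← map_smul, mul_smul, show (s : R) • z = g i i x from hs, map_smul, map_smul, eu, ev]
    have h1 : Ψ₂ i i i (Ψ₁ i i i (v i i i (g i i x))) = v i i i (ψ i i (ψ i i (g i i x))) := by
      rw [← huv, e1, huv, e2]
    have h2 : Ψ₂ i i i (Ψ₁ i i i (v i i i (g i i x))) = v i i i (ψ i i (g i i x)) := by
      rw [ec, e3, huv]
    exact (ψ i i).injective (hinj (h1.symm.trans h2))
  constructor
  · rintro ⟨_, n, rfl⟩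
    rw [map_pow]
    exact (hMi i).pow n
  · intro y
    obtain ⟨n, hn⟩ := exists_uniform (P := fun j n => ∃ x : Mi j, g j i x = f i ^ n • ψ i j (g i j y))
      (fun j n k ⟨x, hx⟩ => ⟨f i ^ k • x, by rw [map_smul, hx, smul_smul, pow_add]⟩) (fun j => by
        obtain ⟨⟨x, s⟩, hs⟩ := IsLocalizedModule.surj (Submonoid.powers (f i)) (g j i) (ψ i j (g i j y))
        obtain ⟨_, p, rfl⟩ := s
        exact ⟨p, x, hs.symm⟩)
    choose m hm using hn
    have hcompat : ∀ q : ι × ι, ∃ r : ℕ, f i ^ r • (g q.1 q.2 (m q.1) - ψ q.2 q.1 (g q.2 q.1 (m q.2))) = 0 := by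
      rintro ⟨k, j⟩
      refine hkerv k i j _ ?_
      show v k i j (g k j (m k) - ψ j k (g j k (m j))) = 0
      have hk : t k i j (m k) = f i ^ n • Ψ₃ i j k (t i j k y) := by
        rw [← eu k i j, hm k, map_smul, ← ev i j k, e3]
      have hj : t j i k (m j) = f i ^ n • Ψ₁ i j k (t i j k y) := by
        rw [← eu j i k, hm j, map_smul, ← eu i j k, e1]
      rw [map_sub, sub_eq_zero, ev, ← e2, ev, hk, hj, map_smul, ec]
    obtain ⟨N, hN⟩ := exists_uniform (fun q r k hr => by rw [pow_add, mul_smul, hr, smul_zero]) hcompat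
    refine ⟨⟨⟨fun j => f i ^ N • m j, (hM _).mpr fun a b => ?_⟩, ⟨f i ^ (N + n), N + n, rfl⟩⟩, ?_⟩
    · have := hN (a, b)
      rw [smul_sub, sub_eq_zero] at this
      simp only [map_smul]
      exact this
    · show f i ^ (N + n) • y = f i ^ N • m i
      have := hm i
      rw [hψ] at this
      rw [pow_add, mul_smul]
      congr 1
      refine hunit i 0 ?_
      simp only [pow_zero, one_smul]
      obtain ⟨⟨_, r, rfl⟩, hr⟩ := (IsLocalizedModule.eq_iff_exists (Submonoid.powers (f i)) (g i i)).mp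
        (this.trans (map_smul _ _ _).symm)
      exact (hunit i r hr).symm
  · intro m m' h
    have h' : (m : ∀ j, Mi j) i = (m' : ∀ j, Mi j) i := h
    have hj : ∀ j, ∃ r : ℕ, f i ^ r • (m : ∀ j, Mi j) j = f i ^ r • (m' : ∀ j, Mi j) j := fun j => by
      have : g j i ((m : ∀ j, Mi j) j) = g j i ((m' : ∀ j, Mi j) j) := by
        rw [(hM _).mp m.2 j i, (hM _).mp m'.2 j i, h']
      obtain ⟨⟨_, r, rfl⟩, hr⟩ := (IsLocalizedModule.eq_iff_exists (Submonoid.powers (f i)) (g j i)).mp this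
      exact ⟨r, hr⟩
    obtain ⟨r, hr⟩ := exists_uniform (fun j n k hn => by rw [pow_add, mul_smul, mul_smul, hn]) hj
    exact ⟨⟨f i ^ r, r, rfl⟩, Subtype.ext (funext hr)⟩
where
  mul_mem_powers {r : R} {s : R} (hs : s ∈ Submonoid.powers r) : s * s ∈ Submonoid.powers (r * r) := by
    obtain ⟨p, rfl⟩ := hs
    exact ⟨p, mul_pow r r p⟩

end Groth.Agent.S9663
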