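import Groth.Statements.S9664
import Mathlib
import Groth.Prelude.Def_FlatCA
import Groth.Agent.Lib.CI2.FibAss

set_option autoImplicit false
universe u
open CAlg

namespace Groth.Agent.S9664
open scoped TensorProduct
open Groth.Agent.CI2

/-- Let R → S be a ring map, N an S-module, q a prime of S and p the prime of R below q; an associated
prime of a module is a prime ideal equal to the annihilator of some element. Then q is an associated
prime of the S-module N ⊗_R κ(p) (the fibre module of N over p, an S-module by restriction of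
scalars along S → S ⊗_R κ(p)) if and only if q is the inverse image in S of an associated prime of N
⊗_R κ(p) regarded as a module over the fibre ring S ⊗_R κ(p). -/
theorem result {R S : Type u} [CommRing R] [CommRing S] [Algebra R S] (N : Type u) [AddCommGroup N] [Module S N] [Module R N] [IsScalarTower R S N]
    (p : Ideal R) [p.IsPrime] (q : Ideal S) [q.IsPrime] (hq : q.comap (algebraMap R S) = p) :
    q ∈ FlatCA.ass S (FlatCA.fiberMod p S N) ↔
      ∃ Q ∈ FlatCA.ass (p.Fiber S) (FlatCA.fiberMod p S N),
        Q.comap (Algebra.TensorProduct.includeRight (R := R) (A := p.ResidueField) (B := S)).toRingHom = q := by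
  constructor
  · intro h
    rw [FibAss.mem_ass_iff] at h
    obtain ⟨hqp, z, hz⟩ := h
    let Q : Ideal (p.Fiber S) := (Submodule.span (p.Fiber S) {z}).annihilator
    have hmem : ∀ f, f ∈ Q ↔ f • z = 0 := fun f => Submodule.mem_annihilator_span_singleton _ _
    have hcomap : ∀ a, FibAss.inc p a ∈ Q ↔ a ∈ q := fun a => by
      rw [hmem, ← FibAss.smul_eq_inc, hz]
    have hfrac : ∀ f a s, s ∉ p → FibAss.inc p (algebraMap R S s) * f = FibAss.inc p a → (f ∈ Q ↔ a ∈ q) := by
      intro f a s hs he
      rw [← hcomap, ← he]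
      exact (Ideal.unit_mul_mem_iff_mem Q (FibAss.isUnit_inc p hs)).symm
    refine ⟨Q, FibAss.mem_ass_iff.mpr ⟨⟨?_, ?_⟩, z, hmem⟩, Ideal.ext hcomap⟩
    · intro h
      exact hqp.ne_top ((Ideal.eq_top_iff_one q).mpr ((hcomap 1).mp (by rw [h]; trivial)))
    · intro f g hfg
      obtain ⟨s, hs, a, ha⟩ := FibAss.fib_frac p f
      obtain ⟨t, ht, b, hb⟩ := FibAss.fib_frac p g
      have : a * b ∈ q := (hfrac (f * g) (a * b) (s * t)
        (fun h => ((inferInstance : p.IsPrime).mem_or_mem h).elim hs ht)
        (by rw [map_mul (algebraMap R S), map_mul, map_mul, ← ha, ← hb]; ring)).mp hfg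
      exact (hqp.mem_or_mem this).imp (hfrac f a s hs ha).mpr (hfrac g b t ht hb).mpr
  · rintro ⟨Q, hQ, hQq⟩
    rw [FibAss.mem_ass_iff] at hQ ⊢
    obtain ⟨-, z, hz⟩ := hQ
    refine ⟨inferInstance, z, fun a => ?_⟩
    rw [FibAss.smul_eq_inc, ← hz, ← hQq]
    rfl

end Groth.Agent.S9664
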