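import Groth.Statements.S9665
import Mathlib
import Groth.Prelude.Def_FlatCA
import Groth.Agent.Lib.CI2.FibAss

set_option autoImplicit false
universe u
open CAlg

namespace Groth.Agent.S9665
open scoped TensorProduct
open Groth.Agent.CI2

/-- Part (2): (A_fin ⊆ A): let R → S be a ring map, N an S-module, q a prime of S and p the prime of R
below q; an associated prime of a module is a prime ideal equal to the annihilator of some element.
If q is an associated prime of the S-module N/pN, then q is an associated prime of the S-module N
⊗_R κ(p) (the fibre module over p, an S-module by restriction of scalars). -/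
theorem result {R S : Type u} [CommRing R] [CommRing S] [Algebra R S] (N : Type u) [AddCommGroup N] [Module S N] [Module R N] [IsScalarTower R S N]
    (p : Ideal R) [p.IsPrime] (q : Ideal S) [q.IsPrime] (hq : q.comap (algebraMap R S) = p)
    (h : q ∈ FlatCA.ass S (N ⧸ (p.map (algebraMap R S)) • (⊤ : Submodule S N))) :
    q ∈ FlatCA.ass S (FlatCA.fiberMod p S N) := by
  rw [FibAss.mem_ass_iff] at h ⊢
  obtain ⟨hqp, m, hm⟩ := h
  obtain ⟨n, rfl⟩ := Submodule.Quotient.mk_surjective _ m
  refine ⟨hqp, FlatCA.toFiberMod p S N n, fun a => ⟨fun ha => ?_, fun ha => ?_⟩⟩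
  · rw [← map_smul]
    exact FibAss.ι_pS p N (by
      rw [← Submodule.Quotient.mk_eq_zero, Submodule.Quotient.mk_smul]; exact (hm a).mp ha)
  · rw [← map_smul] at ha
    obtain ⟨s, hs, hsa⟩ := FibAss.ι_zero p N ha
    have : algebraMap R S s * a ∈ q := (hm _).mpr (by
      rw [← Submodule.Quotient.mk_smul, Submodule.Quotient.mk_eq_zero, mul_smul]; exact hsa)
    exact (hqp.mem_or_mem this).resolve_left fun h => hs (by rw [← hq]; exact h)

end Groth.Agent.S9665
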