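import Groth.Statements.S9666
import Mathlib
import Groth.Prelude.Def_FlatCA
import Groth.Agent.Lib.CI2.FibAss

set_option autoImplicit false
universe u
open CAlg

namespace Groth.Agent.S9666
open scoped TensorProduct
open Groth.Agent.CI2

/-- Part (3): (A ⊆ A_fin): let R → S be a ring map with S Noetherian, N an S-module, q a prime of S and
p the prime of R below q; an associated prime of a module is a prime ideal equal to the annihilator
of some element. If q is an associated prime of the S-module N ⊗_R κ(p) (the fibre module over p, an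
S-module by restriction of scalars), then q is an associated prime of the S-module N/pN. -/
theorem result {R S : Type u} [CommRing R] [CommRing S] [Algebra R S] (N : Type u) [AddCommGroup N] [Module S N] [Module R N] [IsScalarTower R S N] [IsNoetherianRing S]
    (p : Ideal R) [p.IsPrime] (q : Ideal S) [q.IsPrime] (hq : q.comap (algebraMap R S) = p)
    (h : q ∈ FlatCA.ass S (FlatCA.fiberMod p S N)) :
    q ∈ FlatCA.ass S (N ⧸ (p.map (algebraMap R S)) • (⊤ : Submodule S N)) := by
  classical
  obtain ⟨-, n, hn⟩ := FibAss.ass_fib_repr p N h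
  obtain ⟨t, ht⟩ := (isNoetherianRing_iff_ideal_fg S).1 inferInstance q
  have key : ∀ a ∈ t, ∃ s : R, s ∉ p ∧ algebraMap R S s • (a • n) ∈ (p.map (algebraMap R S)) • (⊤ : Submodule S N) :=
    fun a ha => FibAss.ι_zero p N ((hn a).mp (ht ▸ Submodule.subset_span ha))
  choose! s hs hsn using key
  set σ := algebraMap R S (∏ a ∈ t, s a)
  have hσ : σ ∉ q := fun h => by
    have h' : (∏ a ∈ t, s a) ∈ p := hq ▸ h
    obtain ⟨a, ha, has⟩ := (Ideal.IsPrime.prod_mem_iff).mp h'
    exact hs a ha has
  rw [FibAss.mem_ass_iff]
  refine ⟨inferInstance, Submodule.Quotient.mk (σ • n), fun a => ?_⟩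
  rw [← Submodule.Quotient.mk_smul, Submodule.Quotient.mk_eq_zero]
  constructor
  · intro ha
    rw [← ht] at ha
    induction ha using Submodule.span_induction with
    | mem a ha =>
      obtain ⟨r, hr⟩ := Finset.dvd_prod_of_mem s ha
      have : a • σ • n = algebraMap R S r • algebraMap R S (s a) • a • n := by
        simp only [σ, hr, smul_smul, map_mul]; congr 1; ring
      rw [this]
      exact Submodule.smul_mem _ _ (hsn a ha)
    | zero => rw [zero_smul]; exact zero_mem _
    | add x y _ _ hx hy => rw [add_smul]; exact add_mem hx hy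
    | smul c x _ hx => rw [smul_eq_mul, mul_smul]; exact Submodule.smul_mem _ c hx
  · intro ha
    have h0 := FibAss.ι_pS p N ha
    rw [smul_smul] at h0
    exact ((inferInstance : q.IsPrime).mem_or_mem ((hn (a * σ)).mpr h0)).resolve_right hσ

end Groth.Agent.S9666
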