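import Groth.Statements.S9667
import Mathlib
import Groth.Prelude.Def_FlatCA

set_option autoImplicit false
universe u
open CAlg

namespace Groth.Agent.S9667
open scoped TensorProduct

open TensorProduct in
/-- Part (3): (B = B_fin): let R → S be a ring map with S Noetherian, N an S-module, M an R-module and q
a prime of S; an associated prime of a module is a prime ideal equal to the annihilator of some
element. If q is an associated prime of the S-module N ⊗_R M, then there is a finitely generated
R-submodule M' ⊆ M such that q is an associated prime of the S-module N ⊗_R M'. -/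
theorem result {R S : Type u} [CommRing R] [CommRing S] [Algebra R S] (N : Type u) [AddCommGroup N] [Module S N] [Module R N] [IsScalarTower R S N] [IsNoetherianRing S]
    (M : Type u) [AddCommGroup M] [Module R M] (q : Ideal S) [q.IsPrime] (h : q ∈ FlatCA.ass S (N ⊗[R] M)) :
    ∃ M' : Submodule R M, M'.FG ∧ q ∈ FlatCA.ass S (N ⊗[R] ↥M') := by
  classical
  obtain ⟨hq, z, hz⟩ := h
  obtain ⟨M', hfin, hsub⟩ := TensorProduct.exists_finite_submodule_right_of_setFinite {z} (Set.finite_singleton z)
  obtain ⟨y, hy⟩ := hsub (Set.mem_singleton z)
  let φ : ∀ {P Q : Submodule R M}, P ≤ Q → (N ⊗[R] P →ₗ[S] N ⊗[R] Q) := fun h =>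
    TensorProduct.AlgebraTensorModule.map LinearMap.id (Submodule.inclusion h)
  have hφ : ∀ {P Q : Submodule R M} (h : P ≤ Q) (w : N ⊗[R] P),
      φ h w = (Submodule.inclusion h).lTensor N w := fun h w => by
    induction w using TensorProduct.induction_on with
    | zero => simp
    | tmul a b => rfl
    | add a b ha hb => rw [map_add, map_add, ha, hb]
  have key : ∀ (t : Finset S), (∀ a ∈ t, a ∈ q) →
      ∃ (P : Submodule R M) (hP : M' ≤ P), P.FG ∧ ∀ a ∈ t, a • φ hP y = 0 := by
    intro t
    induction t using Finset.induction_on with
    | empty => exact fun _ => ⟨M', le_rfl, Module.Finite.iff_fg.1 hfin, by simp⟩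
    | @insert a t hat ih =>
      intro hmem
      obtain ⟨P, hP, hPfg, hPt⟩ := ih fun b hb => hmem b (Finset.mem_insert_of_mem hb)
      let w := TensorProduct.comm R N P (a • φ hP y)
      have hw : P.subtype.rTensor N w = 0 := by
        have h1 : P.subtype.lTensor N (a • φ hP y) = 0 := by
          have h2 : ∀ v, P.subtype.lTensor N (a • v) = a • P.subtype.lTensor N v := fun v => by
            induction v using TensorProduct.induction_on with
            | zero => simp
            | tmul c d => simp [TensorProduct.smul_tmul']
            | add c d hc hd => rw [smul_add, map_add, map_add, smul_add, hc, hd]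
          rw [h2, hφ, ← LinearMap.lTensor_comp_apply, Submodule.subtype_comp_inclusion, hy]
          exact Submodule.mem_annihilator_span_singleton _ _ |>.1 (hz ▸ hmem a (Finset.mem_insert_self a t))
        have h3 : ∀ v, P.subtype.rTensor N (TensorProduct.comm R N P v) = TensorProduct.comm R N M (P.subtype.lTensor N v) := fun v => by
          induction v using TensorProduct.induction_on with
          | zero => simp
          | tmul c d => simp
          | add c d hc hd => simp [map_add, hc, hd]
        rw [h3, h1, map_zero]
      obtain ⟨P', hP', hle, heq⟩ := hPfg.exists_rTensor_fg_inclusion_eq (x := w) (y := 0) (by rw [hw, map_zero])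
      rw [map_zero] at heq
      have hcomp : φ (hP.trans hle) y = φ hle (φ hP y) := by
        rw [hφ, hφ, hφ, ← LinearMap.lTensor_comp_apply]; rfl
      refine ⟨P', hP.trans hle, hP', fun b hb => ?_⟩
      rcases Finset.mem_insert.1 hb with rfl | hb
      · rw [hcomp, ← map_smul, hφ]
        apply (TensorProduct.comm R N P').injective
        rw [map_zero]
        have h4 : ∀ v, TensorProduct.comm R N P' ((Submodule.inclusion hle).lTensor N v) =
            (Submodule.inclusion hle).rTensor N (TensorProduct.comm R N P v) := fun v => by
          induction v using TensorProduct.induction_on with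
          | zero => simp
          | tmul c d => simp
          | add c d hc hd => simp [map_add, hc, hd]
        rw [h4]; exact heq
      · rw [hcomp, ← map_smul, hPt b hb, map_zero]
  obtain ⟨t, ht⟩ := (isNoetherianRing_iff_ideal_fg S).1 inferInstance q
  obtain ⟨P, hP, hPfg, hPt⟩ := key t fun a ha => ht ▸ Submodule.subset_span ha
  refine ⟨P, hPfg, hq, φ hP y, le_antisymm ?_ fun a ha => ?_⟩
  · rw [← ht, Submodule.span_le]
    exact fun a ha => (Submodule.mem_annihilator_span_singleton _ _).2 (hPt a ha)
  · rw [hz, Submodule.mem_annihilator_span_singleton, ← hy]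
    rw [Submodule.mem_annihilator_span_singleton] at ha
    let ψ : N ⊗[R] P →ₗ[S] N ⊗[R] M := TensorProduct.AlgebraTensorModule.map LinearMap.id P.subtype
    have h5 : ψ (φ hP y) = M'.subtype.lTensor N y := by
      clear hz hPt ha hy key
      induction y using TensorProduct.induction_on with
      | zero => simp
      | tmul c d => rfl
      | add c d hc hd => rw [map_add, map_add, map_add, hc, hd]
    rw [← h5, ← map_smul, ha, map_zero]

end Groth.Agent.S9667
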