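import Groth.Statements.S9670
import Mathlib
import Groth.Prelude.Def_FlatCA
import Groth.Agent.Lib.CI2.FibAss

set_option autoImplicit false
universe u
open CAlg

namespace Groth.Agent.S9670
open scoped TensorProduct
open Groth.Agent.CI2

open TensorProduct in
/-- Part (5): (B_fin ⊆ A_fin): let R → S be a ring map with R Noetherian, N an S-module flat over R, M a
finite R-module, q a prime of S and p the prime of R below q; an associated prime of a module is a
prime ideal equal to the annihilator of some element. If q is an associated prime of the S-module N
⊗_R M, then q is an associated prime of the S-module N/pN. -/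
theorem result {R S : Type u} [CommRing R] [CommRing S] [Algebra R S] (N : Type u) [AddCommGroup N] [Module S N] [Module R N] [IsScalarTower R S N] [IsNoetherianRing R] [Module.Flat R N]
    (M : Type u) [AddCommGroup M] [Module R M] [Module.Finite R M] (p : Ideal R) [p.IsPrime] (q : Ideal S) [q.IsPrime] (hq : q.comap (algebraMap R S) = p)
    (h : q ∈ FlatCA.ass S (N ⊗[R] M)) :
    q ∈ FlatCA.ass S (N ⧸ (p.map (algebraMap R S)) • (⊤ : Submodule S N)) := by
  revert h
  induction (inferInstance : Module.Finite R M) using IsNoetherianRing.induction_on_isQuotientEquivQuotientPrime with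
  | subsingleton M =>
    intro h
    obtain ⟨hqp, z, hz⟩ := FibAss.mem_ass_iff.mp h
    have : z = 0 := by
      induction z using TensorProduct.induction_on with
      | zero => rfl
      | tmul a b => rw [Subsingleton.elim b 0, TensorProduct.tmul_zero]
      | add a b ha hb => exact Subsingleton.elim (α := N ⊗[R] M) _ _
    exact absurd ((Ideal.eq_top_iff_one q).mpr ((hz 1).mpr (by rw [this, smul_zero]))) hqp.ne_top
  | quotient M P e =>
    intro h
    have h1 := (FibAss.ass_linearEquiv (TensorProduct.AlgebraTensorModule.congr (LinearEquiv.refl S N) e)).mp h
    rw [FibAss.tensorQuot] at h1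
    have h2 := (FibAss.ass_quot_eq P.asIdeal N).2 q h1
    rw [hq] at h2
    subst h2
    exact h1
  | exact M₁ M₂ M₃ f g hf hg he h₁ h₃ =>
    intro h
    have hex : Function.Exact (TensorProduct.AlgebraTensorModule.lTensor S N f) (TensorProduct.AlgebraTensorModule.lTensor S N g) :=
      lTensor_exact N he hg
    rcases FibAss.ass_of_exact (TensorProduct.AlgebraTensorModule.lTensor S N f) (TensorProduct.AlgebraTensorModule.lTensor S N g)
      (Module.Flat.lTensor_preserves_injective_linearMap f hf) hex h with h | h
    · exact h₁ h
    · exact h₃ h

end Groth.Agent.S9670
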