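import Groth.Statements.S9671
import Mathlib

set_option autoImplicit false
universe u
open CAlg

namespace Groth.Agent.S9671
open Polynomial

variable (R R' : Type u) [CommRing R] [CommRing R'] [Algebra R R']

/-- Polynomials over `R × R'` whose degree `n` coefficient lies in `W ^ n`. -/
def rees (W : Submodule R (R × R')) : Subalgebra R (R × R')[X] where
  carrier := {p | ∀ n, p.coeff n ∈ W ^ n}
  add_mem' hp hq n := by rw [coeff_add]; exact (W ^ n).add_mem (hp n) (hq n)
  mul_mem' hp hq n := by
    rw [coeff_mul]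
    refine (W ^ n).sum_mem fun x hx => ?_
    rw [← (Finset.HasAntidiagonal.mem_antidiagonal.1 hx), pow_add]
    exact Submodule.mul_mem_mul (hp _) (hq _)
  algebraMap_mem' r n := by
    rw [Polynomial.algebraMap_apply, coeff_C]
    split_ifs with h
    · subst h
      rw [pow_zero, Submodule.mem_one]
      exact ⟨r, rfl⟩
    · exact Submodule.zero_mem _

/-- Let R be a ring and R' an R-algebra of finite type. Then there are an ℕ-graded R-algebra S such that
R → S₀ is bijective and S is generated as an R-algebra by a finite set of degree-1 elements, an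
element f ∈ S₁, and a ring isomorphism e between the degree-zero part S_(f) of the localization S_f
and R' which matches r/1 with the image of r in R' for every r ∈ R (so R' is identified with S_(f)
as an R-algebra). The published statement also produces, from a finite R'-module, a finite graded
S-module whose degree-zero localization at f recovers it; that half is not part of this row. -/
theorem result (R R' : Type u) [CommRing R] [CommRing R'] [Algebra R R'] [Algebra.FiniteType R R'] :
    ∃ (S : Type u) (_ : CommRing S) (_ : Algebra R S) (𝒜 : ℕ → Submodule R S) (_ : GradedAlgebra 𝒜) (f : S) (_ : f ∈ 𝒜 1) (s : Finset S)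
      (e : HomogeneousLocalization.Away 𝒜 f ≃+* R'),
      Function.Injective (algebraMap R S) ∧ (∀ x ∈ 𝒜 0, x ∈ Set.range (algebraMap R S)) ∧
      (↑s ⊆ (𝒜 1 : Set S)) ∧ Algebra.adjoin R (s : Set S) = ⊤ ∧
      ∀ r : R, (e.symm (algebraMap R R' r)).val = algebraMap S (Localization.Away f) (algebraMap R S r) := by
  classical
  obtain ⟨s₀, hs₀⟩ := Algebra.FiniteType.out (R := R) (A := R')
  let gens : Finset R' := insert 1 s₀
  let W : Submodule R (R × R') := Submodule.span R (gens.image fun y => ((0 : R), y))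
  obtain ⟨S, _, _, v, hv, hSmem⟩ : ∃ (S : Type u) (_ : CommRing S) (_ : Algebra R S)
      (v : S →ₐ[R] (R × R')[X]), Function.Injective v ∧
        ∀ p, p ∈ v.range ↔ ∀ n, p.coeff n ∈ W ^ n :=
    ⟨rees R R' W, inferInstance, inferInstance, (rees R R' W).val, Subtype.val_injective,
      fun p => by rw [Subalgebra.range_val]; exact Iff.rfl⟩
  have hcoe : ∀ (p : S) n, (v p).coeff n ∈ W ^ n := fun p => (hSmem _).1 ⟨p, rfl⟩
  obtain ⟨𝒜, h𝒜mem⟩ : ∃ 𝒜 : ℕ → Submodule R S,
      ∀ n (p : S), p ∈ 𝒜 n ↔ ∀ m, m ≠ n → (v p).coeff m = 0 :=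
    ⟨fun n => ⨅ (m : ℕ) (_ : m ≠ n), LinearMap.ker (((lcoeff (R × R') m).restrictScalars R).comp v.toLinearMap),
      fun n p => by simp [Submodule.mem_iInf]⟩
  have hex : ∀ (n : ℕ) (w : R × R'), w ∈ W ^ n → ∃ p : S, v p = monomial n w := fun n w hw =>
    (AlgHom.mem_range v).1 ((hSmem _).2 fun m => by
      rw [coeff_monomial]
      split_ifs with h
      · exact h ▸ hw
      · exact Submodule.zero_mem _)
  choose mk hmk using hex
  have h𝒜 : ∀ (n : ℕ) (p : S), p ∈ 𝒜 n → v p = monomial n ((v p).coeff n) := by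
    intro n p hp
    ext1 m
    rw [coeff_monomial]
    split_ifs with h
    · subst h; rfl
    · exact (h𝒜mem n p).1 hp m (Ne.symm h)
  have hmem𝒜 : ∀ (n : ℕ) (w : R × R') (hw : w ∈ W ^ n), mk n w hw ∈ 𝒜 n :=
    fun n w hw => (h𝒜mem n _).2 fun m hm => by simp [hmk, coeff_monomial, Ne.symm hm]
  have hgm : SetLike.GradedMonoid 𝒜 :=
    { one_mem := (h𝒜mem 0 _).2 fun m hm => by simp [coeff_one, hm]
      mul_mem := fun {i j} {p q} hp hq => (h𝒜mem _ _).2 fun m hm => by
        rw [map_mul, h𝒜 i p hp, h𝒜 j q hq, monomial_mul_monomial, coeff_monomial, if_neg (Ne.symm hm)] }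
  have hsum : ∀ p : S, p = ∑ n ∈ (v p).support, mk n ((v p).coeff n) (hcoe p n) := fun p => hv (by
    simp only [map_sum, hmk]
    exact (v p).as_sum_support)
  have hint : DirectSum.IsInternal 𝒜 := by
    rw [DirectSum.isInternal_submodule_iff_iSupIndep_and_iSup_eq_top]
    refine ⟨?_, ?_⟩
    · intro n
      rw [disjoint_iff_inf_le]
      rintro p ⟨hp, hp'⟩
      have : (v p).coeff n = 0 := by
        have hle : (⨆ (m) (_ : m ≠ n), 𝒜 m) ≤
            LinearMap.ker (((lcoeff (R × R') n).restrictScalars R).comp v.toLinearMap) :=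
          iSup₂_le fun m hm q hq => LinearMap.mem_ker.2 ((h𝒜mem m q).1 hq n (Ne.symm hm))
        exact hle hp'
      refine (Submodule.mem_bot R).2 (hv ?_)
      rw [h𝒜 n p hp, this, map_zero, map_zero]
    · rw [eq_top_iff]
      rintro p -
      rw [hsum p]
      exact Submodule.sum_mem _ fun n _ => Submodule.mem_iSup_of_mem n (hmem𝒜 n _ (hcoe p n))
  letI hgr : GradedAlgebra 𝒜 := { hgm, hint.chooseDecomposition with }
  -- generators
  have hW1 : ∀ y ∈ gens, ((0 : R), y) ∈ W ^ 1 := fun y hy => by
    rw [pow_one]; exact Submodule.subset_span (Finset.mem_image_of_mem _ hy)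
  have hone : ((0 : R), (1 : R')) ∈ W ^ 1 := hW1 1 (Finset.mem_insert_self _ _)
  let f : S := mk 1 _ hone
  have hf : f ∈ 𝒜 1 := hmem𝒜 1 _ hone
  let s : Finset S := gens.attach.image fun y => mk 1 _ (hW1 y.1 y.2)
  have hadj : Algebra.adjoin R (s : Set S) = ⊤ := by
    let T := (Algebra.adjoin R (s : Set S)).map v
    have key : ∀ n, ∀ w ∈ W ^ n, monomial n w ∈ T := by
      intro n
      induction n with
      | zero =>
        intro w hw
        rw [pow_zero, Submodule.mem_one] at hw
        obtain ⟨r, rfl⟩ := hw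
        exact T.algebraMap_mem r
      | succ n ih =>
        intro w hw
        rw [pow_succ] at hw
        refine Submodule.mul_induction_on hw (fun a ha b hb => ?_) (fun a b ha hb => ?_)
        · rw [← monomial_mul_monomial]
          refine T.mul_mem (ih a ha) ?_
          induction hb using Submodule.span_induction with
          | mem x hx =>
            obtain ⟨y, hy, rfl⟩ := Finset.mem_image.1 hx
            exact ⟨mk 1 _ (hW1 y hy), Algebra.subset_adjoin
              (Finset.mem_image.2 ⟨⟨y, hy⟩, Finset.mem_attach _ _, rfl⟩), hmk _ _ _⟩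
          | zero => rw [map_zero]; exact T.zero_mem
          | add x y _ _ hx hy => rw [map_add]; exact T.add_mem hx hy
          | smul r x _ hx => rw [← smul_monomial]; exact T.smul_mem hx r
        · rw [map_add]; exact T.add_mem ha hb
    rw [eq_top_iff]
    rintro p -
    have : v p ∈ T := by
      rw [(v p).as_sum_support]
      exact T.sum_mem fun n _ => key n _ (hcoe p n)
    obtain ⟨q, hq, hqp⟩ := this
    rwa [← hv hqp]
  -- every element of `R'` occurs in some `W ^ n`, `n ≥ 1`
  have hraise : ∀ {n : ℕ} {y : R'}, ((0 : R), y) ∈ W ^ n → ∀ m, ((0 : R), y) ∈ W ^ (n + m) := by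
    intro n y hy m
    induction m with
    | zero => exact hy
    | succ m ih =>
      have := Submodule.mul_mem_mul ih hone
      rwa [← pow_add, Prod.mk_mul_mk, mul_zero, mul_one] at this
  have hexists : ∀ y : R', ∃ n, ((0 : R), y) ∈ W ^ n := by
    intro y
    have hy : y ∈ Algebra.adjoin R (s₀ : Set R') := hs₀ ▸ trivial
    induction hy using Algebra.adjoin_induction with
    | mem x hx => exact ⟨1, hW1 x (Finset.mem_insert_of_mem hx)⟩
    | algebraMap r =>
      refine ⟨1, ?_⟩
      have := (W ^ 1).smul_mem r hone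
      rwa [Prod.smul_mk, smul_zero, Algebra.smul_def, mul_one] at this
    | add x y _ _ hx hy =>
      obtain ⟨n, hn⟩ := hx
      obtain ⟨m, hm⟩ := hy
      have h1 := hraise hn m
      have h2 := hraise hm n
      rw [add_comm] at h2
      refine ⟨n + m, ?_⟩
      have := (W ^ (n + m)).add_mem h1 h2
      rwa [Prod.mk_add_mk, add_zero] at this
    | mul x y _ _ hx hy =>
      obtain ⟨n, hn⟩ := hx
      obtain ⟨m, hm⟩ := hy
      refine ⟨n + m, ?_⟩
      have := Submodule.mul_mem_mul hn hm
      rwa [← pow_add, Prod.mk_mul_mk, mul_zero] at this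
  -- the comparison map
  let ψ : S →+* R' := ((evalRingHom (1 : R')).comp (mapRingHom (RingHom.snd R R'))).comp v.toRingHom
  have hψ : ∀ (n : ℕ) (p : S), p ∈ 𝒜 n → ψ p = ((v p).coeff n).2 := by
    intro n p hp
    show eval 1 ((v p).map (RingHom.snd R R')) = _
    conv_lhs => rw [h𝒜 n p hp]
    simp [map_monomial]
  have hψf : ψ f = 1 := by
    rw [hψ 1 f hf]
    simp [f, hmk]
  let χ : Localization.Away f →+* R' := IsLocalization.Away.lift f (g := ψ) (by rw [hψf]; exact isUnit_one)
  have hχ : ∀ x, χ (algebraMap S (Localization.Away f) x) = ψ x := fun x => IsLocalization.Away.lift_eq f _ x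
  let E : HomogeneousLocalization.Away 𝒜 f →+* R' := χ.comp (algebraMap _ (Localization.Away f))
  have hE : ∀ (n : ℕ) (a : S) (ha : a ∈ 𝒜 (n • 1)),
      E (HomogeneousLocalization.Away.mk 𝒜 hf n a ha) = ψ a := by
    intro n a ha
    have h1 := IsLocalization.mk'_spec (Localization.Away f) a (⟨f ^ n, n, rfl⟩ : Submonoid.powers f)
    rw [← Localization.mk_eq_mk'] at h1
    apply_fun χ at h1
    rw [map_mul, hχ, hχ, map_pow, hψf, one_pow, mul_one] at h1
    show χ (HomogeneousLocalization.Away.mk 𝒜 hf n a ha).val = _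
    rw [HomogeneousLocalization.Away.val_mk]
    exact h1
  have hbij : Function.Bijective E := by
    constructor
    · rw [injective_iff_map_eq_zero]
      intro z hz
      obtain ⟨n, a, ha, rfl⟩ := HomogeneousLocalization.Away.mk_surjective 𝒜 hf z
      rw [hE n a ha, hψ _ a ha] at hz
      apply HomogeneousLocalization.val_injective
      rw [HomogeneousLocalization.val_zero, HomogeneousLocalization.Away.val_mk, Localization.mk_eq_mk',
        IsLocalization.mk'_eq_zero_iff]
      refine ⟨⟨f, 1, pow_one f⟩, hv ?_⟩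
      show v (f * a) = v 0
      rw [map_zero, map_mul, h𝒜 _ a ha, hmk, monomial_mul_monomial]
      rw [show ((0 : R), (1 : R')) * (v a).coeff (n • 1) = 0 from
        Prod.ext (by simp) (by simpa using hz), map_zero]
    · intro y
      obtain ⟨n, hn⟩ := hexists y
      have hn' : ((0 : R), y) ∈ W ^ (n • 1) := by rwa [smul_eq_mul, mul_one]
      refine ⟨HomogeneousLocalization.Away.mk 𝒜 hf n _ (hmem𝒜 _ _ hn'), ?_⟩
      rw [hE, hψ _ _ (hmem𝒜 _ _ hn'), hmk]
      simp [coeff_monomial]
  have hinj : Function.Injective (algebraMap R S) := by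
    intro r r' h
    have := congr_arg (fun p : S => ((v p).coeff 0).1) h
    simpa [Polynomial.algebraMap_apply] using this
  refine ⟨S, inferInstance, inferInstance, 𝒜, hgr, f, hf, s, RingEquiv.ofBijective E hbij, hinj, ?_, ?_, hadj, ?_⟩
  · intro x hx
    have h0 := hcoe x 0
    rw [pow_zero, Submodule.mem_one] at h0
    obtain ⟨r, hr⟩ := h0
    refine ⟨r, hv ?_⟩
    rw [h𝒜 0 x hx, ← hr, v.commutes]
    rfl
  · intro x hx
    obtain ⟨y, -, rfl⟩ := Finset.mem_image.1 hx
    exact hmem𝒜 1 _ _
  · intro r
    have hr : algebraMap R S r ∈ 𝒜 (0 • 1) := by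
      rw [zero_smul, h𝒜mem]
      intro m hm
      simp [Polynomial.algebraMap_apply, coeff_C, hm]
    have : (RingEquiv.ofBijective E hbij).symm (algebraMap R R' r) =
        HomogeneousLocalization.Away.mk 𝒜 hf 0 (algebraMap R S r) hr := by
      rw [RingEquiv.symm_apply_eq, RingEquiv.ofBijective_apply, hE, hψ _ _ hr]
      simp [Polynomial.algebraMap_apply]
    rw [this, HomogeneousLocalization.Away.val_mk]
    simp only [pow_zero]
    exact Localization.mk_one_eq_algebraMap _

end Groth.Agent.S9671
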