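import Groth.Statements.S9681
import Groth.Agent.Lib.Birat12.Basic

set_option autoImplicit false
universe u
open CategoryTheory CategoryTheory.Limits AlgebraicGeometry
open Mor

namespace Groth.Agent.S9681

/-- Suppose X and Y are integral S-schemes, each locally of finite type over S, with generic points x
and y. Then X and Y are S-birational (they admit S-isomorphic nonempty opens) if and only if x and y
map to the same point s of S and the residue fields of x and y are isomorphic as extensions of the
residue field of s. -/
theorem result {S X Y : Scheme.{u}}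
    [IsIntegral X] [IsIntegral Y] (sX : X ⟶ S) (sY : Y ⟶ S)
    [LocallyOfFiniteType sX] [LocallyOfFiniteType sY] :
    Scheme.BirationalOver sX sY ↔
      ∃ (hs : sX.base (genericPoint ↥X) = sY.base (genericPoint ↥Y))
        (e : X.residueField (genericPoint ↥X) ≅ Y.residueField (genericPoint ↥Y)),
        sX.residueFieldMap (genericPoint ↥X) ≫ e.hom =
          eqToHom (congrArg S.residueField hs) ≫ sY.residueFieldMap (genericPoint ↥Y) := by
  constructor
  · intro h
    obtain ⟨hs, e, he⟩ := Birat12.exists_stalk_iso sX sY h
    haveI := Birat12.isIso_residue X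
    haveI := Birat12.isIso_residue Y
    refine ⟨hs, (asIso (X.residue _)).symm ≪≫ e ≪≫ asIso (Y.residue _), ?_⟩
    have hX := Scheme.residue_residueFieldMap sX (genericPoint X)
    have hY := Scheme.residue_residueFieldMap sY (genericPoint Y)
    rw [← cancel_epi (S.residue (sX (genericPoint X)))]
    simp only [Iso.trans_hom, Iso.symm_hom, asIso_inv, asIso_hom]
    rw [reassoc_of% hX, IsIso.hom_inv_id_assoc, reassoc_of% he, ← hY, Birat12.eqToHom_residue_assoc hs]
  · rintro ⟨hs, e, he⟩
    haveI := Birat12.isIso_residue X
    haveI := Birat12.isIso_residue Y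
    let φ := X.residue (genericPoint X) ≫ e.hom ≫ inv (Y.residue (genericPoint Y))
    have he' : sX.stalkMap (genericPoint X) ≫ φ =
        eqToHom (congrArg S.presheaf.stalk hs) ≫ sY.stalkMap (genericPoint Y) := by
      simp only [φ]
      rw [← cancel_mono (Y.residue (genericPoint Y))]
      simp only [Category.assoc, IsIso.inv_hom_id, Category.comp_id]
      have hX := Scheme.residue_residueFieldMap sX (genericPoint X)
      have hY := Scheme.residue_residueFieldMap sY (genericPoint Y)
      rw [← reassoc_of% hX, he, ← hY, Birat12.eqToHom_residue_assoc hs]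
    have h := (Birat12.stalk_eq_iff sX sY _ _ φ hs).1 he'
    have h' : (Spec.map (inv φ) ≫ Y.fromSpecStalk (genericPoint Y)) ≫ sY =
        X.fromSpecStalk (genericPoint X) ≫ sX := by
      rw [Category.assoc, ← h, ← Spec.map_comp_assoc, IsIso.hom_inv_id, Spec.map_id, Category.id_comp]
    obtain ⟨U, hU, f, hf, hfS⟩ := spread_out_of_isGermInjective' sX sY _ h'
    obtain ⟨V, hV, g, hg, hgS⟩ := spread_out_of_isGermInjective' sY sX
      (Spec.map φ ≫ X.fromSpecStalk (genericPoint X)) ((Category.assoc _ _ _).trans h)
    exact Birat12.birationalOver_of_spread sX sY φ U hU f hf hfS V hV g hg hgS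


end Groth.Agent.S9681
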