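import Groth.Statements.S9682
import Groth.Agent.Lib.FibDim14.Comp
import Groth.Agent.Lib.VarDim.Top
-- import your own Groth.Agent.* helpers here

set_option autoImplicit false
set_option backward.isDefEq.respectTransparency.types false
universe u
open CategoryTheory CategoryTheory.Limits AlgebraicGeometry
open Mor Groth.Agent

namespace Groth.Agent.S9682

/-- Take f : X ⟶ Y locally of finite type and η the generic point of some irreducible component of Y.
Three conditions turn out to coincide: (1) each point of X mapping to η is the generic point of some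
irreducible component of X; (2) f is quasi-finite at every point over η; (3) f is quasi-finite at
each point over η that is generic in some irreducible component of X. Stated as (1) iff (2) together
with (1) iff (3). -/
theorem result {X Y : Scheme.{u}} (f : X ⟶ Y)
    [LocallyOfFiniteType f] (η : Y) (hη : closure {η} ∈ irreducibleComponents ↥Y) :
    ((∀ x : X, f.base x = η → closure {x} ∈ irreducibleComponents ↥X) ↔
      (∀ x : X, f.base x = η → f.QuasiFiniteAt x)) ∧
    ((∀ x : X, f.base x = η → closure {x} ∈ irreducibleComponents ↥X) ↔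
      (∀ x : X, f.base x = η → closure {x} ∈ irreducibleComponents ↥X → f.QuasiFiniteAt x)) := by
  have hηmax : ∀ y, y ⤳ η → y = η := fun y hy => by
    have h1 : closure {η} ⊆ closure {y} := specializes_iff_closure_subset.1 hy
    exact ((hy.antisymm (specializes_iff_closure_subset.2 (hη.2 isIrreducible_singleton.closure h1))).eq)
  have hcomp : ∀ x : X, closure {x} ∈ irreducibleComponents ↥X ↔ ∀ x', x' ⤳ x → x' = x := fun x => by
    refine ⟨fun hx x' h' => ?_, fun h => ⟨isIrreducible_singleton.closure, fun Z hZ hsub => ?_⟩⟩
    · exact ((h'.antisymm (specializes_iff_closure_subset.2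
        (hx.2 isIrreducible_singleton.closure (specializes_iff_closure_subset.1 h')))).eq)
    · obtain ⟨g, hg⟩ := QuasiSober.sober (α := X) hZ.closure isClosed_closure
      have h1 := h g (hg.specializes (subset_closure (hsub (subset_closure rfl))))
      subst h1
      exact subset_closure.trans hg.def.symm.subset
  have hq : ∀ x : X, f x = η → (f.QuasiFiniteAt x ↔ ∀ x', x' ⤳ x → FibDim14.rd f x' = 0) := by
    intro x hx
    rw [← FibDim14.fibreDimAt_eq_zero_iff]
    constructor
    · intro h0 x' hx'
      have he : f x' = f x := (hηmax _ (hx ▸ hx'.map f.continuous)).trans hx.symm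
      have := (FibDim14.rd_le_fibreDimAt f hx' he).trans_eq h0
      exact_mod_cast le_antisymm (by exact_mod_cast this) (Nat.zero_le _)
    · intro h
      obtain ⟨x', hx', -, hd, -⟩ := FibDim14.exists_fibreDimAt_eq f x
      rw [hd, h x' hx']
      rfl
  have h13 : ∀ x : X, f x = η → (∀ x', x' ⤳ x → FibDim14.rd f x' = 0) → closure {x} ∈ irreducibleComponents ↥X := by
    intro x hx h
    rw [hcomp]
    intro x' hx'
    by_contra hne
    have he : f x' = f x := (hηmax _ (hx ▸ hx'.map f.continuous)).trans hx.symm
    have := FibDim14.rd_lt_of_specializes f hx' hne he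
    rw [h x' hx'] at this
    omega
  have h12 : (∀ x : X, f x = η → closure {x} ∈ irreducibleComponents ↥X) →
      ∀ x : X, f x = η → f.QuasiFiniteAt x := by
    intro h x hx
    rw [hq x hx]
    intro x' hx'
    have he : f x' = η := hηmax _ (hx ▸ hx'.map f.continuous)
    obtain ⟨z, hz⟩ : ∃ z, f.fiberι (f x') z = x' := ⟨f.asFiber x', f.fiberι_asFiber x'⟩
    have h1 : Order.height z = (FibDim14.rd f x' : ℕ∞) := by
      rw [VarDim.height_eq_sdim (FibDim14.toPt f (f x')) z, ← FibDim14.rd_fiberι f (f x') z, hz]
    have h2 : IsMin z := fun w hw => by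
      have hw' : f.fiberι (f x') z ⤳ f.fiberι (f x') w := (show z ⤳ w from hw).map (f.fiberι _).continuous
      have hwη : f (f.fiberι (f x') w) = η := by
        have hm : f.fiberι (f x') w ∈ Set.range (f.fiberι (f x')) := ⟨w, rfl⟩
        rw [f.range_fiberι] at hm
        exact (show f _ = f x' from hm).trans he
      have := (hcomp _).1 (h _ hwη) _ hw'
      rw [(f.fiberι _).isEmbedding.injective this]
    rw [Order.height_eq_zero.2 h2] at h1
    exact_mod_cast h1.symm
  refine ⟨⟨h12, fun h x hx => h13 x hx ((hq x hx).1 (h x hx))⟩, fun h x hx _ => h12 h x hx, fun h x hx => ?_⟩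
  obtain ⟨C, hC, hxC⟩ : ∃ C ∈ irreducibleComponents ↥X, x ∈ C :=
    ⟨irreducibleComponent x, irreducibleComponent_mem_irreducibleComponents x, mem_irreducibleComponent⟩
  obtain ⟨ξ, hξ⟩ := QuasiSober.sober (α := X) hC.1 (isClosed_of_mem_irreducibleComponents C hC)
  have hξx : ξ ⤳ x := hξ.specializes hxC
  have hξη : f ξ = η := hηmax _ (hx ▸ hξx.map f.continuous)
  have hξc : closure {ξ} ∈ irreducibleComponents ↥X := by rw [hξ.def]; exact hC
  have h0 := (hq ξ hξη).1 (h ξ hξη hξc) ξ specializes_rfl
  by_cases hne : ξ = x
  · exact hne ▸ hξc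
  · have := FibDim14.rd_lt_of_specializes f hξx hne (hξη.trans hx.symm)
    omega

end Groth.Agent.S9682
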