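import Groth.Statements.S9685
import Groth.Agent.S9686
import Groth.Agent.Lib.DimClosed12.Basic

set_option autoImplicit false
set_option backward.isDefEq.respectTransparency.types false
universe u
open CategoryTheory CategoryTheory.Limits AlgebraicGeometry
open Mor

namespace Groth.Agent.S9685

/-- Let X and Y be integral schemes with Y locally Noetherian and f : X ⟶ Y dominant and locally of
finite type. If n is the transcendence degree of the function field of X over the function field of
Y (computed on residue fields at the generic points), then dim X ≤ dim Y + n, and equality holds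
when the underlying map of f is closed. -/
theorem result {X Y : Scheme.{u}} [IsIntegral X] [IsIntegral Y]
    [IsLocallyNoetherian Y] (f : X ⟶ Y) [IsDominant f] [LocallyOfFiniteType f] (n : ℕ)
    (hn : letI := (f.residueFieldMap (genericPoint ↥X)).hom.toAlgebra
      Algebra.trdeg (Y.residueField (f.base (genericPoint ↥X))) (X.residueField (genericPoint ↥X)) = n) :
    topologicalKrullDim ↥X ≤ topologicalKrullDim ↥Y + n ∧
      (IsClosedMap f.base → topologicalKrullDim ↥X = topologicalKrullDim ↥Y + n) := by
  have h1 : topologicalKrullDim ↥X ≤ topologicalKrullDim ↥Y + n := by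
    refine Groth.Agent.S9686.result f n fun ξ hξ => ?_
    have hu : closure {ξ} = (Set.univ : Set X) :=
      subset_antisymm (Set.subset_univ _) (hξ.2 (IrreducibleSpace.isIrreducible_univ X) (Set.subset_univ _))
    obtain rfl : ξ = genericPoint X := IsGenericPoint.eq (S := (Set.univ : Set X)) hu (genericPoint_spec X)
    exact le_of_eq hn
  refine ⟨h1, fun hc => le_antisymm h1 ?_⟩
  have hrd : Groth.Agent.FibDim14.rd f (genericPoint X) = n := by
    have := (Groth.Agent.FibDim14.rdeg_eq_rd f (genericPoint X)).symm.trans hn
    exact_mod_cast this
  have := Groth.Agent.DimClosed12.dim_add_rd_le f hc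
  rw [hrd] at this
  exact_mod_cast this

end Groth.Agent.S9685
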