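import Groth.Statements.S9689
import Groth.Agent.Lib.NormRed18.BranchScheme
import Groth.Agent.Lib.Branch14.Main
import Groth.Agent.Lib.UnivHomeo.Basic
import Mathlib.FieldTheory.AlgebraicClosure
import Mathlib.FieldTheory.PurelyInseparable.Basic

set_option autoImplicit false
universe u
open CategoryTheory CategoryTheory.Limits AlgebraicGeometry
open Mor

namespace Groth.Agent.S9689

open IsLocalRing in
theorem isAlgebraic_residueFieldMap {X Y : Scheme.{u}} (f : X ⟶ Y) [IsIntegralHom f] (x : X) :
    letI := (f.residueFieldMap x).hom.toAlgebra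
    Algebra.IsAlgebraic (Y.residueField (f x)) (X.residueField x) := by
  letI := (f.residueFieldMap x).hom.toAlgebra
  obtain ⟨V, hV, hxV, -⟩ := exists_isAffineOpen_mem_and_subset (x := f x) (U := ⊤) trivial
  have hU := hV.preimage f
  have ha : ∀ a : Γ(X, f ⁻¹ᵁ V), X.evaluation (f ⁻¹ᵁ V) x hxV a ∈
      algebraicClosure (Y.residueField (f x)) (X.residueField x) := fun a => by
    obtain ⟨P, hP, hPa⟩ := f.isIntegral_app V hV a
    refine mem_algebraicClosure_iff'.2 ⟨P.map (Y.evaluation V (f x) hxV).hom, hP.map _, ?_⟩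
    have h1 := congrArg (X.evaluation (f ⁻¹ᵁ V) x hxV).hom hPa
    rw [Polynomial.hom_eval₂, map_zero] at h1
    rw [Polynomial.eval₂_map]
    rwa [show (X.evaluation (f ⁻¹ᵁ V) x hxV).hom.comp (f.app V).hom =
      (algebraMap (Y.residueField (f x)) (X.residueField x)).comp (Y.evaluation V (f x) hxV).hom from
      RingHom.ext fun r => (Scheme.evaluation_naturality_apply f x hxV r).symm] at h1
  refine ⟨fun z => ?_⟩
  obtain ⟨w, rfl⟩ : ∃ w, X.residue x w = z := residue_surjective z
  let _ := TopCat.Presheaf.algebra_section_stalk X.presheaf (⟨x, hxV⟩ : (f ⁻¹ᵁ V : X.Opens))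
  have := hU.isLocalization_stalk ⟨x, hxV⟩
  obtain ⟨⟨a, b⟩, hab⟩ := IsLocalization.surj (hU.primeIdealOf ⟨x, hxV⟩).asIdeal.primeCompl w
  have hb : X.evaluation (f ⁻¹ᵁ V) x hxV b.1 ≠ 0 :=
    ((IsLocalization.map_units (X.presheaf.stalk x) b).map (residue _)).ne_zero
  have hz : X.residue x w = X.evaluation (f ⁻¹ᵁ V) x hxV a / X.evaluation (f ⁻¹ᵁ V) x hxV b.1 := by
    rw [eq_div_iff hb]
    exact (map_mul (X.residue x).hom _ _).symm.trans (congrArg (X.residue x).hom hab)
  rw [hz]
  exact mem_algebraicClosure_iff.1 (div_mem (ha a) (ha b.1))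


/-- For an integral scheme X: if every local ring of X is geometrically unibranch, then the
normalization morphism X^ν ⟶ X is a universal homeomorphism. (The published statement assumes only X
irreducible; this row takes X integral, which loses nothing since the normalization of X equals that
of its reduction.) (The quasi-compactness and quasi-separatedness binders on Spec K(X) ⟶ X always
hold; they are only needed to form the normalization.) -/
theorem result (X : Scheme.{u}) [IsIntegral X] [QuasiCompact (X.fromSpecStalk (genericPoint ↥X))] [QuasiSeparated (X.fromSpecStalk (genericPoint ↥X))]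
    (hX : ∀ x : X, CAlg2.IsGeomUnibranch (X.presheaf.stalk x)) :
    FlatMor.IsUnivHomeo (Curv2.normalizationι X) := by
  haveI := NormRed18.isIntegralHom_normalizationι X
  rw [UH.isUnivHomeo_iff_of_isAffineHom]
  have key : ∀ x : X, (ENat.card {x' : ↥(Curv2.normalization X) // Curv2.normalizationι X x' = x} = 1 ∧
      ∀ x' : {x' : ↥(Curv2.normalization X) // Curv2.normalizationι X x' = x},
        letI := ((Curv2.normalizationι X).residueFieldMap x'.1).hom.toAlgebra
        Subsingleton (Field.Emb (X.residueField ((Curv2.normalizationι X).base x'.1))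
          ((Curv2.normalization X).residueField x'.1))) := by
    intro x
    have h := (NormRed18.branches_eq X x).2
    rw [show Brnch.numGeomBranchesAt X x = 1 from (Branch14.numGeomBranches_eq_one_iff _).2 (hX x),
      ← NormRed18.enat_card_sigma] at h
    refine (Branch14.card_sigma_eq_one_iff fun x' => ?_).1 h.symm
    letI := ((Curv2.normalizationι X).residueFieldMap x'.1).hom.toAlgebra
    exact ⟨IsScalarTower.toAlgHom _ _ _⟩
  have ht := (tfae_universallyInjective (Curv2.normalizationι X)).out 0 2 rfl rfl
  refine ⟨inferInstance, ht.2 ⟨fun a b hab => ?_, fun x' => ?_⟩, ⟨fun x => ?_⟩⟩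
  · obtain ⟨hs, -⟩ := (unique_iff_subsingleton_and_nonempty _).1 (ENat.card_eq_one_iff_unique.1 (key (Curv2.normalizationι X b)).1)
    exact congrArg Subtype.val (hs.elim (⟨a, hab⟩ : {x' // Curv2.normalizationι X x' = _}) ⟨b, rfl⟩)
  · letI alg := ((Curv2.normalizationι X).residueFieldMap x').hom.toAlgebra
    haveI := isAlgebraic_residueFieldMap (Curv2.normalizationι X) x'
    haveI := (key (Curv2.normalizationι X x')).2 ⟨x', rfl⟩
    show IsPurelyInseparable _ _
    rw [isPurelyInseparable_iff_finSepDegree_eq_one, Field.finSepDegree, Nat.card_eq_one_iff_unique]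
    refine ⟨inferInstance, ?_⟩
    exact ⟨IsScalarTower.toAlgHom (X.residueField (Curv2.normalizationι X x')) ((Curv2.normalization X).residueField x') (AlgebraicClosure ((Curv2.normalization X).residueField x'))⟩
  · obtain ⟨-, ⟨x'⟩⟩ := (unique_iff_subsingleton_and_nonempty _).1 (ENat.card_eq_one_iff_unique.1 (key x).1)
    exact ⟨x'.1, x'.2⟩

end Groth.Agent.S9689
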