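import Groth.Statements.S9694
import Groth.Agent.Lib.RelAmple18.UnivClosed

set_option autoImplicit false
universe u
open CategoryTheory CategoryTheory.Limits AlgebraicGeometry
open Mor

namespace Groth.Agent.S9694

/-- Let f : X ⟶ S be universally closed, L an O_X-module ample relative to f and s a global section of
L, viewed as a morphism O_X ⟶ L. Then the open subscheme X_s of X where s generates L is affine over
S: the inclusion of X_s followed by f is an affine morphism. -/
theorem result {X S : Scheme.{u}} (f : X ⟶ S) [UniversallyClosed f]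
    (L : X.Modules) (hL : RelAmple.IsRelAmple f L) (s : Coh.structureModule X ⟶ L) :
    IsAffineHom ((CohB1.genLocus L s).ι ≫ f) := by
  have hLi := Groth.Agent.RA.isInvertible_of_isRelAmple f hL
  let G := CohB1.genLocus L s
  refine isAffineHom_of_forall_exists_isAffineOpen _ fun x => ?_
  obtain ⟨V, hV, hxV, -⟩ := exists_isAffineOpen_mem_and_subset (U := (⊤ : S.Opens)) (x := x) trivial
  refine ⟨V, hxV, hV, ?_⟩
  let P := f ⁻¹ᵁ V
  haveI : IsAffine (V : Scheme.{u}) := hV
  haveI : UniversallyClosed (f ∣_ V) := inferInstance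
  let L' := (Scheme.Modules.pullback P.ι).obj L
  let s' : Coh.structureModule (P : Scheme.{u}) ⟶ L' :=
    (PicLoc.pullbackStructureIso P.ι).inv ≫ (Scheme.Modules.pullback P.ι).map s
  have h' : CohB1.genLocus L' s' = P.ι ⁻¹ᵁ G :=
    Groth.Agent.Amp.genLocus_pullback P.ι hLi s (PicLoc.pullbackStructureIso P.ι).symm
  have hA := Groth.Agent.RA.isAffineOpen_genLocus_of_universallyClosed (f ∣_ V)
    ((Groth.Agent.RA.isAmple_restrict_iff_pullback P.ι).mp (hL.2 ⟨V, hV⟩)) s'
  rw [h'] at hA
  have := hA.image_of_isOpenImmersion P.ι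
  rw [Scheme.Hom.image_preimage_eq_opensRange_inf, Scheme.Opens.opensRange_ι] at this
  rw [← Scheme.Hom.isAffineOpen_iff_of_isOpenImmersion G.ι, Scheme.Hom.comp_preimage,
    Scheme.Hom.image_preimage_eq_opensRange_inf, Scheme.Opens.opensRange_ι, inf_comm]
  exact this

end Groth.Agent.S9694
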