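import Groth.Statements.S9695
import Groth.Agent.Lib.AmpleImm18.Local
import Groth.Agent.Lib.RelAmple18.Twist

set_option autoImplicit false
universe u
open CategoryTheory CategoryTheory.Limits AlgebraicGeometry
open Mor

namespace Groth.Agent.S9695

/-- Suppose f : X ⟶ S is a morphism of finite type and L is an invertible O_X-module. Then L is
f-relatively ample exactly when S can be covered by open subsets V with the following property: for
every such V there is an integer d ≥ 1 for which the tensor power L^{⊗d}, restricted to f⁻¹(V), is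
isomorphic to the pullback of O(1) under some V-immersion of f⁻¹(V) into a projective space P^n_V. -/
theorem result {X S : Scheme.{u}} (f : X ⟶ S)
    [LocallyOfFiniteType f] [QuasiCompact f] (L : X.Modules) (hLinv : PicF.IsInvertible L) :
    RelAmple.IsRelAmple f L ↔
      ∃ (ι : Type u) (V : ι → S.Opens), (⨆ j, V j) = ⊤ ∧
        ∀ j, ∃ d : ℕ, 0 < d ∧
          RelAmple.IsRelVeryAmplePn (f ∣_ V j) ((CohB1.tensorPow L d).restrict (f ⁻¹ᵁ V j).ι) := by
  constructor
  · intro hL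
    refine ⟨S.affineOpens, fun V => V.1, iSup_affineOpens_eq_top S, fun V => ?_⟩
    obtain ⟨m₀, hm₀⟩ := Groth.Agent.AmpleImm18.exists_immersion_over (f ∣_ V.1) (hL.2 V)
      (_root_.PicLoc.isInvertible_structureModule _)
    obtain ⟨n, i, hi, hif, ⟨e⟩⟩ := hm₀ (m₀ + 1) m₀.le_succ
    exact ⟨m₀ + 1, m₀.succ_pos, n, i, hi, hif,
      ⟨Groth.Agent.M2.restrictTensorPowIso (f ⁻¹ᵁ V.1).ι L (m₀ + 1) ≪≫ (Groth.Agent.M2.tensorRUnit _).symm ≪≫ e⟩⟩
  · rintro ⟨ι, V, hV, h⟩
    refine Groth.Agent.RA.isRelAmple_of_local f fun y => ?_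
    obtain ⟨j, hj⟩ := TopologicalSpace.Opens.mem_iSup.1 (hV.ge (TopologicalSpace.Opens.mem_top y))
    obtain ⟨W, hW, hyW, hWle⟩ := exists_isAffineOpen_mem_and_subset hj
    refine ⟨W, hW, hyW, ?_⟩
    obtain ⟨d, hd, n, i, hi, hif, ⟨e⟩⟩ := h j
    have hWle' : W ≤ V j := hWle
    have hW' : IsAffineOpen ((V j).ι ⁻¹ᵁ W) := hW.preimage_of_isOpenImmersion _
      (by rw [Scheme.Opens.opensRange_ι]; exact hWle')
    have h1 : Groth.Agent.RA.AmpleOn ((CohB1.tensorPow L d).restrict (f ⁻¹ᵁ V j).ι)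
        ((f ∣_ V j) ⁻¹ᵁ ((V j).ι ⁻¹ᵁ W)) :=
      (Groth.Agent.RA.isAmple_iso_iff ((Scheme.Modules.restrictFunctor _).mapIso e)).2
        (Groth.Agent.AmpleImm18.isAmple_restrict_twistOver (f ∣_ V j) i hif hW')
    rw [Groth.Agent.RA.ampleOn_restrict_iff, image_morphismRestrict_preimage,
      Scheme.Hom.image_preimage_eq_opensRange_inf, Scheme.Opens.opensRange_ι, inf_eq_right.2 hWle'] at h1
    exact (Groth.Agent.Amp.isAmple_tensorPow_iff (Groth.Agent.M2.isInvertible_restrict hLinv _) hd).1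
      (Groth.Agent.Amp.isAmple_of_iso (Groth.Agent.M2.restrictTensorPowIso _ L d) h1)

end Groth.Agent.S9695
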