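import Groth.Statements.S9701
import Mathlib

set_option autoImplicit false
universe u
open CategoryTheory CategoryTheory.Limits AlgebraicGeometry
open Mor

namespace Groth.Agent.S9701

/-- A domain stalk whose kernel is killed by an element off the prime spreads to a basic open. -/
private theorem exists_isDomain_away (R : Type u) [CommRing R] (p : Ideal R) [p.IsPrime]
    (A : Type u) [CommRing A] [IsDomain A] [Algebra R A] [IsLocalization.AtPrime A p]
    (hR : (IsReduced R ∧ (minimalPrimes R).Finite) ∨ IsNoetherianRing R) :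
    ∃ h : R, h ∉ p ∧ IsDomain (Localization.Away h) := by
  classical
  let q := RingHom.ker (algebraMap R A)
  have hq : ∀ a, a ∈ q ↔ ∃ s ∉ p, s * a = 0 := fun a => by
    rw [RingHom.mem_ker, IsLocalization.map_eq_zero_iff p.primeCompl A a]
    exact ⟨fun ⟨⟨s, hs⟩, h⟩ => ⟨s, hs, h⟩, fun ⟨s, hs, h⟩ => ⟨⟨s, hs⟩, h⟩⟩
  obtain ⟨h, hhp, hh⟩ : ∃ h ∉ p, ∀ a ∈ q, h * a = 0 := by
    rcases hR with ⟨hred, hfin⟩ | hN
    · let t := hfin.toFinset.filter (fun Q => ¬ Q ≤ p)
      have hne : ¬ t.inf id ≤ p := by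
        intro hle
        obtain ⟨Q, hQ, hQp⟩ := (Ideal.IsPrime.inf_le' ‹p.IsPrime›).mp hle
        exact (Finset.mem_filter.mp hQ).2 hQp
      obtain ⟨g, hg, hgp⟩ := SetLike.not_le_iff_exists.mp hne
      refine ⟨g, hgp, fun a ha => IsNilpotent.eq_zero ?_⟩
      rw [← mem_nilradical, nilradical_eq_sInf, Submodule.mem_sInf]
      intro (Q : Ideal R) (hQ : Q.IsPrime)
      obtain ⟨Q₀, hQ₀, hle⟩ := Ideal.exists_minimalPrimes_le (bot_le : (⊥ : Ideal R) ≤ Q)
      refine hle ?_
      have hQ₀prime : Q₀.IsPrime := hQ₀.1.1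
      by_cases hp : Q₀ ≤ p
      · obtain ⟨s, hs, hsa⟩ := (hq a).mp ha
        exact Q₀.mul_mem_left _ ((hQ₀prime.mem_or_mem (hsa ▸ Q₀.zero_mem)).resolve_left
          fun h => hs (hp h))
      · refine Q₀.mul_mem_right _ ?_
        have hQt : Q₀ ∈ t := Finset.mem_filter.mpr ⟨hfin.mem_toFinset.mpr hQ₀, hp⟩
        exact (Finset.inf_le hQt : t.inf id ≤ id Q₀) hg
    · obtain ⟨G, hG⟩ := IsNoetherian.noetherian q
      have hG' : ∀ a ∈ G, ∃ s ∉ p, s * a = 0 := fun a ha =>
        (hq a).mp (hG ▸ Ideal.subset_span ha)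
      choose s hs hsa using hG'
      refine ⟨∏ a ∈ G.attach, s a.1 a.2, fun hmem => ?_, fun a ha => ?_⟩
      · obtain ⟨a, -, ha⟩ := (Ideal.IsPrime.prod_mem_iff (p := p)).mp hmem
        exact hs a.1 a.2 ha
      · rw [← hG] at ha
        induction ha using Submodule.span_induction with
        | mem b hb =>
          rw [← Finset.mul_prod_erase _ _ (Finset.mem_attach G ⟨b, hb⟩), mul_right_comm,
            hsa b hb, zero_mul]
        | zero => simp
        | add => simp [mul_add, *]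
        | smul c => simp [mul_left_comm, *]
  refine ⟨h, hhp, ?_⟩
  have hunit : IsUnit (algebraMap R A h) :=
    IsLocalization.map_units (M := p.primeCompl) A ⟨h, hhp⟩
  refine Function.Injective.isDomain (IsLocalization.Away.lift (S := Localization.Away h) h hunit) ?_
  rw [RingHom.injective_iff_ker_eq_bot, RingHom.ker_eq_bot_iff_eq_zero]
  intro y hy
  obtain ⟨a, ⟨_, n, rfl⟩, rfl⟩ := IsLocalization.exists_mk'_eq (Submonoid.powers h) y
  have ha : a ∈ q := by
    have := congrArg ((IsLocalization.Away.lift (S := Localization.Away h) h hunit)) (IsLocalization.mk'_spec (M := Submonoid.powers h) (Localization.Away h) a ⟨_, n, rfl⟩)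
    rw [map_mul, hy, zero_mul, IsLocalization.Away.lift_eq] at this
    exact this.symm
  rw [IsLocalization.mk'_eq_zero_iff]
  exact ⟨⟨h, Submonoid.mem_powers h⟩, hh a ha⟩

theorem finite_irreducibleComponents_of_isOpenEmbedding {V X : Type u} [TopologicalSpace V]
    [TopologicalSpace X] {i : V → X} (hi : Topology.IsOpenEmbedding i)
    (h : (irreducibleComponents X).Finite) : (irreducibleComponents V).Finite := by
  refine (h.image (Set.preimage i)).subset fun Z hZ => ?_
  obtain ⟨Y, hY, hle⟩ := exists_mem_irreducibleComponents_subset_of_isIrreducible _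
    (hZ.1.image i hi.continuous.continuousOn)
  refine ⟨Y, hY, ?_⟩
  have hne : (i ⁻¹' Y).Nonempty := hZ.1.nonempty.mono (Set.image_subset_iff.mp hle)
  have hmem := preimage_mem_irreducibleComponents hY hi
    (by obtain ⟨v, hv⟩ := hne; exact ⟨i v, hv, v, rfl⟩)
  exact (hZ.eq_of_le hmem.1 (Set.image_subset_iff.mp hle)).symm

theorem glue_two {X Y : Scheme.{u}} (U V : X.Opens) (f : U.toScheme ⟶ Y) (g : V.toScheme ⟶ Y)
    (h : X.homOfLE (inf_le_left : U ⊓ V ≤ U) ≫ f = X.homOfLE (inf_le_right : U ⊓ V ≤ V) ≫ g) :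
    ∃ F : (U ⊔ V).toScheme ⟶ Y, X.homOfLE le_sup_left ≫ F = f ∧ X.homOfLE le_sup_right ≫ F = g := by
  let W : Bool → X.Opens := fun b => cond b U V
  have hW : ∀ b, W b ≤ U ⊔ V := fun b => by cases b <;> simp [W]
  let δ : ∀ b, (W b).toScheme ⟶ Y := fun b => match b with | true => f | false => g
  have hcov : ∀ z : (U ⊔ V).toScheme, ∃ b, ∃ w, X.homOfLE (hW b) w = z := by
    rintro ⟨z, hz⟩
    rcases hz with hz | hz
    · exact ⟨true, ⟨z, hz⟩, Subtype.ext (by simp [Scheme.homOfLE_apply])⟩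
    · exact ⟨false, ⟨z, hz⟩, Subtype.ext (by simp [Scheme.homOfLE_apply])⟩
  let 𝒰 : (U ⊔ V).toScheme.OpenCover := Scheme.Cover.mkOfCovers Bool (fun b => (W b).toScheme)
    (fun b => X.homOfLE (hW b)) hcov (fun b => inferInstanceAs (IsOpenImmersion (X.homOfLE _)))
  have key : ∀ (A B : X.Opens) (a : A.toScheme ⟶ Y) (b : B.toScheme ⟶ Y),
      X.homOfLE (inf_le_left : A ⊓ B ≤ A) ≫ a = X.homOfLE (inf_le_right : A ⊓ B ≤ B) ≫ b →
      ∀ (P : Scheme.{u}) (p : P ⟶ A.toScheme) (q : P ⟶ B.toScheme), p ≫ A.ι = q ≫ B.ι →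
        p ≫ a = q ≫ b := by
    intro A B a b hab P p q hpq
    let l : P ⟶ (A ⊓ B).toScheme := IsOpenImmersion.lift (A ⊓ B).ι (p ≫ A.ι) (by
      rw [Scheme.Opens.range_ι]
      rintro _ ⟨z, rfl⟩
      refine ⟨(p z).2, ?_⟩
      rw [hpq]
      exact (q z).2)
    have hl : l ≫ (A ⊓ B).ι = p ≫ A.ι := IsOpenImmersion.lift_fac _ _ _
    have hp : l ≫ X.homOfLE inf_le_left = p := by
      rw [← cancel_mono A.ι, Category.assoc, Scheme.homOfLE_ι, hl]
    have hq : l ≫ X.homOfLE inf_le_right = q := by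
      rw [← cancel_mono B.ι, Category.assoc, Scheme.homOfLE_ι, hl, hpq]
    rw [← hp, ← hq, Category.assoc, Category.assoc, hab]
  have hδ : ∀ a b : Bool, pullback.fst (𝒰.f a) (𝒰.f b) ≫ δ a = pullback.snd (𝒰.f a) (𝒰.f b) ≫ δ b := by
    intro a b
    refine key (W a) (W b) _ _ ?_ _ _ _ ?_
    · cases a <;> cases b
      · rfl
      · have hh := congrArg (fun t => (X.isoOfEq (inf_comm U V)).inv ≫ t) h
        simp only [← Category.assoc, Scheme.isoOfEq_inv, Scheme.homOfLE_homOfLE] at hh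
        exact hh.symm
      · exact h
      · rfl
    · have := congrArg (· ≫ (U ⊔ V).ι) (pullback.condition (f := 𝒰.f a) (g := 𝒰.f b))
      simp only [𝒰, Scheme.Cover.mkOfCovers, Category.assoc, Scheme.homOfLE_ι] at this
      exact this
  exact ⟨𝒰.glueMorphisms δ hδ, 𝒰.ι_glueMorphisms δ hδ true, 𝒰.ι_glueMorphisms δ hδ false⟩

/-- Let p : X ⟶ S and q : Y ⟶ S with q proper, let x be a point of X whose local ring is a valuation
ring, U ⊆ X an open with x in the closure of U, and f : U ⟶ Y a morphism over S. Assume that X is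
Noetherian, or else that X is reduced and has only finitely many irreducible components. Then there
are an open U' of X containing U and x and a morphism f' : U' ⟶ Y over S extending f. -/
theorem result {X Y S : Scheme.{u}} (p : X ⟶ S) (q : Y ⟶ S)
    [IsProper q] (x : X) (U : X.Opens) (f : (U : Scheme.{u}) ⟶ Y) (hf : f ≫ q = U.ι ≫ p)
    (hx : x ∈ closure (U : Set ↥X))
    (hX : (IsReduced X ∧ (irreducibleComponents ↥X).Finite) ∨ IsNoetherian X)
    (hdom : IsDomain (X.presheaf.stalk x)) (hval : @ValuationRing (X.presheaf.stalk x) _ hdom) :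
    ∃ (U' : X.Opens) (hUU' : U ≤ U'), x ∈ U' ∧
      ∃ f' : (U' : Scheme.{u}) ⟶ Y, f' ≫ q = U'.ι ≫ p ∧ X.homOfLE hUU' ≫ f' = f := by
  -- an integral open neighbourhood
  obtain ⟨_, ⟨A : X.Opens, hA, rfl⟩, hxA, -⟩ :=
    X.isBasis_affineOpens.exists_subset_of_mem_open (Set.mem_univ x) isOpen_univ
  letI := TopCat.Presheaf.algebra_section_stalk X.presheaf (⟨x, hxA⟩ : A)
  have hloc : IsLocalization.AtPrime (X.presheaf.stalk x) (hA.primeIdealOf ⟨x, hxA⟩).asIdeal :=
    hA.isLocalization_stalk ⟨x, hxA⟩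
  obtain ⟨h, hh, hdomh⟩ := exists_isDomain_away Γ(X, A) (hA.primeIdealOf ⟨x, hxA⟩).asIdeal
    (X.presheaf.stalk x) (by
      rcases hX with ⟨hred, hfin⟩ | hN
      · refine Or.inl ⟨inferInstance, ?_⟩
        have := IsAffineOpen.isOpenImmersion_fromSpec hA
        have h1 := finite_irreducibleComponents_of_isOpenEmbedding
          (IsAffineOpen.fromSpec hA).isOpenEmbedding hfin
        rw [← PrimeSpectrum.vanishingIdeal_irreducibleComponents]
        exact h1.image _
      · exact Or.inr (IsLocallyNoetherian.component_noetherian ⟨A, hA⟩))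
  let W := X.basicOpen h
  have hxW : x ∈ W := by
    rw [X.mem_basicOpen h x hxA]
    exact IsLocalization.map_units (M := (hA.primeIdealOf ⟨x, hxA⟩).asIdeal.primeCompl)
      (X.presheaf.stalk x) ⟨h, hh⟩
  have : IsDomain Γ(X, W) := by
    letI := (X.presheaf.map (homOfLE (X.basicOpen_le h)).op).hom.toAlgebra
    haveI := hA.isLocalization_basicOpen h
    exact (IsLocalization.algEquiv (Submonoid.powers h) (Localization.Away h) Γ(X, W)).toMulEquiv.isDomain_iff.mp hdomh
  have : Nonempty W.toScheme := ⟨⟨x, hxW⟩⟩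
  have : IsIntegral W.toScheme := by
    have : Nonempty (Spec Γ(X, W)) := inferInstance
    exact isIntegral_of_isOpenImmersion (hA.basicOpen h).isoSpec.hom
  let x' : W.toScheme := ⟨x, hxW⟩
  let η : W.toScheme := genericPoint (W.toScheme : Scheme.{u})
  have hηU : η.1 ∈ U := by
    obtain ⟨z, hzW, hzU⟩ := mem_closure_iff.mp hx W W.2 hxW
    let zz : W.toScheme := ⟨z, hzW⟩
    exact (genericPoint_specializes (α := (W.toScheme : Scheme.{u})) zz).mem_open
      (U.2.preimage W.ι.continuous) hzU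
  -- the valuative square
  have hdomW : IsDomain (W.toScheme.presheaf.stalk x') :=
    (asIso (W.ι.stalkMap x')).commRingCatIsoToRingEquiv.toMulEquiv.isDomain_iff.mp hdom
  have hval' : ValuationRing (W.toScheme.presheaf.stalk x') :=
    letI : PreValuationRing (X.presheaf.stalk (W.ι x')) := hval.toPreValuationRing
    (Function.Surjective.valuationRing (W.ι.stalkMap x').hom
      (ConcreteCategory.bijective_of_isIso (W.ι.stalkMap x')).2)
  let e : Spec W.toScheme.functionField ⟶ X := W.toScheme.fromSpecStalk η ≫ W.ι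
  have heO : ∀ O : X.Opens, η.1 ∈ O → Set.range e ⊆ O := by
    rintro O hO _ ⟨z, rfl⟩
    have hz : W.toScheme.fromSpecStalk η z ∈ Set.range (W.toScheme.fromSpecStalk η) := ⟨z, rfl⟩
    rw [Scheme.range_fromSpecStalk] at hz
    exact (Specializes.map hz W.ι.continuous).mem_open O.2 hO
  let eU : Spec W.toScheme.functionField ⟶ U.toScheme :=
    IsOpenImmersion.lift U.ι e (by rw [Scheme.Opens.range_ι]; exact heO U hηU)
  have heU : eU ≫ U.ι = e := IsOpenImmersion.lift_fac _ _ _
  let a := Spec.map (CommRingCat.ofHom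
    (algebraMap (W.toScheme.presheaf.stalk x') W.toScheme.functionField))
  have ha : a ≫ W.toScheme.fromSpecStalk x' = W.toScheme.fromSpecStalk η :=
    Scheme.SpecMap_stalkSpecializes_fromSpecStalk (genericPoint_specializes (α := (W.toScheme : Scheme.{u})) x')
  let i₂ : Spec (W.toScheme.presheaf.stalk x') ⟶ S := W.toScheme.fromSpecStalk x' ≫ W.ι ≫ p
  have hsq : CommSq (eU ≫ f) a q i₂ := ⟨by
    rw [Category.assoc, hf, reassoc_of% heU, reassoc_of% ha]
    simp [e]⟩
  have hex : ValuativeCriterion.Existence q := by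
    have : UniversallyClosed q := inferInstance
    rw [UniversallyClosed.eq_valuativeCriterion] at this
    exact this.1
  obtain ⟨⟨l, hl, hl'⟩⟩ := (hex (@ValuativeCommSq.mk Y S q (W.toScheme.presheaf.stalk x') _ hdomW
    hval' W.toScheme.functionField _ _ inferInstance (eU ≫ f) i₂ hsq)).exists_lift
  dsimp at l hl hl'
  let s : Spec (W.toScheme.presheaf.stalk x') ⟶ Spec (X.presheaf.stalk x) :=
    Spec.map (W.ι.stalkMap x')
  have : IsIso s := inferInstanceAs (IsIso (Spec.map (W.ι.stalkMap x')))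
  let φ : Spec (X.presheaf.stalk x) ⟶ Y := inv s ≫ l
  have hsx : s ≫ X.fromSpecStalk x = W.toScheme.fromSpecStalk x' ≫ W.ι :=
    Scheme.SpecMap_stalkMap_fromSpecStalk W.ι
  have : X.IsGermInjectiveAt x := inferInstanceAs (X.IsGermInjectiveAt (W.ι x'))
  obtain ⟨V₁, hxV₁, g, hg, hgq⟩ := spread_out_of_isGermInjective' p q φ (by
    rw [Category.assoc, IsIso.inv_comp_eq, hl', reassoc_of% hsx])
  let V := V₁ ⊓ W
  have hηV : η.1 ∈ V := ⟨((genericPoint_specializes (α := (W.toScheme : Scheme.{u})) x').map W.ι.continuous).mem_open V₁.2 hxV₁, η.2⟩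
  let M := U ⊓ V
  let eM : Spec W.toScheme.functionField ⟶ M.toScheme :=
    IsOpenImmersion.lift M.ι e (by rw [Scheme.Opens.range_ι]; exact heO M ⟨hηU, hηV⟩)
  have heM : eM ≫ M.ι = e := IsOpenImmersion.lift_fac _ _ _
  have : IsReduced M.toScheme :=
    isReduced_of_isOpenImmersion (X.homOfLE (inf_le_right.trans inf_le_right : M ≤ W))
  have : IsDominant eM := by
    refine ⟨fun z => ?_⟩
    let w : Spec W.toScheme.functionField := IsLocalRing.closedPoint W.toScheme.functionField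
    have hw : (eM w).1 = η.1 := by
      show (eM ≫ M.ι) w = _
      rw [heM]
      exact congrArg W.ι (Scheme.fromSpecStalk_closedPoint)
    have hspec : eM w ⤳ z := by
      refine M.ι.isOpenEmbedding.isInducing.specializes_iff.mp ?_
      show (eM w).1 ⤳ z.1
      rw [hw]
      let zz : W.toScheme := ⟨z.1, z.2.2.2⟩
      exact (genericPoint_specializes (α := (W.toScheme : Scheme.{u})) zz).map W.ι.continuous
    exact closure_mono (Set.singleton_subset_iff.mpr (Set.mem_range_self w)) hspec.mem_closure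
  let gV := X.homOfLE (inf_le_left : V ≤ V₁) ≫ g
  have hagree : X.homOfLE (inf_le_left : U ⊓ V ≤ U) ≫ f = X.homOfLE (inf_le_right : U ⊓ V ≤ V) ≫ gV := by
    refine ext_of_isDominant_of_isSeparated q ?_ eM ?_
    · simp [gV, hf, hgq]
    · have h1 : eM ≫ X.homOfLE (inf_le_left : U ⊓ V ≤ U) = eU := by
        rw [← cancel_mono U.ι, Category.assoc, Scheme.homOfLE_ι, heU]; exact heM
      have h2 : eM ≫ X.homOfLE (inf_le_right : U ⊓ V ≤ V) ≫ X.homOfLE (inf_le_left : V ≤ V₁) =
          a ≫ s ≫ V₁.fromSpecStalkOfMem x hxV₁ := by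
        rw [← cancel_mono V₁.ι]
        simp only [Category.assoc, Scheme.homOfLE_ι, Scheme.Opens.fromSpecStalkOfMem_ι, hsx,
          reassoc_of% ha]
        exact heM
      rw [reassoc_of% h1, reassoc_of% h2]
      rw [← hg]
      simp [φ, ← hl, a]
  obtain ⟨F, hF1, hF2⟩ := glue_two U V f gV hagree
  refine ⟨U ⊔ V, le_sup_left, Or.inr ⟨hxV₁, hxW⟩, F, ?_, hF1⟩
  have key : ∀ G' : (U ⊔ V).toScheme ⟶ S, X.homOfLE le_sup_left ≫ G' = U.ι ≫ p →
      X.homOfLE le_sup_right ≫ G' = V.ι ≫ p → G' = (U ⊔ V).ι ≫ p := by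
    intro G' h1 h2
    refine Scheme.hom_ext_of_forall _ _ fun z => ?_
    rcases z.2 with hz | hz
    · refine ⟨(X.homOfLE (le_sup_left : U ≤ U ⊔ V)).opensRange, ⟨⟨z.1, hz⟩, Subtype.ext (by simp [Scheme.homOfLE_apply])⟩, ?_⟩
      rw [← Scheme.Hom.isoOpensRange_inv_comp, Category.assoc, Category.assoc, h1, Scheme.homOfLE_ι_assoc]
    · refine ⟨(X.homOfLE (le_sup_right : V ≤ U ⊔ V)).opensRange, ⟨⟨z.1, hz⟩, Subtype.ext (by simp [Scheme.homOfLE_apply])⟩, ?_⟩
      rw [← Scheme.Hom.isoOpensRange_inv_comp, Category.assoc, Category.assoc, h2, Scheme.homOfLE_ι_assoc]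
  refine key _ ?_ ?_
  · rw [reassoc_of% hF1, hf]
  · rw [reassoc_of% hF2]
    simp only [gV, Category.assoc, hgq, Scheme.homOfLE_ι_assoc]; rfl

end Groth.Agent.S9701
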