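import Groth.Statements.S9702
import Groth.Agent.Lib.GenFin12.Basic

set_option autoImplicit false
universe u
open CategoryTheory CategoryTheory.Limits AlgebraicGeometry
open Mor

namespace Groth.Agent.S9702

/-- Let X, Y be integral and f : X ⟶ Y dominant and locally of finite type, with ξ the generic point of
X (so f ξ is the generic point of Y). Then the following are equivalent: the residue field of ξ is
finite over that of f ξ; some nonempty affine opens U ⊆ X and V ⊆ Y with f(U) ⊆ V have U ⟶ V finite;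
every point of X that f sends to the generic point of Y equals ξ. Under the extra assumption that f
is quasi-compact or separated, these are also equivalent to: f⁻¹(V) ⟶ V is finite for some nonempty
affine open V ⊆ Y. (The published statement also lists transcendence degree 0 of the function field
extension, which for this finitely generated extension is equivalent to finiteness; this row omits
it.) -/
theorem result {X Y : Scheme.{u}} [IsIntegral X] [IsIntegral Y] (f : X ⟶ Y)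
    [IsDominant f] [LocallyOfFiniteType f] :
    let ξ := genericPoint ↥X
    let A := letI := (f.residueFieldMap ξ).hom.toAlgebra
      Module.Finite (Y.residueField (f.base ξ)) (X.residueField ξ)
    let B := ∃ (U : X.Opens) (V : Y.Opens) (hUV : U ≤ f ⁻¹ᵁ V), IsAffineOpen U ∧ IsAffineOpen V ∧
      Nonempty ↥U ∧ IsFinite (f.resLE V U hUV)
    let C := ∀ x : X, f.base x = genericPoint ↥Y → x = ξ
    let D := ∃ V : Y.Opens, IsAffineOpen V ∧ Nonempty ↥V ∧ IsFinite (f ∣_ V)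
    (A ↔ B) ∧ (A ↔ C) ∧ (IsSeparated f ∨ QuasiCompact f → (A ↔ D)) := by
  intro ξ A B C D
  have hη : f ξ = genericPoint Y := GenFin12.apply_genericPoint f
  have hA : A ↔ f.QuasiFiniteAt ξ := GenFin12.residueField_finite_iff f
  have hB : B → f.QuasiFiniteAt ξ := by
    rintro ⟨U, V, e, hU, hV, hne, hfin⟩
    have hξU : ξ ∈ U :=
      ((genericPoint_spec X).mem_open_set_iff U.isOpen).mpr (by rw [Set.univ_inter]; exact ⟨_, (Classical.choice hne).2⟩)
    have : LocallyQuasiFinite (U.ι ≫ f) := by rw [← Scheme.Hom.resLE_comp_ι f e]; infer_instance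
    exact Scheme.Hom.quasiFiniteAt_comp_iff_of_isOpenImmersion.1 ((U.ι ≫ f).quasiFiniteAt ⟨ξ, hξU⟩)
  have hstart : f.QuasiFiniteAt ξ → ∃ (U₀ : X.Opens) (D₀ : Y.Opens), ξ ∈ U₀ ∧ genericPoint Y ∈ D₀ ∧
      IsAffineOpen D₀ ∧ IsFinite ((U₀.ι ≫ f) ∣_ D₀) := by
    intro h
    obtain ⟨V₀, hV₀, hηV, -⟩ := exists_isAffineOpen_mem_and_subset (x := genericPoint Y) (U := ⊤) trivial
    obtain ⟨U₀, hU₀, hξU, hle⟩ := exists_isAffineOpen_mem_and_subset (x := ξ) (U := f ⁻¹ᵁ V₀)
      (show f ξ ∈ V₀ from hη ▸ hηV)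
    haveI : Nonempty U₀ := ⟨⟨ξ, hξU⟩⟩
    obtain ⟨D₀, hD₀, hηD, -, hfin⟩ := GenFin12.exists_isFinite f h hU₀ hV₀ hle
    exact ⟨U₀, D₀, hξU, hηD, hD₀, hfin⟩
  have hD : D → f.QuasiFiniteAt ξ := by
    rintro ⟨V, hV, hne, hfin⟩
    have hξV : ξ ∈ f ⁻¹ᵁ V := show f ξ ∈ V from hη ▸
      ((genericPoint_spec Y).mem_open_set_iff V.isOpen).mpr (by rw [Set.univ_inter]; exact ⟨_, (Classical.choice hne).2⟩)
    have : LocallyQuasiFinite ((f ⁻¹ᵁ V).ι ≫ f) := by rw [← morphismRestrict_ι]; infer_instance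
    exact Scheme.Hom.quasiFiniteAt_comp_iff_of_isOpenImmersion.1
      (((f ⁻¹ᵁ V).ι ≫ f).quasiFiniteAt ⟨ξ, hξV⟩)
  refine ⟨⟨fun h => ?_, fun h => hA.2 (hB h)⟩, ⟨fun h x hx => ?_, fun h => ?_⟩,
    fun hsq => ⟨fun h => ?_, fun h => hA.2 (hD h)⟩⟩
  · obtain ⟨U₀, D₀, hξU, hηD, hD₀, hfin⟩ := hstart (hA.1 h)
    obtain ⟨W, e, hW, hmem, hWfin⟩ := GenFin12.exists_resLE_finite f (U := U₀) hD₀
    exact ⟨W, D₀, e, hW, hD₀, ⟨⟨ξ, hmem ξ hξU (hη ▸ hηD)⟩⟩, hWfin⟩
  · exact GenFin12.eq_genericPoint_of_quasiFiniteAt f (hA.1 h) x (hx.trans hη.symm)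
  · exact hA.2 (GenFin12.quasiFiniteAt_of_fibre_eq f fun x hx => h x (hx.trans hη))
  · obtain ⟨U₀, D₀, hξU, hηD, hD₀, hfin⟩ := hstart (hA.1 h)
    rcases hsq with hs | hq
    · have hle := GenFin12.preimage_le_of_isSeparated f (U := U₀) hξU (V := D₀) (hη ▸ hηD)
      exact ⟨D₀, hD₀, ⟨⟨_, hηD⟩⟩, GenFin12.isFinite_restrict_of_preimage_le f hle⟩
    · obtain ⟨D', hD', hηD', hD'le, hle⟩ := GenFin12.exists_preimage_le f (hA.1 h) hξU hηD hD₀
      haveI := GenFin12.isFinite_restrict_mono (U₀.ι ≫ f) hD'le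
      exact ⟨D', hD', ⟨⟨_, hηD'⟩⟩, GenFin12.isFinite_restrict_of_preimage_le f hle⟩


end Groth.Agent.S9702
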