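import Groth.Statements.S9705
import Groth.Agent.Lib.ProjSpace.Basic
import Mathlib.AlgebraicGeometry.ZariskisMainTheorem
-- import your own Groth.Agent.* helpers here

set_option autoImplicit false
set_option backward.isDefEq.respectTransparency.types false
universe u
open CategoryTheory CategoryTheory.Limits AlgebraicGeometry
open Mor

namespace Groth.Agent.S9705

/-- Over a quasi-compact quasi-separated scheme S, a morphism f : X ⟶ S is H-projective if and only if
it is H-quasi-projective and proper. -/
theorem result {X S : Scheme.{u}} [CompactSpace ↥S]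
    [QuasiSeparatedSpace ↥S] (f : X ⟶ S) :
    RelProj.IsHProjective f ↔ RelProj.IsHQuasiProjective f ∧ IsProper f := by
  constructor
  · rintro ⟨n, i, hi, hf⟩
    exact ⟨⟨n, i, inferInstance, inferInstance, hf⟩, by rw [← hf]; infer_instance⟩
  · rintro ⟨⟨n, i, hi, _, hf⟩, hp⟩
    refine ⟨n, i, ?_, hf⟩
    haveI : IsProper (i ≫ CohB1.ProjSpaceOver.toBase n S) := by rw [hf]; exact hp
    haveI : IsProper i := IsProper.of_comp _ (CohB1.ProjSpaceOver.toBase n S)
    exact (IsClosedImmersion.iff_isProper_and_mono i).2 ⟨inferInstance, inferInstance⟩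

end Groth.Agent.S9705
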