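import Groth.Statements.S9709
import Groth.Agent.Lib.H12.DimZero

set_option autoImplicit false
universe u
open CategoryTheory CategoryTheory.Limits AlgebraicGeometry
open Mor

namespace Groth.Agent.S9709

/-- Let f : X ⟶ S be an integral morphism. Then every point x of X is closed in its fibre: a point of
f⁻¹(f x) specialising from x equals x. -/
theorem result {X S : Scheme.{u}} (f : X ⟶ S) [IsIntegralHom f] (x : X) :
    closure {x} ∩ f.base ⁻¹' {f.base x} = {x} := by
  ext y
  refine ⟨fun ⟨h1, h2⟩ => ?_, fun h => ?_⟩
  · exact (H12.eq_of_specializes_of_isIntegralHom f (specializes_iff_mem_closure.mpr h1)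
      (Set.mem_singleton_iff.mp h2).symm).symm
  · rw [Set.mem_singleton_iff] at h
    subst h
    exact ⟨subset_closure rfl, rfl⟩

end Groth.Agent.S9709
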