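import Groth.Statements.S9714
import Groth.Agent.Lib.EtField24.Coprod
import Groth.Agent.Lib.AlgGrpBasic19.FibreIso
import Mathlib.AlgebraicGeometry.Morphisms.Etale

set_option autoImplicit false
universe u
open CategoryTheory CategoryTheory.Limits AlgebraicGeometry
open Mor

namespace Groth.Agent.S9714

/-- Let k be a field and X a scheme over k. The structure morphism X ⟶ Spec k is unramified (formally
unramified and locally of finite type) if and only if X is isomorphic over k to a disjoint union of
spectra of finite separable field extensions of k. -/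
theorem result (k : Type u) [Field k] {X : Scheme.{u}}
    (f : X ⟶ Spec (CommRingCat.of k)) :
    (FormallyUnramified f ∧ LocallyOfFiniteType f) ↔
      ∃ (ι : Type u) (K : ι → Type u) (_ : ∀ i, Field (K i)) (_ : ∀ i, Algebra k (K i)),
        (∀ i, FiniteDimensional k (K i) ∧ Algebra.IsSeparable k (K i)) ∧
        ∃ e : X ≅ ∐ (fun i => Spec (CommRingCat.of (K i))),
          e.hom ≫ Sigma.desc (fun i => Spec.map (CommRingCat.ofHom (algebraMap k (K i)))) = f := by
  constructor
  · rintro ⟨_, _⟩
    haveI : LocallyOfFinitePresentation f := ⟨fun {U} hU {V} hV e =>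
      haveI := IsLocallyNoetherian.component_noetherian (X := Spec (CommRingCat.of k)) ⟨U, hU⟩
      RingHom.FinitePresentation.of_finiteType.mp (f.finiteType_appLE hU hV e)⟩
    haveI : AlgebraicGeometry.Flat f := inferInstance
    haveI : AlgebraicGeometry.Etale f := AlgebraicGeometry.Etale.of_formallyUnramified_of_flat f
    obtain ⟨ι, K, _, _, hfd, hsep, e, he⟩ := Groth.Agent.EtField24.exists_coprod_of_etale f
    refine ⟨ι, K, inferInstance, inferInstance, fun i => ⟨hfd i, hsep i⟩, e.symm, ?_⟩
    rw [Iso.symm_hom, Iso.inv_comp_eq]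
    refine Sigma.hom_ext _ _ fun i => ?_
    rw [colimit.ι_desc, Cofan.mk_ι_app, he i]
  · rintro ⟨ι, K, _, _, hK, e, he⟩
    haveI := fun i => (hK i).1
    haveI := fun i => (hK i).2
    haveI : AlgebraicGeometry.Etale f := Groth.Agent.EtField24.etale_of_coprod f K e.symm fun i => by
      rw [← he, Iso.symm_hom, Iso.inv_hom_id_assoc, colimit.ι_desc, Cofan.mk_ι_app]
    exact ⟨inferInstance, inferInstance⟩

end Groth.Agent.S9714
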