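import Groth.Statements.S9720
import Groth.Agent.Lib.EtField24.Coprod
import Groth.Agent.Lib.AlgGrpBasic19.FibreIso
import Mathlib.AlgebraicGeometry.Morphisms.Etale

set_option autoImplicit false
set_option backward.isDefEq.respectTransparency.types false
universe u
open CategoryTheory CategoryTheory.Limits AlgebraicGeometry
open Mor

namespace Groth.Agent.S9720

/-- Let f : X ⟶ S be locally of finite type such that for every point s of S the fibre X_s is isomorphic
over κ(s) to a coproduct of schemes Spec K_i, each K_i a finite separable extension field of κ(s).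
In that case f is formally unramified (so unramified, being locally of finite type). -/
theorem result {X S : Scheme.{u}} (f : X ⟶ S) [LocallyOfFiniteType f]
    (H : ∀ s : S, ∃ (ι : Type u) (K : ι → Type u) (_ : ∀ i, Field (K i))
      (_ : ∀ i, Algebra (S.residueField s) (K i)),
      (∀ i, FiniteDimensional (S.residueField s) (K i) ∧ Algebra.IsSeparable (S.residueField s) (K i)) ∧
        ∃ e : f.fiber s ≅ ∐ (fun i => Spec (CommRingCat.of (K i))),
          e.hom ≫ Sigma.desc (fun i => Spec.map (CommRingCat.ofHom (algebraMap (S.residueField s) (K i)))) =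
            f.fiberToSpecResidueField s) :
    FormallyUnramified f := by
  have hfib : ∀ (L : Type u) [Field L] (a : Spec (CommRingCat.of L) ⟶ S),
      FormallyUnramified (pullback.fst a f) := by
    intro L _ a
    obtain ⟨s, φ, rfl⟩ : ∃ (s : S) (φ : S.residueField s ⟶ CommRingCat.of L),
        Spec.map φ ≫ S.fromSpecResidueField s = a :=
      ⟨_, _, Scheme.descResidueField_stalkClosedPointTo_fromSpecResidueField L S a⟩
    obtain ⟨ι, K, _, _, hK, e, he⟩ := H s
    haveI := fun i => (hK i).1
    haveI := fun i => (hK i).2
    haveI : AlgebraicGeometry.Etale (f.fiberToSpecResidueField s) :=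
      Groth.Agent.EtField24.etale_of_coprod (k := S.residueField s) _ K e.symm fun i => by
        rw [← he, Iso.symm_hom, Iso.inv_hom_id_assoc, colimit.ι_desc, Cofan.mk_ι_app]
    have sq : IsPullback (pullback.fst (Spec.map φ) (f.fiberToSpecResidueField s))
        (pullback.snd (Spec.map φ) (f.fiberToSpecResidueField s) ≫ f.fiberι s)
        (Spec.map φ ≫ S.fromSpecResidueField s) f :=
      ((IsPullback.of_hasPullback (Spec.map φ) (f.fiberToSpecResidueField s)).flip.paste_horiz
        (IsPullback.of_hasPullback f (S.fromSpecResidueField s))).flip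
    rw [← sq.isoPullback_inv_fst]
    haveI : FormallyUnramified (pullback.fst (Spec.map φ) (f.fiberToSpecResidueField s)) :=
      MorphismProperty.pullback_fst _ _ inferInstance
    infer_instance
  rw [HasRingHomProperty.iff_appLE (P := @FormallyUnramified)]
  rintro ⟨U, hU⟩ ⟨V, hV⟩ e
  have hft := f.finiteType_appLE hU hV e
  algebraize [(f.appLE U V e).hom]
  rw [← RingHom.algebraMap_toAlgebra (f.appLE U V e).hom, RingHom.formallyUnramified_algebraMap]
  refine Groth.Agent.FlatH4.formallyUnramified_of_fibres fun p _ => ?_
  have h := Groth.Agent.FlatH4.pullback_residueField_of_forall (P := @FormallyUnramified) f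
    (fun e _ => inferInstance) hfib hU hV e p
  rw [HasRingHomProperty.Spec_iff (P := @FormallyUnramified), CommRingCat.hom_ofHom,
    RingHom.formallyUnramified_algebraMap] at h
  exact h

end Groth.Agent.S9720
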