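import Groth.Statements.S9721


set_option autoImplicit false
universe u
open CategoryTheory AlgebraicGeometry
open Mor

namespace Groth.Agent.S9721

/-- Let f : X ⟶ S be a morphism, x a point of X and V an affine open neighbourhood of f(x) in S. Then f
is smooth on some open neighbourhood of x if and only if there is an affine open neighbourhood U of
x with f(U) ⊆ V such that the induced ring map Γ(S, V) ⟶ Γ(X, U) is standard smooth. -/
theorem result {X S : Scheme.{u}} (f : X ⟶ S) (x : X)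
    (V : S.Opens) (hV : IsAffineOpen V) (hxV : f x ∈ V) :
    (∃ W : X.Opens, x ∈ W ∧ Smooth (W.ι ≫ f)) ↔
      ∃ (U : X.Opens) (_ : IsAffineOpen U) (_ : x ∈ U) (e : U ≤ f ⁻¹ᵁ V),
        (f.appLE V U e).hom.IsStandardSmooth := by
  constructor
  · rintro ⟨W, hxW, hW⟩
    obtain ⟨U₀, hU₀, hxU₀, hle⟩ :=
      exists_isAffineOpen_mem_and_subset (x := x) (U := W ⊓ f ⁻¹ᵁ V) ⟨hxW, hxV⟩
    have e₀ : U₀ ≤ f ⁻¹ᵁ V := fun z hz => (hle hz).2
    haveI : Smooth (W.ι ≫ f) := hW
    have hsm : (f.appLE V U₀ e₀).hom.Smooth := by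
      have hU' : IsAffineOpen (W.ι ⁻¹ᵁ U₀) := by
        rw [← Scheme.Hom.isAffineOpen_iff_of_isOpenImmersion W.ι]
        convert hU₀
        rw [Scheme.Hom.image_preimage_eq_opensRange_inf, Scheme.Opens.opensRange_ι]
        exact inf_eq_right.2 fun z hz => (hle hz).1
      have h := (W.ι ≫ f).smooth_appLE hV hU' (fun z hz => e₀ hz)
      rw [← Scheme.Hom.appLE_comp_appLE W.ι f V U₀ (W.ι ⁻¹ᵁ U₀) e₀ le_rfl, CommRingCat.hom_comp] at h
      haveI : IsIso (W.ι.appLE U₀ (W.ι ⁻¹ᵁ U₀) le_rfl) := by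
        rw [← Scheme.Hom.app_eq_appLE]
        exact Scheme.Hom.isIso_app _ _ (by
          rw [Scheme.Opens.opensRange_ι]; exact fun z hz => (hle hz).1)
      let e := (asIso (W.ι.appLE U₀ (W.ι ⁻¹ᵁ U₀) le_rfl)).commRingCatIsoToRingEquiv
      have h' := RingHom.Smooth.comp h (RingHom.Smooth.of_bijective (f := e.symm.toRingHom) e.symm.bijective)
      convert h' using 1
      exact RingHom.ext fun a => (e.symm_apply_apply _).symm
    letI := (f.appLE V U₀ e₀).hom.toAlgebra
    haveI : Algebra.Smooth Γ(S, V) Γ(X, U₀) := hsm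
    obtain ⟨s, hs, hstd⟩ := Algebra.Smooth.exists_span_eq_top_isStandardSmooth Γ(S, V) Γ(X, U₀)
    obtain ⟨r, hr, hxr⟩ : ∃ r ∈ s, x ∈ X.basicOpen r := by
      by_contra h
      push Not at h
      have hm : Ideal.span s ≤ (hU₀.primeIdealOf ⟨x, hxU₀⟩).asIdeal := Ideal.span_le.2 fun r hr => by
        by_contra hn
        refine h r hr ?_
        have hp : hU₀.fromSpec (hU₀.primeIdealOf ⟨x, hxU₀⟩) ∈ X.basicOpen r :=
          (hU₀.fromSpec_preimage_basicOpen r).ge hn
        rwa [hU₀.fromSpec_primeIdealOf ⟨x, hxU₀⟩] at hp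
      exact (hU₀.primeIdealOf ⟨x, hxU₀⟩).isPrime.ne_top (top_le_iff.1 (hs ▸ hm))
    refine ⟨X.basicOpen r, hU₀.basicOpen r, hxr, (X.basicOpen_le r).trans e₀, ?_⟩
    letI : Algebra Γ(X, U₀) Γ(X, X.basicOpen r) :=
      (X.presheaf.map (homOfLE (X.basicOpen_le r)).op).hom.toAlgebra
    haveI : IsLocalization.Away r Γ(X, X.basicOpen r) := hU₀.isLocalization_basicOpen r
    letI : Algebra Γ(S, V) Γ(X, X.basicOpen r) := (f.appLE V (X.basicOpen r) ((X.basicOpen_le r).trans e₀)).hom.toAlgebra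
    haveI : IsScalarTower Γ(S, V) Γ(X, U₀) Γ(X, X.basicOpen r) := IsScalarTower.of_algebraMap_eq' (by
      rw [RingHom.algebraMap_toAlgebra, RingHom.algebraMap_toAlgebra, RingHom.algebraMap_toAlgebra, ← CommRingCat.hom_comp,
        Scheme.Hom.appLE_map])
    haveI := hstd r hr
    haveI : Algebra.IsStandardSmooth Γ(S, V) Γ(X, X.basicOpen r) :=
      Algebra.IsStandardSmooth.of_algEquiv
        ((IsLocalization.algEquiv (Submonoid.powers r) (Localization.Away r) Γ(X, X.basicOpen r)).restrictScalars Γ(S, V))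
    exact RingHom.isStandardSmooth_algebraMap.2 this
  · rintro ⟨U, hU, hxU, e, h⟩
    refine ⟨U, hxU, ?_⟩
    haveI : IsAffine U.toScheme := hU
    haveI : IsAffine V.toScheme := hV
    rw [← Scheme.Hom.resLE_comp_ι f e]
    haveI : Smooth (f.resLE V U e) := by
      rw [HasRingHomProperty.iff_of_isAffine (P := @Smooth)]
      rw [RingHom.smooth_iff_locally_isStandardSmooth]
      exact RingHom.locally_of (RingHom.isStandardSmooth_respectsIso) _
        ((RingHom.isStandardSmooth_respectsIso.arrow_mk_iso_iff (arrowResLEAppIso f V U e)).2 h)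
    infer_instance

end Groth.Agent.S9721
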