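import Groth.Statements.S9722
import Mathlib.AlgebraicGeometry.Morphisms.Etale
import Mathlib.RingTheory.Unramified.LocalStructure

set_option backward.isDefEq.respectTransparency.types false

set_option autoImplicit false
universe u
open CategoryTheory AlgebraicGeometry
open Mor

namespace Groth.Agent.S9722

theorem etale_resLE_iff {X S : Scheme.{u}} (f : X ⟶ S) (U : X.Opens) (V : S.Opens) (e : U ≤ f ⁻¹ᵁ V)
    (hU : IsAffineOpen U) (hV : IsAffineOpen V) :
    Etale (U.ι ≫ f) ↔ (f.appLE V U e).hom.Etale := by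
  haveI : IsAffine U := hU
  haveI : IsAffine V := hV
  rw [← RingHom.Etale.respectsIso.arrow_mk_iso_iff (arrowResLEAppIso f V U e), ← Scheme.Hom.resLE_comp_ι f e,
    ← HasRingHomProperty.iff_of_isAffine (P := @Etale)]
  exact ⟨fun h => Etale.of_comp (f.resLE V U e) V.ι, fun h => Etale.etale_comp _ V.ι⟩

/-- Let f : X ⟶ S be a morphism, x a point of X and V an affine open neighbourhood of f(x) in S. Then f
is étale on some open neighbourhood of x if and only if there is an affine open neighbourhood U of x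
with f(U) ⊆ V such that Γ(X, U) is a standard étale algebra over Γ(S, V) through the induced ring
map. -/
theorem result {X S : Scheme.{u}} (f : X ⟶ S) (x : X)
    (V : S.Opens) (hV : IsAffineOpen V) (hxV : f x ∈ V) :
    (∃ W : X.Opens, x ∈ W ∧ Etale (W.ι ≫ f)) ↔
      ∃ (U : X.Opens) (_ : IsAffineOpen U) (_ : x ∈ U) (e : U ≤ f ⁻¹ᵁ V),
        letI := (f.appLE V U e).hom.toAlgebra
        Algebra.IsStandardEtale Γ(S, V) Γ(X, U) := by
  constructor
  · rintro ⟨W, hxW, hW⟩
    obtain ⟨_, ⟨U₀, hU₀, rfl⟩, hxU₀, hle⟩ :=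
      X.isBasis_affineOpens.exists_subset_of_mem_open
        (show x ∈ ((W ⊓ f ⁻¹ᵁ V : X.Opens) : Set X) from ⟨hxW, hxV⟩) (W ⊓ f ⁻¹ᵁ V).2
    have hUW : U₀ ≤ W := fun y hy => (hle hy).1
    have e₀ : U₀ ≤ f ⁻¹ᵁ V := fun y hy => (hle hy).2
    change X.Opens at U₀
    haveI : Etale (U₀.ι ≫ f) := by
      rw [← X.homOfLE_ι (U := U₀) hUW, Category.assoc]
      infer_instance
    have hE : (f.appLE V U₀ e₀).hom.Etale := (etale_resLE_iff f U₀ V e₀ hU₀ hV).1 ‹_›
    algebraize [(f.appLE V U₀ e₀).hom]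
    haveI : Algebra.Etale Γ(S, V) Γ(X, U₀) := hE
    let Q := hU₀.primeIdealOf ⟨x, hxU₀⟩
    obtain ⟨g, hgQ, hg⟩ := Algebra.IsEtaleAt.exists_isStandardEtale (R := Γ(S, V)) Q.asIdeal
    have hxU : x ∈ X.basicOpen g := by
      rw [← hU₀.fromSpec_image_basicOpen g]
      exact ⟨Q, hgQ, hU₀.fromSpec_primeIdealOf ⟨x, hxU₀⟩⟩
    have eU : X.basicOpen g ≤ f ⁻¹ᵁ V := (X.basicOpen_le g).trans e₀
    refine ⟨X.basicOpen g, hU₀.basicOpen g, hxU, eU, ?_⟩
    letI := (f.appLE V (X.basicOpen g) eU).hom.toAlgebra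
    haveI : IsLocalization.Away g Γ(X, X.basicOpen g) := hU₀.isLocalization_basicOpen g
    haveI : IsScalarTower Γ(S, V) Γ(X, U₀) Γ(X, X.basicOpen g) := IsScalarTower.of_algebraMap_eq fun r => by
      show (f.appLE V (X.basicOpen g) eU).hom r = (X.presheaf.map (homOfLE (X.basicOpen_le g)).op).hom ((f.appLE V U₀ e₀).hom r)
      rw [← Scheme.Hom.appLE_map _ e₀ (homOfLE (X.basicOpen_le g)).op]
      rfl
    exact Algebra.IsStandardEtale.of_equiv
      ((IsLocalization.algEquiv (Submonoid.powers g) (Localization.Away g) Γ(X, X.basicOpen g)).restrictScalars Γ(S, V))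
  · rintro ⟨U, hU, hxU, e, hse⟩
    refine ⟨U, hxU, (etale_resLE_iff f U V e hU hV).2 ?_⟩
    letI := (f.appLE V U e).hom.toAlgebra
    haveI : Algebra.IsStandardEtale Γ(S, V) Γ(X, U) := hse
    exact (inferInstance : Algebra.Etale Γ(S, V) Γ(X, U))

end Groth.Agent.S9722
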