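import Groth.Statements.S9723
import Groth.Agent.Lib.FLiftOpen4

set_option autoImplicit false
universe u
open FlatMor

set_option backward.isDefEq.respectTransparency.types false

namespace Groth.Agent.S9723

open AlgebraicGeometry CategoryTheory in
/-- Let f : X ⟶ S be formally étale (unique infinitesimal lifting against square-zero thickenings of
affine schemes), and let U be an open subscheme of X and V an open subscheme of S such that f maps U
into V. Then the restricted morphism U ⟶ V is formally étale. -/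
theorem result {X S : Scheme.{u}} (f : X ⟶ S) (hf : MoreMor.IsFormallyEtaleHom f)
    (U : X.Opens) (V : S.Opens) (h : U ≤ f ⁻¹ᵁ V) : MoreMor.IsFormallyEtaleHom (f.resLE V U h) := by
  intro A _ I hI a b hb
  obtain ⟨l, ⟨hl1, hl2⟩, hlu⟩ := hf A I hI (a ≫ U.ι) (b ≫ V.ι)
    (by rw [reassoc_of% hb, Category.assoc, Scheme.Hom.resLE_comp_ι])
  have hr := Groth.Agent.FLiftOpen4.range_subset I hI l a hl1
  refine ⟨IsOpenImmersion.lift U.ι l hr, ⟨?_, ?_⟩, fun l' ⟨h1, h2⟩ => ?_⟩
  · rw [← cancel_mono U.ι, Category.assoc, IsOpenImmersion.lift_fac, hl1]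
  · rw [← cancel_mono V.ι, Category.assoc, Scheme.Hom.resLE_comp_ι, IsOpenImmersion.lift_fac_assoc, hl2]
  · rw [← cancel_mono U.ι, IsOpenImmersion.lift_fac]
    exact hlu _ ⟨by rw [reassoc_of% h1], by
      rw [Category.assoc, ← Scheme.Hom.resLE_comp_ι f h, reassoc_of% h2]⟩

end Groth.Agent.S9723
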