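import Groth.Statements.S9725
import Groth.Agent.Lib.Dev4.SmoothDivisor

set_option autoImplicit false
universe u
open FlatMor
set_option maxSynthPendingDepth 3
open TensorProduct

set_option backward.isDefEq.respectTransparency.types false

namespace Groth.Agent.S9725



open AlgebraicGeometry CategoryTheory Limits TensorProduct

theorem algebra_smooth_appLE {X S : Scheme.{u}} (f : X ⟶ S) {U : X.Opens} (hU : IsAffineOpen U) {V : S.Opens}
    (hV : IsAffineOpen V) (e : U ≤ f ⁻¹ᵁ V) (hs : Smooth (U.ι ≫ f)) :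
    letI := (f.appLE V U e).hom.toAlgebra
    Algebra.Smooth Γ(S, V) Γ(X, U) := by
  letI := (f.appLE V U e).hom.toAlgebra
  haveI : Smooth (Spec.map (f.appLE V U e) ≫ hV.fromSpec) := by
    rw [IsAffineOpen.SpecMap_appLE_fromSpec f hV hU e]
    have : hU.fromSpec ≫ f = hU.isoSpec.inv ≫ U.ι ≫ f := by rw [IsAffineOpen.isoSpec_inv_ι_assoc]
    rw [this]
    haveI := hs
    infer_instance
  have h1 : Smooth (Spec.map (f.appLE V U e)) :=
    MorphismProperty.of_postcomp (W := @Smooth) (W' := @IsOpenImmersion) _ hV.fromSpec inferInstance ‹_›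
  exact RingHom.smooth_algebraMap.1 ((HasRingHomProperty.Spec_iff (P := @Smooth)).1 h1)

theorem smooth_composite {X S : Scheme.{u}} (f : X ⟶ S) {U : X.Opens} (hU : IsAffineOpen U) {V : S.Opens}
    (hV : IsAffineOpen V) (e : U ≤ f ⁻¹ᵁ V) (h : Γ(X, U))
    (hs : letI := (f.appLE V U e).hom.toAlgebra
      Algebra.Smooth Γ(S, V) (Γ(X, U) ⧸ Ideal.span {h})) :
    Smooth (Spec.map (CommRingCat.ofHom (Ideal.Quotient.mk (Ideal.span {h}))) ≫ hU.fromSpec ≫ f) := by
  letI := (f.appLE V U e).hom.toAlgebra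
  rw [← IsAffineOpen.SpecMap_appLE_fromSpec f hV hU e, ← Category.assoc, ← Spec.map_comp]
  haveI : Smooth (Spec.map (f.appLE V U e ≫ CommRingCat.ofHom (Ideal.Quotient.mk (Ideal.span {h})))) :=
    (HasRingHomProperty.Spec_iff (P := @Smooth)).2 (RingHom.smooth_algebraMap.2 hs)
  infer_instance

open AlgebraicGeometry CategoryTheory Limits in
/-- Let f : X ⟶ S be a morphism and x a point such that f is smooth on an open neighbourhood of x, and
let h be an element of the maximal ideal of the local ring O_{X,x} such that the image of dh in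
Ω_{O_{X,x}/O_{S,f x}} ⊗ κ(x) (the fibre at x of the sheaf of differentials of X over S) is nonzero.
Then there are an affine open U ∋ x and a nonzerodivisor h' of Γ(X, U) with germ h at x such that
the closed subscheme V(h') of U, an effective Cartier divisor through x, is smooth over S. -/
theorem result {X S : Scheme.{u}} (f : X ⟶ S) (x : X)
    (W : X.Opens) (hxW : x ∈ W) (hW : Smooth (W.ι ≫ f))
    (h : ↑(X.presheaf.stalk x)) (hm : h ∈ IsLocalRing.maximalIdeal ↑(X.presheaf.stalk x))
    (hd : letI := (f.stalkMap x).hom.toAlgebra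
      (1 : IsLocalRing.ResidueField ↑(X.presheaf.stalk x)) ⊗ₜ[↑(X.presheaf.stalk x)]
          (KaehlerDifferential.D ↑(S.presheaf.stalk (f x)) ↑(X.presheaf.stalk x) h) ≠ 0) :
    ∃ (U : X.Opens) (hU : IsAffineOpen U) (hx : x ∈ U) (h' : Γ(X, U)), X.presheaf.germ U x hx h' = h ∧
      h' ∈ nonZeroDivisors Γ(X, U) ∧
      Smooth (Spec.map (CommRingCat.ofHom (Ideal.Quotient.mk (Ideal.span {h'}))) ≫ hU.fromSpec ≫ f) := by
  classical
  obtain ⟨V, hV, hfx, -⟩ := exists_isAffineOpen_mem_and_subset (X := S) (x := f x) (U := ⊤) trivial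
  obtain ⟨O', hO', sO, rfl⟩ := X.presheaf.exists_germ_eq h
  obtain ⟨U, hU, hxU, hUle⟩ := exists_isAffineOpen_mem_and_subset (X := X) (x := x) (U := f ⁻¹ᵁ V ⊓ W ⊓ O')
    ⟨⟨hfx, hxW⟩, hO'⟩
  have e : U ≤ f ⁻¹ᵁ V := fun y hy => (hUle hy).1.1
  have hUW : U ≤ W := fun y hy => (hUle hy).1.2
  have hUO : U ≤ O' := fun y hy => (hUle hy).2
  haveI := hW
  have hsU : Smooth (U.ι ≫ f) := by
    rw [← X.homOfLE_ι hUW, Category.assoc]
    infer_instance
  let R := Γ(S, V)
  let B := Γ(X, U)
  let Os := S.presheaf.stalk (f x)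
  let L := X.presheaf.stalk x
  letI : Algebra R B := (f.appLE V U e).hom.toAlgebra
  haveI : Algebra.Smooth R B := algebra_smooth_appLE f hU hV e hsU
  letI aOL : Algebra Os L := (f.stalkMap x).hom.toAlgebra
  letI := S.presheaf.algebra_section_stalk (U := V) ⟨f x, e hxU⟩
  letI := X.presheaf.algebra_section_stalk (U := U) ⟨x, hxU⟩
  letI : Algebra R L := ((algebraMap B L).comp (algebraMap R B)).toAlgebra
  haveI : IsScalarTower R B L := IsScalarTower.of_algebraMap_eq fun _ => rfl
  haveI : IsScalarTower R Os L := IsScalarTower.of_algebraMap_eq fun r => by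
    show X.presheaf.germ U x hxU (f.appLE V U e r) = f.stalkMap x (S.presheaf.germ V (f x) (e hxU) r)
    erw [Scheme.Hom.germ_stalkMap_apply]
    exact X.presheaf.germ_res_apply (homOfLE e) x hxU _
  let q := (hU.primeIdealOf ⟨x, hxU⟩).asIdeal
  haveI : IsLocalization.AtPrime L q := hU.isLocalization_stalk ⟨x, hxU⟩
  haveI : Algebra.FormallySmooth R L :=
    haveI : Algebra.FormallySmooth B L := Algebra.FormallySmooth.of_isLocalization q.primeCompl
    Algebra.FormallySmooth.comp R B L
  haveI : IsLocalization.AtPrime Os (hV.primeIdealOf ⟨f x, e hxU⟩).asIdeal := hV.isLocalization_stalk ⟨f x, e hxU⟩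
  haveI : Algebra.FormallyUnramified R Os :=
    Algebra.FormallyUnramified.of_isLocalization (hV.primeIdealOf ⟨f x, e hxU⟩).asIdeal.primeCompl
  haveI : Algebra.FormallySmooth Os L := Algebra.FormallySmooth.of_restrictScalars R Os L
  haveI : Module.Projective L Ω[L⁄Os] := Algebra.FormallySmooth.projective_kaehlerDifferential
  obtain ⟨φ, hφ⟩ := Dev4.exists_functional (KaehlerDifferential.D Os L (X.presheaf.germ O' x hO' sO)) hd
  let h₀ : B := X.presheaf.map (homOfLE hUO).op sO
  have hh₀ : algebraMap B L h₀ = X.presheaf.germ O' x hO' sO := X.presheaf.germ_res_apply (homOfLE hUO) x hxU sO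
  obtain ⟨g, hg, hgB⟩ := Dev4.exists_smooth_divisor (R := R) (B := B) q Os L h₀ φ (by rw [hh₀]; exact hφ)
  have hxg : x ∈ X.basicOpen g := by
    rw [Scheme.mem_basicOpen X g x hxU]
    exact IsLocalization.map_units L (⟨g, hg⟩ : q.primeCompl)
  have hU' : IsAffineOpen (X.basicOpen g) := hU.basicOpen g
  have e' : X.basicOpen g ≤ f ⁻¹ᵁ V := (X.basicOpen_le g).trans e
  letI : Algebra R Γ(X, X.basicOpen g) := (f.appLE V (X.basicOpen g) e').hom.toAlgebra
  haveI : IsScalarTower R B Γ(X, X.basicOpen g) := IsScalarTower.of_algebraMap_eq fun r => by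
    show f.appLE V (X.basicOpen g) e' r = X.presheaf.map (homOfLE (X.basicOpen_le g)).op (f.appLE V U e r)
    rw [← CategoryTheory.comp_apply, Scheme.Hom.appLE_map]
  haveI := hU.isLocalization_basicOpen g
  obtain ⟨hnzd, hsm⟩ := hgB Γ(X, X.basicOpen g)
  refine ⟨X.basicOpen g, hU', hxg, algebraMap B Γ(X, X.basicOpen g) h₀, ?_, hnzd,
    smooth_composite f hU' hV e' _ hsm⟩
  show X.presheaf.germ (X.basicOpen g) x hxg (X.presheaf.map (homOfLE (X.basicOpen_le g)).op h₀) = _
  rw [X.presheaf.germ_res_apply (homOfLE (X.basicOpen_le g)) x hxg h₀]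
  exact hh₀

end Groth.Agent.S9725
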