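import Groth.Statements.S9724
import Groth.Agent.S9725
import Groth.Agent.Lib.Goren15.Scheme

set_option autoImplicit false
universe u
open FlatMor
set_option maxSynthPendingDepth 3
open TensorProduct

set_option backward.isDefEq.respectTransparency.types false

namespace Groth.Agent.S9724



open AlgebraicGeometry CategoryTheory Limits TensorProduct

theorem essFiniteType_stalkMap {X S : Scheme.{u}} (f : X ⟶ S) (x : X) (W : X.Opens) (hxW : x ∈ W) (hW : Smooth (W.ι ≫ f)) :
    letI := (f.stalkMap x).hom.toAlgebra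
    Algebra.EssFiniteType (S.presheaf.stalk (f x)) (X.presheaf.stalk x) := by
  letI := (f.stalkMap x).hom.toAlgebra
  obtain ⟨V, hV, hfx, -⟩ := exists_isAffineOpen_mem_and_subset (X := S) (x := f x) (U := ⊤) trivial
  obtain ⟨U, hU, hxU, hUle⟩ := exists_isAffineOpen_mem_and_subset (X := X) (x := x) (U := f ⁻¹ᵁ V ⊓ W) ⟨hfx, hxW⟩
  have e : U ≤ f ⁻¹ᵁ V := fun y hy => (hUle hy).1
  haveI := hW
  have hsU : Smooth (U.ι ≫ f) := by
    rw [← X.homOfLE_ι (show U ≤ W from fun y hy => (hUle hy).2), Category.assoc]
    infer_instance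
  let R := Γ(S, V)
  let B := Γ(X, U)
  let Os := S.presheaf.stalk (f x)
  let L := X.presheaf.stalk x
  letI : Algebra R B := (f.appLE V U e).hom.toAlgebra
  haveI : Algebra.Smooth R B := S9725.algebra_smooth_appLE f hU hV e hsU
  letI := S.presheaf.algebra_section_stalk (U := V) ⟨f x, e hxU⟩
  letI := X.presheaf.algebra_section_stalk (U := U) ⟨x, hxU⟩
  letI : Algebra R L := ((algebraMap B L).comp (algebraMap R B)).toAlgebra
  haveI : IsScalarTower R B L := IsScalarTower.of_algebraMap_eq fun _ => rfl
  haveI : IsScalarTower R Os L := IsScalarTower.of_algebraMap_eq fun r => by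
    show X.presheaf.germ U x hxU (f.appLE V U e r) = f.stalkMap x (S.presheaf.germ V (f x) (e hxU) r)
    erw [Scheme.Hom.germ_stalkMap_apply]
    exact X.presheaf.germ_res_apply (homOfLE e) x hxU _
  haveI : IsLocalization.AtPrime L (hU.primeIdealOf ⟨x, hxU⟩).asIdeal := hU.isLocalization_stalk ⟨x, hxU⟩
  haveI : Algebra.EssFiniteType B L := Algebra.EssFiniteType.of_isLocalization L (hU.primeIdealOf ⟨x, hxU⟩).asIdeal.primeCompl
  haveI : Algebra.EssFiniteType R L := Algebra.EssFiniteType.comp R B L
  exact Algebra.EssFiniteType.of_comp R Os L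

open AlgebraicGeometry CategoryTheory Limits in
/-- Let f : X ⟶ S be a morphism and x a point such that f is smooth on an open neighbourhood of x, the
residue field extension κ(x)/κ(f x) is separable (formally smooth), and x is not the generic point
of any irreducible component of the fibre over f x, i.e. (the fibre being smooth over a field near
x) the maximal ideal of the local ring of the fibre at x is nonzero. Then there are an affine open U
∋ x and a nonzerodivisor h' of Γ(X, U) vanishing at x such that the closed subscheme V(h') of U, an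
effective Cartier divisor through x, is smooth over S. -/
theorem result {X S : Scheme.{u}} (f : X ⟶ S) (x : X)
    (W : X.Opens) (hxW : x ∈ W) (hW : Smooth (W.ι ≫ f))
    (hsep : letI := (f.residueFieldMap x).hom.toAlgebra
      Algebra.FormallySmooth (S.residueField (f x)) (X.residueField x))
    (hgen : IsLocalRing.maximalIdeal ↑((f.fiber (f x)).presheaf.stalk (f.asFiber x)) ≠ ⊥) :
    ∃ (U : X.Opens) (hU : IsAffineOpen U) (hx : x ∈ U) (h' : Γ(X, U)), h' ∈ nonZeroDivisors Γ(X, U) ∧
      X.presheaf.germ U x hx h' ∈ IsLocalRing.maximalIdeal ↑(X.presheaf.stalk x) ∧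
      Smooth (Spec.map (CommRingCat.ofHom (Ideal.Quotient.mk (Ideal.span {h'}))) ≫ hU.fromSpec ≫ f) := by
  letI := (f.stalkMap x).hom.toAlgebra
  haveI : IsLocalHom (algebraMap (S.presheaf.stalk (f x)) (X.presheaf.stalk x)) :=
    inferInstanceAs (IsLocalHom (f.stalkMap x).hom)
  haveI := essFiniteType_stalkMap f x W hxW hW
  obtain ⟨h, hm, hd⟩ := Dev4.exists_differential_ne_zero (O := S.presheaf.stalk (f x)) (L := X.presheaf.stalk x) hsep (fun hle => hgen (by
    obtain ⟨e⟩ := Goren15.nonempty_asFiberEquiv f x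
    rw [eq_bot_iff]
    intro v hv
    obtain ⟨w, rfl⟩ := e.surjective v
    obtain ⟨l, rfl⟩ := Ideal.Quotient.mk_surjective w
    have hl : l ∈ IsLocalRing.maximalIdeal (X.presheaf.stalk x) := fun hu => hv ((hu.map (Ideal.Quotient.mk _)).map e)
    rw [Submodule.mem_bot, Ideal.Quotient.eq_zero_iff_mem.2 (show l ∈ Ideal.map (f.stalkMap x).hom _ from hle hl), map_zero]))
  obtain ⟨U, hU, hx, h', hgerm, hnzd, hsm⟩ := S9725.result f x W hxW hW h hm hd
  exact ⟨U, hU, hx, h', hnzd, hgerm.symm ▸ hm, hsm⟩

end Groth.Agent.S9724
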