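import Groth.Statements.S9728
import Groth.Agent.Lib.CI2.RImmSmooth
import Groth.Agent.Lib.CI2.KoszulDesc
import Mathlib

set_option autoImplicit false
universe u
open FlatMor

set_option backward.isDefEq.respectTransparency.types false

namespace Groth.Agent.S9728

open AlgebraicGeometry CategoryTheory Limits in
/-- Given S-schemes U, P, P' with P and P' smooth over S, immersions i : U ⟶ P and i' : U ⟶ P'
compatible with the structure maps to S, and a point u of U, some restriction of i to an open
neighbourhood of u is a Koszul-regular immersion exactly when some restriction of i' to an open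
neighbourhood of u is. -/
theorem result {S U P P' : Scheme.{u}} (q : U ⟶ S)
    (p : P ⟶ S) (p' : P' ⟶ S) [Smooth p] [Smooth p'] (i : U ⟶ P) (i' : U ⟶ P') [IsImmersion i] [IsImmersion i']
    (hi : i ≫ p = q) (hi' : i' ≫ p' = q) (u : U) :
    (∃ V : U.Opens, u ∈ V ∧ RegImm.IsRegularImmersion RegImm.Kind.koszul (V.ι ≫ i)) ↔
      (∃ V : U.Opens, u ∈ V ∧ RegImm.IsRegularImmersion RegImm.Kind.koszul (V.ι ≫ i')) := by
  suffices h : ∀ V : U.Opens, RegImm.IsRegularImmersion RegImm.Kind.koszul (V.ι ≫ i) ↔
      RegImm.IsRegularImmersion RegImm.Kind.koszul (V.ι ≫ i') from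
    exists_congr fun V => and_congr_right fun _ => h V
  intro V
  have hw : (V.ι ≫ i) ≫ p = (V.ι ≫ i') ≫ p' := by rw [Category.assoc, Category.assoc, hi, hi']
  let k := pullback.lift (V.ι ≫ i) (V.ι ≫ i') hw
  haveI : IsImmersion k := by
    haveI : IsImmersion (k ≫ pullback.fst p p') := by rw [pullback.lift_fst]; infer_instance
    exact IsImmersion.of_comp k (pullback.fst p p')
  haveI : Smooth (pullback.fst p p') := inferInstance
  haveI : Smooth (pullback.snd p p') := inferInstance
  exact (CI2.koszul_iff_of_smooth_comp (V.ι ≫ i) k (pullback.fst p p') (pullback.lift_fst _ _ _)).trans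
    (CI2.koszul_iff_of_smooth_comp (V.ι ≫ i') k (pullback.snd p p') (pullback.lift_snd _ _ _)).symm

end Groth.Agent.S9728
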