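import Groth.Statements.S9734
import Groth.Agent.Lib.EtaleRes4.Ext
import Groth.Agent.Lib.UnivHomeo.Basic

set_option autoImplicit false
universe u
open FlatMor

set_option backward.isDefEq.respectTransparency.types false

namespace Groth.Agent.S9734


set_option backward.isDefEq.respectTransparency.types false in
open AlgebraicGeometry CategoryTheory Limits in
theorem affine_case {R : CommRingCat.{u}} (S : Scheme.{u}) (j : Spec R ⟶ S) [IsOpenImmersion j] (x : Spec R)
    (k : Type u) [Field k] [Algebra (S.residueField (j x)) k] [FiniteDimensional (S.residueField (j x)) k]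
    [Algebra.IsSeparable (S.residueField (j x)) k] :
    ∃ (U : Scheme.{u}) (g : U ⟶ S) (u : U) (hu : g u = j x), Etale g ∧
      letI := ((S.residueFieldCongr hu).inv ≫ g.residueFieldMap u).hom.toAlgebra
      Nonempty (k ≃ₐ[S.residueField (j x)] U.residueField u) := by
  let eI : S.residueField (j x) ≅ CommRingCat.of x.asIdeal.ResidueField :=
    asIso (j.residueFieldMap x) ≪≫ Scheme.Spec.residueFieldIso R x
  let e : S.residueField (j x) ≃+* x.asIdeal.ResidueField := eI.commRingCatIsoToRingEquiv
  letI : Algebra x.asIdeal.ResidueField k :=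
    ((algebraMap (S.residueField (j x)) k).comp e.symm.toRingHom).toAlgebra
  have hk : ∀ z, algebraMap x.asIdeal.ResidueField k (e z) = algebraMap _ k z := fun z => by
    show algebraMap (S.residueField (j x)) k (e.symm (e z)) = _
    rw [e.symm_apply_apply]
  letI : Algebra R k := ((algebraMap x.asIdeal.ResidueField k).comp (algebraMap R _)).toAlgebra
  haveI : IsScalarTower R x.asIdeal.ResidueField k := IsScalarTower.of_algebraMap_eq' rfl
  letI : Algebra (S.residueField (j x)) x.asIdeal.ResidueField := e.toRingHom.toAlgebra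
  haveI : IsScalarTower (S.residueField (j x)) x.asIdeal.ResidueField k :=
    IsScalarTower.of_algebraMap_eq fun z => (hk z).symm
  haveI : Module.Finite x.asIdeal.ResidueField k :=
    Module.Finite.of_restrictScalars_finite (S.residueField (j x)) _ _
  haveI : Algebra.IsSeparable x.asIdeal.ResidueField k :=
    Algebra.isSeparable_tower_top_of_isSeparable (S.residueField (j x)) _ _
  obtain ⟨R', _, _, _, q, _, hq, ⟨Φ⟩⟩ := Groth.Agent.ER4.exists_etale_residueField_ext x.asIdeal k
  let φ := CommRingCat.ofHom (algebraMap R R')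
  let u : Spec (CommRingCat.of R') := ⟨q, inferInstance⟩
  have hφ : (Spec.map φ) u = x := PrimeSpectrum.ext hq
  have hu : (Spec.map φ ≫ j) u = j x := by rw [Scheme.Hom.comp_apply, hφ]
  haveI : Etale (Spec.map φ) :=
    HasRingHomProperty.Spec_iff.mpr (RingHom.etale_algebraMap.mpr inferInstance)
  refine ⟨_, Spec.map φ ≫ j, u, hu, inferInstance, ?_⟩
  let θ := (Scheme.Spec.residueFieldIso (CommRingCat.of R') u).commRingCatIsoToRingEquiv
  let Θ : k ≃+* (Spec (CommRingCat.of R')).residueField u := Φ.toRingEquiv.trans θ.symm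
  letI : Algebra (S.residueField (j x)) ((Spec (CommRingCat.of R')).residueField u) :=
    ((S.residueFieldCongr hu).inv ≫ (Spec.map φ ≫ j).residueFieldMap u).hom.toAlgebra
  refine ⟨AlgEquiv.ofRingEquiv (f := Θ) ?_⟩
  intro z
  obtain ⟨w, rfl⟩ := e.symm.surjective z
  refine RingHom.congr_fun (f := (Θ.toRingHom.comp ((algebraMap (S.residueField (j x)) k).comp e.symm.toRingHom)))
    (g := ((S.residueFieldCongr hu).inv ≫ (Spec.map φ ≫ j).residueFieldMap u).hom.comp e.symm.toRingHom) ?_ w
  refine Ideal.ResidueField.ringHom_ext (RingHom.ext fun r => ?_)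
  show θ.symm (Φ (algebraMap R k r)) = _
  rw [AlgEquiv.commutes]
  have hl : θ.symm (algebraMap R q.ResidueField r) =
      Groth.Agent.UH.ev (CommRingCat.of R') u (algebraMap R R' r) := by
    rw [Groth.Agent.UH.ev_eq, IsScalarTower.algebraMap_apply R R' q.ResidueField]
    rfl
  rw [hl, ← Groth.Agent.UH.residueFieldMap_ev]
  have hcongr : ∀ (y : Spec R) (h : y = x) (h' : j y = j x),
      j.residueFieldMap y ((S.residueFieldCongr h').inv (e.symm (algebraMap R x.asIdeal.ResidueField r))) =
        Groth.Agent.UH.ev R y r := by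
    rintro y rfl h'
    show (eI.inv ≫ (S.residueFieldCongr h').inv ≫ j.residueFieldMap y) (algebraMap R _ r) = _
    rw [Groth.Agent.UH.ev_eq]
    simp [eI]
    exact congr($(Scheme.Spec.algebraMap_residueFieldIso_inv R y) r)
  show _ = ((S.residueFieldCongr hu).inv ≫ (Spec.map φ ≫ j).residueFieldMap u) _
  rw [Scheme.residueFieldMap_comp]
  exact congrArg ((Spec.map φ).residueFieldMap u) (hcongr _ hφ hu).symm

open AlgebraicGeometry CategoryTheory Limits in
/-- Let S be a scheme, s a point of S and k a finite separable field extension of the residue field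
κ(s). Then there is an étale neighbourhood (U, u) ⟶ (S, s) whose residue field extension κ(u)/κ(s)
is isomorphic to k/κ(s). -/
theorem result (S : Scheme.{u}) (s : S) (k : Type u) [Field k]
    [Algebra (S.residueField s) k] [FiniteDimensional (S.residueField s) k] [Algebra.IsSeparable (S.residueField s) k] :
    ∃ (U : Scheme.{u}) (g : U ⟶ S) (u : U) (hu : g u = s), Etale g ∧
      letI := ((S.residueFieldCongr hu).inv ≫ g.residueFieldMap u).hom.toAlgebra
      Nonempty (k ≃ₐ[S.residueField s] U.residueField u) := by
  obtain ⟨i, x, rfl⟩ : ∃ i x, S.affineOpenCover.f i x = s := ⟨S.affineOpenCover.idx s, S.affineOpenCover.covers s⟩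
  exact affine_case S (S.affineOpenCover.f i) x k

end Groth.Agent.S9734
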