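import Groth.Statements.S9736
import Groth.Agent.S9148

set_option autoImplicit false
universe u
open FlatMor

namespace Groth.Agent.S9736

open scoped TensorProduct

open AlgebraicGeometry CategoryTheory Limits in
/-- Let f : X ⟶ S be a standard syntomic morphism of affine schemes. Then f is the base change of a
morphism of finite type f₀ : X₀ ⟶ S₀ between affine schemes with S₀ of finite type over ℤ and f₀
standard syntomic. -/
theorem result {X S : Scheme.{u}} (f : X ⟶ S) [IsAffine X] [IsAffine S] (hf : Synt.IsStandardSyntomic f) :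
    ∃ (X₀ S₀ : Scheme.{u}) (f₀ : X₀ ⟶ S₀) (g : S ⟶ S₀) (g' : X ⟶ X₀), IsAffine X₀ ∧ IsAffine S₀ ∧ IsPullback g' f f₀ g ∧
      Algebra.FiniteType ℤ Γ(S₀, ⊤) ∧ LocallyOfFiniteType f₀ ∧ Synt.IsStandardSyntomic f₀ := by
  obtain ⟨R, _, n, c, F, hF, e₁, e₂, he⟩ := hf
  obtain ⟨R₀, F₀, hft, hmap, hR₀⟩ := Groth.Agent.S9148.result R n c F hF
  obtain rfl : (fun i => MvPolynomial.map (algebraMap R₀ R) (F₀ i)) = F := funext hmap
  obtain ⟨E, -⟩ := Groth.Agent.S9148.exists_equiv (B := R) F₀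
  letI : Algebra (Synt.RelGCIRing R₀ n c F₀) (R ⊗[R₀] Synt.RelGCIRing R₀ n c F₀) :=
    Algebra.TensorProduct.rightAlgebra
  haveI : IsScalarTower R₀ (Synt.RelGCIRing R₀ n c F₀) (R ⊗[R₀] Synt.RelGCIRing R₀ n c F₀) :=
    Algebra.TensorProduct.right_isScalarTower
  haveI : Algebra.IsPushout R₀ R (Synt.RelGCIRing R₀ n c F₀) (R ⊗[R₀] Synt.RelGCIRing R₀ n c F₀) :=
    TensorProduct.isPushout
  have hq := CommRingCat.isPushout_of_isPushout R₀ R (Synt.RelGCIRing R₀ n c F₀)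
    (R ⊗[R₀] Synt.RelGCIRing R₀ n c F₀)
  let ε : CommRingCat.of (R ⊗[R₀] Synt.RelGCIRing R₀ n c F₀) ≅
      CommRingCat.of (Synt.RelGCIRing R n c fun i => MvPolynomial.map (algebraMap R₀ R) (F₀ i)) :=
    E.toRingEquiv.toCommRingCatIso
  let f₀ := Spec.map (CommRingCat.ofHom (algebraMap R₀ (Synt.RelGCIRing R₀ n c F₀)))
  haveI : LocallyOfFiniteType f₀ :=
    (HasRingHomProperty.Spec_iff (P := @LocallyOfFiniteType)).2
      (RingHom.finiteType_algebraMap.2 inferInstance)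
  refine ⟨_, _, f₀, e₂.hom ≫ Spec.map (CommRingCat.ofHom (algebraMap R₀ R)),
    e₁.hom ≫ Spec.map ε.hom ≫
      Spec.map (CommRingCat.ofHom (algebraMap (Synt.RelGCIRing R₀ n c F₀) (R ⊗[R₀] Synt.RelGCIRing R₀ n c F₀))),
    inferInstance, inferInstance, ?_, ?_, inferInstance, ?_⟩
  · refine (isPullback_SpecMap_of_isPushout _ _ _ _ hq).flip.of_iso
      ((e₁ ≪≫ Scheme.Spec.mapIso ε.op).symm) (Iso.refl _) e₂.symm (Iso.refl _) ?_ ?_ ?_ ?_
    · simp [← Spec.map_comp_assoc]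
    · show Spec.map (CommRingCat.ofHom (algebraMap R (R ⊗[R₀] Synt.RelGCIRing R₀ n c F₀))) ≫ e₂.inv = _
      rw [Iso.symm_hom, Iso.trans_inv, Category.assoc, ← cancel_mono e₂.hom, Category.assoc,
        Category.assoc, Category.assoc, Iso.inv_hom_id, Category.comp_id, ← he, Iso.inv_hom_id_assoc,
        Functor.mapIso_inv, Iso.op_inv]
      show _ = Spec.map ε.inv ≫ Spec.map _
      rw [← Spec.map_comp]
      congr 1
      ext r
      exact (E.symm.commutes r).symm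
    · simp [f₀]
    · simp
  · let e := (Scheme.ΓSpecIso (CommRingCat.of R₀)).symm.commRingCatIsoToRingEquiv
    exact hft.equiv e.toIntAlgEquiv
  · exact ⟨R₀, inferInstance, n, c, F₀, hR₀, Iso.refl _, Iso.refl _, by simp [f₀]⟩

end Groth.Agent.S9736
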