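import Groth.Statements.S9737
import Groth.Agent.Lib.FlatH4.NoethApprox
import Groth.Agent.Lib.FlatH4.DescendIso
import Mathlib.RingTheory.Adjoin.FG
import Mathlib.RingTheory.FiniteStability
import Mathlib.RingTheory.FiniteType

set_option autoImplicit false
universe u
open FlatMor

namespace Groth.Agent.S9737

open TensorProduct

/-- A common finite type `ℤ`-algebra above two. -/
theorem exists_common (R₁ R₂ A : Type u) [CommRing R₁] [CommRing R₂] [CommRing A] [Algebra R₁ A]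
    [Algebra R₂ A] (h₁ : Algebra.FiniteType ℤ R₁) (h₂ : Algebra.FiniteType ℤ R₂) :
    ∃ (R : Type u) (_ : CommRing R) (_ : Algebra R A) (_ : Algebra R₁ R) (_ : Algebra R₂ R)
      (_ : IsScalarTower R₁ R A) (_ : IsScalarTower R₂ R A), Algebra.FiniteType ℤ R := by
  have hft : Algebra.FiniteType ℤ (R₁ ⊗[ℤ] R₂) := Algebra.FiniteType.trans (S := R₁) h₁
    (Algebra.FiniteType.baseChange R₁)
  let l : R₁ ⊗[ℤ] R₂ →ₐ[ℤ] A := Algebra.TensorProduct.lift (algebraMap R₁ A).toIntAlgHom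
    (algebraMap R₂ A).toIntAlgHom fun _ _ => Commute.all _ _
  let i₁ : R₁ →+* R₁ ⊗[ℤ] R₂ := Algebra.TensorProduct.includeLeftRingHom
  let i₂ : R₂ →+* R₁ ⊗[ℤ] R₂ := Algebra.TensorProduct.includeRight.toRingHom
  exact ⟨R₁ ⊗[ℤ] R₂, inferInstance, l.toRingHom.toAlgebra, i₁.toAlgebra, i₂.toAlgebra,
    @IsScalarTower.of_algebraMap_eq _ _ _ _ _ _ i₁.toAlgebra l.toRingHom.toAlgebra _
      (fun x => show algebraMap R₁ A x = l (x ⊗ₜ 1) by simp [l]),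
    @IsScalarTower.of_algebraMap_eq _ _ _ _ _ _ i₂.toAlgebra l.toRingHom.toAlgebra _
      (fun x => show algebraMap R₂ A x = l (1 ⊗ₜ x) by simp [l]), hft⟩

open AlgebraicGeometry CategoryTheory Limits TensorProduct in
/-- Data extracted from one affine approximation. -/
theorem extract {X S X₁ S₁ : Scheme.{u}} (f : X ⟶ S) [IsAffine X] [IsAffine S] [IsAffine X₁] [IsAffine S₁]
    (f₁ : X₁ ⟶ S₁) (g₁ : S ⟶ S₁) (g₁' : X ⟶ X₁) (h₁ : IsPullback g₁' f f₁ g₁) :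
    letI := f.appTop.hom.toAlgebra
    letI := f₁.appTop.hom.toAlgebra
    letI := g₁.appTop.hom.toAlgebra
    Nonempty (Γ(S, ⊤) ⊗[Γ(S₁, ⊤)] Γ(X₁, ⊤) ≃ₐ[Γ(S, ⊤)] Γ(X, ⊤)) := by
  algebraize [f.appTop.hom, f₁.appTop.hom, g₁.appTop.hom, g₁'.appTop.hom]
  let _ : Algebra Γ(S₁, ⊤) Γ(X, ⊤) := ((g₁' ≫ f₁).appTop).hom.toAlgebra
  have : IsScalarTower Γ(S₁, ⊤) Γ(X₁, ⊤) Γ(X, ⊤) := IsScalarTower.of_algebraMap_eq fun r => by
    show (g₁' ≫ f₁).appTop r = g₁'.appTop (f₁.appTop r)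
    rw [Scheme.Hom.comp_appTop]; rfl
  have : IsScalarTower Γ(S₁, ⊤) Γ(S, ⊤) Γ(X, ⊤) := IsScalarTower.of_algebraMap_eq fun r => by
    show (g₁' ≫ f₁).appTop r = f.appTop (g₁.appTop r)
    rw [h₁.w, Scheme.Hom.comp_appTop]; rfl
  have hsq : IsPullback (Spec.map g₁'.appTop) (Spec.map f.appTop) (Spec.map f₁.appTop)
      (Spec.map g₁.appTop) :=
    h₁.of_iso X.isoSpec X₁.isoSpec S.isoSpec S₁.isoSpec (Scheme.isoSpec_hom_naturality g₁').symm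
      (Scheme.isoSpec_hom_naturality f).symm (Scheme.isoSpec_hom_naturality f₁).symm
      (Scheme.isoSpec_hom_naturality g₁).symm
  have hrange := (CommRingCat.isPushout_tensorProduct Γ(S₁, ⊤) Γ(S, ⊤) Γ(X₁, ⊤))
  have hP := isPullback_SpecMap_of_isPushout _ _ _ _ hrange
  let i := hsq.flip.isoIsPullback _ _ hP
  let φ := Spec.preimage i.inv
  have hφ1 : CommRingCat.ofHom (Algebra.TensorProduct.includeLeftRingHom) = f.appTop ≫ φ := by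
    apply Spec.map_injective
    rw [Spec.map_comp, Spec.map_preimage]
    exact (hsq.flip.isoIsPullback_inv_fst _ _ hP).symm
  have : IsIso φ := by
    have h1 : IsIso (Spec.map φ) := by rw [Spec.map_preimage]; infer_instance
    exact ⟨Spec.preimage (inv (Spec.map φ)), Spec.map_injective (by simp), Spec.map_injective (by simp)⟩
  refine ⟨AlgEquiv.ofRingEquiv (f := (asIso φ).commRingCatIsoToRingEquiv.symm) fun x => ?_⟩
  rw [RingEquiv.symm_apply_eq]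
  exact DFunLike.congr_fun (congrArg CommRingCat.Hom.hom hφ1) x

open AlgebraicGeometry CategoryTheory Limits TensorProduct in
theorem transfer (P : MorphismProperty Scheme.{u}) [P.IsStableUnderBaseChange] {X₁ S₁ : Scheme.{u}}
    [IsAffine X₁] [IsAffine S₁] (f₁ : X₁ ⟶ S₁) (hP : P f₁)
    {R₀ C : Type u} [CommRing R₀] [CommRing C] [Algebra R₀ C] [Algebra Γ(S₁, ⊤) R₀]
    (e : letI := f₁.appTop.hom.toAlgebra; R₀ ⊗[Γ(S₁, ⊤)] Γ(X₁, ⊤) ≃ₐ[R₀] C) :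
    P (Spec.map (CommRingCat.ofHom (algebraMap R₀ C))) := by
  let _ := f₁.appTop.hom.toAlgebra
  have h := Groth.Agent.FlatH4.isPullback_SpecMap_of_algEquiv e
  refine P.of_isPullback h ?_
  show P (Spec.map f₁.appTop)
  exact (P.arrow_mk_iso_iff (Arrow.isoMk X₁.isoSpec S₁.isoSpec (Scheme.isoSpec_hom_naturality f₁))).1 hP


open AlgebraicGeometry CategoryTheory Limits in
/-- Suppose P and Q are classes of morphisms of schemes preserved by arbitrary pullback, and f : X ⟶ S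
is a finitely presented morphism of affine schemes. If f arises by pullback from a finite-type
morphism f₁ : X₁ ⟶ S₁ satisfying P, and also from a finite-type morphism f₂ : X₂ ⟶ S₂ satisfying Q,
where all four schemes are affine and Γ(S₁), Γ(S₂) are finitely generated ℤ-algebras, then f arises
by pullback from a single finite-type morphism f₀ : X₀ ⟶ S₀ of affine schemes, with Γ(S₀) finitely
generated over ℤ, satisfying both P and Q. -/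
theorem result (P Q : MorphismProperty Scheme.{u}) [P.IsStableUnderBaseChange] [Q.IsStableUnderBaseChange]
    {X S : Scheme.{u}} (f : X ⟶ S) [IsAffine X] [IsAffine S] [LocallyOfFinitePresentation f]
    {X₁ S₁ X₂ S₂ : Scheme.{u}} [IsAffine X₁] [IsAffine S₁] [IsAffine X₂] [IsAffine S₂]
    (f₁ : X₁ ⟶ S₁) (g₁ : S ⟶ S₁) (g₁' : X ⟶ X₁) (h₁ : IsPullback g₁' f f₁ g₁)
    (f₂ : X₂ ⟶ S₂) (g₂ : S ⟶ S₂) (g₂' : X ⟶ X₂) (h₂ : IsPullback g₂' f f₂ g₂)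
    (hS₁ : Algebra.FiniteType ℤ Γ(S₁, ⊤)) (hS₂ : Algebra.FiniteType ℤ Γ(S₂, ⊤))
    [LocallyOfFiniteType f₁] [LocallyOfFiniteType f₂] (hP : P f₁) (hQ : Q f₂) :
    ∃ (X₀ S₀ : Scheme.{u}) (f₀ : X₀ ⟶ S₀) (g : S ⟶ S₀) (g' : X ⟶ X₀), IsAffine X₀ ∧ IsAffine S₀ ∧ IsPullback g' f f₀ g ∧
      Algebra.FiniteType ℤ Γ(S₀, ⊤) ∧ LocallyOfFiniteType f₀ ∧ P f₀ ∧ Q f₀ := by
  algebraize [f.appTop.hom, f₁.appTop.hom, f₂.appTop.hom, g₁.appTop.hom, g₂.appTop.hom]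
  obtain ⟨R, _, _, _, _, _, _, hRft⟩ := exists_common Γ(S₁, ⊤) Γ(S₂, ⊤) Γ(S, ⊤) hS₁ hS₂
  have := hS₁
  have := hS₂
  have : IsNoetherianRing Γ(S₁, ⊤) := Algebra.FiniteType.isNoetherianRing ℤ _
  have : IsNoetherianRing Γ(S₂, ⊤) := Algebra.FiniteType.isNoetherianRing ℤ _
  have : Algebra.FiniteType Γ(S₁, ⊤) Γ(X₁, ⊤) :=
    (HasRingHomProperty.iff_of_isAffine (P := @LocallyOfFiniteType) (f := f₁)).1 ‹_›
  have : Algebra.FiniteType Γ(S₂, ⊤) Γ(X₂, ⊤) :=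
    (HasRingHomProperty.iff_of_isAffine (P := @LocallyOfFiniteType) (f := f₂)).1 ‹_›
  have : Algebra.FinitePresentation Γ(S₁, ⊤) Γ(X₁, ⊤) := Algebra.FinitePresentation.of_finiteType.1 ‹_›
  have : Algebra.FinitePresentation Γ(S₂, ⊤) Γ(X₂, ⊤) := Algebra.FinitePresentation.of_finiteType.1 ‹_›
  obtain ⟨e₁⟩ := extract f f₁ g₁ g₁' h₁
  obtain ⟨e₂⟩ := extract f f₂ g₂ g₂' h₂
  let e : Γ(S, ⊤) ⊗[R] (R ⊗[Γ(S₁, ⊤)] Γ(X₁, ⊤)) ≃ₐ[Γ(S, ⊤)] Γ(S, ⊤) ⊗[R] (R ⊗[Γ(S₂, ⊤)] Γ(X₂, ⊤)) :=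
    ((Algebra.TensorProduct.cancelBaseChange Γ(S₁, ⊤) R Γ(S, ⊤) Γ(S, ⊤) Γ(X₁, ⊤)).trans
      (e₁.trans e₂.symm)).trans
        (Algebra.TensorProduct.cancelBaseChange Γ(S₂, ⊤) R Γ(S, ⊤) Γ(S, ⊤) Γ(X₂, ⊤)).symm
  obtain ⟨B, hB, ⟨eB⟩⟩ := Groth.Agent.FlatH4.exists_subalgebra_algEquiv (R := R) (C₁ := R ⊗[Γ(S₁, ⊤)] Γ(X₁, ⊤)) (C₂ := R ⊗[Γ(S₂, ⊤)] Γ(X₂, ⊤)) e
  let eS : Γ(S, ⊤) ⊗[B] (B ⊗[R] (R ⊗[Γ(S₁, ⊤)] Γ(X₁, ⊤))) ≃ₐ[Γ(S, ⊤)] Γ(X, ⊤) :=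
    ((Algebra.TensorProduct.cancelBaseChange R B Γ(S, ⊤) Γ(S, ⊤) (R ⊗[Γ(S₁, ⊤)] Γ(X₁, ⊤))).trans
      (Algebra.TensorProduct.cancelBaseChange Γ(S₁, ⊤) R Γ(S, ⊤) Γ(S, ⊤) Γ(X₁, ⊤))).trans e₁
  obtain ⟨g', hg'⟩ := Groth.Agent.FlatH4.isPullback_of_affine f (R := B) (B₀ := B ⊗[R] (R ⊗[Γ(S₁, ⊤)] Γ(X₁, ⊤))) eS
  have : Algebra.FiniteType R B := (Subalgebra.fg_iff_finiteType B).1 hB
  have hft : Algebra.FiniteType ℤ B := Algebra.FiniteType.trans (S := R) hRft inferInstance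
  refine ⟨Spec (.of (B ⊗[R] (R ⊗[Γ(S₁, ⊤)] Γ(X₁, ⊤)))), Spec (.of B), _, _, g', inferInstance, inferInstance, hg', ?_, ?_, ?_, ?_⟩
  · exact hft.equiv (Scheme.ΓSpecIso (CommRingCat.of B)).symm.commRingCatIsoToRingEquiv.toIntAlgEquiv
  · rw [HasRingHomProperty.Spec_iff (P := @LocallyOfFiniteType)]
    exact RingHom.finiteType_algebraMap.2 inferInstance
  · exact transfer P f₁ hP (Algebra.TensorProduct.cancelBaseChange Γ(S₁, ⊤) R B B Γ(X₁, ⊤)).symm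
  · exact transfer Q f₂ hQ
      ((Algebra.TensorProduct.cancelBaseChange Γ(S₂, ⊤) R B B Γ(X₂, ⊤)).symm.trans eB.symm)

end Groth.Agent.S9737
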