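import Groth.Statements.S9738
import Groth.Agent.S0396
import Mathlib.AlgebraicGeometry.Morphisms.Flat
import Mathlib.AlgebraicGeometry.IdealSheaf.Subscheme
import Mathlib.AlgebraicGeometry.Noetherian
import Mathlib.RingTheory.Flat.Localization

set_option autoImplicit false
universe u
open FlatMor

namespace Groth.Agent.S9738

open AlgebraicGeometry CategoryTheory Limits in
/-- For a morphism f : X ⟶ S between locally Noetherian schemes, an ideal sheaf I on S with closed
subscheme Z, and Z_n the closed subscheme cut out by I^(n+1): if each base change X ×_S Z_n ⟶ Z_n is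
flat, then f is flat at each point of X lying over Z. -/
theorem result {X S : Scheme.{u}} (f : X ⟶ S) [IsLocallyNoetherian X] [IsLocallyNoetherian S]
    (I : S.IdealSheafData) (h : ∀ n : ℕ, Flat (pullback.snd f (I ^ (n + 1)).subschemeι)) (x : X) (hx : f x ∈ I.support) :
    (f.stalkMap x).hom.Flat := by
  obtain ⟨U, hU, hxU, -⟩ := exists_isAffineOpen_mem_and_subset (x := f x) (U := ⊤) trivial
  obtain ⟨V, hV, hxV, hVU⟩ := exists_isAffineOpen_mem_and_subset (x := x) (U := f ⁻¹ᵁ U) hxU
  have : IsNoetherianRing Γ(S, U) := IsLocallyNoetherian.component_noetherian ⟨U, hU⟩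
  have : IsNoetherianRing Γ(X, V) := IsLocallyNoetherian.component_noetherian ⟨V, hV⟩
  set φ := f.appLE U V hVU with hφ
  algebraize [φ.hom]
  set q := (hV.primeIdealOf ⟨x, hxV⟩).asIdeal with hq
  set p := (hU.primeIdealOf ⟨f x, hxU⟩).asIdeal with hp
  have hcomap : p = q.comap φ.hom :=
    congr($(IsAffineOpen.comap_primeIdealOf_appLE U hU V hV hVU hxV).1).symm
  set J := I.ideal ⟨U, hU⟩ with hJ
  have hJq : J.map (algebraMap Γ(S, U) Γ(X, V)) ≤ q := by
    rw [Ideal.map_le_iff_le_comap, RingHom.algebraMap_toAlgebra, ← hcomap]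
    intro s hs
    by_contra hsp
    have hmem := (Scheme.IdealSheafData.mem_support_iff_of_mem (I := I) (U := ⟨U, hU⟩) hxU).1 hx
    rw [Scheme.mem_zeroLocus_iff] at hmem
    apply hmem s hs
    rw [S.mem_basicOpen s (f x) hxU]
    let := S.presheaf.algebra_section_stalk ⟨f x, hxU⟩
    have := hU.isLocalization_stalk ⟨f x, hxU⟩
    exact (IsLocalization.AtPrime.isUnit_to_map_iff (S.presheaf.stalk (f x)) p s).2 hsp
  have hflat : ∀ n : ℕ, 0 < n →
      Module.Flat (Γ(S, U) ⧸ J ^ n) (TensorProduct Γ(S, U) (Γ(S, U) ⧸ J ^ n) Γ(X, V)) := by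
    intro n hn
    obtain ⟨n, rfl⟩ := Nat.exists_eq_succ_of_ne_zero hn.ne'
    let A' : CommRingCat.{u} := .of (Γ(S, U) ⧸ J ^ (n + 1))
    let mk : Γ(S, U) ⟶ A' := CommRingCat.ofHom (Ideal.Quotient.mk _)
    let g : Spec A' ⟶ (I ^ (n + 1)).subscheme := (I ^ (n + 1)).subschemeCover.f ⟨U, hU⟩
    have hg : g ≫ (I ^ (n + 1)).subschemeι = Spec.map mk ≫ hU.fromSpec := by
      refine ((I ^ (n + 1)).subschemeCover_map_subschemeι ⟨U, hU⟩).trans ?_
      rw [Scheme.IdealSheafData.glueDataObjι_ι]
      rfl
    -- base change of the hypothesis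
    have h1 : Flat (pullback.snd f (g ≫ (I ^ (n + 1)).subschemeι)) := by
      rw [← pullbackLeftPullbackSndIso_inv_snd_snd f (I ^ (n + 1)).subschemeι g]
      have := h n
      infer_instance
    have h2 : Flat (pullback.snd (hV.fromSpec ≫ f) (g ≫ (I ^ (n + 1)).subschemeι)) := by
      rw [← pullbackRightPullbackFstIso_inv_snd_snd f (g ≫ (I ^ (n + 1)).subschemeι) hV.fromSpec]
      infer_instance
    have h3 : Flat (pullback.snd (Spec.map φ) (Spec.map mk)) := by
      have e1 : hV.fromSpec ≫ f = Spec.map φ ≫ hU.fromSpec :=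
        (IsAffineOpen.SpecMap_appLE_fromSpec f hU hV hVU).symm
      have hP : IsPullback (pullback.fst (Spec.map φ) (Spec.map mk))
          (pullback.snd (Spec.map φ) (Spec.map mk)) (hV.fromSpec ≫ f)
          (g ≫ (I ^ (n + 1)).subschemeι) := by
        rw [hg, e1]
        exact IsPullback.of_isLimit (pullbackIsPullbackOfCompMono _ _ hU.fromSpec)
      rw [← hP.isoPullback_hom_snd]
      infer_instance
    let e : pullback (Spec.map mk) (Spec.map φ) ≅ _ :=
      pullbackSpecIso Γ(S, U) (Γ(S, U) ⧸ J ^ (n + 1)) Γ(X, V)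
    have h4 : Flat (pullback.fst (Spec.map mk) (Spec.map φ)) := by
      rw [← pullbackSymmetry_hom_comp_snd]
      infer_instance
    have h5 : Flat (Spec.map (CommRingCat.ofHom (algebraMap (Γ(S, U) ⧸ J ^ (n + 1))
        (TensorProduct Γ(S, U) (Γ(S, U) ⧸ J ^ (n + 1)) Γ(X, V))))) := by
      rw [← pullbackSpecIso_inv_fst' Γ(S, U)]
      exact MorphismProperty.comp_mem _ _ _ inferInstance h4
    rw [Flat.SpecMap_iff] at h5
    exact RingHom.flat_algebraMap_iff.1 h5
  have hloc : Module.Flat Γ(S, U) (LocalizedModule q.primeCompl Γ(X, V)) :=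
    Groth.Agent.S0396.result J hflat q hJq
  have hloc' : Module.Flat Γ(S, U) (Localization.AtPrime q) :=
    Module.Flat.of_linearEquiv ((IsLocalizedModule.iso q.primeCompl
      (Algebra.linearMap Γ(X, V) (Localization.AtPrime q))).symm.restrictScalars Γ(S, U))
  have : (RingHom.toMorphismProperty RingHom.Flat).RespectsIso :=
    RingHom.toMorphismProperty_respectsIso_iff.1 RingHom.Flat.respectsIso
  apply ((RingHom.toMorphismProperty RingHom.Flat).arrow_mk_iso_iff
    (IsAffineOpen.arrowStalkMapIso f U hU V hV hVU hxV)).2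
  show (Localization.localRingHom p q φ.hom hcomap).Flat
  algebraize [Localization.localRingHom p q φ.hom hcomap]
  have : IsScalarTower Γ(S, U) (Localization.AtPrime p) (Localization.AtPrime q) :=
    IsScalarTower.of_algebraMap_eq fun r => by
      rw [RingHom.algebraMap_toAlgebra, Localization.localRingHom_to_map]
      exact IsScalarTower.algebraMap_apply Γ(S, U) Γ(X, V) (Localization.AtPrime q) r
  exact (Module.flat_iff_of_isLocalization (Localization.AtPrime p) p.primeCompl _).2 hloc'

end Groth.Agent.S9738
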