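import Groth.Statements.S9743
import Groth.Agent.Lib.RelFPH13.Geo
import Groth.Agent.Lib.ModM1.Push

set_option autoImplicit false
universe u
open Flatn

namespace Groth.Agent.S9743

open AlgebraicGeometry CategoryTheory Limits RelFPH13 in
theorem key {X Y S : Scheme.{u}} (π : X ⟶ Y) (g : Y ⟶ S) [IsFinite π] [LocallyOfFiniteType g]
    (F : X.Modules) (U : Y.Opens) (hU : IsAffineOpen U) (V : S.Opens) (hV : IsAffineOpen V)
    (h : U ≤ g ⁻¹ᵁ V) :
    OK g ((Coh.push π).obj F) U V h ↔ OK (π ≫ g) F (π ⁻¹ᵁ U) V (π.preimage_mono h) := by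
  letI := (g.appLE V U h).hom.toAlgebra
  letI := ((π ≫ g).appLE V (π ⁻¹ᵁ U) (π.preimage_mono h)).hom.toAlgebra
  letI := (π.app U).hom.toAlgebra
  haveI : IsScalarTower Γ(S, V) Γ(Y, U) Γ(X, π ⁻¹ᵁ U) := IsScalarTower.of_algebraMap_eq' <| by
    show ((π ≫ g).appLE V (π ⁻¹ᵁ U) (π.preimage_mono h)).hom = (g.appLE V U h ≫ π.app U).hom
    rw [← Scheme.Hom.appLE_comp_appLE π g V U (π ⁻¹ᵁ U) h le_rfl, Scheme.Hom.appLE_eq_app]
  haveI : Module.Finite Γ(Y, U) Γ(X, π ⁻¹ᵁ U) := IsFinite.finite_app π U hU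
  haveI : Algebra.FiniteType Γ(S, V) Γ(Y, U) := g.finiteType_appLE hV hU h
  letI : Module Γ(Y, U) Γ(F, π ⁻¹ᵁ U) := Module.compHom _ (π.app U).hom
  haveI : IsScalarTower Γ(Y, U) Γ(X, π ⁻¹ᵁ U) Γ(F, π ⁻¹ᵁ U) :=
    IsScalarTower.of_algebraMap_smul fun _ _ => rfl
  exact rfp_finite_iff (R := Γ(S, V)) (A := Γ(Y, U)) (B := Γ(X, π ⁻¹ᵁ U)) (M := Γ(F, π ⁻¹ᵁ U))



open AlgebraicGeometry CategoryTheory Limits in
/-- Suppose π : X ⟶ Y is finite, g : Y ⟶ S is locally of finite type, and F is a quasi-coherent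
O_X-module. Then F is relatively finitely presented over S via π ≫ g exactly when the direct image
π_*F is relatively finitely presented over S via g. -/
theorem result {X Y S : Scheme.{u}} (π : X ⟶ Y) (g : Y ⟶ S) [IsFinite π] [LocallyOfFiniteType g]
    (F : X.Modules) [Coh.IsQCoh F] : Flatn.IsRelFP (π ≫ g) F ↔ Flatn.IsRelFP g ((Coh.push π).obj F) := by

  haveI := M1.isQCoh_push π (F := F) inferInstance
  constructor
  · intro hF
    refine RelFPH13.isRelFP_of_forall g _ fun U V h => ?_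
    exact (key π g F U.1 U.2 V.1 V.2 h).2
      (RelFPH13.ok_of_isRelFP (π ≫ g) F hF (U.2.preimage π) V.2 _)
  · intro hF
    refine RelFPH13.isRelFP_of_pointwise (π ≫ g) F fun s => ?_
    obtain ⟨V, hV, hsV, -⟩ :=
      exists_isAffineOpen_mem_and_subset (x := s) (U := (⊤ : S.Opens)) trivial
    refine ⟨⟨V, hV⟩, hsV, fun x hx => ?_⟩
    obtain ⟨U, hU, hxU, hUV⟩ :=
      exists_isAffineOpen_mem_and_subset (x := π x) (U := g ⁻¹ᵁ V) hx
    exact ⟨⟨π ⁻¹ᵁ U, hU.preimage π⟩, π.preimage_mono hUV, hxU,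
      (key π g F U hU V hV hUV).1 (RelFPH13.ok_of_isRelFP g _ hF hU hV hUV)⟩

end Groth.Agent.S9743
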