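import Groth.Statements.S9744
import Groth.Agent.Lib.RelFPH13.Geo

set_option autoImplicit false
universe u
open Flatn

namespace Groth.Agent.S9744

open AlgebraicGeometry CategoryTheory Limits in
/-- Let f : X ⟶ S be locally of finite type and F a quasi-coherent O_X-module of finite presentation
relative to S. For a base change f' : X' ⟶ S' of f along S' ⟶ S with projection g' : X' ⟶ X, the
pullback (g')^*F is of finite presentation relative to S'. -/
theorem result {X S X' S' : Scheme.{u}} (f : X ⟶ S) [LocallyOfFiniteType f] (F : X.Modules) [Coh.IsQCoh F]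
    (g : S' ⟶ S) (f' : X' ⟶ S') (g' : X' ⟶ X) (hc : IsPullback g' f' f g) (hF : Flatn.IsRelFP f F) :
    Flatn.IsRelFP f' ((Scheme.Modules.pullback g').obj F) := by
  haveI := M1.isQCoh_pullback g' (M := F) inferInstance
  refine RelFPH13.isRelFP_of_pointwise f' _ fun s' => ?_
  obtain ⟨V, hV, hsV, -⟩ :=
    exists_isAffineOpen_mem_and_subset (x := g s') (U := (⊤ : S.Opens)) trivial
  obtain ⟨V', hV', hsV', hVV'⟩ :=
    exists_isAffineOpen_mem_and_subset (x := s') (U := g ⁻¹ᵁ V) hsV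
  refine ⟨⟨V', hV'⟩, hsV', fun x hx => ?_⟩
  replace hVV' : V' ≤ g ⁻¹ᵁ V := hVV'
  have hgx : g' x ∈ f ⁻¹ᵁ V := by
    show f (g' x) ∈ V
    rw [← Scheme.Hom.comp_apply, hc.w, Scheme.Hom.comp_apply]
    exact hVV' hx
  obtain ⟨U, hU, hxU, hUV⟩ := exists_isAffineOpen_mem_and_subset (x := g' x) (U := f ⁻¹ᵁ V) hgx
  replace hUV : U ≤ f ⁻¹ᵁ V := hUV
  let U' : X'.Opens := g' ⁻¹ᵁ U ⊓ f' ⁻¹ᵁ V'
  have hU' : IsAffineOpen U' := FlatH4.isAffineOpen_of_isPullback hc hVV' hUV rfl hV hV' hU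
  refine ⟨⟨U', hU'⟩, inf_le_right, ⟨hxU, hx⟩, ?_⟩
  letI := (f.appLE V U hUV).hom.toAlgebra
  letI := (f'.appLE V' U' inf_le_right).hom.toAlgebra
  letI := (g.appLE V V' hVV').hom.toAlgebra
  letI := (g'.appLE U U' inf_le_left).hom.toAlgebra
  letI := (f.appLE V U hUV ≫ g'.appLE U U' inf_le_left).hom.toAlgebra
  haveI : IsScalarTower Γ(S, V) Γ(X, U) Γ(X', U') := IsScalarTower.of_algebraMap_eq fun _ => rfl
  haveI : IsScalarTower Γ(S, V) Γ(S', V') Γ(X', U') := IsScalarTower.of_algebraMap_eq fun r => by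
    show (f.appLE V U hUV ≫ g'.appLE U U' inf_le_left) r =
      (g.appLE V V' hVV' ≫ f'.appLE V' U' inf_le_right) r
    rw [Scheme.Hom.appLE_comp_appLE, Scheme.Hom.appLE_comp_appLE]
    simp only [hc.w]
  haveI := FlatH4.algebra_isPushout_sections hc hVV' hUV (UY := U') rfl hV hV' hU rfl rfl rfl rfl
  haveI : Algebra.IsPushout Γ(S, V) Γ(X, U) Γ(S', V') Γ(X', U') := Algebra.IsPushout.symm inferInstance
  have h1 := RelFPH13.rfp_baseChange (R' := Γ(S', V')) (A' := Γ(X', U'))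
    (RelFPH13.ok_of_isRelFP f F hF hU hV hUV)
  obtain ⟨Φ, -⟩ := ModLimH13.exists_pullEquiv g' F (inf_le_left : U' ≤ g' ⁻¹ᵁ U) hU hU'
  exact RelFPH13.rfp_congr AlgEquiv.refl Φ.toAddEquiv (fun a m => map_smul Φ a m) h1

end Groth.Agent.S9744
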