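import Groth.Statements.S9745
import Groth.Agent.Lib.RelFPH13.Geo

set_option autoImplicit false
universe u
open Flatn

namespace Groth.Agent.S9745

open AlgebraicGeometry CategoryTheory Limits in
/-- Let f : X ⟶ Y be locally of finite presentation and g : Y ⟶ S locally of finite type, and let G be a
quasi-coherent O_Y-module that is finitely presented relative to S. Then the pullback f^*G is
finitely presented relative to S along f ≫ g. -/
theorem result {X Y S : Scheme.{u}} (f : X ⟶ Y) (g : Y ⟶ S) [LocallyOfFinitePresentation f] [LocallyOfFiniteType g]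
    (G : Y.Modules) [Coh.IsQCoh G] (hG : Flatn.IsRelFP g G) : Flatn.IsRelFP (f ≫ g) ((Scheme.Modules.pullback f).obj G) := by
  haveI := M1.isQCoh_pullback f (M := G) inferInstance
  refine RelFPH13.isRelFP_of_pointwise (f ≫ g) _ fun s => ?_
  obtain ⟨V, hV, hsV, -⟩ :=
    exists_isAffineOpen_mem_and_subset (x := s) (U := (⊤ : S.Opens)) trivial
  refine ⟨⟨V, hV⟩, hsV, fun x hx => ?_⟩
  obtain ⟨U, hU, hxU, hUV⟩ := exists_isAffineOpen_mem_and_subset (x := f x) (U := g ⁻¹ᵁ V) hx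
  obtain ⟨W, hW, hxW, hWU⟩ := exists_isAffineOpen_mem_and_subset (x := x) (U := f ⁻¹ᵁ U) hxU
  replace hUV : U ≤ g ⁻¹ᵁ V := hUV
  replace hWU : W ≤ f ⁻¹ᵁ U := hWU
  have hWV : W ≤ (f ≫ g) ⁻¹ᵁ V := hWU.trans (f.preimage_mono hUV)
  refine ⟨⟨W, hW⟩, hWV, hxW, ?_⟩
  letI := (g.appLE V U hUV).hom.toAlgebra
  letI := ((f ≫ g).appLE V W hWV).hom.toAlgebra
  letI := (f.appLE U W hWU).hom.toAlgebra
  haveI : IsScalarTower Γ(S, V) Γ(Y, U) Γ(X, W) := IsScalarTower.of_algebraMap_eq' <| by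
    show _ = (g.appLE V U hUV ≫ f.appLE U W hWU).hom
    rw [Scheme.Hom.appLE_comp_appLE]
    rfl
  haveI : Algebra.FiniteType Γ(S, V) Γ(Y, U) := g.finiteType_appLE hV hU hUV
  haveI : Algebra.FinitePresentation Γ(Y, U) Γ(X, W) := f.finitePresentation_appLE hU hW hWU
  have h1 := RelFPH13.rfp_tensor (B := Γ(X, W)) (RelFPH13.ok_of_isRelFP g G hG hU hV hUV)
  obtain ⟨Φ, -⟩ := ModLimH13.exists_pullEquiv f G hWU hU hW
  exact RelFPH13.rfp_congr AlgEquiv.refl Φ.toAddEquiv (fun a m => map_smul Φ a m) h1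

end Groth.Agent.S9745
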