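import Groth.Statements.S9749
import Groth.Agent.Lib.RelFPH13.Exact
import Groth.Agent.Lib.ModM1.FibreProd

set_option autoImplicit false
universe u
open Flatn

namespace Groth.Agent.S9749

open AlgebraicGeometry CategoryTheory Limits in
theorem retract {X S : Scheme.{u}} (f : X ⟶ S) [LocallyOfFiniteType f] {M N : X.Modules}
    [Coh.IsQCoh M] [Coh.IsQCoh N] (s : M ⟶ N) (r : N ⟶ M) (hsr : s ≫ r = 𝟙 M)
    (h : Flatn.IsRelFP f N) : Flatn.IsRelFP f M := by
  refine RelFPH13.isRelFP_of_forall f _ fun U V hUV => ?_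
  letI := (f.appLE (V : S.Opens) (U : X.Opens) hUV).hom.toAlgebra
  refine RelFPH13.rfp_retract (RelFPH13.secMap s U) (RelFPH13.secMap r U) (fun m => ?_)
    ((RelFPH13.isRelFP_iff f N).1 h U V hUV)
  exact (M1.comp_app_apply s r (U : X.Opens) m).symm.trans (by rw [hsr]; rfl)



open AlgebraicGeometry CategoryTheory Limits in
/-- For f : X ⟶ S locally of finite type and quasi-coherent O_X-modules F, F', relative finite
presentation over S of the biproduct F ⊞ F' implies the same property for each summand. -/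
theorem result {X S : Scheme.{u}} (f : X ⟶ S) [LocallyOfFiniteType f] (F F' : X.Modules) [Coh.IsQCoh F] [Coh.IsQCoh F']
    (h : Flatn.IsRelFP f (F ⊞ F')) : Flatn.IsRelFP f F ∧ Flatn.IsRelFP f F' := by

  haveI : Coh.IsQCoh (F ⊞ F') := M1.isQCoh_biprod inferInstance inferInstance
  exact ⟨retract f biprod.inl biprod.fst biprod.inl_fst h,
    retract f biprod.inr biprod.snd biprod.inr_snd h⟩

end Groth.Agent.S9749
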