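import Groth.Statements.S9750
import Groth.Agent.Lib.GrMap12.StalkZero
import Groth.Agent.Lib.HomO15.Sections
import Groth.Agent.Lib.KCoh4.Loc
import Groth.Agent.Lib.Thick12.Affine
import Groth.Agent.Lib.Thick12.Glue
import Groth.Agent.Lib.FEtale4.Glue
import Groth.Agent.S1487
import Groth.Agent.S1516

set_option autoImplicit false
universe u
open FlatMor
set_option maxSynthPendingDepth 3
open TensorProduct

set_option backward.isDefEq.respectTransparency.types false

namespace Groth.Agent.S9750



open AlgebraicGeometry CategoryTheory Limits TensorProduct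

theorem formallyUnramified_of_formallyEtale {X S : Scheme.{u}} (f : X ⟶ S) (hf : MoreMor.IsFormallyEtaleHom f) :
    FormallyUnramified f := by
  rw [HasRingHomProperty.iff_appLE (P := @FormallyUnramified)]
  intro U V e
  have h := (S1487.result f).1 hf V.1 U.1 V.2 U.2 e
  letI := (f.appLE U.1 V.1 e).hom.toAlgebra
  exact (show Algebra.FormallyUnramified Γ(S, U.1) Γ(X, V.1) from inferInstance)

/-- A square-zero closed immersion kills its ideal module. -/
theorem killed_idealMod {X X' : Scheme.{u}} (i : X ⟶ X') [IsClosedImmersion i] (hi : i.ker * i.ker = ⊥) :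
    HomO15.Killed i (ClSub.idealMod i.ker) := by
  intro U a ha s
  refine M2.idealIncl_injective i.ker U.1 ?_
  have h0 : (i.ker * i.ker).ideal U = ⊥ := by rw [hi]; rfl
  rw [Scheme.IdealSheafData.ideal_mul, Pi.mul_apply] at h0
  have hz : M2.idealIncl i.ker (0 : Γ(ClSub.idealMod i.ker, U.1)) = 0 := map_zero ((ClSub.idealModι i.ker).app U.1).hom
  rw [hz, M2.idealIncl_smul, ← Ideal.mem_bot, ← h0]
  exact Ideal.mul_mem_mul ha ((M2.range_idealIncl i.ker U).le ⟨s, rfl⟩)

theorem isZero_conormal_of_isIso {X X' : Scheme.{u}} (i : X ⟶ X') [IsIso i] : IsZero (Omega.conormal i) := by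
  refine KCoh4.isZero_of_stalks fun z => ?_
  haveI : IsOpenImmersion ((⊤ : X.Opens).ι ≫ i) := inferInstance
  exact GrMap12.subsingleton_conormal_stalk_of_open i (U := ⊤) trivial

theorem isIso_of_isZero_conormal {X X' : Scheme.{u}} (i : X ⟶ X') (hi : MoreMor.IsFirstOrderThickening i)
    (h : IsZero (Omega.conormal i)) : IsIso i := by
  haveI := hi.1.1
  rw [IsClosedImmersion.isIso_iff_ker_eq_bot]
  have hst : ∀ (z : X) (m : (ClSub.idealMod i.ker).presheaf.stalk (i z)), m = 0 := by
    intro z m
    let A := X'.presheaf.stalk (i z)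
    let B := X.presheaf.stalk z
    let M := (ClSub.idealMod i.ker).presheaf.stalk (i z)
    have hkill : ∀ (r : A) (m : M), i.stalkMap z r = 0 → r • m = 0 := fun r m hr =>
      HomO15.smul_stalk_eq_zero i (killed_idealMod i hi.2) z r hr m
    have hsurj : Function.Surjective (i.stalkMap z) := i.stalkMap_surjective z
    choose sec hsec using hsurj
    have hwd : ∀ (r : A) (m : M), sec (i.stalkMap z r) • m = r • m := fun r m => by
      rw [← sub_eq_zero, ← sub_smul]
      exact hkill _ _ (by rw [map_sub, hsec, sub_self])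
    letI alg : Algebra A B := (i.stalkMap z).hom.toAlgebra
    let β : B →ₗ[A] M →ₗ[A] M :=
      { toFun := fun b => sec b • LinearMap.id
        map_add' := fun b c => LinearMap.ext fun m => by
          have h1 : sec (b + c) • m = (sec b + sec c) • m := by
            rw [← hwd (sec b + sec c) m, map_add, hsec, hsec]
          simpa [add_smul] using h1
        map_smul' := fun r b => LinearMap.ext fun m => by
          have h1 : sec (r • b) • m = (r * sec b) • m := by
            rw [← hwd (r * sec b) m, map_mul, hsec, Algebra.smul_def]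
            rfl
          simpa [mul_smul] using h1 }
    haveI hBC : Subsingleton (M2.BC i z (ClSub.idealMod i.ker)) := by
      have h1 : Subsingleton ((Omega.conormal i).presheaf.stalk z) :=
        AddCommGrpCat.subsingleton_of_isZero ((M1.stalkAb z).map_isZero h)
      exact @Equiv.subsingleton _ _ (M2.pullStalkEquiv i z (ClSub.idealMod i.ker)).toEquiv h1
    have h2 : TensorProduct.lift β ((1 : B) ⊗ₜ[A] m) = 0 := by
      rw [Subsingleton.elim (α := M2.BC i z (ClSub.idealMod i.ker)) ((1 : B) ⊗ₜ[A] m) 0]
      exact map_zero _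
    rw [TensorProduct.lift.tmul] at h2
    calc m = (1 : A) • m := (one_smul _ _).symm
      _ = sec (i.stalkMap z 1) • m := (hwd 1 m).symm
      _ = 0 := by rw [map_one]; exact h2
  refine le_bot_iff.1 fun U a ha => ?_
  obtain ⟨s, hs⟩ := (M2.range_idealIncl i.ker U).ge ha
  have hZ : IsZero (ClSub.idealMod i.ker) := KCoh4.isZero_of_stalks fun x => by
    obtain ⟨z, rfl⟩ := hi.1.2.surj x
    exact ⟨fun v w => (hst z v).trans (hst z w).symm⟩
  have hs0 : s = 0 :=
    congrArg (fun φ : ClSub.idealMod i.ker ⟶ ClSub.idealMod i.ker => φ.app U.1 s) (hZ.eq_of_src (𝟙 _) 0)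
  rw [← hs, hs0]
  exact Ideal.mem_bot.2 (map_zero ((ClSub.idealModι i.ker).app U.1).hom)

open AlgebraicGeometry CategoryTheory Limits in
/-- (1) ⇔ (2) ⇔ (3): a morphism f : X ⟶ S is formally étale (unique infinitesimal lifting against
square-zero thickenings of affine schemes) if and only if f is formally unramified and X, through
the identity and f, is its own universal square-zero (first order) thickening relative to f; and,
for f formally unramified with universal first order thickening data (i : X ⟶ X', h' : X' ⟶ S), f is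
formally étale if and only if the conormal sheaf of i (the conormal sheaf of f) is zero. The
published statement also lists a fourth equivalent condition, the vanishing of both the sheaf of
differentials and the conormal sheaf; this row omits it. -/
theorem result {X S : Scheme.{u}} (f : X ⟶ S) :
    (MoreMor.IsFormallyEtaleHom f ↔ FormallyUnramified f ∧ OmegaSh.IsUnivThickening f (𝟙 X) f) ∧
    (∀ {X' : Scheme.{u}} (i : X ⟶ X') (h' : X' ⟶ S) [QuasiCompact i], FormallyUnramified f →
      OmegaSh.IsUnivThickening f i h' → (MoreMor.IsFormallyEtaleHom f ↔ IsZero (Omega.conormal i))) := by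
  have h1 : MoreMor.IsFormallyEtaleHom f ↔ FormallyUnramified f ∧ OmegaSh.IsUnivThickening f (𝟙 X) f := by
    constructor
    · intro hf
      refine ⟨formallyUnramified_of_formallyEtale f hf, ⟨⟨inferInstance, inferInstance⟩, ?_⟩, Category.id_comp f,
        fun T T' j b a hj hjb => ?_⟩
      · rw [Scheme.Hom.ker_eq_bot_of_isIso (𝟙 X)]
        exact le_bot_iff.1 fun U => by
          rw [Scheme.IdealSheafData.ideal_mul, Pi.mul_apply]
          exact Ideal.mul_le_left
      · simpa only [Category.comp_id] using S1516.result f hf j hj a b hjb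
    · rintro ⟨-, -, -, hlift⟩ A _ I hI a b hab
      have hfot := Thick12.isFirstOrderThickening_spec (Ideal.Quotient.mk I) Ideal.Quotient.mk_surjective
        (by rw [Ideal.mk_ker]; exact hI)
      simpa only [Category.comp_id] using hlift _ _ _ b a hfot hab
  refine ⟨h1, fun {X'} i h' _ hu huv => ⟨fun hf => ?_, fun hz => ?_⟩⟩
  · obtain ⟨e, he, -⟩ := Thick12.exists_iso_of_univ (h1.1 hf).2 huv
    haveI : IsIso i := by rw [← he, Category.id_comp]; infer_instance
    exact isZero_conormal_of_isIso i
  · haveI : IsIso i := isIso_of_isZero_conormal i huv.1 hz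
    obtain ⟨hfot, hcomp, hlift⟩ := huv
    intro A _ I hI a b hab
    obtain ⟨l, ⟨hl1, hl2⟩, hlu⟩ := hlift _ _ _ b a (Thick12.isFirstOrderThickening_spec (Ideal.Quotient.mk I)
      Ideal.Quotient.mk_surjective (by rw [Ideal.mk_ker]; exact hI)) hab
    refine ⟨l ≫ inv i, ⟨?_, ?_⟩, fun m hm => ?_⟩
    · rw [reassoc_of% hl1, IsIso.hom_inv_id, Category.comp_id]
    · rw [Category.assoc, ← hcomp, IsIso.inv_hom_id_assoc, hl2]
    · rw [← hlu (m ≫ i) ⟨by rw [reassoc_of% hm.1], by rw [Category.assoc, hcomp, hm.2]⟩, Category.assoc, IsIso.hom_inv_id,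
        Category.comp_id]

end Groth.Agent.S9750
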