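import Groth.Statements.S9751
import Groth.Agent.S9725

set_option autoImplicit false
universe u
open FlatMor
set_option maxSynthPendingDepth 3
open TensorProduct

set_option backward.isDefEq.respectTransparency.types false

namespace Groth.Agent.S9751



open AlgebraicGeometry CategoryTheory Limits TensorProduct

open AlgebraicGeometry CategoryTheory Limits in
/-- Let f : X ⟶ S be a morphism and x a point such that f is smooth on an open neighbourhood of x, and
such that the natural map from Ω_{O_{X,x}/O_{S,f x}} ⊗ κ(x) (the fibre at x of the sheaf of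
differentials, equal to that of the fibre X_{f x}) to Ω_{κ(x)/κ(f x)} has a nonzero kernel. Then
there are an affine open U ∋ x and a nonzerodivisor h' of Γ(X, U) vanishing at x such that the
closed subscheme V(h') of U, an effective Cartier divisor through x, is smooth over S. -/
theorem result {X S : Scheme.{u}} (f : X ⟶ S) (x : X)
    (W : X.Opens) (hxW : x ∈ W) (hW : Smooth (W.ι ≫ f))
    (hker : letI := (f.stalkMap x).hom.toAlgebra
      letI := ((IsLocalRing.residue ↑(X.presheaf.stalk x)).comp (f.stalkMap x).hom).toAlgebra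
      haveI : IsScalarTower ↑(S.presheaf.stalk (f x)) ↑(X.presheaf.stalk x) (IsLocalRing.ResidueField ↑(X.presheaf.stalk x)) :=
        IsScalarTower.of_algebraMap_eq (fun _ => rfl)
      LinearMap.ker (KaehlerDifferential.mapBaseChange ↑(S.presheaf.stalk (f x)) ↑(X.presheaf.stalk x)
        (IsLocalRing.ResidueField ↑(X.presheaf.stalk x))) ≠ ⊥) :
    ∃ (U : X.Opens) (hU : IsAffineOpen U) (hx : x ∈ U) (h' : Γ(X, U)), h' ∈ nonZeroDivisors Γ(X, U) ∧
      X.presheaf.germ U x hx h' ∈ IsLocalRing.maximalIdeal ↑(X.presheaf.stalk x) ∧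
      Smooth (Spec.map (CommRingCat.ofHom (Ideal.Quotient.mk (Ideal.span {h'}))) ≫ hU.fromSpec ≫ f) := by
  letI := (f.stalkMap x).hom.toAlgebra
  let Os := S.presheaf.stalk (f x)
  let L := X.presheaf.stalk x
  let κ := IsLocalRing.ResidueField L
  letI aκ : Algebra Os κ := ((IsLocalRing.residue L).comp (f.stalkMap x).hom).toAlgebra
  haveI : IsScalarTower Os L κ := IsScalarTower.of_algebraMap_eq (fun _ => rfl)
  obtain ⟨h, hm, hd⟩ : ∃ h ∈ IsLocalRing.maximalIdeal L, (1 : κ) ⊗ₜ[L] KaehlerDifferential.D Os L h ≠ 0 := by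
    by_contra! hall
    apply hker
    rw [eq_bot_iff]
    intro v hv
    have hs : Function.Surjective (algebraMap L κ) := IsLocalRing.residue_surjective
    obtain ⟨c, hc⟩ := (KaehlerDifferential.exact_kerCotangentToTensor_mapBaseChange Os L κ hs v).1 (LinearMap.mem_ker.1 hv)
    obtain ⟨⟨h, hh⟩, rfl⟩ := Ideal.toCotangent_surjective _ c
    rw [Submodule.mem_bot, ← hc, KaehlerDifferential.kerCotangentToTensor_toCotangent]
    exact hall h ((IsLocalRing.residue_eq_zero_iff h).1 hh)
  obtain ⟨U, hU, hx, h', hgerm, hnzd, hsm⟩ := S9725.result f x W hxW hW h hm hd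
  exact ⟨U, hU, hx, h', hnzd, hgerm.symm ▸ hm, hsm⟩

end Groth.Agent.S9751
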