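import Groth.Statements.S9756
import Groth.Agent.Lib.CMSlice4.Main
import Mathlib

set_option autoImplicit false
universe u
open FlatMor
set_option maxSynthPendingDepth 3
open TensorProduct

set_option backward.isDefEq.respectTransparency.types false

namespace Groth.Agent.S9756



open AlgebraicGeometry CategoryTheory Limits TensorProduct RingTheory.Sequence IsLocalRing

open AlgebraicGeometry CategoryTheory Limits in
/-- Let f : X ⟶ S be locally of finite presentation and flat at a point x, and assume the local ring of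
the fibre X_{f x} at x has depth at least 1. Then there are an affine open U ∋ x and a
nonzerodivisor h' of Γ(X, U) vanishing at x such that the closed subscheme V(h') of U, an effective
Cartier divisor through x, is flat and locally of finite presentation over S. The published
statement concludes that V(h') ⟶ S is of finite presentation; this row concludes only that it is
flat and locally of finite presentation, which is what the published argument (slicing by a lift of
a fibrewise nonzerodivisor) yields, and which is equivalent when S is quasi-separated, V(h') being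
affine. -/
theorem result {X S : Scheme.{u}} (f : X ⟶ S) [LocallyOfFinitePresentation f] (x : X)
    (hflat : (f.stalkMap x).hom.Flat)
    (hdepth : 1 ≤ LocCoh.depth ↑((f.fiber (f x)).presheaf.stalk (f.asFiber x)) ↑((f.fiber (f x)).presheaf.stalk (f.asFiber x))) :
    ∃ (U : X.Opens) (hU : IsAffineOpen U) (hx : x ∈ U) (h' : Γ(X, U)), h' ∈ nonZeroDivisors Γ(X, U) ∧
      X.presheaf.germ U x hx h' ∈ IsLocalRing.maximalIdeal ↑(X.presheaf.stalk x) ∧
      Flat (Spec.map (CommRingCat.ofHom (Ideal.Quotient.mk (Ideal.span {h'}))) ≫ hU.fromSpec ≫ f) ∧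
      LocallyOfFinitePresentation (Spec.map (CommRingCat.ofHom (Ideal.Quotient.mk (Ideal.span {h'}))) ≫ hU.fromSpec ≫ f) := by
  classical
  obtain ⟨W, hW, hxW, -⟩ := exists_isAffineOpen_mem_and_subset (X := S) (x := f x) (U := ⊤) trivial
  let O : X.Opens := ⟨{y | (f.stalkMap y).hom.Flat}, FlatH4.isOpen_flatLocus f⟩
  obtain ⟨U, hU, hxU, hUle⟩ := exists_isAffineOpen_mem_and_subset (X := X) (x := x) (U := f ⁻¹ᵁ W ⊓ O) ⟨hxW, hflat⟩
  have hUW : U ≤ f ⁻¹ᵁ W := fun y hy => (hUle hy).1
  let R := Γ(S, W)
  let A := Γ(X, U)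
  letI : Algebra R A := (f.appLE W U hUW).hom.toAlgebra
  haveI : Algebra.FinitePresentation R A := f.finitePresentation_appLE hW hU hUW
  have hprime : ∀ P : PrimeSpectrum A, ∀ hy : hU.fromSpec P ∈ U, hU.primeIdealOf ⟨hU.fromSpec P, hy⟩ = P := fun P hy =>
    hU.fromSpec.isOpenEmbedding.injective (hU.fromSpec_primeIdealOf ⟨_, hy⟩)
  have hmemU : ∀ P : PrimeSpectrum A, hU.fromSpec P ∈ U := fun P => hU.range_fromSpec.le ⟨P, rfl⟩
  haveI : Module.Flat R A := FlatH4.flat_of_localized_maximal_algebra (S := A) fun P _ => by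
    have h := (FlatH4.flat_stalkMap_iff f W hW U hU hUW (hmemU ⟨P, inferInstance⟩)).1 (hUle (hmemU _)).2
    rwa [hprime] at h
  let q := (hU.primeIdealOf ⟨x, hxU⟩).asIdeal
  letI := X.presheaf.algebra_section_stalk (U := U) ⟨x, hxU⟩
  let St := X.presheaf.stalk x
  haveI : IsLocalization.AtPrime St q := hU.isLocalization_stalk ⟨x, hxU⟩
  let pA := (q.comap (algebraMap R A)).map (algebraMap R A)
  let N := pA.map (algebraMap A St)
  -- a regular element of the fibre ring
  obtain ⟨e⟩ := Goren15.nonempty_asFiberEquiv f x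
  let L := St ⧸ N
  let e' : L ≃+* (f.fiber (f x)).presheaf.stalk (f.asFiber x) :=
    (Ideal.quotEquivOfEq (CMSlice4.map_maximalIdeal_stalkMap f hW hU hUW hxU).symm).trans e
  haveI : IsLocalRing L := e'.symm.isLocalRing
  haveI : LocallyOfFiniteType (f.fiberToSpecResidueField (f x)) := MorphismProperty.pullback_snd _ _ inferInstance
  haveI : IsLocallyNoetherian (f.fiber (f x)) := LocallyOfFiniteType.isLocallyNoetherian (f.fiberToSpecResidueField (f x))
  haveI : IsNoetherianRing L := isNoetherianRing_of_ringEquiv _ e'.symm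
  obtain ⟨rs, hrm, hlen, hreg⟩ := CanElt.exists_regular_seq (A := L) 1 (by
    rw [SMT.depth_eq_of_ringEquiv e'.symm]; exact_mod_cast hdepth)
  obtain ⟨r, rfl⟩ := List.length_eq_one_iff.1 hlen
  have hrr : IsSMulRegular L r := ((isWeaklyRegular_cons_iff L r []).1 hreg).1
  have hr : r ∈ maximalIdeal L := hrm r (List.mem_singleton_self r)
  let τ : A →+* L := (Ideal.Quotient.mk N).comp (algebraMap A St)
  have hmax : ∀ a, τ a ∈ maximalIdeal L ↔ a ∈ q := by
    intro a
    have hs : (maximalIdeal L).comap (Ideal.Quotient.mk N) = maximalIdeal St := by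
      haveI := Ideal.comap_isMaximal_of_surjective (Ideal.Quotient.mk N) Ideal.Quotient.mk_surjective (K := maximalIdeal L)
      exact IsLocalRing.eq_maximalIdeal inferInstance
    rw [RingHom.comp_apply, ← Ideal.mem_comap, hs]
    exact IsLocalization.AtPrime.to_map_mem_maximal_iff St q a
  obtain ⟨a, w, haw⟩ : ∃ a : A, ∃ w : Lˣ, τ a = w * r := by
    obtain ⟨z, hz⟩ := Ideal.Quotient.mk_surjective r
    obtain ⟨⟨a, s⟩, hs⟩ := IsLocalization.surj q.primeCompl z
    refine ⟨a, ((IsLocalization.map_units St s).map (Ideal.Quotient.mk N)).unit, ?_⟩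
    rw [IsUnit.unit_spec, RingHom.comp_apply, ← hs, map_mul, hz, mul_comm]
  have haq : a ∈ q := (hmax a).1 (haw ▸ Ideal.mul_mem_left _ _ hr)
  have hqle : Ideal.ofList [a] ≤ q := Ideal.span_le.2 fun y hy => by
    rw [Set.mem_setOf_eq, List.mem_singleton] at hy
    exact hy ▸ haq
  have hzero : ∀ b, τ b = 0 ↔ ∃ s ∉ q, s * b ∈ pA := fun b => by
    show Ideal.Quotient.mk N (algebraMap A St b) = 0 ↔ _
    rw [Ideal.Quotient.eq_zero_iff_mem, CI2.mem_map_localization q.primeCompl]
    rfl
  have hfib : KoszulFibre4.FibReg q R [a] := by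
    intro j hj b t ht hmem
    obtain rfl : j = 0 := by simpa using hj
    simp only [List.getElem_cons_zero, List.take_zero, Ideal.ofList_nil, sup_bot_eq] at hmem ⊢
    refine (hzero b).1 ?_
    have h1 : τ (t * a * b) = 0 := (hzero _).2 ⟨1, (Ideal.ne_top_iff_one q).mp (Ideal.IsPrime.ne_top inferInstance), by rwa [one_mul]⟩
    rw [map_mul, map_mul, haw] at h1
    have htu : IsUnit (τ t) := not_not.1 fun h => ht ((hmax t).1 h)
    refine hrr.right_eq_zero_of_smul ?_
    rw [smul_eq_mul]
    refine (Units.mul_right_eq_zero w).1 ?_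
    refine htu.mul_right_eq_zero.1 ?_
    rw [← h1]; ring
  obtain ⟨g₀, hg₀, hwr⟩ := KoszulFibre4.exists_isWeaklyRegular_away q [a] hqle hfib
  have hflat := (KoszulFibre4.spread_step q [a] hqle hfib 1 le_rfl).2
  -- flatness of the divisor
  let I := Ideal.span {a}
  have hI : Ideal.ofList ([a].take 1) = I := by simp [I]
  rw [hI] at hflat
  let C := A ⧸ I
  let mk : A →+* C := Ideal.Quotient.mk I
  haveI : Algebra.FinitePresentation R C := Algebra.FinitePresentation.quotient (Submodule.fg_span_singleton _)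
  have hIq : I ≤ q := (Ideal.span_singleton_le_iff_mem _).2 haq
  let qC : Ideal C := q.map mk
  haveI : qC.IsPrime := Ideal.map_isPrime_of_surjective Ideal.Quotient.mk_surjective (by rwa [Ideal.mk_ker])
  have hqC : qC.comap mk = q := by
    rw [Ideal.comap_map_of_surjective mk Ideal.Quotient.mk_surjective, ← RingHom.ker_eq_comap_bot, Ideal.mk_ker,
      sup_eq_left.mpr hIq]
  have hmem : ∀ a, mk a ∈ qC ↔ a ∈ q := fun a => by rw [← Ideal.mem_comap, hqC]
  have hflatq : Module.Flat R (LocalizedModule qC.primeCompl C) := (FlatH4.flat_localized_iff qC).mpr fun J y hy => by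
    obtain ⟨s, hs, hsy⟩ := hflat J y hy
    exact ⟨mk s, fun h => hs ((hmem s).1 h), by rwa [show mk s = algebraMap A C s from rfl, algebraMap_smul]⟩
  obtain ⟨_, ⟨h₁, rfl⟩, hh₁, hh₁flat⟩ := PrimeSpectrum.isTopologicalBasis_basic_opens.isOpen_iff.1
    (FlatH4.isOpen_flat_localized (R := R) (S := C) (M := C)) ⟨qC, inferInstance⟩ hflatq
  obtain ⟨h₁, rfl⟩ := Ideal.Quotient.mk_surjective h₁
  let G := g₀ * h₁
  have hG : G ∉ q := fun h => (Ideal.IsPrime.mem_or_mem inferInstance h).elim hg₀ fun h => hh₁ ((hmem _).2 h)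
  let V := X.basicOpen G
  have hxV : x ∈ V := by
    show x ∈ X.basicOpen G
    rw [Scheme.mem_basicOpen X G x hxU]
    exact IsLocalization.map_units St (⟨G, hG⟩ : q.primeCompl)
  have hV : IsAffineOpen V := hU.basicOpen G
  have hVU : V ≤ U := X.basicOpen_le G
  let B := Γ(X, V)
  letI : Algebra A B := (X.presheaf.map (homOfLE hVU).op).hom.toAlgebra
  haveI : IsLocalization.Away G B := hU.isLocalization_basicOpen G
  let C₂ := Localization.Away (mk G)
  have hmap : (Submonoid.powers G).map mk = Submonoid.powers (mk G) := Submonoid.map_powers _ _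
  haveI : IsLocalization ((Submonoid.powers G).map mk) C₂ := by rw [hmap]; infer_instance
  let σ : B →+* C₂ := IsLocalization.Away.map B C₂ mk G
  have hσs : Function.Surjective σ := IsLocalization.map_surjective_of_surjective (M := Submonoid.powers G)
    (g := mk) (S := B) (Q := C₂) Ideal.Quotient.mk_surjective
  have hσk : RingHom.ker σ = Ideal.span {algebraMap A B a} :=
    (IsLocalization.ker_map (S := B) C₂ mk hmap).trans (by rw [Ideal.mk_ker, Ideal.map_span, Set.image_singleton])
  have hσA : ∀ a, σ (algebraMap A B a) = algebraMap C C₂ (mk a) := fun a => IsLocalization.map_eq (S := B) (Q := C₂) _ a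
  haveI : Module.Flat R C₂ := CMSlice4.flat_away_of_forall (mk G) fun P hP => hh₁flat (a := P) fun hm => hP (by
    rw [map_mul]; exact Ideal.mul_mem_left _ _ hm)
  haveI : Algebra.FinitePresentation R C₂ := by
    haveI : Algebra.FinitePresentation C C₂ := IsLocalization.Away.finitePresentation (mk G)
    exact Algebra.FinitePresentation.trans R C C₂
  have e2 : V ≤ f ⁻¹ᵁ W := hVU.trans hUW
  let ρ : R →+* B ⧸ Ideal.span {algebraMap A B a} := (Ideal.Quotient.mk _).comp (f.appLE W V e2).hom
  let E : B ⧸ Ideal.span {algebraMap A B a} ≃+* C₂ :=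
    (Ideal.quotEquivOfEq hσk.symm).trans (RingHom.quotientKerEquivOfSurjective hσs)
  have hρ : E.toRingHom.comp ρ = algebraMap R C₂ := by
    refine RingHom.ext fun r => ?_
    show σ (f.appLE W V e2 r) = _
    rw [← Scheme.Hom.appLE_map f hUW (homOfLE hVU).op]
    show σ (algebraMap A B (algebraMap R A r)) = _
    rw [hσA, IsScalarTower.algebraMap_apply R C C₂]
    rfl
  have hρ' : ρ = E.symm.toRingHom.comp (algebraMap R C₂) := by
    rw [← hρ]; ext r; simp
  have hρflat : ρ.Flat := by
    rw [hρ']; exact RingHom.Flat.respectsIso.1 _ E.symm (RingHom.flat_algebraMap_iff.2 inferInstance)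
  have hρfp : ρ.FinitePresentation := by
    rw [hρ']; exact RingHom.finitePresentation_respectsIso.1 _ E.symm (RingHom.finitePresentation_algebraMap.2 inferInstance)
  refine ⟨V, hV, hxV, algebraMap A B a, ?_, ?_, ?_⟩
  · have h1 := (isWeaklyRegular_cons_iff (Localization.Away G) (algebraMap A (Localization.Away G) a) []).1
      (hwr G (dvd_mul_right g₀ h₁))
    let eB : Localization.Away G ≃ₐ[A] B := IsLocalization.algEquiv (Submonoid.powers G) _ _
    refine mem_nonZeroDivisors_iff_right.2 fun b hb => ?_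
    obtain ⟨y, rfl⟩ := eB.surjective b
    rw [← eB.commutes, ← map_mul] at hb
    have h2 := eB.injective (hb.trans (map_zero eB).symm)
    rw [mul_comm] at h2
    rw [h1.1.right_eq_zero_of_smul h2, map_zero]
  · have : X.presheaf.germ V x hxV (algebraMap A B a) = algebraMap A St a :=
      X.presheaf.germ_res_apply (homOfLE hVU) x hxV a
    rw [this]
    exact (IsLocalization.AtPrime.to_map_mem_maximal_iff St q a).2 haq
  · rw [← IsAffineOpen.SpecMap_appLE_fromSpec f hW hV e2, ← Category.assoc, ← Spec.map_comp]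
    haveI h1 : Flat (Spec.map (f.appLE W V e2 ≫ CommRingCat.ofHom (Ideal.Quotient.mk (Ideal.span {algebraMap A B a})))) :=
      (HasRingHomProperty.Spec_iff (P := @Flat)).2 hρflat
    haveI h2 : LocallyOfFinitePresentation (Spec.map (f.appLE W V e2 ≫ CommRingCat.ofHom (Ideal.Quotient.mk (Ideal.span {algebraMap A B a})))) :=
      (HasRingHomProperty.Spec_iff (P := @LocallyOfFinitePresentation)).2 hρfp
    exact ⟨inferInstance, inferInstance⟩

end Groth.Agent.S9756
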