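import Groth.Statements.S9757
import Groth.Agent.Lib.FibGenSch4

set_option autoImplicit false
universe u
open FlatMor

set_option backward.isDefEq.respectTransparency.types false

namespace Groth.Agent.S9757

open AlgebraicGeometry CategoryTheory Limits in
/-- Suppose the morphism f : X ⟶ S is flat and locally of finite presentation. Then X contains open
subsets U_d, indexed by d ∈ ℕ, such that for every s ∈ S the union of all U_d intersects the fibre
X_s in a dense subset of X_s, and each U_d ⟶ S is of relative dimension d. Because U_d is open in X,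
this is the same as requiring that at every point x of U_d the fibre of f containing x has local
dimension d at x; that pointwise form is the one this row uses. -/
theorem result {X S : Scheme.{u}} (f : X ⟶ S) [Flat f] [LocallyOfFinitePresentation f] :
    ∃ U : ℕ → X.Opens, (∀ s : S, Dense ((f.fiberι s) ⁻¹' ((⨆ d, U d : X.Opens) : Set ↑X))) ∧
      ∀ (d : ℕ) (x : ↑X), x ∈ U d → FlatMor.fibreDimAt f x = d := by
  classical
  refine ⟨fun d => sSup {W : X.Opens | ∀ x ∈ W, FlatMor.fibreDimAt f x = (d : WithBot ℕ∞)}, fun s => ?_,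
    fun d x hx => ?_⟩
  swap
  · obtain ⟨W, hW, hxW⟩ := TopologicalSpace.Opens.mem_sSup.1 hx
    exact hW x hxW
  rw [dense_iff_inter_open]
  intro O hO ⟨z, hz⟩
  obtain ⟨x', h1, h2, hmax, -⟩ := FibGen4.exists_isMaxFib f (f.fiberι s z)
  have hs : f (f.fiberι s z) = s := by
    have hm : f.fiberι s z ∈ Set.range (f.fiberι s) := ⟨z, rfl⟩
    rwa [f.range_fiberι] at hm
  let z' := (f.fiberHomeo s).symm ⟨x', h2.trans hs⟩
  have hz' : f.fiberι s z' = x' := f.fiberι_fiberHomeo_symm _ _
  have hzz : z' ⤳ z := by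
    rw [← (f.fiberι s).isEmbedding.isInducing.specializes_iff, hz']; exact h1
  refine ⟨z', hzz.mem_open hO hz, ?_⟩
  show f.fiberι s z' ∈ (⨆ d, _ : X.Opens)
  rw [hz']
  obtain ⟨W, hxW, hW⟩ := FibGen4.exists_nhd_fibreDimAt_eq f hmax
  rw [TopologicalSpace.Opens.mem_iSup]
  refine ⟨FibDim14.rd f x', TopologicalSpace.Opens.mem_sSup.2 ⟨W, fun y hy => ?_, hxW⟩⟩
  rw [hW y hy, FibGen4.fibreDimAt_eq_rd_of_isMaxFib f hmax]

end Groth.Agent.S9757
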