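import Groth.Statements.S9761
import Groth.Agent.Lib.NoethApproxH1.Core
import Groth.Agent.Lib.FlatH4.FlatComp

set_option autoImplicit false
universe u
open FlatMor

namespace Groth.Agent.S9761


section Aux
open CategoryTheory Limits AlgebraicGeometry Opposite Groth.Agent.ConsH13

theorem main {X S : Scheme.{u}} (f : X ⟶ S) [IsAffine X] [IsAffine S] [LocallyOfFinitePresentation f]
    (F : X.Modules) [Coh.IsQCoh F] (hF : CohB1.IsFP F) :
    ∃ (X₀ S₀ : Scheme.{u}) (f₀ : X₀ ⟶ S₀) (g : S ⟶ S₀) (g' : X ⟶ X₀), IsAffine X₀ ∧ IsAffine S₀ ∧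
      IsPullback g' f f₀ g ∧ Algebra.FiniteType ℤ Γ(S₀, ⊤) ∧ LocallyOfFiniteType f₀ ∧
      ∃ F₀ : X₀.Modules, Coh.IsCoh F₀ ∧ (FlatMod.IsFlatOver f F → FlatMod.IsFlatOver f₀ F₀) ∧
        Nonempty ((Scheme.Modules.pullback g').obj F₀ ≅ F) := by
  let A : CommRingCat.{u} := Γ(S, ⊤)
  let u : X ⟶ Spec A := f ≫ S.isoSpec.hom
  haveI : QuasiCompact f := (HasAffineProperty.iff_of_isAffine (P := @QuasiCompact)).2 inferInstance
  haveI : QuasiSeparated f := (HasAffineProperty.iff_of_isAffine (P := @QuasiSeparated)).2 inferInstance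
  obtain ⟨M⟩ := Groth.Agent.NoethApproxH1.exists_amodel (u := u) (F := F) hF
  obtain ⟨N, hN⟩ := Groth.Agent.NoethApproxH1.exists_affine M
  haveI : IsAffine N.X' := hN
  obtain ⟨P, hP, hPf⟩ : ∃ P : Groth.Agent.NoethApproxH1.AModel u F, IsAffine P.X' ∧
      (FlatMod.IsFlatOver f F → FlatMod.IsFlatOver P.u' P.F') := by
    by_cases hfl : FlatMod.IsFlatOver f F
    · obtain ⟨j, φ, hj⟩ := Groth.Agent.NoethApproxH1.exists_flat N
        (fun x => Groth.Agent.FlatH4.isFlatOverAt_comp f S.isoSpec.hom F x (Flat.stalkMap S.isoSpec.hom (f x)) (hfl x))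
      refine ⟨N.stage φ, ?_, fun _ => hj⟩
      haveI : IsAffine ((approxDiagram A).obj N.k) := inferInstance
      haveI : IsAffine ((approxDiagram A).obj j) := inferInstance
      haveI : IsAffineHom ((approxDiagram A).map φ) := isAffineHom_of_isAffine _
      haveI : IsAffineHom (pullback.fst N.u' ((approxDiagram A).map φ)) :=
        MorphismProperty.pullback_fst _ _ inferInstance
      haveI haf : @IsAffineHom (pullback N.u' ((approxDiagram A).map φ)) N.X'
          (pullback.fst N.u' ((approxDiagram A).map φ)) :=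
        MorphismProperty.pullback_fst _ _ inferInstance
      exact @isAffine_of_isAffineHom _ _ (pullback.fst N.u' ((approxDiagram A).map φ)) haf hN
    · exact ⟨N, hN, fun h => absurd h hfl⟩
  refine ⟨P.X', (approxDiagram A).obj P.k, P.u', S.isoSpec.hom ≫ (approxCone A).π.app P.k, P.q, hP,
    inferInstance, ?_, ?_, P.lft, P.F', P.coh, hPf, ⟨P.iso.symm⟩⟩
  · exact P.sq.of_iso (Iso.refl _) (Iso.refl _) S.isoSpec.symm (Iso.refl _)
      (by simp) (by simp [u]) (by simp) (by simp)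
  · haveI : Algebra.FiniteType ℤ P.k.unop.1 := (Subalgebra.fg_iff_finiteType _).1 P.k.unop.2
    exact (inferInstance : Algebra.FiniteType ℤ P.k.unop.1).equiv
      (Scheme.ΓSpecIso (CommRingCat.of P.k.unop.1)).symm.commRingCatIsoToRingEquiv.toIntAlgEquiv

end Aux



open AlgebraicGeometry CategoryTheory Limits in
/-- For a finitely presented morphism f : X ⟶ S of affine schemes and a quasi-coherent, finitely
presented O_X-module F that is flat over S, f is the base change along some g' : X ⟶ X₀ of a finite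
type morphism f₀ : X₀ ⟶ S₀ of affine schemes with S₀ of finite type over ℤ, and some coherent
O_{X₀}-module F₀, flat over S₀, satisfies g'^*F₀ ≅ F. -/
theorem result {X S : Scheme.{u}} (f : X ⟶ S) [IsAffine X] [IsAffine S] [LocallyOfFinitePresentation f]
    (F : X.Modules) [Coh.IsQCoh F] (hF : CohB1.IsFP F) (hfl : FlatMod.IsFlatOver f F) :
    ∃ (X₀ S₀ : Scheme.{u}) (f₀ : X₀ ⟶ S₀) (g : S ⟶ S₀) (g' : X ⟶ X₀), IsAffine X₀ ∧ IsAffine S₀ ∧ IsPullback g' f f₀ g ∧
      Algebra.FiniteType ℤ Γ(S₀, ⊤) ∧ LocallyOfFiniteType f₀ ∧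
      ∃ F₀ : X₀.Modules, Coh.IsCoh F₀ ∧ FlatMod.IsFlatOver f₀ F₀ ∧ Nonempty ((Scheme.Modules.pullback g').obj F₀ ≅ F) := by
  obtain ⟨X₀, S₀, f₀, g, g', h1, h2, h3, h4, h5, F₀, h6, h7, h8⟩ := main f F hF
  exact ⟨X₀, S₀, f₀, g, g', h1, h2, h3, h4, h5, F₀, h6, h7 hfl, h8⟩

end Groth.Agent.S9761
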