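import Groth.Statements.S9766
import Groth.Agent.Lib.CMComp4

set_option autoImplicit false
universe u
open FlatMor

set_option backward.isDefEq.respectTransparency.types false

namespace Groth.Agent.S9766


open AlgebraicGeometry CategoryTheory Limits in
theorem triple {X Y Z : Scheme.{u}} (f : X ⟶ Y) (g : Y ⟶ Z) (x : X) :
    letI := (f.stalkMap x).hom.toAlgebra
    letI := (g.stalkMap (f x)).hom.toAlgebra
    letI : Algebra (Z.presheaf.stalk (g (f x))) (X.presheaf.stalk x) := ((f ≫ g).stalkMap x).hom.toAlgebra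
    IsScalarTower (Z.presheaf.stalk (g (f x))) (Y.presheaf.stalk (f x)) (X.presheaf.stalk x) := by
  letI := (f.stalkMap x).hom.toAlgebra
  letI := (g.stalkMap (f x)).hom.toAlgebra
  letI : Algebra (Z.presheaf.stalk (g (f x))) (X.presheaf.stalk x) := ((f ≫ g).stalkMap x).hom.toAlgebra
  refine IsScalarTower.of_algebraMap_eq' ?_
  show ((f ≫ g).stalkMap x).hom = (f.stalkMap x).hom.comp (g.stalkMap (f x)).hom
  rw [Scheme.Hom.stalkMap_comp]
  rfl

open AlgebraicGeometry CategoryTheory Limits in
/-- For morphisms f : X ⟶ Y, g : Y ⟶ Z and a point x of X whose fibre under f ≫ g is locally Noetherian,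
Cohen–Macaulayness of f at x (flat at x with Cohen–Macaulay local ring of the fibre at x) together
with that of g at f x implies that f ≫ g is Cohen–Macaulay at x. The published statement assumes all
fibres of f, g and g ∘ f locally Noetherian; this row assumes only that the fibre of f ≫ g through x
is, which is all the argument uses. -/
theorem result {X Y Z : Scheme.{u}} (f : X ⟶ Y) (g : Y ⟶ Z) (x : X)
    (hN : IsLocallyNoetherian ((f ≫ g).fiber (g (f x))))
    (hf : MoreMor.IsCMAt f x) (hg : MoreMor.IsCMAt g (f x)) : MoreMor.IsCMAt (f ≫ g) x := by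
  let A := Z.presheaf.stalk (g (f x))
  let R := Y.presheaf.stalk (f x)
  let B := X.presheaf.stalk x
  letI : Algebra R B := (f.stalkMap x).hom.toAlgebra
  letI : Algebra A R := (g.stalkMap (f x)).hom.toAlgebra
  letI : Algebra A B := ((f ≫ g).stalkMap x).hom.toAlgebra
  haveI : IsScalarTower A R B := triple f g x
  haveI : IsLocalHom (algebraMap R B) := f.toLRSHom.prop x
  haveI : IsLocalHom (algebraMap A R) := g.toLRSHom.prop (f x)
  rw [CMComp4.isCMAt_iff] at *
  obtain ⟨hfF, hfC⟩ := hf
  obtain ⟨hgF, hgC⟩ := hg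
  have hfl : Module.Flat A B := Module.Flat.trans A R B
  refine ⟨hfl, ?_⟩
  have hNB := CMComp4.isNoetherianRing_fibRing (f ≫ g) x hN
  exact ((CMComp4.fibre_comp_iff (A := A) (R := R) (B := B)).1 ⟨(haveI := hgC; inferInstance), hNB⟩).2 ⟨hgC, hfC⟩

end Groth.Agent.S9766
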