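import Groth.Statements.S9767
import Groth.Agent.Lib.CMComp4

set_option autoImplicit false
universe u
open FlatMor

set_option backward.isDefEq.respectTransparency.types false

namespace Groth.Agent.S9767


open AlgebraicGeometry CategoryTheory Limits in
theorem triple {X Y Z : Scheme.{u}} (f : X ⟶ Y) (g : Y ⟶ Z) (x : X) :
    letI := (f.stalkMap x).hom.toAlgebra
    letI := (g.stalkMap (f x)).hom.toAlgebra
    letI : Algebra (Z.presheaf.stalk (g (f x))) (X.presheaf.stalk x) := ((f ≫ g).stalkMap x).hom.toAlgebra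
    IsScalarTower (Z.presheaf.stalk (g (f x))) (Y.presheaf.stalk (f x)) (X.presheaf.stalk x) := by
  letI := (f.stalkMap x).hom.toAlgebra
  letI := (g.stalkMap (f x)).hom.toAlgebra
  letI : Algebra (Z.presheaf.stalk (g (f x))) (X.presheaf.stalk x) := ((f ≫ g).stalkMap x).hom.toAlgebra
  refine IsScalarTower.of_algebraMap_eq' ?_
  show ((f ≫ g).stalkMap x).hom = (f.stalkMap x).hom.comp (g.stalkMap (f x)).hom
  rw [Scheme.Hom.stalkMap_comp]
  rfl

open AlgebraicGeometry CategoryTheory Limits in
/-- For f : X ⟶ Y, g : Y ⟶ Z and a point x of X such that the fibre of f through x and the fibre of g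
through f x are locally Noetherian, suppose the stalk map of f at x is flat and f ≫ g is
Cohen–Macaulay at x; then Cohen–Macaulayness passes to f at x and to g at the image point f x. The
published statement assumes all fibres of f, g and g ∘ f locally Noetherian; this row assumes only
the fibres of f and g through x and f x. -/
theorem result {X Y Z : Scheme.{u}} (f : X ⟶ Y) (g : Y ⟶ Z) (x : X)
    (hNf : IsLocallyNoetherian (f.fiber (f x))) (hNg : IsLocallyNoetherian (g.fiber (g (f x))))
    (h : MoreMor.IsCMAt (f ≫ g) x) (hfl : (f.stalkMap x).hom.Flat) : MoreMor.IsCMAt f x ∧ MoreMor.IsCMAt g (f x) := by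
  let A := Z.presheaf.stalk (g (f x))
  let R := Y.presheaf.stalk (f x)
  let B := X.presheaf.stalk x
  letI : Algebra R B := (f.stalkMap x).hom.toAlgebra
  letI : Algebra A R := (g.stalkMap (f x)).hom.toAlgebra
  letI : Algebra A B := ((f ≫ g).stalkMap x).hom.toAlgebra
  haveI : IsScalarTower A R B := triple f g x
  haveI : IsLocalHom (algebraMap R B) := f.toLRSHom.prop x
  haveI : IsLocalHom (algebraMap A R) := g.toLRSHom.prop (f x)
  rw [CMComp4.isCMAt_iff] at *
  obtain ⟨hF, hC⟩ := h
  haveI : Module.Flat R B := hfl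
  haveI : Module.FaithfullyFlat R B := Module.FaithfullyFlat.of_flat_of_isLocalHom
  have hgF : (g.stalkMap (f x)).hom.Flat := HopfFF23.flat_of_comp_faithfullyFlat _ (f.stalkMap x).hom
    (RingHom.faithfullyFlat_algebraMap_iff.2 inferInstance) (by
      rw [show (f.stalkMap x).hom.comp (g.stalkMap (f x)).hom = algebraMap A B from
        (IsScalarTower.algebraMap_eq A R B).symm]
      exact RingHom.flat_algebraMap_iff.2 hF)
  have hNR := CMComp4.isNoetherianRing_fibRing g (f x) hNg
  have h1 := ((CMComp4.fibre_comp_iff (A := A) (R := R) (B := B)).1 ⟨hNR, (haveI : LocCoh.IsCohenMacaulayLocalRing (EGA4.FibRing A B) := hC; inferInstance)⟩).1 hC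
  exact ⟨⟨hfl, h1.2⟩, (CMComp4.isCMAt_iff g (f x)).2 ⟨hgF, h1.1⟩⟩

end Groth.Agent.S9767
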