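import Groth.Statements.S9770
import Groth.Agent.Lib.UnivOpenFin4.Descend

set_option autoImplicit false
universe u
open CategoryTheory AlgebraicGeometry
open FlatMor

set_option backward.isDefEq.respectTransparency.types false

namespace Groth.Agent.S9770

/-- Let S = lim S_i be a cofiltered limit of schemes with affine transition morphisms, i₀ an index with
S_{i₀} quasi-compact and quasi-separated, and f₀ : X₀ ⟶ Y₀ a morphism of schemes over S_{i₀} with X₀
and Y₀ quasi-compact and quasi-separated and f₀ locally of finite presentation. Write f : X ⟶ Y for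
the pullback of f₀ along S ⟶ S_{i₀} (all base changes given by pullback squares). Assuming f is
universally open and locally quasi-finite (with locally of finite type, as the book's notion
includes), there is a stage S_i over S_{i₀} where the pulled-back morphism f_i : X_i ⟶ Y_i already
has both properties. -/
theorem result {I : Type u} [SmallCategory I] [IsCofiltered I]
    (D : I ⥤ Scheme.{u}) (c : Limits.Cone D) (hc : Limits.IsLimit c)
    [∀ (i j : I) (φ : i ⟶ j), IsAffineHom (D.map φ)] (i₀ : I) [CompactSpace (D.obj i₀)] [QuasiSeparatedSpace (D.obj i₀)]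
    {X₀ Y₀ : Scheme.{u}} (f₀ : X₀ ⟶ Y₀) (g₀ : Y₀ ⟶ D.obj i₀) [CompactSpace X₀] [QuasiSeparatedSpace X₀]
    [CompactSpace Y₀] [QuasiSeparatedSpace Y₀] [LocallyOfFinitePresentation f₀]
    {X Y : Scheme.{u}} (f : X ⟶ Y) (g : Y ⟶ c.pt) (qY : Y ⟶ Y₀) (qX : X ⟶ X₀)
    (hY : IsPullback qY g g₀ (c.π.app i₀)) (hX : IsPullback qX f f₀ qY)
    [LocallyQuasiFinite f] [LocallyOfFiniteType f] [UniversallyOpen f] :
    ∃ (i : I) (φ : i ⟶ i₀) (Xi Yi : Scheme.{u}) (fi : Xi ⟶ Yi) (gi : Yi ⟶ D.obj i) (pY : Yi ⟶ Y₀) (pX : Xi ⟶ X₀),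
      IsPullback pY gi g₀ (D.map φ) ∧ IsPullback pX fi f₀ pY ∧ LocallyQuasiFinite fi ∧ LocallyOfFiniteType fi ∧ UniversallyOpen fi := by
  haveI : ∀ {i j : I} (a : i ⟶ j), IsAffineHom (D.map a) := fun {i j} a => ‹∀ (i j : I) (φ : i ⟶ j), IsAffineHom (D.map φ)› i j a
  haveI : QuasiCompact f₀ := quasiCompact_of_compactSpace f₀
  let D1 := Over.forget i₀ ⋙ D
  let t1 := Groth.Agent.Descend.overT D i₀
  let c1 : Limits.Cone D1 := c.whisker (Over.forget i₀)
  have hc1 : Limits.IsLimit c1 := (Functor.Initial.isLimitWhiskerEquiv (Over.forget i₀) c).symm hc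
  have hq1 : ∀ k, c1.π.app k ≫ t1.app k = c.π.app i₀ := fun k => c.w k.hom
  let E := Groth.Agent.Descend.pbDiagram D1 t1 g₀
  let tE := Groth.Agent.Descend.pbFst D1 t1 g₀
  let e := Groth.Agent.Descend.pbCone D1 t1 g₀ c1 hq1 hY
  have he := Groth.Agent.Descend.pbIsLimit D1 t1 g₀ c1 hq1 hY hc1
  have hqE : ∀ k, e.π.app k ≫ tE.app k = qY := fun k => Groth.Agent.Descend.pbCone_fst D1 t1 g₀ c1 hq1 hY k
  haveI : @LocallyQuasiFinite X e.pt f := ‹LocallyQuasiFinite f›
  obtain ⟨j1, hj1⟩ := Groth.Agent.Descend.exists_locallyQuasiFinite (t := tE) (f := f₀) he hqE hX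
  haveI := hj1
  let f1 := Limits.pullback.snd f₀ (tE.app j1)
  haveI : LocallyOfFinitePresentation f1 := MorphismProperty.pullback_snd _ _ ‹_›
  haveI : QuasiCompact f1 := MorphismProperty.pullback_snd _ _ ‹_›
  haveI : ∀ {i j : Over i₀} (a : i ⟶ j), IsAffineHom (E.map a) := fun {i j} a => Groth.Agent.Descend.isAffineHom_map E tE a
  let t2 := Groth.Agent.Descend.overT E j1
  let c2 : Limits.Cone (Over.forget j1 ⋙ E) := e.whisker (Over.forget j1)
  have hc2 : Limits.IsLimit c2 := (Functor.Initial.isLimitWhiskerEquiv (Over.forget j1) e).symm he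
  have hq2 : ∀ k, c2.π.app k ≫ t2.app k = e.π.app j1 := fun k => e.w k.hom
  haveI : CompactSpace ↥(E.obj j1) := Groth.Agent.Descend.pb_compactSpace D1 t1 g₀ j1
  obtain ⟨k, hk⟩ := Groth.Agent.UnivOpenFin4.exists_universallyOpen (t := t2) (f := f1) hc2 hq2 (by
    have H := (IsPullback.of_hasPullback f1 (e.π.app j1)).paste_horiz (IsPullback.of_hasPullback f₀ (tE.app j1))
    rw [hqE] at H
    refine Groth.Agent.UnivOpenFin4.universallyOpen_of_isPullback H ?_
    have key : UniversallyOpen (Limits.pullback.snd f₀ qY) := by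
      rw [← hX.isoPullback_inv_snd]
      infer_instance
    exact key)
  have hlft : LocallyOfFiniteType (Limits.pullback.snd f₀ (tE.app k.left)) := inferInstance
  exact ⟨k.left.left, k.left.hom, _, _, Limits.pullback.snd f₀ (tE.app k.left), Limits.pullback.snd g₀ (D.map k.left.hom),
    Limits.pullback.fst g₀ (D.map k.left.hom), Limits.pullback.fst f₀ (tE.app k.left),
    IsPullback.of_hasPullback _ _, IsPullback.of_hasPullback f₀ (tE.app k.left),
    MorphismProperty.of_isPullback (Groth.Agent.Descend.pbMap_isPullback E tE f₀ k.hom) hj1, hlft,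
    Groth.Agent.UnivOpenFin4.universallyOpen_of_isPullback (Groth.Agent.Descend.pbMap_isPullback E tE f₀ k.hom) hk⟩

end Groth.Agent.S9770
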