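import Groth.Statements.S9778
import Groth.Agent.Lib.Weight4.PointsSep

set_option autoImplicit false
universe u
open FlatMor

namespace Groth.Agent.S9778

open AlgebraicGeometry CategoryTheory Limits in
/-- Let f : X ⟶ S be separated and locally of finite type, s a point of S and x_1, …, x_n pairwise
distinct points of X over s at which f is quasi-finite (isolated points of the fibre). Then there
are an étale morphism g : U ⟶ S with a point u over s and finitely many pairwise disjoint open and
closed subschemes V_{i,j} of X_U = X ×_S U, each finite over U and containing exactly one point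
v_{i,j} over u, with v_{i,j} mapping to x_i and κ(v_{i,j}) purely inseparable over κ(u), such that
every point of X_U over u mapping to some x_i lies in one of the V_{i,j} (so the open and closed
complement W of their union has no point over u mapping to any x_i). -/
theorem result {X S : Scheme.{u}} (f : X ⟶ S) [LocallyOfFiniteType f] [IsSeparated f] (s : S)
    {ι : Type} [Finite ι] (x : ι → ↑X) (hinj : Function.Injective x) (hs : ∀ i, f (x i) = s) (hx : ∀ i, f.QuasiFiniteAt (x i)) :
    ∃ (U : Scheme.{u}) (g : U ⟶ S) (u : U), Etale g ∧ g u = s ∧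
      ∃ (J : ι → Type) (_ : ∀ i, Finite (J i)) (V : ∀ i, J i → (pullback f g).Opens) (v : ∀ i, J i → ↑(pullback f g)),
        (∀ i j, IsClopen ((V i j : Set ↑(pullback f g)))) ∧
        (∀ i j i' j', ((V i j : Set ↑(pullback f g)) ∩ (V i' j')).Nonempty → i = i' ∧ HEq j j') ∧
        (∀ i j, v i j ∈ V i j ∧ IsFinite ((V i j).ι ≫ pullback.snd f g) ∧ pullback.snd f g (v i j) = u ∧
          (∀ w : ↑(pullback f g), w ∈ V i j → pullback.snd f g w = u → w = v i j) ∧
          (letI := ((pullback.snd f g).residueFieldMap (v i j)).hom.toAlgebra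
           IsPurelyInseparable ↑(U.residueField (pullback.snd f g (v i j))) ↑((pullback f g).residueField (v i j))) ∧
          pullback.fst f g (v i j) = x i) ∧
        (∀ (w : ↑(pullback f g)) (i : ι), pullback.snd f g w = u → pullback.fst f g w = x i → ∃ j, w ∈ V i j) := by
  classical
  obtain ⟨Ω, _, _, t, n, a, U₀, g₀, ū₀, W₀, ht, hainj, hapt, hall, hg₀, hū₀, hfin₀, huniq₀⟩ :=
    Groth.Agent.Weight.exists_split_points f s x hinj hs hx
  haveI := hg₀
  obtain ⟨U, g, ū, W, hg, hū', hfin, huniq, hclopen, hdisj⟩ :=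
    Groth.Agent.Weight.exists_disjoint_shrink f a hainj g₀ ū₀ W₀ hfin₀ huniq₀
  have hū : ū ≫ g = t := hū'.trans hū₀
  haveI := hfin
  choose v hvW hvu hvx hvuniq hvc hvres using fun l => Groth.Agent.Weight.piece_props (f := f) (huniq l)
  refine ⟨U, g, Groth.Agent.Weight.pt ū, hg, by rw [← Groth.Agent.Weight.pt_comp, hū, ht],
    fun i => Fin (n i), fun i => inferInstance, fun i j => W ⟨i, j⟩, fun i j => v ⟨i, j⟩,
    fun i j => hclopen _, ?_,
    fun i j => ⟨hvW _, hfin _, hvu _, hvuniq _, (hvres _).2, (hvx _).trans (hapt _)⟩, ?_⟩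
  · intro i j i' j' h
    have h1 : (⟨i, j⟩ : Σ i, Fin (n i)) = ⟨i', j'⟩ := hdisj _ _ h
    exact ⟨(Sigma.mk.inj_iff.1 h1).1, (Sigma.mk.inj_iff.1 h1).2⟩
  · intro w i hwu hwx
    obtain ⟨c, hc, hcw⟩ := Groth.Agent.Weight.exists_lift_of_eq (pullback.snd f g) w
      (Groth.Agent.Weight.quasiFiniteAt_pullback_snd f g w (by rw [hwx]; exact hx i)) ū hwu
    obtain ⟨⟨i', j⟩, hl, rfl⟩ := hall i (c ≫ pullback.fst f g)
      (by rw [Category.assoc, pullback.condition, ← Category.assoc, hc, hū])
      (by rw [Groth.Agent.Weight.pt_comp, hcw, hwx])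
    refine ⟨j, ?_⟩
    rw [← hcw, hvc _ c hc hl.symm]
    exact hvW _

end Groth.Agent.S9778
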