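import Groth.Statements.S9779
import Groth.Agent.Lib.QFQuot4.Scheme

set_option autoImplicit false
universe u
open FlatMor

set_option backward.isDefEq.respectTransparency.types false

namespace Groth.Agent.S9779


set_option backward.isDefEq.respectTransparency.types false in
open AlgebraicGeometry CategoryTheory Limits in
theorem exists_gen {X : Scheme.{u}} [IsLocallyNoetherian X] (U : X.Opens) (x : X)
    (hx : x ∈ closure (U : Set X)) : ∃ x' ∈ U, x' ⤳ x := by
  obtain ⟨W, hW, hxW, -⟩ := exists_isAffineOpen_mem_and_subset (X := X) (x := x) (U := ⊤) trivial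
  haveI : IsNoetherianRing Γ(X, W) := IsLocallyNoetherian.component_noetherian ⟨W, hW⟩
  let P : PrimeSpectrum Γ(X, W) := hW.primeIdealOf ⟨x, hxW⟩
  let O : TopologicalSpace.Opens (PrimeSpectrum Γ(X, W)) :=
    ⟨hW.fromSpec ⁻¹' (U : Set X), U.2.preimage hW.fromSpec.continuous⟩
  have hP : P ∈ closure (O : Set (PrimeSpectrum Γ(X, W))) := by
    have h1 := hW.fromSpec.isOpenEmbedding.isOpenMap.preimage_closure_eq_closure_preimage
      hW.fromSpec.continuous (U : Set X)
    exact h1.le (show hW.fromSpec P ∈ closure (U : Set X) by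
      rw [show hW.fromSpec P = x from hW.fromSpec_primeIdealOf ⟨x, hxW⟩]; exact hx)
  by_contra hne
  push Not at hne
  have key : ∀ g : Γ(X, W), (PrimeSpectrum.basicOpen g : Set (PrimeSpectrum Γ(X, W))) ⊆ O →
      P ∉ closure (PrimeSpectrum.basicOpen g : Set (PrimeSpectrum Γ(X, W))) := by
    intro g hg hcl
    have hnil : ∀ p : PrimeSpectrum Γ(X, W), p.asIdeal ≤ P.asIdeal → g ∈ p.asIdeal := fun p hp => by
      by_contra hgp
      refine hne (hW.fromSpec p) (hg hgp) ?_
      have hx' : hW.fromSpec P = x := hW.fromSpec_primeIdealOf ⟨x, hxW⟩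
      exact hx' ▸ ((PrimeSpectrum.le_iff_specializes p P).1 hp).map hW.fromSpec.continuous
    let L := Localization.AtPrime P.asIdeal
    have hn : IsNilpotent (algebraMap Γ(X, W) L g) := by
      rw [← mem_nilradical, nilradical_eq_sInf, Submodule.mem_sInf]
      intro J (hJ : Ideal.IsPrime J)
      have hJP : (Ideal.comap (algebraMap Γ(X, W) L) J) ≤ P.asIdeal := by
        haveI : Ideal.IsPrime J := hJ
        refine (Ideal.comap_mono (IsLocalRing.le_maximalIdeal hJ.ne_top)).trans ?_
        exact (IsLocalization.AtPrime.under_maximalIdeal L P.asIdeal).le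
      exact hnil ⟨_, hJ.comap _⟩ hJP
    obtain ⟨n, hn⟩ := hn
    rw [← map_pow] at hn
    obtain ⟨⟨s, hs⟩, hsg⟩ := (IsLocalization.map_eq_zero_iff P.asIdeal.primeCompl L _).1 hn
    obtain ⟨p, hp1, hp2⟩ := mem_closure_iff.1 hcl _ (PrimeSpectrum.basicOpen s).2 hs
    have : s * g ^ n ∈ p.asIdeal := by rw [hsg]; exact zero_mem _
    rcases p.isPrime.mem_or_mem this with h | h
    · exact hp1 h
    · exact hp2 (p.isPrime.mem_of_pow_mem n h)
  have hc : IsCompact (O : Set (PrimeSpectrum Γ(X, W))) := TopologicalSpace.NoetherianSpace.isCompact _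
  obtain ⟨t, hsub, hfin, ht⟩ := (PrimeSpectrum.isBasis_basic_opens.exists_finite_of_isCompact hc)
  have hP' : P ∈ ⋃ V ∈ t, closure (V : Set (PrimeSpectrum Γ(X, W))) := by
    rw [← hfin.closure_biUnion]
    refine closure_mono ?_ hP
    intro p hp
    have : p ∈ (sSup t : TopologicalSpace.Opens _) := ht ▸ hp
    obtain ⟨V, hV, hpV⟩ := TopologicalSpace.Opens.mem_sSup.1 this
    exact Set.mem_biUnion hV hpV
  obtain ⟨V, hV, hPV⟩ := Set.mem_iUnion₂.1 hP'
  obtain ⟨g, rfl⟩ := hsub hV
  exact key g (fun p hp => ht.ge (TopologicalSpace.Opens.mem_sSup.2 ⟨_, hV, hp⟩)) hPV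

open AlgebraicGeometry CategoryTheory Limits in
/-- Suppose S is locally Noetherian and the morphism f : X ⟶ S is locally of finite type; take x a point
of X closed in its fibre, and U ⊆ X an open subscheme not meeting the fibre through x but with x in
the closure of U. Then there is a closed subscheme Z of X passing through x such that Z ⟶ S is
quasi-finite at x and Z contains a point z of U specializing to x with f z ≠ f x. -/
theorem result {X S : Scheme.{u}} (f : X ⟶ S) [LocallyOfFiniteType f] [IsLocallyNoetherian S] (x : X)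
    (hcl : IsClosed (Subtype.val ⁻¹' {x} : Set ↑(f ⁻¹' {f x}))) (U : X.Opens)
    (hU : ∀ x' ∈ U, f x' ≠ f x) (hxU : x ∈ closure (U : Set ↑X)) :
    ∃ (I : X.IdealSheafData) (z₀ x₀ : ↑I.subscheme), I.subschemeι x₀ = x ∧ (I.subschemeι ≫ f).QuasiFiniteAt x₀ ∧
      I.subschemeι z₀ ∈ U ∧ I.subschemeι z₀ ⤳ x ∧ f (I.subschemeι z₀) ≠ f x := by
  haveI : IsLocallyNoetherian X := LocallyOfFiniteType.isLocallyNoetherian f
  obtain ⟨x', hx'U, hsp⟩ := exists_gen U x hxU
  exact Groth.Agent.QFQuot4.exists_qf_subscheme f x hcl U ⟨x', hx'U, hsp, hU x' hx'U⟩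

end Groth.Agent.S9779
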