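import Groth.Statements.S9790
import Groth.Agent.Lib.Dev4.RelAssClosureDim

set_option autoImplicit false
universe u
open FlatMor
set_option maxSynthPendingDepth 3
open TensorProduct

set_option backward.isDefEq.respectTransparency.types false

namespace Groth.Agent.S9790



open AlgebraicGeometry CategoryTheory Limits Groth.Agent.FibDim14

open AlgebraicGeometry CategoryTheory Limits in
/-- Let f : X ⟶ S be locally of finite type, F a quasi-coherent O_X-module of finite type and y a point
of the relative assassin of F over S. Let Y ⊆ X be the closure of y with its reduced induced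
(integral) closed subscheme structure. Suppose F is S-flat at every point of Y that is a generic
point of an irreducible component of its fibre over S (e.g. F flat over S everywhere). Then Y ⟶ S
has constant fibre dimension: there is d ≥ 0 with dim_x(Y_{f x}) = d for every point x of Y, i.e. Y
has relative dimension d over the closure of f y. The published statement also contains a part (1),
that such generic points are again relative associated points of F; this row states only part (2),
the relative-dimension clause. -/
theorem result {X S : Scheme.{u}} (f : X ⟶ S) [LocallyOfFiniteType f] (F : X.Modules) [Coh.IsQCoh F]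
    (hF : CohB1.IsFT F) (y : X) (hy : y ∈ MoreMor.relAss f F)
    (hflat : ∀ x : ↑(Scheme.IdealSheafData.vanishingIdeal (TopologicalSpace.Closeds.closure {y})).subscheme,
      (∃ Z ∈ irreducibleComponents ↥(((Scheme.IdealSheafData.vanishingIdeal (TopologicalSpace.Closeds.closure {y})).subschemeι ≫ f).fiber (f ((Scheme.IdealSheafData.vanishingIdeal (TopologicalSpace.Closeds.closure {y})).subschemeι x))),
        IsGenericPoint (((Scheme.IdealSheafData.vanishingIdeal (TopologicalSpace.Closeds.closure {y})).subschemeι ≫ f).asFiber x) Z) →
      FlatMod.IsFlatOverAt f F ((Scheme.IdealSheafData.vanishingIdeal (TopologicalSpace.Closeds.closure {y})).subschemeι x)) :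
    ∃ d : ℕ, ∀ x : ↑(Scheme.IdealSheafData.vanishingIdeal (TopologicalSpace.Closeds.closure {y})).subscheme, FlatMor.fibreDimAt ((Scheme.IdealSheafData.vanishingIdeal (TopologicalSpace.Closeds.closure {y})).subschemeι ≫ f) x = d := by
  refine ⟨rd f y, fun x => ?_⟩
  let Φ := Dev4.closureι y ≫ f
  obtain ⟨a, hax, hfa, hd, hall⟩ := exists_fibreDimAt_eq Φ x
  have hmax : IsMaxFib Φ a := fun c hc he => by
    by_contra hne
    have h1 := rd_lt_of_specializes Φ hc hne he
    have h2 := hall c (hc.trans hax) (he.trans hfa)
    omega
  have hflata := hflat a ⟨closure {Φ.asFiber a},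
    (VarDim.maximal_iff_mem_irreducibleComponents (X := Φ.fiber (Φ a)) (Φ.asFiber a)).1
      ((isMaxFib_fiberι Φ (Φ a) (Φ.asFiber a)).1 (by rwa [Scheme.Hom.fiberι_asFiber])), rfl⟩
  have hya : y ⤳ Dev4.closureι y a :=
    specializes_iff_mem_closure.2 (by rw [← Dev4.range_closureι y]; exact ⟨a, rfl⟩)
  obtain ⟨-, hrd⟩ := Dev4.relAss_max_point f y F hF hy hya (fun z hyz hza hfz => by
    obtain ⟨c, rfl⟩ : z ∈ Set.range (Dev4.closureι y) := by rw [Dev4.range_closureι]; exact hyz.mem_closure
    rw [hmax c ((Dev4.closureι y).isEmbedding.isInducing.specializes_iff.1 hza) hfz]) hflata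
  show FlatMor.fibreDimAt Φ x = _
  rw [hd, Dev4.rd_closureι, hrd]

end Groth.Agent.S9790
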