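import Groth.Statements.S9794
import Mathlib.AlgebraicGeometry.Noetherian
import Mathlib.RingTheory.Ideal.KrullsHeightTheorem

set_option autoImplicit false
universe u
open CategoryTheory AlgebraicGeometry TopologicalSpace
open Props

namespace Groth.Agent.S9794

theorem coheight_lt_top {S : Scheme.{u}} [IsLocallyNoetherian S] (x : S) : Order.coheight x < ⊤ := by
  have h := (ringKrullDim_lt_top (R := S.presheaf.stalk x))
  rw [ringKrullDim_stalk_eq_coheight] at h
  exact WithBot.coe_lt_coe.1 h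

/-- The closed subset cut out by the closure. -/
theorem closure_lt {α : Type u} [TopologicalSpace α] {E : Set α} {A G : TopologicalSpace.Closeds α}
    (hA : (G : Set α) ∩ (A : Set α) ⊂ (G : Set α)) (hE : closure E = (G : Set α)) :
    (⟨closure (E ∩ A), isClosed_closure⟩ : TopologicalSpace.Closeds α) < G := by
  refine SetLike.coe_ssubset_coe.1 (Set.ssubset_of_subset_of_ssubset ?_ hA)
  show closure (E ∩ A) ⊆ (G : Set α) ∩ (A : Set α)
  refine (closure_inter_subset_inter_closure _ _).trans ?_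
  rw [hE, A.isClosed.closure_eq]

theorem exists_countable {S : Scheme.{u}} [IsNoetherian S] (Z : TopologicalSpace.Closeds S) :
    ∀ T : Set S, closure T = (Z : Set S) → ∃ E : Set S, E ⊆ T ∧ E.Countable ∧ (Z : Set S) ⊆ closure E := by
  induction Z using WellFoundedLT.induction with
  | _ Z ih =>
  intro T hT
  by_cases hne : (Z : Set S).Nonempty
  swap
  · exact ⟨∅, Set.empty_subset _, Set.countable_empty, by rw [Set.not_nonempty_iff_eq_empty.1 hne]; exact Set.empty_subset _⟩
  by_cases hirr : IsIrreducible (Z : Set S)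
  swap
  · have : ¬ IsPreirreducible (Z : Set S) := fun h => hirr ⟨hne, h⟩
    rw [isPreirreducible_iff_isClosed_union_isClosed] at this
    push Not at this
    obtain ⟨A, B, hA, hB, hAB, hnA, hnB⟩ := this
    have hTZ : T ⊆ (Z : Set S) := hT ▸ subset_closure
    obtain ⟨E₁, hE₁, hc₁, hd₁⟩ := ih _ (closure_lt (A := ⟨A, hA⟩) ⟨Set.inter_subset_left, fun h => hnA (h.trans Set.inter_subset_right)⟩ hT) _ rfl
    obtain ⟨E₂, hE₂, hc₂, hd₂⟩ := ih _ (closure_lt (A := ⟨B, hB⟩) ⟨Set.inter_subset_left, fun h => hnB (h.trans Set.inter_subset_right)⟩ hT) _ rfl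
    refine ⟨E₁ ∪ E₂, Set.union_subset (hE₁.trans Set.inter_subset_left) (hE₂.trans Set.inter_subset_left), hc₁.union hc₂, ?_⟩
    rw [← hT, closure_union]
    have hu : T = (T ∩ A) ∪ (T ∩ B) := by
      rw [← Set.inter_union_distrib_left, Set.inter_eq_left.2 (hTZ.trans hAB)]
    conv_lhs => rw [hu, closure_union]
    exact Set.union_subset_union hd₁ hd₂
  obtain ⟨c, hgen⟩ : ∃ c, IsGenericPoint c (Z : Set S) := ⟨_, hirr.isGenericPoint_genericPoint Z.isClosed⟩
  have hTZ : T ⊆ (Z : Set S) := hT ▸ subset_closure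
  by_cases hcT : c ∈ T
  · exact ⟨{c}, Set.singleton_subset_iff.2 hcT, Set.countable_singleton c, hgen.def.ge⟩
  let D : Set S := {z | z ≠ c ∧ z ∈ (Z : Set S) ∧ z ∈ closure (T ∩ closure {z})}
  let M : Set S := {m | m ∈ D ∧ ∀ z ∈ D, z ⤳ m → z = m}
  have hnc : ∀ z ∈ D, ¬ z ⤳ c := fun z hz h => hz.1 (h.antisymm (hgen.specializes hz.2.1)).eq
  have hTD : ∀ t ∈ T, t ∈ D := fun t ht =>
    ⟨fun h => hcT (h ▸ ht), hTZ ht, subset_closure ⟨ht, subset_closure rfl⟩⟩
  have hDM : ∀ z ∈ D, ∃ m ∈ M, m ⤳ z := by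
    intro z hz
    obtain ⟨m, ⟨hmD, hmz⟩, hmin⟩ :=
      WellFounded.has_min (InvImage.wf (fun w : S => Order.coheight w) wellFounded_lt) {w | w ∈ D ∧ w ⤳ z}
        ⟨z, hz, specializes_rfl⟩
    refine ⟨m, ⟨hmD, fun w hw hwm => ?_⟩, hmz⟩
    by_contra hne
    have hlt : m < w := lt_of_le_not_ge hwm fun h' => hne (hwm.antisymm h').eq
    exact hmin w ⟨hw, hwm.trans hmz⟩ (Order.coheight_strictAnti hlt (coheight_lt_top _))
  have hMinf : M.Infinite := by
    intro hfin
    have hsub : T ⊆ ⋃ m ∈ M, closure {m} := fun t ht => by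
      obtain ⟨m, hm, hmt⟩ := hDM t (hTD t ht)
      exact Set.mem_iUnion₂.2 ⟨m, hm, hmt.mem_closure⟩
    have := closure_minimal hsub (hfin.isClosed_biUnion fun m _ => isClosed_closure)
    rw [hT] at this
    obtain ⟨m, hm, hcm⟩ := Set.mem_iUnion₂.1 (this hgen.mem)
    exact hnc m hm.1 (specializes_iff_mem_closure.2 hcm)
  let e : ℕ → S := fun n => (hMinf.natEmbedding M n).1
  have he : ∀ n, e n ∈ M := fun n => (hMinf.natEmbedding M n).2
  have hEe : ∀ n, ∃ E : Set S, E ⊆ T ∩ closure {e n} ∧ E.Countable ∧ e n ∈ closure E := by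
    intro n
    have hlt : (⟨closure (T ∩ closure {e n}), isClosed_closure⟩ : TopologicalSpace.Closeds S) < Z := by
      refine closure_lt (A := ⟨closure {e n}, isClosed_closure⟩) ⟨Set.inter_subset_left, fun h => ?_⟩ hT
      exact hnc _ (he n).1 (specializes_iff_mem_closure.2 (h hgen.mem).2)
    obtain ⟨E, hE, hc, hd⟩ := ih _ hlt _ rfl
    exact ⟨E, hE, hc, hd (he n).1.2.2⟩
  choose E hE hEc hEd using hEe
  refine ⟨⋃ n, E n, Set.iUnion_subset fun n => (hE n).trans Set.inter_subset_left, Set.countable_iUnion hEc, ?_⟩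
  by_contra hno
  have hcF : c ∉ closure (⋃ n, E n) := fun h => hno (hgen.def.ge.trans (closure_minimal (Set.singleton_subset_iff.2 h) isClosed_closure))
  have key : ∀ (G : TopologicalSpace.Closeds S) (F : Set S), F ⊆ T → closure F = (G : Set S) → c ∉ (G : Set S) →
      (M ∩ (G : Set S)).Finite := by
    intro G
    induction G using WellFoundedLT.induction with
    | _ G ihG =>
    intro F hF hFG hcG
    by_cases hnG : (G : Set S).Nonempty
    swap
    · rw [Set.not_nonempty_iff_eq_empty.1 hnG, Set.inter_empty]; exact Set.finite_empty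
    by_cases hirG : IsIrreducible (G : Set S)
    · obtain ⟨g, hg⟩ : ∃ g, IsGenericPoint g (G : Set S) := ⟨_, hirG.isGenericPoint_genericPoint G.isClosed⟩
      have hFG' : F ⊆ (G : Set S) := hFG ▸ subset_closure
      have hgD : g ∈ D := by
        refine ⟨fun h => hcG (h ▸ hg.mem), ?_, ?_⟩
        · rw [← hT]; exact closure_mono hF (hFG ▸ hg.mem)
        · rw [hg.def]; exact closure_mono (Set.subset_inter hF hFG') (hFG ▸ hg.mem)
      refine (Set.finite_singleton g).subset fun m hm => ?_
      exact (hm.1.2 g hgD (hg.specializes hm.2)).symm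
    · have : ¬ IsPreirreducible (G : Set S) := fun h => hirG ⟨hnG, h⟩
      rw [isPreirreducible_iff_isClosed_union_isClosed] at this
      push Not at this
      obtain ⟨A, B, hA, hB, hAB, hnA, hnB⟩ := this
      have hlA := closure_lt (A := ⟨A, hA⟩) ⟨Set.inter_subset_left, fun h => hnA (h.trans Set.inter_subset_right)⟩ hFG
      have hlB := closure_lt (A := ⟨B, hB⟩) ⟨Set.inter_subset_left, fun h => hnB (h.trans Set.inter_subset_right)⟩ hFG
      have h1 := ihG _ hlA _ (Set.inter_subset_left.trans hF) rfl fun h => hcG (hlA.le h)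
      have h2 := ihG _ hlB _ (Set.inter_subset_left.trans hF) rfl fun h => hcG (hlB.le h)
      refine (h1.union h2).subset fun m hm => ?_
      have hm2 : m ∈ closure ((F ∩ A) ∪ (F ∩ B)) := by
        rw [← Set.inter_union_distrib_left, Set.inter_eq_left.2 ((hFG ▸ subset_closure : F ⊆ (G : Set S)).trans hAB), hFG]
        exact hm.2
      rw [closure_union] at hm2
      exact hm2.imp (fun h => ⟨hm.1, h⟩) (fun h => ⟨hm.1, h⟩)
  have hfin := key ⟨_, isClosed_closure⟩ _ (Set.iUnion_subset fun n => (hE n).trans Set.inter_subset_left) rfl hcF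
  refine Set.infinite_range_of_injective (f := e) (Subtype.val_injective.comp (hMinf.natEmbedding M).injective) (hfin.subset ?_)
  rintro _ ⟨n, rfl⟩
  exact ⟨he n, closure_mono (Set.subset_iUnion E n) (hEd n)⟩


/-- In a Noetherian scheme, an infinite dense set of points contains a countable subset which is dense. -/
theorem result (S : Scheme.{u}) [IsNoetherian S]
    (T : Set S) (hT : T.Infinite) (hd : Dense T) :
    ∃ E : Set S, E ⊆ T ∧ E.Countable ∧ Dense E := by
  obtain ⟨E, hE, hc, hE'⟩ := exists_countable (⊤ : TopologicalSpace.Closeds S) T (hd.closure_eq.trans rfl)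
  exact ⟨E, hE, hc, fun x => hE' (Set.mem_univ x)⟩

end Groth.Agent.S9794
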