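import Groth.Statements.S9799
import Mathlib
import Groth.Agent.Lib.WeakAss18.Iso
import Groth.Agent.Lib.WeakAss18.Push

set_option autoImplicit false
universe u
open CategoryTheory AlgebraicGeometry TopologicalSpace
open Props

namespace Groth.Agent.S9799

/-- Let X be a normal scheme (all local rings are integrally closed domains) such that every
quasi-compact open subset has finitely many irreducible components. Then the irreducible components
of X are open and pairwise disjoint; hence X is the disjoint union of its irreducible components,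
each an open subscheme which is normal and integral. -/
theorem result (X : Scheme.{u})
    (hfin : ∀ U : X.Opens, IsCompact (U : Set X) → (irreducibleComponents ↥U).Finite)
    (hN : Pi1.IsNormalScheme X) :
    (∀ Z ∈ irreducibleComponents X, IsOpen Z) ∧
      ∀ Z ∈ irreducibleComponents X, ∀ Z' ∈ irreducibleComponents X, Z ≠ Z' → Disjoint Z Z' := by
  classical
  have key : ∀ Z ∈ irreducibleComponents X, ∀ Z' ∈ irreducibleComponents X, ∀ x ∈ Z, x ∈ Z' → Z = Z' := by
    intro Z hZ Z' hZ' x hxZ hxZ'
    haveI := (hN x).1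
    obtain ⟨W, hW, hxW, -⟩ := AlgebraicGeometry.exists_isAffineOpen_mem_and_subset (U := (⊤ : X.Opens))
      (x := x) trivial
    let := TopCat.Presheaf.algebra_section_stalk X.presheaf (⟨x, hxW⟩ : W)
    haveI := hW.isLocalization_stalk ⟨x, hxW⟩
    haveI : (RingHom.ker (algebraMap Γ(X, W) (X.presheaf.stalk x))).IsPrime := RingHom.ker_isPrime _
    obtain ⟨η₀, hη₀W, hη₀u⟩ := Groth.Agent.WA.exists_point hW
      (RingHom.ker (algebraMap Γ(X, W) (X.presheaf.stalk x)))
    -- the generization from the zero ideal of the stalk specializes to every generization of `x`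
    have hgen : ∀ η : X, η ⤳ x → η₀ ⤳ η := by
      intro η hη
      have hηW : η ∈ W := hη.mem_open W.isOpen hxW
      refine Groth.Agent.WA.specializes_of_isUnit hW hηW hη₀W fun r hr => (hη₀u r).2 fun hker => ?_
      haveI := Groth.Agent.M1.isQCoh_structureModule X
      have h0 := Groth.Agent.WA.germ_zero_of_specializes hxW hηW hη
        (show Γ(Coh.structureModule X, W) from r) ((Groth.Agent.WA.germ_O_eq_zero_iff hxW r).2 hker)
      rw [Groth.Agent.WA.germ_O_eq_zero_iff] at h0
      exact not_isUnit_zero (h0 ▸ hr)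
    have hcomp : ∀ Y ∈ irreducibleComponents X, x ∈ Y → Y = closure ({η₀} : Set X) := by
      intro Y hY hxY
      obtain ⟨η, hη⟩ := QuasiSober.sober hY.1 (isClosed_of_mem_irreducibleComponents Y hY)
      have h1 : Y ⊆ closure ({η₀} : Set X) := by
        rw [← hη.def]
        exact specializes_iff_closure_subset.1 (hgen η (hη.specializes hxY))
      exact le_antisymm h1 (hY.2 isIrreducible_singleton.closure h1)
    exact (hcomp Z hZ hxZ).trans (hcomp Z' hZ' hxZ').symm
  refine ⟨fun Z hZ => ?_, fun Z hZ Z' hZ' hne => Set.disjoint_left.2 fun x h h' => hne (key Z hZ Z' hZ' x h h')⟩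
  refine isOpen_iff_forall_mem_open.2 fun x hx => ?_
  obtain ⟨W, hW, hxW, -⟩ := AlgebraicGeometry.exists_isAffineOpen_mem_and_subset (U := (⊤ : X.Opens))
    (x := x) trivial
  have hWfin := hfin W hW.isCompact
  -- the components of `X` meeting `W` correspond to components of `W`
  have hS : {Y : Set X | Y ∈ irreducibleComponents X ∧ (Y ∩ (W : Set X)).Nonempty}.Finite := by
    refine Set.Finite.of_finite_image (f := fun Y => ((Subtype.val : W → X) ⁻¹' Y)) ?_ ?_
    · refine hWfin.subset ?_
      rintro _ ⟨Y, ⟨hY, hne⟩, rfl⟩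
      refine ⟨hY.1.preimage W.isOpen.isOpenEmbedding_subtypeVal (by
        obtain ⟨y, hy, hyW⟩ := hne
        exact ⟨y, hy, ⟨y, hyW⟩, rfl⟩), fun S hS hle => ?_⟩
      intro y hy
      obtain ⟨η, hη⟩ := QuasiSober.sober hY.1 (isClosed_of_mem_irreducibleComponents Y hY)
      obtain ⟨y₀, hy₀, hy₀W⟩ := hne
      have hηW : η ∈ W := (hη.specializes hy₀).mem_open W.isOpen hy₀W
      have hηS : (⟨η, hηW⟩ : W) ∈ S := hle hη.mem
      have h1 : IsIrreducible (Subtype.val '' S : Set X) := hS.image _ continuous_subtype_val.continuousOn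
      have h2 : Y ⊆ closure (Subtype.val '' S) := by
        rw [← hη.def]
        exact closure_mono (Set.singleton_subset_iff.2 ⟨_, hηS, rfl⟩)
      exact hY.2 h1.closure h2 (subset_closure ⟨y, hy, rfl⟩)
    · intro Y hY Y' hY' e
      obtain ⟨y, hy, hyW⟩ := hY.2
      refine key Y hY.1 Y' hY'.1 y hy ?_
      exact (Set.ext_iff.1 e ⟨y, hyW⟩).1 hy
  refine ⟨(W : Set X) ∩ (⋃ Y ∈ {Y : Set X | Y ∈ irreducibleComponents X ∧ (Y ∩ (W : Set X)).Nonempty} \ {Z}, Y)ᶜ,
    fun y hy => ?_, W.isOpen.inter ((hS.subset Set.diff_subset).isClosed_biUnion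
      fun Y hY => isClosed_of_mem_irreducibleComponents Y hY.1.1).isOpen_compl, hxW, fun h => ?_⟩
  · by_contra hyZ
    refine hy.2 (Set.mem_iUnion₂.2 ⟨irreducibleComponent y, ⟨⟨irreducibleComponent_mem_irreducibleComponents y,
      y, mem_irreducibleComponent, hy.1⟩, fun h => hyZ ?_⟩, mem_irreducibleComponent⟩)
    exact (Set.mem_singleton_iff.1 h) ▸ mem_irreducibleComponent
  · obtain ⟨Y, hY, hxY⟩ := Set.mem_iUnion₂.1 h
    exact hY.2 (key Y hY.1.1 Z hZ x hxY hx)

end Groth.Agent.S9799
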