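import Groth.Statements.S9835
import Groth.Agent.Lib.PropsNagata1.Basic

set_option autoImplicit false
universe u
open CategoryTheory AlgebraicGeometry TopologicalSpace
open Props

namespace Groth.Agent.S9835

/-- If an integral scheme has an affine open covering by spectra of Japanese (N-2) domains, then the
coordinate ring of every nonempty affine open is a Japanese domain. -/
theorem result (X : Scheme.{u}) [IsIntegral X] {ι : Type u}
    (U : ι → X.Opens) [∀ i, Nonempty (U i)] (hU : iSup U = ⊤) (haff : ∀ i, IsAffineOpen (U i))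
    (hJ : ∀ i, CAlg.IsN2 Γ(X, U i)) (V : X.Opens) [Nonempty V] (hV : IsAffineOpen V) :
    CAlg.IsN2 Γ(X, V) := by
  let U' : ι → X.affineOpens := fun i => ⟨U i, haff i⟩
  suffices key : ∀ _ : Nonempty (V : X.Opens), CAlg.IsN2 Γ(X, V) from key inferInstance
  refine of_affine_open_cover (P := fun W : X.affineOpens => ∀ _ : Nonempty (W : X.Opens), CAlg.IsN2 Γ(X, W))
    U' hU ⟨V, hV⟩ ?_ ?_ (fun i _ => hJ i)
  · intro W f h hne
    haveI : Nonempty (X.basicOpen f) := hne
    haveI : Nonempty (W : X.Opens) := let ⟨x⟩ := hne; ⟨⟨x.1, X.basicOpen_le f x.2⟩⟩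
    haveI := W.2.isLocalization_basicOpen f
    exact Groth.Agent.CAlgLow.isN2_of_isLocalization (R := Γ(X, W)) (S := Γ(X, X.basicOpen f)) (Submonoid.powers f) (h inferInstance)
  · intro W s hs h hne
    haveI := hne
    refine Groth.Agent.PropsNagata1.isN2_of_span s hs fun f hf hf0 S _ _ _ _ => ?_
    haveI : Nonempty (X.basicOpen f) := by
      have : (X.basicOpen f : Set X).Nonempty := by
        rw [Set.nonempty_iff_ne_empty]
        intro h0
        exact hf0 (AlgebraicGeometry.basicOpen_eq_bot_iff f |>.1 (TopologicalSpace.Opens.ext h0))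
      exact this.to_subtype
    haveI := W.2.isLocalization_basicOpen f
    exact Groth.Agent.PropsNagata1.isN2_of_ringEquiv
      (IsLocalization.algEquiv (Submonoid.powers f) Γ(X, X.basicOpen f) S).toRingEquiv (h ⟨f, hf⟩ (show Nonempty (X.basicOpen f) from inferInstance))

end Groth.Agent.S9835
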