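import Groth.Statements.S9802
import Groth.Agent.S9835
import Groth.Agent.Lib.CohFound.DevissageModel

set_option autoImplicit false
set_option linter.style.haveILetI false
set_option backward.isDefEq.respectTransparency.types false
universe u
open CategoryTheory AlgebraicGeometry TopologicalSpace
open Props

namespace Groth.Agent.S9802

/-- On a nonempty affine open an integral closed subscheme is the quotient by a prime. -/
theorem exists_prime {X Z : Scheme.{u}} (i : Z ⟶ X) [IsClosedImmersion i] [IsIntegral Z] {U : X.Opens}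
    (hU : IsAffineOpen U) [Nonempty (i ⁻¹ᵁ U)] :
    (RingHom.ker (i.app U).hom).IsPrime ∧ Nonempty (Γ(X, U) ⧸ RingHom.ker (i.app U).hom ≃+* Γ(Z, i ⁻¹ᵁ U)) :=
  ⟨RingHom.ker_isPrime _, ⟨RingHom.quotientKerEquivOfSurjective (i.app_surjective U hU)⟩⟩

/-- A locally Noetherian scheme is Nagata (every affine open has a Nagata coordinate ring) if and only
if every integral closed subscheme is Japanese (every nonempty affine open of it has an N-2
coordinate ring). -/
theorem result (X : Scheme.{u})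
    [IsLocallyNoetherian X] :
    (∀ U : X.Opens, IsAffineOpen U → CAlg.IsNagata Γ(X, U)) ↔
      ∀ (Z : Scheme.{u}) (i : Z ⟶ X) [IsClosedImmersion i] [IsIntegral Z]
        (V : Z.Opens) [Nonempty V], IsAffineOpen V → CAlg.IsN2 Γ(Z, V) := by
  constructor
  · intro h Z i _ _ V _ hV
    let ι := {U : X.affineOpens // Nonempty (i ⁻¹ᵁ U.1)}
    haveI : ∀ U : ι, Nonempty (i ⁻¹ᵁ U.1.1) := fun U => U.2
    refine S9835.result Z (fun U : ι => i ⁻¹ᵁ U.1.1) ?_ (fun U => U.1.2.preimage i) (fun U => ?_) V hV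
    · refine eq_top_iff.2 fun z _ => ?_
      obtain ⟨_, ⟨(U : X.Opens), hU, rfl⟩, hz, -⟩ :=
        X.isBasis_affineOpens.exists_subset_of_mem_open (Set.mem_univ (i z)) isOpen_univ
      exact TopologicalSpace.Opens.mem_iSup.2 ⟨⟨⟨U, hU⟩, ⟨⟨z, hz⟩⟩⟩, hz⟩
    · obtain ⟨hp, ⟨e⟩⟩ := exists_prime i U.1.2
      haveI := hp
      exact PropsNagata1.isN2_of_ringEquiv e ((h U.1.1 U.1.2).2 _)
  · intro h U hU
    refine ⟨IsLocallyNoetherian.component_noetherian ⟨U, hU⟩, fun p _ => ?_⟩
    obtain ⟨Z, i, hi, hZ, -, hη, -⟩ := CohFound.exists_integral_point (hU.fromSpec ⟨p, ‹_›⟩)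
    haveI := hi
    haveI := hZ
    have hmem : i (genericPoint Z) ∈ U := by
      rw [hη, ← SetLike.mem_coe, ← hU.range_fromSpec]
      exact ⟨_, rfl⟩
    haveI : Nonempty (i ⁻¹ᵁ U) := ⟨⟨genericPoint Z, hmem⟩⟩
    obtain ⟨hp, ⟨e⟩⟩ := exists_prime i hU
    have hV := hU.preimage i
    have hker : RingHom.ker (i.app U).hom = p := by
      have hb : hV.fromSpec (genericPoint (Spec Γ(Z, i ⁻¹ᵁ U))) = genericPoint Z :=
        genericPoint_eq_of_isOpenImmersion _
      have h1 := IsAffineOpen.SpecMap_appLE_fromSpec i hU hV le_rfl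
      rw [← i.app_eq_appLE] at h1
      have h2 := congrArg (fun m : Spec Γ(Z, i ⁻¹ᵁ U) ⟶ X => m (genericPoint (Spec Γ(Z, i ⁻¹ᵁ U)))) h1
      simp only [Scheme.Hom.comp_apply, hb, hη] at h2
      have h3 := congrArg PrimeSpectrum.asIdeal (hU.fromSpec.isOpenEmbedding.injective h2)
      rw [genericPoint_eq_bot_of_affine] at h3
      exact h3
    exact PropsNagata1.isN2_of_ringEquiv ((Ideal.quotEquivOfEq hker).symm.trans e).symm
      (h Z i (i ⁻¹ᵁ U) hV)

end Groth.Agent.S9802
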