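import Groth.Statements.S9803
import Groth.Agent.Lib.QAffTorsor12.Basic


set_option autoImplicit false
universe u
open CategoryTheory AlgebraicGeometry TopologicalSpace
open Props

namespace Groth.Agent.S9803

/-- A quasi-affine scheme X admits a morphism from an affine scheme T which, after base change to any
affine scheme over X, becomes isomorphic over that affine scheme to an affine space of fixed
dimension n. -/
theorem result (X : Scheme.{u}) [X.IsQuasiAffine] :
    ∃ (n : ℕ) (T : Scheme.{u}) (_ : IsAffine T) (p : T ⟶ X),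
      ∀ (X' : Scheme.{u}) [IsAffine X'] (g : X' ⟶ X),
        ∃ e : Limits.pullback g p ≅ 𝔸(ULift.{u} (Fin n); X'),
          e.hom ≫ (𝔸(ULift.{u} (Fin n); X') ↘ X') = Limits.pullback.fst g p := by
  classical
  have hb : ∀ x : X, ∃ r : Γ(X, ⊤), IsAffineOpen (X.basicOpen r) ∧ x ∈ X.basicOpen r := fun x => by
    obtain ⟨_, ⟨_, ⟨r, hr, rfl⟩, rfl⟩, hxr, -⟩ := (Scheme.IsQuasiAffine.isBasis_basicOpen
      X).exists_subset_of_mem_open (Set.mem_univ x) isOpen_univ
    exact ⟨r, hr, hxr⟩
  choose r hr hxr using hb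
  obtain ⟨t, ht⟩ := isCompact_univ.elim_finite_subcover (fun x => (X.basicOpen (r x) : Set X))
    (fun x => (X.basicOpen (r x)).2) (fun x _ => Set.mem_iUnion.2 ⟨x, hxr x⟩)
  let e := (Finset.equivFin t).symm
  refine ⟨t.card, Groth.Agent.QAffTorsor12.exists_torsor X (fun i => r (e i).1) (fun i => hr _) fun x => ?_⟩
  obtain ⟨y, hy, hxy⟩ := Set.mem_iUnion₂.1 (ht (Set.mem_univ x))
  exact ⟨e.symm ⟨y, hy⟩, by rw [Equiv.apply_symm_apply]; exact hxy⟩

end Groth.Agent.S9803
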