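import Groth.Statements.S9807
import Groth.Agent.Lib.EGA43Top.Goldman
import Groth.Agent.Lib.RegLoc.GlobalDim
import Mathlib.RingTheory.Localization.LocalizationLocalization
import Mathlib.RingTheory.RegularLocalRing.Defs

set_option autoImplicit false
universe u
open CategoryTheory AlgebraicGeometry TopologicalSpace
open Props

namespace Groth.Agent.S9807

/-- A locally Noetherian scheme is regular (all local rings regular) as soon as its local rings at
closed points are regular, and conversely. -/
theorem result (X : Scheme.{u}) [IsLocallyNoetherian X] :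
    (∀ x : X, IsRegularLocalRing (X.presheaf.stalk x)) ↔
      ∀ x : X, IsClosed ({x} : Set X) → IsRegularLocalRing (X.presheaf.stalk x) := by
  refine ⟨fun h x _ => h x, fun h x => ?_⟩
  obtain ⟨z, hz, hzlc⟩ := Groth.Agent.EGA43Top.exists_mem_isLocallyClosed_singleton
    (Z := closure ({x} : Set X)) isClosed_closure.isLocallyClosed ⟨x, subset_closure rfl⟩
  have hxz : x ⤳ z := specializes_iff_mem_closure.2 hz
  obtain ⟨y, hxy, hy⟩ : ∃ y : X, x ⤳ y ∧ IsClosed ({y} : Set X) := by
    by_cases hc : ∀ w, z ⤳ w → w = z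
    · exact ⟨z, hxz, Groth.Agent.EGA43Top.isClosed_singleton_of_no_proper hc⟩
    · push Not at hc
      obtain ⟨w, hzw, hne⟩ := hc
      exact ⟨w, hxz.trans hzw, Groth.Agent.EGA43Top.isClosed_singleton_of_no_proper fun v hwv =>
        (Groth.Agent.EGA43Top.scheme_specializes_eq_or_eq hzlc hzw hwv).resolve_left hne⟩
  obtain ⟨U, hU, hyU, -⟩ := exists_isAffineOpen_mem_and_subset (x := y) (U := ⊤) trivial
  have hxU : x ∈ U := hxy.mem_open U.2 hyU
  haveI := h y hy
  let := TopCat.Presheaf.algebra_section_stalk X.presheaf (⟨x, hxU⟩ : U)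
  let := TopCat.Presheaf.algebra_section_stalk X.presheaf (⟨y, hyU⟩ : U)
  haveI := hU.isLocalization_stalk ⟨x, hxU⟩
  haveI := hU.isLocalization_stalk ⟨y, hyU⟩
  let p := (hU.primeIdealOf ⟨x, hxU⟩).asIdeal
  let q := (hU.primeIdealOf ⟨y, hyU⟩).asIdeal
  haveI : p.IsPrime := (hU.primeIdealOf ⟨x, hxU⟩).2
  haveI : q.IsPrime := (hU.primeIdealOf ⟨y, hyU⟩).2
  have hle : p ≤ q := by
    have := ((subtype_specializes_iff (⟨x, hxU⟩ : U) ⟨y, hyU⟩).mpr hxy).map hU.isoSpec.hom.continuous
    exact (PrimeSpectrum.le_iff_specializes _ _).mpr this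
  have hd : Disjoint (q.primeCompl : Set Γ(X, U)) (p : Set Γ(X, U)) :=
    Set.disjoint_left.2 fun a ha ha' => ha (hle ha')
  haveI : (p.map (algebraMap Γ(X, U) (X.presheaf.stalk y))).IsPrime :=
    IsLocalization.isPrime_of_isPrime_disjoint q.primeCompl _ p inferInstance hd
  let p' := p.map (algebraMap Γ(X, U) (X.presheaf.stalk y))
  haveI hT := IsLocalization.isLocalization_isLocalization_atPrime_isLocalization
    (R := Γ(X, U)) q.primeCompl (Localization.AtPrime p') p'
  have hp' : p'.comap (algebraMap Γ(X, U) (X.presheaf.stalk y)) = p :=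
    IsLocalization.comap_map_of_isPrime_disjoint q.primeCompl _ inferInstance hd
  haveI : IsLocalization.AtPrime (Localization.AtPrime p') p := by simpa only [hp'] using hT
  haveI := Groth.Agent.RegLoc.isRegularLocalRing_localization (X.presheaf.stalk y) p'
  exact IsRegularLocalRing.of_ringEquiv
    (IsLocalization.algEquiv p.primeCompl (Localization.AtPrime p') (X.presheaf.stalk x)).toRingEquiv

end Groth.Agent.S9807
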