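import Groth.Statements.S9809
import Groth.Agent.Lib.Branch14.Punctured

set_option autoImplicit false
universe u
open CategoryTheory AlgebraicGeometry TopologicalSpace
open Props

namespace Groth.Agent.S9809

open IsLocalRing Groth.Agent.Hens

set_option backward.isDefEq.respectTransparency.types false
set_option maxSynthPendingDepth 3

/-- A Noetherian scheme is geometrically unibranch (all local rings geometrically unibranch) if and only
if at every point which is not the generic point of an irreducible component, the punctured spectrum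
of a strict henselization of the local ring is connected. -/
theorem result
    (X : Scheme.{u}) [IsNoetherian X] :
    (∀ x : X, CAlg2.IsGeomUnibranch (X.presheaf.stalk x)) ↔
      ∀ (x : X), closure ({x} : Set X) ∉ irreducibleComponents X →
        ∀ (Ash : Type u) [CommRing Ash] [IsLocalRing Ash] [Algebra (X.presheaf.stalk x) Ash]
          [IsLocalHom (algebraMap (X.presheaf.stalk x) Ash)]
          [Hensel.IsStrictHenselization (X.presheaf.stalk x) Ash],
          ConnectedSpace ↥({IsLocalRing.closedPoint Ash}ᶜ : Set (PrimeSpectrum Ash)) := by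
  constructor
  · intro hX x hx Ash _ _ _ _ _
    obtain ⟨U, hU, hxU, -⟩ := exists_isAffineOpen_mem_and_subset (x := x) (U := ⊤) trivial
    refine isConnected_iff_connectedSpace.1 (Branch14.isConnected_punctured_of_unique
      ((Branch14.isGeomUnibranch_iff (X.presheaf.stalk x) Ash).1 (hX x)) fun hmin => hx ?_)
    let A := ↑(X.presheaf.stalk x)
    have := Hens.strictHenselization_faithfullyFlat A Ash
    have hmA := Branch14.comap_mem_minimalPrimes_of_flat (R := A) _ hmin
    rw [maximalIdeal_comap] at hmA
    let _ := TopCat.Presheaf.algebra_section_stalk X.presheaf (⟨x, hxU⟩ : U)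
    have := hU.isLocalization_stalk ⟨x, hxU⟩
    let P := (hU.primeIdealOf ⟨x, hxU⟩).asIdeal
    have hPmin : P ∈ minimalPrimes Γ(X, U) := by
      refine ⟨⟨(hU.primeIdealOf ⟨x, hxU⟩).2, bot_le⟩, fun Q hQ hle => ?_⟩
      have hdisj : Disjoint (P.primeCompl : Set Γ(X, U)) Q :=
        Set.disjoint_left.2 fun y hy hyQ => hy (hle hyQ)
      have hP' := IsLocalization.isPrime_of_isPrime_disjoint P.primeCompl A Q hQ.1 hdisj
      have hc := IsLocalization.under_map_of_isPrime_disjoint P.primeCompl A hQ.1 hdisj
      have h2 := le_antisymm (le_maximalIdeal hP'.ne_top) (hmA.2 ⟨hP', bot_le⟩ (le_maximalIdeal hP'.ne_top))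
      rw [← IsLocalization.AtPrime.comap_maximalIdeal A P]
      exact (congrArg (Ideal.comap (algebraMap Γ(X, U) A)) h2).symm.le.trans hc.le
    have := (Branch14.Bir.mem_genericPoints_fromSpec_iff hU _).2 hPmin
    rw [hU.fromSpec_primeIdealOf] at this
    exact this
  · intro h x
    obtain ⟨U, hU, hxU, -⟩ := exists_isAffineOpen_mem_and_subset (x := x) (U := ⊤) trivial
    have : IsNoetherianRing Γ(X, U) := IsLocallyNoetherian.component_noetherian ⟨U, hU⟩
    have key := Branch14.subsingleton_minimalPrimes_hs (R := Γ(X, U)) fun P _ hP => by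
      let q : Spec Γ(X, U) := ⟨P, ‹_›⟩
      have hy : hU.fromSpec q ∈ U := hU.range_fromSpec.le ⟨q, rfl⟩
      let _ := TopCat.Presheaf.algebra_section_stalk X.presheaf (⟨hU.fromSpec q, hy⟩ : U)
      have : IsLocalization.AtPrime (X.presheaf.stalk (hU.fromSpec q)) P := hU.isLocalization_stalk' q hy
      obtain ⟨_, _, _, _⟩ := HensPt14.exists_isStrictHenselization
        (K := AlgebraicClosure P.ResidueField) P (Branch14.algebraMap_algebraicClosure_eq_zero P)
        (X.presheaf.stalk (hU.fromSpec q))
      exact isConnected_iff_connectedSpace.2 (h (hU.fromSpec q)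
        (fun hg => hP ((Branch14.Bir.mem_genericPoints_fromSpec_iff hU q).1 hg)) _)
    let _ := TopCat.Presheaf.algebra_section_stalk X.presheaf (⟨x, hxU⟩ : U)
    have := hU.isLocalization_stalk ⟨x, hxU⟩
    let P := (hU.primeIdealOf ⟨x, hxU⟩).asIdeal
    obtain ⟨_, _, _, _⟩ := HensPt14.exists_isStrictHenselization
      (K := AlgebraicClosure P.ResidueField) P (Branch14.algebraMap_algebraicClosure_eq_zero P)
      (X.presheaf.stalk x)
    refine (Branch14.isGeomUnibranch_iff (X.presheaf.stalk x) (Hs Γ(X, U) (AlgebraicClosure P.ResidueField))).2 ?_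
    obtain ⟨p, hp⟩ := Ideal.nonempty_minimalPrimes
      (bot_ne_top : (⊥ : Ideal (Hs Γ(X, U) (AlgebraicClosure P.ResidueField))) ≠ ⊤)
    exact ⟨p, hp, fun q hq => key P hq hp⟩

end Groth.Agent.S9809
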