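import Groth.Statements.S9817
import Groth.Agent.Lib.Twist.Ample
import Groth.Agent.Lib.Twist.Pullback
import Groth.Agent.Lib.TensorMod.Basic
import Groth.Agent.Lib.EGA2.ProjMap

set_option autoImplicit false
universe u
open CategoryTheory CategoryTheory.Limits AlgebraicGeometry TopologicalSpace
open Props

open CategoryTheory AlgebraicGeometry
namespace Groth.Agent.S9817

theorem exists_basicOpen_pos_le {R A : Type u} [CommRing R] [CommRing A] [Algebra R A]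
    (𝒜 : ℕ → Submodule R A) [GradedAlgebra 𝒜] (U : (Proj 𝒜).Opens) (x : Proj 𝒜) (hx : x ∈ U) :
    ∃ fd : A × ℕ, 0 < fd.2 ∧ fd.1 ∈ 𝒜 fd.2 ∧ x ∈ Proj.basicOpen 𝒜 fd.1 ∧ Proj.basicOpen 𝒜 fd.1 ≤ U := by
  obtain ⟨_, ⟨f, rfl⟩, hxf, hfU⟩ :=
    TopologicalSpace.Opens.isBasis_iff_nbhd.1 (Proj.isBasis_basicOpen 𝒜) hx
  rw [Proj.basicOpen_eq_iSup_proj] at hxf hfU
  obtain ⟨i, hi⟩ := TopologicalSpace.Opens.mem_iSup.1 hxf
  have hg : x ∈ (⨆ g : {g : A // ∃ k : ℕ, 0 < k ∧ g ∈ 𝒜 k}, Proj.basicOpen 𝒜 g.1) := by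
    rw [Groth.Agent.EGA2.iSup_basicOpen_pos 𝒜]; trivial
  obtain ⟨⟨g, k, hk, hgk⟩, hxg⟩ := TopologicalSpace.Opens.mem_iSup.1 hg
  refine ⟨(GradedRing.proj 𝒜 i f * g, i + k), Nat.add_pos_right _ hk, SetLike.mul_mem_graded (SetLike.coe_mem _) hgk, ?_, ?_⟩
  · rw [Proj.basicOpen_mul]; exact ⟨hi, hxg⟩
  · rw [Proj.basicOpen_mul]
    exact inf_le_left.trans ((le_iSup (fun i => Proj.basicOpen 𝒜 (GradedRing.proj 𝒜 i f)) i).trans hfU)

theorem mem_basicOpen_of_surjective {R A : Type u} [CommRing R] [CommRing A] [Algebra R A]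
    (𝒜 : ℕ → Submodule R A) [GradedAlgebra 𝒜] {d e k : ℕ} (f : 𝒜 d) (p : ProjectiveSpectrum 𝒜)
    {h : A} (hh : h ∈ 𝒜 e) (hk : d = e * k) (hp : p ∈ ProjectiveSpectrum.basicOpen 𝒜 h)
    (U : (Proj 𝒜).Opens) (hpU : p ∈ U)
    (hs : Function.Surjective fun r : Γ(Proj 𝒜, U) =>
      r • Groth.Agent.M1.mres (Twist.twist 𝒜 (d : ℤ)) (le_top : U ≤ ⊤) (Groth.Agent.Twist.gsec 𝒜 f)) :
    p ∈ Proj.basicOpen 𝒜 (f : A) := by
  have hgd : h ^ k ∈ 𝒜 d := by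
    have := SetLike.pow_mem_graded k hh
    rwa [smul_eq_mul, mul_comm, ← hk] at this
  obtain ⟨r, hr⟩ := hs (Groth.Agent.M1.mres (Twist.twist 𝒜 (d : ℤ)) (le_top : U ≤ ⊤)
    (Groth.Agent.Twist.gsec 𝒜 ⟨_, hgd⟩))
  have hgp : h ^ k ∉ p.asHomogeneousIdeal := fun hm => hp (p.isPrime.mem_of_pow_mem k hm)
  have h1 : (1 : A) ∉ p.asHomogeneousIdeal := fun hm => p.isPrime.ne_top ((Ideal.eq_top_iff_one _).mpr hm)
  refine (Groth.Agent.Twist.mem_basicOpen_iff_span 𝒜 f p hgd (SetLike.one_mem_graded 𝒜) (by simp) hgp h1).2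
    (top_le_iff.1 ?_)
  rw [← (Groth.Agent.Twist.mem_basicOpen_iff_span 𝒜 ⟨_, hgd⟩ p hgd (SetLike.one_mem_graded 𝒜) (by simp) hgp h1).1 hgp,
    Submodule.span_singleton_le_iff_mem, Submodule.mem_span_singleton]
  refine ⟨r.1 ⟨p, hpU⟩, Subtype.ext ?_⟩
  have hv := congrArg (fun s : Γ(Twist.twist 𝒜 (d : ℤ), U) =>
    Groth.Agent.Twist.val (n := (d : ℤ)) (U := U) s p hpU) hr
  simp only [Groth.Agent.Twist.val_smul] at hv
  exact hv


/-- For a quasi-compact scheme X admitting an open immersion j into Proj of a graded ring, some positive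
twist O(d) pulls back along j to an ample invertible module on X. -/
theorem result {R A : Type u} [CommRing R] [CommRing A]
    [Algebra R A] (𝒜 : ℕ → Submodule R A) [GradedAlgebra 𝒜] (X : Scheme.{u}) [CompactSpace X]
    (j : X ⟶ Proj 𝒜) [IsOpenImmersion j] :
    ∃ d : ℕ, 0 < d ∧ CohB1.IsAmple ((Scheme.Modules.pullback j).obj (Twist.twist 𝒜 (d : ℤ))) := by
  classical
  have hex : ∀ x : X, ∃ (fd : A × ℕ), 0 < fd.2 ∧ fd.1 ∈ 𝒜 fd.2 ∧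
      j x ∈ Proj.basicOpen 𝒜 fd.1 ∧ Proj.basicOpen 𝒜 fd.1 ≤ j.opensRange := fun x =>
    exists_basicOpen_pos_le 𝒜 j.opensRange (j x) ⟨x, rfl⟩
  choose fd hfd0 hfd1 hfd2 hfd3 using hex
  obtain ⟨T, hT⟩ := isCompact_univ.elim_finite_subcover
    (fun x : X => ((j ⁻¹ᵁ Proj.basicOpen 𝒜 (fd x).1 : X.Opens) : Set X))
    (fun x => (j ⁻¹ᵁ Proj.basicOpen 𝒜 (fd x).1).2) (fun x _ => Set.mem_iUnion.2 ⟨x, hfd2 x⟩)
  let d := ∏ x ∈ T, (fd x).2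
  have hd : 0 < d := Finset.prod_pos fun x _ => hfd0 x
  refine ⟨d, hd, ?_⟩
  let L := (Twist.twist 𝒜 (d : ℤ)).restrict j
  have eL : L ≅ (Scheme.Modules.pullback j).obj (Twist.twist 𝒜 (d : ℤ)) :=
    (Scheme.Modules.restrictFunctorIsoPullback j).app _
  have hkey : ∀ x : X, ∃ (i : X) (k : ℕ), i ∈ T ∧ d = (fd i).2 * k ∧ 0 < k ∧
      j x ∈ Proj.basicOpen 𝒜 (fd i).1 := fun x => by
    obtain ⟨i, hi, hxi⟩ := Set.mem_iUnion₂.1 (hT (Set.mem_univ x))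
    obtain ⟨k, hk⟩ : (fd i).2 ∣ d := Finset.dvd_prod_of_mem _ hi
    exact ⟨i, k, hi, hk, Nat.pos_of_ne_zero (fun h => by rw [h, mul_zero] at hk; omega), hxi⟩
  refine ⟨Groth.Agent.Twist.isInvertible_of_iso eL (Groth.Agent.Twist.isInvertible_restrict _ j fun x => ?_),
    inferInstance, fun x => ?_⟩
  · obtain ⟨i, k, hi, hk, hk0, hxi⟩ := hkey x
    have h := Groth.Agent.Twist.nonempty_iso_basicOpen_mul 𝒜 (d := d) (SetLike.pow_mem_graded (k + 1) (hfd1 i))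
      (hfd1 i) (by simp only [smul_eq_mul]; rw [hk]; ring) 1
    rw [one_mul] at h
    refine ⟨_, ?_, h⟩
    exact fun hm => hxi (((j x).isPrime.mem_or_mem hm).elim ((j x).isPrime.mem_of_pow_mem _) id)
  · obtain ⟨i, k, hi, hk, hk0, hxi⟩ := hkey x
    have hh : (fd i).1 ^ k ∈ 𝒜 d := by
      have := SetLike.pow_mem_graded k (hfd1 i)
      rwa [smul_eq_mul, mul_comm, ← hk] at this
    let D := Proj.basicOpen 𝒜 ((fd i).1 ^ k)
    have hDle : D ≤ j.opensRange := fun y hy => hfd3 i (fun h => hy (Ideal.pow_mem_of_mem _ h k hk0))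
    have haffD : IsAffineOpen D := Proj.isAffineOpen_basicOpen 𝒜 _ hh hd
    let t : Γ(L, ⊤) := Groth.Agent.M1.mres (Twist.twist 𝒜 (d : ℤ)) (le_top : j ''ᵁ ⊤ ≤ ⊤)
      (Groth.Agent.Twist.gsec 𝒜 ⟨_, hh⟩)
    have hb : ∀ V : X.Opens, (Function.Bijective fun r : Γ(X, V) => r • Groth.Agent.M1.mres L (le_top : V ≤ ⊤) t) ↔
        Function.Bijective fun r : Γ(Proj 𝒜, j ''ᵁ V) => r •
          Groth.Agent.M1.mres (Twist.twist 𝒜 (d : ℤ)) (le_top : j ''ᵁ V ≤ ⊤) (Groth.Agent.Twist.gsec 𝒜 ⟨_, hh⟩) := fun V => by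
      have key : ∀ r : Γ(X, V), r • Groth.Agent.M1.mres L (le_top : V ≤ ⊤) t =
          ((j.appIso V).inv r : Γ(Proj 𝒜, j ''ᵁ V)) •
            Groth.Agent.M1.mres (Twist.twist 𝒜 (d : ℤ)) (le_top : j ''ᵁ V ≤ ⊤) (Groth.Agent.Twist.gsec 𝒜 ⟨_, hh⟩) := fun r => by
        show ((j.appIso V).inv r : Γ(Proj 𝒜, j ''ᵁ V)) • Groth.Agent.M1.mres (Twist.twist 𝒜 (d : ℤ))
          (Scheme.Hom.image_mono _ (le_top : V ≤ ⊤)) t = _
        rw [Groth.Agent.M1.mres_mres]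
      simp only [key]
      exact Function.Bijective.of_comp_iff (fun r : Γ(Proj 𝒜, j ''ᵁ V) => r •
        Groth.Agent.M1.mres (Twist.twist 𝒜 (d : ℤ)) (le_top : j ''ᵁ V ≤ ⊤) (Groth.Agent.Twist.gsec 𝒜 ⟨_, hh⟩))
        (g := (j.appIso V).inv) ((ConcreteCategory.isIso_iff_bijective _).1 inferInstance)
    have hloc : CohB1.genLocus L (Groth.Agent.M1.secHom t) = j ⁻¹ᵁ D := by
      refine Groth.Agent.Twist.genLocus_secHom_eq t _ (fun V hV => (hb V).2 ?_) fun U hU y hy => ?_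
      · refine Groth.Agent.Twist.bijective_smul_gsec 𝒜 ⟨_, hh⟩ _ ?_
        rintro _ ⟨y, hy, rfl⟩
        exact hV hy
      · obtain ⟨i', k', hi', hk', hk0', hy'⟩ := hkey y
        have hsurj : ∀ V : X.Opens, V ≤ U → Function.Surjective fun r : Γ(Proj 𝒜, j ''ᵁ V) => r •
          Groth.Agent.M1.mres (Twist.twist 𝒜 (d : ℤ)) (le_top : j ''ᵁ V ≤ ⊤) (Groth.Agent.Twist.gsec 𝒜 ⟨_, hh⟩) :=
          fun V hV => ((hb V).1 (hU V hV)).2
        exact mem_basicOpen_of_surjective 𝒜 ⟨_, hh⟩ (j y) (hfd1 i') hk' hy' (j ''ᵁ U) ⟨y, hy, rfl⟩ (hsurj U le_rfl)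
    let t' : CohB1.tensorPow ((Scheme.Modules.pullback j).obj (Twist.twist 𝒜 (d : ℤ))) 1 ≅ L :=
      Groth.Agent.M2.tensorLUnit _ ≪≫ eL.symm
    refine ⟨0, Groth.Agent.M1.secHom t ≫ t'.inv, ?_⟩
    have hg : CohB1.genLocus _ (Groth.Agent.M1.secHom t ≫ t'.inv) = j ⁻¹ᵁ D :=
      (Groth.Agent.Twist.genLocus_comp_iso _ t'.symm).trans hloc
    rw [hg]
    exact ⟨fun h => hxi ((j x).isPrime.mem_of_pow_mem k h), haffD.preimage_of_isOpenImmersion j hDle⟩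


end Groth.Agent.S9817
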