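import Groth.Statements.S9818
import Groth.Agent.Lib.ModM1.FibreProd
import Groth.Agent.Lib.ModM1.Pull

set_option autoImplicit false
universe u
open CategoryTheory CategoryTheory.Limits AlgebraicGeometry TopologicalSpace Opposite
open Props

namespace Groth.Agent.S9818

/-- For an open subscheme U of a scheme X with quasi-compact inclusion, a quasi-coherent module G on U
with a map to the restriction of a quasi-coherent module F on X extends to a quasi-coherent module H
on X with a map to F restricting to the given one. Taking F = 0, every quasi-coherent module on U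
extends to a quasi-coherent module on X. -/
theorem result {X : Scheme.{u}} (U : X.Opens) [QuasiCompact U.ι]
    (F : X.Modules) [Coh.IsQCoh F] (G : (U : Scheme.{u}).Modules) [Coh.IsQCoh G] (φ : G ⟶ F.restrict U.ι) :
    ∃ (H : X.Modules) (ψ : H ⟶ F) (e : H.restrict U.ι ≅ G), Coh.IsQCoh H ∧
      e.hom ≫ φ = (Scheme.Modules.restrictFunctor U.ι).map ψ := by
  let R := Scheme.Modules.restrictFunctor U.ι
  let adj := Scheme.Modules.restrictAdjunction U.ι
  let f := (Scheme.Modules.pushforward U.ι).map φ
  let g := adj.unit.app F
  haveI h1 : IsIso (R.map (pullback.fst f g)) :=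
    Groth.Agent.M1.isIso_restrict_fst f g U.ι (Groth.Agent.M1.isIso_restrict_unit U.ι F)
  refine ⟨pullback f g, pullback.snd f g, asIso (R.map (pullback.fst f g)) ≪≫
    (asIso adj.counit).app G, ?_, ?_⟩
  · exact Groth.Agent.M1.isQCoh_fibreProd (Groth.Agent.M1.isQCoh_push U.ι inferInstance)
      ‹Coh.IsQCoh F› (Groth.Agent.M1.isQCoh_push U.ι
        (Groth.Agent.M1.isQCoh_restrict ‹Coh.IsQCoh F› U.ι)) f g
  · have e1 : R.map f ≫ adj.counit.app (F.restrict U.ι) = adj.counit.app G ≫ φ := adj.counit.naturality φ
    have e2 : R.map g ≫ adj.counit.app (F.restrict U.ι) = 𝟙 _ := adj.left_triangle_components F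
    change (R.map (pullback.fst f g) ≫ adj.counit.app G) ≫ φ = R.map (pullback.snd f g)
    rw [Category.assoc, ← e1, ← Category.assoc, ← R.map_comp, pullback.condition, R.map_comp, Category.assoc]
    exact (congrArg (R.map (pullback.snd f g) ≫ ·) e2).trans (Category.comp_id _)

end Groth.Agent.S9818
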