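import Groth.Statements.S9821
import Mathlib
import Groth.Agent.Lib.ModM1.Stalk

set_option autoImplicit false
universe u
open CategoryTheory CategoryTheory.Limits AlgebraicGeometry TopologicalSpace Opposite
open Props

namespace Groth.Agent.S9821

/-- An integral scheme is normal if and only if the coordinate ring of every nonempty affine open is an
integrally closed domain. -/
theorem result (X : Scheme.{u}) [IsIntegral X] :
    Pi1.IsNormalScheme X ↔ ∀ (U : X.Opens) [Nonempty U], IsAffineOpen U → IsIntegrallyClosed Γ(X, U) := by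
  constructor
  · intro hN U hne hU
    haveI := hne
    haveI : IsDomain Γ(X, U) := inferInstance
    refine IsIntegrallyClosed.of_localization_maximal fun p _ hp => ?_
    have hy' : hU.fromSpec ⟨p, hp.isPrime⟩ ∈ U := hU.range_fromSpec.le ⟨_, rfl⟩
    let := TopCat.Presheaf.algebra_section_stalk X.presheaf (⟨_, hy'⟩ : U)
    haveI hl : IsLocalization.AtPrime (X.presheaf.stalk (hU.fromSpec ⟨p, hp.isPrime⟩)) p :=
      hU.isLocalization_stalk' ⟨p, hp.isPrime⟩ hy'
    haveI := (hN (hU.fromSpec ⟨p, hp.isPrime⟩)).2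
    exact IsIntegrallyClosed.of_equiv
      (IsLocalization.algEquiv p.primeCompl (X.presheaf.stalk (hU.fromSpec ⟨p, hp.isPrime⟩))
        (Localization.AtPrime p)).toRingEquiv
  · intro h x
    refine ⟨inferInstance, ?_⟩
    obtain ⟨U, hU, hxU, -⟩ := AlgebraicGeometry.exists_isAffineOpen_mem_and_subset (U := (⊤ : X.Opens))
      (x := x) trivial
    haveI : Nonempty U := ⟨⟨x, hxU⟩⟩
    haveI := h U hU
    let := TopCat.Presheaf.algebra_section_stalk X.presheaf (⟨x, hxU⟩ : U)
    haveI := hU.isLocalization_stalk ⟨x, hxU⟩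
    exact isIntegrallyClosed_of_isLocalization (X.presheaf.stalk x) (hU.primeIdealOf ⟨x, hxU⟩).asIdeal.primeCompl
      (Ideal.primeCompl_le_nonZeroDivisors _)

end Groth.Agent.S9821
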