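import Groth.Statements.S9822
import Mathlib.AlgebraicGeometry.Limits


set_option autoImplicit false
universe u
open CategoryTheory CategoryTheory.Limits AlgebraicGeometry TopologicalSpace Opposite
open Props

namespace Groth.Agent.S9822

/-- A scheme is irreducible if and only if it is nonempty and every nonempty affine open subset is
irreducible. -/
theorem result (X : Scheme.{u}) :
    IrreducibleSpace X ↔ Nonempty X ∧ ∀ U : X.Opens, IsAffineOpen U → (U : Set X).Nonempty → IsIrreducible (U : Set X) := by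
  constructor
  · intro h
    refine ⟨inferInstance, fun U hU hne => ⟨hne, ?_⟩⟩
    exact (PreirreducibleSpace.isPreirreducible_univ (X := X)).open_subset U.2 (Set.subset_univ _)
  · rintro ⟨hne, h⟩
    refine { toPreirreducibleSpace := ⟨?_⟩, toNonempty := hne }
    rintro u v hu hv ⟨a, -, ha⟩ ⟨b, -, hb⟩
    rw [Set.univ_inter]
    obtain ⟨(A : X.Opens), hA, haA, hAu⟩ := TopologicalSpace.Opens.isBasis_iff_nbhd.mp
      X.isBasis_affineOpens (show a ∈ (⟨u, hu⟩ : X.Opens) from ha)
    obtain ⟨(B : X.Opens), hB, hbB, hBv⟩ := TopologicalSpace.Opens.isBasis_iff_nbhd.mp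
      X.isBasis_affineOpens (show b ∈ (⟨v, hv⟩ : X.Opens) from hb)
    by_contra huv
    have hd : Disjoint A B := by
      rw [disjoint_iff]
      ext z
      simp only [TopologicalSpace.Opens.coe_inf, TopologicalSpace.Opens.coe_bot, Set.mem_inter_iff,
        Set.mem_empty_iff_false, iff_false, not_and]
      intro h1 h2
      exact huv ⟨z, hAu h1, hBv h2⟩
    have := h _ (IsAffineOpen.sup_of_disjoint hA hB hd) ⟨a, (le_sup_left : A ≤ A ⊔ B) haA⟩
    obtain ⟨z, -, hz⟩ := this.2 A B A.2 B.2 ⟨a, (le_sup_left : A ≤ A ⊔ B) haA, haA⟩ ⟨b, (le_sup_right : B ≤ A ⊔ B) hbB, hbB⟩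
    exact huv ⟨z, hAu hz.1, hBv hz.2⟩

end Groth.Agent.S9822
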