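import Groth.Statements.S9823
import Groth.Agent.Lib.AdmBlowUp4.Ideals

set_option autoImplicit false
universe u
open CategoryTheory CategoryTheory.Limits AlgebraicGeometry TopologicalSpace Opposite
open Props

set_option backward.isDefEq.respectTransparency.types false

namespace Groth.Agent.S9823

/-- In a quasi-compact quasi-separated scheme, an open subset is quasi-compact exactly when its
complement is the support of some quasi-coherent ideal sheaf of finite type. -/
theorem result (X : Scheme.{u}) [CompactSpace X] [QuasiSeparatedSpace X]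
    (U : X.Opens) :
    IsCompact (U : Set X) ↔
      ∃ I : X.IdealSheafData, (∀ V : X.affineOpens, (I.ideal V).FG) ∧ (I.support : Set X) = (U : Set X)ᶜ := by
  refine ⟨fun hU => Groth.Agent.AdmBlowUp4.exists_ideal_support_eq X U hU, ?_⟩
  rintro ⟨I, hI, hs⟩
  have key : ∀ V : X.affineOpens, IsCompact ((U : Set X) ∩ (V.1 : Set X)) := by
    intro V
    obtain ⟨s, hspan⟩ := hI V
    have : (U : Set X) ∩ (V.1 : Set X) = ⋃ g ∈ s, (X.basicOpen g : Set X) := by
      ext x
      have hmem : ∀ hx : x ∈ V.1, (x ∈ I.support ↔ ∀ g ∈ s, x ∉ X.basicOpen g) := fun hx => by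
        rw [I.mem_support_iff_of_mem hx, ← hspan]
        erw [Scheme.zeroLocus_span, Scheme.mem_zeroLocus_iff]
        rfl
      have hU : x ∈ (U : Set X) ↔ x ∉ (I.support : Set X) := by rw [hs, Set.notMem_compl_iff]
      simp only [Set.mem_inter_iff, hU, Set.mem_iUnion, exists_prop, SetLike.mem_coe]
      constructor
      · rintro ⟨h1, h2⟩
        rw [hmem h2] at h1
        push Not at h1
        exact h1
      · rintro ⟨g, hg, hxg⟩
        exact ⟨fun h => (hmem (X.basicOpen_le g hxg)).1 h g hg hxg, X.basicOpen_le g hxg⟩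
    rw [this]
    exact s.finite_toSet.isCompact_biUnion fun g _ => (V.2.basicOpen g).isCompact
  obtain ⟨t, ht⟩ := isCompact_univ.elim_finite_subcover (fun V : X.affineOpens => (V.1 : Set X)) (fun V => V.1.2)
    (fun x _ => by
      obtain ⟨W, hW, hxW, -⟩ := exists_isAffineOpen_mem_and_subset (U := ⊤) (x := x) trivial
      exact Set.mem_iUnion.2 ⟨⟨W, hW⟩, hxW⟩)
  have : (U : Set X) = ⋃ V ∈ t, (U : Set X) ∩ (V.1 : Set X) := by
    ext x
    simp only [Set.mem_iUnion, Set.mem_inter_iff, exists_prop]
    constructor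
    · intro h
      obtain ⟨V, hV, hxV⟩ := Set.mem_iUnion₂.1 (ht (Set.mem_univ x))
      exact ⟨V, hV, h, hxV⟩
    · rintro ⟨V, _, h, _⟩; exact h
  rw [this]
  exact t.finite_toSet.isCompact_biUnion fun V _ => key V

end Groth.Agent.S9823
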