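import Groth.Statements.S9826
import Groth.Agent.Lib.ModM1.FT

set_option autoImplicit false
universe u
open CategoryTheory CategoryTheory.Limits AlgebraicGeometry TopologicalSpace Opposite
open Props

namespace Groth.Agent.S9826

/-- The sheaf associated to a module over a ring is of finite type on the spectrum if and only if the
module is finitely generated. -/
theorem result (R : CommRingCat.{u}) (M : ModuleCat.{u} R) :
    CohB1.IsFT (tilde M) ↔ Module.Finite R M := by
  refine ⟨fun h => ?_, fun h => Groth.Agent.M1.isFT_tilde M⟩
  have := Groth.Agent.M1.finite_sections_spec (tilde M) inferInstance h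
  exact @Module.Finite.equiv R (moduleSpecΓFunctor.obj (tilde M)) M _ _ _ _ _ this (AlgebraicGeometry.tilde.isoTop M).symm.toLinearEquiv

end Groth.Agent.S9826
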