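import Groth.Statements.S9829
import Mathlib
import Groth.Agent.Lib.RegLoc.UFD

set_option autoImplicit false
universe u
open CAlg

namespace Groth.Agent.S9829
open TensorProduct

/-- A regular local ring is an integrally closed domain. Hence a scheme all of whose local rings are
regular is normal. -/
theorem result (A : Type u) [CommRing A] [IsRegularLocalRing A] :
    IsIntegrallyClosed A := by
  have := Groth.Agent.RegLoc.isDomain A
  have := Groth.Agent.RegLoc.ufd_of_isRegularLocalRing A
  infer_instance

end Groth.Agent.S9829
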