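import Groth.Statements.S9831
import Groth.Agent.Lib.ModM1.FibreProd
import Groth.Agent.Lib.ModM1.Pull

set_option autoImplicit false
universe u
open CategoryTheory CategoryTheory.Limits AlgebraicGeometry TopologicalSpace Opposite
open Props

namespace Groth.Agent.S9831

/-- On a quasi-compact quasi-separated scheme, a quasi-coherent module of finite type on a quasi-compact
open U is the restriction of a quasi-coherent module of finite type on the whole scheme. -/
theorem result {X : Scheme.{u}} [CompactSpace X]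
    [QuasiSeparatedSpace X] (U : X.Opens) (hU : IsCompact (U : Set X)) (G : (U : Scheme.{u}).Modules)
    [Coh.IsQCoh G] (hG : CohB1.IsFT G) :
    ∃ G' : X.Modules, Coh.IsQCoh G' ∧ CohB1.IsFT G' ∧ Nonempty (G'.restrict U.ι ≅ G) := by
  haveI : QuasiCompact U.ι := Groth.Agent.M1.quasiCompact_ι U fun V hV =>
    QuasiSeparatedSpace.inter_isCompact _ _ U.2 hU V.2 hV.isCompact
  haveI : Coh.IsQCoh ((Scheme.Modules.pushforward U.ι).obj G) :=
    Groth.Agent.M1.isQCoh_push U.ι inferInstance
  let i : G ⟶ ((Scheme.Modules.pushforward U.ι).obj G).restrict U.ι :=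
    ((CategoryTheory.asIso (Scheme.Modules.restrictAdjunction U.ι).counit).app G).inv
  obtain ⟨p, hp, hiso⟩ := Groth.Agent.M1.Sub.exists_initial i inferInstance hG
  obtain ⟨q, hq, hq', hag⟩ := Groth.Agent.M1.Sub.exists_extend_qcqs inferInstance p U hU hp
  obtain ⟨e, -⟩ := hiso q hag
  exact ⟨q.P, hq, hq', ⟨e⟩⟩

end Groth.Agent.S9831
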