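import Groth.Statements.S9832
import Mathlib

set_option autoImplicit false
universe u
open Props

namespace Groth.Agent.S9832


theorem Groth.Agent.S9832.isMaximal_of_mem_all {D : Type*} [CommRing D] [IsDomain D] [IsNoetherianRing D] (h : D)
    (hall : ∀ Q : Ideal D, Q.IsPrime → Q ≠ ⊥ → h ∈ Q) (hh : h ≠ 0) (Q : Ideal D) [hQ : Q.IsPrime] (hQ0 : Q ≠ ⊥) :
    Q.IsMaximal := by
  classical
  obtain ⟨M, hM, hQM⟩ := Q.exists_le_maximal hQ.ne_top
  by_contra hnot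
  have hlt : Q < M := lt_of_le_of_ne hQM fun e => hnot (e ▸ hM)
  have hfin := Ideal.finite_minimalPrimes_of_isNoetherianRing D (Ideal.span {h})
  have h1 : ∀ P ∈ (Ideal.span {h}).minimalPrimes, P.height ≤ 1 := fun P hP =>
    Ideal.height_le_one_of_isPrincipal_of_mem_minimalPrimes _ P hP
  have hQh : 1 ≤ Q.height := by
    rw [ENat.one_le_iff_ne_zero, Ne, Ideal.height_eq_zero_iff_eq_bot]
    exact hQ0
  have hMh : 1 < M.height := lt_of_le_of_lt hQh (Ideal.height_strict_mono_of_isPrime hlt)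
  have hnsub : ¬ ((M : Set D) ⊆ ⋃ P ∈ (hfin.toFinset : Set (Ideal D)), (P : Set D)) := by
    intro hsub
    obtain ⟨P₁, hP₁, -⟩ := Ideal.exists_minimalPrimes_le (Ideal.span_singleton_le_iff_mem (I := M) |>.2
      (hall M hM.isPrime (fun e => hQ0 (le_bot_iff.1 (e ▸ hQM)))))
    obtain ⟨P, hP, hMP⟩ := (Ideal.subset_union_prime P₁ P₁ fun P hP _ _ =>
      ((Set.Finite.mem_toFinset hfin).1 hP).1.1).1 hsub
    rw [Set.Finite.mem_toFinset] at hP
    rw [hM.eq_of_le hP.1.1.ne_top hMP] at hMh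
    exact absurd (h1 P hP) (not_le.2 hMh)
  obtain ⟨a, haM, ha⟩ := Set.not_subset.1 hnsub
  obtain ⟨P', hP', hP'M⟩ := Ideal.exists_minimalPrimes_le (Ideal.span_singleton_le_iff_mem (I := M) |>.2 haM)
  have haP' : a ∈ P' := hP'.1.2 (Ideal.mem_span_singleton_self a)
  have ha0 : a ≠ 0 := by
    rintro rfl
    obtain ⟨P₁, hP₁, -⟩ := Ideal.exists_minimalPrimes_le (Ideal.span_singleton_le_iff_mem (I := M) |>.2
      (hall M hM.isPrime (fun e => hQ0 (le_bot_iff.1 (e ▸ hQM)))))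
    exact ha (Set.mem_iUnion₂.2 ⟨P₁, (Set.Finite.mem_toFinset hfin).2 hP₁, P₁.zero_mem⟩)
  haveI := hP'.1.1
  have hP'0 : P' ≠ ⊥ := fun e => ha0 (by simpa [e] using haP')
  obtain ⟨P, hP, hPP'⟩ := Ideal.exists_minimalPrimes_le
    (Ideal.span_singleton_le_iff_mem (I := P') |>.2 (hall P' hP'.1.1 hP'0))
  haveI := hP.1.1
  rcases hPP'.eq_or_lt with e | hlt'
  · exact ha (Set.mem_iUnion₂.2 ⟨P, (Set.Finite.mem_toFinset hfin).2 hP, e ▸ haP'⟩)
  · have h2 := Ideal.height_strict_mono_of_isPrime hlt'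
    have h3 := Ideal.height_le_one_of_isPrincipal_of_mem_minimalPrimes _ P' hP'
    have h4 : P.height < 1 := lt_of_lt_of_le h2 h3
    rw [Order.lt_one_iff] at h4
    rw [Ideal.height_eq_zero_iff_eq_bot] at h4
    exact hh (by simpa [h4] using hP.1.2 (Ideal.mem_span_singleton_self h))


/-- For a Noetherian ring R and an ideal I inside the Jacobson radical of R, the complement of V(I) in
Spec R is a Jacobson topological space. -/
theorem result (R : Type u) [CommRing R] [IsNoetherianRing R]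
    (I : Ideal R) (hI : I ≤ (⊥ : Ideal R).jacobson) :
    JacobsonSpace ↥((PrimeSpectrum.zeroLocus (I : Set R))ᶜ) := by
  classical
  rw [jacobsonSpace_iff_locallyClosed]
  intro S hS hS'
  obtain ⟨p, hp⟩ := hS
  obtain ⟨O, C, hO, hC, rfl⟩ := hS'
  obtain ⟨O', hO', rfl⟩ := isOpen_induced_iff.1 hO
  obtain ⟨C', hC', rfl⟩ := isClosed_induced_iff.1 hC
  obtain ⟨_, ⟨f, rfl⟩, hpf, hfO⟩ := PrimeSpectrum.isBasis_basic_opens.exists_subset_of_mem_open hp.1 hO' |>.imp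
    fun s h => (⟨by obtain ⟨⟨V, ⟨r, rfl⟩, rfl⟩, h'⟩ := h; exact ⟨r, rfl⟩, h.2⟩ :
      s ∈ Set.range (fun r : R => (PrimeSpectrum.basicOpen r : Set (PrimeSpectrum R))) ∧ p.1 ∈ s ∧ s ⊆ O')
  obtain ⟨J, rfl⟩ := (PrimeSpectrum.isClosed_iff_zeroLocus_ideal _).1 hC'
  have hpI : ¬ I ≤ p.1.asIdeal := fun h => p.2 ((PrimeSpectrum.mem_zeroLocus p.1 I).2 h)
  obtain ⟨g, hgI, hgp⟩ := SetLike.not_le_iff_exists.1 hpI
  have hdisj : Disjoint (p.1.asIdeal : Set R) (Submonoid.powers (f * g) : Set R) := by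
    rw [Set.disjoint_left]
    rintro x hx ⟨n, rfl⟩
    rcases p.1.isPrime.mem_or_mem (p.1.isPrime.mem_of_pow_mem n hx) with h | h
    · exact hpf h
    · exact hgp h
  obtain ⟨P, ⟨hpP, hPdis⟩, hPmax⟩ := zorn_le_nonempty₀ {Q : Ideal R | p.1.asIdeal ≤ Q ∧
      Disjoint (Q : Set R) (Submonoid.powers (f * g) : Set R)} (fun c hc hchain y hy => ⟨sSup c,
      ⟨(hc hy).1.trans (le_sSup hy), by
        rw [Set.disjoint_left]
        intro x hx hxS
        obtain ⟨Q, hQ, hxQ⟩ := (Submodule.mem_sSup_of_directed ⟨y, hy⟩ hchain.directedOn).1 hx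
        exact Set.disjoint_left.1 (hc hQ).2 hxQ hxS⟩, fun z hz => le_sSup hz⟩) p.1.asIdeal ⟨le_rfl, hdisj⟩
    |>.imp fun Q h => (⟨h.2.1, fun {y} hy hle => h.2.2 hy hle⟩ : (p.1.asIdeal ≤ Q ∧
      Disjoint (Q : Set R) (Submonoid.powers (f * g) : Set R)) ∧ ∀ {y : Ideal R}, (p.1.asIdeal ≤ y ∧
      Disjoint (y : Set R) (Submonoid.powers (f * g) : Set R)) → Q ≤ y → y ≤ Q)
  have hfg : f * g ∉ P := Set.disjoint_right.1 hPdis (Submonoid.mem_powers _)
  have hPp : P.IsPrime := Ideal.isPrime_of_maximally_disjoint P _ hPdis fun J' hlt hd =>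
    not_le_of_gt hlt (hPmax ⟨hpP.trans hlt.le, hd⟩ hlt.le)
  haveI := hPp
  have hgP : g ∉ P := fun h => hfg (P.mul_mem_left f h)
  have hPI : (⟨P, hPp⟩ : PrimeSpectrum R) ∈ (PrimeSpectrum.zeroLocus (I : Set R))ᶜ := fun h =>
    hgP ((PrimeSpectrum.mem_zeroLocus _ _).1 h hgI)
  refine ⟨⟨⟨P, hPp⟩, hPI⟩, ⟨hfO fun h => hfg (P.mul_mem_right g h), ?_⟩, ?_⟩
  · exact (PrimeSpectrum.mem_zeroLocus _ _).2 (((PrimeSpectrum.mem_zeroLocus _ _).1 hp.2).trans hpP)
  · rw [mem_closedPoints_iff, ← closure_subset_iff_isClosed]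
    rintro ⟨Q, hQ⟩ hmem
    have hle : P ≤ Q.asIdeal := by
      have := (specializes_iff_mem_closure.2 hmem).map continuous_subtype_val
      exact (PrimeSpectrum.le_iff_specializes _ _).2 this
    refine Set.mem_singleton_iff.2 (Subtype.ext (PrimeSpectrum.ext (le_antisymm ?_ hle)))
    by_contra hne
    have hall : ∀ Q' : Ideal (R ⧸ P), Q'.IsPrime → Q' ≠ ⊥ → Ideal.Quotient.mk P (f * g) ∈ Q' := by
      intro Q' hQ' hne'
      by_contra hmem'
      refine hne' ?_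
      have h1 : Q'.comap (Ideal.Quotient.mk P) ≤ P := by
        refine hPmax ⟨hpP.trans (fun x hx => by simp [Ideal.mem_comap, Ideal.Quotient.eq_zero_iff_mem.2 hx]), ?_⟩
          (fun x hx => by simp [Ideal.mem_comap, Ideal.Quotient.eq_zero_iff_mem.2 hx])
        rw [Set.disjoint_left]
        rintro x hx ⟨n, rfl⟩
        have hx' : Ideal.Quotient.mk P ((f * g) ^ n) ∈ Q' := hx
        rw [map_pow] at hx'
        exact hmem' (hQ'.mem_of_pow_mem n hx')
      refine eq_bot_iff.2 fun x hx => ?_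
      obtain ⟨x, rfl⟩ := Ideal.Quotient.mk_surjective x
      exact Ideal.Quotient.eq_zero_iff_mem.2 (h1 hx)
    let Q' := Q.asIdeal.map (Ideal.Quotient.mk P)
    haveI : Q'.IsPrime := Ideal.map_isPrime_of_surjective Ideal.Quotient.mk_surjective (by rwa [Ideal.mk_ker])
    have hQ'0 : Q' ≠ ⊥ := fun e => hne (fun x hx => Ideal.Quotient.eq_zero_iff_mem.1
      (by simpa [Q', e] using Ideal.mem_map_of_mem (Ideal.Quotient.mk P) hx))
    have hmax := Groth.Agent.S9832.isMaximal_of_mem_all _ hall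
      (fun e => hfg (Ideal.Quotient.eq_zero_iff_mem.1 e)) Q' hQ'0
    have hQmax : Q.asIdeal.IsMaximal := by
      have h2 := Ideal.comap_isMaximal_of_surjective (Ideal.Quotient.mk P) Ideal.Quotient.mk_surjective (K := Q')
      rwa [Ideal.comap_map_of_surjective' _ Ideal.Quotient.mk_surjective, Ideal.mk_ker, sup_eq_left.2 hle] at h2
    refine hQ ((PrimeSpectrum.mem_zeroLocus _ _).2 fun x hx => ?_)
    exact Ideal.mem_sInf.1 (hI hx) ⟨bot_le, hQmax⟩

end Groth.Agent.S9832
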