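import Groth.Statements.S9836
import Groth.Agent.Lib.ExtBelow2.Main
import Groth.Agent.Lib.PushFin12.Basic
import Groth.Agent.Lib.CohMop.TildeExt

set_option autoImplicit false
set_option backward.isDefEq.respectTransparency false
set_option backward.isDefEq.respectTransparency.types false
universe u
open CategoryTheory CategoryTheory.Limits AlgebraicGeometry
open Props

namespace Groth.Agent.S9836

/-- For a closed immersion i : Z → X with ideal sheaf of finite type and a quasi-coherent O_X-module F,
the subsheaf of sections of F annihilated by the ideal, namely i_* Hom(O_Z, F) for the right adjoint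
Hom(O_Z, -) of i_*, is a quasi-coherent O_X-module. -/
theorem result {Z X : Scheme.{u}} (i : Z ⟶ X)
    [IsClosedImmersion i] [LocallyOfFinitePresentation i] [Dual3.HasHomO i] (F : X.Modules) [Coh.IsQCoh F] :
    Coh.IsQCoh ((Scheme.Modules.pushforward i).obj ((Dual3.homO i).obj F)) := by
  have hO : Coh.IsQCoh (Coh.structureModule Z) := by
    exact Groth.Agent.Twist.isQCoh_of_isInvertible (PicLoc.isInvertible_structureModule Z)
  have hFP : CohB1.IsFP ((Scheme.Modules.pushforward i).obj (Coh.structureModule Z)) := by
    refine (Groth.Agent.PushFin12.isFP_iff i _ hO).1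
      (Groth.Agent.M1.isFP_of_finitePresentation_sections hO fun U _ => ?_)
    exact (Module.finitePresentation_of_projective Γ(Z, U) Γ(Z, U) : _)
  haveI : ModSite.HasSheafHom (O := X.sheaf) ((Scheme.Modules.pushforward i).obj (Coh.structureModule Z)) :=
    Groth.Agent.CohMop.isLeftAdjoint_tenR _
  let adj := (Groth.Agent.ClImmProj14.upperAdj i (Coh.structureModule Z)).ofNatIsoLeft
    (Functor.isoWhiskerRight Groth.Agent.ExtBelow2.tenRUnitIso _ ≪≫ Functor.leftUnitor _)
  let e := (Dual3.homOAdj i).rightAdjointUniq adj
  let e' := ((Scheme.Modules.pushforward i).mapIso (e.app F)) ≪≫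
    ((Groth.Agent.ClImmProj14.upperPushIso i (Coh.structureModule Z)).app F).symm
  exact Groth.Agent.M1.isQCoh_of_isIso e'.symm (Groth.Agent.CohMop.homQC_of_isFP hFP F inferInstance)

end Groth.Agent.S9836
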