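import Groth.Statements.S9839
import Groth.Agent.Lib.H12.FpqcCover
import Mathlib.AlgebraicGeometry.Morphisms.QuasiSeparated

set_option autoImplicit false
open CategoryTheory CategoryTheory.Limits AlgebraicGeometry Opposite
universe u
open Desc

namespace Groth.Agent.S9839

/-- Let f i : T i ⟶ T be an fpqc covering family of a scheme T (a family in the fpqc precoverage) and W
i ⊆ T i open subsets such that for all i, j the inverse images of W i and W j under the two
projections of T i ×_T T j coincide. Then there is a unique open subset W ⊆ T with (f i)⁻¹(W) = W i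
for every i. -/
theorem result {ι : Type u} {T : Scheme.{u}} {Ti : ι → Scheme.{u}}
    (f : ∀ i, Ti i ⟶ T) (hf : Presieve.ofArrows Ti f ∈ Scheme.fpqcPrecoverage T)
    (W : ∀ i, (Ti i).Opens)
    (hW : ∀ i j, (pullback.fst (f i) (f j)) ⁻¹ᵁ (W i) = (pullback.snd (f i) (f j)) ⁻¹ᵁ (W j)) :
    ∃! V : T.Opens, ∀ i, (f i) ⁻¹ᵁ V = W i := by
  let E : PreZeroHypercover.{u} T := { I₀ := ι, X := Ti, f := f }
  have hmem : E.presieve₀ ∈ Scheme.fpqcPrecoverage T := hf
  have : QuasiCompactCover E := Scheme.presieve₀_mem_qcPrecoverage_iff.mp hmem.1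
  exact H12.existsUnique_opens_preimage_eq E
    (fun i => ((Scheme.ofArrows_mem_precoverage_iff _).mp hmem.2).2 i) W hW

end Groth.Agent.S9839
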