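import Groth.Statements.S9841
import Groth.Agent.Lib.SmoothRed.Basic
import Groth.Agent.Lib.H12.FlatComp


set_option autoImplicit false
open CategoryTheory CategoryTheory.Limits AlgebraicGeometry Opposite
universe u
open Desc

namespace Groth.Agent.S9841

/-- Being reduced is local in the smooth topology: for a jointly surjective family of smooth morphisms f
i : X i ⟶ S, the scheme S is reduced if and only if every X i is reduced. -/
theorem result {ι : Type u} {S : Scheme.{u}} {X : ι → Scheme.{u}} (f : ∀ i, X i ⟶ S)
    (hf : Presieve.ofArrows X f ∈ Scheme.precoverage @Smooth S) :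
    IsReduced S ↔ ∀ i, IsReduced (X i) := by
  obtain ⟨hsurj, hsm⟩ := (Scheme.ofArrows_mem_precoverage_iff _).1 hf
  constructor
  · intro hS i
    have : Smooth (f i) := hsm i
    have hex : ∀ x : X i, ∃ U : (X i).Opens, x ∈ U ∧ IsReduced U.toScheme := fun x => by
      obtain ⟨V, hV, hxV, -⟩ := exists_isAffineOpen_mem_and_subset (U := (⊤ : S.Opens)) (x := f i x) trivial
      obtain ⟨U, hU, hxU, hUV⟩ := exists_isAffineOpen_mem_and_subset (U := f i ⁻¹ᵁ V) (x := x) hxV
      have h := (f i).smooth_appLE hV hU hUV
      algebraize [((f i).appLE V U hUV).hom]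
      have hr : _root_.IsReduced Γ(X i, U) := Groth.Agent.SmoothRed.isReduced_of_smooth Γ(S, V) Γ(X i, U)
      have : IsAffine U.toScheme := hU
      have : _root_.IsReduced Γ(U.toScheme, ⊤) :=
        isReduced_of_injective U.topIso.commRingCatIsoToRingEquiv.toRingHom
          U.topIso.commRingCatIsoToRingEquiv.injective
      exact ⟨U, hxU, isReduced_of_isAffine_isReduced _⟩
    choose U hxU hU using hex
    let 𝒰 := (X i).openCoverOfIsOpenCover U (top_le_iff.1 fun x _ => TopologicalSpace.Opens.mem_iSup.2 ⟨x, hxU x⟩)
    have : ∀ x, IsReduced (𝒰.X x) := hU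
    exact IsReduced.of_openCover _ 𝒰
  · intro hX
    have : ∀ s : S, _root_.IsReduced (S.presheaf.stalk s) := fun s => by
      obtain ⟨i, x, rfl⟩ := hsurj s
      have : Smooth (f i) := hsm i
      have := hX i
      exact isReduced_of_injective _
        (Groth.Agent.H12.faithfullyFlat_stalkMap (f i) x (Flat.stalkMap (f i) x)).injective
    exact isReduced_of_isReduced_stalk S

end Groth.Agent.S9841
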