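import Groth.Statements.S9842
import Mathlib.AlgebraicGeometry.Morphisms.UniversallyOpen
import Mathlib.AlgebraicGeometry.PullbackCarrier
-- import your own Groth.Agent.* helpers here

set_option autoImplicit false
set_option backward.isDefEq.respectTransparency.types false
open CategoryTheory CategoryTheory.Limits AlgebraicGeometry Opposite
universe u
open Desc

namespace Groth.Agent.S9842

/-- Let E/k be a field extension, Y a scheme over k and f : X ⟶ Y a morphism. Writing Y_E = Y ×_k Spec
E, the morphism f is dominant if and only if its base change X ×_Y Y_E ⟶ Y_E is dominant. -/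
theorem result {k E : Type u} [Field k] [Field E] [Algebra k E]
    {X Y : Scheme.{u}} (f : X ⟶ Y) (q : Y ⟶ Spec (.of k)) :
    IsDominant f ↔
      IsDominant (pullback.snd f (pullback.fst q (Spec.map (CommRingCat.ofHom (algebraMap k E))))) := by
  let s := Spec.map (CommRingCat.ofHom (algebraMap k E))
  let π := pullback.fst q s
  haveI : Surjective s := ⟨fun x => ⟨default, Subsingleton.elim _ _⟩⟩
  haveI : Surjective π := MorphismProperty.pullback_fst _ _ ‹Surjective s›
  haveI : UniversallyOpen π := inferInstance
  have hr : Set.range (pullback.snd f π) = π ⁻¹' Set.range f := Scheme.Pullback.range_snd f π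
  constructor
  · intro h
    constructor
    rw [DenseRange, hr]
    exact f.denseRange.preimage π.isOpenMap
  · intro h
    constructor
    rw [DenseRange, dense_iff_closure_eq, Set.eq_univ_iff_forall]
    intro y
    obtain ⟨w, rfl⟩ := π.surjective y
    have hw : w ∈ closure (π ⁻¹' Set.range f) := by
      rw [← hr]
      exact (pullback.snd f π).denseRange w
    exact π.continuous.closure_preimage_subset _ hw

end Groth.Agent.S9842
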