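import Groth.Statements.S9844
import Groth.Agent.Lib.FppfSource.Scheme


set_option autoImplicit false
set_option backward.isDefEq.respectTransparency.types false
open CategoryTheory CategoryTheory.Limits AlgebraicGeometry Opposite
universe u
open Desc

namespace Groth.Agent.S9844

/-- Being locally of finite type is fppf local on the source: for every fppf covering family g i : X i ⟶
X, a morphism f : X ⟶ Y is locally of finite type if and only if every composite g i ≫ f is. -/
theorem result :
    MorphismProperty.IsLocalAtSource (@LocallyOfFiniteType : MorphismProperty Scheme.{u}) Scheme.fppfPrecoverage := by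
  have : Precoverage.Small.{u} Scheme.fppfPrecoverage.{u} :=
    inferInstanceAs (Precoverage.Small.{u} (Scheme.precoverage (@Flat ⊓ @LocallyOfFinitePresentation)))
  refine MorphismProperty.IsLocalAtSource.mk_of_small.{u} (fun {X Y f} 𝒰 hf i => ?_) (fun {X Y f} 𝒰 h => ?_)
  · have := 𝒰.mem₀
    have hi : Flat (𝒰.f i) ∧ LocallyOfFinitePresentation (𝒰.f i) :=
      ((Scheme.ofArrows_mem_precoverage_iff _).1 this).2 i
    have := hi.2
    infer_instance
  · obtain ⟨hsurj, hP⟩ := (Scheme.ofArrows_mem_precoverage_iff _).1 𝒰.mem₀
    let π := Limits.Sigma.desc 𝒰.f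
    have h1 : Flat π := IsZariskiLocalAtSource.sigmaDesc fun i => (hP i).1
    have h2 : LocallyOfFinitePresentation π := IsZariskiLocalAtSource.sigmaDesc fun i => (hP i).2
    have h3 : Surjective π := ⟨fun x => by
      obtain ⟨i, y, hy⟩ := hsurj x
      exact ⟨Limits.Sigma.ι 𝒰.X i y, by rw [← Scheme.Hom.comp_apply, Limits.Sigma.ι_desc]; exact hy⟩⟩
    have h4 : LocallyOfFiniteType (π ≫ f) := by
      have : π ≫ f = Limits.Sigma.desc fun i => 𝒰.f i ≫ f :=
        Limits.Sigma.hom_ext _ _ fun i => by simp [π]
      rw [this]
      exact IsZariskiLocalAtSource.sigmaDesc h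
    exact Groth.Agent.FppfSource.descends_fppf_surjective_of_ring @LocallyOfFiniteType
      (fun A B C _ _ _ _ _ _ _ _ _ hh => by
        rw [RingHom.finiteType_algebraMap] at hh ⊢
        exact Groth.Agent.FppfSource.finiteType_of_fppf A B C) π f h1 h2 h3 h4

end Groth.Agent.S9844
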