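import Groth.Statements.S9847
import Groth.Agent.Lib.H12.Covers
import Groth.Agent.Lib.AlgSpDescent.SchemeSource

set_option autoImplicit false
open CategoryTheory CategoryTheory.Limits AlgebraicGeometry Opposite
universe u
open Desc

namespace Groth.Agent.S9847

/-- Being etale is etale local on the source: for every etale covering family g i : X i ⟶ X (etale,
jointly surjective), a morphism f : X ⟶ Y is etale if and only if every composite g i ≫ f is. -/
theorem result :
    MorphismProperty.IsLocalAtSource (@Etale : MorphismProperty Scheme.{u}) Scheme.etalePrecoverage := by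
  refine MorphismProperty.IsLocalAtSource.mk_of_iff fun {X Y f R} hR => ⟨fun hf U g hg => ?_, fun h => ?_⟩
  · have := (H12.precoverage_mem hR).1 hg
    infer_instance
  · let ι := {p : Σ U : Scheme.{u}, (U ⟶ X) // R p.2}
    obtain ⟨hP, hs⟩ := H12.precoverage_mem hR
    choose U g hg hx using hs
    have : ∀ x, Etale (g x) := fun x => hP (hg x)
    have hd : Etale (Limits.Sigma.desc g) := IsZariskiLocalAtSource.sigmaDesc this
    have hsurj : Surjective (Limits.Sigma.desc g) :=
      Surjective.sigmaDesc_of_union_range_eq_univ
        (Set.eq_univ_iff_forall.mpr fun x => Set.mem_iUnion.mpr ⟨x, hx x⟩)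
    refine AlgSpDescent.descendsEtaleSource_etale (Limits.Sigma.desc g) f hd hsurj ?_
    have : Limits.Sigma.desc g ≫ f = Limits.Sigma.desc fun x => g x ≫ f := by
      apply Limits.Sigma.hom_ext; intro i; simp
    rw [this]
    exact IsZariskiLocalAtSource.sigmaDesc fun x => h (hg x)

end Groth.Agent.S9847
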