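import Groth.Statements.S9850
import Groth.Agent.Lib.SyntDesc12.Basic
import Groth.Agent.S9758
-- import your own Groth.Agent.* helpers here

set_option autoImplicit false
set_option backward.isDefEq.respectTransparency false
open CategoryTheory CategoryTheory.Limits AlgebraicGeometry Opposite
universe u
open Desc

namespace Groth.Agent.S9850

/-- Let f : X ⟶ Y be surjective, flat and locally of finite presentation and q : Y ⟶ S a morphism such
that f ≫ q is syntomic. Then q is syntomic, and so is f. -/
theorem result {X Y S : Scheme.{u}} (f : X ⟶ Y) (q : Y ⟶ S)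
    [Surjective f] [Flat f] [LocallyOfFinitePresentation f] (h : Synt.IsSyntomicMor (f ≫ q)) :
    Synt.IsSyntomicMor q ∧ Synt.IsSyntomicMor f := by
  obtain ⟨hfl, hlci⟩ := (S9758.result (f ≫ q)).2 h
  haveI : LocallyOfFinitePresentation (f ≫ q) := SyntDesc12.lfp_of_isSyntomicMor (f ≫ q) h
  haveI := hfl
  obtain ⟨h1, h2⟩ := SyntDesc12.isCIMorphism_of_fppf_comp f q ((CI2.syntMor_iff_isCIMorphism (f ≫ q)).1 h)
  haveI := h1.1
  haveI := h1.2.1
  exact ⟨(CI2.syntMor_iff_isCIMorphism q).2 h1, (CI2.syntMor_iff_isCIMorphism f).2 h2⟩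

end Groth.Agent.S9850
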