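import Groth.Statements.S9852
import Groth.Agent.Lib.SchDesc12.FullFaithful


set_option autoImplicit false
open CategoryTheory CategoryTheory.Limits AlgebraicGeometry Opposite
universe u
open Desc

namespace Groth.Agent.S9852

/-- Let g : X ⟶ X' be a morphism of schemes over S, with structure morphisms a : X ⟶ S and a' : X' ⟶ S,
and assume a is surjective and flat. Then the pullback functor along g, from descent data for
schemes relative to X' ⟶ S to descent data relative to X ⟶ S, is faithful. (Descent data relative to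
a single morphism are written as descent data relative to the corresponding one-member family.) -/
theorem result {X X' S : Scheme.{u}} (a : X ⟶ S) (a' : X' ⟶ S) (g : X ⟶ X')
    (h : g ≫ a' = a) [Surjective a] [Flat a] :
    (Desc.pullDDFam (f := fun _ : PUnit.{u + 1} => a') (f' := fun _ : PUnit.{u + 1} => a) (α := fun j => j)
        (p := 𝟙 S) (p' := fun _ => g) (fun _ => (h).trans (Category.comp_id a).symm)).Faithful := by
  have w₁ : ∀ _ : PUnit.{u + 1}, pullback.snd a' a ≫ a = (pullback.snd a' a ≫ a) ≫ 𝟙 S :=
    fun _ => (Category.comp_id _).symm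
  have w₂ : ∀ _ : PUnit.{u + 1}, pullback.fst a' a ≫ a' = (pullback.snd a' a ≫ a) ≫ 𝟙 S :=
    fun _ => by rw [Category.comp_id, pullback.condition]
  let F := Desc.pullDDFam (f := fun _ : PUnit.{u + 1} => a')
    (f' := fun _ : PUnit.{u + 1} => a) (α := fun j => j) (p := 𝟙 S) (p' := fun _ => g)
    (fun _ => (h).trans (Category.comp_id a).symm)
  let G := Desc.pullDDFam (f := fun _ : PUnit.{u + 1} => a)
    (f' := fun _ : PUnit.{u + 1} => pullback.snd a' a ≫ a) (α := fun j => j) (p := 𝟙 S)
    (p' := fun _ => pullback.snd a' a) w₁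
  let H := Desc.pullDDFam (f := fun _ : PUnit.{u + 1} => a')
    (f' := fun _ : PUnit.{u + 1} => pullback.snd a' a ≫ a) (α := fun j => j) (p := 𝟙 S)
    (p' := fun _ => pullback.fst a' a) w₂
  have hH : H.Faithful := SchDesc12.faithful_of_epi w₂ fun j T x W m m' hm => by
    let q := SchDesc12.fibFam (U := fun _ : PUnit.{u + 1} => pullback a' a)
      (V := fun _ : PUnit.{u + 1} => X') (α := fun i => i) (fun _ => pullback.fst a' a) j ⟨j, rfl⟩
    have : Flat q := inferInstanceAs (Flat (pullback.fst a' a ≫ eqToHom _))
    have : Surjective q := inferInstanceAs (Surjective (pullback.fst a' a ≫ eqToHom _))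
    have := Flat.epi_of_flat_of_surjective (pullback.fst x q)
    exact (cancel_epi (pullback.fst x q)).1 (hm ⟨j, rfl⟩)
  have e1 : F ⋙ G ≅ H := SchDesc12.pullCompIso
    (f := fun _ : PUnit.{u + 1} => a') (f' := fun _ : PUnit.{u + 1} => a) (α := fun j => j)
    (p := 𝟙 S) (p' := fun _ => g) (fun _ => (h).trans (Category.comp_id a).symm)
    (f'' := fun _ : PUnit.{u + 1} => pullback.snd a' a ≫ a) (β := fun j => j) (q := 𝟙 S)
    (q' := fun _ => pullback.snd a' a) w₁ (γ := fun j => j) (r := 𝟙 S)
    (r' := fun _ => pullback.fst a' a) w₂ (Category.comp_id _)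
  exact Functor.Faithful.of_comp_iso e1

end Groth.Agent.S9852
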