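import Groth.Statements.S9853
import Groth.Agent.Lib.SchDesc12.FullFaithful


set_option autoImplicit false
open CategoryTheory CategoryTheory.Limits AlgebraicGeometry Opposite
universe u
open Desc

namespace Groth.Agent.S9853

/-- Let g : X ⟶ X' be a morphism of schemes over S, with structure morphisms a : X ⟶ S and a' : X' ⟶ S,
and assume that the single morphism a is an fpqc covering of S (for instance surjective, flat and
quasi-compact). Then the pullback functor along g, from descent data for schemes relative to X' ⟶ S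
to descent data relative to X ⟶ S, is full and faithful. (Descent data relative to a single morphism
are written as descent data relative to the corresponding one-member family.) -/
theorem result {X X' S : Scheme.{u}} (a : X ⟶ S) (a' : X' ⟶ S) (g : X ⟶ X')
    (h : g ≫ a' = a) (ha : Presieve.singleton a ∈ Scheme.fpqcPrecoverage S) :
    (Desc.pullDDFam (f := fun _ : PUnit.{u + 1} => a') (f' := fun _ : PUnit.{u + 1} => a) (α := fun j => j)
        (p := 𝟙 S) (p' := fun _ => g) (fun _ => (h).trans (Category.comp_id a).symm)).Full ∧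
    (Desc.pullDDFam (f := fun _ : PUnit.{u + 1} => a') (f' := fun _ : PUnit.{u + 1} => a) (α := fun j => j)
        (p := 𝟙 S) (p' := fun _ => g) (fun _ => (h).trans (Category.comp_id a).symm)).Faithful := by
  have hE : Presieve.ofArrows (fun _ : PUnit.{u + 1} => X) (fun _ => a) ∈ Scheme.fpqcPrecoverage S := by
    rwa [Presieve.ofArrows_pUnit]
  have hc := SchDesc12.pullback_fst_mem_fpqc _ hE a'
  have w₁ : ∀ _ : PUnit.{u + 1}, pullback.snd a' a ≫ a = (pullback.snd a' a ≫ a) ≫ 𝟙 S :=
    fun _ => (Category.comp_id _).symm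
  have w₂ : ∀ _ : PUnit.{u + 1}, pullback.fst a' a ≫ a' = (pullback.snd a' a ≫ a) ≫ 𝟙 S :=
    fun _ => by rw [Category.comp_id, pullback.condition]
  have w₃ : ∀ _ : PUnit.{u + 1}, pullback.lift g (𝟙 X) (h.trans (Category.id_comp a).symm) ≫
      (pullback.snd a' a ≫ a) = a ≫ 𝟙 S := fun _ => by
    rw [pullback.lift_snd_assoc, Category.id_comp, Category.comp_id]
  have w₄ : ∀ _ : PUnit.{u + 1}, 𝟙 X ≫ a = a ≫ 𝟙 S := fun _ => by
    rw [Category.id_comp, Category.comp_id]
  let F := Desc.pullDDFam (f := fun _ : PUnit.{u + 1} => a')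
    (f' := fun _ : PUnit.{u + 1} => a) (α := fun j => j) (p := 𝟙 S) (p' := fun _ => g)
    (fun _ => (h).trans (Category.comp_id a).symm)
  let G := Desc.pullDDFam (f := fun _ : PUnit.{u + 1} => a)
    (f' := fun _ : PUnit.{u + 1} => pullback.snd a' a ≫ a) (α := fun j => j) (p := 𝟙 S)
    (p' := fun _ => pullback.snd a' a) w₁
  let H := Desc.pullDDFam (f := fun _ : PUnit.{u + 1} => a')
    (f' := fun _ : PUnit.{u + 1} => pullback.snd a' a ≫ a) (α := fun j => j) (p := 𝟙 S)
    (p' := fun _ => pullback.fst a' a) w₂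
  let K := Desc.pullDDFam (f := fun _ : PUnit.{u + 1} => pullback.snd a' a ≫ a)
    (f' := fun _ : PUnit.{u + 1} => a) (α := fun j => j) (p := 𝟙 S)
    (p' := fun _ => pullback.lift g (𝟙 X) (h.trans (Category.id_comp a).symm)) w₃
  have hcov : ∀ j : PUnit.{u + 1}, Presieve.ofArrows
      (fun _ : {i : PUnit.{u + 1} // i = j} => pullback a' a)
      (fun k => SchDesc12.fibFam (U := fun _ => pullback a' a) (V := fun _ : PUnit.{u + 1} => X')
        (α := fun i => i) (fun _ => pullback.fst a' a) j k) ∈ Scheme.fpqcPrecoverage X' := by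
    rintro ⟨⟩
    refine (congrArg (· ∈ Scheme.fpqcPrecoverage X') ?_).mp hc
    funext Y
    ext e
    constructor
    · rintro ⟨k⟩
      exact Presieve.ofArrows.mk' ⟨k, rfl⟩ rfl (by simp [SchDesc12.fibFam])
    · rintro ⟨k⟩
      exact Presieve.ofArrows.mk' k.1 rfl (by simp [SchDesc12.fibFam])
  have eH : H.Full ∧ H.Faithful := ⟨SchDesc12.full_of_cover w₂ hcov, SchDesc12.faithful_of_cover w₂ hcov⟩
  have e1 : F ⋙ G ≅ H := SchDesc12.pullCompIso
    (f := fun _ : PUnit.{u + 1} => a') (f' := fun _ : PUnit.{u + 1} => a) (α := fun j => j)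
    (p := 𝟙 S) (p' := fun _ => g) (fun _ => (h).trans (Category.comp_id a).symm)
    (f'' := fun _ : PUnit.{u + 1} => pullback.snd a' a ≫ a) (β := fun j => j) (q := 𝟙 S)
    (q' := fun _ => pullback.snd a' a) w₁ (γ := fun j => j) (r := 𝟙 S)
    (r' := fun _ => pullback.fst a' a) w₂ (Category.comp_id _)
  have e2 : G ⋙ K ≅ 𝟭 _ := SchDesc12.pullCompIso
    (f := fun _ : PUnit.{u + 1} => a) (f' := fun _ : PUnit.{u + 1} => pullback.snd a' a ≫ a) (α := fun j => j)
    (p := 𝟙 S) (p' := fun _ => pullback.snd a' a) w₁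
    (f'' := fun _ : PUnit.{u + 1} => a) (β := fun j => j) (q := 𝟙 S)
    (q' := fun _ => pullback.lift g (𝟙 X) (h.trans (Category.id_comp a).symm)) w₃
    (γ := fun j => j) (r := 𝟙 S) (r' := fun _ => 𝟙 X) w₄ (Category.comp_id _) ≪≫
    SchDesc12.pullSelfIso (f := fun _ : PUnit.{u + 1} => a) (α := fun j => j) (p' := fun _ => 𝟙 X) w₄
  exact SchDesc12.full_faithful_of_comp_retract F G K H e1 e2 eH

end Groth.Agent.S9853
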