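import Groth.Statements.S9856
import Groth.Agent.Lib.SchDesc12.FullFaithful


set_option autoImplicit false
open CategoryTheory CategoryTheory.Limits AlgebraicGeometry Opposite
universe u
open Desc

namespace Groth.Agent.S9856

/-- Let u i : U i ⟶ S and v j : V j ⟶ S be fpqc coverings of S such that (u i) refines (v j) through
maps g i : U i ⟶ V (α i) with g i ≫ v (α i) = u i. Then the pullback functor from descent data for
schemes relative to (v j) to descent data relative to (u i) is full and faithful. In particular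
schemes over S form a full subcategory of descent data relative to any fpqc covering. -/
theorem result {ι κ : Type u} {S : Scheme.{u}} {U : ι → Scheme.{u}} {V : κ → Scheme.{u}}
    (u : ∀ i, U i ⟶ S) (v : ∀ j, V j ⟶ S) (hu : Presieve.ofArrows U u ∈ Scheme.fpqcPrecoverage S)
    (hv : Presieve.ofArrows V v ∈ Scheme.fpqcPrecoverage S)
    (α : ι → κ) (g : ∀ i, U i ⟶ V (α i)) (w : ∀ i, g i ≫ v (α i) = u i) :
    (Desc.pullDDFam (f := v) (f' := u) (α := α) (p := 𝟙 S) (p' := g) (fun i => (w i).trans (Category.comp_id (u i)).symm)).Full ∧ (Desc.pullDDFam (f := v) (f' := u) (α := α) (p := 𝟙 S) (p' := g) (fun i => (w i).trans (Category.comp_id (u i)).symm)).Faithful := by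
  have w₁ : ∀ k : κ × ι, pullback.snd (v k.1) (u k.2) ≫ u k.2 =
      (pullback.snd (v k.1) (u k.2) ≫ u k.2) ≫ 𝟙 S := fun _ => (Category.comp_id _).symm
  have w₂ : ∀ k : κ × ι, pullback.fst (v k.1) (u k.2) ≫ v k.1 =
      (pullback.snd (v k.1) (u k.2) ≫ u k.2) ≫ 𝟙 S :=
    fun _ => by rw [Category.comp_id, pullback.condition]
  have w₃ : ∀ i, pullback.lift (f := v (α i)) (g := u i) (g i) (𝟙 (U i))
      ((w i).trans (Category.id_comp _).symm) ≫ (pullback.snd (v (α i)) (u i) ≫ u i) = u i ≫ 𝟙 S :=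
    fun i => by rw [pullback.lift_snd_assoc, Category.id_comp, Category.comp_id]
  have w₄ : ∀ i, 𝟙 (U i) ≫ u i = u i ≫ 𝟙 S := fun i => by
    rw [Category.id_comp, Category.comp_id]
  let F := Desc.pullDDFam (f := v) (f' := u) (α := α) (p := 𝟙 S) (p' := g)
    (fun i => (w i).trans (Category.comp_id (u i)).symm)
  let G := Desc.pullDDFam (f := u)
    (f' := fun k : κ × ι => pullback.snd (v k.1) (u k.2) ≫ u k.2) (α := Prod.snd) (p := 𝟙 S)
    (p' := fun k => pullback.snd (v k.1) (u k.2)) w₁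
  let H := Desc.pullDDFam (f := v)
    (f' := fun k : κ × ι => pullback.snd (v k.1) (u k.2) ≫ u k.2) (α := Prod.fst) (p := 𝟙 S)
    (p' := fun k => pullback.fst (v k.1) (u k.2)) w₂
  let K := Desc.pullDDFam (f := fun k : κ × ι => pullback.snd (v k.1) (u k.2) ≫ u k.2)
    (f' := u) (α := fun i => (α i, i)) (p := 𝟙 S)
    (p' := fun i => pullback.lift (g i) (𝟙 (U i)) ((w i).trans (Category.id_comp _).symm)) w₃
  have hcov : ∀ j : κ, Presieve.ofArrows
      (fun k : {k : κ × ι // k.1 = j} => pullback (v k.1.1) (u k.1.2))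
      (fun k => SchDesc12.fibFam (U := fun k : κ × ι => pullback (v k.1) (u k.2)) (V := V)
        (α := Prod.fst) (fun k => pullback.fst (v k.1) (u k.2)) j k) ∈
        Scheme.fpqcPrecoverage (V j) := by
    intro j
    refine (congrArg (· ∈ Scheme.fpqcPrecoverage (V j)) ?_).mp
      (SchDesc12.pullback_fst_mem_fpqc u hu (v j))
    funext Y
    ext e
    constructor
    · rintro ⟨i⟩
      exact Presieve.ofArrows.mk' ⟨(j, i), rfl⟩ rfl (by simp [SchDesc12.fibFam])
    · rintro ⟨⟨⟨j', i⟩, hj⟩⟩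
      obtain rfl : j' = j := hj
      exact Presieve.ofArrows.mk' i rfl (by simp [SchDesc12.fibFam])
  have eH : H.Full ∧ H.Faithful := ⟨SchDesc12.full_of_cover w₂ hcov, SchDesc12.faithful_of_cover w₂ hcov⟩
  have e1 : F ⋙ G ≅ H := SchDesc12.pullCompIso
    (f := v) (f' := u) (α := α) (p := 𝟙 S) (p' := g) (fun i => (w i).trans (Category.comp_id (u i)).symm)
    (f'' := fun k : κ × ι => pullback.snd (v k.1) (u k.2) ≫ u k.2) (β := Prod.snd) (q := 𝟙 S)
    (q' := fun k => pullback.snd (v k.1) (u k.2)) w₁ (γ := Prod.fst) (r := 𝟙 S)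
    (r' := fun k => pullback.fst (v k.1) (u k.2)) w₂ (Category.comp_id _)
  have e2 : G ⋙ K ≅ 𝟭 _ := SchDesc12.pullCompIso
    (f := u) (f' := fun k : κ × ι => pullback.snd (v k.1) (u k.2) ≫ u k.2) (α := Prod.snd)
    (p := 𝟙 S) (p' := fun k => pullback.snd (v k.1) (u k.2)) w₁
    (f'' := u) (β := fun i => (α i, i)) (q := 𝟙 S)
    (q' := fun i => pullback.lift (g i) (𝟙 (U i)) ((w i).trans (Category.id_comp _).symm)) w₃
    (γ := fun i => i) (r := 𝟙 S) (r' := fun i => 𝟙 (U i)) w₄ (Category.comp_id _) ≪≫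
    SchDesc12.pullSelfIso (f := u) (α := fun i => i) (p' := fun i => 𝟙 (U i)) w₄
  exact SchDesc12.full_faithful_of_comp_retract F G K H e1 e2 eH

end Groth.Agent.S9856
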