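import Groth.Statements.S9857
import Groth.Agent.Lib.FibDim14.BaseChange
import Groth.Agent.Lib.FibDim14.Comp
-- import your own Groth.Agent.* helpers here

set_option autoImplicit false
set_option backward.isDefEq.respectTransparency.types false
open CategoryTheory CategoryTheory.Limits AlgebraicGeometry Opposite
universe u
open Desc

namespace Groth.Agent.S9857

/-- The property of a morphism being locally of finite type with relative dimension d may be checked
fpqc locally on the target; the descent direction for the dimension condition, stated for a single
flat surjective quasi-compact base change g : Y' ⟶ Y of a morphism f : X ⟶ Y locally of finite type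
and a cartesian square with base change f' : X' ⟶ Y': if every irreducible component of every fibre
of f' has dimension d, then every irreducible component of every fibre of f has dimension d. (Local
finite type itself descends along g by a separate result; stability under base change is the other
direction.) -/
theorem result {X Y X' Y' : Scheme.{u}} (f : X ⟶ Y) [LocallyOfFiniteType f] (g : Y' ⟶ Y)
    [Flat g] [Surjective g] [QuasiCompact g] (g' : X' ⟶ X) (f' : X' ⟶ Y') (hsq : IsPullback g' f' f g)
    (d : ℕ) (h : Cyc.HasRelDim f' d) : Cyc.HasRelDim f d := by
  haveI : LocallyOfFiniteType f' := MorphismProperty.of_isPullback hsq ‹LocallyOfFiniteType f›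
  rw [Groth.Agent.FibDim14.hasRelDim_iff] at h ⊢
  intro x hx
  obtain ⟨y', hy'⟩ := g.surjective (f x)
  obtain ⟨x', hx', hfx', hrd⟩ := Groth.Agent.FibDim14.exists_over_rd_eq hsq x y' hy'.symm
  rw [← hrd]
  refine h x' fun x'' hsp he => by_contra fun hne => ?_
  have h1 := Groth.Agent.FibDim14.rd_lt_of_specializes f' hsp hne he
  have h2 := Groth.Agent.FibDim14.rd_baseChange_le hsq x''
  have h3 : g' x'' = x := hx _ (hx' ▸ hsp.map g'.continuous) (by
    rw [← hx', ← Scheme.Hom.comp_apply, ← Scheme.Hom.comp_apply, hsq.w, Scheme.Hom.comp_apply,
      Scheme.Hom.comp_apply, he])
  rw [h3] at h2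
  omega

end Groth.Agent.S9857
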