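import Groth.Statements.S9860
import Mathlib.CategoryTheory.Sites.EffectiveEpimorphic
import Mathlib.AlgebraicGeometry.Gluing
-- import your own Groth.Agent.* helpers here

set_option autoImplicit false
set_option backward.isDefEq.respectTransparency false
open CategoryTheory CategoryTheory.Limits AlgebraicGeometry Opposite
universe u
open Desc

namespace Groth.Agent.S9860

/-- Consider morphisms of schemes f i : X i ⟶ X indexed by i. Suppose that, whenever Y is an affine
scheme and g : Y ⟶ X is a morphism, the sieve on Y obtained by pulling back along g (generated by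
the base changes X i ×_X Y ⟶ Y) is effective epimorphic. Then the pulled-back sieve along every
morphism Y ⟶ X of schemes is effective epimorphic; in other words, within schemes the family forms a
universal effective epimorphism. -/
theorem result {ι : Type u} {X : Scheme.{u}} {Xi : ι → Scheme.{u}} (f : ∀ i, Xi i ⟶ X)
    (h : ∀ (Y : Scheme.{u}) (g : Y ⟶ X), IsAffine Y → ((Sieve.ofArrows Xi f).pullback g).EffectiveEpimorphic)
    {Y : Scheme.{u}} (g : Y ⟶ X) : ((Sieve.ofArrows Xi f).pullback g).EffectiveEpimorphic := by
  rw [Sieve.EffectiveEpimorphic.iff_forall_isSheafFor_yoneda]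
  intro W
  have hS : ∀ (T : Scheme.{u}) (_ : IsAffine T) (k : T ⟶ X),
      ((Sieve.ofArrows Xi f).pullback k).arrows.IsSheafFor (yoneda.obj W) := fun T hT k =>
    (Sieve.EffectiveEpimorphic.iff_forall_isSheafFor_yoneda _).1 (h T k hT) W
  have hsep : ∀ {T : Scheme.{u}} (k : T ⟶ X) (m m' : T ⟶ W),
      (∀ (V : Scheme.{u}) (e : V ⟶ T), ((Sieve.ofArrows Xi f).pullback k).arrows e → e ≫ m = e ≫ m') → m = m' := by
    intro T k m m' hm
    refine Scheme.Cover.hom_ext T.affineCover _ _ fun i => ?_
    refine (hS _ inferInstance (T.affineCover.f i ≫ k)).isSeparatedFor.ext fun V e he => ?_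
    have := hm V (e ≫ T.affineCover.f i) (by
      simp only [Sieve.pullback_apply, Category.assoc] at he ⊢
      exact he)
    simpa using this
  intro x hx
  have hloc : ∀ i : Y.affineCover.I₀, ∃ m : Y.affineCover.X i ⟶ W, ∀ (V : Scheme.{u}) (e : V ⟶ Y.affineCover.X i)
      (he : ((Sieve.ofArrows Xi f).pullback g).arrows (e ≫ Y.affineCover.f i)), e ≫ m = x (e ≫ Y.affineCover.f i) he := by
    intro i
    have hmem : ∀ {V : Scheme.{u}} {e : V ⟶ Y.affineCover.X i},
        ((Sieve.ofArrows Xi f).pullback (Y.affineCover.f i ≫ g)).arrows e →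
          ((Sieve.ofArrows Xi f).pullback g).arrows (e ≫ Y.affineCover.f i) := by
      intro V e he
      simp only [Sieve.pullback_apply, Category.assoc] at he ⊢
      exact he
    obtain ⟨m, hm, -⟩ := hS _ inferInstance (Y.affineCover.f i ≫ g) (fun V e he => x (e ≫ Y.affineCover.f i) (hmem he))
      (fun V₁ V₂ Z a b e₁ e₂ h₁ h₂ w => hx a b (hmem h₁) (hmem h₂) (by rw [← Category.assoc, w, Category.assoc]))
    refine ⟨m, fun V e he => hm e ?_⟩
    simp only [Sieve.pullback_apply, Category.assoc] at he ⊢
    exact he
  choose m hm using hloc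
  have hglue : ∀ i j, pullback.fst (Y.affineCover.f i) (Y.affineCover.f j) ≫ m i = pullback.snd _ _ ≫ m j := by
    intro i j
    refine hsep (pullback.fst (Y.affineCover.f i) (Y.affineCover.f j) ≫ Y.affineCover.f i ≫ g) _ _ fun V e he => ?_
    have h1 : ((Sieve.ofArrows Xi f).pullback g).arrows ((e ≫ pullback.fst (Y.affineCover.f i) (Y.affineCover.f j)) ≫ Y.affineCover.f i) := by
      simp only [Sieve.pullback_apply, Category.assoc] at he ⊢
      exact he
    have w : (e ≫ pullback.fst (Y.affineCover.f i) (Y.affineCover.f j)) ≫ Y.affineCover.f i =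
        (e ≫ pullback.snd (Y.affineCover.f i) (Y.affineCover.f j)) ≫ Y.affineCover.f j := by
      rw [Category.assoc, pullback.condition, Category.assoc]
    have h2 := h1
    rw [w] at h2
    rw [← Category.assoc, ← Category.assoc, hm i V _ h1, hm j V _ h2]
    congr 1
  let M := Scheme.Cover.glueMorphisms Y.affineCover m hglue
  have hM : ∀ i, Y.affineCover.f i ≫ M = m i := fun i => Scheme.Cover.ι_glueMorphisms _ _ _ i
  refine ⟨M, fun V e he => ?_, fun M' hM' => hsep g _ _ fun V e he => ?_⟩
  · show e ≫ M = x e he
    let 𝒱 := Y.affineCover.pullback₁ e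
    refine Scheme.Cover.hom_ext 𝒱 _ _ fun i => ?_
    show pullback.fst e (Y.affineCover.f i) ≫ e ≫ M = pullback.fst e (Y.affineCover.f i) ≫ x e he
    rw [← Category.assoc, pullback.condition, Category.assoc, hM]
    have h1 : ((Sieve.ofArrows Xi f).pullback g).arrows (pullback.snd e (Y.affineCover.f i) ≫ Y.affineCover.f i) := by
      rw [← pullback.condition]
      exact ((Sieve.ofArrows Xi f).pullback g).downward_closed he _
    rw [hm i _ _ h1]
    have := hx (pullback.fst e (Y.affineCover.f i)) (𝟙 _) he h1 (by rw [Category.id_comp, pullback.condition])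
    change pullback.fst e (Y.affineCover.f i) ≫ x e he = 𝟙 _ ≫ x _ h1 at this
    rw [this, Category.id_comp]
  · have h1 := hM' e he
    let 𝒱 := Y.affineCover.pullback₁ e
    refine h1.trans (Scheme.Cover.hom_ext 𝒱 _ _ fun i => ?_)
    show pullback.fst e (Y.affineCover.f i) ≫ x e he = pullback.fst e (Y.affineCover.f i) ≫ e ≫ M
    rw [← Category.assoc _ e, pullback.condition, Category.assoc, hM]
    have h1 : ((Sieve.ofArrows Xi f).pullback g).arrows (pullback.snd e (Y.affineCover.f i) ≫ Y.affineCover.f i) := by
      rw [← pullback.condition]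
      exact ((Sieve.ofArrows Xi f).pullback g).downward_closed he _
    rw [hm i _ _ h1]
    have := hx (pullback.fst e (Y.affineCover.f i)) (𝟙 _) he h1 (by rw [Category.id_comp, pullback.condition])
    change pullback.fst e (Y.affineCover.f i) ≫ x e he = 𝟙 _ ≫ x _ h1 at this
    rw [this, Category.id_comp]

end Groth.Agent.S9860
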