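import Groth.Statements.S9862
import Groth.Agent.Lib.SkScheme12.Basic

set_option backward.isDefEq.respectTransparency.types false

set_option autoImplicit false
open CategoryTheory CategoryTheory.Limits AlgebraicGeometry Opposite
universe u
open Desc

namespace Groth.Agent.S9862

/-- Being Cohen-Macaulay is local in the syntomic topology: for a jointly surjective family of syntomic
morphisms f i : X i ⟶ S, the scheme S is locally Noetherian with Cohen-Macaulay local rings if and
only if every X i is. -/
theorem result {ι : Type u} {S : Scheme.{u}} {X : ι → Scheme.{u}} (f : ∀ i, X i ⟶ S)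
    (hsurj : ∀ s : S, ∃ i, s ∈ Set.range (f i).base) (hsyn : ∀ i, Synt.IsSyntomicMor (f i)) :
    (IsLocallyNoetherian S ∧ ∀ s : S, LocCoh.IsCohenMacaulayLocalRing (S.presheaf.stalk s)) ↔
      ∀ i, IsLocallyNoetherian (X i) ∧ ∀ x : X i, LocCoh.IsCohenMacaulayLocalRing ((X i).presheaf.stalk x) := by
  have key : ∀ Y : Scheme.{u}, (IsLocallyNoetherian Y ∧ ∀ y : Y, LocCoh.IsCohenMacaulayLocalRing (Y.presheaf.stalk y)) ↔
      ∀ k, IsLocallyNoetherian Y ∧ Groth.Agent.SkScheme12.SkPts k Y := fun Y => by
    constructor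
    · rintro ⟨hN, h⟩ k
      exact ⟨hN, fun y => (Groth.Agent.FlatDepth.forall_skIneq_iff _).2 (h y) k⟩
    · intro h
      haveI := (h 0).1
      exact ⟨(h 0).1, fun y => (Groth.Agent.FlatDepth.forall_skIneq_iff _).1 fun k => (h k).2 y⟩
  simp only [key]
  rw [forall_comm]
  exact forall_congr' fun k => Groth.Agent.SkScheme12.skPts_iff_cover f hsurj hsyn

end Groth.Agent.S9862
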