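import Groth.Statements.S9865
import Groth.Agent.Lib.SchDesc12.FullFaithful


set_option autoImplicit false
open CategoryTheory CategoryTheory.Limits AlgebraicGeometry Opposite
universe u
open Desc

namespace Groth.Agent.S9865

/-- Let f : X' ⟶ X be a morphism of schemes over S, with structure morphisms a' : X' ⟶ S and a : X ⟶ S,
and assume there exists a morphism g : X ⟶ X' over S (for instance a section of f). Then the
pullback functor along f, from descent data for schemes relative to X ⟶ S to descent data relative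
to X' ⟶ S, is an equivalence of categories. (Descent data relative to a single morphism are written
as descent data relative to the corresponding one-member family.) -/
theorem result {X X' S : Scheme.{u}} (a : X ⟶ S) (a' : X' ⟶ S) (f : X' ⟶ X)
    (h : f ≫ a = a') (hg : ∃ g : X ⟶ X', g ≫ a' = a) :
    (Desc.pullDDFam (f := fun _ : PUnit.{u + 1} => a) (f' := fun _ : PUnit.{u + 1} => a') (α := fun j => j)
        (p := 𝟙 S) (p' := fun _ => f) (fun _ => (h).trans (Category.comp_id a').symm)).IsEquivalence := by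
  obtain ⟨g, hg⟩ := hg
  have w : ∀ _ : PUnit.{u + 1}, f ≫ a = a' ≫ 𝟙 S := fun _ => h.trans (Category.comp_id a').symm
  have w' : ∀ _ : PUnit.{u + 1}, g ≫ a' = a ≫ 𝟙 S := fun _ => hg.trans (Category.comp_id a).symm
  have w₁ : ∀ _ : PUnit.{u + 1}, (g ≫ f) ≫ a = a ≫ 𝟙 S := fun j => by
    rw [Category.assoc, h, hg, Category.comp_id]
  have w₂ : ∀ _ : PUnit.{u + 1}, (f ≫ g) ≫ a' = a' ≫ 𝟙 S := fun j => by
    rw [Category.assoc, hg, h, Category.comp_id]
  let F := Desc.pullDDFam (f := fun _ : PUnit.{u + 1} => a) (f' := fun _ : PUnit.{u + 1} => a')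
    (α := fun j => j) (p := 𝟙 S) (p' := fun _ => f) w
  let G := Desc.pullDDFam (f := fun _ : PUnit.{u + 1} => a') (f' := fun _ : PUnit.{u + 1} => a)
    (α := fun j => j) (p := 𝟙 S) (p' := fun _ => g) w'
  have e1 : F ⋙ G ≅ 𝟭 _ := SchDesc12.pullCompIso
    (f := fun _ : PUnit.{u + 1} => a) (f' := fun _ : PUnit.{u + 1} => a') (α := fun j => j)
    (p := 𝟙 S) (p' := fun _ => f) w (f'' := fun _ : PUnit.{u + 1} => a) (β := fun j => j) (q := 𝟙 S)
    (q' := fun _ => g) w' (γ := fun j => j) (r := 𝟙 S) (r' := fun _ => g ≫ f) w₁ (Category.comp_id _) ≪≫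
    SchDesc12.pullSelfIso (f := fun _ : PUnit.{u + 1} => a) (α := fun j => j) (p' := fun _ => g ≫ f) w₁
  have e2 : G ⋙ F ≅ 𝟭 _ := SchDesc12.pullCompIso
    (f := fun _ : PUnit.{u + 1} => a') (f' := fun _ : PUnit.{u + 1} => a) (α := fun j => j)
    (p := 𝟙 S) (p' := fun _ => g) w' (f'' := fun _ : PUnit.{u + 1} => a') (β := fun j => j) (q := 𝟙 S)
    (q' := fun _ => f) w (γ := fun j => j) (r := 𝟙 S) (r' := fun _ => f ≫ g) w₂ (Category.comp_id _) ≪≫
    SchDesc12.pullSelfIso (f := fun _ : PUnit.{u + 1} => a') (α := fun j => j) (p' := fun _ => f ≫ g) w₂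
  exact (CategoryTheory.Equivalence.mk F G e1.symm e2).isEquivalence_functor

end Groth.Agent.S9865
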