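import Groth.Statements.S9869
import Groth.Agent.Lib.AlgSpace.Quot

set_option autoImplicit false
universe u
open CategoryTheory CategoryTheory.Limits AlgebraicGeometry
open AlgSp

set_option backward.isDefEq.respectTransparency.types false

namespace Groth.Agent.S9869

/-- Let `s, t : R ⟶ U` be an etale equivalence relation on a scheme `U` over `S` and suppose that the
fppf quotient sheaf `U/R` is an algebraic space over `S`. Then the quotient map `h_U ⟶ U/R` is
representable etale and representable surjective, and `(U, R, h_U ⟶ U/R)` is a presentation of `U/R`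
(in particular `h_R`, with `h_t` and `h_s`, is the fibre product `h_U ×_{U/R} h_U`). The quotient
map is written on `h_U` through the canonical identification of `h_U` with the sheafified
representable presheaf. -/
theorem result (S : Scheme.{u}) {R U : Over S} (s t : R ⟶ U)
    (h : AlgSp.IsEtaleEqvRel s t) (hq : AlgSp.IsAlgSpace (QuotSh.quot Scheme.fppfPrecoverage s t)) :
    AlgSp.IsPresentation s t
      ((QuotSh.repIsoUliftYoneda Scheme.fppfPrecoverage U).inv ≫ QuotSh.quotπ Scheme.fppfPrecoverage s t) := by
  obtain ⟨w, ⟨hc⟩⟩ := AlgSpace.nonempty_isColimit_quot s t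
  have := AlgSpace.isLocallySurjective_quotπ s t
  have sq := AlgSpace.isPullback_of_isEqvRel h.toIsEqvRel w hc
  obtain ⟨-, he, hs⟩ := AlgSpace.isAlgSpace_of_etale_kernelPair sq h.etale_right h.etale_left
  exact ⟨h, he, hs, sq⟩

end Groth.Agent.S9869
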