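import Groth.Statements.S9870
import Groth.Agent.Lib.AlgSpace.QuotRestrict2

set_option autoImplicit false
universe u
open CategoryTheory CategoryTheory.Limits AlgebraicGeometry
open AlgSp

set_option backward.isDefEq.respectTransparency.types false

namespace Groth.Agent.S9870

/-- Let `s, t : R ⟶ U` be a pre-relation on a scheme `U` over `S` which is an equivalence relation (on
`T`-points, for every scheme `T` over `S`), with `s` and `t` surjective, flat and locally of finite
presentation, and let `g : U' ⟶ U` be flat and locally of finite presentation. Let `s', t' : R' ⟶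
U'` be the restriction of the pre-relation to `U'`, i.e. `R'` with `(t', s')` and `R' ⟶ R` is the
fibre product of `U' ×_S U'` and `R` over `U ×_S U`. Then the map of fppf quotient sheaves `U'/R' ⟶
U/R` induced by `g` (the unique map under the quotient maps compatible with `h_g`) is representable
and an open immersion. -/
theorem result (S : Scheme.{u}) {R U R' U' : Over S} (s t : R ⟶ U)
    (g : U' ⟶ U) (s' t' : R' ⟶ U') (r : R' ⟶ R)
    (hsq : IsPullback (prod.lift t' s') r (prod.map g g) (prod.lift t s))
    (hR : AlgSp.IsEqvRel s t)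
    [Surjective s.left] [Flat s.left] [LocallyOfFinitePresentation s.left]
    [Surjective t.left] [Flat t.left] [LocallyOfFinitePresentation t.left]
    [Flat g.left] [LocallyOfFinitePresentation g.left]
    (φ : QuotSh.quot Scheme.fppfPrecoverage s' t' ⟶ QuotSh.quot Scheme.fppfPrecoverage s t)
    (hφ : QuotSh.quotπ Scheme.fppfPrecoverage s' t' ≫ φ = QuotSh.repMap Scheme.fppfPrecoverage g ≫ QuotSh.quotπ Scheme.fppfPrecoverage s t) :
    AlgSp.RepWith @IsOpenImmersion φ := by
  let h := pullback.snd g.left t.left ≫ s.left
  have : Flat (pullback.snd g.left t.left) := inferInstance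
  have : LocallyOfFinitePresentation (pullback.snd g.left t.left) := inferInstance
  have hfl : Flat h := inferInstance
  have hfp : LocallyOfFinitePresentation h := inferInstance
  let O : U.left.Opens := ⟨Set.range h, h.isOpenMap.isOpen_range⟩
  have hr : Set.range h ⊆ Set.range O.ι := by rw [O.range_ι]; exact le_rfl
  refine Groth.Agent.AlgSpace.repWith_isOpenImmersion_of_saturation hR.equivalence hsq O rfl
    (IsOpenImmersion.lift O.ι h hr) (IsOpenImmersion.lift_fac _ _ _) (fun w => ?_) φ hφ
  have hfac : IsOpenImmersion.lift O.ι h hr ≫ O.ι = h := IsOpenImmersion.lift_fac _ _ _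
  have : Surjective (IsOpenImmersion.lift O.ι h hr) := ⟨fun x => by
    obtain ⟨v, hv⟩ : O.ι x ∈ Set.range h := by
      have : O.ι x ∈ Set.range O.ι := ⟨x, rfl⟩
      rwa [O.range_ι] at this
    refine ⟨v, O.ι.isOpenEmbedding.injective ?_⟩
    change (IsOpenImmersion.lift O.ι h hr ≫ O.ι) v = _
    rw [hfac, hv]⟩
  exact @Groth.Agent.AlgSpace.isLocallySurjective_lift_of_flat _
    (Over.mk (pullback.snd g.left t.left ≫ R.hom)) (Over.mk (O.ι ≫ U.hom)) _ O.ι _
    (Over.homMk (IsOpenImmersion.lift O.ι h hr) w) (show Flat (_ ≫ O.ι) from hfac.symm ▸ hfl)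
    (show LocallyOfFinitePresentation (_ ≫ O.ι) from hfac.symm ▸ hfp) ‹_›

end Groth.Agent.S9870
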