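import Groth.Statements.S9871
import Groth.Agent.Lib.AlgSpace.Rep

set_option autoImplicit false
universe u
open CategoryTheory CategoryTheory.Limits AlgebraicGeometry
open AlgSp

namespace Groth.Agent.S9871

/-- Let `s, t : R ⟶ U` be an etale equivalence relation on a scheme `U` over `S` and let `g : U' ⟶ U` be
an etale morphism over `S`. Let `s', t' : R' ⟶ U'` be the restriction to `U'`: `R'`, with `(t', s')`
and `R' ⟶ R`, is the fibre product of `U' ×_S U'` and `R` over `U ×_S U`. Then `s', t'` is again an
etale equivalence relation. -/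
theorem result (S : Scheme.{u}) {R U R' U' : Over S} (s t : R ⟶ U)
    (g : U' ⟶ U) (s' t' : R' ⟶ U') (r : R' ⟶ R)
    (hsq : IsPullback (prod.lift t' s') r (prod.map g g) (prod.lift t s))
    (h : AlgSp.IsEtaleEqvRel s t) [Etale g.left] :
    AlgSp.IsEtaleEqvRel s' t' := by
  have h2 : ∀ {T : Over S} (a : T ⟶ U') (b : T ⟶ U') (k : T ⟶ R), a ≫ g = k ≫ t → b ≫ g = k ≫ s →
      ∃ r' : T ⟶ R', r' ≫ t' = a ∧ r' ≫ s' = b := fun a b k ha hb => by
    refine ⟨hsq.lift (prod.lift a b) k (by apply Limits.prod.hom_ext <;> simp [ha, hb, Limits.prod.lift_fst, Limits.prod.lift_snd, Limits.prod.lift_fst_assoc, Limits.prod.lift_snd_assoc, limit.lift_π, limit.lift_π_assoc, Limits.prod.map_fst, Limits.prod.map_snd]), ?_, ?_⟩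
    · have := hsq.lift_fst (prod.lift a b) k (by apply Limits.prod.hom_ext <;> simp [ha, hb, Limits.prod.lift_fst, Limits.prod.lift_snd, Limits.prod.lift_fst_assoc, Limits.prod.lift_snd_assoc, limit.lift_π, limit.lift_π_assoc, Limits.prod.map_fst, Limits.prod.map_snd]) =≫ Limits.prod.fst
      simpa [Limits.prod.lift_fst, Limits.prod.lift_snd, limit.lift_π, limit.lift_π_assoc, Limits.prod.map_fst, Limits.prod.map_snd] using this
    · have := hsq.lift_fst (prod.lift a b) k (by apply Limits.prod.hom_ext <;> simp [ha, hb, Limits.prod.lift_fst, Limits.prod.lift_snd, Limits.prod.lift_fst_assoc, Limits.prod.lift_snd_assoc, limit.lift_π, limit.lift_π_assoc, Limits.prod.map_fst, Limits.prod.map_snd]) =≫ Limits.prod.snd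
      simpa [Limits.prod.lift_fst, Limits.prod.lift_snd, limit.lift_π, limit.lift_π_assoc, Limits.prod.map_fst, Limits.prod.map_snd] using this
  have wt : t' ≫ g = r ≫ t := by simpa [Limits.prod.lift_fst, Limits.prod.lift_snd, limit.lift_π, limit.lift_π_assoc, Limits.prod.map_fst, Limits.prod.map_snd] using hsq.w =≫ Limits.prod.fst
  have ws : s' ≫ g = r ≫ s := by simpa [Limits.prod.lift_fst, Limits.prod.lift_snd, limit.lift_π, limit.lift_π_assoc, Limits.prod.map_fst, Limits.prod.map_snd] using hsq.w =≫ Limits.prod.snd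
  have key : ∀ {T : Over S} (a b : T ⟶ U'), (∃ r' : T ⟶ R', r' ≫ t' = a ∧ r' ≫ s' = b) ↔
      (∃ k : T ⟶ R, k ≫ t = a ≫ g ∧ k ≫ s = b ≫ g) := fun a b => by
    refine ⟨?_, fun ⟨k, hk, hk'⟩ => h2 a b k hk.symm hk'.symm⟩
    rintro ⟨r', rfl, rfl⟩
    exact ⟨r' ≫ r, by simp [wt], by simp [ws]⟩
  have hgE : MorphismProperty.inverseImage @Etale (Over.forget S) g := ‹Etale g.left›
  have hr : Etale r.left := by
    have : MorphismProperty.IsStableUnderBaseChange (MorphismProperty.inverseImage (@Etale : MorphismProperty Scheme.{u}) (Over.forget S)) :=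
      AlgSp.inverseImage_forget_isStableUnderBaseChange _
    have : MorphismProperty.IsStableUnderComposition (@Etale : MorphismProperty Scheme.{u}) :=
      ⟨fun f g (_ : Etale f) (_ : Etale g) => inferInstance⟩
    have : MorphismProperty.IsStableUnderComposition (MorphismProperty.inverseImage (@Etale : MorphismProperty Scheme.{u}) (Over.forget S)) :=
      AlgSp.inverseImage_forget_isStableUnderComposition _
    have h₁ : MorphismProperty.inverseImage @Etale (Over.forget S) (prod.map g (𝟙 U')) :=
      MorphismProperty.of_isPullback (Groth.Agent.AlgSpace.isPullback_prod_map_left g U') hgE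
    have h₂ : MorphismProperty.inverseImage @Etale (Over.forget S) (prod.map (𝟙 U) g) :=
      MorphismProperty.of_isPullback (Groth.Agent.AlgSpace.isPullback_prod_map_right g U) hgE
    have h₃ := MorphismProperty.comp_mem _ _ _ h₁ h₂
    rw [prod.map_map, Category.comp_id, Category.id_comp] at h₃
    exact MorphismProperty.of_isPullback (P := MorphismProperty.inverseImage @Etale (Over.forget S)) hsq h₃
  have := h.etale_left
  have := h.etale_right
  refine ⟨⟨fun T a b ht hs => hsq.hom_ext (by apply Limits.prod.hom_ext <;> simp [ht, hs, Limits.prod.lift_fst, Limits.prod.lift_snd, limit.lift_π, limit.lift_π_assoc])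
    (h.injective T _ _ (by simp only [Category.assoc, ← wt]; rw [reassoc_of% ht])
      (by simp only [Category.assoc, ← ws]; rw [reassoc_of% hs])), fun T => ?_⟩, ?_, ?_⟩
  · exact ⟨fun a => (key a a).2 ((h.equivalence T).refl _),
      fun hab => (key _ _).2 ((h.equivalence T).symm ((key _ _).1 hab)),
      fun hab hbc => (key _ _).2 ((h.equivalence T).trans ((key _ _).1 hab) ((key _ _).1 hbc))⟩
  · have : Etale (s'.left ≫ g.left) := by rw [← Over.comp_left, ws, Over.comp_left]; infer_instance
    exact Etale.of_comp s'.left g.left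
  · have : Etale (t'.left ≫ g.left) := by rw [← Over.comp_left, wt, Over.comp_left]; infer_instance
    exact Etale.of_comp t'.left g.left

end Groth.Agent.S9871
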