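import Groth.Statements.S9875
import Groth.Agent.Lib.AlgSpace.Space

set_option autoImplicit false
universe u
open CategoryTheory CategoryTheory.Limits AlgebraicGeometry
open AlgSp

namespace Groth.Agent.S9875

/-- The category of algebraic spaces over `S` has fibre products, and the inclusion functor into fppf
sheaves of sets over `S` preserves them (the fibre product of sheaves of two algebraic spaces over a
third is an algebraic space and is their fibre product as algebraic spaces). -/
theorem result (S : Scheme.{u}) :
    HasPullbacks (AlgSp.Space S) ∧
      PreservesLimitsOfShape WalkingCospan (ObjectProperty.ι (AlgSp.IsAlgSpace (S := S))) := by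
  have : ObjectProperty.IsClosedUnderLimitsOfShape (AlgSp.IsAlgSpace (S := S)) WalkingCospan := by
    refine ⟨?_⟩
    rintro X ⟨h⟩
    exact AlgSpace.isAlgSpace_pullback (h.prop_diag_obj WalkingCospan.one)
      (h.prop_diag_obj WalkingCospan.left) (h.prop_diag_obj WalkingCospan.right)
      (IsPullback.of_isLimit_cone h.isLimit)
  exact ⟨inferInstanceAs (HasLimitsOfShape WalkingCospan _), inferInstance⟩

end Groth.Agent.S9875
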