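import Groth.Statements.S9879
import Groth.Agent.Lib.AlgSpace.Coprod

set_option autoImplicit false
universe u
open CategoryTheory CategoryTheory.Limits AlgebraicGeometry
open AlgSp

namespace Groth.Agent.S9879

/-- Let `U` be a scheme over `S` and `F_i` a family of fppf sheaves of sets over `S` whose coproduct in
sheaves is isomorphic to `h_U`. Then each `F_i` is representable by a scheme `V_i` over `S` such
that `V_i ⟶ U` (the morphism inducing `h_{V_i} ≅ F_i ⟶ ∐ F_i ≅ h_U`) is an open and closed
immersion, and `U` is the coproduct of the `V_i` in schemes. -/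
theorem result (S : Scheme.{u}) (U : Over S) {ι : Type u}
    (F : ι → AlgSp.Sp S) (c : Cofan F) (hc : IsColimit c) (e : c.pt ≅ (AlgSp.yon S).obj U) :
    ∃ (V : ι → Over S) (g : ∀ i, V i ⟶ U) (ei : ∀ i, (AlgSp.yon S).obj (V i) ≅ F i),
      (∀ i, IsOpenImmersion (g i).left ∧ IsClosedImmersion (g i).left) ∧
      (∀ i, (ei i).hom ≫ c.inj i ≫ e.hom = (AlgSp.yon S).map (g i)) ∧
      Nonempty (IsColimit (Cofan.mk U.left (fun i => (g i).left))) := by
  let g₀ : (AlgSp.yon S).obj U ⟶ c.pt := e.inv
  choose l sq using fun i => Groth.Agent.AlgSpace.exists_isPullback_component hc g₀ i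
  let O := fun i => Groth.Agent.AlgSpace.componentOpen hc g₀ i
  have : ∀ i, IsIso (l i) := fun i => (sq i).isIso_fst_of_isIso
  refine ⟨fun i => Over.mk ((O i).ι ≫ U.hom), fun i => Groth.Agent.AlgSpace.overArrow (O i).ι,
    fun i => asIso (l i), fun i => ⟨inferInstanceAs (IsOpenImmersion (O i).ι), ?_⟩,
    fun i => ?_, ?_⟩
  · refine IsClosedImmersion.of_isPreimmersion (O i).ι ?_
    rw [Scheme.Opens.range_ι]
    exact Groth.Agent.AlgSpace.isClosed_componentOpen hc g₀ i
  · rw [asIso_hom, ← Category.assoc, (sq i).w, Category.assoc]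
    exact (congrArg _ e.inv_hom_id).trans (Category.comp_id _)
  · let d : (∐ fun i => (O i).toScheme) ⟶ U.left := Sigma.desc fun i => (O i).ι
    have hd : IsOpenImmersion d := by
      refine isOpenImmersion_sigmaDesc (fun i => (O i).toScheme) _ fun i j hij => ?_
      change Disjoint (Set.range (O i).ι) (Set.range (O j).ι)
      rw [Set.disjoint_left]
      intro x hx hx'
      rw [Scheme.Opens.range_ι] at hx hx'
      exact Groth.Agent.AlgSpace.componentOpen_disjoint hc g₀ hij hx hx'
    have hds : Surjective d := ⟨fun x => by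
      obtain ⟨i, hi⟩ := Groth.Agent.AlgSpace.exists_mem_componentOpen hc g₀ x
      refine ⟨Sigma.ι (fun i => (O i).toScheme) i ⟨x, hi⟩, ?_⟩
      exact congrArg (fun m : (O i).toScheme ⟶ U.left => m ⟨x, hi⟩)
        (Sigma.ι_desc (fun i => (O i).ι) i)⟩
    have : IsIso d := (isIso_iff_isOpenImmersion_and_surjective d).2 ⟨hd, hds⟩
    exact ⟨IsColimit.ofPointIso (r := Cofan.mk _ _) (t := Cofan.mk U.left fun i => (O i).ι)
      (coproductIsCoproduct _) (i := this)⟩

end Groth.Agent.S9879
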