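import Groth.Statements.S9895
import Groth.Agent.Lib.AlgSpace.FreeQuot
import Groth.Agent.Lib.Residual14.Main
import Mathlib.RingTheory.Etale.Field
import Mathlib.FieldTheory.Normal.Closure
import Mathlib.FieldTheory.IsAlgClosed.AlgebraicClosure

set_option autoImplicit false
universe u
open CategoryTheory CategoryTheory.Limits AlgebraicGeometry
open AlgSp

namespace Groth.Agent.S9895

open Groth.Agent.AlgSpace Groth.Agent.AlgSpDecent Groth.Agent.FreeQuot14

set_option backward.isDefEq.respectTransparency false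
set_option backward.isDefEq.respectTransparency.types false
set_option linter.style.haveILetI false
set_option maxHeartbeats 1600000

/-- Let a group `G` act freely (no non-identity element fixes a point together with its residue field)
by `S`-automorphisms on a scheme `U` over `S`, let `s, t : R = ∐_{g ∈ G} U ⟶ U` be the identity and
the action, and let `ξ : h_{Spec k} ⟶ U/R` be a morphism from the spectrum of a field `k` over `S`
to the quotient sheaf. Then one can find a finite Galois extension `k'/k` together with a finite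
subgroup `H ⊆ G`, a group isomorphism `e : H ≅ Gal(k'/k)` and a morphism `x' : Spec k' ⟶ U` over `S`
which is `H`-equivariant (with `h ∈ H` acting on `Spec k'` through `Spec` of `(e h)⁻¹`) and whose
composite with `U ⟶ U/R` is the restriction of `ξ` to `Spec k'`. (The published statement also
asserts that such data determine a morphism from `Spec k` to the quotient; this row states only the
direction above.) -/
theorem result (S : Scheme.{u}) (U : Over S) (G : Type u) [Group G]
    (ρ : G →* Aut U)
    (hfree : ∀ (g : G) (x : U.left), g ≠ 1 →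
      U.left.fromSpecResidueField x ≫ (ρ g).hom.left ≠ U.left.fromSpecResidueField x)
    (c : Cofan (fun _ : G => U)) (hc : IsColimit c) (s t : c.pt ⟶ U)
    (hs : ∀ g, c.inj g ≫ s = 𝟙 U) (ht : ∀ g, c.inj g ≫ t = (ρ g).hom)
    (k : Type u) [Field k] (σ : Spec (CommRingCat.of k) ⟶ S)
    (ξ : (AlgSp.yon S).obj (Over.mk σ) ⟶ QuotSh.quot Scheme.fppfPrecoverage s t) :
    ∃ (k' : Type u) (_ : Field k') (_ : Algebra k k') (_ : FiniteDimensional k k') (_ : IsGalois k k')
      (H : Subgroup G) (_ : Finite H) (e : H ≃* (k' ≃ₐ[k] k'))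
      (x' : Over.mk (Spec.map (CommRingCat.ofHom (algebraMap k k')) ≫ σ) ⟶ U),
      (∀ h : H, Spec.map (CommRingCat.ofHom (e h).symm.toRingEquiv.toRingHom) ≫ x'.left =
        x'.left ≫ (ρ (h : G)).hom.left) ∧
      (AlgSp.yon S).map x' ≫ (QuotSh.repIsoUliftYoneda Scheme.fppfPrecoverage U).inv ≫ QuotSh.quotπ Scheme.fppfPrecoverage s t =
        (AlgSp.yon S).map (Over.homMk (Spec.map (CommRingCat.ofHom (algebraMap k k'))) :
          Over.mk (Spec.map (CommRingCat.ofHom (algebraMap k k')) ≫ σ) ⟶ Over.mk σ) ≫ ξ := by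
  obtain ⟨wq, ⟨hcq⟩⟩ := AlgSpace.nonempty_isColimit_quot s t
  have := AlgSpace.isLocallySurjective_quotπ s t
  have hE := FreeQuot14.isEtaleEqvRel hc hs ht hfree
  have sqπ := AlgSpace.isPullback_of_isEqvRel hE.toIsEqvRel wq hcq
  obtain ⟨-, hπe, hπs⟩ := AlgSpace.isAlgSpace_of_etale_kernelPair sqπ hE.etale_right hE.etale_left
  let V : Over S := Over.mk σ
  have sqW := hπe.1.isPullback' ξ
  let q := hπe.1.fst' ξ
  let p := hπe.1.snd ξ
  have hpe : Etale p.left := hπe.2 ξ _ _ (hπe.1.isPullback ξ)
  have hps : Surjective p.left := hπs.2 ξ _ _ (hπe.1.isPullback ξ)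
  obtain ⟨w, -⟩ := p.left.surjective (IsLocalRing.closedPoint k)
  let W := hπe.1.pullback ξ
  let k' : Type u := W.left.residueField w
  let j₀ : Spec (CommRingCat.of k') ⟶ W.left := W.left.fromSpecResidueField w
  letI : Algebra k k' := (Spec.preimage (j₀ ≫ p.left)).hom.toAlgebra
  have hcan : Spec.map (CommRingCat.ofHom (algebraMap k k')) = j₀ ≫ p.left := Spec.map_preimage _
  let T : Over S := Over.mk (Spec.map (CommRingCat.ofHom (algebraMap k k')) ≫ σ)
  let can : T ⟶ V := Over.homMk (Spec.map (CommRingCat.ofHom (algebraMap k k'))) rfl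
  let j : T ⟶ W := Over.homMk j₀ (by
    show j₀ ≫ W.hom = Spec.map (CommRingCat.ofHom (algebraMap k k')) ≫ σ
    rw [hcan, Category.assoc, show p.left ≫ σ = W.hom from Over.w p])
  have hjp : j ≫ p = can := Over.OverMorphism.ext hcan.symm
  -- finite separable
  have : IsOpenImmersion j₀ :=
    Residual14.isOpenImmersion_of_mono_etale_field (K := k) j₀ p.left
  have het : Etale (Spec.map (CommRingCat.ofHom (algebraMap k k'))) := by rw [hcan]; infer_instance
  have halg : Algebra.Etale k k' := by
    rw [HasRingHomProperty.Spec_iff (P := @Etale), CommRingCat.hom_ofHom, RingHom.etale_algebraMap] at het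
    exact het
  have hfd : FiniteDimensional k k' := Algebra.FormallyUnramified.finite_of_free (R := k) (S := k')
  have hsep : Algebra.IsSeparable k k' := Algebra.FormallyUnramified.isSeparable k k'
  let x' : T ⟶ U := j ≫ q
  have hx' : (yon S).map x' ≫ (QuotSh.repIsoUliftYoneda Scheme.fppfPrecoverage U).inv ≫
      QuotSh.quotπ Scheme.fppfPrecoverage s t = (yon S).map can ≫ ξ := by
    have h1 := congrArg (fun m => (yon S).map j ≫ m) sqW.w
    simp only [← Category.assoc, ← Functor.map_comp] at h1
    simp only [← Category.assoc] at h1 ⊢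
    rw [h1, hjp]
  -- uniqueness and existence of the group element of a `k`-embedding
  have hmono : Mono j := (Over.forget S).mono_of_mono_map (inferInstanceAs (Mono j₀))
  have pt₀ : ↥T.left := IsLocalRing.closedPoint k'
  have exg : ∀ γ : T ⟶ T, γ ≫ can = can → ∃ g : G, γ ≫ x' = x' ≫ (ρ g).hom := by
    intro γ hγ
    have h1 : (yon S).map (γ ≫ x') ≫ ((QuotSh.repIsoUliftYoneda Scheme.fppfPrecoverage U).inv ≫
        QuotSh.quotπ Scheme.fppfPrecoverage s t) = (yon S).map x' ≫
        ((QuotSh.repIsoUliftYoneda Scheme.fppfPrecoverage U).inv ≫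
          QuotSh.quotπ Scheme.fppfPrecoverage s t) := by
      rw [Functor.map_comp, Category.assoc, hx', ← Category.assoc, ← Functor.map_comp, hγ]
    obtain ⟨R, hR⟩ := (yon S).map_surjective (sqπ.lift ((yon S).map (γ ≫ x')) ((yon S).map x') h1)
    have hRt : R ≫ t = γ ≫ x' := (yon S).map_injective (by
      rw [Functor.map_comp, hR, sqπ.lift_fst])
    have hRs : R ≫ s = x' := (yon S).map_injective (by
      rw [Functor.map_comp, hR, sqπ.lift_snd])
    obtain ⟨O, g, hO, -, hg⟩ := FreeQuot14.exists_local hc hs ht R pt₀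
    have : IsIso O.ι := by
      have : O = ⊤ := by
        ext z
        simp only [TopologicalSpace.Opens.coe_top, Set.mem_univ, iff_true]
        exact (Subsingleton.elim (α := PrimeSpectrum k') pt₀ z) ▸ hO
      subst this
      exact inferInstanceAs (IsIso T.left.topIso.hom)
    have : IsIso ((Over.forget S).map (overArrow O.ι : Over.mk (O.ι ≫ T.hom) ⟶ T)) := ‹IsIso O.ι›
    have : IsIso (overArrow O.ι : Over.mk (O.ι ≫ T.hom) ⟶ T) := isIso_of_reflects_iso _ (Over.forget S)
    refine ⟨g, ?_⟩
    rw [hRs, hRt, Category.assoc, cancel_epi] at hg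
    exact hg.symm
  let τ : (k' ≃ₐ[k] k') → (T ⟶ T) := fun a =>
    Over.homMk (Spec.map (CommRingCat.ofHom a.symm.toRingEquiv.toRingHom)) (by
      show Spec.map _ ≫ Spec.map (CommRingCat.ofHom (algebraMap k k')) ≫ σ =
        Spec.map (CommRingCat.ofHom (algebraMap k k')) ≫ σ
      rw [← Spec.map_comp_assoc]
      congr 2
      ext x
      exact a.symm.commutes x)
  have hτc : ∀ a, τ a ≫ can = can := fun a => Over.OverMorphism.ext (by
    show Spec.map _ ≫ Spec.map (CommRingCat.ofHom (algebraMap k k')) = Spec.map (CommRingCat.ofHom (algebraMap k k'))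
    rw [← Spec.map_comp]
    congr 1
    ext x
    exact a.symm.commutes x)
  choose φ hφ using fun a => exg (τ a) (hτc a)
  have hφm : ∀ a b, φ (a * b) = φ a * φ b := fun a b => by
    refine FreeQuot14.eq_of_free hfree x' ?_ pt₀
    rw [← hφ, FreeQuot14.ρ_mul_hom, ← Category.assoc x', ← hφ, Category.assoc (τ b) x', ← hφ, ← Category.assoc (τ b) (τ a)]
    congr 1
    apply Over.OverMorphism.ext
    show Spec.map _ = Spec.map _ ≫ Spec.map _
    rw [← Spec.map_comp]
    rfl
  let φ' : (k' ≃ₐ[k] k') →* G := MonoidHom.mk' φ hφm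
  have hinj : Function.Injective φ' := fun a b h => by
    have h1 : τ a ≫ x' = τ b ≫ x' := by rw [hφ, hφ]; exact congrArg (fun g => x' ≫ (ρ g).hom) h
    have h2 : τ a ≫ j = τ b ≫ j := (yon S).map_injective (sqW.hom_ext
      (by rw [← Functor.map_comp, ← Functor.map_comp, Category.assoc, Category.assoc]; exact congrArg _ h1)
      (by rw [← Functor.map_comp, ← Functor.map_comp, Category.assoc, Category.assoc, hjp, hτc, hτc]))
    have h3 : (τ a).left = (τ b).left := congrArg (fun m : T ⟶ T => m.left) ((cancel_mono j).1 h2)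
    have h4 := Spec.map_injective h3
    apply AlgEquiv.symm_bijective.injective
    ext x
    exact congrArg (fun m => m x) h4
  -- normality
  have hnormal : Normal k k' := by
    let Ω := AlgebraicClosure k'
    haveI : Algebra.IsAlgebraic k Ω := Algebra.IsAlgebraic.trans k k' Ω
    haveI : IsAlgClosure k Ω := ⟨inferInstance, inferInstance⟩
    haveI : Normal k Ω := IsAlgClosure.normal k Ω
    let i : k' →ₐ[k] Ω := IsScalarTower.toAlgHom k k' Ω
    let ir : k' →ₐ[k] i.fieldRange := i.codRestrict i.fieldRange.toSubalgebra (fun x => ⟨x, rfl⟩)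
    have hir : Function.Surjective ir := by
      rintro ⟨_, y, rfl⟩
      exact ⟨y, rfl⟩
    suffices hN : Normal k i.fieldRange from
      Normal.of_algEquiv (AlgEquiv.ofBijective ir ⟨ir.toRingHom.injective, hir⟩).symm
    rw [IntermediateField.normal_iff_forall_fieldRange_le]
    intro ψ
    let i' : k' →ₐ[k] Ω := ψ.comp ir
    rintro _ ⟨y, rfl⟩
    obtain ⟨y', hy⟩ : ∃ y', ir y' = y := hir y
    suffices h : i' y' ∈ i.fieldRange by
      rw [← hy]; exact h
    let TΩ : Over S := Over.mk (Spec.map (CommRingCat.ofHom (algebraMap k Ω)) ≫ σ)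
    let ofHomΩ : (k' →ₐ[k] Ω) → (TΩ ⟶ T) := fun f => Over.homMk (Spec.map (CommRingCat.ofHom f.toRingHom)) (by
      show Spec.map _ ≫ Spec.map (CommRingCat.ofHom (algebraMap k k')) ≫ σ =
        Spec.map (CommRingCat.ofHom (algebraMap k Ω)) ≫ σ
      rw [← Spec.map_comp_assoc]
      congr 2
      ext x
      exact f.commutes x)
    have hcΩ : ∀ f, ofHomΩ f ≫ can = ofHomΩ i ≫ can := fun f => Over.OverMorphism.ext (by
      show Spec.map _ ≫ Spec.map _ = Spec.map _ ≫ Spec.map _
      rw [← Spec.map_comp, ← Spec.map_comp]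
      congr 1
      ext x
      exact (f.commutes x).trans (i.commutes x).symm)
    have h1 : (yon S).map (ofHomΩ i' ≫ x') ≫ ((QuotSh.repIsoUliftYoneda Scheme.fppfPrecoverage U).inv ≫
        QuotSh.quotπ Scheme.fppfPrecoverage s t) = (yon S).map (ofHomΩ i ≫ x') ≫
        ((QuotSh.repIsoUliftYoneda Scheme.fppfPrecoverage U).inv ≫
          QuotSh.quotπ Scheme.fppfPrecoverage s t) := by
      simp only [Functor.map_comp, Category.assoc, hx']
      rw [← Category.assoc, ← Functor.map_comp, hcΩ, Functor.map_comp, Category.assoc]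
    obtain ⟨R, hR⟩ := (yon S).map_surjective (sqπ.lift ((yon S).map (ofHomΩ i' ≫ x'))
      ((yon S).map (ofHomΩ i ≫ x')) h1)
    have hRt : R ≫ t = ofHomΩ i' ≫ x' := (yon S).map_injective (by rw [Functor.map_comp, hR, sqπ.lift_fst])
    have hRs : R ≫ s = ofHomΩ i ≫ x' := (yon S).map_injective (by rw [Functor.map_comp, hR, sqπ.lift_snd])
    have ptΩ : ↥TΩ.left := IsLocalRing.closedPoint Ω
    obtain ⟨O, g, hO, -, hg⟩ := FreeQuot14.exists_local hc hs ht R ptΩ
    have : IsIso O.ι := by
      have : O = ⊤ := by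
        ext z
        simp only [TopologicalSpace.Opens.coe_top, Set.mem_univ, iff_true]
        exact (Subsingleton.elim (α := PrimeSpectrum Ω) ptΩ z) ▸ hO
      subst this
      exact inferInstanceAs (IsIso TΩ.left.topIso.hom)
    have : IsIso ((Over.forget S).map (overArrow O.ι : Over.mk (O.ι ≫ TΩ.hom) ⟶ TΩ)) := ‹IsIso O.ι›
    have : IsIso (overArrow O.ι : Over.mk (O.ι ≫ TΩ.hom) ⟶ TΩ) := isIso_of_reflects_iso _ (Over.forget S)
    rw [hRs, hRt, Category.assoc, cancel_epi, Category.assoc] at hg
    -- translate the point of the fibre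
    have hρπ : (yon S).map (ρ g).hom ≫ ((QuotSh.repIsoUliftYoneda Scheme.fppfPrecoverage U).inv ≫
        QuotSh.quotπ Scheme.fppfPrecoverage s t) = (QuotSh.repIsoUliftYoneda Scheme.fppfPrecoverage U).inv ≫
        QuotSh.quotπ Scheme.fppfPrecoverage s t := by
      rw [← ht g, Functor.map_comp, Category.assoc, sqπ.w, ← Category.assoc, ← Functor.map_comp, hs,
        (yon S).map_id, Category.id_comp]
    obtain ⟨l, hl⟩ := (yon S).map_surjective (sqW.lift ((yon S).map (x' ≫ (ρ g).hom)) ((yon S).map can) (by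
      rw [Functor.map_comp, Category.assoc, hρπ, hx']))
    have hlq : l ≫ q = x' ≫ (ρ g).hom := (yon S).map_injective (by rw [Functor.map_comp, hl, sqW.lift_fst])
    have hlp : l ≫ p = can := (yon S).map_injective (by rw [Functor.map_comp, hl, sqW.lift_snd])
    have hil : ofHomΩ i ≫ l = ofHomΩ i' ≫ j := (yon S).map_injective (sqW.hom_ext
      (by rw [← Functor.map_comp, ← Functor.map_comp, Category.assoc, Category.assoc, hlq]; exact congrArg _ hg)
      (by rw [← Functor.map_comp, ← Functor.map_comp, Category.assoc, Category.assoc, hlp, hjp, hcΩ i']))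
    have hr : Set.range l.left ⊆ Set.range j₀ := by
      rintro _ ⟨z, rfl⟩
      refine ⟨(ofHomΩ i').left ptΩ, ?_⟩
      have := congrArg (fun m : TΩ ⟶ W => m.left ptΩ) hil
      simp only [Over.comp_left, Scheme.Hom.comp_apply] at this
      rw [Subsingleton.elim (α := PrimeSpectrum k') z ((ofHomΩ i).left ptΩ)]
      exact this.symm
    let l₀ := IsOpenImmersion.lift j₀ l.left hr
    have hl₀ : l₀ ≫ j₀ = l.left := IsOpenImmersion.lift_fac _ _ _
    have h5 : Spec.map (CommRingCat.ofHom i.toRingHom) ≫ l₀ = Spec.map (CommRingCat.ofHom i'.toRingHom) := by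
      rw [← cancel_mono j₀, Category.assoc, hl₀]
      exact congrArg (fun m : TΩ ⟶ W => m.left) hil
    rw [← Spec.map_preimage l₀, ← Spec.map_comp] at h5
    have h6 := congrArg (fun m => m y') (Spec.map_injective h5)
    exact ⟨(Spec.preimage l₀) y', h6⟩
  have hgal : IsGalois k k' := ⟨⟩
  haveI : Finite φ'.range := Finite.of_equiv _ (MonoidHom.ofInjective hinj).toEquiv
  refine ⟨k', inferInstance, inferInstance, hfd, hgal, φ'.range, inferInstance,
    (MonoidHom.ofInjective hinj).symm, x', fun h => ?_, hx'⟩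
  have h7 := congrArg (fun m : T ⟶ U => m.left) (hφ ((MonoidHom.ofInjective hinj).symm h))
  simp only [Over.comp_left] at h7
  rw [show φ ((MonoidHom.ofInjective hinj).symm h) = (h : G) from
    congrArg Subtype.val ((MonoidHom.ofInjective hinj).apply_symm_apply h)] at h7
  exact h7

end Groth.Agent.S9895
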