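import Groth.Statements.S9897
import Groth.Agent.Lib.OverBC14.Apps

set_option autoImplicit false
universe u
open CategoryTheory CategoryTheory.Limits AlgebraicGeometry
open AlgSp

set_option backward.isDefEq.respectTransparency.types false

namespace Groth.Agent.S9897

set_option backward.isDefEq.respectTransparency.types false

open AlgSp Groth.Agent.OverBC14 Groth.Agent.AlgSpace Opposite

theorem main {S S' : Scheme.{u}} (g : S ⟶ S') :
    (∀ X' : Over S', Nonempty (((Scheme.fppfTopology.overMapPullback (Type (u + 1)) g).obj ((yon S').obj X')).obj.RepresentableBy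
      (Over.mk (pullback.snd X'.hom g)))) ∧
      (∀ F' : Space S', IsAlgSpace ((Scheme.fppfTopology.overMapPullback (Type (u + 1)) g).obj F'.obj)) := by
  refine ⟨fun X' => ⟨{
    homEquiv := fun {T} => {
      toFun := fun p => ULift.up (Over.homMk (U := (Over.map g).obj T) (p.left ≫ pullback.fst X'.hom g) (by
        change (p.left ≫ _) ≫ X'.hom = T.hom ≫ g
        rw [Category.assoc, pullback.condition, ← Category.assoc]
        exact congrArg (· ≫ g) (Over.w p)))
      invFun := fun q => Over.homMk (pullback.lift q.down.left T.hom (Over.w q.down)) (pullback.lift_snd _ _ _)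
      left_inv := fun p => Over.OverMorphism.ext (pullback.hom_ext (pullback.lift_fst _ _ _)
        ((pullback.lift_snd _ _ _).trans (Over.w p).symm))
      right_inv := fun q => ULift.ext _ _ (Over.OverMorphism.ext (pullback.lift_fst _ _ _)) }
    homEquiv_comp := fun {T T'} q p => ULift.ext _ _ (Over.OverMorphism.ext (Category.assoc _ _ _)) }⟩, fun F' => ?_⟩
  exact (isAlgSpace_R_iff g F'.obj).2 (isAlgSpace_prod (IsAlgSpace.yon_obj _) F'.property)


/-- Let `g : S ⟶ S'` be a morphism of schemes and `j⁻¹` the restriction functor from fppf sheaves of
sets on schemes over `S'` to fppf sheaves of sets on schemes over `S` (along `Over.map g`). Then for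
a scheme `X'` over `S'`, `j⁻¹ h_{X'}` is representable by `X' ×_{S'} S` viewed over `S` through the
second projection (stated as existence of a representation by that scheme), and for an algebraic
space `F'` over `S'`, `j⁻¹ F'` is an algebraic space over `S`. (The clause about presentations is
not included.) -/
theorem result {S S' : Scheme.{u}} (g : S ⟶ S') :
    (∀ X' : Over S', Nonempty (((Scheme.fppfTopology.overMapPullback (Type (u + 1)) g).obj ((AlgSp.yon S').obj X')).obj.RepresentableBy
      (Over.mk (pullback.snd X'.hom g)))) ∧
      (∀ F' : AlgSp.Space S', AlgSp.IsAlgSpace ((Scheme.fppfTopology.overMapPullback (Type (u + 1)) g).obj F'.obj)) := by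
  exact Groth.Agent.S9897.main g

end Groth.Agent.S9897
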