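import Groth.Statements.S9898
import Groth.Agent.Lib.OverBC14.Apps

set_option autoImplicit false
universe u
open CategoryTheory CategoryTheory.Limits AlgebraicGeometry
open AlgSp

set_option backward.isDefEq.respectTransparency.types false

namespace Groth.Agent.S9898

set_option backward.isDefEq.respectTransparency.types false

open AlgSp Groth.Agent.OverBC14 Groth.Agent.AlgSpace Opposite

theorem main {S S' : Scheme.{u}} (g : S ⟶ S') :
    ∃ E : Space S ≌ Over ((ofScheme S').obj (Over.mk g)),
      Nonempty (E.functor ⋙ Over.forget _ ⋙ ObjectProperty.ι (IsAlgSpace (S := S')) ≅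
        ObjectProperty.ι (IsAlgSpace (S := S)) ⋙ ((Over.map g).sheafPullback (Type (u + 1)) (AlgSp.J S) (AlgSp.J S'))) := by
  let Φ : Space S ⥤ Over ((ofScheme S').obj (Over.mk g)) :=
    { obj := fun F => Over.mk (Y := (⟨(L g).obj F.obj, (isAlgSpace_L_iff g _).2 F.property⟩ : Space S'))
        (ObjectProperty.homMk (π g F.obj))
      map := fun f => Over.homMk (ObjectProperty.homMk ((L g).map f.hom)) (by ext1; exact L_map_π g f.hom)
      map_id := fun F => Over.OverMorphism.ext (InducedCategory.hom_ext ((L g).map_id _))
      map_comp := fun f f' => Over.OverMorphism.ext (InducedCategory.hom_ext ((L g).map_comp _ _)) }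
  have : Φ.Faithful := ⟨fun {F G} a b h => InducedCategory.hom_ext
    ((L g).map_injective (congrArg (fun k => k.left.hom) h))⟩
  have : Φ.Full := ⟨fun {F G} k => by
    obtain ⟨f, hf⟩ := exists_map g (h := k.left.hom) (congrArg (fun q => q.hom) (Over.w k))
    exact ⟨ObjectProperty.homMk f, Over.OverMorphism.ext (InducedCategory.hom_ext hf)⟩⟩
  have : Φ.EssSurj := ⟨fun Y => by
    obtain ⟨F, e, he⟩ := exists_L_iso g Y.hom.hom
    have hF : IsAlgSpace F := (isAlgSpace_L_iff g F).1 (Y.left.property.of_iso e.symm)
    exact ⟨⟨F, hF⟩, ⟨Over.isoMk (ObjectProperty.isoMk _ e) (InducedCategory.hom_ext he)⟩⟩⟩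
  have : Φ.IsEquivalence := {}
  exact ⟨Φ.asEquivalence, ⟨Functor.isoWhiskerLeft (ObjectProperty.ι _) (pullbackIso g).symm⟩⟩


/-- Let `g : S ⟶ S'` be a morphism of schemes and `j_!` the left adjoint of the restriction functor from
fppf sheaves of sets on schemes over `S'` to those on schemes over `S`. Then there is an equivalence
between the category of algebraic spaces over `S` and the category of pairs (an algebraic space `F'`
over `S'`, a morphism `F' ⟶ h_S` of algebraic spaces over `S'`), i.e. the over category of `h_S` in
algebraic spaces over `S'`, sending `F` to `j_! F`: the equivalence composed with the forgetful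
functor to sheaves over `S'` is isomorphic to `j_!` on underlying sheaves. (Only this compatibility
is pinned; the structure maps `j_! F ⟶ h_S` are not.) -/
theorem result {S S' : Scheme.{u}} (g : S ⟶ S') :
    ∃ E : AlgSp.Space S ≌ Over ((AlgSp.ofScheme S').obj (Over.mk g)),
      Nonempty (E.functor ⋙ Over.forget _ ⋙ ObjectProperty.ι (AlgSp.IsAlgSpace (S := S')) ≅
        ObjectProperty.ι (AlgSp.IsAlgSpace (S := S)) ⋙ ((Over.map g).sheafPullback (Type (u + 1)) (AlgSp.J S) (AlgSp.J S'))) := by
  exact Groth.Agent.S9898.main g

end Groth.Agent.S9898
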