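import Groth.Statements.S9913
import Groth.Agent.Lib.AlgSpace.QC

set_option autoImplicit false
universe u
open CategoryTheory CategoryTheory.Limits AlgebraicGeometry
open AlgSp

namespace Groth.Agent.S9913

/-- For a quasi-compact morphism of algebraic spaces, the induced map on points pulls quasi-compact
opens back to quasi-compact subsets. -/
theorem result {S : Scheme.{u}} {X Y : AlgSp.Space S} (f : X ⟶ Y)
    (hf : AlgSp.IsQuasiCompactMor f.hom) (V : Set (AlgSp.Points Y.obj)) (hV : IsOpen V) (hVc : IsCompact V) :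
    IsCompact (AlgSp.Points.map f.hom ⁻¹' V) := by
  obtain ⟨U, p, he, hs⟩ := Y.property.atlas
  obtain ⟨s, hs'⟩ := hVc.elim_finite_subcover
    (fun W : {W : U.left.affineOpens // (W.1 : Set ↥U.left) ⊆ AlgSp.Points.ofPt p ⁻¹' V} =>
      AlgSp.Points.ofPt p '' (W.1.1 : Set ↥U.left))
    (fun W => AlgSpace.isOpenMap_ofPt p he _ W.1.1.isOpen) (fun y hy => by
      obtain ⟨u, rfl⟩ := AlgSpace.surjective_ofPt hs y
      obtain ⟨_, ⟨(W : U.left.Opens), hW, rfl⟩, hu, hsub⟩ :=
        U.left.isBasis_affineOpens.exists_subset_of_mem_open (show u ∈ AlgSp.Points.ofPt p ⁻¹' V from hy)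
          (hV.preimage (AlgSp.Points.continuous_ofPt p))
      exact Set.mem_iUnion.2 ⟨⟨⟨W, hW⟩, hsub⟩, u, hu, rfl⟩)
  have e : AlgSp.Points.map f.hom ⁻¹' V =
      ⋃ W ∈ s, AlgSp.Points.map f.hom ⁻¹' (AlgSp.Points.ofPt p '' (W.1.1 : Set ↥U.left)) := by
    ext x
    refine ⟨fun hx => by simpa using hs' hx, fun hx => ?_⟩
    obtain ⟨W, -, u, hu, e⟩ := Set.mem_iUnion₂.1 hx
    show AlgSp.Points.map f.hom x ∈ V
    exact e ▸ W.2 hu
  rw [e]
  refine s.finite_toSet.isCompact_biUnion fun W _ => ?_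
  let T : Over S := Over.mk (W.1.1.ι ≫ U.hom)
  have : IsAffine T.left := W.1.2
  have := AlgSpace.compactSpace_yon_of_affine T
  let q : (AlgSp.yon S).obj T ⟶ Y.obj := (AlgSp.yon S).map (Over.homMk W.1.1.ι rfl) ≫ p
  have sq := IsPullback.of_hasPullback f.hom q
  have := AlgSpace.compactSpace_of_isQuasiCompactMor X.property Y.property hf
    (AlgSp.IsAlgSpace.yon_obj T) sq
  have hr : AlgSp.Points.ofPt p '' (W.1.1 : Set ↥U.left) = Set.range (AlgSp.Points.map q) := by
    rw [← AlgSpace.range_ofPt_restrict, AlgSpace.map_of_yon_eq]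
    exact (EquivLike.range_comp (AlgSp.Points.ofPt q) (AlgSp.Points.schemeHomeo T).symm).symm
  have e' : AlgSp.Points.map f.hom ⁻¹' Set.range (AlgSp.Points.map q) =
      Set.range (AlgSp.Points.map (pullback.fst f.hom q)) := by
    ext x
    refine ⟨AlgSpDecent.mem_range_map_fst sq x, ?_⟩
    rintro ⟨w, rfl⟩
    exact ⟨AlgSp.Points.map (pullback.snd f.hom q) w, by
      rw [← AlgSp.Points.map_comp, ← AlgSp.Points.map_comp, pullback.condition]⟩
  rw [hr, e']
  exact isCompact_range (AlgSp.Points.continuous_map _)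

end Groth.Agent.S9913
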