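import Groth.Statements.S9915
import Groth.Agent.Lib.AlgSpace.QC

set_option autoImplicit false
universe u
open CategoryTheory CategoryTheory.Limits AlgebraicGeometry
open AlgSp

namespace Groth.Agent.S9915

/-- In a commutative triangle of algebraic spaces with f : X -> Y surjective, if X -> Z is quasi-compact
then Y -> Z is quasi-compact. -/
theorem result {S : Scheme.{u}} {X Y Z : AlgSp.Space S} (f : X ⟶ Y)
    (p : X ⟶ Z) (q : Y ⟶ Z) (comm : f ≫ q = p) (hf : AlgSp.IsSurjectiveMor f.hom)
    (hp : AlgSp.IsQuasiCompactMor p.hom) : AlgSp.IsQuasiCompactMor q.hom := by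
  subst comm
  rw [ObjectProperty.FullSubcategory.comp_hom] at hp
  refine AlgSpace.isQuasiCompactMor_of_affine Y.property Z.property fun T hT t P fst snd sq => ?_
  have := AlgSpace.compactSpace_yon_of_affine T
  have sq' := IsPullback.of_hasPullback f.hom fst
  have := AlgSpace.compactSpace_of_isQuasiCompactMor X.property Z.property hp
    (AlgSp.IsAlgSpace.yon_obj T) (sq'.paste_vert sq)
  exact AlgSpace.compactSpace_of_surjective (pullback.snd f.hom fst)
    (AlgSpace.surjective_of_isPullback sq' hf)

end Groth.Agent.S9915
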