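import Groth.Statements.S9925
import Groth.Agent.Lib.AlgSpace.UnivClosedQC

set_option autoImplicit false
universe u
open CategoryTheory CategoryTheory.Limits AlgebraicGeometry
open AlgSp

set_option backward.isDefEq.respectTransparency.types false

namespace Groth.Agent.S9925

/-- A universally closed morphism of algebraic spaces is quasi-compact. -/
theorem result {S : Scheme.{u}} {X Y : AlgSp.Space S} (f : X ⟶ Y)
    (hf : AlgSp.IsUnivClosedMor f.hom) : AlgSp.IsQuasiCompactMor f.hom := by
  exact Groth.Agent.AlgSpace.isQuasiCompactMor_of_isUnivClosedMor X.property Y.property hf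

end Groth.Agent.S9925
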