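import Groth.Statements.S9927
import Groth.Agent.Lib.AlgSpace.MorDiag

set_option autoImplicit false
universe u
open CategoryTheory CategoryTheory.Limits AlgebraicGeometry
open AlgSp

namespace Groth.Agent.S9927

/-- (4) ⇒ (1): being a monomorphism descends along a surjective etale base change from a scheme. -/
theorem result {S : Scheme.{u}} {X Y : AlgSp.Space S} (f : X ⟶ Y) (V : Over S)
    (p : (AlgSp.yon S).obj V ⟶ Y.obj) (hp : AlgSp.RepWith @Etale p) (hps : AlgSp.RepWith @Surjective p)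
    {P : AlgSp.Sp S} (fst : P ⟶ X.obj) (snd : P ⟶ (AlgSp.yon S).obj V) (sq : IsPullback fst snd f.hom p)
    [Mono snd] : Mono f.hom := by
  refine AlgSpace.mono_of_yon f.hom fun T x y w => ?_
  have sqT := hp.1.isPullback (x ≫ f.hom)
  have : Sheaf.IsLocallySurjective ((AlgSp.yon S).map (hp.1.snd (x ≫ f.hom))) :=
    AlgSpace.isLocallySurjective_of_etale
      ((AlgSp.repWith_yon_map_iff _ _).2 (hp.2 _ _ _ sqT))
      ((AlgSp.repWith_yon_map_iff _ _).2 (hps.2 _ _ _ sqT))
  have e : sq.lift ((AlgSp.yon S).map (hp.1.snd (x ≫ f.hom)) ≫ x) (hp.1.fst (x ≫ f.hom))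
        (by rw [Category.assoc]; exact sqT.w.symm) =
      sq.lift ((AlgSp.yon S).map (hp.1.snd (x ≫ f.hom)) ≫ y) (hp.1.fst (x ≫ f.hom))
        (by rw [Category.assoc, ← w]; exact sqT.w.symm) := by
    rw [← cancel_mono snd, sq.lift_snd, sq.lift_snd]
  have e' := e =≫ fst
  rw [sq.lift_fst, sq.lift_fst] at e'
  exact (cancel_epi _).1 e'

end Groth.Agent.S9927
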