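import Groth.Statements.S9929
import Groth.Agent.Lib.AlgSpace.UI
import Groth.Agent.Lib.AlgSpace.EtaleApps

set_option autoImplicit false
universe u
open CategoryTheory CategoryTheory.Limits AlgebraicGeometry
open AlgSp

set_option backward.isDefEq.respectTransparency.types false

namespace Groth.Agent.S9929

/-- A monomorphism from an algebraic space to the spectrum of a field is either the empty space or an
isomorphism. -/
theorem result {S : Scheme.{u}} {k : Type u} [Field k] (str : Spec (CommRingCat.of k) ⟶ S)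
    (Z : AlgSp.Space S) (f : Z ⟶ (AlgSp.ofScheme S).obj (Over.mk str)) [Mono f.hom] :
    IsEmpty (AlgSp.Points Z.obj) ∨ IsIso f := by
  by_cases hne : IsEmpty (AlgSp.Points Z.obj)
  · exact Or.inl hne
  refine Or.inr ?_
  let K : Over S := Over.mk str
  let f₀ : Z.obj ⟶ (AlgSp.yon S).obj K := f.hom
  have : Mono f₀ := ‹Mono f.hom›
  rw [not_isEmpty_iff] at hne
  obtain ⟨x⟩ := hne
  obtain ⟨U, p, hpe, hps⟩ := Z.property.atlas
  obtain ⟨u, -⟩ := Groth.Agent.AlgSpace.surjective_ofPt hps x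
  obtain ⟨_, ⟨(O : U.left.Opens), hO, rfl⟩, hu, -⟩ := U.left.isBasis_affineOpens.exists_subset_of_mem_open
    (Set.mem_univ u) isOpen_univ
  let U₀ : Over S := Over.mk (O.ι ≫ U.hom)
  let ι : U₀ ⟶ U := Over.homMk O.ι rfl
  let φ := (AlgSp.yon S).map ι ≫ p
  have : Etale ι.left := inferInstanceAs (Etale O.ι)
  have hφ : AlgSp.RepWith @Etale φ :=
    Groth.Agent.AlgSpace.repWith_comp ((AlgSp.repWith_yon_map_iff _ _).2 this) hpe
  obtain ⟨c, hc⟩ := (AlgSp.yon S).map_surjective (φ ≫ f₀)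
  have sqR := hφ.1.isPullback φ
  obtain ⟨k', hk'⟩ := (AlgSp.yon S).map_surjective (hφ.1.fst φ)
  have sq₂ : IsPullback ((AlgSp.yon S).map k') ((AlgSp.yon S).map (hφ.1.snd φ))
      ((AlgSp.yon S).map c) ((AlgSp.yon S).map c) := by
    rw [hc, hk']
    refine ⟨⟨by rw [← Category.assoc, sqR.w, Category.assoc]⟩, ⟨PullbackCone.IsLimit.mk _
      (fun s => sqR.lift s.fst s.snd ((cancel_mono f₀).1 (by
        exact (Category.assoc _ _ _).trans (s.condition.trans (Category.assoc _ _ _).symm))))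
      (fun s => sqR.lift_fst _ _ _) (fun s => sqR.lift_snd _ _ _)
      (fun s m h₁ h₂ => sqR.hom_ext (by rw [h₁, sqR.lift_fst]) (by rw [h₂, sqR.lift_snd]))⟩⟩
  have sq₃ := (IsPullback.of_map_of_faithful (AlgSp.yon S) sq₂).map (Over.forget S)
  have : Etale (hφ.1.snd φ).left := hφ.2 φ _ _ sqR
  let c' : U₀.left ⟶ Spec (CommRingCat.of k) := c.left
  have : IsAffine U₀.left := hO
  have : Nonempty ↥U₀.left := ⟨⟨u, hu⟩⟩
  have : Subsingleton ↥(Spec (CommRingCat.of k)) := inferInstanceAs (Subsingleton (PrimeSpectrum k))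
  have : Surjective c' := ⟨fun y => ⟨Classical.arbitrary _, Subsingleton.elim _ _⟩⟩
  have : Flat c' := Groth.Agent.AlgSpace.flat_of_field c'
  have : QuasiCompact c' := inferInstance
  have hce : Etale c' := MorphismProperty.of_isPullback_of_descendsAlong
    (Q := @Surjective ⊓ @Flat ⊓ @QuasiCompact) sq₃.flip ⟨⟨‹_›, ‹_›⟩, ‹_›⟩ ‹Etale (hφ.1.snd φ).left›
  have hrep : AlgSp.RepWith @Etale ((AlgSp.yon S).map c) := (AlgSp.repWith_yon_map_iff _ _).2 hce
  have hreps : AlgSp.RepWith @Surjective ((AlgSp.yon S).map c) :=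
    (AlgSp.repWith_yon_map_iff _ _).2 ‹Surjective c'›
  have h₁ := Groth.Agent.AlgSpace.isLocallySurjective_of_etale hrep hreps
  rw [CategoryTheory.Sheaf.isLocallySurjective_iff_epi, hc] at h₁
  have : Epi f₀ := epi_of_epi φ f₀
  have : IsIso f.hom := (isIso_of_mono_of_epi f₀ : IsIso f₀)
  have : IsIso ((ObjectProperty.ι (AlgSp.IsAlgSpace (S := S) : ObjectProperty (AlgSp.Sp S))).map f) := this
  exact isIso_of_reflects_iso f (ObjectProperty.ι (AlgSp.IsAlgSpace (S := S) : ObjectProperty (AlgSp.Sp S)))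

end Groth.Agent.S9929
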