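import Groth.Statements.S9934
import Groth.Agent.Lib.AlgSpace.Proper

set_option autoImplicit false
universe u
open CategoryTheory CategoryTheory.Limits AlgebraicGeometry
open AlgSp

namespace Groth.Agent.S9934

/-- An immersion of algebraic spaces is a closed immersion exactly when its image on points is closed. -/
theorem result {S : Scheme.{u}} {Z X : AlgSp.Space S} (i : Z ⟶ X)
    (hi : AlgSp.RepWith @IsImmersion i.hom) :
    AlgSp.RepWith @IsClosedImmersion i.hom ↔ IsClosed (Set.range (AlgSp.Points.map i.hom)) := by
  refine ⟨fun h => IsClosedMap.isClosed_range (Groth.Agent.AlgSpace.isClosedMap_of_isUnivClosedMor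
    X.property (Groth.Agent.AlgSpace.isUnivClosedMor_of_repWith_closedImmersion h)),
    fun hc => ⟨hi.1, fun T W g fst snd sq => ?_⟩⟩
  have : IsImmersion snd.left := hi.2 g fst snd sq
  refine IsClosedImmersion.of_isPreimmersion snd.left ?_
  have e := Groth.Agent.AlgSpace.preimage_image_map sq Set.univ
  rw [Set.image_univ, Set.preimage_univ, Set.image_univ] at e
  have hcl : IsClosed (Set.range (AlgSp.Points.map ((AlgSp.yon S).map snd))) :=
    e ▸ hc.preimage (AlgSp.Points.continuous_map g)
  rw [AlgSp.Points.map_yon_map_eq, Set.range_comp, Homeomorph.isClosed_image, Set.range_comp,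
    Homeomorph.range_coe, Set.image_univ] at hcl
  exact hcl

end Groth.Agent.S9934
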