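import Groth.Statements.S9935
import Groth.Agent.Lib.SchImage14.ImmSpace

set_option autoImplicit false
universe u
open CategoryTheory CategoryTheory.Limits AlgebraicGeometry
open AlgSp

set_option backward.isDefEq.respectTransparency.types false

namespace Groth.Agent.S9935

/-- A quasi-compact immersion of algebraic spaces factors as an open immersion followed by a closed
immersion. -/
theorem result {S : Scheme.{u}} {Z X : AlgSp.Space S}
    (i : Z ⟶ X) (hi : AlgSp.RepWith @IsImmersion i.hom) (hq : AlgSp.IsQuasiCompactMor i.hom) :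
    ∃ (Zbar : AlgSp.Space S) (j : Z ⟶ Zbar) (c : Zbar ⟶ X), j ≫ c = i ∧
      AlgSp.RepWith @IsOpenImmersion j.hom ∧ AlgSp.RepWith @IsClosedImmersion c.hom := by
  obtain ⟨Zbar, c, hc⟩ := Groth.Agent.SchImage14.exists_isSchImage i
  obtain ⟨h', fac⟩ := hc.2.1
  refine ⟨Zbar, ObjectProperty.homMk h', c, ObjectProperty.hom_ext _ fac, ?_, hc.1⟩
  exact (Groth.Agent.SchImage14.immersion_into_schImage i hi (Or.inl hq) c hc (ObjectProperty.homMk h')
    (ObjectProperty.hom_ext _ fac)).1

end Groth.Agent.S9935
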