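import Groth.Statements.S9937
import Groth.Agent.Lib.AlgSpace.MorDiag

set_option autoImplicit false
universe u
open CategoryTheory CategoryTheory.Limits AlgebraicGeometry
open AlgSp

namespace Groth.Agent.S9937

/-- Closed immersions between algebraic spaces are separated morphisms. -/
theorem result {S : Scheme.{u}} {X Y : AlgSp.Space S} (f : X ⟶ Y)
    (hf : AlgSp.RepWith @IsClosedImmersion f.hom) : AlgSp.IsSeparatedMor f.hom := by
  have : Mono f.hom := AlgSpace.mono_of_repWith f.hom
    (AlgSpace.repWith_mono (fun _ _ g (_ : IsClosedImmersion g) => (inferInstance : Mono g)) hf)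
  exact AlgSpace.repWith_diagonal_of_mono f.hom

end Groth.Agent.S9937
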