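import Groth.Statements.S9940
import Groth.Agent.Lib.AlgSpace.UI

set_option autoImplicit false
universe u
open CategoryTheory CategoryTheory.Limits AlgebraicGeometry
open AlgSp

namespace Groth.Agent.S9940

/-- (4) ⇒ (1): universal injectivity of a morphism of algebraic spaces descends along a surjective base
change from a scheme. -/
theorem result {S : Scheme.{u}} {X Y : AlgSp.Space S} (f : X ⟶ Y)
    (Z : Over S) (g : (AlgSp.yon S).obj Z ⟶ Y.obj) (hg : AlgSp.IsSurjectiveMor g) {P : AlgSp.Sp S}
    (fst : P ⟶ X.obj) (snd : P ⟶ (AlgSp.yon S).obj Z) (sq : IsPullback fst snd f.hom g)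
    (h : AlgSp.IsUnivInjectiveMor snd) : AlgSp.IsUnivInjectiveMor f.hom := by
  intro T T' hT t fst' snd' sq'
  have sqT := IsPullback.of_hasPullback t g
  have hW := AlgSpace.isAlgSpace_baseChange hT Y.property (AlgSp.IsAlgSpace.yon_obj Z) sqT
  have sqW := IsPullback.of_hasPullback snd' (pullback.fst t g)
  have hs : Function.Surjective (AlgSp.Points.map (pullback.fst t g)) :=
    AlgSpace.surjective_of_isPullback sqT.flip hg
  have big := sqW.paste_horiz sq'
  rw [pullback.condition] at big
  let m := sq.lift (pullback.fst snd' (pullback.fst t g) ≫ fst')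
    (pullback.snd snd' (pullback.fst t g) ≫ pullback.snd t g)
    (by simpa only [Category.assoc] using big.w)
  have inj : Function.Injective (AlgSp.Points.map (pullback.snd snd' (pullback.fst t g))) :=
    h hW (pullback.snd t g) m _ (IsPullback.of_right (by simpa [m] using big) (by simp [m]) sq)
  intro x₁ x₂ e
  obtain ⟨w, hw⟩ := hs (AlgSp.Points.map snd' x₁)
  obtain ⟨v₁, rfl, h₁⟩ := AlgSpDecent.exists_point_lift sqW x₁ w hw.symm
  obtain ⟨v₂, rfl, h₂⟩ := AlgSpDecent.exists_point_lift sqW x₂ w (e.symm.trans hw.symm)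
  rw [inj (h₁.trans h₂.symm)]

end Groth.Agent.S9940
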