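import Groth.Statements.S9942
import Groth.Agent.Lib.AlgSpace.Affine
import Groth.Agent.Lib.AlgSpace.Points

set_option autoImplicit false
universe u
open CategoryTheory CategoryTheory.Limits AlgebraicGeometry
open AlgSp

namespace Groth.Agent.S9942

/-- (3) ⇒ (2): if X x_Y V is an affine scheme for every affine scheme V etale over Y, then f : X -> Y is
affine. -/
theorem result {S : Scheme.{u}} {X Y : AlgSp.Space S} (f : X ⟶ Y)
    (h : ∀ (V : Over S), IsAffine V.left → ∀ (b : (AlgSp.yon S).obj V ⟶ Y.obj), AlgSp.RepWith @Etale b →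
      ∀ (P : AlgSp.Sp S) (fst : P ⟶ X.obj) (snd : P ⟶ (AlgSp.yon S).obj V), IsPullback fst snd f.hom b →
      ∃ (W : Over S), IsAffine W.left ∧ Nonempty ((AlgSp.yon S).obj W ≅ P)) :
    AlgSp.IsAffineMor f.hom := by
  obtain ⟨V, p, hp, hps⟩ := Y.property.atlas
  have sq := IsPullback.of_hasPullback f.hom p
  refine Groth.Agent.AlgSpace.isAffineMor_of_etale_cover f.hom p hp hps sq ?_
  rw [Groth.Agent.AlgSpace.isAffineMor_iff_repWith]
  have hloc : ∀ (O : V.left.Opens), IsAffineOpen O →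
      ∃ (W : Over S) (snd : W ⟶ Over.mk (O.ι ≫ V.hom)) (a : (AlgSp.yon S).obj W ⟶ pullback f.hom p),
        IsAffine W.left ∧ IsPullback a ((AlgSp.yon S).map snd) (pullback.snd f.hom p)
          ((AlgSp.yon S).map (Groth.Agent.AlgSpace.overArrow O.ι)) := fun O hO => by
    have sqO := IsPullback.of_hasPullback (pullback.snd f.hom p)
      ((AlgSp.yon S).map (Groth.Agent.AlgSpace.overArrow O.ι))
    obtain ⟨W, hW, ⟨e⟩⟩ := h (Over.mk (O.ι ≫ V.hom)) hO _
      (Groth.Agent.AlgSpace.repWith_etale_restrict hp O) _ _ _ (sqO.paste_horiz sq)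
    refine ⟨W, (AlgSp.yon S).preimage (e.hom ≫ pullback.snd _ _), e.hom ≫ pullback.fst _ _, hW, ?_⟩
    rw [Functor.map_preimage]
    exact IsPullback.of_iso sqO e.symm (Iso.refl _) (Iso.refl _) (Iso.refl _) (by simp) (by simp)
      (by simp) (by simp)
  obtain ⟨G, ⟨e⟩⟩ := Groth.Agent.AlgSpace.exists_iso_yon_of_zariski (pullback.snd f.hom p) fun t => by
    obtain ⟨O, hO, ht, -⟩ :=
      exists_isAffineOpen_mem_and_subset (X := V.left) (x := t) (U := ⊤) trivial
    obtain ⟨W, s, a, -, sqW⟩ := hloc O hO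
    exact ⟨O, ht, W, s, a, sqW⟩
  obtain ⟨j, hj⟩ := (AlgSp.yon S).map_surjective (e.hom ≫ pullback.snd f.hom p)
  have hja : IsAffineHom j.left := ⟨fun O hO => by
    obtain ⟨W, s, a, hW, sqW⟩ := hloc O hO
    have sq₁ : IsPullback (a ≫ e.inv) ((AlgSp.yon S).map s) ((AlgSp.yon S).map j)
        ((AlgSp.yon S).map (Groth.Agent.AlgSpace.overArrow O.ι)) := by
      rw [hj]
      exact IsPullback.of_iso sqW (Iso.refl _) e.symm (Iso.refl _) (Iso.refl _) (by simp) (by simp)
        (by simp) (by simp)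
    obtain ⟨a', ha'⟩ := (AlgSp.yon S).map_surjective (a ≫ e.inv)
    rw [← ha'] at sq₁
    have sq₂ := (IsPullback.of_map_of_faithful (AlgSp.yon S) sq₁).map (Over.forget S)
    have : IsAffine ((Over.forget S).obj W) := hW
    exact IsAffine.of_isIso (sq₂.isoIsPullback _ _ (isPullback_morphismRestrict j.left O).flip).inv⟩
  have h₀ : AlgSp.RepWith @IsAffineHom (e.hom ≫ pullback.snd f.hom p) := by
    rw [← hj]; exact (AlgSp.repWith_yon_map_iff _ _).2 hja
  exact (Groth.Agent.AlgSpace.repWith_respectsIso_left _).1 h₀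

end Groth.Agent.S9942
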