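import Groth.Statements.S9945
import Groth.Agent.Lib.AlgSpace.Affine
import Groth.Agent.Lib.AlgSpace.QC
import Groth.Agent.Lib.SchImage14.Space
import Groth.Agent.Lib.AlgSpDecent.MonoPoint
import Mathlib.AlgebraicGeometry.Artinian
import Mathlib.AlgebraicGeometry.Morphisms.QuasiFinite

set_option autoImplicit false
universe u
open CategoryTheory CategoryTheory.Limits AlgebraicGeometry
open AlgSp

namespace Groth.Agent.S9945
open Groth.Agent.AlgSpace Groth.Agent.SchImage14 Groth.Agent.AlgSpDescent Groth.Agent.AlgSpDecent Opposite

set_option backward.isDefEq.respectTransparency.types false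

theorem main {S : Scheme.{u}} [QuasiSeparatedSpace ↥S] (X : Sp S) (hX : IsAlgSpace X)
    (hqs : IsQuasiSeparatedSp X) {T : Over S} [IsAffine T.left] [IsArtinianScheme T.left]
    (a : (yon S).obj T ⟶ X) : IsAffineMor a := by
  obtain ⟨κ, U, φ, hU, hφe, hφs⟩ := exists_affines_atlas hX
  have ha : Representable a := Functor.relativelyRepresentable.of_diag hX.diag a
  refine isAffineMor_of_etale_cover a φ hφe hφs (ha.isPullback φ) (isAffineMor_iff_repWith.2
    ((repWith_yon_map_iff _ _).2 ?_))
  set n := ha.snd φ
  let 𝒰 := (sigmaOpenCover fun j => (U j).left)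
  refine (IsZariskiLocalAtTarget.iff_of_openCover (P := @IsAffineHom) (f := n.left) 𝒰).2 fun j => ?_
  let Wj := pullback n (coprodOverι U j)
  have sqj : IsPullback ((yon S).map (pullback.fst n (coprodOverι U j)) ≫ ha.fst φ)
      ((yon S).map (pullback.snd n (coprodOverι U j))) a ((yon S).map (coprodOverι U j) ≫ φ) :=
    ((IsPullback.of_hasPullback n (coprodOverι U j)).map (yon S)).paste_horiz (ha.isPullback φ)
  obtain ⟨b, hb⟩ := (yon S).map_surjective ((yon S).map (pullback.fst n (coprodOverι U j)) ≫ ha.fst φ)
  rw [← hb] at sqj
  have hye : RepWith @Etale ((yon S).map (coprodOverι U j) ≫ φ) :=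
    repWith_comp ((repWith_yon_map_iff _ _).2 (inferInstanceAs (Etale (Sigma.ι (fun j => (U j).left) j)))) hφe
  have : Etale b.left := (repWith_yon_map_iff _ _).1 (repWith_of_isPullback sqj.flip hye)
  have := hU j
  have hq : QuasiCompact (prod.lift b (pullback.snd n (coprodOverι U j))).left := by
    refine (repWith_yon_map_iff _ _).1 ?_
    rw [← repWith_respectsIso_right (P := @QuasiCompact) (prodComparison (yon S) T (U j)), lift_comparison]
    exact repWith_of_isPullback (isPullback_diag sqj) hqs
  have : CompactSpace ↥(T ⨯ U j).left := by
    have : CompactSpace ↥(pullback T.hom (U j).hom) := inferInstance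
    exact (Over.prodLeftIsoPullback T (U j)).inv.homeomorph.compactSpace
  have : CompactSpace ↥Wj.left := QuasiCompact.compactSpace_of_compactSpace (prod.lift b (pullback.snd n (coprodOverι U j))).left
  have := locallyQuasiFinite_of_etale b.left
  have : IsLocallyArtinian Wj.left := IsLocallyArtinian.of_locallyQuasiFinite b.left
  have : IsArtinianScheme Wj.left := {}
  have : IsAffine Wj.left := inferInstance
  let e := ((IsPullback.of_hasPullback n (coprodOverι U j)).map (Over.forget S)).isoPullback
  have h1 : IsAffineHom (pullback.snd n (coprodOverι U j)).left := inferInstance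
  have h2 : (MorphismProperty.isomorphisms Scheme.{u}) e.hom := inferInstanceAs (IsIso e.hom)
  exact (MorphismProperty.arrow_mk_iso_iff (@IsAffineHom) (Arrow.isoMk e (Iso.refl _)
    ((((IsPullback.of_hasPullback n (coprodOverι U j)).map (Over.forget S)).isoPullback_hom_snd).trans
      (Category.comp_id _).symm))).1 h1


/-- Over a base scheme with quasi-separated underlying space, every morphism from the spectrum of an
Artinian ring to an algebraic space quasi-separated over S is affine. (The published statement
assumes X quasi-separated in the absolute sense over any base; this row assumes the base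
quasi-separated and X quasi-separated over it, which on such bases is the same condition.) -/
theorem result {S : Scheme.{u}} [QuasiSeparatedSpace ↥S] (X : AlgSp.Space S)
    (hX : AlgSp.IsQuasiSeparatedSp X.obj) (A : Type u) [CommRing A] [IsArtinianRing A]
    (str : Spec (CommRingCat.of A) ⟶ S) (a : (AlgSp.yon S).obj (Over.mk str) ⟶ X.obj) :
    AlgSp.IsAffineMor a := by
  have : IsArtinianScheme (Over.mk str).left := inferInstanceAs (IsArtinianScheme (Spec (CommRingCat.of A)))
  have : IsAffine (Over.mk str).left := inferInstanceAs (IsAffine (Spec _))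
  exact main X.obj X.property hX a

end Groth.Agent.S9945
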