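import Groth.Statements.S9946
import Groth.Agent.Lib.AlgSpace.Affine
import Groth.Agent.Lib.AlgSpace.QADescent

set_option autoImplicit false
universe u
open CategoryTheory CategoryTheory.Limits AlgebraicGeometry
open AlgSp

set_option backward.isDefEq.respectTransparency.types false

namespace Groth.Agent.S9946

/-- (3) ⇒ (1): if the base change of f along a surjective etale map from a scheme is quasi-affine, then
f is representable by schemes and quasi-affine. -/
theorem result {S : Scheme.{u}} {X Y : AlgSp.Space S} (f : X ⟶ Y)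
    (V : Over S) (p : (AlgSp.yon S).obj V ⟶ Y.obj) (hp : AlgSp.RepWith @Etale p) (hps : AlgSp.RepWith @Surjective p)
    {P : AlgSp.Sp S} (fst : P ⟶ X.obj) (snd : P ⟶ (AlgSp.yon S).obj V) (sq : IsPullback fst snd f.hom p)
    (h : AlgSp.IsQuasiAffineMor snd) : AlgSp.Representable f.hom ∧ AlgSp.IsQuasiAffineMor f.hom := by
  have key : AlgSp.IsQuasiAffineMor f.hom := fun Z hZ g => by
    have sqQ := hp.1.isPullback g
    have : Etale (hp.1.snd g).left := hp.2 g _ _ sqQ
    have : Surjective (hp.1.snd g).left := hps.2 g _ _ sqQ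
    obtain ⟨V', j, hV', hj, hjs⟩ :=
      AlgSpace.exists_affine_refinement (hp.1.snd g) (hp.1.snd g).left.isOpenMap
    obtain ⟨W, i, a, sqW, hW⟩ := h hV' ((AlgSp.yon S).map j ≫ hp.1.fst g)
    have : Etale (j ≫ hp.1.snd g).left := by rw [Over.comp_left]; infer_instance
    have sqW' : IsPullback (a ≫ fst) ((AlgSp.yon S).map i) f.hom
        ((AlgSp.yon S).map (j ≫ hp.1.snd g) ≫ g) := by
      have := sqW.paste_horiz sq
      rwa [Category.assoc, sqQ.w, ← Functor.map_comp_assoc] at this
    obtain ⟨A, i', a', -, hA, sqA, -⟩ :=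
      AlgSpace.exists_quasiAffine_of_cover f.hom g (j ≫ hp.1.snd g) i (a ≫ fst) sqW'
    exact ⟨A, i', a', sqA, hA⟩
  refine ⟨AlgSpace.representable_of_zariski f.hom fun T g t => ?_, key⟩
  obtain ⟨O, hO, ht, -⟩ :=
    exists_isAffineOpen_mem_and_subset (X := T.left) (x := t) (U := ⊤) trivial
  obtain ⟨W, i, fst', sq', -⟩ := key (Z := Over.mk (O.ι ≫ T.hom)) hO
    ((AlgSp.yon S).map (AlgSpace.overArrow O.ι) ≫ g)
  exact ⟨O, ht, W, i, fst', sq'⟩

end Groth.Agent.S9946
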