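import Groth.Statements.S9954
import Groth.Agent.Lib.FtPts14.Basic

set_option autoImplicit false
universe u
open CategoryTheory CategoryTheory.Limits AlgebraicGeometry
open AlgSp

set_option backward.isDefEq.respectTransparency.types false

namespace Groth.Agent.S9954

set_option backward.isDefEq.respectTransparency.types false

open AlgSp Groth.Agent.AlgSpace Groth.Agent.AlgSpDecent Groth.Agent.FtPts14

theorem main {S : Scheme.{u}} {X Y : Space S} (f : X ⟶ Y) (hf : LocP @LocallyOfFiniteType f.hom) :
    IsSurjectiveMor f.hom ↔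
      ∀ (k : Type u) [Field k] [IsAlgClosed k] (str : Spec (CommRingCat.of k) ⟶ S)
        (y : (yon S).obj (Over.mk str) ⟶ Y.obj),
        ∃ x : (yon S).obj (Over.mk str) ⟶ X.obj, x ≫ f.hom = y := by
  constructor
  · intro hs k _ _ str y
    let T : Over S := Over.mk str
    let v : ↥T.left := IsLocalRing.closedPoint k
    have sq := IsPullback.of_hasPullback f.hom y
    obtain ⟨A, r, hre, hrs⟩ := (isAlgSpace_pullback Y.property X.property (IsAlgSpace.yon_obj T) sq).atlas
    obtain ⟨c, hc⟩ := (yon S).map_surjective (r ≫ pullback.snd f.hom y)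
    have : LocallyOfFiniteType c.left :=
      locP_of_isPullback X.property Y.property (IsAlgSpace.yon_obj T) sq hf
        r (𝟙 _) c hre (repWith_id @Etale T) (by rw [Category.comp_id]; exact hc.symm)
    obtain ⟨x, hx⟩ := hs (Points.ofPt y v)
    obtain ⟨w, -, -⟩ := exists_point_lift sq x (Points.ofScheme T v)
      (by rw [← Points.ofPt_eq_map_ofScheme]; exact hx)
    obtain ⟨a, -⟩ := surjective_ofPt hrs w
    have : JacobsonSpace A.left := LocallyOfFiniteType.jacobsonSpace (Y := Spec (CommRingCat.of k)) c.left
    obtain ⟨z, -, hz⟩ := nonempty_inter_closedPoints (X := A.left) (Z := Set.univ) ⟨a, trivial⟩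
      isOpen_univ.isLocallyClosed
    have hm : pointOfClosedPoint c.left z hz ≫ c.left = 𝟙 _ := pointOfClosedPoint_comp c.left z hz
    let m : T ⟶ A := Over.homMk (pointOfClosedPoint c.left z hz) (by
      rw [← Over.w c, ← Category.assoc, hm]; exact Category.id_comp _)
    refine ⟨(yon S).map m ≫ r ≫ pullback.fst f.hom y, ?_⟩
    have : m ≫ c = 𝟙 T := Over.OverMorphism.ext hm
    rw [Category.assoc, Category.assoc, pullback.condition, ← Category.assoc r, ← hc,
      ← Functor.map_comp_assoc, this, (yon S).map_id, Category.id_comp]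
  · intro h y
    obtain ⟨V, φ, -, hφs⟩ := Y.property.atlas
    obtain ⟨v, rfl⟩ := surjective_ofPt hφs y
    let k := AlgebraicClosure (V.left.residueField v)
    let g : Spec (.of k) ⟶ V.left :=
      Spec.map (CommRingCat.ofHom (algebraMap (V.left.residueField v) k)) ≫ V.left.fromSpecResidueField v
    let gg : Over.mk (g ≫ V.hom) ⟶ V := Over.homMk g rfl
    obtain ⟨x, hx⟩ := h k (g ≫ V.hom) ((yon S).map gg ≫ φ)
    refine ⟨Points.ofPt x (IsLocalRing.closedPoint k), ?_⟩
    rw [Points.map_ofPt, hx, ofPt_map_comp]
    exact congrArg (Points.ofPt φ) (Scheme.fromSpecResidueField_apply v _)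


/-- A morphism locally of finite type is surjective if and only if it is surjective on k-valued points
for every algebraically closed field k over the base. -/
theorem result {S : Scheme.{u}} {X Y : AlgSp.Space S} (f : X ⟶ Y)
    (hf : AlgSp.LocP @LocallyOfFiniteType f.hom) :
    AlgSp.IsSurjectiveMor f.hom ↔
      ∀ (k : Type u) [Field k] [IsAlgClosed k] (str : Spec (CommRingCat.of k) ⟶ S)
        (y : (AlgSp.yon S).obj (Over.mk str) ⟶ Y.obj),
        ∃ x : (AlgSp.yon S).obj (Over.mk str) ⟶ X.obj, x ≫ f.hom = y := by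
  exact Groth.Agent.S9954.main f hf

end Groth.Agent.S9954
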