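import Groth.Statements.S9967
import Groth.Agent.Lib.SchImage14.Apps
import Groth.Agent.Lib.AlgSpace.QC

set_option autoImplicit false
universe u
open CategoryTheory CategoryTheory.Limits AlgebraicGeometry
open AlgSp

set_option backward.isDefEq.respectTransparency.types false

namespace Groth.Agent.S9967

open Groth.Agent.AlgSpace

variable {S : Scheme.{u}}

theorem isPullback_section {A B C : Sp S} {L : A ⟶ B} {π : B ⟶ C} [Mono π] {s : A ⟶ C} (h : L ≫ π = s) :
    IsPullback (𝟙 A) L s π := by
  subst h
  exact IsPullback.of_horiz_isIso_mono ⟨by simp⟩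

theorem main {X Y V : AlgSp.Space S} {Y' : AlgSp.Space S} (f : X.obj ⟶ Y.obj) (j : V.obj ⟶ Y.obj)
    (hj : RepWith @IsOpenImmersion j) (hjq : IsQuasiCompactMor j) (hf : IsSeparatedMor f)
    (s : V.obj ⟶ X.obj) (hs : s ≫ f = j) (c : Y'.obj ⟶ X.obj) (hc : IsSchImage s c)
    {P : Sp S} (fst : P ⟶ Y'.obj) (snd : P ⟶ V.obj) (sq : IsPullback fst snd (c ≫ f) j) :
    IsIso snd := by
  subst hs
  -- `X` over `V`
  have sq₀ := IsPullback.of_hasPullback (s ≫ f) f
  let π := pullback.snd (s ≫ f) f
  have hπ : RepWith @IsOpenImmersion π := repWith_of_isPullback sq₀ hj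
  have : Mono (s ≫ f) := mono_of_isImmersion
    (repWith_mono (Q := @IsImmersion) (fun _ _ g (hg : IsOpenImmersion g) => inferInstance) hj)
  have : Mono π := MorphismProperty.of_isPullback (P := MorphismProperty.monomorphisms _) sq₀
    (show Mono (s ≫ f) from inferInstance)
  let L : V.obj ⟶ pullback (s ≫ f) f := pullback.lift (𝟙 _) s (by simp)
  have sqL := isPullback_graph s f (L := L) (pullback.lift_fst _ _ _) (pullback.lift_snd _ _ _)
    (M := pullback.map (s ≫ f) f f f s (𝟙 _) (𝟙 _) (by simp) (by simp))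
    (pullback.lift_fst _ _ _) (by rw [pullback.lift_snd, Category.comp_id])
  have hL : RepWith @IsClosedImmersion L := repWith_of_isPullback sqL hf
  have hsq : IsQuasiCompactMor s := isQuasiCompactMor_of_comp V.property X.property Y.property hjq
    (repWith_mono (Q := @QuasiCompact) (fun _ _ g (hg : IsClosedImmersion g) => inferInstance) hf)
  have hXV : IsAlgSpace (pullback (s ≫ f) f) := isAlgSpace_baseChange V.property Y.property X.property sq₀
  have hπf : LocP @Flat π := locP_of_repWith X.property
    (repWith_mono (Q := @Flat) (fun _ _ g (hg : IsOpenImmersion g) => inferInstance) hπ)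
  have sqs : IsPullback (𝟙 V.obj) L s π := by
    have hLπ : L ≫ π = s := pullback.lift_snd _ _ _
    exact isPullback_section hLπ
  have sqc := IsPullback.of_hasPullback c π
  have him := SchImage14.isSchImage_flat_base_change hXV X.property V.property Y'.property hπf hsq hc sqs sqc
  obtain ⟨k, hk⟩ := him.2.2 L V.property hL ⟨𝟙 _, Category.id_comp L⟩
  obtain ⟨l, hl⟩ := him.2.1
  have := AlgSpDescent.mono_of_repWith_closedImmersion him.1
  have := AlgSpDescent.mono_of_repWith_closedImmersion hL
  have : IsIso k := ⟨l, by rw [← cancel_mono (pullback.snd c π), Category.assoc, hl, hk, Category.id_comp],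
    by rw [← cancel_mono L, Category.assoc, hk, hl, Category.id_comp]⟩
  have sqP := sqc.paste_vert sq₀.flip
  have e : (sq.isoIsPullback _ _ sqP).hom ≫ k = snd := by
    refine Eq.trans (congrArg ((sq.isoIsPullback _ _ sqP).hom ≫ ·) ?_) (sq.isoIsPullback_hom_snd _ _ sqP)
    refine Eq.trans ?_ (congrArg (· ≫ pullback.fst (s ≫ f) f) hk)
    simp only [L, Category.assoc, pullback.lift_fst, Category.comp_id]
  rw [← e]
  infer_instance

/-- For a separated f : X -> Y and a section s of f over a quasi-compact open V of Y, the scheme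
theoretic image of s maps isomorphically to Y over V. -/
theorem result {S : Scheme.{u}} {X Y V Y' : AlgSp.Space S} (f : X ⟶ Y) (j : V ⟶ Y)
    (hj : AlgSp.RepWith @IsOpenImmersion j.hom) (hjq : AlgSp.IsQuasiCompactMor j.hom) (hf : AlgSp.IsSeparatedMor f.hom)
    (s : V ⟶ X) (hs : s ≫ f = j) (c : Y' ⟶ X) (hc : AlgSp.IsSchImage s.hom c.hom)
    {P : AlgSp.Sp S} (fst : P ⟶ Y'.obj) (snd : P ⟶ V.obj) (sq : IsPullback fst snd (c ≫ f).hom j.hom) :
    IsIso snd := by
  exact Groth.Agent.S9967.main f.hom j.hom hj hjq hf s.hom (congrArg (·.hom) hs) c.hom hc fst snd sq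

end Groth.Agent.S9967
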