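import Groth.Statements.S9972
import Groth.Agent.Lib.AlgSpace.MorDiag
import Groth.Agent.Lib.AlgSpace.Base

set_option autoImplicit false
universe u
open CategoryTheory CategoryTheory.Limits AlgebraicGeometry
open AlgSp

set_option backward.isDefEq.respectTransparency.types false

namespace Groth.Agent.S9972

/-- Two morphisms to an algebraic space separated over B that agree on an open subspace whose scheme
theoretic closure is everything are equal. -/
theorem result {S : Scheme.{u}} {U X Y B : AlgSp.Space S} (q : Y ⟶ B)
    (hq : AlgSp.IsSeparatedMor q.hom) (f g : X ⟶ Y) (hfg : f ≫ q = g ≫ q) (j : U ⟶ X)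
    (hj : AlgSp.RepWith @IsOpenImmersion j.hom) (hcl : AlgSp.IsSchImage j.hom (𝟙 X.obj)) (heq : j ≫ f = j ≫ g) :
    f = g := by
  have sq := IsPullback.of_hasPullback (pullback.diagonal q.hom)
    (pullback.lift f.hom g.hom (congrArg (fun m => m.hom) hfg))
  let e := pullback.snd (pullback.diagonal q.hom) (pullback.lift f.hom g.hom (congrArg (fun m => m.hom) hfg))
  have he : AlgSp.RepWith @IsClosedImmersion e := Groth.Agent.AlgSpace.repWith_of_isPullback sq hq
  have hE : AlgSp.IsAlgSpace (pullback (pullback.diagonal q.hom)
      (pullback.lift f.hom g.hom (congrArg (fun m => m.hom) hfg))) :=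
    Groth.Agent.AlgSpace.isAlgSpace_of_representable he.1 X.property
  have hw : (j.hom ≫ f.hom) ≫ pullback.diagonal q.hom =
      j.hom ≫ pullback.lift f.hom g.hom (congrArg (fun m => m.hom) hfg) := by
    refine pullback.hom_ext ?_ ?_
    · rw [Category.assoc, pullback.diagonal_fst, Category.comp_id, Category.assoc, pullback.lift_fst]
    · rw [Category.assoc, pullback.diagonal_snd, Category.comp_id, Category.assoc, pullback.lift_snd]
      exact congrArg (fun m => m.hom) heq
  obtain ⟨k, hk⟩ := hcl.2.2 e hE he ⟨pullback.lift (j.hom ≫ f.hom) j.hom hw, pullback.lift_snd _ _ _⟩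
  have key : pullback.lift f.hom g.hom (congrArg (fun m => m.hom) hfg) =
      (k ≫ pullback.fst _ _) ≫ pullback.diagonal q.hom := by
    rw [Category.assoc, pullback.condition, reassoc_of% hk]
  have h1 := congrArg (· ≫ pullback.fst q.hom q.hom) key
  have h2 := congrArg (· ≫ pullback.snd q.hom q.hom) key
  simp only [Category.assoc, pullback.lift_fst, pullback.diagonal_fst, Category.comp_id] at h1
  simp only [Category.assoc, pullback.lift_snd, pullback.diagonal_snd, Category.comp_id] at h2
  ext1
  exact h1.trans h2.symm

end Groth.Agent.S9972
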