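import Groth.Statements.S9978
import Groth.Agent.Lib.AlgSpace.LocP
import Groth.Agent.S0566
import Groth.Agent.S9400

set_option autoImplicit false
universe u
open CategoryTheory CategoryTheory.Limits AlgebraicGeometry
open AlgSp

namespace Groth.Agent.S9978


open Groth.Agent in
theorem isNagata_affineOpens_of_lft {U V : Scheme.{u}} (h : U ⟶ V) [LocallyOfFiniteType h]
    (hV : ∀ W : V.Opens, IsAffineOpen W → CAlg.IsNagata ↑Γ(V, W)) (W : U.Opens) (hW : IsAffineOpen W) :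
    CAlg.IsNagata ↑Γ(U, W) := by
  classical
  have key : ∀ x : W, ∃ g : Γ(U, W), x.1 ∈ U.basicOpen g ∧ CAlg.IsNagata ↑Γ(U, U.basicOpen g) := by
    intro x
    obtain ⟨_, ⟨V₀, hV₀, rfl⟩, hxV, -⟩ :=
      V.isBasis_affineOpens.exists_subset_of_mem_open (Set.mem_univ (h x.1)) isOpen_univ
    obtain ⟨g, hg, hxg⟩ := hW.exists_basicOpen_le (V := h ⁻¹ᵁ V₀) ⟨x.1, hxV⟩ x.2
    refine ⟨g, hxg, ?_⟩
    letI := (h.appLE V₀ (U.basicOpen g) hg).hom.toAlgebra
    haveI : Algebra.FiniteType Γ(V, V₀) Γ(U, U.basicOpen g) :=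
      Scheme.Hom.finiteType_appLE h hV₀ (hW.basicOpen g) hg
    exact S0566.result Γ(V, V₀) (hV V₀ hV₀) Γ(U, U.basicOpen g)
  choose g hg hgN using key
  obtain ⟨s, hs⟩ := hW.isCompact.elim_finite_subcover (fun x : W => ((U.basicOpen (g x) : U.Opens) : Set U))
    (fun x => (U.basicOpen (g x)).isOpen) (fun x hx => Set.mem_iUnion.2 ⟨⟨x, hx⟩, hg ⟨x, hx⟩⟩)
  refine S9400.result Γ(U, W) (fun x : {x // x ∈ s} => g x.1) ?_ fun x => ?_
  · refine (hW.self_le_iSup_basicOpen_iff).1 fun z hz => ?_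
    obtain ⟨x, hx, hzx⟩ := Set.mem_iUnion₂.1 (hs hz)
    exact TopologicalSpace.Opens.mem_iSup.2 ⟨⟨g x, ⟨⟨x, hx⟩, rfl⟩⟩, hzx⟩
  · letI := (U.presheaf.map (homOfLE (U.basicOpen_le (g x.1))).op).hom.toAlgebra
    haveI := hW.isLocalization_basicOpen (g x.1)
    let e := IsLocalization.algEquiv (Submonoid.powers (g x.1)) Γ(U, U.basicOpen (g x.1))
      (Localization.Away (g x.1))
    letI := e.toRingEquiv.toRingHom.toAlgebra
    haveI : Algebra.FiniteType Γ(U, U.basicOpen (g x.1)) (Localization.Away (g x.1)) :=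
      RingHom.finiteType_algebraMap.1 (RingHom.FiniteType.of_surjective _ e.surjective)
    exact S0566.result _ (hgN x.1) _


/-- An algebraic space locally of finite type over a Nagata algebraic space is Nagata. -/
theorem result {S : Scheme.{u}} {X Y : AlgSp.Space S} (f : X ⟶ Y)
    (hf : AlgSp.LocP @LocallyOfFiniteType f.hom)
    (hY : AlgSp.EtaleLocally (fun U => ∀ V : U.Opens, IsAffineOpen V → CAlg.IsNagata ↑Γ(U, V)) Y.obj) :
    AlgSp.EtaleLocally (fun U => ∀ V : U.Opens, IsAffineOpen V → CAlg.IsNagata ↑Γ(U, V)) X.obj := by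
  obtain ⟨V, b, hbe, hbs, hP⟩ := hY
  obtain ⟨U, a, h, hae, has, w⟩ :=
    Groth.Agent.AlgSpace.exists_chart_over X.property Y.property f.hom b hbe hbs
  haveI : LocallyOfFiniteType h.left := hf a b h hae hbe w
  exact ⟨U, a, hae, has, isNagata_affineOpens_of_lft h.left hP⟩

end Groth.Agent.S9978
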