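import Groth.Statements.S9980
import Groth.Agent.Lib.Residual14.Main
import Groth.Agent.Lib.FtPts14.Basic
-- import your own Groth.Agent.* helpers here

set_option autoImplicit false
universe u
open CategoryTheory CategoryTheory.Limits AlgebraicGeometry
open AlgSp

namespace Groth.Agent.S9980

open CategoryTheory.Limits Topology Opposite Groth.Agent.AlgSpace Groth.Agent.AlgSpDecent Groth.Agent.Residual14 Groth.Agent.FtPts14

set_option backward.isDefEq.respectTransparency.types false
set_option linter.style.haveILetI false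

/-- A closed point of an étale chart gives a monomorphism, locally of finite type, from the quotient of
the spectrum of a field by an étale equivalence relation. -/
theorem exists_mono_of_chart {S : Scheme.{u}} (X : Space S) {U : Over S} {a : (yon S).obj U ⟶ X.obj}
    (hae : RepWith @Etale a) (u : U.left) (hu : IsClosed ({u} : Set U.left)) :
    ∃ (Z : Space S) (f : Z ⟶ X) (k : Type u) (_ : Field k) (str : Spec (CommRingCat.of k) ⟶ S)
      (z : (yon S).obj (Over.mk str) ⟶ Z.obj), RepWith @Etale z ∧ RepWith @Surjective z ∧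
      LocP @LocallyOfFiniteType f.hom ∧ Mono f.hom ∧
      Points.ofPt (z ≫ f.hom) (IsLocalRing.closedPoint k) = Points.ofPt a u := by
  let K : Over S := Over.mk (U.left.fromSpecResidueField u ≫ U.hom)
  let j : K ⟶ U := Over.homMk (U.left.fromSpecResidueField u) rfl
  have : Mono j := (Over.forget S).mono_of_mono_map (inferInstanceAs (Mono (U.left.fromSpecResidueField u)))
  let ξ : (yon S).obj K ⟶ X.obj := (yon S).map j ≫ a
  let π := Sheaf.toImage ξ
  let ι := Sheaf.imageι ξ
  have hπι : π ≫ ι = ξ := Sheaf.toImage_ι _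
  have sqT := hae.1.isPullback' ξ
  let sn := hae.1.snd ξ
  have : Etale sn.left := hae.2 ξ _ _ (hae.1.isPullback ξ)
  let pr₁ := pullback.fst (hae.1.fst' ξ) j
  let pr₂ := pullback.snd (hae.1.fst' ξ) j
  have sqR : IsPullback ((yon S).map pr₂) ((yon S).map (pr₁ ≫ sn)) ξ ξ := by
    rw [Functor.map_comp]
    exact ((IsPullback.of_hasPullback (hae.1.fst' ξ) j).map (yon S)).flip.paste_vert sqT
  have hs : Etale (pr₁ ≫ sn).left := by
    have : Mono ((yon S).map pr₁) :=
      ((IsPullback.of_hasPullback (hae.1.fst' ξ) j).map (yon S)).flip.mono_snd_of_mono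
    have := mono_left pr₁
    have := isOpenImmersion_of_mono_etale_field (K := U.left.residueField u) pr₁.left sn.left
    rw [Over.comp_left]; infer_instance
  have ht : Etale pr₂.left := by
    obtain ⟨e, he⟩ := (yon S).map_surjective (sqR.flip.isoIsPullback _ _ sqR).hom
    have h2 : e ≫ (pr₁ ≫ sn) = pr₂ := (yon S).map_injective (by
      rw [Functor.map_comp, he]; exact sqR.flip.isoIsPullback_hom_snd _ _ sqR)
    have : IsIso ((yon S).map e) := he ▸ inferInstance
    have : IsIso e := isIso_of_reflects_iso e (yon S)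
    have : IsIso e.left := inferInstanceAs (IsIso ((Over.forget S).map e))
    rw [← h2, Over.comp_left]; infer_instance
  have sqπ : IsPullback ((yon S).map pr₂) ((yon S).map (pr₁ ≫ sn)) π π := by
    have hsq : IsPullback ((yon S).map pr₂) ((yon S).map (pr₁ ≫ sn)) (π ≫ ι) (π ≫ ι) := hπι.symm ▸ sqR
    refine IsPullback.of_isLimit' ⟨(cancel_mono ι).1 (by simpa only [Category.assoc] using hsq.w)⟩
      (PullbackCone.IsLimit.mk _ (fun c => hsq.lift c.fst c.snd (by rw [reassoc_of% c.condition]))
        (fun c => hsq.lift_fst _ _ _) (fun c => hsq.lift_snd _ _ _)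
        (fun c m h₁ h₂ => hsq.hom_ext (h₁.trans (hsq.lift_fst _ _ _).symm)
          (h₂.trans (hsq.lift_snd _ _ _).symm)))
  have : Sheaf.IsLocallySurjective π := inferInstance
  obtain ⟨halg, hπe, hπs⟩ := isAlgSpace_of_etale_kernelPair sqπ ht hs
  have : IsClosedImmersion (U.left.fromSpecResidueField u) :=
    isClosed_singleton_iff_isClosedImmersion.mp hu
  refine ⟨⟨Sheaf.image ξ, halg⟩, ObjectProperty.homMk ι, U.left.residueField u, inferInstance, _, π,
    hπe, hπs, locP_of_source_cover X.property hπe hπs ?_, inferInstanceAs (Mono ι), ?_⟩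
  · show LocP @LocallyOfFiniteType (π ≫ ι)
    rw [hπι]
    exact locP_comp (IsAlgSpace.yon_obj _) (IsAlgSpace.yon_obj _) X.property
      (locP_of_repWith (IsAlgSpace.yon_obj _) ((repWith_yon_map_iff _ j).2
        (inferInstanceAs (LocallyOfFiniteType (U.left.fromSpecResidueField u)))))
      (locP_lft_of_repWith_etale hae)
  · show Points.ofPt (π ≫ ι) _ = _
    rw [hπι, ofPt_map_comp]
    exact congrArg (Points.ofPt a) (U.left.fromSpecResidueField_apply u _)

/-- Characterizations of finite type points via one-point algebraic spaces locally of finite type over X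
and via monomorphisms from quotients of spectra of fields. -/
theorem result {S : Scheme.{u}} (X : AlgSp.Space S) (x : AlgSp.Points X.obj) :
    ((∃ (k : Type u) (_ : Field k) (str : Spec (CommRingCat.of k) ⟶ S) (ξ : (AlgSp.yon S).obj (Over.mk str) ⟶ X.obj),
        AlgSp.LocP @LocallyOfFiniteType ξ ∧ AlgSp.Points.ofPt ξ (IsLocalRing.closedPoint k) = x) ↔
      ∃ (Z : AlgSp.Space S) (f : Z ⟶ X), Nonempty (Unique (AlgSp.Points Z.obj)) ∧
        AlgSp.LocP @LocallyOfFiniteType f.hom ∧ Set.range (AlgSp.Points.map f.hom) = {x}) ∧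
    ((∃ (k : Type u) (_ : Field k) (str : Spec (CommRingCat.of k) ⟶ S) (ξ : (AlgSp.yon S).obj (Over.mk str) ⟶ X.obj),
        AlgSp.LocP @LocallyOfFiniteType ξ ∧ AlgSp.Points.ofPt ξ (IsLocalRing.closedPoint k) = x) ↔
      ∃ (Z : AlgSp.Space S) (f : Z ⟶ X) (k : Type u) (_ : Field k) (str : Spec (CommRingCat.of k) ⟶ S)
        (z : (AlgSp.yon S).obj (Over.mk str) ⟶ Z.obj), AlgSp.RepWith @Etale z ∧ AlgSp.RepWith @Surjective z ∧
        AlgSp.LocP @LocallyOfFiniteType f.hom ∧ Mono f.hom ∧
        AlgSp.Points.ofPt (z ≫ f.hom) (IsLocalRing.closedPoint k) = x) := by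
  have h₂₁ : (∃ (Z : Space S) (f : Z ⟶ X) (k : Type u) (_ : Field k) (str : Spec (CommRingCat.of k) ⟶ S)
        (z : (yon S).obj (Over.mk str) ⟶ Z.obj), RepWith @Etale z ∧ RepWith @Surjective z ∧
        LocP @LocallyOfFiniteType f.hom ∧ Mono f.hom ∧
        Points.ofPt (z ≫ f.hom) (IsLocalRing.closedPoint k) = x) → FtPt x := by
    rintro ⟨Z, f, k, _, str, z, hze, -, hf, -, hx⟩
    exact ⟨k, inferInstance, str, z ≫ f.hom, locP_comp (IsAlgSpace.yon_obj _) Z.property X.property
      (locP_lft_of_repWith_etale hze) hf, hx⟩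
  have h₁₂ : FtPt x → ∃ (Z : Space S) (f : Z ⟶ X) (k : Type u) (_ : Field k) (str : Spec (CommRingCat.of k) ⟶ S)
        (z : (yon S).obj (Over.mk str) ⟶ Z.obj), RepWith @Etale z ∧ RepWith @Surjective z ∧
        LocP @LocallyOfFiniteType f.hom ∧ Mono f.hom ∧
        Points.ofPt (z ≫ f.hom) (IsLocalRing.closedPoint k) = x := by
    intro h
    obtain ⟨U, a, u, hae, hu, rfl⟩ := (ftPt_iff_chart X.property x).1 h
    exact exists_mono_of_chart X hae u hu
  refine ⟨⟨fun h => ?_, ?_⟩, h₁₂, h₂₁⟩
  · obtain ⟨Z, f, k, _, str, z, -, hzs, hf, -, hx⟩ := h₁₂ h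
    have := subsingleton_points (surjective_map_of_repWith hzs)
    refine ⟨Z, f, ⟨⟨⟨Points.ofPt z (IsLocalRing.closedPoint k)⟩, fun y => Subsingleton.elim _ _⟩⟩, hf, ?_⟩
    ext y
    constructor
    · rintro ⟨w, rfl⟩
      rw [Subsingleton.elim w (Points.ofPt z (IsLocalRing.closedPoint k)), Points.map_ofPt, hx]
      rfl
    · intro hy
      exact ⟨Points.ofPt z (IsLocalRing.closedPoint k),
        ((Points.map_ofPt z f.hom _).trans hx).trans (Set.mem_singleton_iff.1 hy).symm⟩
  · rintro ⟨Z, f, ⟨hu⟩, hf, hr⟩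
    obtain ⟨y, -, k, _, str, ξ, hξ, rfl⟩ := exists_ftPt_mem Z.property isOpen_univ.isLocallyClosed
      ⟨hu.default, trivial⟩
    refine ⟨k, inferInstance, str, ξ ≫ f.hom,
      locP_comp (IsAlgSpace.yon_obj _) Z.property X.property hξ hf, ?_⟩
    rw [← Points.map_ofPt]
    exact Set.mem_singleton_iff.1 (hr ▸ Set.mem_range_self _)

end Groth.Agent.S9980
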