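import Groth.Statements.S9981
import Groth.Agent.Lib.AlgSpace.Points
import Groth.Agent.Lib.AlgSpace.Space

set_option autoImplicit false
universe u
open CategoryTheory CategoryTheory.Limits AlgebraicGeometry
open AlgSp

set_option backward.isDefEq.respectTransparency.types false

namespace Groth.Agent.S9981

/-- The inverse image of an etale locally constructible subset under a morphism of algebraic spaces is
etale locally constructible. -/
theorem result {S : Scheme.{u}} {X Y : AlgSp.Space S} (f : X ⟶ Y)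
    (E : Set (AlgSp.Points Y.obj))
    (hE : (∀ (U : Over S) (φ : (AlgSp.yon S).obj U ⟶ Y.obj), AlgSp.RepWith @Etale φ →
        Topology.IsLocallyConstructible (AlgSp.Points.ofPt φ ⁻¹' E))) :
    (∀ (U : Over S) (φ : (AlgSp.yon S).obj U ⟶ X.obj), AlgSp.RepWith @Etale φ →
        Topology.IsLocallyConstructible (AlgSp.Points.ofPt φ ⁻¹' (AlgSp.Points.map f.hom ⁻¹' E))) := by
  intro U φ hφ
  obtain ⟨V, b, hbe, hbs⟩ := Y.property.atlas
  have sq := hbe.1.isPullback (φ ≫ f.hom)
  have : Etale (hbe.1.snd (φ ≫ f.hom)).left := hbe.2 _ _ _ sq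
  have : Surjective (hbe.1.snd (φ ≫ f.hom)).left := hbs.2 _ _ _ sq
  refine Groth.Agent.AlgSpace.isLocallyConstructible_of_preimage (hbe.1.snd (φ ≫ f.hom)).left ?_
  obtain ⟨k, hk⟩ := (AlgSp.yon S).map_surjective (hbe.1.fst (φ ≫ f.hom))
  have e : (hbe.1.snd (φ ≫ f.hom)).left ⁻¹' (AlgSp.Points.ofPt φ ⁻¹' (AlgSp.Points.map f.hom ⁻¹' E)) =
      k.left ⁻¹' (AlgSp.Points.ofPt b ⁻¹' E) := by
    ext w
    simp only [Set.mem_preimage, AlgSp.Points.map_ofPt]
    rw [← Groth.Agent.AlgSpDecent.ofPt_map_comp, ← sq.w, ← hk, Groth.Agent.AlgSpDecent.ofPt_map_comp]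
  rw [e]
  exact Groth.Agent.AlgSpace.isLocallyConstructible_preimage k.left (hE V b hbe)

end Groth.Agent.S9981
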