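import Groth.Statements.S9982
import Groth.Agent.Lib.AlgSpace.LocP
import Groth.Agent.Lib.AlgSpace.Points
import Groth.Agent.Lib.AlgSpace.PointsBC
import Groth.Agent.Lib.AlgSpDecent.Basic

set_option autoImplicit false
universe u
open CategoryTheory CategoryTheory.Limits AlgebraicGeometry
open AlgSp

set_option backward.isDefEq.respectTransparency.types false

namespace Groth.Agent.S9982

set_option backward.isDefEq.respectTransparency.types false

open AlgSp Groth.Agent.AlgSpace Groth.Agent.AlgSpDecent

theorem main {S : Scheme.{u}} {X Y : Space S} (f : X ⟶ Y)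
    (hq : IsQuasiCompactMor f.hom) (hfp : LocP @LocallyOfFinitePresentation f.hom)
    (E : Set (Points X.obj))
    (hE : ∀ (U : Over S) (φ : (yon S).obj U ⟶ X.obj), RepWith @Etale φ →
        Topology.IsLocallyConstructible (Points.ofPt φ ⁻¹' E)) :
    ∀ (U : Over S) (φ : (yon S).obj U ⟶ Y.obj), RepWith @Etale φ →
        Topology.IsLocallyConstructible (Points.ofPt φ ⁻¹' (Points.map f.hom '' E)) := by
  intro U₀ φ₀ hφ₀
  refine Topology.IsLocallyConstructible.of_isOpenCover (iSup_affineOpens_eq_top U₀.left) fun W => ?_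
  let U : Over S := Over.mk (W.1.ι ≫ U₀.hom)
  let o : U ⟶ U₀ := Over.homMk W.1.ι rfl
  let φ := (yon S).map o ≫ φ₀
  have hφ : RepWith @Etale φ := repWith_comp ((repWith_yon_map_iff _ _).2 (inferInstanceAs (Etale W.1.ι))) hφ₀
  suffices h : Topology.IsLocallyConstructible (Points.ofPt φ ⁻¹' (Points.map f.hom '' E)) by
    have he : Points.ofPt φ ⁻¹' (Points.map f.hom '' E) =
        o.left ⁻¹' (Points.ofPt φ₀ ⁻¹' (Points.map f.hom '' E)) := by
      ext u
      exact iff_of_eq (congrArg (· ∈ Points.map f.hom '' E) (ofPt_map_comp o φ₀ u))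
    rw [he] at h
    exact h
  have : IsAffine U.left := W.2
  have sq := IsPullback.of_hasPullback f.hom φ
  obtain ⟨A, r, hA, hre, hrs⟩ := exists_affine_chart (hq (IsAlgSpace.yon_obj U)
    ⟨U, 𝟙 _, repWith_id @Etale U, repWith_id @Surjective U, inferInstanceAs (CompactSpace U.left)⟩ φ _ _ sq)
  obtain ⟨α, hα⟩ := (yon S).map_surjective (r ≫ pullback.snd f.hom φ)
  have ha : RepWith @Etale (r ≫ pullback.fst f.hom φ) := repWith_comp hre (repWith_of_isPullback sq.flip hφ)
  have : LocallyOfFinitePresentation α.left := hfp _ φ α ha hφ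
    (by rw [hα, Category.assoc, Category.assoc, pullback.condition])
  have : QuasiCompact α.left := inferInstance
  convert α.left.isLocallyConstructible_image (hE A _ ha) using 1
  ext u
  constructor
  · rintro ⟨x, hx, hxu⟩
    obtain ⟨w, hw₁, hw₂⟩ := exists_point_lift sq x (Points.ofScheme U u)
      (by rw [← Points.ofPt_eq_map_ofScheme]; exact hxu)
    obtain ⟨a, rfl⟩ := surjective_ofPt hrs w
    refine ⟨a, ?_, ?_⟩
    · show Points.ofPt _ a ∈ E
      rwa [← Points.map_ofPt, hw₁]
    · rw [Points.map_ofPt, ← hα, ofPt_map_eq] at hw₂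
      exact (Points.schemeEquiv U).injective hw₂
  · rintro ⟨a, ha', rfl⟩
    refine ⟨_, ha', ?_⟩
    rw [Points.map_ofPt, Category.assoc, pullback.condition, ← Category.assoc, ← hα, ofPt_map_comp]


/-- A quasi-compact morphism locally of finite presentation between algebraic spaces maps etale locally
constructible sets to etale locally constructible sets. -/
theorem result {S : Scheme.{u}} {X Y : AlgSp.Space S} (f : X ⟶ Y)
    (hq : AlgSp.IsQuasiCompactMor f.hom) (hfp : AlgSp.LocP @LocallyOfFinitePresentation f.hom)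
    (E : Set (AlgSp.Points X.obj))
    (hE : (∀ (U : Over S) (φ : (AlgSp.yon S).obj U ⟶ X.obj), AlgSp.RepWith @Etale φ →
        Topology.IsLocallyConstructible (AlgSp.Points.ofPt φ ⁻¹' E))) :
    (∀ (U : Over S) (φ : (AlgSp.yon S).obj U ⟶ Y.obj), AlgSp.RepWith @Etale φ →
        Topology.IsLocallyConstructible (AlgSp.Points.ofPt φ ⁻¹' (AlgSp.Points.map f.hom '' E))) := by
  exact Groth.Agent.S9982.main f hq hfp E hE

end Groth.Agent.S9982
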