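import Groth.Statements.S9986
import Groth.Agent.Lib.SchImage14.DenseSpace
import Groth.Agent.Lib.SchImage14.IdealEt

set_option autoImplicit false
universe u
open CategoryTheory CategoryTheory.Limits AlgebraicGeometry
open AlgSp

set_option backward.isDefEq.respectTransparency.types false

namespace Groth.Agent.S9986

set_option backward.isDefEq.respectTransparency false

open AlgSp Groth.Agent.AlgSpace Groth.Agent.SchImage14 Groth.Agent.AlgSpDecent

theorem app_injective_iff {S : Scheme.{u}} {F G : Sp S} {j : F ⟶ G} (hj : Representable j) (E : EtOver G) :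
    Function.Injective ((bcRingHom hj).hom.app (Opposite.op E)) ↔
      Function.Injective (hj.snd E.obj.hom).left.appTop := by
  constructor
  · intro h a b hab
    exact congrArg ULift.down (@h ⟨a⟩ ⟨b⟩ (ULift.ext _ _ hab))
  · intro h a b hab
    exact ULift.ext _ _ (h (congrArg ULift.down hab))

theorem exists_open {S : Scheme.{u}} {F G : Sp S} {j : F ⟶ G} (hj : RepWith @IsOpenImmersion j)
    {V : Over S} (φ : (yon S).obj V ⟶ G) :
    ∃ (W : V.left.Opens) (fst : (yon S).obj (Over.mk (W.ι ≫ V.hom)) ⟶ F),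
      IsPullback fst ((yon S).map (Over.homMk W.ι rfl : Over.mk (W.ι ≫ V.hom) ⟶ V)) j φ ∧
      (Function.Injective (hj.1.snd φ).left.appTop ↔
        Function.Injective (V.left.presheaf.map (homOfLE (inf_le_left : ⊤ ⊓ W ≤ ⊤)).op)) := by
  have : IsOpenImmersion (hj.1.snd φ).left := hj.2 φ _ _ (hj.1.isPullback φ)
  let k := (hj.1.snd φ).left
  let W := k.opensRange
  let e : hj.1.pullback φ ≅ Over.mk (W.ι ≫ V.hom) := Over.isoMk k.isoOpensRange (by
    change k.isoOpensRange.hom ≫ W.ι ≫ V.hom = _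
    rw [Scheme.Hom.isoOpensRange_hom_ι_assoc]
    exact Over.w (hj.1.snd φ))
  let o : Over.mk (W.ι ≫ V.hom) ⟶ V := Over.homMk W.ι rfl
  have he : e.hom ≫ o = hj.1.snd φ := Over.OverMorphism.ext k.isoOpensRange_hom_ι
  refine ⟨W, (yon S).map e.inv ≫ hj.1.fst φ, (hj.1.isPullback φ).of_iso ((yon S).mapIso e) (Iso.refl _)
    (Iso.refl _) (Iso.refl _) (by simp [← Functor.map_comp_assoc]) ?_ (by simp) (by simp), ?_⟩
  · change (yon S).map (hj.1.snd φ) ≫ 𝟙 _ = (yon S).map e.hom ≫ (yon S).map o
    rw [Category.comp_id, ← Functor.map_comp, he]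
  · have h : k.appTop = V.left.presheaf.map (homOfLE (inf_le_left : ⊤ ⊓ W ≤ ⊤)).op ≫
        V.left.presheaf.map (eqToHom (by simp)).op ≫ W.topIso.inv ≫ k.isoOpensRange.hom.appTop := by
      conv_lhs => rw [← k.isoOpensRange_hom_ι, Scheme.Hom.comp_appTop]
      rw [← Category.assoc (V.left.presheaf.map _), ← Category.assoc, ← Functor.map_comp]
      congr 1
      simp [Scheme.Hom.appTop, ← Functor.map_comp]
    change Function.Injective k.appTop ↔ _
    rw [h]
    exact ((ConcreteCategory.bijective_of_isIso (V.left.presheaf.map (eqToHom (_ : (k.opensRange : V.left.Opens) = ⊤ ⊓ W)).op ≫ W.topIso.inv ≫ k.isoOpensRange.hom.appTop)).1.of_comp_iff _)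

theorem mono_iff {S : Scheme.{u}} {F G : Sp S} {j : F ⟶ G} (hj : Representable j) :
    Mono (bcRingHom hj) ↔ ∀ E : EtOver G, Function.Injective (hj.snd E.obj.hom).left.appTop := by
  rw [← (sheafToPresheaf _ _).mono_map_iff_mono, NatTrans.mono_iff_mono_app]
  refine ⟨fun h E => (app_injective_iff hj E).1 ?_, fun h ⟨E⟩ => ?_⟩
  · exact (ConcreteCategory.mono_iff_injective_of_preservesPullback _).1 (h (Opposite.op E))
  · exact (ConcreteCategory.mono_iff_injective_of_preservesPullback _).2 ((app_injective_iff hj E).2 (h E))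

theorem main {S : Scheme.{u}} {U X : Space S} (j : U ⟶ X)
    (hj : RepWith @IsOpenImmersion j.hom) :
    IsSchDense j.hom ↔ Mono (bcRingHom hj.1) := by
  rw [mono_iff]
  constructor
  · intro hd E
    obtain ⟨W, fst, sq, hiff⟩ := exists_open hj E.obj.hom
    exact hiff.2 ((isSchematicallyDense_chart hd E.property sq) ⊤)
  · intro h
    obtain ⟨V, φ, hφe, hφs⟩ := X.property.atlas
    obtain ⟨W, fst, sq, -⟩ := exists_open hj φ
    refine ⟨hj, V, φ, W, fst, hφe, hφs, sq, fun V' => ?_⟩
    obtain ⟨W', fst', sq', hiff⟩ := exists_open hj (chartOpen φ hφe V').obj.hom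
    have hinj := hiff.1 (h (chartOpen φ hφe V'))
    let o : Over.mk (V'.ι ≫ V.hom) ⟶ V := Over.homMk V'.ι rfl
    have hW : W' = V'.ι ⁻¹ᵁ W := by
      ext z
      show z ∈ W' ↔ V'.ι z ∈ W
      rw [mem_iff_ofPt_mem sq', mem_iff_ofPt_mem sq]
      exact iff_of_eq (congrArg (· ∈ _) (ofPt_map_comp o φ z))
    subst hW
    intro a b hab
    refine (ConcreteCategory.bijective_of_isIso (V'.topIso.inv)).1 (hinj ?_)
    change V'.toScheme.presheaf.map _ _ = V'.toScheme.presheaf.map _ _
    simp only [Scheme.Opens.topIso_inv, Scheme.Opens.toScheme_presheaf_map, ← ConcreteCategory.comp_apply,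
      ← Functor.map_comp]
    have hle : V'.ι ''ᵁ (⊤ ⊓ V'.ι ⁻¹ᵁ W) ≤ V' ⊓ W := by
      rintro x ⟨z, hz, rfl⟩
      exact ⟨z.2, hz.2⟩
    have := congrArg (V.left.presheaf.map (homOfLE hle).op) hab
    simp only [← ConcreteCategory.comp_apply, ← Functor.map_comp] at this
    exact this


/-- For an open immersion j : U -> X of algebraic spaces, U is scheme theoretically dense in X exactly
when the comparison map from O_X to j_* O_U on the small etale site of X is a monomorphism of
sheaves of rings. -/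
theorem result {S : Scheme.{u}} {U X : AlgSp.Space S} (j : U ⟶ X)
    (hj : AlgSp.RepWith @IsOpenImmersion j.hom) :
    AlgSp.IsSchDense j.hom ↔ Mono (AlgSp.bcRingHom hj.1) := by
  exact Groth.Agent.S9986.main j hj

end Groth.Agent.S9986
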