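import Groth.Statements.S9987
import Groth.Agent.Lib.SchImage14.IdealEt

set_option autoImplicit false
universe u
open CategoryTheory CategoryTheory.Limits AlgebraicGeometry Opposite
open AlgSp

set_option backward.isDefEq.respectTransparency.types false

namespace Groth.Agent.S9987

set_option backward.isDefEq.respectTransparency false

open AlgSp Groth.Agent.AlgSpace Groth.Agent.SchImage14 Groth.Agent.AlgSpDecent

theorem app_surjective_of_isAffine {S : Scheme.{u}} {Z X : Sp S} {i : Z ⟶ X}
    (hi : RepWith @IsClosedImmersion i) (E : EtOver X) [IsAffine E.obj.left.left] :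
    Function.Surjective ((bcRingHom hi.1).hom.app (Opposite.op E)) := by
  have := isClosedImmersion_snd hi E.obj.hom
  intro s
  obtain ⟨t, ht⟩ := ((isClosedImmersion_iff_isAffineHom (f := (hi.1.snd E.obj.hom).left)).1 inferInstance).2
    ⊤ (isAffineOpen_top _) s.down
  exact ⟨⟨t⟩, ULift.ext _ _ ht⟩

theorem main {S : Scheme.{u}} {Z X : Space S} (i : Z ⟶ X) (hi : RepWith @IsClosedImmersion i.hom) :
    Presheaf.IsLocallySurjective (etTop X.obj) (bcRingHom hi.1).hom := by
  refine ⟨fun {E} s => ?_⟩
  choose U hU hvU _ using fun v : E.obj.left.left =>
    exists_isAffineOpen_mem_and_subset (X := E.obj.left.left) (x := v) (U := ⊤) trivial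
  let g : ∀ v, chartOpen E.obj.hom E.property (U v) ⟶ E := fun v =>
    EtOver.homMk (Over.homMk (U v).ι rfl) rfl
  refine GrothendieckTopology.superset_covering _ ?_ (ofArrows_mem_etTop _ g fun v => ⟨v, ⟨v, hvU v⟩, rfl⟩)
  refine (Sieve.generate_le_iff _ _).2 fun _ _ ⟨v⟩ => ?_
  have : IsAffine (chartOpen E.obj.hom E.property (U v)).obj.left.left := hU v
  exact app_surjective_of_isAffine hi _ _


/-- For a closed immersion i : Z ⟶ X of algebraic spaces over S (representable, every base change to a
scheme a closed immersion), the comparison map O_X ⟶ i_* O_Z of sheaves of rings on the small etale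
site of X is locally surjective. (The published statement also asserts that i_* O_Z is a
quasi-coherent O_X-module and that the kernel of O_X ⟶ i_* O_Z is a quasi-coherent sheaf of ideals;
those two assertions are the closed-immersion cases of the general facts that direct images along
quasi-compact quasi-separated morphisms preserve quasi-coherence and that the kernel ideal of a
quasi-compact morphism is quasi-coherent, a closed immersion being quasi-compact and separated, and
only the surjectivity is stated here.) -/
theorem result {S : Scheme.{u}} {Z X : AlgSp.Space S} (i : Z ⟶ X)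
    (hi : AlgSp.RepWith @IsClosedImmersion i.hom) :
    Presheaf.IsLocallySurjective (AlgSp.etTop X.obj) (AlgSp.bcRingHom hi.1).hom := by
  exact Groth.Agent.S9987.main i hi

end Groth.Agent.S9987
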