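import Groth.Statements.S9989
import Groth.Agent.Lib.SchImage14.IdealEt

set_option autoImplicit false
universe u
open CategoryTheory CategoryTheory.Limits AlgebraicGeometry Opposite
open AlgSp

set_option backward.isDefEq.respectTransparency.types false

namespace Groth.Agent.S9989

/-- For closed subspaces i : Z ⟶ X and i' : Z' ⟶ X of an algebraic space cut out by sheaves of ideals I
and I', one has I ≤ I' exactly when i' factors through i. -/
theorem result {S : Scheme.{u}} {X Z Z' : AlgSp.Space S} (i : Z ⟶ X) (i' : Z' ⟶ X)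
    (I I' : AlgSp.IdealEt X.obj) (h : AlgSp.IsCutOutBy I i.hom) (h' : AlgSp.IsCutOutBy I' i'.hom) :
    I ≤ I' ↔ ∃ k : Z' ⟶ Z, k ≫ i = i' := by
  obtain ⟨hi, rfl⟩ := h
  obtain ⟨hi', rfl⟩ := h'
  constructor
  · intro hle
    obtain ⟨k, hk⟩ := Groth.Agent.SchImage14.exists_factor_of_idealOfRep_le X.property Z'.property hi'.1 hi hle
    exact ⟨ObjectProperty.homMk k, ObjectProperty.hom_ext _ hk⟩
  · rintro ⟨k, rfl⟩
    exact Groth.Agent.SchImage14.le_idealOfRep_of_factor hi'.1 hi ⟨k.hom, rfl⟩

end Groth.Agent.S9989
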