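import Groth.Statements.S9991
import Groth.Agent.Lib.QcohEt15.ClosedImm

set_option autoImplicit false
universe u
open CategoryTheory CategoryTheory.Limits AlgebraicGeometry Opposite
open AlgSp
open scoped Groth.Agent.QcohEt15

namespace Groth.Agent.S9991

/-- For a closed immersion i : Z ⟶ X of algebraic spaces over S cut out by the sheaf of ideals I, the
direct image i_* sends every O_Z-module to an O_X-module annihilated by I, and every quasi-coherent
O_X-module annihilated by I is isomorphic to i_* G for some quasi-coherent O_Z-module G. (The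
published statement also records that i_* carries quasi-coherent modules to quasi-coherent modules
and is exact and fully faithful on them; the first is the closed-immersion case of the fact that
direct images along quasi-compact quasi-separated morphisms preserve quasi-coherence, full
faithfulness follows from the adjunction map i^* i_* G ⟶ G being an isomorphism, and none of these
clauses is restated here.) -/
theorem result {S : Scheme.{u}} {Z X : AlgSp.Space S} (i : Z ⟶ X)
    (hi : AlgSp.RepWith @IsClosedImmersion i.hom) (I : AlgSp.IdealEt X.obj) (hZ : AlgSp.IsCutOutBy I i.hom) :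
    (∀ (G : AlgSp.ModEt Z.obj) (E : AlgSp.EtOver X.obj) (hE : IsAffine E.obj.left.left)
        (s : AlgSp.sectModEt ((AlgSp.pushModEt hi.1).obj G) E), I.ideal E hE ≤ AlgSp.annSect s) ∧
      ∀ F : AlgSp.ModEt X.obj, F.IsQuasicoherent →
        (∀ (E : AlgSp.EtOver X.obj) (hE : IsAffine E.obj.left.left) (s : AlgSp.sectModEt F E),
            I.ideal E hE ≤ AlgSp.annSect s) →
          ∃ G : AlgSp.ModEt Z.obj, G.IsQuasicoherent ∧ Nonempty ((AlgSp.pushModEt hi.1).obj G ≅ F) := by
  obtain ⟨hi', rfl⟩ := hZ
  refine ⟨fun G E hE s a ha => ?_, fun F hF hann => ?_⟩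
  · haveI := hE
    have ha' : Groth.Agent.QcohEt15.bγ hi.1 E a = 0 := ha
    refine (AlgSp.mem_annSect_iff _ _).2 ?_
    show a • s = (0 : AlgSp.sectModEt ((AlgSp.pushModEt hi.1).obj G) E)
    exact (Groth.Agent.QcohEt15.pushOut_smul hi.1 a s).trans (by rw [ha', zero_smul]; rfl)
  · haveI := hF
    have hM : ∀ (E : AlgSp.EtOver X.obj) [IsAffine E.obj.left.left], Groth.Agent.QcohEt15.Good F E :=
      fun E _ => Groth.Agent.QcohEt15.good_of_isQuasicoherent E
    refine ⟨Groth.Agent.QcohEt15.Pull.pullQ i.hom F hM, Groth.Agent.QcohEt15.Pull.isQuasicoherent_pullQ hi.1 hM, ?_⟩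
    haveI := Groth.Agent.QcohEt15.isIso_of_bijective_affine (Groth.Agent.QcohEt15.Pull.unitQ hi.1 hM)
      fun E hE => Groth.Agent.QcohEt15.bijective_unit hi hM (fun E' hE' a ha s =>
        (AlgSp.mem_annSect_iff s a).1 (hann E' hE' s (show a ∈ RingHom.ker (Groth.Agent.QcohEt15.bγ hi.1 E') from ha))) E
    exact ⟨(asIso (Groth.Agent.QcohEt15.Pull.unitQ hi.1 hM)).symm⟩

end Groth.Agent.S9991
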