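import Groth.Statements.S9996
-- import your own Groth.Agent.* helpers here
import Groth.Agent.Lib.SchUnion25.Space

set_option autoImplicit false
universe u
open CategoryTheory CategoryTheory.Limits AlgebraicGeometry Opposite
open AlgSp

set_option maxHeartbeats 800000
namespace Groth.Agent.S9996

/-- For closed subspaces Y, Z of an algebraic space X with scheme theoretic union W (cut out by the
intersection of the two ideal sheaves) and scheme theoretic intersection V (cut out by their sum),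
the inclusions Y ⟶ W and Z ⟶ W are closed immersions and the square V ⟶ Y, V ⟶ Z, Y ⟶ W, Z ⟶ W is
cocartesian among algebraic spaces over S (W = Y ⨿_V Z). (The published statement also gives the
short exact sequence 0 → O_W → O_Y × O_Z → O_V → 0; that clause is not stated here.) -/
theorem result {S : Scheme.{u}} {X Y Z W V : AlgSp.Space S} (iY : Y ⟶ X) (iZ : Z ⟶ X)
    (w : W ⟶ X) (v : V ⟶ X) (I J K : AlgSp.IdealEt X.obj) (hI : I.IsQCoh) (hJ : J.IsQCoh)
    (hK : ∀ (E : AlgSp.EtOver X.obj) (hE : IsAffine E.obj.left.left), K.ideal E hE = I.ideal E hE ⊓ J.ideal E hE)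
    (hY : AlgSp.IsCutOutBy I iY.hom) (hZ : AlgSp.IsCutOutBy J iZ.hom) (hW : AlgSp.IsCutOutBy K w.hom)
    (hV : AlgSp.IsCutOutBy (I ⊔ J) v.hom) (a : Y ⟶ W) (b : Z ⟶ W) (c : V ⟶ Y) (d : V ⟶ Z)
    (ha : a ≫ w = iY) (hb : b ≫ w = iZ) (hc : c ≫ iY = v) (hd : d ≫ iZ = v) :
    AlgSp.RepWith @IsClosedImmersion a.hom ∧ AlgSp.RepWith @IsClosedImmersion b.hom ∧ IsPushout c d a b := by
  obtain ⟨hiY, eY⟩ := hY
  obtain ⟨hiZ, eZ⟩ := hZ
  obtain ⟨hiW, eW⟩ := hW
  obtain ⟨hiV, eV⟩ := hV
  have ha' : a.hom ≫ w.hom = iY.hom := congrArg (fun m => m.hom) ha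
  have hb' : b.hom ≫ w.hom = iZ.hom := congrArg (fun m => m.hom) hb
  have hc' : c.hom ≫ iY.hom = v.hom := congrArg (fun m => m.hom) hc
  have hd' : d.hom ≫ iZ.hom = v.hom := congrArg (fun m => m.hom) hd
  have := Groth.Agent.AlgSpDescent.mono_of_repWith_closedImmersion hiW
  have hcomm : c ≫ a = d ≫ b := ObjectProperty.hom_ext _ (by
    rw [← cancel_mono w.hom]
    simp only [ObjectProperty.FullSubcategory.comp_hom, Category.assoc, ha', hb', hc', hd'])
  have sqa : IsPullback (𝟙 Y.obj) a.hom iY.hom w.hom :=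
    IsPullback.of_isLimit' ⟨by rw [Category.id_comp, ha']⟩ (PullbackCone.IsLimit.mk _ (fun s => s.fst)
      (fun s => Category.comp_id _) (fun s => by rw [← cancel_mono w.hom, Category.assoc, ha', s.condition])
      (fun s m h₁ _ => by rwa [Category.comp_id] at h₁))
  have sqb : IsPullback (𝟙 Z.obj) b.hom iZ.hom w.hom :=
    IsPullback.of_isLimit' ⟨by rw [Category.id_comp, hb']⟩ (PullbackCone.IsLimit.mk _ (fun s => s.fst)
      (fun s => Category.comp_id _) (fun s => by rw [← cancel_mono w.hom, Category.assoc, hb', s.condition])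
      (fun s m h₁ _ => by rwa [Category.comp_id] at h₁))
  refine ⟨MorphismProperty.of_isPullback sqa hiY, MorphismProperty.of_isPullback sqb hiZ, ?_⟩
  obtain ⟨U₀, p₀, hpe, hps⟩ := X.property.atlas
  let 𝒱 := U₀.left.affineCover
  let U : 𝒱.I₀ → Over S := fun k => Over.mk (𝒱.f k ≫ U₀.hom)
  let q : ∀ k, (AlgSp.yon S).obj (U k) ⟶ X.obj := fun k =>
    (AlgSp.yon S).map (Over.homMk (𝒱.f k) rfl : U k ⟶ U₀) ≫ p₀
  have hqe : ∀ k, RepWith @Etale (q k) := fun k =>
    Groth.Agent.AlgSpace.repWith_comp ((repWith_yon_map_iff _ _).2 (show Etale (𝒱.f k) from inferInstance)) hpe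
  have : ∀ k, IsAffine (U k).left := fun k => inferInstanceAs (IsAffine (U₀.left.affineCover.X k))
  have hcov : ∀ (F : Space S) (i : F.obj ⟶ X.obj) (hi : RepWith @IsClosedImmersion i) (x : Points F.obj),
      ∃ k t, Points.ofPt (hi.1.fst (q k)) t = x := fun F i hi x => Groth.Agent.SchUnion25.exists_pt hps (fun k => (Over.homMk (𝒱.f k) rfl : U k ⟶ U₀)) (fun s => ⟨_, 𝒱.covers s⟩) hi x
  have hfe : ∀ (F : Space S) (i : F.obj ⟶ X.obj) (hi : RepWith @IsClosedImmersion i) (k),
      RepWith @Etale (hi.1.fst (q k)) := fun F i hi k =>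
    MorphismProperty.of_isPullback (hi.1.isPullback (q k)).flip (hqe k)
  -- maps out of a closed subspace are determined on the charts
  have ext : ∀ (F : Space S) (i : F.obj ⟶ X.obj) (hi : RepWith @IsClosedImmersion i) (Q : Space S)
      (G G' : F.obj ⟶ Q.obj), (∀ k, hi.1.fst (q k) ≫ G = hi.1.fst (q k) ≫ G') → G = G' :=
    fun F i hi Q G G' h =>
      (Groth.Agent.DistSq15.existsUnique_of_charts F.property _ (fun k => hi.1.fst (q k))
        (hfe F i hi) (hcov F i hi) (fun k => hi.1.fst (q k) ≫ G') (fun k l A x y e => by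
          rw [reassoc_of% e])).unique h fun _ => rfl
  have glue : ∀ (Q : Space S) (f : Y ⟶ Q) (g : Z ⟶ Q), c ≫ f = d ≫ g →
      ∃! G : W ⟶ Q, a ≫ G = f ∧ b ≫ G = g := by
    intro Q f g hfg
    have key := fun (T : Over S) (_ : IsAffine T.left) (y : (AlgSp.yon S).obj T ⟶ X.obj) (hy : RepWith @Etale y) =>
      Groth.Agent.SchUnion25.existsUnique_good iY iZ w v a b c d hiY hiZ hiW hiV hK eY eZ eW eV ha' hb' hc' hd' T y hy f g hfg
    choose h hh hu using fun k => key (U k) (this k) (q k) (hqe k)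
    obtain ⟨G, hG, -⟩ := Groth.Agent.DistSq15.existsUnique_of_charts W.property _
      (fun k => hiW.1.fst (q k)) (hfe W w.hom hiW) (hcov W w.hom hiW) h (fun i j A x y e =>
        Groth.Agent.SchUnion25.good_compat w a b hiW f g key (hqe i) (hqe j) (hh i) (hh j) x y e)
    refine ⟨ObjectProperty.homMk G, ⟨ObjectProperty.hom_ext _ ?_, ObjectProperty.hom_ext _ ?_⟩,
      fun G' ⟨hG₁, hG₂⟩ => ObjectProperty.hom_ext _ (ext W w.hom hiW Q _ _ fun k => ?_)⟩
    · refine ext Y iY.hom hiY Q _ _ fun k => ?_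
      let m := hiW.1.lift (hiY.1.fst (q k) ≫ a.hom) (hiY.1.snd (q k)) (by rw [Category.assoc, ha', hiY.1.w])
      change hiY.1.fst (q k) ≫ a.hom ≫ G = _
      rw [← Category.assoc, ← hiW.1.lift_fst (hiY.1.fst (q k) ≫ a.hom) (hiY.1.snd (q k))
        (by rw [Category.assoc, ha', hiY.1.w]), Category.assoc, hG k]
      exact (hh k).1 _ m _ (hiW.1.lift_fst _ _ _).symm
    · refine ext Z iZ.hom hiZ Q _ _ fun k => ?_
      let m := hiW.1.lift (hiZ.1.fst (q k) ≫ b.hom) (hiZ.1.snd (q k)) (by rw [Category.assoc, hb', hiZ.1.w])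
      change hiZ.1.fst (q k) ≫ b.hom ≫ G = _
      rw [← Category.assoc, ← hiW.1.lift_fst (hiZ.1.fst (q k) ≫ b.hom) (hiZ.1.snd (q k))
        (by rw [Category.assoc, hb', hiZ.1.w]), Category.assoc, hG k]
      exact (hh k).2 _ m _ (hiW.1.lift_fst _ _ _).symm
    · change hiW.1.fst (q k) ≫ G'.hom = hiW.1.fst (q k) ≫ G
      rw [hG k]
      refine hu k _ ⟨fun A m l el => ?_, fun A m l el => ?_⟩
      · rw [← Category.assoc, ← el, Category.assoc, ← hG₁]; rfl
      · rw [← Category.assoc, ← el, Category.assoc, ← hG₂]; rfl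
  exact IsPushout.of_isColimit' ⟨hcomm⟩ (PushoutCocone.IsColimit.mk _
    (fun s => (glue s.pt s.inl s.inr s.condition).choose)
    (fun s => (glue s.pt s.inl s.inr s.condition).choose_spec.1.1)
    (fun s => (glue s.pt s.inl s.inr s.condition).choose_spec.1.2)
    (fun s m h₁ h₂ => (glue s.pt s.inl s.inr s.condition).choose_spec.2 m ⟨h₁, h₂⟩))

end Groth.Agent.S9996
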